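import Mathlib

set_option autoImplicit false

namespace Cfsg.Agent.Lib.H26

/-- Sylow's theorem inside a subgroup `H`: a `p`-subgroup `Q ≤ H` is conjugate by an element of `H`
into any Sylow `p`-subgroup `P` of the whole group that lies in `H`. -/
theorem exists_conj_mem_sylow_of_le {G : Type*} [Group G] [Finite G] {p : ℕ} [Fact p.Prime]
    (P : Sylow p G) (H Q : Subgroup G) (hPH : (P : Subgroup G) ≤ H) (hQH : Q ≤ H)
    (hQ : IsPGroup p Q) : ∃ h ∈ H, ∀ x ∈ Q, h * x * h⁻¹ ∈ P := by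
  have hQ' : IsPGroup p (Q.subgroupOf H) := hQ.comap_subtype
  obtain ⟨R, hR⟩ := hQ'.exists_le_sylow
  obtain ⟨h, hh⟩ := MulAction.exists_smul_eq H R (P.subtype hPH)
  refine ⟨h, h.2, fun x hx => ?_⟩
  have hxR : (⟨x, hQH hx⟩ : H) ∈ R := hR (Subgroup.mem_subgroupOf.mpr hx)
  have h1 : h * ⟨x, hQH hx⟩ * h⁻¹ ∈ (h • R : Sylow p H) := by
    rw [← SetLike.mem_coe, Sylow.coe_smul]
    exact ⟨_, hxR, rfl⟩
  rw [hh] at h1
  have h2 : (h * ⟨x, hQH hx⟩ * h⁻¹ : H) ∈ (P : Subgroup G).subgroupOf H := by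
    rw [← Sylow.coe_subtype]; exact h1
  exact Subgroup.mem_subgroupOf.mp h2

/-- Any `p`-subgroup is conjugate into a given Sylow `p`-subgroup. -/
theorem exists_conj_mem_sylow {G : Type*} [Group G] [Finite G] {p : ℕ} [Fact p.Prime]
    (P : Sylow p G) (Q : Subgroup G) (hQ : IsPGroup p Q) : ∃ g : G, ∀ x ∈ Q, g * x * g⁻¹ ∈ P := by
  obtain ⟨h, -, hh⟩ := exists_conj_mem_sylow_of_le P ⊤ Q le_top le_top hQ
  exact ⟨h, hh⟩

end Cfsg.Agent.Lib.H26
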