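import Mathlib
import Cfsg.Prelude.Def_LocalEven
import Cfsg.Agent.Lib.H26.Basic

set_option autoImplicit false

namespace Cfsg.Agent.Lib.H26

universe u v w

/-- `H` is involved in `G` iff some subgroup of `G` maps onto `H`. -/
theorem involves_iff {H : Type u} [Group H] {G : Type v} [Group G] :
    Cfsg.Involves H G ↔ ∃ (K : Subgroup G) (f : K →* H), Function.Surjective f := by
  constructor
  · rintro ⟨K, R, hn, ⟨e⟩⟩
    refine ⟨K, e.toMonoidHom.comp (QuotientGroup.mk' (R.subgroupOf K)), ?_⟩
    exact e.surjective.comp (QuotientGroup.mk'_surjective _)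
  · rintro ⟨K, f, hf⟩
    have hR : (f.ker.map K.subtype).subgroupOf K = f.ker :=
      Subgroup.comap_map_eq_self_of_injective K.subtype_injective f.ker
    have hn : ((f.ker.map K.subtype).subgroupOf K).Normal := by
      rw [hR]; infer_instance
    exact ⟨K, f.ker.map K.subtype, hn, ⟨(QuotientGroup.quotientMulEquivOfEq hR).trans
      (QuotientGroup.quotientKerEquivOfSurjective f hf)⟩⟩

/-- Pull a section back along a homomorphism whose range contains the top of the section. -/
theorem involves_of_le_range {H : Type u} [Group H] {G₁ : Type v} [Group G₁] {G₂ : Type w} [Group G₂]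
    (ψ : G₁ →* G₂) (K₂ : Subgroup G₂) (hK : K₂ ≤ ψ.range) (f : K₂ →* H)
    (hf : Function.Surjective f) : Cfsg.Involves H G₁ := by
  rw [involves_iff]
  refine ⟨K₂.comap ψ, f.comp (ψ.subgroupComap K₂), ?_⟩
  intro h
  obtain ⟨y, rfl⟩ := hf h
  obtain ⟨x, hx⟩ := hK y.2
  exact ⟨⟨x, by rw [Subgroup.mem_comap, hx]; exact y.2⟩, congrArg f (Subtype.ext hx)⟩

/-- Push a section forward along an injective homomorphism. -/
theorem involves_of_injective {H : Type u} [Group H] {G₁ : Type v} [Group G₁] {G₂ : Type w} [Group G₂]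
    (ψ : G₁ →* G₂) (hψ : Function.Injective ψ) (h : Cfsg.Involves H G₁) : Cfsg.Involves H G₂ := by
  rw [involves_iff] at h ⊢
  obtain ⟨K, f, hf⟩ := h
  refine ⟨K.map ψ, f.comp (K.equivMapOfInjective ψ hψ).symm.toMonoidHom, ?_⟩
  exact hf.comp (K.equivMapOfInjective ψ hψ).symm.surjective

/-- A subgroup of an involved group is involved. -/
theorem involves_subgroup {H : Type u} [Group H] {G : Type v} [Group G] (Q : Subgroup H)
    (h : Cfsg.Involves H G) : Cfsg.Involves Q G := by
  rw [involves_iff] at h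
  obtain ⟨K, f, hf⟩ := h
  have h1 : Cfsg.Involves Q K := by
    rw [involves_iff]
    exact ⟨Q.comap f, f.subgroupComap Q, f.subgroupComap_surjective_of_surjective Q hf⟩
  exact involves_of_injective K.subtype K.subtype_injective h1

/-- A `p`-group involved in a finite group `L` is involved in any group mapping onto a Sylow
`p`-subgroup of `L`. -/
theorem involves_of_sylow_range {Q : Type u} [Group Q] {L : Type v} [Group L] [Finite L]
    {S₀ : Type w} [Group S₀] {p : ℕ} [Fact p.Prime] (hQ : IsPGroup p Q) (ι : S₀ →* L)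
    (T : Sylow p L) (hT : (T : Subgroup L) = ι.range) (h : Cfsg.Involves Q L) :
    Cfsg.Involves Q S₀ := by
  rw [involves_iff] at h
  obtain ⟨K, f, hf⟩ := h
  -- a Sylow p-subgroup of K maps onto Q
  obtain ⟨P₁⟩ : Nonempty (Sylow p K) := inferInstance
  have hP₁ : (P₁ : Subgroup K).map f = ⊤ := by
    have h1 : ((P₁.mapSurjective hf : Sylow p Q) : Subgroup Q) = (P₁ : Subgroup K).map f :=
      Sylow.coe_mapSurjective hf P₁
    have h2 := (P₁.mapSurjective hf).is_maximal' (Q := ⊤)
      (fun x => by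
        obtain ⟨k, hk⟩ := hQ x.1
        exact ⟨k, Subtype.ext hk⟩) le_top
    rw [← h1]; exact h2.symm
  -- the image J of P₁ in L
  set J : Subgroup L := (P₁ : Subgroup K).map K.subtype with hJ
  have hJp : IsPGroup p J := P₁.2.map _
  obtain ⟨g, hg⟩ := exists_conj_mem_sylow T J hJp
  -- ψ x = g⁻¹ ι(x) g
  let ψ : S₀ →* L := (MulAut.conj g⁻¹).toMonoidHom.comp ι
  have hJψ : J ≤ ψ.range := by
    intro y hy
    have : g * y * g⁻¹ ∈ ι.range := by rw [← hT]; exact hg y hy
    obtain ⟨x, hx⟩ := this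
    refine ⟨x, ?_⟩
    show g⁻¹ * ι x * g⁻¹⁻¹ = y
    rw [hx]; group
  -- J ≃ P₁ → Q
  let e : (P₁ : Subgroup K) ≃* J := (P₁ : Subgroup K).equivMapOfInjective K.subtype K.subtype_injective
  let f' : J →* Q := (f.comp (P₁ : Subgroup K).subtype).comp e.symm.toMonoidHom
  have hf' : Function.Surjective f' := by
    intro q
    have : q ∈ (P₁ : Subgroup K).map f := by rw [hP₁]; trivial
    obtain ⟨x, hx, rfl⟩ := this
    refine ⟨e ⟨x, hx⟩, ?_⟩
    show f ((e.symm (e ⟨x, hx⟩) : (P₁ : Subgroup K)) : K) = f x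
    rw [e.symm_apply_apply]
  exact involves_of_le_range ψ J hJψ f' hf'

end Cfsg.Agent.Lib.H26
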