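import Mathlib
import Cfsg.Prelude.Def_Local
import Cfsg.Agent.Lib.H10.PSolvable2

set_option autoImplicit false
set_option linter.unusedSectionVars false
set_option linter.unusedVariables false

/-!
`p`-solvability along isomorphisms, surjections, and extensions by `p`-groups (helper26).
-/

namespace Cfsg.Agent.Lib.H26

open Cfsg

variable {G : Type*} {H : Type*} [Group G] [Group H]

theorem isPSolvable_of_mulEquiv {p : ℕ} (e : G ≃* H) (hG : IsPSolvable p G) : IsPSolvable p H := by
  obtain ⟨n, K, h0, hlast, hmono, hnorm, hstep⟩ := hG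
  refine ⟨n, fun i => (K i).map e.toMonoidHom, ?_, ?_, ?_, ?_, ?_⟩
  · simp only [h0, Subgroup.map_bot]
  · simp only [hlast]
    exact Subgroup.map_top_of_surjective _ e.surjective
  · intro i j hij
    exact Subgroup.map_mono (hmono hij)
  · intro i
    exact (hnorm i).map _ e.surjective
  · intro i
    have := hstep i
    rwa [Subgroup.relIndex_map_map_of_injective _ _ e.injective]

theorem isPSolvable_of_surjective {p : ℕ} [Fact p.Prime] (f : G →* H) (hf : Function.Surjective f)
    (hG : IsPSolvable p G) : IsPSolvable p H :=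
  isPSolvable_of_mulEquiv (QuotientGroup.quotientKerEquivOfSurjective f hf)
    (Cfsg.Agent.Lib.H10.isPSolvable_quotient hG f.ker)

/-- An extension of a `p`-solvable group by a finite `p`-group is `p`-solvable. -/
theorem isPSolvable_of_ker_isPGroup {p : ℕ} [Fact p.Prime] (f : G →* H)
    (hf : Function.Surjective f) [Finite f.ker] (hker : IsPGroup p f.ker)
    (hH : IsPSolvable p H) : IsPSolvable p G := by
  obtain ⟨n, K, h0, hlast, hmono, hnorm, hstep⟩ := hH
  refine ⟨n + 1, Fin.cons ⊥ (fun i => (K i).comap f), ?_, ?_, ?_, ?_, ?_⟩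
  · rfl
  · have : Fin.last (n + 1) = (Fin.last n).succ := rfl
    rw [this, Fin.cons_succ, hlast, Subgroup.comap_top]
  · rw [Fin.monotone_iff_le_succ]
    intro i
    rw [Fin.cons_succ]
    refine Fin.cases ?_ (fun j => ?_) i
    · show (⊥ : Subgroup G) ≤ _
      exact bot_le
    · have : (j.succ).castSucc = (j.castSucc).succ := rfl
      rw [this, Fin.cons_succ]
      exact Subgroup.comap_mono (hmono (Fin.castSucc_le_succ j))
  · intro i
    refine Fin.cases ?_ (fun j => ?_) i
    · show (⊥ : Subgroup G).Normal
      infer_instance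
    · rw [Fin.cons_succ]
      haveI := hnorm j
      infer_instance
  · intro i
    rw [Fin.cons_succ]
    refine Fin.cases ?_ (fun j => ?_) i
    · left
      show ∃ m : ℕ, (⊥ : Subgroup G).relIndex ((K 0).comap f) = p ^ m
      rw [Subgroup.relIndex_bot_left, h0]
      have : ((⊥ : Subgroup H).comap f) = f.ker := rfl
      rw [this]
      exact hker.exists_card_eq
    · have : (j.succ).castSucc = (j.castSucc).succ := rfl
      rw [this, Fin.cons_succ, Subgroup.relIndex_comap,
        Subgroup.map_comap_eq_self_of_surjective hf]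
      exact hstep j

end Cfsg.Agent.Lib.H26
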