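import Cfsg.Agent.Lib.H5.Glaub.Defs
import Cfsg.Agent.Lib.H5.Glaub.NcDist
import Cfsg.Agent.Lib.H14.GlaubCEN
import Cfsg.Agent.Lib.H16.GlaubTQ
/-!
Chain calculus of S4359 (Glauberman 1969) with `p = 2`, `t = 6`, `q = 4` (for S4385, kill of the
case `(q,t) = (4,6)`): the subgroup `I[j-4, j-1]` is normal in `⟨P_(j-1), P_j⟩`.
-/
set_option autoImplicit false
open scoped Pointwise
open Cfsg.Agent.Lib.H5.Glaub Cfsg.Agent.Lib.H5.Glaub.Setup
namespace Cfsg.Agent.Lib.H26.Glaub

variable {G : Type*} [Group G] [Finite G]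

/-- elements of `X_k` are involutions when `p = 2` -/
theorem X_sq (S : Setup G) (t : ℕ) (hU : S.Uni t) (hp2 : S.p = 2) {k : ℤ} {u : G}
    (hu : u ∈ S.X t k) : u * u = 1 := by
  have hc := card_X S t hU k
  rw [hp2] at hc
  have h1 : (⟨u, hu⟩ : S.X t k) ^ 2 = 1 := by
    rw [← hc]
    exact pow_card_eq_one'
  have h2 := congrArg Subtype.val h1
  simpa [pow_two] using h2

/-- `X_k = {1, u}` when `p = 2` and `u ≠ 1` -/
theorem X_eq_or (S : Setup G) (t : ℕ) (hU : S.Uni t) (hp2 : S.p = 2) {k : ℤ} {u u' : G}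
    (hu : u ∈ S.X t k) (hu' : u' ∈ S.X t k) (h1 : u ≠ 1) : u' = 1 ∨ u' = u := by
  have hc := card_X S t hU k
  rw [hp2] at hc
  obtain ⟨y, -, hy⟩ := (Nat.card_eq_two_iff' (1 : S.X t k)).1 hc
  by_cases h : u' = 1
  · left; exact h
  · right
    have e1 : (⟨u', hu'⟩ : S.X t k) = y := hy _ (fun hh => h (congrArg Subtype.val hh))
    have e2 : (⟨u, hu⟩ : S.X t k) = y := hy _ (fun hh => h1 (congrArg Subtype.val hh))
    exact congrArg Subtype.val (e1.trans e2.symm)

/-- a commutative interval subgroup has exponent two when `p = 2` -/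
theorem Iv_sq (S : Setup G) (t : ℕ) (hU : S.Uni t) (hp2 : S.p = 2) {a b : ℤ}
    (hcomm : Comm (S.Iv t a b) (S.Iv t a b)) : ∀ g ∈ S.Iv t a b, g * g = 1 := by
  let Kr : Subgroup G :=
    { carrier := {g | g ∈ S.Iv t a b ∧ g * g = 1}
      one_mem' := ⟨Subgroup.one_mem _, by simp⟩
      mul_mem' := by
        rintro x y ⟨hx, hx2⟩ ⟨hy, hy2⟩
        refine ⟨Subgroup.mul_mem _ hx hy, ?_⟩
        calc x * y * (x * y) = x * (y * x) * y := by simp only [mul_assoc]
          _ = x * (x * y) * y := by rw [hcomm y hy x hx]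
          _ = (x * x) * (y * y) := by simp only [mul_assoc]
          _ = 1 := by rw [hx2, hy2, one_mul]
      inv_mem' := by
        rintro x ⟨hx, hx2⟩
        refine ⟨Subgroup.inv_mem _ hx, ?_⟩
        rw [← mul_inv_rev, hx2, inv_one] }
  have hle : S.Iv t a b ≤ Kr := by
    rw [S.Iv_le_iff]
    intro k h1 h2 g hg
    exact ⟨S.X_le_Iv t h1 h2 hg, X_sq S t hU hp2 hg⟩
  intro g hg
  exact (hle hg).2

/-- key step: `[X_k, X_(k+5)] ≤ Z(I[k,k+5]) = I[k+2,k+3]` -/
theorem comm5_mem (S : Setup G) (hp2 : S.p = 2) (hU : S.Uni 6) (hI : S.Ivl 6) (hD : S.Dist 6 4)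
    (hC : S.Cen 6 4) (k : ℤ) {u v : G} (hu : u ∈ S.X 6 k) (hv : v ∈ S.X 6 (k + 5)) :
    u * v * u⁻¹ * v⁻¹ ∈ S.Iv 6 (k + 2) (k + 3) := by
  by_cases hu1 : u = 1
  · subst hu1; simp
  by_cases hv1 : v = 1
  · subst hv1; simp
  have huu := X_sq S 6 hU hp2 hu
  have hvv := X_sq S 6 hU hp2 hv
  have hui : u⁻¹ = u := inv_eq_of_mul_eq_one_right huu
  have hvi : v⁻¹ = v := inv_eq_of_mul_eq_one_right hvv
  -- membership in `V = I[k+1,k+4]`
  have huA : u ∈ S.Iv 6 k (k + 4) := S.X_le_Iv 6 (by omega) (by omega) hu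
  have huB : u ∈ S.Iv 6 k (k + 5) := S.X_le_Iv 6 (by omega) (by omega) hu
  have hvA : v ∈ S.Iv 6 (k + 1) (k + 5) := S.X_le_Iv 6 (by omega) (by omega) hv
  have hvB : v ∈ S.Iv 6 k (k + 5) := S.X_le_Iv 6 (by omega) (by omega) hv
  have hw1 : u * v * u⁻¹ * v⁻¹ ∈ S.Iv 6 k (k + 4) := by
    have e : u * v * u⁻¹ * v⁻¹ = u * (v * u⁻¹ * v⁻¹) := by group
    rw [e]
    refine Subgroup.mul_mem _ huA ?_
    exact Cfsg.Agent.Lib.H16.Glaub.Iv_conj_left S hI (b := k + 5) (b' := k + 4) (by ring)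
      (by omega) (by omega) hvB (Subgroup.inv_mem _ huA)
  have hw2 : u * v * u⁻¹ * v⁻¹ ∈ S.Iv 6 (k + 1) (k + 5) := by
    refine Subgroup.mul_mem _ ?_ (Subgroup.inv_mem _ hvA)
    exact Cfsg.Agent.Lib.H16.Glaub.Iv_conj_right S hI (a := k) (a' := k + 1) (by ring)
      (by omega) (by omega) huB hvA
  have hwV : u * v * u⁻¹ * v⁻¹ ∈ S.Iv 6 (k + 1) (k + 4) := by
    have h := Subgroup.mem_inf.2 ⟨hw1, hw2⟩
    rw [hI.inf k (k + 5) _ _ _ _ (by omega) (by omega) (by omega) (by omega) (by omega)] at h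
    exact S.Iv_mono 6 (by omega) (by omega) h
  -- `V` is commutative of exponent two
  have hVc : Comm (S.Iv 6 (k + 1) (k + 4)) (S.Iv 6 (k + 1) (k + 4)) := by
    apply Cfsg.Agent.Lib.H14.Glaub.comm_Iv_Iv
    intro i j h1 h2 h3 h4
    apply hD.comm
    rw [abs_lt]
    constructor <;> push_cast <;> omega
  have hww := Iv_sq S 6 hU hp2 hVc _ hwV
  rw [hui, hvi] at hww hwV ⊢
  -- `w = u v u v` commutes with `u` and `v`
  have h4 : v * u * v * u = u * v * u * v := by
    have : (u * v * u * v)⁻¹ = u * v * u * v := inv_eq_of_mul_eq_one_right hww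
    calc v * u * v * u = (u⁻¹ * v⁻¹ * u⁻¹ * v⁻¹)⁻¹ := by group
      _ = (u * v * u * v)⁻¹ := by rw [hui, hvi]
      _ = u * v * u * v := this
  have hcu : u * (u * v * u * v) = (u * v * u * v) * u := by
    calc u * (u * v * u * v) = (u * u) * v * u * v := by simp only [mul_assoc]
      _ = v * u * v := by rw [huu, one_mul]
      _ = v * u * v * (u * u) := by rw [huu, mul_one]
      _ = (v * u * v * u) * u := by simp only [mul_assoc]
      _ = (u * v * u * v) * u := by rw [h4]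
  have hcv : v * (u * v * u * v) = (u * v * u * v) * v := by
    calc v * (u * v * u * v) = (v * u * v * u) * v := by simp only [mul_assoc]
      _ = (u * v * u * v) * v := by rw [h4]
  -- `w` is central in `I[k,k+5]`
  have hcen : u * v * u * v ∈ zc (S.Iv 6 k (k + 5)) := by
    rw [mem_zc]
    refine ⟨S.Iv_mono 6 (by omega) (by omega) hwV, ?_⟩
    have hle : S.Iv 6 k (k + 5) ≤ Subgroup.centralizer ({u * v * u * v} : Set G) := by
      rw [S.Iv_le_iff]
      intro j h1 h2 g hg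
      rw [Subgroup.mem_centralizer_iff]
      intro x hx
      rw [Set.mem_singleton_iff] at hx
      subst hx
      by_cases hj1 : j = k
      · subst hj1
        rcases X_eq_or S 6 hU hp2 hu hg hu1 with h | h
        · rw [h]; simp
        · rw [h]; exact hcu.symm
      by_cases hj2 : j = k + 5
      · subst hj2
        rcases X_eq_or S 6 hU hp2 hv hg hv1 with h | h
        · rw [h]; simp
        · rw [h]; exact hcv.symm
      · have hgV : g ∈ S.Iv 6 (k + 1) (k + 4) := S.X_le_Iv 6 (by omega) (by omega) hg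
        exact hVc _ hwV _ hgV
    intro y hy
    have := Subgroup.mem_centralizer_iff.1 (hle hy) (u * v * u * v) (Set.mem_singleton _)
    exact this.symm
  obtain ⟨hZ, -⟩ := hC k (k + 5) (by push_cast; omega) (by push_cast; omega)
  rw [hZ] at hcen
  exact S.Iv_mono 6 (by push_cast; omega) (by push_cast; omega) hcen

/-- `I[j-4, j-1]` is normalized by `⟨P_(j-1), P_j⟩` -/
theorem d_normal (S : Setup G) (hp2 : S.p = 2) (hU : S.Uni 6) (hI : S.Ivl 6) (hD : S.Dist 6 4)
    (hC : S.Cen 6 4) (j : ℤ) :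
    ∀ g ∈ S.Pj (j - 1) ⊔ S.Pj j, MulAut.conj g • S.Iv 6 (j - 4) (j - 1) = S.Iv 6 (j - 4) (j - 1) := by
  -- the normalizer contains every `X_i`, `j-6 ≤ i ≤ j`
  have hZ : zc (S.Iv 6 (j - 5) (j - 1)) = S.Iv 6 (j - 4) (j - 2) := by
    obtain ⟨hZ, -⟩ := hC (j - 5) (j - 1) (by push_cast; omega) (by push_cast; omega)
    rw [hZ]
    congr 1 <;> push_cast <;> ring
  have key : ∀ i : ℤ, j - 6 ≤ i → i ≤ j → ∀ g ∈ S.X 6 i, ∀ a ∈ S.Iv 6 (j - 4) (j - 1),
      g * a * g⁻¹ ∈ S.Iv 6 (j - 4) (j - 1) := by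
    intro i hi1 hi2 g hg
    by_cases hi3 : i = j
    · -- `X_j ≤ I[j-4,j]` normalizes `I[j-4,j-1]`
      subst hi3
      intro a ha
      exact Cfsg.Agent.Lib.H16.Glaub.Iv_conj_left S hI (a := i - 4) (b := i) (b' := i - 1) (by ring)
        (by omega) (by omega) (S.X_le_Iv 6 (by omega) (by omega) hg) ha
    by_cases hi4 : i = j - 6
    · -- the key case
      subst hi4
      have hgB : g ∈ S.Iv 6 (j - 6) (j - 1) := S.X_le_Iv 6 (by omega) (by omega) hg
      have hmain : ∀ k : ℤ, j - 4 ≤ k → k ≤ j - 1 → ∀ a ∈ S.X 6 k,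
          g * a * g⁻¹ ∈ S.Iv 6 (j - 4) (j - 1) := by
        intro k hk1 hk2 a ha
        by_cases hk3 : k = j - 1
        · subst hk3
          have h5 := comm5_mem S hp2 hU hI hD hC (j - 6) hg
            (by rw [show j - 6 + 5 = j - 1 by ring]; exact ha)
          have h6 : g * a * g⁻¹ * a⁻¹ ∈ S.Iv 6 (j - 4) (j - 1) :=
            S.Iv_mono 6 (by omega) (by omega) h5
          have h7 : a ∈ S.Iv 6 (j - 4) (j - 1) := S.X_le_Iv 6 (by omega) (by omega) ha
          have := Subgroup.mul_mem _ h6 h7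
          simpa [mul_assoc] using this
        · -- `a ∈ Z(I[j-5,j-1])`, normalized by `g`
          have haZ : a ∈ zc (S.Iv 6 (j - 5) (j - 1)) := by
            rw [hZ]
            exact S.X_le_Iv 6 (by omega) (by omega) ha
          have h8 : g * a * g⁻¹ ∈ zc (S.Iv 6 (j - 5) (j - 1)) :=
            Cfsg.Agent.Lib.H16.Glaub.conj_mem_zc (B := S.Iv 6 (j - 6) (j - 1))
              (fun g' hg' a' ha' => Cfsg.Agent.Lib.H16.Glaub.Iv_conj_right S hI (a := j - 6)
                (a' := j - 5) (by ring) (by omega) (by omega) hg' ha') hgB haZ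
          rw [hZ] at h8
          exact S.Iv_mono 6 (by omega) (by omega) h8
      -- extend from generators to the interval subgroup
      have hle : S.Iv 6 (j - 4) (j - 1) ≤
          MulAut.conj g⁻¹ • S.Iv 6 (j - 4) (j - 1) := by
        rw [S.Iv_le_iff]
        intro k hk1 hk2 a ha
        rw [mem_conj_smul]
        simpa using hmain k hk1 hk2 a ha
      intro a ha
      have := hle ha
      rw [mem_conj_smul] at this
      simpa using this
    · -- `X_i ≤ I[j-5,j-1]` normalizes `I[j-4,j-1]`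
      intro a ha
      exact Cfsg.Agent.Lib.H16.Glaub.Iv_conj_right S hI (a := j - 5) (a' := j - 4) (by ring)
        (by omega) (by omega) (S.X_le_Iv 6 (by omega) (by omega) hg) ha
  -- the normalizer, as a subgroup
  have hN : S.Iv 6 (j - 6) j ≤ Subgroup.normalizer (S.Iv 6 (j - 4) (j - 1) : Set G) := by
    rw [S.Iv_le_iff]
    intro i hi1 hi2 g hg
    rw [Subgroup.mem_normalizer_iff]
    intro a
    constructor
    · intro ha
      exact key i hi1 hi2 g hg a ha
    · intro ha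
      have hg' : g⁻¹ ∈ S.X 6 i := Subgroup.inv_mem _ hg
      have := key i hi1 hi2 g⁻¹ hg' _ ha
      simpa [mul_assoc] using this
  intro g hg
  have hPle : S.Pj (j - 1) ⊔ S.Pj j ≤ S.Iv 6 (j - 6) j := by
    rw [hI.Pj_eq (j - 1), hI.Pj_eq j]
    exact sup_le (S.Iv_mono 6 (by push_cast; omega) (by omega))
      (S.Iv_mono 6 (by push_cast; omega) (by omega))
  have hgN := hN (hPle hg)
  rw [Subgroup.mem_normalizer_iff] at hgN
  ext a
  rw [mem_conj_smul]
  constructor
  · intro ha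
    have := (hgN _).1 ha
    simpa [mul_assoc] using this
  · intro ha
    have hg' : g⁻¹ ∈ Subgroup.normalizer (S.Iv 6 (j - 4) (j - 1) : Set G) :=
      Subgroup.inv_mem _ (hN (hPle hg))
    have := (Subgroup.mem_normalizer_iff.1 hg' a).1 ha
    simpa using this

end Cfsg.Agent.Lib.H26.Glaub
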