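import Cfsg.Agent.Lib.H5.Glaub.Defs
/-!
S4359 (Glauberman 1969, Thm 1), piece (BND): `q ≤ n` or `2q ≤ n + t`.
Blueprint: tools/blueprints/S4359.md.
-/
set_option autoImplicit false
open scoped Pointwise
open Cfsg.Agent.Lib.H5.Glaub Cfsg.Agent.Lib.H5.Glaub.Setup
namespace Cfsg.Agent.Lib.H26.Glaub

variable {G : Type*} [Group G] [Finite G]

/-- (BND) from (H2): `q ≤ n` or `2q ≤ n + t`. -/
theorem dist_bound (S : Setup G) (t q n : ℕ) (hU : S.Uni t) (hI : S.Ivl t) (hD : S.Dist t q)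
    (h2 : S.P ⊓ (Subgroup.center (S.K n)).map (S.K n).subtype = ⊥) :
    q ≤ n ∨ 2 * q ≤ n + t := by
  by_contra hcon
  rw [not_or] at hcon
  obtain ⟨hq1, hq2⟩ := hcon
  have ht := hU.pos
  -- the index `k`
  obtain ⟨k, hk1, hk2, hk3, hk4⟩ : ∃ k : ℤ, (0 : ℤ) - t + 1 ≤ k ∧ k ≤ 0 ∧ (n : ℤ) - q + 1 ≤ k ∧
      (k = (n : ℤ) - q + 1 ∨ k = (0 : ℤ) - t + 1) := by
    refine ⟨max ((n : ℤ) - q + 1) ((0 : ℤ) - t + 1), le_max_right _ _, ?_, le_max_left _ _, ?_⟩
    · apply max_le <;> omega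
    · rcases le_total ((n : ℤ) - q + 1) ((0 : ℤ) - t + 1) with h | h
      · right; exact max_eq_right h
      · left; exact max_eq_left h
  -- `X_k` has order `p`
  have hcard : Nat.card (S.X t k) = S.p := by
    have := hU.card k (t - 1) (by omega)
    rw [show t - (t - 1) = 1 by omega, pow_one] at this
    exact this
  -- `X_k ≤ P`
  have hXP : S.X t k ≤ S.P := by
    have h0 := hI.Pj_eq 0
    rw [S.Pj_zero] at h0
    rw [h0]
    exact S.X_le_Iv t hk1 hk2
  -- every `X_j`, `-t+1 ≤ j ≤ n`, lies in the centralizer of `X_k`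
  have hXj : ∀ j : ℤ, (0 : ℤ) - t + 1 ≤ j → j ≤ n →
      S.X t j ≤ Subgroup.centralizer (S.X t k : Set G) := by
    intro j hj1 hj2
    rw [← comm_iff_le_centralizer]
    apply hD.comm
    rw [abs_lt]
    constructor
    · rcases hk4 with h | h <;> omega
    · omega
  -- `K_n` lies in the centralizer of `X_k`
  have hK : S.K n ≤ Subgroup.centralizer (S.X t k : Set G) := by
    unfold Setup.K
    apply iSup₂_le
    intro i hi
    rw [Finset.mem_range] at hi
    rw [hI.Pj_eq (i : ℤ), S.Iv_le_iff]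
    intro j hj1 hj2
    exact hXj j (by omega) (by omega)
  have hPK : S.P ≤ S.K n := by
    have : S.Pj ((0 : ℕ) : ℤ) ≤ S.K n := by
      unfold Setup.K
      exact le_iSup₂_of_le (f := fun i (_ : i ∈ Finset.range (n + 1)) => S.Pj (i : ℤ)) 0
        (Finset.mem_range.2 (Nat.succ_pos n)) le_rfl
    simpa [S.Pj_zero] using this
  -- so `X_k ≤ P ∩ Z(K_n) = 1`
  have hle : S.X t k ≤ S.P ⊓ (Subgroup.center (S.K n)).map (S.K n).subtype := by
    intro x hx
    refine Subgroup.mem_inf.2 ⟨hXP hx, ?_⟩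
    rw [Subgroup.mem_map]
    refine ⟨⟨x, hPK (hXP hx)⟩, ?_, rfl⟩
    rw [Subgroup.mem_center_iff]
    intro g
    apply Subtype.ext
    have := Subgroup.mem_centralizer_iff.1 (hK g.2) x hx
    simpa using this.symm
  rw [h2, le_bot_iff] at hle
  rw [hle] at hcard
  have hp1 := S.hp.one_lt
  simp at hcard
  omega

end Cfsg.Agent.Lib.H26.Glaub
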