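import Cfsg.Agent.Lib.H1.G85.Defs
import Cfsg.Agent.Lib.H5.Glaub.Main
import Cfsg.Agent.Lib.H5.Glaub.OddCore
import Cfsg.Agent.Lib.H5.Glaub.NcDist
import Cfsg.Agent.Lib.H13.GlaubIVL
import Cfsg.Agent.Lib.H16.GlaubTQ
import Cfsg.Agent.Lib.H26.GlaubT6
/-!
# S4385 (Glauberman 1969, dihedral case), wave 2, piece (CH34): chain facts for `(q,t) = (3,4)` (helper26)

Exact signature from `tools/blueprints/S4385_sigs2.lean`.
`P_(-1) = I[-4,-1]`, `P_0 = I[-3,0]`, `Q = P_(-1) ⊓ P_0 = I[-3,-1]` elementary abelian of order 8,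
`[x_(-4), x_(-1)] ∈ I[-4,-2] ⊓ I[-3,-1] = I[-3,-2]`.
-/
set_option autoImplicit false
set_option linter.unusedSectionVars false
open scoped Pointwise
open Cfsg.Agent.Lib.H5.Glaub Cfsg.Agent.Lib.H5.Glaub.Setup Cfsg.Agent.Lib.H1.G85
namespace Cfsg.Agent.Lib.H26.G85

variable {G : Type*} [Group G] [Finite G]

/-- elements of the join of two elementwise commuting subgroups are products -/
theorem mem_sup_of_comm {A B : Subgroup G} (hAB : Comm A B) {g : G} (hg : g ∈ A ⊔ B) :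
    ∃ a ∈ A, ∃ b ∈ B, g = a * b := by
  let Kr : Subgroup G :=
    { carrier := {g | ∃ a ∈ A, ∃ b ∈ B, g = a * b}
      one_mem' := ⟨1, A.one_mem, 1, B.one_mem, by simp⟩
      mul_mem' := by
        rintro _ _ ⟨a, ha, b, hb, rfl⟩ ⟨a', ha', b', hb', rfl⟩
        refine ⟨a * a', A.mul_mem ha ha', b * b', B.mul_mem hb hb', ?_⟩
        calc a * b * (a' * b') = a * (b * a') * b' := by simp only [mul_assoc]
          _ = a * (a' * b) * b' := by rw [hAB a' ha' b hb]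
          _ = a * a' * (b * b') := by simp only [mul_assoc]
      inv_mem' := by
        rintro _ ⟨a, ha, b, hb, rfl⟩
        refine ⟨a⁻¹, A.inv_mem ha, b⁻¹, B.inv_mem hb, ?_⟩
        rw [mul_inv_rev]
        exact (hAB a⁻¹ (A.inv_mem ha) b⁻¹ (B.inv_mem hb)).symm }
  have hle : A ⊔ B ≤ Kr :=
    sup_le (fun a ha => ⟨a, ha, 1, B.one_mem, by simp⟩) (fun b hb => ⟨1, A.one_mem, b, hb, by simp⟩)
  exact hle hg

/-- if `B` conjugates `N` into itself then `B` normalises `N` -/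
theorem le_normalizer_of_conj' {B N : Subgroup G} (h : ∀ g ∈ B, ∀ a ∈ N, g * a * g⁻¹ ∈ N) :
    B ≤ Subgroup.normalizer (N : Set G) := by
  intro g hg
  rw [Subgroup.mem_normalizer_iff]
  intro a
  refine ⟨h g hg a, fun ha => ?_⟩
  have := h g⁻¹ (B.inv_mem hg) _ ha
  simpa [mul_assoc] using this

set_option linter.unusedVariables false in
set_option maxHeartbeats 1600000 in
/-- (CH34) chain facts for `(q,t) = (3,4)` -/
theorem chain34 (S : Setup G) (hp2 : S.p = 2) (hU : S.Uni 4) (hI : S.Ivl 4) (hD : S.Dist 4 3) (hC : S.Cen 4 3)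
    (x : ℤ → G) (hx : Gen S 4 x) (hodd : ¬ 2 ∣ (S.Pj 0).relIndex (H0 S)) :
    (∀ k : ℤ, -4 ≤ k → k ≤ 0 → x k ∈ H0 S) ∧
    (x (-1) ∈ S.Pj (-1) ⊓ S.Pj 0 ∧ x (-2) ∈ S.Pj (-1) ⊓ S.Pj 0 ∧ x (-3) ∈ S.Pj (-1) ⊓ S.Pj 0) ∧
    (∀ N : Subgroup G, x (-1) ∈ N → x (-2) ∈ N → x (-3) ∈ N → S.Pj (-1) ⊓ S.Pj 0 ≤ N) ∧
    Nat.card ↥(S.Pj (-1) ⊓ S.Pj 0 : Subgroup G) = 8 ∧
    H0 S ≤ Subgroup.normalizer ((S.Pj (-1) ⊓ S.Pj 0 : Subgroup G) : Set G) ∧
    (∀ N : Subgroup G, x (-4) ∈ N → x 0 ∈ N → S.Pj (-1) ⊓ S.Pj 0 ≤ N → H0 S ≤ N) ∧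
    (∀ i j : ℤ, |i - j| < 3 → x i * x j = x j * x i) ∧
    (∃ c c' : G, ((c = x (-3) ∧ c' = x (-2)) ∨ (c = x (-2) ∧ c' = x (-1)) ∨
        (c = x (-3) * x (-2) ∧ c' = x (-2) * x (-1))) ∧
       x (-4) * x (-1) * (x (-4))⁻¹ = x (-1) * c ∧
       x 0 * x (-3) * (x 0)⁻¹ = x (-3) * c') ∧
    ∃ m : ℕ, ¬ 2 ∣ m ∧ Nat.card ↥(H0 S) = 16 * m := by
  have hxX : ∀ k : ℤ, x k ∈ S.X 4 k := fun k => by rw [hx.X_eq k]; exact Subgroup.mem_zpowers _
  have hP0 : S.Pj 0 = S.Iv 4 (-3) 0 := by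
    have := hI.Pj_eq 0
    norm_num at this
    exact this
  have hP1 : S.Pj (-1) = S.Iv 4 (-4) (-1) := by
    have := hI.Pj_eq (-1)
    norm_num at this
    exact this
  -- `Q = P_(-1) ⊓ P_0 = I[-3,-1]`
  have hQ : S.Pj (-1) ⊓ S.Pj 0 = S.Iv 4 (-3) (-1) := by
    ext g
    rw [Subgroup.mem_inf, Cfsg.Agent.Lib.H13.Glaub.mem_Iv S 4 hU (by norm_num) (by norm_num)]
    constructor
    · rintro ⟨h1, h0⟩ j hj1 hj2
      have : j = -1 ∨ j = 0 := by omega
      rcases this with rfl | rfl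
      · exact h1
      · exact h0
    · intro h
      exact ⟨h (-1) le_rfl (by norm_num), h 0 (by norm_num) (by norm_num)⟩
  have hcomm : ∀ i j : ℤ, |i - j| < 3 → x i * x j = x j * x i := by
    intro i j hij
    exact hD.comm i j (by exact_mod_cast hij) _ (hxX i) _ (hxX j)
  have hsq : ∀ k : ℤ, (x k)⁻¹ = x k := fun k => inv_eq_of_mul_eq_one_left (hx.sq k)
  rw [hQ]
  refine ⟨?_, ⟨?_, ?_, ?_⟩, ?_, ?_, ?_, ?_, hcomm, ?_, ?_⟩
  · -- (1)
    intro k h1 h2
    by_cases hk : k ≤ -1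
    · apply Pj_neg_one_le_H0 S
      rw [hP1]
      exact S.X_le_Iv 4 h1 hk (hxX k)
    · apply Pj_zero_le_H0 S
      rw [hP0]
      exact S.X_le_Iv 4 (by omega) h2 (hxX k)
  · exact S.X_le_Iv 4 (by norm_num) le_rfl (hxX (-1))
  · exact S.X_le_Iv 4 (by norm_num) (by norm_num) (hxX (-2))
  · exact S.X_le_Iv 4 le_rfl (by norm_num) (hxX (-3))
  · -- (3)
    intro N h1 h2 h3
    rw [S.Iv_le_iff]
    intro k hk1 hk2
    rw [hx.X_eq k, Subgroup.zpowers_le]
    have : k = -3 ∨ k = -2 ∨ k = -1 := by omega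
    rcases this with rfl | rfl | rfl
    · exact h3
    · exact h2
    · exact h1
  · -- (4)
    have := hI.card (-3) (-1) (by norm_num) (by norm_num)
    rw [this, hp2]
    have e : ((-1 : ℤ) - -3).toNat = 2 := by decide
    rw [e]
    norm_num
  · -- (5)
    unfold H0
    apply sup_le
    · apply le_normalizer_of_conj'
      intro g hg a ha
      rw [hP1] at hg
      exact Cfsg.Agent.Lib.H16.Glaub.Iv_conj_right S hI (a := -4) (a' := -3) (b := -1) (by norm_num)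
        (by norm_num) (by norm_num) hg ha
    · apply le_normalizer_of_conj'
      intro g hg a ha
      rw [hP0] at hg
      exact Cfsg.Agent.Lib.H16.Glaub.Iv_conj_left S hI (a := -3) (b := 0) (b' := -1) (by norm_num)
        (by norm_num) (by norm_num) hg ha
  · -- (6)
    intro N h4 h0 hQN
    have hX : ∀ k : ℤ, -4 ≤ k → k ≤ 0 → S.X 4 k ≤ N := by
      intro k hk1 hk2
      by_cases hk4 : k = -4
      · subst hk4
        rw [hx.X_eq, Subgroup.zpowers_le]
        exact h4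
      · by_cases hk0 : k = 0
        · subst hk0
          rw [hx.X_eq, Subgroup.zpowers_le]
          exact h0
        · exact (S.X_le_Iv 4 (by omega) (by omega)).trans hQN
    unfold H0
    rw [hP0, hP1]
    apply sup_le
    · rw [S.Iv_le_iff]
      intro k hk1 hk2
      exact hX k hk1 (by omega)
    · rw [S.Iv_le_iff]
      intro k hk1 hk2
      exact hX k (by omega) hk2
  · -- (8)
    -- `c = x_(-1) * (x_(-4) x_(-1) x_(-4)⁻¹)`
    have ha4 : x (-4) ∈ S.Iv 4 (-4) (-1) := S.X_le_Iv 4 le_rfl (by norm_num) (hxX (-4))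
    have ha4' : x (-4) ∈ S.Iv 4 (-4) (-2) := S.X_le_Iv 4 le_rfl (by norm_num) (hxX (-4))
    have hu1 : x (-1) ∈ S.Iv 4 (-4) (-1) := S.X_le_Iv 4 (by norm_num) le_rfl (hxX (-1))
    have hu1' : x (-1) ∈ S.Iv 4 (-3) (-1) := S.X_le_Iv 4 (by norm_num) le_rfl (hxX (-1))
    -- `x_(-4) x_(-1) x_(-4)⁻¹ ∈ I[-3,-1]`
    have hc1 : x (-4) * x (-1) * (x (-4))⁻¹ ∈ S.Iv 4 (-3) (-1) :=
      Cfsg.Agent.Lib.H16.Glaub.Iv_conj_right S hI (a := -4) (a' := -3) (b := -1) (by norm_num)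
        (by norm_num) (by norm_num) ha4 hu1'
    -- `x_(-1) x_(-4) x_(-1)⁻¹ ∈ I[-4,-2]`
    have hc2 : x (-1) * x (-4) * (x (-1))⁻¹ ∈ S.Iv 4 (-4) (-2) :=
      Cfsg.Agent.Lib.H16.Glaub.Iv_conj_left S hI (a := -4) (b := -1) (b' := -2) (by norm_num)
        (by norm_num) (by norm_num) hu1 ha4'
    set c : G := x (-1) * (x (-4) * x (-1) * (x (-4))⁻¹) with hcdef
    have hcA : c ∈ S.Iv 4 (-3) (-1) := Subgroup.mul_mem _ hu1' hc1
    have hcB : c ∈ S.Iv 4 (-4) (-2) := by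
      have : c = (x (-1) * x (-4) * (x (-1))⁻¹) * (x (-4))⁻¹ := by
        rw [hcdef, hsq (-1)]
        simp only [mul_assoc]
      rw [this]
      exact Subgroup.mul_mem _ hc2 (Subgroup.inv_mem _ ha4')
    have hinf := hI.inf (-4) (-1) (-4) (-2) (-3) (-1) (by norm_num) le_rfl (by norm_num) (by norm_num) le_rfl
    have hmax : max (-4 : ℤ) (-3) = -3 := by norm_num
    have hmin : min (-2 : ℤ) (-1) = -2 := by norm_num
    rw [hmax, hmin] at hinf
    have hcZ : c ∈ S.Iv 4 (-3) (-2) := by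
      rw [← hinf]
      exact ⟨hcB, hcA⟩
    -- `c ≠ 1`
    have hc_ne : c ≠ 1 := by
      intro h1
      apply hD.ncomm (-4)
      have hnorm : (-4 : ℤ) + ((3 : ℕ) : ℤ) = -1 := by norm_num
      rw [hnorm]
      have hcomm41 : x (-4) * x (-1) = x (-1) * x (-4) := by
        have e : x (-4) * x (-1) * (x (-4))⁻¹ = x (-1) := by
          have : x (-4) * x (-1) * (x (-4))⁻¹ = (x (-1))⁻¹ * c := by
            rw [hcdef]; simp only [mul_assoc, inv_mul_cancel_left]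
          rw [this, h1, mul_one, hsq]
        calc x (-4) * x (-1) = (x (-4) * x (-1) * (x (-4))⁻¹) * x (-4) := by
              simp only [mul_assoc, inv_mul_cancel, mul_one]
          _ = x (-1) * x (-4) := by rw [e]
      intro a ha b hb
      rcases Cfsg.Agent.Lib.H26.Glaub.X_eq_or S 4 hU hp2 (hxX (-4)) ha (hx.ne_one _) with rfl | rfl
      · simp
      · rcases Cfsg.Agent.Lib.H26.Glaub.X_eq_or S 4 hU hp2 (hxX (-1)) hb (hx.ne_one _) with rfl | rfl
        · simp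
        · exact hcomm41
    -- `c` is one of the three involutions of `I[-3,-2]`
    have hsup : S.Iv 4 (-3) (-3) ⊔ S.Iv 4 (-3 + 1) (-2) = S.Iv 4 (-3) (-2) :=
      S.Iv_sup 4 (by norm_num) (by norm_num)
    have hnn : (-3 : ℤ) + 1 = -2 := by norm_num
    rw [hnn, S.Iv_self, S.Iv_self] at hsup
    rw [← hsup] at hcZ
    obtain ⟨g1, hg1, g2, hg2, hcg⟩ := mem_sup_of_comm (hD.comm (-3) (-2) (by norm_num)) hcZ
    -- central: `c` commutes with `x_(-4)` and `x_(-1)`, and `c * c = 1`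
    have hcc4 : c * x (-4) = x (-4) * c := by
      rcases Cfsg.Agent.Lib.H26.Glaub.X_eq_or S 4 hU hp2 (hxX (-3)) hg1 (hx.ne_one _) with rfl | rfl <;>
      rcases Cfsg.Agent.Lib.H26.Glaub.X_eq_or S 4 hU hp2 (hxX (-2)) hg2 (hx.ne_one _) with rfl | rfl
      · rw [hcg]; simp
      · rw [hcg, one_mul]; exact hcomm (-2) (-4) (by norm_num)
      · rw [hcg, mul_one]; exact hcomm (-3) (-4) (by norm_num)
      · rw [hcg, mul_assoc, hcomm (-2) (-4) (by norm_num), ← mul_assoc, hcomm (-3) (-4) (by norm_num),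
          mul_assoc]
    have hcc1 : c * x (-1) = x (-1) * c := by
      rcases Cfsg.Agent.Lib.H26.Glaub.X_eq_or S 4 hU hp2 (hxX (-3)) hg1 (hx.ne_one _) with rfl | rfl <;>
      rcases Cfsg.Agent.Lib.H26.Glaub.X_eq_or S 4 hU hp2 (hxX (-2)) hg2 (hx.ne_one _) with rfl | rfl
      · rw [hcg]; simp
      · rw [hcg, one_mul]; exact hcomm (-2) (-1) (by norm_num)
      · rw [hcg, mul_one]; exact hcomm (-3) (-1) (by norm_num)
      · rw [hcg, mul_assoc, hcomm (-2) (-1) (by norm_num), ← mul_assoc, hcomm (-3) (-1) (by norm_num),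
          mul_assoc]
    have hc2' : c * c = 1 := by
      rcases Cfsg.Agent.Lib.H26.Glaub.X_eq_or S 4 hU hp2 (hxX (-3)) hg1 (hx.ne_one _) with rfl | rfl <;>
      rcases Cfsg.Agent.Lib.H26.Glaub.X_eq_or S 4 hU hp2 (hxX (-2)) hg2 (hx.ne_one _) with rfl | rfl
      · rw [hcg]; simp
      · rw [hcg, one_mul]; exact hx.sq _
      · rw [hcg, mul_one]; exact hx.sq _
      · rw [hcg]
        calc x (-3) * x (-2) * (x (-3) * x (-2)) = x (-3) * (x (-2) * x (-3)) * x (-2) := by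
              simp only [mul_assoc]
          _ = x (-3) * (x (-3) * x (-2)) * x (-2) := by rw [hcomm (-2) (-3) (by norm_num)]
          _ = (x (-3) * x (-3)) * (x (-2) * x (-2)) := by simp only [mul_assoc]
          _ = 1 := by rw [hx.sq, hx.sq, one_mul]
    -- the two conjugation formulas
    have hf1 : x (-4) * x (-1) * (x (-4))⁻¹ = x (-1) * c := by
      rw [hcdef, ← mul_assoc (x (-1)) (x (-1)), hx.sq, one_mul]
    have hf2 : x (-1) * x (-4) * (x (-1))⁻¹ = x (-4) * c := by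
      -- from `x_(-4) x_(-1) = x_(-1) c x_(-4) = x_(-1) x_(-4) c`
      have e1 : x (-4) * x (-1) = x (-1) * x (-4) * c := by
        calc x (-4) * x (-1) = (x (-4) * x (-1) * (x (-4))⁻¹) * x (-4) := by
              simp only [mul_assoc, inv_mul_cancel, mul_one]
          _ = x (-1) * c * x (-4) := by rw [hf1]
          _ = x (-1) * x (-4) * c := by rw [mul_assoc, hcc4, ← mul_assoc]
      have e2 : x (-1) * x (-4) = x (-4) * x (-1) * c := by
        rw [e1, mul_assoc (x (-1) * x (-4)), hc2', mul_one]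
      calc x (-1) * x (-4) * (x (-1))⁻¹ = x (-4) * x (-1) * c * (x (-1))⁻¹ := by rw [e2]
        _ = x (-4) * (x (-1) * c) * (x (-1))⁻¹ := by simp only [mul_assoc]
        _ = x (-4) * (c * x (-1)) * (x (-1))⁻¹ := by rw [hcc1]
        _ = x (-4) * c := by simp only [mul_assoc, mul_inv_cancel, mul_one]
    -- shift by `h`
    have hs0 : x 0 = S.h * x (-1) * S.h⁻¹ := by
      have := hx.shift (-1)
      norm_num at this
      exact this
    have hs1 : x (-1) = S.h * x (-2) * S.h⁻¹ := by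
      have := hx.shift (-2)
      norm_num at this
      exact this
    have hs2 : x (-2) = S.h * x (-3) * S.h⁻¹ := by
      have := hx.shift (-3)
      norm_num at this
      exact this
    have hs3 : x (-3) = S.h * x (-4) * S.h⁻¹ := by
      have := hx.shift (-4)
      norm_num at this
      exact this
    have hf3 : x 0 * x (-3) * (x 0)⁻¹ = x (-3) * (S.h * c * S.h⁻¹) := by
      calc x 0 * x (-3) * (x 0)⁻¹ = S.h * (x (-1) * x (-4) * (x (-1))⁻¹) * S.h⁻¹ := by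
            rw [hs0, hs3]; group
        _ = S.h * (x (-4) * c) * S.h⁻¹ := by rw [hf2]
        _ = x (-3) * (S.h * c * S.h⁻¹) := by rw [hs3]; group
    refine ⟨c, S.h * c * S.h⁻¹, ?_, hf1, hf3⟩
    rcases Cfsg.Agent.Lib.H26.Glaub.X_eq_or S 4 hU hp2 (hxX (-3)) hg1 (hx.ne_one _) with h1 | h1 <;>
    rcases Cfsg.Agent.Lib.H26.Glaub.X_eq_or S 4 hU hp2 (hxX (-2)) hg2 (hx.ne_one _) with h2 | h2
    · exfalso; apply hc_ne; rw [hcg, h1, h2, one_mul]
    · right; left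
      have : c = x (-2) := by rw [hcg, h1, h2, one_mul]
      refine ⟨this, ?_⟩
      rw [this, hs1]
    · left
      have : c = x (-3) := by rw [hcg, h1, h2, mul_one]
      refine ⟨this, ?_⟩
      rw [this, hs2]
    · right; right
      have : c = x (-3) * x (-2) := by rw [hcg, h1, h2]
      refine ⟨this, ?_⟩
      rw [this, hs1, hs2]
      group
  · -- (9)
    refine ⟨(S.Pj 0).relIndex (H0 S), hodd, ?_⟩
    have h1 := Subgroup.relIndex_mul_relIndex (⊥ : Subgroup G) (S.Pj 0) (H0 S) bot_le (Pj_zero_le_H0 S)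
    rw [Subgroup.relIndex_bot_left, Subgroup.relIndex_bot_left] at h1
    have h2 := hU.card 0 0 (by norm_num)
    rw [S.J_unfold_zero, hp2] at h2
    rw [← h1, h2]
    norm_num

end Cfsg.Agent.Lib.H26.G85
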