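import Cfsg.Agent.Lib.H20.KGVDefs

/-!
# S4958 piece B: `good_comap` (restriction of a `Good` weight along an injective homomorphism)
-/

set_option autoImplicit false

namespace Cfsg.Agent.Lib.H26.KGV

open Cfsg.Agent.Lib.H20.KGV
open scoped ComplexConjugate
open Classical

universe u

theorem sum_extend_aux {H H₂ M : Type*} [Fintype H] [Fintype H₂] [AddCommMonoid M] (ι : H → H₂)
    (hι : Function.Injective ι) (f : H → ℂ) (g : H₂ → ℂ → M) (hg : ∀ x, g x 0 = 0) :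
    ∑ x, g x (Function.extend ι f 0 x) = ∑ h, g (ι h) (f h) := by
  symm
  apply Finset.sum_of_injOn ι hι.injOn (fun _ _ => Finset.mem_coe.2 (Finset.mem_univ _))
  · intro x _ hx
    have hx' : ¬ ∃ h, ι h = x := by
      rintro ⟨h, rfl⟩
      exact hx ⟨h, Finset.mem_coe.2 (Finset.mem_univ _), rfl⟩
    rw [Function.extend_apply' _ _ _ hx']
    exact hg x
  · intro h _
    rw [hι.extend_apply]

/-- **Piece B** (restriction along an injective homomorphism). -/
theorem good_comap {H : Type*} {H₂ : Type*} [CommGroup H] [Fintype H] [CommGroup H₂] [Fintype H₂]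
    (ι : H →* H₂) (hι : Function.Injective ι) (μ₂ : H₂ → ℝ) (κ : ℝ) (hgood : Good μ₂ κ) :
    Good (fun h => μ₂ (ι h)) (κ * (Fintype.card H : ℝ) ^ 2 / (Fintype.card H₂ : ℝ) ^ 2) := by
  intro f hf hne
  have hc : (0:ℝ) < Fintype.card H := by exact_mod_cast (Fintype.card_pos (α := H))
  have hc₂ : (0:ℝ) < Fintype.card H₂ := by exact_mod_cast (Fintype.card_pos (α := H₂))
  have hcC : (Fintype.card H : ℂ) ≠ 0 := card_ne_zero
  have hc₂C : (Fintype.card H₂ : ℂ) ≠ 0 := card_ne_zero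
  set f₂ : H₂ → ℂ := ((Fintype.card H₂ : ℂ) / (Fintype.card H : ℂ)) • Function.extend ι f 0
    with hf₂
  have hcoef : ∀ φ₂ : H₂ →* ℂˣ, coeff f₂ φ₂ = coeff f (φ₂.comp ι) := by
    intro φ₂
    rw [hf₂, coeff_smul, coeff_eq, coeff_eq]
    rw [sum_extend_aux ι hι f (fun x z => z * conj ((φ₂ x : ℂ))) (by intro x; simp)]
    simp only [MonoidHom.comp_apply]
    field_simp
  have hint : IntF f₂ := fun φ₂ => by rw [hcoef]; exact hf _
  have hne₂ : f₂ ≠ 0 := by
    intro h0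
    apply hne
    funext h
    have h1 := congrFun h0 (ι h)
    rw [hf₂] at h1
    simp only [Pi.smul_apply, hι.extend_apply, smul_eq_mul, Pi.zero_apply] at h1
    rcases mul_eq_zero.mp h1 with h2 | h2
    · exfalso
      exact (div_ne_zero hc₂C hcC) h2
    · simpa using h2
  have h3 := hgood f₂ hint hne₂
  have h4 : ∑ x, μ₂ x * ‖f₂ x‖ ^ 2 =
      ((Fintype.card H₂ : ℝ) / (Fintype.card H : ℝ)) ^ 2 * ∑ h, μ₂ (ι h) * ‖f h‖ ^ 2 := by
    have h5 := sum_extend_aux ι hι f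
      (fun (x : H₂) (z : ℂ) =>
        μ₂ x * ‖((Fintype.card H₂ : ℂ) / (Fintype.card H : ℂ)) * z‖ ^ 2) (by intro x; simp)
    have h6 : ∑ x, μ₂ x * ‖f₂ x‖ ^ 2 = ∑ x, (fun (x : H₂) (z : ℂ) =>
        μ₂ x * ‖((Fintype.card H₂ : ℂ) / (Fintype.card H : ℂ)) * z‖ ^ 2) x
          (Function.extend ι f 0 x) := by
      refine Finset.sum_congr rfl fun x _ => ?_
      rw [hf₂]
      simp only [Pi.smul_apply, smul_eq_mul]
    rw [h6, h5]
    rw [Finset.mul_sum]
    refine Finset.sum_congr rfl fun h _ => ?_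
    simp only [norm_mul, norm_div, Complex.norm_natCast]
    ring
  rw [h4] at h3
  rw [div_le_iff₀ (by positivity)]
  have h6 : κ * (Fintype.card H : ℝ) ^ 2 ≤
      (Fintype.card H : ℝ) ^ 2 * (((Fintype.card H₂ : ℝ) / (Fintype.card H : ℝ)) ^ 2 *
        ∑ h, μ₂ (ι h) * ‖f h‖ ^ 2) := by
    rw [mul_comm κ]
    exact mul_le_mul_of_nonneg_left h3 (by positivity)
  calc κ * (Fintype.card H : ℝ) ^ 2 ≤ _ := h6
    _ = (∑ h, μ₂ (ι h) * ‖f h‖ ^ 2) * (Fintype.card H₂ : ℝ) ^ 2 := by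
      field_simp

end Cfsg.Agent.Lib.H26.KGV
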