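import Mathlib
import Cfsg.Agent.Lib.H1.M11U.Defs

/-!
# S0420, pieces P3b `fixed_of_Q` and P3c `exists_order3_normalizing` (helper26)

Sig-shaped cores: the earlier pieces of the blueprint (`card_inf_nrm`, `adj_trans`, `exists_sylow2_ge`)
enter as explicit hypotheses.
-/

set_option autoImplicit false
open scoped Pointwise

universe u

namespace Cfsg.Agent.Lib.H26.M11U

open Cfsg.Agent.Lib.H1.M11U

variable {G : Type u} [Group G] [Finite G]

theorem smul_eq_iff_mem_nrm (g : G) (P : Sylow 3 G) : g • P = P ↔ g ∈ Nrm P :=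
  Sylow.smul_eq_iff_mem_normalizer

theorem mem_nrm_smul_iff (n x : G) (P : Sylow 3 G) : x ∈ Nrm (n • P) ↔ n⁻¹ * x * n ∈ Nrm P := by
  rw [← smul_eq_iff_mem_nrm, ← smul_eq_iff_mem_nrm, mul_smul, mul_smul, inv_smul_eq_iff]

theorem card_mul_relIndex_aux {H K : Subgroup G} (h : H ≤ K) :
    Nat.card H * H.relIndex K = Nat.card K := by
  have := Subgroup.relIndex_mul_relIndex ⊥ H K bot_le h
  rwa [Subgroup.relIndex_bot_left, Subgroup.relIndex_bot_left] at this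

/-- the product formula for `H ⊔ N` when `H` normalizes `N`. -/
theorem card_sup_mul_card_inf_aux {H N : Subgroup G} (h : H ≤ Subgroup.normalizer (N : Set G)) :
    Nat.card (H ⊔ N : Subgroup G) * Nat.card (H ⊓ N : Subgroup G) = Nat.card H * Nat.card N := by
  have := Subgroup.normal_subgroupOf_of_le_normalizer h
  have := Subgroup.normal_subgroupOf_sup_of_le_normalizer h
  have h0 : N.relIndex (H ⊔ N) = N.relIndex H := by
    unfold Subgroup.relIndex Subgroup.index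
    exact (Nat.card_congr (QuotientGroup.quotientInfEquivProdNormalizerQuotient H N h).toEquiv).symm
  have h1 : Nat.card N * N.relIndex (H ⊔ N) = Nat.card (H ⊔ N : Subgroup G) :=
    card_mul_relIndex_aux le_sup_right
  have h2 : Nat.card (H ⊓ N : Subgroup G) * (H ⊓ N).relIndex H = Nat.card H :=
    card_mul_relIndex_aux inf_le_left
  have h3 : (H ⊓ N).relIndex H = N.relIndex H := by
    rw [inf_comm]; exact Subgroup.inf_relIndex_right N H
  rw [← h1, ← h2, h0, h3]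
  ring

/-- `|P| = 9`. -/
theorem card_sylow3_sub_aux (h : Hyp G) (P : Sylow 3 G) : Nat.card (P : Subgroup G) = 9 := by
  haveI : Fact (Nat.Prime 3) := ⟨by norm_num⟩
  rw [Sylow.card_eq_multiplicity, h.card]
  have h1 : (7920 : ℕ) = 3 ^ 2 * 880 := by norm_num
  rw [h1, Nat.factorization_mul (by norm_num) (by norm_num), Nat.Prime.factorization_pow (by norm_num)]
  have h2 : (880 : ℕ).factorization 3 = 0 := Nat.factorization_eq_zero_of_not_dvd (by norm_num)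
  simp [h2]


/-- `P ∩ Q = 1` for a subgroup of order 8. -/
theorem sylow_inf_eq_bot_aux (h : Hyp G) (P : Sylow 3 G) (Q : Subgroup G) (hQ : Nat.card Q = 8) :
    (P : Subgroup G) ⊓ Q = ⊥ := by
  have h1 : Nat.card ((P : Subgroup G) ⊓ Q : Subgroup G) ∣ 9 := by
    rw [← card_sylow3_sub_aux h P]; exact Subgroup.card_dvd_of_le inf_le_left
  have h2 : Nat.card ((P : Subgroup G) ⊓ Q : Subgroup G) ∣ 8 := by
    rw [← hQ]; exact Subgroup.card_dvd_of_le inf_le_right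
  have h3 : Nat.card ((P : Subgroup G) ⊓ Q : Subgroup G) ∣ Nat.gcd 9 8 := Nat.dvd_gcd h1 h2
  have h4 : Nat.card ((P : Subgroup G) ⊓ Q : Subgroup G) = 1 := by
    have : Nat.gcd 9 8 = 1 := by norm_num
    rw [this] at h3
    exact Nat.dvd_one.1 h3
  exact Subgroup.card_eq_one.1 h4

/-- no element `u ≠ 1` of `P` is centralized by a subgroup of order 8 (`|C(t)| = 18` for `t` of order 3). -/
theorem eq_one_of_centralized_aux (h : Hyp G) (P : Sylow 3 G) (Q : Subgroup G) (hQ : Nat.card Q = 8)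
    {u : G} (hu : u ∈ (P : Subgroup G)) (hc : ∀ q ∈ Q, q * u = u * q) : u = 1 := by
  by_contra hu1
  -- the order of `u` divides 9
  have hord : orderOf u ∣ 9 := by
    have := orderOf_dvd_natCard (⟨u, hu⟩ : (P : Subgroup G))
    rw [card_sylow3_sub_aux h P, Subgroup.orderOf_mk] at this
    exact this
  have h9 : (9 : ℕ) = 3 ^ 2 := by norm_num
  rw [h9, Nat.dvd_prime_pow Nat.prime_three] at hord
  obtain ⟨k, hk, hk'⟩ := hord
  -- an element `t` of order 3 centralized by `Q`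
  obtain ⟨t, ht3, htc⟩ : ∃ t : G, orderOf t = 3 ∧ ∀ q ∈ Q, q * t = t * q := by
    interval_cases k
    · exact absurd (orderOf_eq_one_iff.1 (by simpa using hk')) hu1
    · exact ⟨u, by simpa using hk', hc⟩
    · refine ⟨u ^ 3, ?_, ?_⟩
      · have h0 : orderOf u = 9 := by simpa using hk'
        rw [orderOf_pow' u (by norm_num), h0]
        norm_num
      · intro q hq
        exact ((Commute.pow_right (hc q hq) 3 : Commute q (u ^ 3))).eq
  have hle : Q ≤ Subgroup.centralizer ({t} : Set G) := by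
    intro q hq
    rw [Subgroup.mem_centralizer_singleton_iff]
    exact htc q hq
  have hdvd := Subgroup.card_dvd_of_le hle
  rw [hQ, h.cent3 t ht3] at hdvd
  norm_num at hdvd


theorem relIndex_two_aux {Q S : Subgroup G} (hQS : Q ≤ S) (hQ : Nat.card Q = 8)
    (hS : Nat.card S = 16) : Q.relIndex S = 2 := by
  have := card_mul_relIndex_aux hQS
  rw [hQ, hS] at this
  omega

theorem le_normalizer_of_relIndex_two_aux {Q S : Subgroup G} (hQS : Q ≤ S) (h2 : Q.relIndex S = 2) :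
    S ≤ Subgroup.normalizer (Q : Set G) := by
  haveI : (Q.subgroupOf S).Normal := Subgroup.normal_of_index_eq_two h2
  exact Subgroup.le_normalizer_of_normal_subgroupOf hQS

theorem mem_or_mem_of_relIndex_two_aux {Q S : Subgroup G} (h2 : Q.relIndex S = 2)
    {s n : G} (hs : s ∈ S) (hsQ : s ∉ Q) (hn : n ∈ S) : n ∈ Q ∨ s⁻¹ * n ∈ Q := by
  by_cases hnQ : n ∈ Q
  · exact Or.inl hnQ
  right
  have key := Subgroup.mul_mem_iff_of_index_two (H := Q.subgroupOf S) h2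
    (a := ⟨s⁻¹, S.inv_mem hs⟩) (b := ⟨n, hn⟩)
  simp only [Subgroup.mem_subgroupOf, Subgroup.coe_mul] at key
  rw [key]
  constructor
  · intro h'; exact absurd ((Q.inv_mem_iff).1 h') hsQ
  · intro h'; exact absurd h' hnQ

/-- the normalizer of `Q` in `N(P)` is `S`. -/
theorem nrm_inf_normalizer_eq_aux (h : Hyp G) (P : Sylow 3 G) {Q S : Subgroup G}
    (hQP : Q ≤ Nrm P) (hQ8 : Nat.card Q = 8) (hS : S ≤ Nrm P) (hS16 : Nat.card S = 16) (hQS : Q ≤ S) :
    Nrm P ⊓ Subgroup.normalizer (Q : Set G) = S := by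
  set M : Subgroup G := Nrm P ⊓ Subgroup.normalizer (Q : Set G) with hM
  have hSM : S ≤ M :=
    le_inf hS (le_normalizer_of_relIndex_two_aux hQS (relIndex_two_aux hQS hQ8 hS16))
  -- `M ∩ P = 1`
  have hMP : M ⊓ (P : Subgroup G) = ⊥ := by
    rw [eq_bot_iff]
    intro u hu
    rw [Subgroup.mem_bot]
    obtain ⟨⟨_, huQ⟩, huP⟩ := hu
    apply eq_one_of_centralized_aux h P Q hQ8 huP
    intro q hq
    have h1 : u * q * u⁻¹ ∈ Q := ((Subgroup.mem_normalizer_iff (H := Q)).1 huQ q).1 hq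
    have h2 : q * u⁻¹ * q⁻¹ ∈ (P : Subgroup G) :=
      ((Subgroup.mem_normalizer_iff (H := (P : Subgroup G))).1 (hQP hq) u⁻¹).1
        ((P : Subgroup G).inv_mem huP)
    have h3 : u * q * u⁻¹ * q⁻¹ ∈ (P : Subgroup G) ⊓ Q := by
      refine ⟨?_, Q.mul_mem h1 (Q.inv_mem hq)⟩
      have : u * q * u⁻¹ * q⁻¹ = u * (q * u⁻¹ * q⁻¹) := by group
      rw [this]
      exact (P : Subgroup G).mul_mem huP h2
    rw [sylow_inf_eq_bot_aux h P Q hQ8, Subgroup.mem_bot] at h3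
    have : q * u = (u * q * u⁻¹ * q⁻¹)⁻¹ * (u * q) := by group
    rw [this, h3]; simp
  have hMn : M ≤ Subgroup.normalizer (((P : Subgroup G)) : Set G) := inf_le_left
  have hprod := card_sup_mul_card_inf_aux hMn
  rw [hMP, Subgroup.card_bot, mul_one, card_sylow3_sub_aux h P] at hprod
  have hsup : M ⊔ (P : Subgroup G) ≤ Nrm P := sup_le inf_le_left Subgroup.le_normalizer
  have hdvd := Subgroup.card_dvd_of_le hsup
  rw [hprod, h.norm3 P] at hdvd
  have hM16 : Nat.card M ∣ 16 := by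
    have : (144 : ℕ) = 16 * 9 := by norm_num
    rw [this] at hdvd
    exact Nat.dvd_of_mul_dvd_mul_right (by norm_num) hdvd
  have hle : Nat.card M ≤ Nat.card S := by
    rw [hS16]; exact Nat.le_of_dvd (by norm_num) hM16
  exact (Subgroup.eq_of_le_of_card_ge hSM hle).symm


/-- (P3b, core) `Fix(Q) = {P, P', s • P'}`; `card_inf_nrm` and `adj_trans` enter as hypotheses. -/
theorem fixed_of_Q_core (h : Hyp G)
    (hcard : ∀ {P P' : Sylow 3 G}, P ≠ P' →
      Nat.card ↥(Nrm P ⊓ Nrm P') = 8 ∨ Nat.card ↥(Nrm P ⊓ Nrm P') = 4)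
    (htrans : ∀ {P P₁ P₂ : Sylow 3 G}, Adj P P₁ → Adj P P₂ → ∃ n ∈ Nrm P, n • P₁ = P₂)
    {P P' : Sylow 3 G} (hadj : Adj P P') {S : Subgroup G} (hS : S ≤ Nrm P)
    (hS16 : Nat.card S = 16) (hQS : Nrm P ⊓ Nrm P' ≤ S) {s : G} (hs : s ∈ S) (hsQ : s ∉ Nrm P')
    (X : Sylow 3 G) (hX : ∀ q ∈ Nrm P ⊓ Nrm P', q • X = X) : X = P ∨ X = P' ∨ X = s • P' := by
  by_cases hXP : X = P
  · exact Or.inl hXP
  right
  have hQ8 : Nat.card ↥(Nrm P ⊓ Nrm P') = 8 := hadj
  -- `Q ≤ N(P) ∩ N(X)`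
  have hQle : Nrm P ⊓ Nrm P' ≤ Nrm P ⊓ Nrm X := by
    intro q hq
    exact ⟨hq.1, (smul_eq_iff_mem_nrm q X).1 (hX q hq)⟩
  have hadjX : Adj P X := by
    rcases hcard (Ne.symm hXP) with h8 | h4
    · exact h8
    · have := Subgroup.card_le_of_le hQle
      rw [hQ8, h4] at this
      omega
  have hQeq : Nrm P ⊓ Nrm P' = Nrm P ⊓ Nrm X :=
    Subgroup.eq_of_le_of_card_ge hQle (by rw [hQ8]; exact le_of_eq hadjX)
  obtain ⟨n, hn, hnX⟩ := htrans hadj hadjX
  -- `n` normalizes `Q`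
  have hnQ : n ∈ Subgroup.normalizer ((Nrm P ⊓ Nrm P' : Subgroup G) : Set G) := by
    rw [Subgroup.mem_normalizer_iff]
    intro q
    have e : n⁻¹ * (n * q * n⁻¹) * n = q := by group
    constructor
    · intro hq
      rw [hQeq]
      have h1 : n * q * n⁻¹ ∈ Nrm P :=
        (Nrm P).mul_mem ((Nrm P).mul_mem hn (Subgroup.mem_inf.1 hq).1) ((Nrm P).inv_mem hn)
      have h2 : n * q * n⁻¹ ∈ Nrm X := by
        rw [← hnX, mem_nrm_smul_iff, e]
        exact (Subgroup.mem_inf.1 hq).2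
      exact Subgroup.mem_inf.2 ⟨h1, h2⟩
    · intro hq
      rw [hQeq] at hq
      have hq1 : n * q * n⁻¹ ∈ Nrm P := (Subgroup.mem_inf.1 hq).1
      have hq2 : n * q * n⁻¹ ∈ Nrm X := (Subgroup.mem_inf.1 hq).2
      have h1 : q ∈ Nrm P := by
        have := (Nrm P).mul_mem ((Nrm P).mul_mem ((Nrm P).inv_mem hn) hq1) hn
        rwa [e] at this
      have h2 : q ∈ Nrm P' := by
        rw [← hnX, mem_nrm_smul_iff, e] at hq2
        exact hq2
      exact Subgroup.mem_inf.2 ⟨h1, h2⟩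
  have hnS : n ∈ S := by
    rw [← nrm_inf_normalizer_eq_aux h P inf_le_left hQ8 hS hS16 hQS]
    exact ⟨hn, hnQ⟩
  have hsQ' : s ∉ Nrm P ⊓ Nrm P' := fun hc => hsQ hc.2
  rcases mem_or_mem_of_relIndex_two_aux (relIndex_two_aux hQS hQ8 hS16) hs hsQ' hnS with h1 | h1
  · left
    rw [← hnX]
    exact (smul_eq_iff_mem_nrm n P').2 h1.2
  · right
    rw [← hnX]
    have : n = s * (s⁻¹ * n) := by group
    rw [this, mul_smul, (smul_eq_iff_mem_nrm (s⁻¹ * n) P').2 h1.2]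


/-! ## P3c -/

theorem adj_comm_aux {P P' : Sylow 3 G} : Adj P P' ↔ Adj P' P := by
  unfold Adj; rw [inf_comm]

theorem adj_smul_aux (g : G) {P P' : Sylow 3 G} : Adj (g • P) (g • P') ↔ Adj P P' := by
  unfold Adj
  have e : Nat.card ↥(Nrm (g • P) ⊓ Nrm (g • P')) = Nat.card ↥(Nrm P ⊓ Nrm P') := by
    refine Nat.card_congr
      { toFun := fun x => ⟨g⁻¹ * x.1 * g, Subgroup.mem_inf.2
          ⟨(mem_nrm_smul_iff g x.1 P).1 (Subgroup.mem_inf.1 x.2).1,
           (mem_nrm_smul_iff g x.1 P').1 (Subgroup.mem_inf.1 x.2).2⟩⟩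
        invFun := fun y => ⟨g * y.1 * g⁻¹, Subgroup.mem_inf.2
          ⟨(mem_nrm_smul_iff g _ P).2 (by
              have : g⁻¹ * (g * y.1 * g⁻¹) * g = y.1 := by group
              rw [this]; exact (Subgroup.mem_inf.1 y.2).1),
           (mem_nrm_smul_iff g _ P').2 (by
              have : g⁻¹ * (g * y.1 * g⁻¹) * g = y.1 := by group
              rw [this]; exact (Subgroup.mem_inf.1 y.2).2)⟩⟩
        left_inv := fun x => by
          apply Subtype.ext
          show g * (g⁻¹ * x.1 * g) * g⁻¹ = x.1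
          group
        right_inv := fun y => by
          apply Subtype.ext
          show g⁻¹ * (g * y.1 * g⁻¹) * g = y.1
          group }
  rw [e]

theorem ne_of_adj_aux (h : Hyp G) {P P' : Sylow 3 G} (hadj : Adj P P') : P ≠ P' := by
  intro he
  subst he
  have h1 : Nat.card ↥(Nrm P ⊓ Nrm P) = 8 := hadj
  rw [inf_idem, h.norm3 P] at h1
  norm_num at h1

/-- an element swapping `P` and `P'` maps `Q = N(P) ∩ N(P')` into itself. -/
theorem conj_mem_of_swap_aux {P P' : Sylow 3 G} {g : G} (h1 : g • P = P') (h2 : g • P' = P)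
    {q : G} (hq : q ∈ Nrm P ⊓ Nrm P') : g * q * g⁻¹ ∈ Nrm P ⊓ Nrm P' := by
  have e : g⁻¹ * (g * q * g⁻¹) * g = q := by group
  have a1 : g * q * g⁻¹ ∈ Nrm (g • P') := by
    rw [mem_nrm_smul_iff, e]; exact (Subgroup.mem_inf.1 hq).2
  have a2 : g * q * g⁻¹ ∈ Nrm (g • P) := by
    rw [mem_nrm_smul_iff, e]; exact (Subgroup.mem_inf.1 hq).1
  rw [h2] at a1
  rw [h1] at a2
  exact Subgroup.mem_inf.2 ⟨a1, a2⟩

theorem mem_normalizer_of_swap_aux {P P' : Sylow 3 G} {g : G} (h1 : g • P = P') (h2 : g • P' = P) :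
    g ∈ Subgroup.normalizer ((Nrm P ⊓ Nrm P' : Subgroup G) : Set G) := by
  rw [Subgroup.mem_normalizer_iff]
  intro q
  constructor
  · intro hq; exact conj_mem_of_swap_aux h1 h2 hq
  · intro hq
    have h1' : g⁻¹ • P = P' := by rw [inv_smul_eq_iff]; exact h2.symm
    have h2' : g⁻¹ • P' = P := by rw [inv_smul_eq_iff]; exact h1.symm
    have := conj_mem_of_swap_aux h1' h2' hq
    have e : g⁻¹ * (g * q * g⁻¹) * g⁻¹⁻¹ = q := by group
    rwa [e] at this

/-- (P3c, core) an element of order 3 normalizing `Q`; `card_inf_nrm`, `adj_trans` and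
`exists_sylow2_ge` enter as hypotheses. -/
theorem exists_order3_normalizing_core (h : Hyp G)
    (hcard : ∀ {P P' : Sylow 3 G}, P ≠ P' →
      Nat.card ↥(Nrm P ⊓ Nrm P') = 8 ∨ Nat.card ↥(Nrm P ⊓ Nrm P') = 4)
    (htrans : ∀ {P P₁ P₂ : Sylow 3 G}, Adj P P₁ → Adj P P₂ → ∃ n ∈ Nrm P, n • P₁ = P₂)
    (hsyl : ∀ {P P' : Sylow 3 G}, Adj P P' →
      ∃ S : Subgroup G, S ≤ Nrm P ∧ Nat.card S = 16 ∧ Nrm P ⊓ Nrm P' ≤ S)
    {P P' : Sylow 3 G} (hadj : Adj P P') :
    ∃ d : G, orderOf d = 3 ∧ ∀ q ∈ Nrm P ⊓ Nrm P', d * q * d⁻¹ ∈ Nrm P ⊓ Nrm P' := by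
  haveI : Fact (Nat.Prime 3) := ⟨by norm_num⟩
  obtain ⟨S, hS, hS16, hQS⟩ := hsyl hadj
  have hQ8 : Nat.card ↥(Nrm P ⊓ Nrm P') = 8 := hadj
  have hne : P ≠ P' := ne_of_adj_aux h hadj
  -- `s ∈ S ∖ Q`
  obtain ⟨s, hs, hsQ⟩ : ∃ s ∈ S, s ∉ Nrm P ⊓ Nrm P' := by
    by_contra hno
    push_neg at hno
    have hle : S ≤ Nrm P ⊓ Nrm P' := hno
    have := Subgroup.card_le_of_le hle
    rw [hS16, hQ8] at this
    omega
  have hsP : s ∈ Nrm P := hS hs
  have hsP' : s ∉ Nrm P' := fun hc => hsQ (Subgroup.mem_inf.2 ⟨hsP, hc⟩)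
  have h2 : (Nrm P ⊓ Nrm P').relIndex S = 2 := relIndex_two_aux hQS hQ8 hS16
  have hsN : s ∈ Subgroup.normalizer ((Nrm P ⊓ Nrm P' : Subgroup G) : Set G) :=
    le_normalizer_of_relIndex_two_aux hQS h2 hs
  -- `s * s ∈ Q`
  have hss : s * s ∈ Nrm P ⊓ Nrm P' := by
    have key := Subgroup.mul_mem_iff_of_index_two (H := (Nrm P ⊓ Nrm P').subgroupOf S) h2
      (a := ⟨s, hs⟩) (b := ⟨s, hs⟩)
    have := key.2 Iff.rfl
    simpa [Subgroup.mem_subgroupOf] using this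
  -- `g` swapping `P` and `P'`
  obtain ⟨g₀, hg₀⟩ := MulAction.exists_smul_eq G P P'
  have hA1 : Adj P' (g₀ • P') := by
    have := (adj_smul_aux g₀ (P := P) (P' := P')).2 hadj
    rwa [hg₀] at this
  have hA2 : Adj P' P := adj_comm_aux.1 hadj
  obtain ⟨n, hn, hnP⟩ := htrans hA1 hA2
  obtain ⟨g, hg1, hg2⟩ : ∃ g : G, g • P = P' ∧ g • P' = P := by
    refine ⟨n * g₀, ?_, ?_⟩
    · rw [mul_smul, hg₀]; exact (smul_eq_iff_mem_nrm n P').2 hn
    · rw [mul_smul]; exact hnP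
  have hgN := mem_normalizer_of_swap_aux hg1 hg2
  -- the third fixed point
  obtain ⟨P3, hP3⟩ : ∃ P3 : Sylow 3 G, P3 = s • P' := ⟨_, rfl⟩
  have hsP3 : s • P3 = P' := by
    rw [hP3, ← mul_smul]; exact (smul_eq_iff_mem_nrm (s * s) P').2 (Subgroup.mem_inf.1 hss).2
  have hP3P' : P3 ≠ P' := fun hc => hsP' ((smul_eq_iff_mem_nrm s P').1 (hP3 ▸ hc))
  have hP3P : P3 ≠ P := by
    intro hc
    apply hne
    have h1 : s • P' = s • P := by rw [← hP3, hc]; exact ((smul_eq_iff_mem_nrm s P).2 hsP).symm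
    exact (smul_left_cancel s h1).symm
  -- `Q` fixes `g • P3`
  have hfix : ∀ q ∈ Nrm P ⊓ Nrm P', q • (g • P3) = g • P3 := by
    intro q hq
    -- `g⁻¹ q g ∈ Q`, then `s⁻¹ (g⁻¹ q g) s ∈ Q ≤ N(P')`
    have a1 : g⁻¹ * q * g ∈ Nrm P ⊓ Nrm P' :=
      ((Subgroup.mem_normalizer_iff''.1 hgN) q).1 hq
    have a2 : s⁻¹ * (g⁻¹ * q * g) * s ∈ Nrm P ⊓ Nrm P' :=
      ((Subgroup.mem_normalizer_iff''.1 hsN) _).1 a1
    have a3 := (smul_eq_iff_mem_nrm _ P').2 (Subgroup.mem_inf.1 a2).2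
    have e : q * (g * s) = (g * s) * (s⁻¹ * (g⁻¹ * q * g) * s) := by group
    calc q • (g • P3) = (q * (g * s)) • P' := by rw [hP3, mul_smul, mul_smul]
      _ = ((g * s) * (s⁻¹ * (g⁻¹ * q * g) * s)) • P' := by rw [e]
      _ = g • P3 := by rw [mul_smul, a3, mul_smul, hP3]
  have hgP3 : g • P3 = P3 := by
    rcases fixed_of_Q_core h hcard htrans hadj hS hS16 hQS hs hsP' (g • P3) hfix with hc | hc | hc
    · exfalso
      apply hP3P'
      rw [← hg2] at hc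
      exact smul_left_cancel g hc
    · exfalso
      apply hP3P
      rw [← hg1] at hc
      exact smul_left_cancel g hc
    · rw [← hP3] at hc; exact hc
  -- the 3-cycle element
  obtain ⟨d₀, e1, e2, e3, hd₀N⟩ : ∃ d₀ : G, d₀ • P = P' ∧ d₀ • P' = P3 ∧ d₀ • P3 = P ∧
      d₀ ∈ Subgroup.normalizer ((Nrm P ⊓ Nrm P' : Subgroup G) : Set G) := by
    refine ⟨g * s, ?_, ?_, ?_, Subgroup.mul_mem _ hgN hsN⟩
    · rw [mul_smul, (smul_eq_iff_mem_nrm s P).2 hsP, hg1]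
    · rw [mul_smul, ← hP3, hgP3]
    · rw [mul_smul, hsP3, hg2]
  have c3 : d₀ ^ 3 = d₀ * (d₀ * d₀) := by rw [pow_succ, pow_succ, pow_one, mul_assoc]
  have h3P : (d₀ ^ 3) • P = P := by rw [c3, mul_smul, mul_smul, e1, e2, e3]
  have h3P' : (d₀ ^ 3) • P' = P' := by rw [c3, mul_smul, mul_smul, e2, e3, e1]
  have h3Q : d₀ ^ 3 ∈ Nrm P ⊓ Nrm P' :=
    Subgroup.mem_inf.2 ⟨(smul_eq_iff_mem_nrm _ P).1 h3P, (smul_eq_iff_mem_nrm _ P').1 h3P'⟩
  have h24 : (d₀ ^ 3) ^ 8 = 1 := by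
    have := pow_card_eq_one' (G := ↥(Nrm P ⊓ Nrm P')) (x := ⟨d₀ ^ 3, h3Q⟩)
    rw [hQ8] at this
    exact congrArg Subtype.val this
  refine ⟨d₀ ^ 8, ?_, ?_⟩
  · apply orderOf_eq_prime
    · rw [← pow_mul, mul_comm, pow_mul]; exact h24
    · intro hc
      have c8 : d₀ ^ 8 = d₀ * (d₀ * (d₀ ^ 3 * d₀ ^ 3)) := by
        rw [← pow_add, ← pow_succ', ← pow_succ']
      have : (d₀ ^ 8) • P = P3 := by
        rw [c8, mul_smul, mul_smul, mul_smul, h3P, h3P, e1, e2]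
      rw [hc, one_smul] at this
      exact hP3P this.symm
  · intro q hq
    exact ((Subgroup.mem_normalizer_iff.1 (Subgroup.pow_mem _ hd₀N 8)) q).1 hq

end Cfsg.Agent.Lib.H26.M11U
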