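import Mathlib
import Cfsg.Agent.Lib.H1.M11U.Defs
import Cfsg.Agent.Lib.H9.M11SUB
import Cfsg.Agent.Lib.H18.M11ST
import Cfsg.Agent.Lib.H26.M11QFIX

/-!
# S0420, pieces P3b `fixed_of_Q` and P3c `exists_order3_normalizing` in the EXACT blueprint signatures
(helper26).  Black boxes: `card_inf_nrm`, `adj_trans` (helper9, `Lib/H9/M11SUB.lean`),
`exists_sylow2_ge` (helper18, `Lib/H18/M11ST.lean`).
-/

set_option autoImplicit false
open scoped Pointwise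

universe u

namespace Cfsg.Agent.Lib.H26.M11U

open Cfsg.Agent.Lib.H1.M11U

variable {G : Type u} [Group G] [Finite G]

/-- (P3b) `Fix(Q) = {P, P', s • P'}`. -/
theorem fixed_of_Q (h : Hyp G) {P P' : Sylow 3 G} (hadj : Adj P P') {S : Subgroup G} (hS : S ≤ Nrm P)
    (hS16 : Nat.card S = 16) (hQS : Nrm P ⊓ Nrm P' ≤ S) {s : G} (hs : s ∈ S) (hsQ : s ∉ Nrm P')
    (X : Sylow 3 G) (hX : ∀ q ∈ Nrm P ⊓ Nrm P', q • X = X) : X = P ∨ X = P' ∨ X = s • P' :=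
  fixed_of_Q_core h (fun hne => Cfsg.Agent.Lib.H9.M11U.card_inf_nrm h hne)
    (fun h1 h2 => Cfsg.Agent.Lib.H9.M11U.adj_trans h h1 h2) hadj hS hS16 hQS hs hsQ X hX

/-- (P3c) an element of order 3 normalizing `Q = N(P) ∩ N(P')`. -/
theorem exists_order3_normalizing (h : Hyp G) {P P' : Sylow 3 G} (hadj : Adj P P') :
    ∃ d : G, orderOf d = 3 ∧ ∀ q ∈ Nrm P ⊓ Nrm P', d * q * d⁻¹ ∈ Nrm P ⊓ Nrm P' :=
  exists_order3_normalizing_core h (fun hne => Cfsg.Agent.Lib.H9.M11U.card_inf_nrm h hne)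
    (fun h1 h2 => Cfsg.Agent.Lib.H9.M11U.adj_trans h h1 h2)
    (fun hadj' => Cfsg.Agent.Lib.H18.M11U.exists_sylow2_ge h hadj') hadj

end Cfsg.Agent.Lib.H26.M11U
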