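import Mathlib
import Cfsg.Prelude.Def_OddOrderLocal

/-!
helper26: definitions for S4079 (order-`p` automorphisms of metacyclic `p`-groups, `p` odd, acting
nontrivially on `Ω₁`): blueprint `tools/blueprints/S4079.md`.
-/

set_option autoImplicit false

namespace Cfsg.Agent.Lib.H26.MC3

universe u

/-- `Ω₁(L)`: the subgroup generated by the elements of order dividing `p`. -/
def Om (p : ℕ) (L : Type u) [Group L] : Subgroup L := Subgroup.closure {g : L | g ^ p = 1}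

/-- the subgroup of fixed points of an automorphism -/
def Fx {L : Type u} [Group L] (σ : MulAut L) : Subgroup L where
  carrier := {g | σ g = g}
  mul_mem' := by
    intro a b ha hb
    simp only [Set.mem_setOf_eq] at *
    rw [map_mul, ha, hb]
  one_mem' := by simp
  inv_mem' := by
    intro a ha
    simp only [Set.mem_setOf_eq] at *
    rw [map_inv, ha]

theorem mem_Fx {L : Type u} [Group L] (σ : MulAut L) (g : L) : g ∈ Fx σ ↔ σ g = g := Iff.rfl

/-- `Z = C_{Ω₁(L)}(σ)` -/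
def Zf (p : ℕ) {L : Type u} [Group L] (σ : MulAut L) : Subgroup L := Om p L ⊓ Fx σ

/-- the (ordered) norm `y · σ(y) ⋯ σ^{k-1}(y)` -/
def Nm {L : Type u} [Group L] (σ : MulAut L) : ℕ → L → L
  | 0, _ => 1
  | k + 1, y => Nm σ k y * (σ ^ k) y

/-- standing hypotheses on `L`: a nontrivial metacyclic `p`-group, `p` odd, with no cyclic subgroup of
index `p`. -/
structure Hyp (p : ℕ) (L : Type u) [Group L] : Prop where
  hp2 : p ≠ 2
  hL : IsPGroup p L
  hmc : Cfsg.IsMetacyclic L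
  hnc : ∀ C : Subgroup L, IsCyclic ↥C → C.index ≠ p
  hnt : Nontrivial L

/-- hypotheses on the automorphism: `σ^p = 1` and `σ` moves an element of order dividing `p`. -/
structure Mov (p : ℕ) {L : Type u} [Group L] (σ : MulAut L) : Prop where
  hσ : σ ^ p = 1
  hmv : ∃ x : L, x ^ p = 1 ∧ σ x ≠ x

/-- group-level facts (pieces G1–G8 of the blueprint), bundled so that the `σ`-level pieces do not depend
on the files of the group-level pieces. -/
structure Facts (p : ℕ) (L : Type u) [Group L] : Prop where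
  mul_pow_eq_one : ∀ {g k : L}, g ^ p = 1 → k ^ p = 1 → (g * k) ^ p = 1
  mem_Om_iff : ∀ g : L, g ∈ Om p L ↔ g ^ p = 1
  card_Om : Nat.card ↥(Om p L) = p ^ 2
  exists_pow_eq : ∀ {e : L}, e ^ p = 1 → ∃ x : L, x ^ p = e
  comm_pow_eq_one : ∀ (g e : L), e ^ p = 1 →
    (g * e * g⁻¹ * e⁻¹) ^ p = 1 ∧ ∀ k : L, k * (g * e * g⁻¹ * e⁻¹) = (g * e * g⁻¹ * e⁻¹) * k
  isCyclic_commutator : IsCyclic ↥(commutator L)
  commutator_comm_Om : ∀ {c e : L}, c ∈ commutator L → e ^ p = 1 → c * e = e * c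
  mul_pow_mod : ∀ g k : L, ∃ d ∈ commutator L, (g * k) ^ p = g ^ p * k ^ p * d ^ p
  exists_adjust : ∀ {y c₁ : L}, c₁ ∈ commutator L → y ^ p = c₁ ^ p →
    ∃ c' ∈ commutator L, (c'⁻¹ * y) ^ p = 1

/-- first-level facts on `σ` (pieces A0, A1, A1cd of the blueprint). -/
structure SFacts (p : ℕ) {L : Type u} [Group L] (σ : MulAut L) : Prop where
  exists_pow_map : ∀ C : Subgroup L, IsCyclic ↥C → (∀ c ∈ C, σ c ∈ C) →
    ∃ l : ℕ, l % p = 1 ∧ ∀ c ∈ C, σ c = c ^ l
  card_Zf : Nat.card ↥(Zf p σ) = p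
  inv_mul_sigma_mem_Zf : ∀ {e : L}, e ^ p = 1 → e⁻¹ * σ e ∈ Zf p σ
  comm_mem_Zf : ∀ (g : L) {e : L}, e ^ p = 1 → g * e * g⁻¹ * e⁻¹ ∈ Zf p σ
  Zf_le_center : Zf p σ ≤ Subgroup.center L

end Cfsg.Agent.Lib.H26.MC3
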