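import Mathlib

/-!
# Degree graph of a solvable group, part A: group theory (helper26)

Elementary version of Isaacs, Lemma 12.3.  If `Q` is a finite solvable group whose commutator
subgroup is nontrivial and contained in every nontrivial normal subgroup (`UniqueMinComm Q`), then
`Q'` is abelian of prime exponent `q` and either `Q` is a `q`-group, or every element outside
`Q'` acts fixed point freely on `Q'` (`structure_of_uniqueMinComm`).

`exists_normal_pgroup_or_frobenius` pulls this back to a nonabelian finite solvable group `G`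
with `M ⊴ G` maximal such that `G ⧸ M` is nonabelian.
-/

set_option autoImplicit false

namespace Cfsg.Agent.Lib.H26.DegGraph

section Q

variable {G : Type*} [Group G]

/-- The commutator subgroup is nontrivial and contained in every nontrivial normal subgroup. -/
def UniqueMinComm (G : Type*) [Group G] : Prop :=
  commutator G ≠ ⊥ ∧ ∀ K : Subgroup G, K.Normal → K ≠ ⊥ → commutator G ≤ K

theorem comm_mem_commutator (a b : G) : a * b * a⁻¹ * b⁻¹ ∈ commutator G := by
  rw [commutator_def]
  exact Subgroup.commutator_mem_commutator (Subgroup.mem_top a) (Subgroup.mem_top b)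

theorem umc_abelian [Group.IsSolvable G] (h : UniqueMinComm G) :
    ∀ a ∈ commutator G, ∀ b ∈ commutator G, a * b = b * a := by
  have hbot : ⁅commutator G, commutator G⁆ = ⊥ := by
    by_contra hne
    have hle : commutator G ≤ ⁅commutator G, commutator G⁆ := h.2 _ inferInstance hne
    have hall : ∀ n : ℕ, commutator G ≤ derivedSeries G (n + 1) := by
      intro n
      induction n with
      | zero => rw [derivedSeries_one]
      | succ n ih =>
        rw [derivedSeries_succ]
        exact hle.trans (Subgroup.commutator_mono ih ih)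
    obtain ⟨n, hn⟩ := Group.IsSolvable.solvable (G := G)
    rcases n with _ | n
    · rw [derivedSeries_zero] at hn
      apply h.1
      rw [eq_bot_iff, ← hn]
      exact le_top
    · apply h.1
      rw [eq_bot_iff, ← hn]
      exact hall n
  rw [Subgroup.commutator_eq_bot_iff_le_centralizer] at hbot
  intro a ha b hb
  have := hbot ha
  rw [Subgroup.mem_centralizer_iff] at this
  exact (this b hb).symm

/-- The commutator subgroup has prime exponent. -/
theorem umc_exponent [Finite G] (h : UniqueMinComm G)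
    (hab : ∀ a ∈ commutator G, ∀ b ∈ commutator G, a * b = b * a) :
    ∃ q : ℕ, q.Prime ∧ ∀ a ∈ commutator G, a ^ q = 1 := by
  have hcard : Nat.card (commutator G) ≠ 1 := by
    intro h1
    exact h.1 ((Subgroup.card_eq_one).mp h1)
  obtain ⟨q, hq, hdvd⟩ := Nat.exists_prime_and_dvd hcard
  haveI : Fact q.Prime := ⟨hq⟩
  obtain ⟨x, hx⟩ := exists_prime_orderOf_dvd_card' q hdvd
  refine ⟨q, hq, ?_⟩
  let Ω : Subgroup G :=
    { carrier := {a | a ∈ commutator G ∧ a ^ q = 1}
      one_mem' := ⟨Subgroup.one_mem _, one_pow _⟩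
      mul_mem' := by
        rintro a b ⟨ha, ha'⟩ ⟨hb, hb'⟩
        refine ⟨Subgroup.mul_mem _ ha hb, ?_⟩
        have hc : Commute a b := hab a ha b hb
        rw [hc.mul_pow, ha', hb', one_mul]
      inv_mem' := by
        rintro a ⟨ha, ha'⟩
        exact ⟨Subgroup.inv_mem _ ha, by rw [inv_pow, ha', inv_one]⟩ }
  have hΩn : Ω.Normal := by
    constructor
    rintro a ⟨ha, ha'⟩ g
    refine ⟨(inferInstance : (commutator G).Normal).conj_mem a ha g, ?_⟩
    rw [conj_pow, ha']
    group
  have hΩne : Ω ≠ ⊥ := by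
    intro hbot
    have hxm : (x : G) ∈ Ω := by
      refine ⟨x.2, ?_⟩
      have : x ^ q = 1 := by rw [← hx]; exact pow_orderOf_eq_one x
      have h2 := congrArg (Subtype.val) this
      simpa using h2
    rw [hbot, Subgroup.mem_bot] at hxm
    have hx1 : x = 1 := Subtype.ext hxm
    rw [hx1, orderOf_one] at hx
    exact hq.one_lt.ne hx
  intro a ha
  exact (h.2 Ω hΩn hΩne ha).2

theorem conj_pow_of_central {x y c : G} (hc : ∀ g : G, c * g = g * c) (hxy : x * y * x⁻¹ = c * y)
    (n : ℕ) : x ^ n * y * (x ^ n)⁻¹ = c ^ n * y := by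
  induction n with
  | zero => simp
  | succ n ih =>
    have e : x ^ (n + 1) * y * (x ^ (n + 1))⁻¹ = x * (x ^ n * y * (x ^ n)⁻¹) * x⁻¹ := by
      rw [pow_succ']; group
    rw [e, ih]
    have e2 : x * (c ^ n * y) * x⁻¹ = (x * c ^ n * x⁻¹) * (x * y * x⁻¹) := by group
    have hcn : x * c ^ n * x⁻¹ = c ^ n := by
      have : c ^ n * x = x * c ^ n := (show Commute c x from hc x).pow_left n
      rw [← this]; group
    rw [e2, hcn, hxy, pow_succ, mul_assoc]

/-- If the centre is nontrivial, the group is a `q`-group. -/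
theorem umc_pgroup [Finite G] (h : UniqueMinComm G) (q : ℕ) (hq : q.Prime)
    (hexp : ∀ a ∈ commutator G, a ^ q = 1) (hZ : Subgroup.center G ≠ ⊥) :
    ∃ k : ℕ, Nat.card G = q ^ k := by
  have hDZ : commutator G ≤ Subgroup.center G := h.2 _ inferInstance hZ
  refine ⟨_, Nat.eq_prime_pow_of_unique_prime_dvd Nat.card_pos.ne' ?_⟩
  intro p hp hpdvd
  by_contra hpq
  haveI : Fact p.Prime := ⟨hp⟩
  obtain ⟨x, hx⟩ := exists_prime_orderOf_dvd_card' p hpdvd
  have hcop : Nat.Coprime p q := (Nat.coprime_primes hp hq).mpr hpq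
  -- `x` is central
  have hxc : ∀ y : G, x * y = y * x := by
    intro y
    set c := x * y * x⁻¹ * y⁻¹ with hcdef
    have hcD : c ∈ commutator G := comm_mem_commutator x y
    have hcZ : ∀ g : G, c * g = g * c := by
      intro g
      exact ((Subgroup.mem_center_iff.mp (hDZ hcD)) g).symm
    have hxy : x * y * x⁻¹ = c * y := by rw [hcdef]; group
    have h1 := conj_pow_of_central hcZ hxy p
    have hxp : x ^ p = 1 := by rw [← hx]; exact pow_orderOf_eq_one x
    rw [hxp] at h1
    have hcp : c ^ p = 1 := by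
      have : y = c ^ p * y := by simpa using h1
      have h2 : c ^ p * y = 1 * y := by rw [one_mul]; exact this.symm
      exact mul_right_cancel h2
    have hcq : c ^ q = 1 := hexp c hcD
    have hc1 : c = 1 := by
      have h3 : orderOf c ∣ Nat.gcd p q :=
        Nat.dvd_gcd (orderOf_dvd_of_pow_eq_one hcp) (orderOf_dvd_of_pow_eq_one hcq)
      rw [hcop] at h3
      exact orderOf_eq_one_iff.mp (Nat.dvd_one.mp h3)
    have : x * y * x⁻¹ = y := by rw [hxy, hc1, one_mul]
    calc x * y = (x * y * x⁻¹) * x := by group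
      _ = y * x := by rw [this]
  have hn : (Subgroup.zpowers x).Normal := by
    constructor
    intro a ha g
    have : g * a * g⁻¹ = a := by
      obtain ⟨k, rfl⟩ := Subgroup.mem_zpowers_iff.mp ha
      have hk : ∀ y : G, x ^ k * y = y * x ^ k := by
        intro y
        exact ((Commute.zpow_left (show Commute x y from hxc y)) k)
      rw [← hk g]; group
    rw [this]; exact ha
  have hne : Subgroup.zpowers x ≠ ⊥ := by
    intro hbot
    have : x ∈ Subgroup.zpowers x := Subgroup.mem_zpowers x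
    rw [hbot, Subgroup.mem_bot] at this
    rw [this, orderOf_one] at hx
    exact hp.one_lt.ne hx
  have hDle := h.2 _ hn hne
  apply h.1
  rw [eq_bot_iff]
  intro a ha
  rw [Subgroup.mem_bot]
  have haq : a ^ q = 1 := hexp a ha
  have hap : a ^ p = 1 := by
    obtain ⟨k, rfl⟩ := Subgroup.mem_zpowers_iff.mp (hDle ha)
    have hxp : x ^ p = 1 := by rw [← hx]; exact pow_orderOf_eq_one x
    rw [← zpow_natCast, ← zpow_mul, mul_comm, zpow_mul, zpow_natCast, hxp, one_zpow]
  have h3 : orderOf a ∣ Nat.gcd p q :=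
    Nat.dvd_gcd (orderOf_dvd_of_pow_eq_one hap) (orderOf_dvd_of_pow_eq_one haq)
  rw [hcop] at h3
  exact orderOf_eq_one_iff.mp (Nat.dvd_one.mp h3)

/-- Elements of `K` commuting with `g`. -/
def commSub (K : Subgroup G) (g : G) : Subgroup G where
  carrier := {n | n ∈ K ∧ g * n = n * g}
  one_mem' := ⟨Subgroup.one_mem _, by simp⟩
  mul_mem' := by
    rintro a b ⟨ha, ha'⟩ ⟨hb, hb'⟩
    refine ⟨Subgroup.mul_mem _ ha hb, ?_⟩
    rw [← mul_assoc, ha', mul_assoc, hb', mul_assoc]
  inv_mem' := by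
    rintro a ⟨ha, ha'⟩
    refine ⟨Subgroup.inv_mem _ ha, ?_⟩
    calc g * a⁻¹ = a⁻¹ * (a * g) * a⁻¹ := by group
      _ = a⁻¹ * (g * a) * a⁻¹ := by rw [ha']
      _ = a⁻¹ * g := by group

theorem mem_commSub {K : Subgroup G} {g n : G} : n ∈ commSub K g ↔ n ∈ K ∧ g * n = n * g :=
  Iff.rfl

theorem commSub_normal (K : Subgroup G) [hKn : K.Normal] (g : G)
    (hK : ∀ n ∈ K, ∀ d ∈ commutator G, d * n = n * d) : (commSub K g).Normal := by
  constructor
  rintro n ⟨hn, hn'⟩ x
  refine ⟨hKn.conj_mem n hn x, ?_⟩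
  set d := g⁻¹ * x⁻¹ * g * x with hd
  have hdD : d ∈ commutator G := by
    have := comm_mem_commutator g⁻¹ x⁻¹
    simpa [hd] using this
  have hdn : d * n = n * d := hK n hn d hdD
  have h1 : (g * d) * n = n * (g * d) := by
    rw [mul_assoc, hdn, ← mul_assoc, hn', mul_assoc]
  have h2 : x⁻¹ * g * x = g * d := by rw [hd]; group
  calc g * (x * n * x⁻¹) = x * ((x⁻¹ * g * x) * n) * x⁻¹ := by group
    _ = x * (n * (x⁻¹ * g * x)) * x⁻¹ := by rw [h2, h1]
    _ = x * n * x⁻¹ * g := by group

/-- An element outside `C_G(G')` has no nontrivial fixed point on `G'`. -/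
theorem umc_fpf_aux (h : UniqueMinComm G)
    (hab : ∀ a ∈ commutator G, ∀ b ∈ commutator G, a * b = b * a)
    {g : G} (hg : g ∉ Subgroup.centralizer (commutator G : Set G)) :
    ∀ n ∈ commutator G, g * n = n * g → n = 1 := by
  have hFn : (commSub (commutator G) g).Normal :=
    commSub_normal (commutator G) g (fun n hn d hd => hab d hd n hn)
  intro n hn hgn
  by_contra hne
  have hFne : commSub (commutator G) g ≠ ⊥ := by
    intro hbot
    have : n ∈ commSub (commutator G) g := ⟨hn, hgn⟩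
    rw [hbot, Subgroup.mem_bot] at this
    exact hne this
  have hle := h.2 _ hFn hFne
  apply hg
  rw [Subgroup.mem_centralizer_iff]
  intro a ha
  exact ((hle ha).2).symm

/-- If the centre is trivial, `G'` is self-centralizing and every element outside it acts fixed
point freely on it. -/
theorem umc_frobenius [Finite G] (h : UniqueMinComm G)
    (hab : ∀ a ∈ commutator G, ∀ b ∈ commutator G, a * b = b * a)
    (hZ : Subgroup.center G = ⊥) :
    commutator G ≠ ⊤ ∧
      ∀ g ∉ commutator G, ∀ n ∈ commutator G, g * n * g⁻¹ * n⁻¹ = 1 → n = 1 := by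
  set C := Subgroup.centralizer (commutator G : Set G) with hC
  have hNC : commutator G ≤ C := by
    intro a ha
    rw [hC, Subgroup.mem_centralizer_iff]
    intro b hb
    exact hab b hb a ha
  have hCtop : C ≠ ⊤ := by
    intro htop
    apply h.1
    rw [eq_bot_iff, ← hZ]
    intro a ha
    rw [Subgroup.mem_center_iff]
    intro g
    have : g ∈ C := by rw [htop]; trivial
    rw [hC, Subgroup.mem_centralizer_iff] at this
    exact (this a ha).symm
  obtain ⟨g₀, hg₀⟩ : ∃ g₀ : G, g₀ ∉ C := by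
    by_contra hcon
    push Not at hcon
    exact hCtop (eq_top_iff.mpr fun x _ => hcon x)
  have hfp := umc_fpf_aux h hab hg₀
  let φ : commutator G → commutator G := fun n =>
    ⟨g₀ * n * g₀⁻¹ * (n : G)⁻¹, comm_mem_commutator g₀ n⟩
  have hφinj : Function.Injective φ := by
    intro a b hab'
    have h1 : g₀ * a * g₀⁻¹ * (a : G)⁻¹ = g₀ * b * g₀⁻¹ * (b : G)⁻¹ :=
      congrArg Subtype.val hab'
    set t : G := (b : G)⁻¹ * a with ht
    have htD : t ∈ commutator G := Subgroup.mul_mem _ (Subgroup.inv_mem _ b.2) a.2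
    have h2 : g₀ * t = t * g₀ := by
      have e1 : g₀ * (a : G) * g₀⁻¹ = g₀ * b * g₀⁻¹ * (b : G)⁻¹ * a := by
        calc g₀ * (a : G) * g₀⁻¹ = (g₀ * a * g₀⁻¹ * (a : G)⁻¹) * a := by group
          _ = _ := by rw [h1]
      calc g₀ * t = (g₀ * (b : G)⁻¹ * g₀⁻¹) * (g₀ * a * g₀⁻¹) * g₀ := by rw [ht]; group
        _ = (g₀ * (b : G)⁻¹ * g₀⁻¹) * (g₀ * b * g₀⁻¹ * (b : G)⁻¹ * a) * g₀ := by rw [e1]
        _ = t * g₀ := by rw [ht]; group
    have h3 := hfp t htD h2
    apply Subtype.ext
    have : (a : G) = b * t := by rw [ht]; group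
    rw [this, h3, mul_one]
  have hφsurj : Function.Surjective φ := Finite.injective_iff_surjective.mp hφinj
  have hEn : (commSub C g₀).Normal :=
    commSub_normal C g₀ (fun n hn d hd => (Subgroup.mem_centralizer_iff.mp hn) d hd)
  have hEbot : commSub C g₀ = ⊥ := by
    by_contra hne
    have hle := h.2 _ hEn hne
    apply h.1
    rw [eq_bot_iff]
    intro a ha
    rw [Subgroup.mem_bot]
    exact hfp a ha (hle ha).2
  have hCN : C ≤ commutator G := by
    intro c hc
    obtain ⟨n, hn⟩ := hφsurj ⟨g₀ * c * g₀⁻¹ * c⁻¹, comm_mem_commutator g₀ c⟩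
    have h1 : g₀ * n * g₀⁻¹ * (n : G)⁻¹ = g₀ * c * g₀⁻¹ * c⁻¹ := congrArg Subtype.val hn
    have he : c⁻¹ * n ∈ commSub C g₀ := by
      refine ⟨Subgroup.mul_mem _ (Subgroup.inv_mem _ hc) (hNC n.2), ?_⟩
      have h2 : (n : G) * g₀⁻¹ * (n : G)⁻¹ = c * g₀⁻¹ * c⁻¹ := by
        calc (n : G) * g₀⁻¹ * (n : G)⁻¹ = g₀⁻¹ * (g₀ * n * g₀⁻¹ * (n : G)⁻¹) := by group
          _ = g₀⁻¹ * (g₀ * c * g₀⁻¹ * c⁻¹) := by rw [h1]
          _ = c * g₀⁻¹ * c⁻¹ := by group
      have h3 : (c⁻¹ * n) * g₀⁻¹ * (c⁻¹ * n)⁻¹ = g₀⁻¹ := by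
        calc (c⁻¹ * n) * g₀⁻¹ * (c⁻¹ * n)⁻¹
            = c⁻¹ * ((n : G) * g₀⁻¹ * (n : G)⁻¹) * c := by group
          _ = c⁻¹ * (c * g₀⁻¹ * c⁻¹) * c := by rw [h2]
          _ = g₀⁻¹ := by group
      calc g₀ * (c⁻¹ * n)
          = g₀ * ((c⁻¹ * n) * g₀⁻¹ * (c⁻¹ * n)⁻¹) * (c⁻¹ * n) * g₀ := by group
        _ = g₀ * g₀⁻¹ * (c⁻¹ * n) * g₀ := by rw [h3]
        _ = (c⁻¹ * n) * g₀ := by group
    rw [hEbot, Subgroup.mem_bot] at he
    have : c = n := inv_mul_eq_one.mp he
    rw [this]
    exact n.2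
  have hEq : commutator G = C := le_antisymm hNC hCN
  refine ⟨by rw [hEq]; exact hCtop, ?_⟩
  intro g hg n hn hcomm
  have hgC : g ∉ C := by rw [← hEq]; exact hg
  apply umc_fpf_aux h hab hgC n hn
  calc g * n = (g * n * g⁻¹ * n⁻¹) * n * g := by group
    _ = n * g := by rw [hcomm, one_mul]

/-- **Isaacs 12.3**, elementary version. -/
theorem structure_of_uniqueMinComm [Finite G] [Group.IsSolvable G] (h : UniqueMinComm G) :
    ∃ q : ℕ, q.Prime ∧ ((∃ k : ℕ, Nat.card G = q ^ k) ∨
      ((∀ a ∈ commutator G, ∀ b ∈ commutator G, a * b = b * a) ∧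
        (∀ a ∈ commutator G, a ^ q = 1) ∧ commutator G ≠ ⊤ ∧
        ∀ g ∉ commutator G, ∀ n ∈ commutator G, g * n * g⁻¹ * n⁻¹ = 1 → n = 1)) := by
  have hab := umc_abelian h
  obtain ⟨q, hq, hexp⟩ := umc_exponent h hab
  refine ⟨q, hq, ?_⟩
  by_cases hZ : Subgroup.center G = ⊥
  · right
    obtain ⟨h1, h2⟩ := umc_frobenius h hab hZ
    exact ⟨hab, hexp, h1, h2⟩
  · left
    exact umc_pgroup h q hq hexp hZ

end Q

section pullback

variable {G : Type*} [Group G] [Finite G]

/-- A nonabelian finite solvable group has a normal subgroup `M` with `G ⧸ M` nonabelian and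
either a `q`-group or a "Frobenius group" with kernel `N ⧸ M` of exponent `q`. -/
theorem exists_normal_pgroup_or_frobenius [Group.IsSolvable G] (hG : commutator G ≠ ⊥) :
    ∃ M : Subgroup G, M.Normal ∧ ¬ commutator G ≤ M ∧ ∃ q : ℕ, q.Prime ∧
      ((∃ k : ℕ, M.index = q ^ k) ∨
        ∃ N : Subgroup G, N.Normal ∧ M ≤ N ∧ M ≠ N ∧ N ≠ ⊤ ∧
          (∀ a ∈ N, ∀ b ∈ N, a * b * a⁻¹ * b⁻¹ ∈ M) ∧ (∀ a ∈ N, a ^ q ∈ M) ∧
          ∀ g ∉ N, ∀ n ∈ N, g * n * g⁻¹ * n⁻¹ ∈ M → n ∈ M) := by
  classical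
  let S : Set (Subgroup G) := {M | M.Normal ∧ ¬ commutator G ≤ M}
  have hSne : S.Nonempty := ⟨⊥, inferInstance, fun hle => hG (le_bot_iff.mp hle)⟩
  obtain ⟨M, hM⟩ := (Set.toFinite S).exists_maximal hSne
  obtain ⟨⟨hMn, hMc⟩, hMmax⟩ := hM
  haveI := hMn
  refine ⟨M, hMn, hMc, ?_⟩
  have hmk : Function.Surjective (QuotientGroup.mk' M) := QuotientGroup.mk'_surjective M
  have hcommQ : commutator (G ⧸ M) = (commutator G).map (QuotientGroup.mk' M) := by
    rw [commutator_def, commutator_def, Subgroup.map_commutator,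
      Subgroup.map_top_of_surjective _ hmk]
  have hmem : ∀ x : G, x ∈ M ↔ QuotientGroup.mk' M x = 1 := by
    intro x
    exact (QuotientGroup.eq_one_iff x).symm
  have hU : UniqueMinComm (G ⧸ M) := by
    constructor
    · intro hbot
      apply hMc
      intro x hx
      rw [hmem]
      have : QuotientGroup.mk' M x ∈ commutator (G ⧸ M) := by
        rw [hcommQ]; exact Subgroup.mem_map_of_mem _ hx
      rw [hbot, Subgroup.mem_bot] at this
      exact this
    · intro K hKn hKne
      haveI := hKn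
      have hK'n : (K.comap (QuotientGroup.mk' M)).Normal := inferInstance
      have hMK : M ≤ K.comap (QuotientGroup.mk' M) := by
        intro x hx
        rw [Subgroup.mem_comap, (hmem x).mp hx]
        exact K.one_mem
      have hle : commutator G ≤ K.comap (QuotientGroup.mk' M) := by
        by_contra hnot
        have := hMmax (show K.comap (QuotientGroup.mk' M) ∈ S from ⟨hK'n, hnot⟩) hMK
        apply hKne
        rw [eq_bot_iff]
        intro y hy
        obtain ⟨x, rfl⟩ := hmk y
        rw [Subgroup.mem_bot]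
        exact (hmem x).mp (this (Subgroup.mem_comap.mpr hy))
      rw [hcommQ]
      intro y hy
      obtain ⟨x, hx, rfl⟩ := Subgroup.mem_map.mp hy
      exact Subgroup.mem_comap.mp (hle hx)
  haveI : Group.IsSolvable (G ⧸ M) := solvable_of_surjective hmk
  obtain ⟨q, hq, hcase⟩ := structure_of_uniqueMinComm hU
  refine ⟨q, hq, ?_⟩
  rcases hcase with ⟨k, hk⟩ | ⟨hab, hexp, htop, hfp⟩
  · left
    exact ⟨k, by rw [Subgroup.index_eq_card]; exact hk⟩
  · right
    refine ⟨(commutator (G ⧸ M)).comap (QuotientGroup.mk' M), inferInstance, ?_, ?_, ?_, ?_, ?_, ?_⟩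
    · intro x hx
      rw [Subgroup.mem_comap, (hmem x).mp hx]
      exact Subgroup.one_mem _
    · intro heq
      apply hU.1
      rw [eq_bot_iff]
      intro y hy
      obtain ⟨x, rfl⟩ := hmk y
      rw [Subgroup.mem_bot]
      apply (hmem x).mp
      rw [heq]
      exact Subgroup.mem_comap.mpr hy
    · intro heq
      apply htop
      rw [eq_top_iff]
      intro y _
      obtain ⟨x, rfl⟩ := hmk y
      have : x ∈ (commutator (G ⧸ M)).comap (QuotientGroup.mk' M) := by rw [heq]; trivial
      exact Subgroup.mem_comap.mp this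
    · intro a ha b hb
      rw [hmem]
      have h1 := hab _ (Subgroup.mem_comap.mp ha) _ (Subgroup.mem_comap.mp hb)
      rw [map_mul, map_mul, map_mul, h1, map_inv, map_inv]
      group
    · intro a ha
      rw [hmem, map_pow]
      exact hexp _ (Subgroup.mem_comap.mp ha)
    · intro g hg n hn hcomm
      rw [hmem]
      apply hfp (QuotientGroup.mk' M g) (fun hc => hg (Subgroup.mem_comap.mpr hc)) _
        (Subgroup.mem_comap.mp hn)
      have := (hmem _).mp hcomm
      simpa using this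

end pullback

end Cfsg.Agent.Lib.H26.DegGraph
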