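import Mathlib

/-!
# Degree graph of a solvable group, part B: an abstract counting lemma (helper26)

The combinatorial heart of Isaacs, Theorem 12.4.  A finite commutative group `A` acts on a set
`X`; a group `G` acts (on the right) on `A` via `tw` and on `X` via `cjf`, compatibly.  `Λ ≤ A`
is a `G`-invariant subgroup on which the elements outside `N ≤ G` act fixed point freely, and
`ψ : X` is such that `N` fixes all `a • ψ`, `a ∈ Λ`.  Then either `Λ` fixes `ψ`, or some
`a • ψ`, `a ∈ Λ`, is fixed by no element outside `N` (`exists_regular_or_stable`).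
-/

set_option autoImplicit false

namespace Cfsg.Agent.Lib.H26.DegGraph

open Finset

section abstract

variable {G A X : Type*} [Group G] [CommGroup A] [MulAction A X]

/-- The data of compatible right actions of `G` on `A` and `X`. -/
structure TwistData (N : Subgroup G) (Λ : Subgroup A) (tw : G → A →* A) (cjf : G → X → X) :
    Prop where
  tw_mul : ∀ g h a, tw (g * h) a = tw h (tw g a)
  tw_one : ∀ a, tw 1 a = a
  cjf_mul : ∀ g h x, cjf (g * h) x = cjf h (cjf g x)
  cjf_one : ∀ x, cjf 1 x = x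
  cjf_smul : ∀ g a x, cjf g (a • x) = tw g a • cjf g x
  twΛ : ∀ g, ∀ a ∈ Λ, tw g a ∈ Λ
  hfp : ∀ g, g ∉ N → ∀ a ∈ Λ, tw g a = a → a = 1

variable {N : Subgroup G} {Λ : Subgroup A} {tw : G → A →* A} {cjf : G → X → X}

namespace TwistData

theorem tw_inv_tw (D : TwistData N Λ tw cjf) (g : G) (a : A) : tw g⁻¹ (tw g a) = a := by
  rw [← D.tw_mul, mul_inv_cancel, D.tw_one]

theorem cjf_inv_cjf (D : TwistData N Λ tw cjf) (g : G) (x : X) : cjf g⁻¹ (cjf g x) = x := by
  rw [← D.cjf_mul, mul_inv_cancel, D.cjf_one]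

/-- `a ↦ tw g a / a` is injective on `Λ` for `g ∉ N`. -/
theorem delta_inj (D : TwistData N Λ tw cjf) {g : G} (hg : g ∉ N) {a b : A} (ha : a ∈ Λ)
    (hb : b ∈ Λ) (h : tw g a / a = tw g b / b) : a = b := by
  have hκ : a / b ∈ Λ := Λ.div_mem ha hb
  have h1 : tw g (a / b) = a / b := by
    rw [map_div, div_eq_div_iff_mul_eq_mul]
    rw [div_eq_div_iff_mul_eq_mul] at h
    rw [h, mul_comm]
  have := D.hfp g hg _ hκ h1
  exact div_eq_one.mp this

/-- The stabilizer of `ψ` in `Λ`. -/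
def stab (Λ : Subgroup A) (ψ : X) : Subgroup A where
  carrier := {a | a ∈ Λ ∧ a • ψ = ψ}
  one_mem' := ⟨Λ.one_mem, one_smul _ _⟩
  mul_mem' := by
    rintro a b ⟨ha, ha'⟩ ⟨hb, hb'⟩
    exact ⟨Λ.mul_mem ha hb, by rw [mul_smul, hb', ha']⟩
  inv_mem' := by
    rintro a ⟨ha, ha'⟩
    exact ⟨Λ.inv_mem ha, by rw [inv_smul_eq_iff, ha']⟩

theorem mem_stab {ψ : X} {a : A} : a ∈ stab Λ ψ ↔ a ∈ Λ ∧ a • ψ = ψ := Iff.rfl

/-- The elements of `G` mapping `ψ` into `Λ • ψ`. -/
def T1 (D : TwistData N Λ tw cjf) (ψ : X) : Subgroup G where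
  carrier := {g | ∃ a ∈ Λ, cjf g ψ = a • ψ}
  one_mem' := ⟨1, Λ.one_mem, by rw [D.cjf_one, one_smul]⟩
  mul_mem' := by
    rintro g h ⟨a, ha, hg⟩ ⟨b, hb, hh⟩
    exact ⟨tw h a * b, Λ.mul_mem (D.twΛ h a ha) hb,
      by rw [D.cjf_mul, hg, D.cjf_smul, hh, smul_smul]⟩
  inv_mem' := by
    rintro g ⟨a, ha, hg⟩
    refine ⟨(tw g⁻¹ a)⁻¹, Λ.inv_mem (D.twΛ _ a ha), ?_⟩
    have h1 : cjf g⁻¹ (cjf g ψ) = ψ := D.cjf_inv_cjf g ψ
    rw [hg, D.cjf_smul] at h1
    rw [eq_inv_smul_iff, h1]

theorem mem_T1 (D : TwistData N Λ tw cjf) {ψ : X} {g : G} :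
    g ∈ D.T1 ψ ↔ ∃ a ∈ Λ, cjf g ψ = a • ψ := Iff.rfl

theorem tw_mem_stab (D : TwistData N Λ tw cjf) {ψ : X} {g : G} (hg : g ∈ D.T1 ψ) {a : A}
    (ha : a ∈ stab Λ ψ) : tw g a ∈ stab Λ ψ := by
  obtain ⟨b, hb, hgb⟩ := hg
  refine ⟨D.twΛ g a ha.1, ?_⟩
  have h1 : tw g a • cjf g ψ = cjf g ψ := by
    rw [← D.cjf_smul, ha.2]
  rw [hgb, smul_smul, mul_comm, ← smul_smul] at h1
  exact smul_left_cancel b h1

theorem mem_stab_of_tw_mem (D : TwistData N Λ tw cjf) {ψ : X} {g : G} (hg : g ∈ D.T1 ψ) {a : A}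
    (ha : tw g a ∈ stab Λ ψ) : a ∈ stab Λ ψ := by
  have := D.tw_mem_stab ((D.T1 ψ).inv_mem hg) ha
  rwa [D.tw_inv_tw] at this

theorem mem_stab_of_delta_mem [Finite A] (D : TwistData N Λ tw cjf) {ψ : X} {g : G}
    (hg : g ∈ D.T1 ψ) (hgN : g ∉ N) {a : A} (ha : a ∈ Λ) (hd : tw g a / a ∈ stab Λ ψ) :
    a ∈ stab Λ ψ := by
  let f : stab Λ ψ → stab Λ ψ := fun μ =>
    ⟨tw g μ / μ, (stab Λ ψ).div_mem (D.tw_mem_stab hg μ.2) μ.2⟩
  have hinj : Function.Injective f := by
    intro μ μ' h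
    have h1 : tw g (μ : A) / μ = tw g (μ' : A) / μ' := congrArg Subtype.val h
    exact Subtype.ext (D.delta_inj hgN μ.2.1 μ'.2.1 h1)
  obtain ⟨μ, hμ⟩ := (Finite.injective_iff_surjective.mp hinj) ⟨_, hd⟩
  have h1 : tw g (μ : A) / μ = tw g a / a := congrArg Subtype.val hμ
  have := D.delta_inj hgN μ.2.1 ha h1
  rw [← this]
  exact μ.2

end TwistData

end abstract

section count

variable {G A X : Type*} [Group G] [CommGroup A] [MulAction A X] [Fintype G] [Fintype A]
  {N : Subgroup G} {Λ : Subgroup A} {tw : G → A →* A} {cjf : G → X → X}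

open Classical in
/-- If `Λ` does not fix `ψ` then `|T₁| |U| ≤ |N| (|Λ| - |U|)`. -/
theorem TwistData.card_bound (D : TwistData N Λ tw cjf) (ψ : X) {ν : A} (hν : ν ∈ Λ)
    (hνU : ν ∉ TwistData.stab Λ ψ) :
    (univ.filter (fun g : G => g ∈ D.T1 ψ)).card *
        (univ.filter (fun a : A => a ∈ TwistData.stab Λ ψ)).card ≤
      (univ.filter (fun g : G => g ∈ N)).card *
        ((univ.filter (fun a : A => a ∈ Λ)).card -
          (univ.filter (fun a : A => a ∈ TwistData.stab Λ ψ)).card) := by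
  set s : Finset (G × A) := (univ.filter (fun g : G => g ∈ D.T1 ψ)) ×ˢ
    (univ.filter (fun a : A => a ∈ TwistData.stab Λ ψ)) with hs
  set t : Finset A := (univ.filter (fun a : A => a ∈ Λ)) \
    (univ.filter (fun a : A => a ∈ TwistData.stab Λ ψ)) with ht
  have hsub : (univ.filter (fun a : A => a ∈ TwistData.stab Λ ψ)) ⊆
      (univ.filter (fun a : A => a ∈ Λ)) := by
    intro a ha
    simp only [mem_filter, mem_univ, true_and] at ha ⊢
    exact ha.1
  have hcard_s : s.card = _ * _ := Finset.card_product _ _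
  have hcard_t : t.card = _ - _ := Finset.card_sdiff_of_subset hsub
  rw [← hcard_s, ← hcard_t]
  apply Finset.card_le_mul_card_image_of_maps_to (f := fun p : G × A => tw p.1 ν * p.2)
  · rintro ⟨g, μ⟩ hp
    simp only [hs, mem_product, mem_filter, mem_univ, true_and] at hp
    simp only [ht, mem_sdiff, mem_filter, mem_univ, true_and]
    refine ⟨Λ.mul_mem (D.twΛ g ν hν) hp.2.1, ?_⟩
    intro hmem
    apply hνU
    apply D.mem_stab_of_tw_mem hp.1
    have : tw g ν = (tw g ν * μ) / μ := by rw [mul_div_cancel_right]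
    rw [this]
    exact (TwistData.stab Λ ψ).div_mem hmem hp.2
  · intro b _
    by_cases hne : (s.filter (fun p : G × A => tw p.1 ν * p.2 = b)).Nonempty
    · obtain ⟨p₀, hp₀⟩ := hne
      rw [mem_filter] at hp₀
      obtain ⟨hp₀s, hp₀b⟩ := hp₀
      simp only [hs, mem_product, mem_filter, mem_univ, true_and] at hp₀s
      apply Finset.card_le_card_of_injOn (fun p : G × A => p.1 * p₀.1⁻¹)
      · intro p hp
        have hp' := Finset.mem_coe.mp hp
        rw [mem_filter] at hp'
        obtain ⟨hps, hpb⟩ := hp'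
        simp only [hs, mem_product, mem_filter, mem_univ, true_and] at hps
        simp only [coe_filter, mem_univ, true_and, Set.mem_setOf_eq]
        by_contra hk
        set k := p.1 * p₀.1⁻¹ with hkdef
        have hkT : k ∈ D.T1 ψ := (D.T1 ψ).mul_mem hps.1 ((D.T1 ψ).inv_mem hp₀s.1)
        have hpk : p.1 = k * p₀.1 := by rw [hkdef]; group
        have h1 : tw p₀.1 (tw k ν) * p.2 = tw p₀.1 ν * p₀.2 := by
          rw [← D.tw_mul, ← hpk, hpb, hp₀b]
        have h2 : tw p₀.1 (tw k ν / ν) = p₀.2 / p.2 := by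
          rw [map_div, div_eq_div_iff_mul_eq_mul, h1, mul_comm]
        have h3 : tw k ν / ν ∈ TwistData.stab Λ ψ := by
          apply D.mem_stab_of_tw_mem hp₀s.1
          rw [h2]
          exact (TwistData.stab Λ ψ).div_mem hp₀s.2 hps.2
        exact hνU (D.mem_stab_of_delta_mem hkT hk hν h3)
      · intro p hp p' hp' heq
        have hp1 := Finset.mem_coe.mp hp
        have hp1' := Finset.mem_coe.mp hp'
        rw [mem_filter] at hp1 hp1'
        have h1 : p.1 = p'.1 := mul_right_cancel heq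
        have h2 : tw p.1 ν * p.2 = tw p.1 ν * p'.2 := by
          rw [hp1.2, h1, hp1'.2]
        exact Prod.ext h1 (mul_left_cancel h2)
    · rw [Finset.not_nonempty_iff_eq_empty] at hne
      rw [hne, Finset.card_empty]
      exact Nat.zero_le _

end count

section main

variable {G A X : Type*} [Group G] [CommGroup A] [MulAction A X] [Finite G] [Finite A]
  {N : Subgroup G} {Λ : Subgroup A} {tw : G → A →* A} {cjf : G → X → X}

open Classical in
/-- The counting heart of Isaacs 12.4: either `Λ` fixes `ψ`, or some `a • ψ` has "inertia group"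
`N`. -/
theorem TwistData.exists_regular_or_stable (D : TwistData N Λ tw cjf) (ψ : X)
    (hN : ∀ g ∈ N, ∀ a ∈ Λ, cjf g (a • ψ) = a • ψ) :
    (∀ a ∈ Λ, a • ψ = ψ) ∨ ∃ a ∈ Λ, ∀ g, g ∉ N → cjf g (a • ψ) ≠ a • ψ := by
  by_contra hcon
  push Not at hcon
  obtain ⟨⟨ν, hν, hνψ⟩, hbad⟩ := hcon
  have := Fintype.ofFinite G
  have := Fintype.ofFinite A
  have hνU : ν ∉ TwistData.stab Λ ψ := fun h => hνψ h.2
  have hb := D.card_bound ψ hν hνU
  choose! gsel hgsel using hbad
  set Nf := univ.filter (fun g : G => g ∈ N) with hNf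
  set Tf := univ.filter (fun g : G => g ∈ D.T1 ψ) with hTf
  set Λf := univ.filter (fun a : A => a ∈ Λ) with hΛf
  set Uf := univ.filter (fun a : A => a ∈ TwistData.stab Λ ψ) with hUf
  set P : Finset (G × A) :=
    (univ ×ˢ Λf).filter (fun p => p.1 ∉ N ∧ cjf p.1 (p.2 • ψ) = p.2 • ψ) with hP
  have hlow : Nf.card * Λf.card ≤ P.card := by
    rw [← Finset.card_product]
    apply Finset.card_le_card_of_injOn (fun p : G × A => (p.1 * gsel p.2, p.2))
    · intro p hp
      have hp' := Finset.mem_coe.mp hp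
      simp only [mem_product, mem_filter, mem_univ, true_and, hNf, hΛf] at hp'
      simp only [hP, coe_filter, mem_product, mem_univ, mem_filter, true_and, Set.mem_setOf_eq,
        hΛf]
      obtain ⟨h1, h2⟩ := hgsel p.2 hp'.2
      refine ⟨hp'.2, ?_, ?_⟩
      · intro hmem
        apply h1
        have : gsel p.2 = p.1⁻¹ * (p.1 * gsel p.2) := by group
        rw [this]
        exact N.mul_mem (N.inv_mem hp'.1) hmem
      · rw [D.cjf_mul, hN p.1 hp'.1 p.2 hp'.2, h2]
    · intro p hp p' hp' heq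
      simp only [Prod.mk.injEq] at heq
      obtain ⟨h1, h2⟩ := heq
      rw [h2] at h1
      exact Prod.ext (mul_right_cancel h1) h2
  have hNT : N ≤ D.T1 ψ := by
    intro g hg
    refine ⟨1, Λ.one_mem, ?_⟩
    have := hN g hg 1 Λ.one_mem
    rw [one_smul] at this ⊢
    exact this
  have hNTf : Nf ⊆ Tf := by
    intro g hg
    simp only [hNf, hTf, mem_filter, mem_univ, true_and] at hg ⊢
    exact hNT hg
  have hup : P.card ≤ Uf.card * (Tf \ Nf).card := by
    apply Finset.card_le_mul_card_image_of_maps_to (f := fun p : G × A => p.1)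
    · intro p hp
      simp only [hP, mem_filter, mem_product, mem_univ, true_and, hΛf] at hp
      simp only [mem_sdiff, hTf, hNf, mem_filter, mem_univ, true_and]
      refine ⟨?_, hp.2.1⟩
      refine ⟨(tw p.1 p.2)⁻¹ * p.2, Λ.mul_mem (Λ.inv_mem (D.twΛ _ _ hp.1)) hp.1, ?_⟩
      have h1 := hp.2.2
      rw [D.cjf_smul] at h1
      rw [← smul_smul, ← h1, inv_smul_smul]
    · intro g hg
      simp only [mem_sdiff, hTf, hNf, mem_filter, mem_univ, true_and] at hg
      by_cases hne : (P.filter (fun p : G × A => p.1 = g)).Nonempty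
      · obtain ⟨p₀, hp₀⟩ := hne
        rw [mem_filter] at hp₀
        obtain ⟨hp₀P, hp₀g⟩ := hp₀
        simp only [hP, mem_filter, mem_product, mem_univ, true_and, hΛf] at hp₀P
        apply Finset.card_le_card_of_injOn
          (fun p : G × A => tw g (p.2 / p₀.2) / (p.2 / p₀.2))
        · intro p hp
          have hp' := Finset.mem_coe.mp hp
          rw [mem_filter] at hp'
          obtain ⟨hpP, hpg⟩ := hp'
          simp only [hP, mem_filter, mem_product, mem_univ, true_and, hΛf] at hpP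
          simp only [hUf, coe_filter, mem_univ, true_and, Set.mem_setOf_eq]
          refine ⟨Λ.div_mem (D.twΛ _ _ (Λ.div_mem hpP.1 hp₀P.1)) (Λ.div_mem hpP.1 hp₀P.1), ?_⟩
          have h1 := hpP.2.2
          have h2 := hp₀P.2.2
          rw [hpg, D.cjf_smul] at h1
          rw [hp₀g, D.cjf_smul] at h2
          have h3 : cjf g ψ = (tw g p₀.2)⁻¹ • p₀.2 • ψ := by rw [← h2, inv_smul_smul]
          rw [h3, smul_smul, smul_smul] at h1
          have h4 : (p.2⁻¹ * (tw g p.2 * (tw g p₀.2)⁻¹ * p₀.2)) • ψ = ψ := by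
            rw [← smul_smul, h1, inv_smul_smul]
          have h5 : tw g (p.2 / p₀.2) / (p.2 / p₀.2) =
              p.2⁻¹ * (tw g p.2 * (tw g p₀.2)⁻¹ * p₀.2) := by
            rw [map_div, div_eq_mul_inv, div_eq_mul_inv, div_eq_mul_inv, mul_inv, inv_inv]
            simp only [mul_comm, mul_left_comm, mul_assoc]
          rw [h5]; exact h4
        · intro p hp p' hp' heq
          have hp1 := Finset.mem_coe.mp hp
          have hp1' := Finset.mem_coe.mp hp'
          rw [mem_filter] at hp1 hp1'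
          obtain ⟨hpP, hpg⟩ := hp1
          obtain ⟨hpP', hpg'⟩ := hp1'
          simp only [hP, mem_filter, mem_product, mem_univ, true_and, hΛf] at hpP hpP'
          have := D.delta_inj hg.2 (Λ.div_mem hpP.1 hp₀P.1) (Λ.div_mem hpP'.1 hp₀P.1) heq
          have h2 : p.2 = p'.2 := div_left_injective this
          exact Prod.ext (hpg.trans hpg'.symm) h2
      · rw [Finset.not_nonempty_iff_eq_empty] at hne
        rw [hne, Finset.card_empty]; exact Nat.zero_le _
  have hTN : (Tf \ Nf).card = Tf.card - Nf.card := Finset.card_sdiff_of_subset hNTf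
  have hUΛ : Uf.card ≤ Λf.card := by
    apply card_le_card
    intro a ha
    simp only [hUf, hΛf, mem_filter, mem_univ, true_and] at ha ⊢
    exact ha.1
  have hNpos : 0 < Nf.card := card_pos.mpr ⟨1, by simp [hNf, N.one_mem]⟩
  have hUpos : 0 < Uf.card :=
    card_pos.mpr ⟨1, by simp [hUf, (TwistData.stab Λ ψ).one_mem]⟩
  have hNleT : Nf.card ≤ Tf.card := card_le_card hNTf
  rw [hTN] at hup
  obtain ⟨t', ht'⟩ := Nat.exists_eq_add_of_le hNleT
  obtain ⟨l', hl'⟩ := Nat.exists_eq_add_of_le hUΛ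
  rw [ht', hl'] at hb
  rw [ht'] at hup
  rw [hl'] at hlow
  have e1 : Nf.card + t' - Nf.card = t' := by omega
  have e2 : Uf.card + l' - Uf.card = l' := by omega
  rw [e1] at hup
  rw [e2] at hb
  have h6 := hlow.trans hup
  nlinarith

end main

end Cfsg.Agent.Lib.H26.DegGraph
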