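import Mathlib
import Cfsg.Agent.Lib.H26.DegGraphB
import Cfsg.Agent.Lib.H23.CliffordCorr
import Cfsg.Agent.Lib.H23.DetChar
import Cfsg.Agent.Lib.H23.Isaacs1129
import Cfsg.Agent.Lib.H24.CharLinearMul

/-!
# Degree graph of a solvable group, part C: Isaacs 12.4 (helper26)

Concrete instance of the abstract counting lemma of part B: `A = N →* ℂˣ` acting on functions
`N → ℂ` by multiplication, `G` acting on both by conjugation.
-/

set_option autoImplicit false

namespace Cfsg.Agent.Lib.H26.DegGraph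

open Cfsg Cfsg.Agent.Lib.L0 Cfsg.Agent.Lib.H23 Cfsg.Agent.Lib.H24

section concrete

variable {G : Type*} [Group G] (N : Subgroup G) [hN : N.Normal]

/-- Conjugation by `g` on the normal subgroup `N`. -/
def cj (g : G) : N →* N where
  toFun n := ⟨g * n * g⁻¹, hN.conj_mem n n.2 g⟩
  map_one' := by ext; simp
  map_mul' a b := by ext; simp [mul_assoc]

theorem cj_coe (g : G) (n : N) : ((cj N g n : N) : G) = g * n * g⁻¹ := rfl

/-- The (right) action of `G` on `N →* ℂˣ`. -/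
def twist (g : G) : (N →* ℂˣ) →* (N →* ℂˣ) where
  toFun a := a.comp (cj N g)
  map_one' := rfl
  map_mul' a b := rfl

theorem twist_apply (g : G) (a : N →* ℂˣ) (n : N) : twist N g a n = a (cj N g n) := rfl

/-- The (right) action of `G` on functions on `N`. -/
def conjFun (g : G) (ψ : N → ℂ) : N → ℂ :=
  fun n => ψ ⟨g * n * g⁻¹, hN.conj_mem n n.2 g⟩

theorem conjFun_apply (g : G) (ψ : N → ℂ) (n : N) :
    conjFun N g ψ n = ψ ⟨g * n * g⁻¹, hN.conj_mem n n.2 g⟩ := rfl

/-- Multiplication of functions on `N` by homomorphisms `N →* ℂˣ`. -/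
@[reducible] def linAction : MulAction (N →* ℂˣ) (N → ℂ) where
  smul a ψ := fun n => (a n : ℂ) * ψ n
  one_smul ψ := by
    funext n
    show ((1 : N →* ℂˣ) n : ℂ) * ψ n = ψ n
    simp
  mul_smul a b ψ := by
    funext n
    show ((a * b) n : ℂ) * ψ n = (a n : ℂ) * ((b n : ℂ) * ψ n)
    simp [mul_assoc]

/-- The homomorphisms `N →* ℂˣ` trivial on `M`. -/
def trivOn (M : Subgroup G) : Subgroup (N →* ℂˣ) where
  carrier := {a | ∀ m : N, (m : G) ∈ M → a m = 1}
  one_mem' := fun _ _ => rfl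
  mul_mem' := by
    intro a b ha hb m hm
    rw [MonoidHom.mul_apply, ha m hm, hb m hm, one_mul]
  inv_mem' := by
    intro a ha m hm
    rw [MonoidHom.inv_apply, ha m hm, inv_one]

theorem mem_trivOn {M : Subgroup G} {a : N →* ℂˣ} :
    a ∈ trivOn N M ↔ ∀ m : N, (m : G) ∈ M → a m = 1 := Iff.rfl

end concrete

section fpf

variable {G : Type*} [Group G] [Finite G] (N : Subgroup G) [hN : N.Normal]
  (M : Subgroup G) [hM : M.Normal]

theorem quot_comm (hab : ∀ a ∈ N, ∀ b ∈ N, a * b * a⁻¹ * b⁻¹ ∈ M)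
    (x y : N ⧸ M.subgroupOf N) : x * y = y * x := by
  induction x using QuotientGroup.induction_on with
  | H a =>
    induction y using QuotientGroup.induction_on with
    | H b =>
      rw [← QuotientGroup.mk_mul, ← QuotientGroup.mk_mul, QuotientGroup.eq,
        Subgroup.mem_subgroupOf]
      have := hab _ (N.inv_mem b.2) _ (N.inv_mem a.2)
      simpa [mul_assoc] using this

/-- The commutator map `n ↦ [g, n]` modulo `M`. -/
noncomputable def commHom (hab : ∀ a ∈ N, ∀ b ∈ N, a * b * a⁻¹ * b⁻¹ ∈ M) (g : G) :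
    N →* N ⧸ M.subgroupOf N :=
  MonoidHom.mk' (fun n => QuotientGroup.mk (cj N g n * n⁻¹)) (by
    intro a b
    have hc := quot_comm N M hab
    rw [map_mul, mul_inv_rev, QuotientGroup.mk_mul, QuotientGroup.mk_mul, QuotientGroup.mk_mul,
      QuotientGroup.mk_mul, QuotientGroup.mk_mul]
    rw [mul_assoc, ← mul_assoc (QuotientGroup.mk (cj N g b)), hc _ (QuotientGroup.mk a⁻¹),
      ← mul_assoc])

theorem commHom_apply (hab : ∀ a ∈ N, ∀ b ∈ N, a * b * a⁻¹ * b⁻¹ ∈ M) (g : G) (n : N) :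
    commHom N M hab g n = QuotientGroup.mk (cj N g n * n⁻¹) := rfl

theorem commHom_surjective (hab : ∀ a ∈ N, ∀ b ∈ N, a * b * a⁻¹ * b⁻¹ ∈ M)
    (hfp : ∀ g, g ∉ N → ∀ n ∈ N, g * n * g⁻¹ * n⁻¹ ∈ M → n ∈ M) (g : G) (hg : g ∉ N) :
    Function.Surjective (commHom N M hab g) := by
  have hker : (commHom N M hab g).ker = M.subgroupOf N := by
    ext n
    rw [MonoidHom.mem_ker, commHom_apply, QuotientGroup.eq_one_iff, Subgroup.mem_subgroupOf,
      Subgroup.mem_subgroupOf]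
    constructor
    · intro h
      exact hfp g hg n n.2 h
    · intro h
      have h1 : g * n * g⁻¹ ∈ M := hM.conj_mem n h g
      exact M.mul_mem h1 (M.inv_mem h)
  have h1 : Nat.card (commHom N M hab g).range = Nat.card (N ⧸ M.subgroupOf N) := by
    rw [← Subgroup.index_ker, hker, Subgroup.index_eq_card]
  have h2 : (commHom N M hab g).range = ⊤ := (Subgroup.card_eq_iff_eq_top _).mp h1
  exact MonoidHom.range_eq_top.mp h2

theorem twist_fixed_eq_one (hab : ∀ a ∈ N, ∀ b ∈ N, a * b * a⁻¹ * b⁻¹ ∈ M)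
    (hfp : ∀ g, g ∉ N → ∀ n ∈ N, g * n * g⁻¹ * n⁻¹ ∈ M → n ∈ M) (g : G) (hg : g ∉ N)
    (a : N →* ℂˣ) (ha : a ∈ trivOn N M) (hfix : twist N g a = a) : a = 1 := by
  ext n
  obtain ⟨n', hn'⟩ := commHom_surjective N M hab hfp g hg (QuotientGroup.mk n)
  rw [commHom_apply, QuotientGroup.eq, Subgroup.mem_subgroupOf] at hn'
  have h1 := ha _ hn'
  rw [map_mul, map_inv, map_mul, map_inv, ← twist_apply, hfix] at h1
  have h2 : a n = 1 := by
    simpa using h1
  rw [h2]
  rfl

end fpf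

section data

variable {G : Type*} [Group G] (N : Subgroup G) [hN : N.Normal]

theorem cj_mul (g h : G) (n : N) : cj N (g * h) n = cj N g (cj N h n) := by
  apply Subtype.ext
  simp [cj_coe, mul_assoc]

theorem cj_one (n : N) : cj N 1 n = n := by
  apply Subtype.ext
  simp [cj_coe]

theorem linAction_smul_apply (a : N →* ℂˣ) (ψ : N → ℂ) (n : N) :
    (letI := linAction N; a • ψ) n = (a n : ℂ) * ψ n := rfl

theorem twistData [Finite G] (M : Subgroup G) [hM : M.Normal]
    (hab : ∀ a ∈ N, ∀ b ∈ N, a * b * a⁻¹ * b⁻¹ ∈ M)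
    (hfp : ∀ g, g ∉ N → ∀ n ∈ N, g * n * g⁻¹ * n⁻¹ ∈ M → n ∈ M) :
    @TwistData G (N →* ℂˣ) (N → ℂ) _ _ (linAction N) N (trivOn N M) (twist N) (conjFun N) := by
  letI := linAction N
  refine
    { tw_mul := ?_, tw_one := ?_, cjf_mul := ?_, cjf_one := ?_, cjf_smul := ?_, twΛ := ?_,
      hfp := ?_ }
  · intro g h a
    ext n
    rw [twist_apply, twist_apply, twist_apply, cj_mul]
  · intro a
    ext n
    rw [twist_apply, cj_one]
  · intro g h ψ
    funext n
    rw [conjFun_apply, conjFun_apply, conjFun_apply]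
    congr 1
    apply Subtype.ext
    simp [mul_assoc]
  · intro ψ
    funext n
    rw [conjFun_apply]
    congr 1
    apply Subtype.ext
    simp
  · intro g a ψ
    rfl
  · intro g a ha m hm
    rw [twist_apply]
    apply ha
    rw [cj_coe]
    exact hM.conj_mem m hm g
  · intro g hg a ha hfix
    exact twist_fixed_eq_one N M hab hfp g hg a ha hfix

/-- `N` fixes `a • ψ` for class functions `ψ`. -/
theorem conjFun_smul_of_mem {ψ : N → ℂ} (hψ : IsClassFunction N ψ) {g : G} (hg : g ∈ N)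
    (a : N →* ℂˣ) :
    conjFun N g (letI := linAction N; a • ψ) = (letI := linAction N; a • ψ) := by
  funext n
  rw [conjFun_apply, linAction_smul_apply, linAction_smul_apply]
  have h1 : (⟨g * n * g⁻¹, hN.conj_mem n n.2 g⟩ : N) = ⟨g, hg⟩ * n * ⟨g, hg⟩⁻¹ := by
    apply Subtype.ext
    simp
  rw [h1, hψ n ⟨g, hg⟩]
  congr 2
  rw [map_mul, map_mul, map_inv, mul_comm, ← mul_assoc, inv_mul_cancel, one_mul]

end data

section chars

variable {G : Type*} [Group G] (N : Subgroup G) [hN : N.Normal]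

theorem exists_nontrivial_trivOn [Finite G] (M : Subgroup G) [hM : M.Normal] (hMN : M ≤ N)
    (hne : M ≠ N) (hab : ∀ a ∈ N, ∀ b ∈ N, a * b * a⁻¹ * b⁻¹ ∈ M) :
    ∃ μ ∈ trivOn N M, μ ≠ 1 := by
  obtain ⟨n₀, hn₀N, hn₀M⟩ := SetLike.exists_of_lt (lt_of_le_of_ne hMN hne)
  letI : CommGroup (N ⧸ M.subgroupOf N) :=
    { (inferInstance : Group (N ⧸ M.subgroupOf N)) with mul_comm := quot_comm N M hab }
  have hb : (QuotientGroup.mk (⟨n₀, hn₀N⟩ : N) : N ⧸ M.subgroupOf N) ≠ 1 := by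
    rw [Ne, QuotientGroup.eq_one_iff, Subgroup.mem_subgroupOf]
    exact hn₀M
  haveI : NeZero ((Monoid.exponent (N ⧸ M.subgroupOf N) : ℕ) : ℂ) := by
    constructor
    have : Monoid.exponent (N ⧸ M.subgroupOf N) ≠ 0 := Monoid.exponent_ne_zero_of_finite
    exact_mod_cast this
  obtain ⟨φ, hφ⟩ :=
    CommGroup.exists_apply_ne_one_of_hasEnoughRootsOfUnity (N ⧸ M.subgroupOf N) ℂ hb
  refine ⟨φ.comp (QuotientGroup.mk' (M.subgroupOf N)), ?_, ?_⟩
  · intro m hm
    rw [MonoidHom.comp_apply]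
    have : QuotientGroup.mk' (M.subgroupOf N) m = 1 :=
      (QuotientGroup.eq_one_iff m).mpr (Subgroup.mem_subgroupOf.mpr hm)
    rw [this, map_one]
  · intro h1
    apply hφ
    have := DFunLike.congr_fun h1 ⟨n₀, hn₀N⟩
    simpa using this

theorem dvd_degree_of_stable [Finite G] (M : Subgroup G) [hM : M.Normal] (hMN : M ≤ N)
    (hne : M ≠ N) (hab : ∀ a ∈ N, ∀ b ∈ N, a * b * a⁻¹ * b⁻¹ ∈ M)
    (q : ℕ) (hq : q.Prime) (hexp : ∀ a ∈ N, a ^ q ∈ M)
    (ψ : N → ℂ) (hψ : IsIrrCharacter N ψ)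
    (hst : ∀ a ∈ trivOn N M, (letI := linAction N; a • ψ) = ψ) : q ∣ charDegree ψ := by
  obtain ⟨μ, hμ, hμ1⟩ := exists_nontrivial_trivOn N M hMN hne hab
  have h1 := hst μ hμ
  have hψc := isCharacter_of_irr hψ
  have hdeg := apply_one_eq_charDegree ψ hψ
  have h2 := detChar_mul_homToFun hψc (charDegree ψ) hdeg μ
  have h3 : ψ * homToFun N μ = ψ := by
    funext n
    rw [Pi.mul_apply, homToFun_apply, mul_comm]
    exact congrFun h1 n
  rw [h3] at h2
  obtain ⟨f, hf⟩ := exists_hom_detChar hψc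
  have hμd : μ ^ (charDegree ψ) = 1 := by
    ext n
    have h4 := congrFun h2 n
    rw [hf, Pi.mul_apply, Pi.pow_apply, homToFun_apply, homToFun_apply] at h4
    have hne0 : (f n : ℂ) ≠ 0 := Units.ne_zero _
    have h5 : (f n : ℂ) * 1 = (f n : ℂ) * (μ n : ℂ) ^ charDegree ψ := by
      rw [mul_one]; exact h4
    have h6 := mul_left_cancel₀ hne0 h5
    rw [MonoidHom.pow_apply, Units.val_pow_eq_pow_val, ← h6]
    rfl
  have hμq : μ ^ q = 1 := by
    ext n
    rw [MonoidHom.pow_apply, ← map_pow]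
    have := hμ (n ^ q) (by simpa using hexp n n.2)
    rw [this]
    rfl
  by_contra hndvd
  have hcop : Nat.Coprime q (charDegree ψ) := (Nat.Prime.coprime_iff_not_dvd hq).mpr hndvd
  apply hμ1
  have h5 : orderOf μ ∣ Nat.gcd q (charDegree ψ) :=
    Nat.dvd_gcd (orderOf_dvd_of_pow_eq_one hμq) (orderOf_dvd_of_pow_eq_one hμd)
  rw [hcop.gcd_eq_one] at h5
  exact orderOf_eq_one_iff.mp (Nat.dvd_one.mp h5)

theorem exists_irr_of_regular [Fintype G] [Fintype N] (ψ : N → ℂ) (hψ : IsIrrCharacter N ψ)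
    (a : N →* ℂˣ)
    (hreg : ∀ g, g ∉ N →
      conjFun N g (letI := linAction N; a • ψ) ≠ (letI := linAction N; a • ψ)) :
    ∃ χ : G → ℂ, IsIrrCharacter G χ ∧ charDegree χ = N.index * charDegree ψ := by
  set θ : N → ℂ := (letI := linAction N; a • ψ) with hθdef
  have hθ : IsIrrCharacter N θ := by
    have := isIrrCharacter_mul_hom ψ hψ a
    convert this using 1
    funext n
    exact mul_comm _ _
  have hθcl : IsClassFunction N θ := isClassFunction_of_isCharacter (isCharacter_of_irr hθ)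
  have hT : ∀ g : G, g ∈ N ↔
      ∀ n : N, θ ⟨g * n * g⁻¹, hN.conj_mem (n : G) n.2 g⟩ = θ n := by
    intro g
    constructor
    · intro hg n
      have := hθcl n ⟨g, hg⟩
      rw [← this]
      congr 1
    · intro h
      by_contra hg
      exact hreg g hg (funext h)
  have hres : resTo N N le_rfl θ = θ := rfl
  have hf : classInner (resTo N N le_rfl θ) θ ≠ 0 := by
    rw [hres, irr_classInner_self hθ]
    exact one_ne_zero
  obtain ⟨hirr, -⟩ := isIrrCharacter_indFun_inertia N N le_rfl θ hθ hT θ hθ hf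
  refine ⟨indFun N θ, hirr, ?_⟩
  apply charDegree_eq_of_apply_one
  rw [indFun_one']
  have h1 : θ 1 = ψ 1 := by
    show ((a 1 : ℂˣ) : ℂ) * ψ 1 = ψ 1
    rw [map_one, Units.val_one, one_mul]
  rw [h1, apply_one_eq_charDegree ψ hψ]
  push_cast
  rfl

/-- **Isaacs 12.4** (in the form needed): if `G ⧸ M` is a "Frobenius group" with abelian kernel
`N ⧸ M` of exponent `q` and `ψ ∈ Irr(N)`, then `|G : N| ψ(1)` is a character degree of `G` or
`q ∣ ψ(1)`. -/
theorem isaacs_12_4 [Fintype G] [Fintype N] (M : Subgroup G) [hM : M.Normal] (hMN : M ≤ N)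
    (hne : M ≠ N) (hab : ∀ a ∈ N, ∀ b ∈ N, a * b * a⁻¹ * b⁻¹ ∈ M)
    (hfp : ∀ g, g ∉ N → ∀ n ∈ N, g * n * g⁻¹ * n⁻¹ ∈ M → n ∈ M)
    (q : ℕ) (hq : q.Prime) (hexp : ∀ a ∈ N, a ^ q ∈ M)
    (ψ : N → ℂ) (hψ : IsIrrCharacter N ψ) :
    (∃ χ : G → ℂ, IsIrrCharacter G χ ∧ charDegree χ = N.index * charDegree ψ) ∨
      q ∣ charDegree ψ := by
  letI := linAction N
  have D := twistData N M hab hfp
  have hcl := isClassFunction_of_isCharacter (isCharacter_of_irr hψ)
  rcases D.exists_regular_or_stable ψ (fun g hg a _ => conjFun_smul_of_mem N hcl hg a) with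
    hst | ⟨a, -, hreg⟩
  · right
    exact dvd_degree_of_stable N M hMN hne hab q hq hexp ψ hψ hst
  · left
    exact exists_irr_of_regular N ψ hψ a hreg

end chars

end Cfsg.Agent.Lib.H26.DegGraph
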