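import Mathlib
import Cfsg.Prelude.Def_DegreeGraph
import Cfsg.Agent.Lib.H26.DegGraphA
import Cfsg.Agent.Lib.H26.DegGraphC
import Cfsg.Agent.Lib.H24.PGalConj1
import Cfsg.Agent.Lib.H24.InvOverD
import Cfsg.Agent.Lib.H12.CharSumIrr

/-!
# Degree graph of a solvable group, part D: the two cases and the graph argument (helper26)
-/

set_option autoImplicit false

namespace Cfsg.Agent.Lib.H26.DegGraph

open Cfsg Cfsg.Agent.Lib.L0 Cfsg.Agent.Lib.H23 Cfsg.Agent.Lib.H24

section general

variable {G : Type*} [Group G] [Fintype G]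

theorem eq_zero_of_isCharacter_of_apply_one {f : G → ℂ} (hf : IsCharacter G f) (h : f 1 = 0) :
    f = 0 := by
  obtain ⟨n, ρ, rfl⟩ := hf
  apply char_eq_zero_of_finrank_eq_zero
  rw [Representation.char_one] at h
  exact_mod_cast h

/-- The degree of an irreducible constituent of the restriction to a normal subgroup divides the
degree. -/
theorem charDegree_dvd_of_constituent (H : Subgroup G) [hN : H.Normal] [Fintype H]
    {χ : G → ℂ} (hχ : IsIrrCharacter G χ) {ϑ : H → ℂ} (hϑ : IsIrrCharacter H ϑ)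
    (hcon : classInner (fun n : H => χ n) ϑ ≠ 0) : charDegree ϑ ∣ charDegree χ := by
  classical
  set T : Subgroup G := H23.inertia H ϑ with hTdef
  have : Fintype T := Fintype.ofFinite _
  have hHT : H ≤ T := le_inertia H (isClassFunction_of_isCharacter (isCharacter_of_irr hϑ))
  obtain ⟨ψ, hψ, hind, hmult⟩ :=
    clifford_correspondence H T hHT ϑ hϑ (fun g => Iff.rfl) χ hχ hcon
  have hcon' : classInner (resTo H T hHT ψ) ϑ ≠ 0 := by rw [hmult]; exact hcon
  have hres := restrict_inertia_eq_smul H T hHT ϑ hϑ (fun g hg => hg) ψ hψ hcon'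
  obtain ⟨fn, hfn⟩ := classInner_char_irr_nat
    (isCharacter_resTo H T hHT (isCharacter_of_irr hψ)) hϑ
  have h1 : χ 1 = (T.index : ℂ) * ψ 1 := by rw [← hind, indFun_one']
  have h2 : ψ 1 = (fn : ℂ) * ϑ 1 := by
    have := congrFun hres 1
    rw [hfn] at this
    simp only [resTo, Pi.smul_apply, smul_eq_mul] at this
    exact this
  have h3 : ϑ 1 = (charDegree ϑ : ℂ) := apply_one_eq_charDegree ϑ hϑ
  have h4 : charDegree χ = T.index * (fn * charDegree ϑ) := by
    apply charDegree_eq_of_apply_one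
    rw [h1, h2, h3]
    push_cast
    ring
  rw [h4]
  exact Dvd.intro_left (T.index * fn) (by ring)

/-- If `p ∤ χ(1)` and `|G : M|` is a power of `p` then `χ_M` is irreducible. -/
theorem isIrrCharacter_restrict_of_coprime (M : Subgroup G) [hM : M.Normal] [Fintype M]
    (p k : ℕ) (hp : p.Prime) (hidx : M.index = p ^ k) {χ : G → ℂ} (hχ : IsIrrCharacter G χ)
    (hpχ : ¬ p ∣ charDegree χ) : IsIrrCharacter M (fun m : M => χ m) := by
  classical
  have hχM : IsCharacter M (fun m : M => χ m) := isCharacter_restrict M (isCharacter_of_irr hχ)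
  have hχ1 : χ 1 = (charDegree χ : ℂ) := apply_one_eq_charDegree χ hχ
  have hpos : 0 < charDegree χ := charDegree_pos χ hχ
  have h1 : (fun m : M => χ m) 1 ≠ 0 := by
    show χ ((1 : M) : G) ≠ 0
    rw [Subgroup.coe_one, hχ1]
    exact_mod_cast hpos.ne'
  obtain ⟨θ, hθ, hcon⟩ := exists_irr_constituent hχM h1
  have hdvd := degree_dvd_index_mul M hχ hθ hcon
  rw [hidx] at hdvd
  have hcop : Nat.Coprime (charDegree χ) (p ^ k) :=
    Nat.Coprime.pow_right k ((Nat.Prime.coprime_iff_not_dvd hp).mpr hpχ).symm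
  have hdvd' : charDegree χ ∣ charDegree θ := hcop.dvd_of_dvd_mul_left hdvd
  have hθ1 : θ 1 = (charDegree θ : ℂ) := apply_one_eq_charDegree θ hθ
  have hθpos : 0 < charDegree θ := charDegree_pos θ hθ
  have hsub : IsCharacter M ((fun m : M => χ m) - θ) := Cfsg.Agent.Lib.H12.CharSumIrr.isCharacter_sub_irr hχM hθ hcon
  obtain ⟨n, ρ, hρ⟩ := hsub
  have hn : ((fun m : M => χ m) - θ) 1 = (n : ℂ) := by
    rw [← hρ, Representation.char_one, Module.finrank_fin_fun]
  have hn' : (charDegree χ : ℂ) - (charDegree θ : ℂ) = (n : ℂ) := by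
    rw [← hn, Pi.sub_apply, hθ1]
    show _ = χ ((1 : M) : G) - _
    rw [Subgroup.coe_one, hχ1]
  have hle : charDegree θ ≤ charDegree χ := by
    have : (charDegree χ : ℂ) = (charDegree θ + n : ℕ) := by
      push_cast
      rw [← hn']
      ring
    have := Nat.cast_injective this
    omega
  have heq : charDegree θ = charDegree χ := le_antisymm hle (Nat.le_of_dvd hθpos hdvd')
  have hzero : (fun m : M => χ m) - θ = 0 := by
    apply eq_zero_of_isCharacter_of_apply_one ⟨n, ρ, hρ⟩
    rw [hn, ← hn', heq, sub_self]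
  have : (fun m : M => χ m) = θ := sub_eq_zero.mp hzero
  rw [this]
  exact hθ

end general

section cases

variable {G : Type*} [Group G] [Fintype G]

open Cfsg.Agent.Lib.H24.PGalConj in
/-- The case where `G ⧸ M` is a nonabelian `p`-group: `p` divides some degree and every other
prime dividing a degree is adjacent to `p`. -/
theorem pcase (M : Subgroup G) [hM : M.Normal] (hMc : ¬ commutator G ≤ M) (p k : ℕ)
    (hp : p.Prime) (hidx : M.index = p ^ k) :
    (∃ β : IrrCharacter G, p ∣ charDegree (β : G → ℂ)) ∧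
      ∀ χ : IrrCharacter G, ∀ r : ℕ, r.Prime → r ∣ charDegree (χ : G → ℂ) → r ≠ p →
        ∃ χ' : IrrCharacter G, r * p ∣ charDegree (χ' : G → ℂ) := by
  classical
  have : Fintype M := Fintype.ofFinite _
  obtain ⟨c, hc, hcM⟩ := SetLike.not_le_iff_exists.mp hMc
  obtain ⟨β, hβker, -, hβdeg⟩ := exists_nonlinear M hc hcM
  have hβM : ∀ y : M, (β : G → ℂ) y = (β : G → ℂ) 1 := fun y => mem_ker.mp (hβker y.2)
  have hβ1 : (β : G → ℂ) 1 = (charDegree (β : G → ℂ) : ℂ) := apply_one_eq_charDegree _ β.2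
  have hβpos : 0 < charDegree (β : G → ℂ) := charDegree_pos _ β.2
  -- `β(1)` divides `|G : M|`
  have hone : IsIrrCharacter M (1 : M → ℂ) := L0.isIrrCharacter_one
  have hcon : classInner (fun m : M => (β : G → ℂ) m) (1 : M → ℂ) ≠ 0 := by
    unfold classInner
    have h1 : ∀ m : M, (β : G → ℂ) m * (starRingEnd ℂ) ((1 : M → ℂ) m) = (β : G → ℂ) 1 := by
      intro m
      rw [hβM m, Pi.one_apply, map_one, mul_one]
    rw [Finset.sum_congr rfl (fun m _ => h1 m), Finset.sum_const, Finset.card_univ,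
      nsmul_eq_mul, ← Nat.card_eq_fintype_card, ← mul_assoc, inv_mul_cancel₀, one_mul, hβ1]
    · exact_mod_cast hβpos.ne'
    · exact_mod_cast (Nat.card_pos (α := M)).ne'
  have hdvd := degree_dvd_index_mul M β.2 hone hcon
  have hdeg1 : charDegree (1 : M → ℂ) = 1 := charDegree_eq_of_apply_one (by simp)
  rw [hdeg1, mul_one, hidx] at hdvd
  obtain ⟨j, -, hj⟩ := (Nat.dvd_prime_pow hp).mp hdvd
  have hpβ : p ∣ charDegree (β : G → ℂ) := by
    rw [hj]
    rcases j with _ | j
    · exfalso; apply hβdeg; rw [hj, pow_zero]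
    · exact Dvd.intro_left (p ^ j) (by rw [pow_succ])
  refine ⟨⟨β, hpβ⟩, ?_⟩
  intro χ r hr hrχ hrp
  have hcop : Nat.Coprime r p := (Nat.coprime_primes hr hp).mpr hrp
  by_cases hpχ : p ∣ charDegree (χ : G → ℂ)
  · exact ⟨χ, hcop.mul_dvd_of_dvd_of_dvd hrχ hpχ⟩
  · have hres := isIrrCharacter_restrict_of_coprime M p k hp hidx χ.2 hpχ
    have hirr := Cfsg.Agent.Lib.H24.InvOver.isIrrCharacter_mul_of_trivial_on M (χ : G → ℂ) χ.2 hres β hβM
    refine ⟨⟨(β : G → ℂ) * (χ : G → ℂ), hirr⟩, ?_⟩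
    have hdeg : charDegree ((β : G → ℂ) * (χ : G → ℂ)) =
        charDegree (β : G → ℂ) * charDegree (χ : G → ℂ) := by
      apply charDegree_eq_of_apply_one
      rw [Pi.mul_apply, hβ1, apply_one_eq_charDegree _ χ.2]
      push_cast
      rfl
    show r * p ∣ charDegree ((β : G → ℂ) * (χ : G → ℂ))
    rw [hdeg, mul_comm r p]
    exact Nat.mul_dvd_mul hpβ hrχ

/-- The Frobenius case. -/
theorem fcase (M N : Subgroup G) [hM : M.Normal] [hN : N.Normal] (hMN : M ≤ N) (hne : M ≠ N)
    (hab : ∀ a ∈ N, ∀ b ∈ N, a * b * a⁻¹ * b⁻¹ ∈ M)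
    (hfp : ∀ g, g ∉ N → ∀ n ∈ N, g * n * g⁻¹ * n⁻¹ ∈ M → n ∈ M)
    (q : ℕ) (hq : q.Prime) (hexp : ∀ a ∈ N, a ^ q ∈ M) :
    (∃ χ : IrrCharacter G, charDegree (χ : G → ℂ) = N.index) ∧
      ∀ χ : IrrCharacter G, ∀ r : ℕ, r.Prime → r ∣ charDegree (χ : G → ℂ) →
        r ∣ N.index ∨ q ∣ charDegree (χ : G → ℂ) ∨
          ∃ χ' : IrrCharacter G, N.index * r ∣ charDegree (χ' : G → ℂ) := by
  classical
  have : Fintype N := Fintype.ofFinite _
  constructor
  · have hone : IsIrrCharacter N (1 : N → ℂ) := L0.isIrrCharacter_one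
    have hdeg1 : charDegree (1 : N → ℂ) = 1 := charDegree_eq_of_apply_one (by simp)
    rcases isaacs_12_4 N M hMN hne hab hfp q hq hexp (1 : N → ℂ) hone with ⟨χ, hχ, hd⟩ | hd
    · exact ⟨⟨χ, hχ⟩, by rw [hd, hdeg1, mul_one]⟩
    · exfalso
      rw [hdeg1] at hd
      exact hq.one_lt.ne' (Nat.dvd_one.mp hd)
  · intro χ r hr hrχ
    have hχN : IsCharacter N (fun n : N => (χ : G → ℂ) n) :=
      isCharacter_restrict N (isCharacter_of_irr χ.2)
    have hχ1 : (χ : G → ℂ) 1 = (charDegree (χ : G → ℂ) : ℂ) := apply_one_eq_charDegree _ χ.2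
    have hpos : 0 < charDegree (χ : G → ℂ) := charDegree_pos _ χ.2
    have h1 : (fun n : N => (χ : G → ℂ) n) 1 ≠ 0 := by
      show (χ : G → ℂ) ((1 : N) : G) ≠ 0
      rw [Subgroup.coe_one, hχ1]
      exact_mod_cast hpos.ne'
    obtain ⟨ψ, hψ, hcon⟩ := exists_irr_constituent hχN h1
    have hd1 := degree_dvd_index_mul N χ.2 hψ hcon
    have hd2 := charDegree_dvd_of_constituent N χ.2 hψ hcon
    by_cases hrψ : r ∣ charDegree ψ
    · rcases isaacs_12_4 N M hMN hne hab hfp q hq hexp ψ hψ with ⟨χ', hχ', hd⟩ | hd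
      · right; right
        exact ⟨⟨χ', hχ'⟩, by rw [hd]; exact Nat.mul_dvd_mul_left _ hrψ⟩
      · right; left
        exact hd.trans hd2
    · left
      have h2 : r ∣ N.index * charDegree ψ := hrχ.trans hd1
      exact ((Nat.Prime.dvd_mul hr).mp h2).resolve_right hrψ

end cases

section graph

variable {V : Type*}

/-- A graph in which every vertex is reachable from one of two given vertices has at most two
connected components. -/
theorem card_components_le_two (Γ : SimpleGraph V) (a b : V)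
    (h : ∀ v : V, Γ.Reachable a v ∨ Γ.Reachable b v) : Nat.card Γ.ConnectedComponent ≤ 2 := by
  have hsurj : Function.Surjective
      (fun t : Bool => if t then Γ.connectedComponentMk a else Γ.connectedComponentMk b) := by
    intro c
    induction c using SimpleGraph.ConnectedComponent.ind with
    | h v =>
      rcases h v with h1 | h1
      · exact ⟨true, by simpa using SimpleGraph.ConnectedComponent.sound h1⟩
      · exact ⟨false, by simpa using SimpleGraph.ConnectedComponent.sound h1⟩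
  have := Nat.card_le_card_of_surjective _ hsurj
  simpa using this

theorem card_components_of_isEmpty [IsEmpty V] (Γ : SimpleGraph V) :
    Nat.card Γ.ConnectedComponent ≤ 2 := by
  have : IsEmpty Γ.ConnectedComponent := by
    constructor
    intro c
    induction c using SimpleGraph.ConnectedComponent.ind with
    | h v => exact isEmptyElim v
  rw [Nat.card_of_isEmpty]
  exact Nat.zero_le _

end graph

end Cfsg.Agent.Lib.H26.DegGraph
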