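import Mathlib

set_option autoImplicit false

/-!
The stabilizer of a descending chain of subgroups of a finite `p`-group `A`, inside `Aut(A)`, is a
`p`-group (helper26).
-/

namespace Cfsg.Agent.Lib.H26.ChainStab

variable {A : Type*} [Group A]

/-- `α` moves every element of `c i` by an element of `c (i+1)`. -/
def Stabilizes (c : ℕ → Subgroup A) (α : MulAut A) : Prop :=
  ∀ i : ℕ, ∀ x ∈ c i, x⁻¹ * α x ∈ c (i + 1)

theorem Stabilizes.map_mem {c : ℕ → Subgroup A} (hmono : ∀ i, c (i + 1) ≤ c i) {α : MulAut A}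
    (h : Stabilizes c α) {i : ℕ} {x : A} (hx : x ∈ c i) : α x ∈ c i := by
  have h1 := hmono i (h i x hx)
  have : α x = x * (x⁻¹ * α x) := by group
  rw [this]
  exact (c i).mul_mem hx h1

theorem Stabilizes.one (c : ℕ → Subgroup A) : Stabilizes c (1 : MulAut A) := by
  intro i x _
  simp [(c (i + 1)).one_mem]

theorem Stabilizes.mul {c : ℕ → Subgroup A} (hmono : ∀ i, c (i + 1) ≤ c i) {α β : MulAut A}
    (hα : Stabilizes c α) (hβ : Stabilizes c β) : Stabilizes c (α * β) := by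
  intro i x hx
  have h1 := hβ i x hx
  have h2 := hα i (β x) (hβ.map_mem hmono hx)
  have : x⁻¹ * (α * β) x = (x⁻¹ * β x) * ((β x)⁻¹ * α (β x)) := by
    rw [MulAut.mul_apply]; group
  rw [this]
  exact (c (i + 1)).mul_mem h1 h2

theorem Stabilizes.pow {c : ℕ → Subgroup A} (hmono : ∀ i, c (i + 1) ≤ c i) {α : MulAut A}
    (hα : Stabilizes c α) (n : ℕ) : Stabilizes c (α ^ n) := by
  induction n with
  | zero => rw [pow_zero]; exact Stabilizes.one c
  | succ n ih => rw [pow_succ]; exact ih.mul hmono hα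

theorem Stabilizes.inv [Finite A] {c : ℕ → Subgroup A} (hmono : ∀ i, c (i + 1) ≤ c i)
    {α : MulAut A} (hα : Stabilizes c α) : Stabilizes c α⁻¹ := by
  -- `α⁻¹` is a power of `α`
  have : α⁻¹ = α ^ (orderOf α - 1) := by
    have hpos : 0 < orderOf α := orderOf_pos α
    rw [inv_eq_iff_mul_eq_one, ← pow_succ', Nat.sub_add_cancel hpos, pow_orderOf_eq_one]
  rw [this]
  exact hα.pow hmono _

/-- The stabilizer of the chain, as a subgroup of `Aut(A)`. -/
def chainStab [Finite A] (c : ℕ → Subgroup A) (hmono : ∀ i, c (i + 1) ≤ c i) :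
    Subgroup (MulAut A) where
  carrier := {α | Stabilizes c α}
  one_mem' := Stabilizes.one c
  mul_mem' := fun ha hb => Stabilizes.mul hmono ha hb
  inv_mem' := fun ha => Stabilizes.inv hmono ha

theorem mem_chainStab [Finite A] {c : ℕ → Subgroup A} {hmono : ∀ i, c (i + 1) ≤ c i}
    {α : MulAut A} : α ∈ chainStab c hmono ↔ Stabilizes c α := Iff.rfl

/-- An automorphism stabilizing a chain that reaches `⊥` after `n` steps has `p`-power order. -/
theorem pow_eq_one_of_stabilizes [Finite A] {p : ℕ} [Fact p.Prime] (hA : IsPGroup p A)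
    {c : ℕ → Subgroup A} (hmono : ∀ i, c (i + 1) ≤ c i) (n : ℕ) (h0 : c 0 = ⊤) (hn : c n = ⊥)
    {α : MulAut A} (hα : Stabilizes c α) : ∃ k : ℕ, α ^ p ^ k = 1 := by
  obtain ⟨m, hm⟩ := (IsPGroup.iff_card (p := p) (G := A)).1 hA
  have hq : ∀ y : A, y ^ (p ^ m) = 1 := by
    intro y
    rw [← hm]
    exact pow_card_eq_one'
  have key : ∀ j : ℕ, j ≤ n → ∀ x ∈ c (n - j), (α ^ ((p ^ m) ^ j)) x = x := by
    intro j
    induction j with
    | zero =>
      intro _ x hx
      rw [Nat.sub_zero, hn, Subgroup.mem_bot] at hx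
      rw [hx, map_one]
    | succ j ih =>
      intro hj x hx
      have hj' : j ≤ n := Nat.le_of_succ_le hj
      obtain ⟨β, hβ⟩ : ∃ β : MulAut A, β = α ^ ((p ^ m) ^ j) := ⟨_, rfl⟩
      have hβs : Stabilizes c β := by rw [hβ]; exact hα.pow hmono _
      have hidx : n - (j + 1) + 1 = n - j := by omega
      have hy : x⁻¹ * β x ∈ c (n - j) := by
        have := hβs (n - (j + 1)) x hx
        rwa [hidx] at this
      have ih' : ∀ y ∈ c (n - j), β y = y := by rw [hβ]; exact ih hj'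
      have hfix : ∀ k : ℕ, β ((x⁻¹ * β x) ^ k) = (x⁻¹ * β x) ^ k := fun k =>
        ih' _ ((c (n - j)).pow_mem hy k)
      have hpow : ∀ k : ℕ, (β ^ k) x = x * (x⁻¹ * β x) ^ k := by
        intro k
        induction k with
        | zero => simp
        | succ k ihk =>
          calc (β ^ (k + 1)) x = β ((β ^ k) x) := by rw [pow_succ', MulAut.mul_apply]
            _ = β x * β ((x⁻¹ * β x) ^ k) := by rw [ihk, map_mul]
            _ = β x * (x⁻¹ * β x) ^ k := by rw [hfix k]
            _ = x * (x⁻¹ * β x) ^ (k + 1) := by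
              rw [pow_succ', ← mul_assoc, mul_inv_cancel_left]
      have : α ^ ((p ^ m) ^ (j + 1)) = β ^ (p ^ m) := by
        rw [hβ, pow_succ, pow_mul]
      rw [this, hpow, hq, mul_one]
  refine ⟨m * n, ?_⟩
  ext x
  have := key n le_rfl x (by rw [Nat.sub_self, h0]; exact Subgroup.mem_top x)
  rw [pow_mul, this]
  rfl

/-- A subgroup of `Aut(A)` all of whose elements stabilize the chain is a `p`-group. -/
theorem isPGroup_of_stabilizes [Finite A] {p : ℕ} [Fact p.Prime] (hA : IsPGroup p A)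
    {c : ℕ → Subgroup A} (hmono : ∀ i, c (i + 1) ≤ c i) (n : ℕ) (h0 : c 0 = ⊤) (hn : c n = ⊥)
    (H : Subgroup (MulAut A)) (hH : ∀ α ∈ H, Stabilizes c α) : IsPGroup p H := by
  rintro ⟨α, hα⟩
  obtain ⟨k, hk⟩ := pow_eq_one_of_stabilizes hA hmono n h0 hn (hH α hα)
  exact ⟨k, Subtype.ext hk⟩

/-- Closure version: if the generators stabilize the chain, the generated subgroup is a
`p`-group. -/
theorem isPGroup_closure_of_stabilizes [Finite A] {p : ℕ} [Fact p.Prime] (hA : IsPGroup p A)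
    {c : ℕ → Subgroup A} (hmono : ∀ i, c (i + 1) ≤ c i) (n : ℕ) (h0 : c 0 = ⊤) (hn : c n = ⊥)
    (T : Set (MulAut A)) (hT : ∀ α ∈ T, Stabilizes c α) : IsPGroup p (Subgroup.closure T) := by
  apply isPGroup_of_stabilizes hA hmono n h0 hn
  have : Subgroup.closure T ≤ chainStab c hmono := by
    rw [Subgroup.closure_le]
    exact hT
  exact fun α hα => this hα

/-- The three-step chain `⊤ ≥ W ≥ X ≥ ⊥`. -/
def chain3 (W X : Subgroup A) : ℕ → Subgroup A
  | 0 => ⊤
  | 1 => W
  | 2 => X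
  | _ => ⊥

theorem chain3_mono {W X : Subgroup A} (hXW : X ≤ W) : ∀ i, chain3 W X (i + 1) ≤ chain3 W X i := by
  intro i
  match i with
  | 0 => exact le_top
  | 1 => exact hXW
  | 2 => exact bot_le
  | (k + 3) => exact le_rfl

theorem stabilizes_chain3 {W X : Subgroup A} {α : MulAut A} (h1 : ∀ x, x⁻¹ * α x ∈ W)
    (h2 : ∀ x ∈ W, x⁻¹ * α x ∈ X) (h3 : ∀ x ∈ X, α x = x) : Stabilizes (chain3 W X) α := by
  intro i x hx
  match i with
  | 0 => exact h1 x
  | 1 => exact h2 x hx
  | 2 =>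
    have : α x = x := h3 x hx
    rw [this]
    simp [chain3]
  | (k + 3) =>
    have hx' : x = 1 := by simpa [chain3] using hx
    rw [hx']
    simp [chain3]

/-- Three-step version. -/
theorem isPGroup_closure_chain3 [Finite A] {p : ℕ} [Fact p.Prime] (hA : IsPGroup p A)
    {W X : Subgroup A} (hXW : X ≤ W) (T : Set (MulAut A))
    (hT : ∀ α ∈ T, (∀ x, x⁻¹ * α x ∈ W) ∧ (∀ x ∈ W, x⁻¹ * α x ∈ X) ∧ ∀ x ∈ X, α x = x) :
    IsPGroup p (Subgroup.closure T) :=
  isPGroup_closure_of_stabilizes hA (chain3_mono hXW) 3 rfl rfl T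
    (fun α hα => stabilizes_chain3 (hT α hα).1 (hT α hα).2.1 (hT α hα).2.2)

end Cfsg.Agent.Lib.H26.ChainStab
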