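import Mathlib
import Cfsg.Agent.Lib.H26.ChainStab

set_option autoImplicit false

/-!
A group `𝒴` of automorphisms of a finite `p`-group `P` leaving invariant a descending chain with
cyclic factors (helper26): commutators of elements of `𝒴` stabilize the chain (act trivially on all
factors), and so does the `(p-1)`-st power of every element of `𝒴` of order prime to `p`.
-/

namespace Cfsg.Agent.Lib.H26.CycChain

open Cfsg.Agent.Lib.H26.ChainStab

universe u

variable {P : Type u} [Group P]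

/-- Invariance of a subgroup under a group of automorphisms. -/
def InvUnder (𝒴 : Subgroup (MulAut P)) (H : Subgroup P) : Prop := ∀ y ∈ 𝒴, ∀ h ∈ H, y h ∈ H

/-- Restriction of a group of automorphisms to an invariant subgroup. -/
def resAutH (𝒴 : Subgroup (MulAut P)) (N : Subgroup P) (hN : InvUnder 𝒴 N) : ↥𝒴 →* MulAut ↥N where
  toFun y :=
    { toFun := fun n => ⟨(y : MulAut P) n, hN y y.2 n n.2⟩
      invFun := fun n => ⟨(y : MulAut P)⁻¹ n, hN _ (inv_mem y.2) n n.2⟩
      left_inv := by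
        intro n
        apply Subtype.ext
        show (y : MulAut P)⁻¹ ((y : MulAut P) n) = n
        rw [← MulAut.mul_apply, inv_mul_cancel, MulAut.one_apply]
      right_inv := by
        intro n
        apply Subtype.ext
        show (y : MulAut P) ((y : MulAut P)⁻¹ n) = n
        rw [← MulAut.mul_apply, mul_inv_cancel, MulAut.one_apply]
      map_mul' := by
        intro a b
        apply Subtype.ext
        show (y : MulAut P) ((a : P) * (b : P)) = (y : MulAut P) a * (y : MulAut P) b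
        rw [map_mul] }
  map_one' := by
    ext n
    rfl
  map_mul' := by
    intro a b
    ext n
    rfl

theorem resAutH_apply (𝒴 : Subgroup (MulAut P)) (N : Subgroup P) (hN : InvUnder 𝒴 N) (y : ↥𝒴)
    (n : ↥N) : ((resAutH 𝒴 N hN y n : ↥N) : P) = (y : MulAut P) n := rfl

/-- The action induced on a quotient by an invariant normal subgroup. -/
def quotAutH {Y X : Type*} [Group Y] [Group X] (φ : Y →* MulAut X) (K : Subgroup X) [K.Normal]
    (hK : ∀ y : Y, ∀ k ∈ K, φ y k ∈ K) : Y →* MulAut (X ⧸ K) where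
  toFun y :=
    { toFun := QuotientGroup.map K K (φ y).toMonoidHom
        (fun k hk => Subgroup.mem_comap.mpr (hK y k hk))
      invFun := QuotientGroup.map K K (φ y⁻¹).toMonoidHom
        (fun k hk => Subgroup.mem_comap.mpr (hK y⁻¹ k hk))
      left_inv := by
        intro q
        induction q using QuotientGroup.induction_on with
        | H x =>
          show ((φ y⁻¹ (φ y x) : X) : X ⧸ K) = (x : X ⧸ K)
          rw [← MulAut.mul_apply, ← map_mul, inv_mul_cancel, map_one, MulAut.one_apply]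
      right_inv := by
        intro q
        induction q using QuotientGroup.induction_on with
        | H x =>
          show ((φ y (φ y⁻¹ x) : X) : X ⧸ K) = (x : X ⧸ K)
          rw [← MulAut.mul_apply, ← map_mul, mul_inv_cancel, map_one, MulAut.one_apply]
      map_mul' := by
        intro a b
        rw [map_mul] }
  map_one' := by
    ext q
    induction q using QuotientGroup.induction_on with
    | H x =>
      show ((φ 1 x : X) : X ⧸ K) = (x : X ⧸ K)
      rw [map_one, MulAut.one_apply]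
  map_mul' := by
    intro a b
    ext q
    induction q using QuotientGroup.induction_on with
    | H x =>
      show ((φ (a * b) x : X) : X ⧸ K) = ((φ a (φ b x) : X) : X ⧸ K)
      rw [map_mul, MulAut.mul_apply]

theorem quotAutH_mk {Y X : Type*} [Group Y] [Group X] (φ : Y →* MulAut X) (K : Subgroup X)
    [K.Normal] (hK : ∀ y : Y, ∀ k ∈ K, φ y k ∈ K) (y : Y) (x : X) :
    quotAutH φ K hK y (x : X ⧸ K) = ((φ y x : X) : X ⧸ K) := rfl

/-- The hypotheses on the chain. -/
structure CycData (𝒴 : Subgroup (MulAut P)) (cc : ℕ → Subgroup P) : Prop where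
  mono : ∀ i, cc (i + 1) ≤ cc i
  inv : ∀ i, InvUnder 𝒴 (cc i)
  normal : ∀ i, ((cc (i + 1)).subgroupOf (cc i)).Normal
  cyclic : ∀ i [((cc (i + 1)).subgroupOf (cc i)).Normal],
    IsCyclic (↥(cc i) ⧸ (cc (i + 1)).subgroupOf (cc i))

variable {𝒴 : Subgroup (MulAut P)} {cc : ℕ → Subgroup P}

/-- The induced action on the `i`-th factor. -/
def factorHom (h : CycData 𝒴 cc) (i : ℕ) [((cc (i + 1)).subgroupOf (cc i)).Normal] :
    ↥𝒴 →* MulAut (↥(cc i) ⧸ (cc (i + 1)).subgroupOf (cc i)) :=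
  quotAutH (resAutH 𝒴 (cc i) (h.inv i)) ((cc (i + 1)).subgroupOf (cc i)) (by
    intro y k hk
    rw [Subgroup.mem_subgroupOf] at hk ⊢
    rw [resAutH_apply]
    exact h.inv (i + 1) y y.2 _ hk)

/-- An element of `𝒴` acting trivially on every factor stabilizes the chain. -/
theorem stabilizes_of_factorHom_eq_one (h : CycData 𝒴 cc) {a : MulAut P} (ha : a ∈ 𝒴)
    (h1 : ∀ i [((cc (i + 1)).subgroupOf (cc i)).Normal], factorHom h i ⟨a, ha⟩ = 1) :
    Stabilizes cc a := by
  intro i x hx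
  haveI := h.normal i
  have h2 := h1 i
  have h3 : factorHom h i ⟨a, ha⟩ ((⟨x, hx⟩ : cc i) : ↥(cc i) ⧸ (cc (i + 1)).subgroupOf (cc i)) =
      ((⟨x, hx⟩ : cc i) : ↥(cc i) ⧸ (cc (i + 1)).subgroupOf (cc i)) := by
    rw [h2]; rfl
  unfold factorHom at h3
  rw [quotAutH_mk, eq_comm, QuotientGroup.eq, Subgroup.mem_subgroupOf] at h3
  exact h3

theorem stabilizes_commutator (h : CycData 𝒴 cc) {a b : MulAut P} (ha : a ∈ 𝒴) (hb : b ∈ 𝒴) :
    Stabilizes cc (a * b * a⁻¹ * b⁻¹) := by
  have hmem : a * b * a⁻¹ * b⁻¹ ∈ 𝒴 :=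
    𝒴.mul_mem (𝒴.mul_mem (𝒴.mul_mem ha hb) (𝒴.inv_mem ha)) (𝒴.inv_mem hb)
  apply stabilizes_of_factorHom_eq_one h hmem
  intro i _
  haveI := h.cyclic i
  have e : (⟨a * b * a⁻¹ * b⁻¹, hmem⟩ : 𝒴) = ⟨a, ha⟩ * ⟨b, hb⟩ * ⟨a, ha⟩⁻¹ * ⟨b, hb⟩⁻¹ := rfl
  rw [e, map_mul, map_mul, map_mul, map_inv, map_inv]
  have hcomm : ∀ u v : MulAut (↥(cc i) ⧸ (cc (i + 1)).subgroupOf (cc i)), u * v = v * u := by
    intro u v
    apply (IsCyclic.mulAutMulEquiv _).injective
    rw [map_mul, map_mul, mul_comm]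
  rw [hcomm (factorHom h i ⟨a, ha⟩) (factorHom h i ⟨b, hb⟩)]
  group

theorem stabilizes_pow [Finite P] {p : ℕ} [hp : Fact p.Prime] (hP : IsPGroup p P)
    (h : CycData 𝒴 cc) {a : MulAut P} (ha : a ∈ 𝒴) {n : ℕ} (hn : n.Coprime p) (han : a ^ n = 1) :
    Stabilizes cc (a ^ (p - 1)) := by
  have hmem : a ^ (p - 1) ∈ 𝒴 := 𝒴.pow_mem ha _
  apply stabilizes_of_factorHom_eq_one h hmem
  intro i _
  haveI := h.cyclic i
  have e : (⟨a ^ (p - 1), hmem⟩ : 𝒴) = ⟨a, ha⟩ ^ (p - 1) := rfl
  rw [e, map_pow]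
  set Q := ↥(cc i) ⧸ (cc (i + 1)).subgroupOf (cc i) with hQ
  set u := factorHom h i ⟨a, ha⟩ with hu
  have hun : u ^ n = 1 := by
    rw [hu, ← map_pow]
    have : (⟨a, ha⟩ : 𝒴) ^ n = 1 := Subtype.ext han
    rw [this, map_one]
  have hQp : IsPGroup p Q := (hP.to_subgroup (cc i)).to_quotient _
  obtain ⟨k, hk⟩ := hQp.exists_card_eq
  have hfinA : Finite (MulAut Q) := inferInstance
  have hcardA : Nat.card (MulAut Q) = Nat.totient (p ^ k) := by
    rw [IsCyclic.card_mulAut, hk]
  have ho1 : orderOf u ∣ n := orderOf_dvd_of_pow_eq_one hun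
  have ho2 : orderOf u ∣ Nat.totient (p ^ k) := by
    rw [← hcardA]; exact orderOf_dvd_natCard u
  have ho3 : orderOf u ∣ p - 1 := by
    rcases Nat.eq_zero_or_pos k with hk0 | hk0
    · rw [hk0, pow_zero, Nat.totient_one] at ho2
      rw [Nat.dvd_one.1 ho2]; exact one_dvd _
    · rw [Nat.totient_prime_pow hp.out hk0] at ho2
      have hco : (orderOf u).Coprime (p ^ (k - 1)) :=
        Nat.Coprime.pow_right _ (Nat.Coprime.coprime_dvd_left ho1 hn)
      exact hco.dvd_of_dvd_mul_left ho2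
  exact orderOf_dvd_iff_pow_eq_one.1 ho3

end Cfsg.Agent.Lib.H26.CycChain
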