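import Mathlib
import Cfsg.Prelude.Def_FusionSystem
import Cfsg.Agent.Lib.H25.Fusion
import Cfsg.Agent.Lib.H25.Saturation
import Cfsg.Agent.Lib.H25.SatEquiv
import Cfsg.Agent.Lib.H25.Alperin
import Cfsg.Agent.Lib.H25.Hyperfocal
import Cfsg.Agent.Lib.H25.Essential

set_option autoImplicit false

/-!
The conjugacy class of an essential subgroup cannot be omitted from a generating family
(converse of the Alperin--Goldschmidt theorem), helper26.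
-/

namespace Cfsg.Agent.Lib.H26

open Cfsg Cfsg.FusionSystem Cfsg.Agent.Lib.H25

variable {Ω : Type*} [Group Ω] {S : Subgroup Ω}

/-- Function-level version of an automorphism of a subgroup. -/
noncomputable def aext {Q : Subgroup Ω} (μ : MulAut Q) : Ω → Ω :=
  ext1 (Q.subtype.comp μ.toMonoidHom)

theorem aext_apply {Q : Subgroup Ω} (μ : MulAut Q) {y : Ω} (hy : y ∈ Q) :
    aext μ y = ((μ ⟨y, hy⟩ : Q) : Ω) := ext1_apply_mem _ hy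

theorem aext_mem {Q : Subgroup Ω} (μ : MulAut Q) {y : Ω} (hy : y ∈ Q) : aext μ y ∈ Q := by
  rw [aext_apply μ hy]
  exact (μ ⟨y, hy⟩).2

theorem aext_mul {Q : Subgroup Ω} (μ' μ : MulAut Q) {y : Ω} (hy : y ∈ Q) :
    aext (μ' * μ) y = aext μ' (aext μ y) := by
  rw [aext_apply _ hy, aext_apply μ hy, aext_apply μ' (μ ⟨y, hy⟩).2]
  rfl

theorem aext_inv_aext {Q : Subgroup Ω} (μ : MulAut Q) {y : Ω} (hy : y ∈ Q) :
    aext μ⁻¹ (aext μ y) = y := by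
  rw [← aext_mul _ _ hy, inv_mul_cancel, aext_apply _ hy]
  rfl

/-- The relation "`f : Q₁ → Q₂` is carried by the charts `k` to an element of `H`". -/
def Good (Q : Subgroup Ω) (H : Subgroup (MulAut Q)) (k : Subgroup Ω → Ω → Ω)
    (Q₁ Q₂ : Subgroup Ω) (f : Ω → Ω) : Prop :=
  ∃ μ ∈ H, ∀ x ∈ Q₁, aext μ (k Q₁ x) = k Q₂ (f x)

theorem Good.congr {Q : Subgroup Ω} {H : Subgroup (MulAut Q)} {k : Subgroup Ω → Ω → Ω}
    {Q₁ Q₂ : Subgroup Ω} {f g : Ω → Ω} (h : Good Q H k Q₁ Q₂ f) (hfg : ∀ x ∈ Q₁, f x = g x) :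
    Good Q H k Q₁ Q₂ g := by
  obtain ⟨μ, hμ, h1⟩ := h
  exact ⟨μ, hμ, fun x hx => by rw [h1 x hx, hfg x hx]⟩

theorem Good.trans {Q : Subgroup Ω} {H : Subgroup (MulAut Q)} {k : Subgroup Ω → Ω → Ω}
    {Q₁ Q₂ Q₃ : Subgroup Ω} {f g : Ω → Ω} (hk₁ : ∀ x ∈ Q₁, k Q₁ x ∈ Q)
    (hf : ∀ x ∈ Q₁, f x ∈ Q₂) (h1 : Good Q H k Q₁ Q₂ f) (h2 : Good Q H k Q₂ Q₃ g) :
    Good Q H k Q₁ Q₃ (g ∘ f) := by
  obtain ⟨μ, hμ, h1⟩ := h1
  obtain ⟨μ', hμ', h2⟩ := h2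
  refine ⟨μ' * μ, H.mul_mem hμ' hμ, fun x hx => ?_⟩
  rw [aext_mul _ _ (hk₁ x hx), h1 x hx, h2 _ (hf x hx)]
  rfl

theorem Good.symm {Q : Subgroup Ω} {H : Subgroup (MulAut Q)} {k : Subgroup Ω → Ω → Ω}
    {Q₁ Q₂ : Subgroup Ω} {f g : Ω → Ω} (hk₁ : ∀ x ∈ Q₁, k Q₁ x ∈ Q)
    (hg : ∀ y ∈ Q₂, g y ∈ Q₁ ∧ f (g y) = y) (h1 : Good Q H k Q₁ Q₂ f) :
    Good Q H k Q₂ Q₁ g := by
  obtain ⟨μ, hμ, h1⟩ := h1
  refine ⟨μ⁻¹, H.inv_mem hμ, fun y hy => ?_⟩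
  obtain ⟨hgy, hfg⟩ := hg y hy
  have h2 := h1 (g y) hgy
  rw [hfg] at h2
  rw [← h2, aext_inv_aext _ (hk₁ _ hgy)]

theorem mem_normalizer_of_conj_mem {H : Subgroup Ω} {n : Ω} (h1 : ∀ y ∈ H, n * y * n⁻¹ ∈ H)
    (h2 : ∀ y ∈ H, n⁻¹ * y * n ∈ H) : n ∈ Subgroup.normalizer (H : Set Ω) := by
  rw [Subgroup.mem_normalizer_iff]
  intro y
  constructor
  · exact h1 y
  · intro hy
    have := h2 _ hy
    simpa [mul_assoc] using this

/-- The key lemma: an isomorphism `Q₁ → Q₂` between conjugates of `Q` that extends to a strictly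
larger subgroup is carried by normalizer charts to an extendable automorphism of `Q`. -/
theorem good_of_extends [Finite S] {p : ℕ} [Fact p.Prime] (hS : IsPGroup p S)
    {F : FusionSystem S} {Q : Subgroup Ω} (k : Subgroup Ω → Ω → Ω)
    (hk : ∀ Q₁ : Subgroup Ω, F.IsConj Q₁ Q → ∃ N' : Subgroup Ω,
      IsIso F (normalizerIn S Q₁) N' (k Q₁) ∧ N' ≤ normalizerIn S Q ∧ IsIso F Q₁ Q (k Q₁))
    {Q₁ Q₂ P P' : Subgroup Ω} {f : Ω → Ω} (hQ₁ : F.IsConj Q₁ Q) (hlt : Q₁ < P)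
    (hf : IsIso F P P' f) (hf₁ : IsIso F Q₁ Q₂ f) :
    Good Q (Subgroup.closure (extGens F Q)) k Q₁ Q₂ f := by
  have hQ₂ : F.IsConj Q₂ Q := isConj_trans F (isConj_symm F hf₁.isConj) hQ₁
  obtain ⟨N₁', hk₁N, hN₁', hk₁⟩ := hk Q₁ hQ₁
  obtain ⟨N₂', hk₂N, hN₂', hk₂⟩ := hk Q₂ hQ₂
  have hPS : P ≤ S := hf.le_left
  have hP'S : P' ≤ S := hf.le_right
  have hfinP : Finite P := finite_of_le S hPS
  have hPp : IsPGroup p P := hS.to_le hPS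
  obtain ⟨g, hgN, hgQ₁⟩ := exists_mem_normalizerIn_not_mem (S := P) hPp hlt.le hlt.ne
  set M := normalizerIn P Q₁ with hM
  have hMP : M ≤ P := inf_le_left
  have hMN : M ≤ normalizerIn S Q₁ := fun x hx => ⟨hPS hx.1, hx.2⟩
  have hQ₁M : Q₁ ≤ M := fun x hx => ⟨hlt.le hx, Subgroup.le_normalizer hx⟩
  -- `f` maps `M` into `N_S(Q₂)`
  have hfMN : ∀ m ∈ M, f m ∈ normalizerIn S Q₂ := by
    have key : ∀ m ∈ M, ∀ y ∈ Q₂, f m * y * (f m)⁻¹ ∈ Q₂ := by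
      intro m hm y hy
      obtain ⟨x, hx, rfl⟩ := hf₁.surjOn hy
      have hmx : m * x * m⁻¹ ∈ Q₁ := (Subgroup.mem_normalizer_iff.1 hm.2 x).1 hx
      have h1 : f (m * x * m⁻¹) = f m * f x * (f m)⁻¹ := by
        rw [hf.map_mul (P.mul_mem hm.1 (hlt.le hx)) (P.inv_mem hm.1),
          hf.map_mul hm.1 (hlt.le hx), hf.map_inv hm.1]
      rw [← h1]
      exact hf₁.map_mem hmx
    intro m hm
    refine ⟨hP'S (hf.map_mem hm.1), mem_normalizer_of_conj_mem (key m hm) ?_⟩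
    intro y hy
    have := key m⁻¹ (M.inv_mem hm) y hy
    rwa [hf.map_inv hm.1, inv_inv] at this
  obtain ⟨B, -, hfM, hBmem⟩ := hf.restrict hMP
  have hBN : B ≤ normalizerIn S Q₂ := by
    intro y hy
    obtain ⟨x, hx, rfl⟩ := (hBmem y).1 hy
    exact hfMN x hx
  obtain ⟨A, -, hk₁M, hAmem⟩ := hk₁N.restrict hMN
  obtain ⟨A', -, hk₂B, hA'mem⟩ := hk₂N.restrict hBN
  obtain ⟨j, hj, hj1, hj2⟩ := hk₁M.symm
  have hθ : IsIso F A A' (k Q₂ ∘ f ∘ j) := (hj.trans hfM).trans hk₂B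
  have hQA : Q ≤ A := by
    intro y hy
    obtain ⟨x, hx, rfl⟩ := hk₁.surjOn hy
    exact (hAmem _).2 ⟨x, hQ₁M hx, rfl⟩
  have hgA : k Q₁ g ∈ A := (hAmem _).2 ⟨g, hgN, rfl⟩
  have hgQ : k Q₁ g ∉ Q := by
    intro h
    obtain ⟨x, hx, hxg⟩ := hk₁.surjOn h
    have := hk₁N.injOn (hMN (hQ₁M hx)) (hMN hgN) hxg
    exact hgQ₁ (this ▸ hx)
  have hQltA : Q < A := lt_of_le_of_ne hQA (fun h => hgQ (h ▸ hgA))
  have hθval : ∀ x ∈ Q₁, (k Q₂ ∘ f ∘ j) (k Q₁ x) = k Q₂ (f x) := by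
    intro x hx
    show k Q₂ (f (j (k Q₁ x))) = _
    rw [hj1 x (hQ₁M hx)]
  have hθQ : IsIso F Q Q (k Q₂ ∘ f ∘ j) := by
    refine hθ.restrict' hQA (fun y hy => ?_) (fun z hz => ?_)
    · obtain ⟨x, hx, rfl⟩ := hk₁.surjOn hy
      rw [hθval x hx]
      exact hk₂.map_mem (hf₁.map_mem hx)
    · obtain ⟨w, hw, rfl⟩ := hk₂.surjOn hz
      obtain ⟨x, hx, rfl⟩ := hf₁.surjOn hw
      exact ⟨k Q₁ x, hk₁.map_mem hx, hθval x hx⟩
  obtain ⟨μ, hμA, hμ⟩ := exists_mem_autGroup_of_isIso F hθQ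
  have hμext : μ ∈ extGens F Q := by
    obtain ⟨φ, hφ, hφθ, -⟩ := hθ.exists_hom
    exact ⟨A, hQltA, φ, hφ, fun x => by rw [hφθ]; exact (hμ x).symm⟩
  refine ⟨μ, Subgroup.subset_closure hμext, fun x hx => ?_⟩
  rw [aext_apply μ (hk₁.map_mem hx), hμ]
  exact hθval x hx

/-- An essential subgroup is a proper subgroup of `S`. -/
theorem essential_ne_top [Finite S] {p : ℕ} [Fact p.Prime] (hS : IsPGroup p S)
    {F : FusionSystem S} (hF : F.IsSaturated p) {Q : Subgroup Ω} (hQ : F.IsEssential p Q) :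
    Q ≠ S := by
  intro hQS
  subst hQS
  obtain ⟨-, hfa⟩ := fullyNormalized_props hS hF hQ.2.1
  obtain ⟨hI, M, hM⟩ := hQ.2.2
  obtain ⟨-, R, hR⟩ := hfa
  have hfin : Finite (MulAut Q) := inferInstance
  have heq : (Inn Q).subgroupOf (F.autGroup Q) = (R : Subgroup (F.autGroup Q)) := by
    rw [hR]
    ext a
    rw [Subgroup.mem_subgroupOf, Subgroup.mem_subgroupOf, mem_autInducedBy_iff]
    constructor
    · rintro ⟨r, hr⟩
      exact ⟨r, r.2, fun x => by rw [← hr]; rfl⟩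
    · rintro ⟨g, hg, h⟩
      refine ⟨⟨g, hg⟩, ?_⟩
      ext x
      exact (h x).symm
  have h1 := hM.1
  have h2 : Nat.card (F.autGroup Q ⧸ (Inn Q).subgroupOf (F.autGroup Q)) =
      (R : Subgroup (F.autGroup Q)).index := by
    rw [Subgroup.index, heq]
  rw [h2] at h1
  exact R.not_dvd_index h1

/-- For `φ` a map of the system and `ψ` inverse to it on the range. -/
theorem ext1_inv_props {P : Subgroup Ω} {φ : P →* Ω} {ψ : φ.range →* Ω}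
    (hψφ : ∀ x : P, ψ ⟨φ x, ⟨x, rfl⟩⟩ = (x : Ω)) {y : Ω} (hy : y ∈ φ.range) :
    ext1 ψ y ∈ P ∧ ext1 φ (ext1 ψ y) = y := by
  obtain ⟨x, rfl⟩ := hy
  rw [ext1_apply_mem ψ ⟨x, rfl⟩, hψφ x]
  exact ⟨x.2, ext1_apply φ x⟩

/-- The conjugacy class of an essential subgroup cannot be omitted from a generating family. -/
theorem exists_omitting_system [Finite S] {p : ℕ} [Fact p.Prime] (hS : IsPGroup p S)
    (F : FusionSystem S) (hF : F.IsSaturated p) {Q : Subgroup Ω} (hQ : F.IsEssential p Q) :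
    ∃ E : FusionSystem S, (∀ R : Subgroup Ω, R ≤ S → ¬ F.IsConj Q R →
      F.autGroup R ≤ E.autGroup R) ∧ ¬ F ≤ E := by
  have hcen := hQ.1
  have hfn := hQ.2.1
  have hQS : Q ≤ S := hcen.1
  have hne : Q ≠ S := essential_ne_top hS hF hQ
  obtain ⟨hfc, hfa⟩ := fullyNormalized_props hS hF hfn
  have hrec := isReceptive_of_fullyCentralized hS hF hfc
  have hex : ∀ Q₁ : Subgroup Ω, ∃ f : Ω → Ω, F.IsConj Q₁ Q → ∃ N' : Subgroup Ω,
      IsIso F (normalizerIn S Q₁) N' f ∧ N' ≤ normalizerIn S Q ∧ IsIso F Q₁ Q f := by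
    intro Q₁
    by_cases h : F.IsConj Q₁ Q
    · obtain ⟨f, N', h1, h2, h3⟩ := exists_normalizer_map hS hfa hrec h
      exact ⟨f, fun _ => ⟨N', h1, h2, h3⟩⟩
    · exact ⟨id, fun h' => absurd h' h⟩
  choose k hk using hex
  set H := Subgroup.closure (extGens F Q) with hH
  have hcardlt : ∀ Q₁ : Subgroup Ω, F.IsConj Q₁ Q → Q₁ ≠ S := by
    intro Q₁ hQ₁ h
    obtain ⟨N', -, -, hiso⟩ := hk Q₁ hQ₁
    have h1 := hiso.card_eq
    rw [h] at h1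
    exact hne (Subgroup.eq_of_le_of_card_ge hQS h1.le)
  let Pr : ∀ P : Subgroup Ω, (P →* Ω) → Prop := fun P φ =>
    ∀ Q₁ Q₂ : Subgroup Ω, Q₁ ≤ P → F.IsConj Q₁ Q → IsIso F Q₁ Q₂ (ext1 φ) →
      Good Q H k Q₁ Q₂ (ext1 φ)
  have hkmem : ∀ Q₁ : Subgroup Ω, F.IsConj Q₁ Q → ∀ x ∈ Q₁, k Q₁ x ∈ Q := by
    intro Q₁ hQ₁ x hx
    obtain ⟨N', -, -, hiso⟩ := hk Q₁ hQ₁
    exact hiso.map_mem hx
  have hconj : ∀ (P : Subgroup Ω) (g : Ω), P ≤ S → g ∈ S → Pr P (conjHom P g) := by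
    intro P g hP hg Q₁ Q₂ hQ₁P hQ₁ hiso
    have hQ₁S : Q₁ ≤ S := hQ₁P.trans hP
    have hlt : Q₁ < S := lt_of_le_of_ne hQ₁S (hcardlt Q₁ hQ₁)
    have hagree : ∀ x ∈ Q₁, ext1 (conjHom P g) x = g * x * g⁻¹ := by
      intro x hx
      rw [ext1_apply_mem _ (hQ₁P hx)]
      rfl
    have h1 := good_of_extends hS k hk hQ₁ hlt (IsIso.conj (F := F) (le_refl S) hg)
      (hiso.congr hagree)
    exact h1.congr (fun x hx => (hagree x hx).symm)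
  have hcomp : ∀ (P R : Subgroup Ω) (φ : P →* Ω) (ψ : R →* Ω) (h : ∀ x : P, φ x ∈ R),
      φ ∈ F.Hom P → ψ ∈ F.Hom R → Pr P φ → Pr R ψ → Pr P (ψ.comp (φ.codRestrict R h)) := by
    intro P R φ ψ h hφ hψ hPrφ hPrψ Q₁ Q₃ hQ₁P hQ₁ hiso
    obtain ⟨Q₂, -, hiso₁, hQ₂mem⟩ := (isIso_of_mem F hφ).restrict hQ₁P
    have hcompval : ∀ x ∈ Q₁, ext1 (ψ.comp (φ.codRestrict R h)) x = ext1 ψ (ext1 φ x) := by
      intro x hx
      rw [ext1_apply_mem _ (hQ₁P hx), ext1_apply_mem φ (hQ₁P hx),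
        ext1_apply_mem ψ (h ⟨x, hQ₁P hx⟩)]
      rfl
    have hQ₂R : Q₂ ≤ R := by
      intro y hy
      obtain ⟨x, hx, rfl⟩ := (hQ₂mem y).1 hy
      rw [ext1_apply_mem φ (hQ₁P hx)]
      exact h _
    have hQ₂ : F.IsConj Q₂ Q := isConj_trans F (isConj_symm F hiso₁.isConj) hQ₁
    have hiso₂ : IsIso F Q₂ Q₃ (ext1 ψ) := by
      refine (isIso_of_mem F hψ).restrict' hQ₂R (fun y hy => ?_) (fun z hz => ?_)
      · obtain ⟨x, hx, rfl⟩ := (hQ₂mem y).1 hy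
        rw [← hcompval x hx]
        exact hiso.map_mem hx
      · obtain ⟨x, hx, rfl⟩ := hiso.surjOn hz
        exact ⟨ext1 φ x, hiso₁.map_mem hx, (hcompval x hx).symm⟩
    have h1 := hPrφ Q₁ Q₂ hQ₁P hQ₁ hiso₁
    have h2 := hPrψ Q₂ Q₃ hQ₂R hQ₂ hiso₂
    have h3 := Good.trans (hkmem Q₁ hQ₁) (fun x hx => hiso₁.map_mem hx) h1 h2
    exact h3.congr (fun x hx => (hcompval x hx).symm)
  have hinv : ∀ (P : Subgroup Ω) (φ : P →* Ω) (ψ : φ.range →* Ω), φ ∈ F.Hom P →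
      ψ ∈ F.Hom φ.range → (∀ x : P, ψ ⟨φ x, ⟨x, rfl⟩⟩ = (x : Ω)) → Pr P φ → Pr φ.range ψ := by
    intro P φ ψ hφ hψ hψφ hPrφ Q₂ Q₁ hQ₂le hQ₂ hiso
    have hprops : ∀ y ∈ Q₂, ext1 ψ y ∈ P ∧ ext1 φ (ext1 ψ y) = y :=
      fun y hy => ext1_inv_props hψφ (hQ₂le hy)
    have hQ₁P : Q₁ ≤ P := by
      intro x hx
      obtain ⟨y, hy, rfl⟩ := hiso.surjOn hx
      exact (hprops y hy).1
    have hQ₁ : F.IsConj Q₁ Q := isConj_trans F (isConj_symm F hiso.isConj) hQ₂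
    have hiso₁ : IsIso F Q₁ Q₂ (ext1 φ) := by
      refine (isIso_of_mem F hφ).restrict' hQ₁P (fun x hx => ?_) (fun y hy => ?_)
      · obtain ⟨y, hy, rfl⟩ := hiso.surjOn hx
        rw [(hprops y hy).2]
        exact hy
      · exact ⟨ext1 ψ y, hiso.map_mem hy, (hprops y hy).2⟩
    have h1 := hPrφ Q₁ Q₂ hQ₁P hQ₁ hiso₁
    exact Good.symm (hkmem Q₁ hQ₁) (fun y hy => ⟨hiso.map_mem hy, (hprops y hy).2⟩) h1
  refine ⟨subSys F Pr hconj hcomp hinv, ?_, ?_⟩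
  · intro R hRS hnot α hα
    rw [mem_autGroup_iff _ hRS]
    refine ⟨(mem_autGroup_iff F hRS α).1 hα, ?_⟩
    intro Q₁ Q₂ hQ₁R hQ₁ hiso
    have hQ₁ne : Q₁ ≠ R := by
      intro h
      exact hnot (isConj_symm F (h ▸ hQ₁))
    exact good_of_extends hS k hk hQ₁ (lt_of_le_of_ne hQ₁R hQ₁ne)
      (isIso_of_mem_autGroup F hRS hα) hiso
  · intro hle
    obtain ⟨hI, -⟩ := hQ.2.2
    have hspe := stronglyPEmbedded_extGens hS hF hne hQ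
    obtain ⟨y, hy⟩ : ∃ y, y ∉ ((Subgroup.closure (extGens F Q)).subgroupOf (F.autGroup Q)).map
        (QuotientGroup.mk' ((Inn Q).subgroupOf (F.autGroup Q))) := by
      by_contra h
      push Not at h
      exact hspe.2.1 (eq_top_iff.2 fun y _ => h y)
    obtain ⟨a, rfl⟩ := QuotientGroup.mk'_surjective _ y
    have haH : (a : MulAut Q) ∉ H := fun h => hy ⟨a, Subgroup.mem_subgroupOf.2 h, rfl⟩
    apply haH
    have hφ₀ : Q.subtype.comp (a : MulAut Q).toMonoidHom ∈ F.Hom Q :=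
      (mem_autGroup_iff F hQS _).1 a.2
    have hPr : Pr Q (Q.subtype.comp (a : MulAut Q).toMonoidHom) := (hle Q hφ₀).2
    have hQQ : F.IsConj Q Q := isConj_refl F hQS
    obtain ⟨μ, hμ, hμa⟩ := hPr Q Q le_rfl hQQ (isIso_of_mem_autGroup F hQS a.2)
    obtain ⟨N', hkN, hN', hkQ⟩ := hk Q hQQ
    obtain ⟨κ, hκA, hκ⟩ := exists_mem_autGroup_of_isIso F hkQ
    have hκH : κ ∈ H := by
      apply Subgroup.subset_closure
      obtain ⟨g, hgN, hgQ⟩ := exists_mem_normalizerIn_not_mem hS hQS hne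
      have hQN : Q ≤ normalizerIn S Q := fun x hx => ⟨hQS hx, Subgroup.le_normalizer hx⟩
      have hlt : Q < normalizerIn S Q := lt_of_le_of_ne hQN (fun h => hgQ (h ▸ hgN))
      obtain ⟨φ, hφ, hφk, -⟩ := hkN.exists_hom
      exact ⟨_, hlt, φ, hφ, fun x => by rw [hφk]; exact (hκ x).symm⟩
    have heq : κ * (a : MulAut Q) = μ * κ := by
      ext x
      show ((κ ((a : MulAut Q) x) : Q) : Ω) = ((μ (κ x) : Q) : Ω)
      have h1 := hμa x x.2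
      rw [aext_apply μ (hkmem Q hQQ x x.2)] at h1
      have h2 : (⟨k Q x, hkmem Q hQQ x x.2⟩ : Q) = κ x := Subtype.ext (hκ x).symm
      rw [h2] at h1
      rw [h1, hκ]
      congr 1
      exact (ext1_apply (Q.subtype.comp (a : MulAut Q).toMonoidHom) x).symm
    have : (a : MulAut Q) = κ⁻¹ * μ * κ := by
      rw [mul_assoc, ← heq]
      group
    rw [this]
    exact H.mul_mem (H.mul_mem (H.inv_mem hκH) hμ) hκH

end Cfsg.Agent.Lib.H26
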