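import Mathlib
import Cfsg.Prelude.Def_FusionSystem
import Cfsg.Agent.Lib.H25.Fusion
import Cfsg.Agent.Lib.H25.Saturation
import Cfsg.Agent.Lib.H25.SatEquiv
import Cfsg.Agent.Lib.H25.Alperin
import Cfsg.Agent.Lib.H25.Essential
import Cfsg.Agent.Lib.H26.EssentialOmit

set_option autoImplicit false

/-!
For an essential subgroup `R`, `Aut_S(R)` is not normal in `Aut_F(R)` (helper26).
-/

namespace Cfsg.Agent.Lib.H26

open Cfsg Cfsg.FusionSystem Cfsg.Agent.Lib.H25

variable {Ω : Type*} [Group Ω] {S : Subgroup Ω}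

/-- For an essential subgroup `R` of a saturated system, `Aut_S(R)` is not normal in `Aut_F(R)`. -/
theorem autInducedBy_not_normal_of_essential [Finite S] {p : ℕ} [Fact p.Prime]
    (hS : IsPGroup p S) {F : FusionSystem S} (hF : F.IsSaturated p) {R : Subgroup Ω}
    (hess : F.IsEssential p R)
    (hnorm : ∀ α ∈ F.autGroup R, ∀ τ ∈ autInducedBy S R, α * τ * α⁻¹ ∈ autInducedBy S R) :
    False := by
  have hcen := hess.1
  have hfn := hess.2.1
  have hRS : R ≤ S := hcen.1
  have hfinR : Finite R := finite_of_le S hRS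
  have hne : R ≠ S := essential_ne_top hS hF hess
  obtain ⟨hfc, hfa⟩ := fullyNormalized_props hS hF hfn
  have hrec := isReceptive_of_fullyCentralized hS hF hfc
  obtain ⟨hI, -⟩ := hess.2.2
  have hspe := stronglyPEmbedded_extGens hS hF hne hess
  obtain ⟨hp, T, hΓ, hTmem⟩ := centric_out_data hS hfa hrec hne hcen
  have hTne : (T : Subgroup (F.autGroup R ⧸ (Inn R).subgroupOf (F.autGroup R))) ≠ ⊥ :=
    T.ne_bot_of_dvd_card hp
  have hTnormal : ∀ y : F.autGroup R ⧸ (Inn R).subgroupOf (F.autGroup R),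
      ∀ t ∈ (T : Subgroup (F.autGroup R ⧸ (Inn R).subgroupOf (F.autGroup R))),
        y * t * y⁻¹ ∈ (T : Subgroup (F.autGroup R ⧸ (Inn R).subgroupOf (F.autGroup R))) := by
    intro y t ht
    obtain ⟨a, rfl⟩ := QuotientGroup.mk'_surjective _ y
    obtain ⟨b, hb, rfl⟩ := (hTmem t).1 ht
    rw [hTmem]
    refine ⟨a * b * a⁻¹, hnorm a a.2 b hb, ?_⟩
    rw [map_mul, map_mul, map_inv]
  have hNtop : Subgroup.normalizer
      (((T : Subgroup (F.autGroup R ⧸ (Inn R).subgroupOf (F.autGroup R))) :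
        Subgroup (F.autGroup R ⧸ (Inn R).subgroupOf (F.autGroup R))) :
          Set (F.autGroup R ⧸ (Inn R).subgroupOf (F.autGroup R))) = ⊤ := by
    rw [eq_top_iff]
    intro y _
    apply mem_normalizer_of_conj_mem
    · exact hTnormal y
    · intro t ht
      have := hTnormal y⁻¹ t ht
      rwa [inv_inv] at this
  have hle := Cfsg.Agent.Lib.H9.normalizer_le_kGeneratedCore_one T
    (T : Subgroup (F.autGroup R ⧸ (Inn R).subgroupOf (F.autGroup R))) le_rfl hTne
  apply hspe.2.1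
  rw [eq_top_iff, ← hNtop]
  exact hle.trans hΓ

/-- For an essential subgroup `R`, no normal `p`-subgroup of `Aut_F(R)` contains `Aut_S(R)`. -/
theorem not_essential_of_normal_pgroup [Finite S] {p : ℕ} [Fact p.Prime]
    (hS : IsPGroup p S) {F : FusionSystem S} (hF : F.IsSaturated p) {R : Subgroup Ω}
    (hess : F.IsEssential p R) (N : Subgroup (MulAut R)) (hNG : N ≤ F.autGroup R)
    (hNnorm : ∀ α ∈ F.autGroup R, ∀ γ ∈ N, α * γ * α⁻¹ ∈ N) (hNp : IsPGroup p N)
    (hTN : autInducedBy S R ≤ N) : False := by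
  obtain ⟨-, hfa⟩ := fullyNormalized_props hS hF hess.2.1
  obtain ⟨-, R₀, hR₀⟩ := hfa
  have hNp' : IsPGroup p (N.subgroupOf (F.autGroup R)) := by
    intro g
    obtain ⟨k, hk⟩ := hNp ⟨((g : F.autGroup R) : MulAut R), g.2⟩
    refine ⟨k, ?_⟩
    apply Subtype.ext
    apply Subtype.ext
    have := congrArg Subtype.val hk
    simpa using this
  have hle : (R₀ : Subgroup (F.autGroup R)) ≤ N.subgroupOf (F.autGroup R) := by
    rw [hR₀]
    intro g hg
    exact Subgroup.mem_subgroupOf.2 (hTN (Subgroup.mem_subgroupOf.1 hg))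
  have heq := R₀.is_maximal' hNp' hle
  have hNT : ∀ γ ∈ N, γ ∈ autInducedBy S R := by
    intro γ hγ
    have h1 : (⟨γ, hNG hγ⟩ : F.autGroup R) ∈ N.subgroupOf (F.autGroup R) :=
      Subgroup.mem_subgroupOf.2 hγ
    rw [heq, hR₀] at h1
    exact Subgroup.mem_subgroupOf.1 h1
  exact autInducedBy_not_normal_of_essential hS hF hess
    (fun α hα τ hτ => hNT _ (hNnorm α hα τ (hTN hτ)))

end Cfsg.Agent.Lib.H26
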