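import Mathlib

set_option autoImplicit false

/-!
Common eigenvectors (helper26): a commuting family of automorphisms, each of order dividing `p - 1`,
of a nontrivial finite elementary abelian `p`-group has an invariant subgroup of order `p`.
Written multiplicatively, with explicit projections onto the eigenspaces.
-/

namespace Cfsg.Agent.Lib.H26.Eigen

variable {Q : Type*} [CommGroup Q] {p : ℕ} [hp : Fact p.Prime]

theorem pow_eq_of_cast_eq (hexp : ∀ q : Q, q ^ p = 1) (q : Q) {a b : ℕ}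
    (h : (a : ZMod p) = b) : q ^ a = q ^ b := by
  rw [ZMod.natCast_eq_natCast_iff'] at h
  rw [pow_eq_pow_mod a (hexp q), pow_eq_pow_mod b (hexp q), h]

/-- The exponents `μ⁻ʲ`, as natural numbers. -/
def ex (μ : (ZMod p)ˣ) (j : ℕ) : ℕ := ((μ⁻¹ ^ j : (ZMod p)ˣ) : ZMod p).val

theorem ex_cast (μ : (ZMod p)ˣ) (j : ℕ) :
    ((ex μ j : ℕ) : ZMod p) = ((μ⁻¹ ^ j : (ZMod p)ˣ) : ZMod p) := ZMod.natCast_zmod_val _

/-- The projection onto the `μ`-eigenspace of `f` (up to the factor `p - 1`). -/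
def proj (f : MulAut Q) (μ : (ZMod p)ˣ) (v : Q) : Q :=
  ∏ j ∈ Finset.range (p - 1), ((f ^ j) v) ^ (ex μ j)

theorem map_proj (hexp : ∀ q : Q, q ^ p = 1) (f : MulAut Q) (hf : f ^ (p - 1) = 1)
    (μ : (ZMod p)ˣ) (v : Q) : f (proj f μ v) = (proj f μ v) ^ (μ : ZMod p).val := by
  unfold proj
  rw [map_prod, ← Finset.prod_pow]
  obtain ⟨h, hh⟩ : ∃ h : ℕ → Q, h = fun j => ((f ^ j) v) ^ (ex μ j * (μ : ZMod p).val) := ⟨_, rfl⟩
  have h1 : ∀ j, f ((f ^ j) v ^ ex μ j) = h (j + 1) := by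
    intro j
    rw [map_pow, hh]
    show (f ((f ^ j) v)) ^ ex μ j = ((f ^ (j + 1)) v) ^ (ex μ (j + 1) * _)
    rw [pow_succ' f j, MulAut.mul_apply]
    apply pow_eq_of_cast_eq hexp
    rw [Nat.cast_mul, ex_cast, ex_cast, ZMod.natCast_zmod_val, ← Units.val_mul, pow_succ,
      mul_assoc, inv_mul_cancel, mul_one]
  have h2 : ∀ j, ((f ^ j) v ^ ex μ j) ^ (μ : ZMod p).val = h j := by
    intro j
    rw [hh]
    exact (pow_mul _ _ _).symm
  rw [Finset.prod_congr rfl (fun j _ => h1 j), Finset.prod_congr rfl (fun j _ => h2 j)]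
  have e1 := Finset.prod_range_succ' h (p - 1)
  have e2 := Finset.prod_range_succ h (p - 1)
  have e3 : h (p - 1) = h 0 := by
    rw [hh]
    show ((f ^ (p - 1)) v) ^ (ex μ (p - 1) * _) = ((f ^ 0) v) ^ (ex μ 0 * _)
    have : ex μ (p - 1) = ex μ 0 := by
      unfold ex
      rw [ZMod.units_pow_card_sub_one_eq_one, pow_zero]
    rw [hf, pow_zero, this]
  rw [e2, e3] at e1
  exact (mul_right_cancel e1).symm

theorem prod_proj (hexp : ∀ q : Q, q ^ p = 1) (f : MulAut Q) (v : Q) :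
    ∏ μ : (ZMod p)ˣ, proj f μ v = v ^ (p - 1) := by
  classical
  unfold proj
  rw [Finset.prod_comm]
  have hpos : p - 1 = (p - 2) + 1 := by have := hp.out.two_le; omega
  have h0 : ∑ μ : (ZMod p)ˣ, ex μ 0 = p - 1 := by
    have : ∀ μ : (ZMod p)ˣ, ex μ 0 = 1 := by
      intro μ
      unfold ex
      rw [pow_zero, Units.val_one]
      exact ZMod.val_one p
    rw [Finset.sum_congr rfl (fun μ _ => this μ), Finset.sum_const, smul_eq_mul, mul_one,
      Finset.card_univ, ZMod.card_units p]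
  have hk : ∀ k ∈ Finset.range (p - 2),
      ∏ μ : (ZMod p)ˣ, ((f ^ (k + 1)) v) ^ (ex μ (k + 1)) = 1 := by
    intro k hk
    rw [Finset.prod_pow_eq_pow_sum]
    rw [show (1 : Q) = ((f ^ (k + 1)) v) ^ 0 from (pow_zero _).symm]
    apply pow_eq_of_cast_eq hexp
    rw [Nat.cast_sum, Nat.cast_zero]
    rw [Finset.sum_congr rfl (fun μ _ => ex_cast μ (k + 1))]
    have h1 := FiniteField.sum_pow_units (ZMod p) (k + 1)
    rw [ZMod.card p] at h1
    have h2 : ¬ (p - 1 ∣ k + 1) := by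
      intro hd
      have := Nat.le_of_dvd (Nat.succ_pos k) hd
      have := Finset.mem_range.1 hk
      omega
    rw [if_neg h2] at h1
    rw [← h1]
    refine Fintype.sum_equiv (Equiv.inv (ZMod p)ˣ) _ _ (fun μ => ?_)
    show ((μ⁻¹ ^ (k + 1) : (ZMod p)ˣ) : ZMod p) = ((μ⁻¹ : (ZMod p)ˣ) : ZMod p) ^ (k + 1)
    rw [Units.val_pow_eq_pow_val]
  rw [hpos, Finset.prod_range_succ', Finset.prod_eq_one hk, one_mul, Finset.prod_pow_eq_pow_sum,
    h0, pow_zero, MulAut.one_apply, hpos]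

theorem pow_mem_of_inv (f : MulAut Q) (W : Subgroup Q) (hW : ∀ w ∈ W, f w ∈ W) (j : ℕ) :
    ∀ w ∈ W, (f ^ j) w ∈ W := by
  induction j with
  | zero => intro w hw; simpa using hw
  | succ j ih =>
    intro w hw
    rw [pow_succ', MulAut.mul_apply]
    exact hW _ (ih w hw)

theorem proj_mem (f : MulAut Q) (W : Subgroup Q) (hW : ∀ w ∈ W, f w ∈ W) (μ : (ZMod p)ˣ)
    {v : Q} (hv : v ∈ W) : proj f μ v ∈ W := by
  unfold proj
  apply Subgroup.prod_mem
  intro j _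
  exact W.pow_mem (pow_mem_of_inv f W hW j v hv) _

/-- A single operator of order dividing `p - 1` has an eigenvector in every nontrivial invariant
subgroup. -/
theorem exists_eigen (hexp : ∀ q : Q, q ^ p = 1) (f : MulAut Q) (hf : f ^ (p - 1) = 1)
    (W : Subgroup Q) (hW : ∀ w ∈ W, f w ∈ W) {v : Q} (hv : v ∈ W) (hv1 : v ≠ 1) :
    ∃ μ : (ZMod p)ˣ, ∃ w ∈ W, w ≠ 1 ∧ f w = w ^ (μ : ZMod p).val := by
  by_contra hcon
  push Not at hcon
  have hall : ∀ μ : (ZMod p)ˣ, proj f μ v = 1 := by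
    intro μ
    by_contra hne
    exact hcon μ _ (proj_mem f W hW μ hv) hne (map_proj hexp f hf μ v)
  have h1 := prod_proj hexp f v
  rw [Finset.prod_congr rfl (fun μ _ => hall μ), Finset.prod_const_one] at h1
  apply hv1
  have h2 := hexp v
  have hpos : p = (p - 1) + 1 := by have := hp.out.two_le; omega
  rw [hpos, pow_succ, ← h1, one_mul] at h2
  exact h2

/-- A commuting family of automorphisms of order dividing `p - 1` of a nontrivial finite elementary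
abelian `p`-group has a common eigenvector. -/
theorem exists_common_eigen [Finite Q] (hexp : ∀ q : Q, q ^ p = 1) (hne : ∃ q : Q, q ≠ 1)
    (𝒴 : Set (MulAut Q)) (hcomm : ∀ a ∈ 𝒴, ∀ b ∈ 𝒴, a * b = b * a)
    (hpow : ∀ a ∈ 𝒴, a ^ (p - 1) = 1) :
    ∃ v : Q, v ≠ 1 ∧ ∀ a ∈ 𝒴, a v ∈ Subgroup.zpowers v := by
  classical
  let 𝒲 : Set (Subgroup Q) := {W | W ≠ ⊥ ∧ ∀ a ∈ 𝒴, ∀ w ∈ W, a w ∈ W}
  have hne𝒲 : 𝒲.Nonempty := by
    refine ⟨⊤, ?_, fun a _ w _ => Subgroup.mem_top _⟩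
    obtain ⟨q, hq⟩ := hne
    intro h
    apply hq
    have : q ∈ (⊤ : Subgroup Q) := Subgroup.mem_top q
    rw [h] at this
    exact Subgroup.mem_bot.1 this
  obtain ⟨W, hW𝒲, hWmin⟩ := (wellFounded_lt (α := Subgroup Q)).has_min 𝒲 hne𝒲
  obtain ⟨hWne, hWinv⟩ := hW𝒲
  obtain ⟨v, hvW, hv1⟩ := (Subgroup.ne_bot_iff_exists_ne_one (H := W)).1 hWne |>.imp
    (fun v hv => hv) |> fun ⟨v, hv⟩ => (⟨v.1, v.2, fun h => hv (Subtype.ext h)⟩ : ∃ v : Q, v ∈ W ∧ v ≠ 1)
  refine ⟨v, hv1, fun a ha => ?_⟩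
  obtain ⟨μ, w, hwW, hw1, hw⟩ := exists_eigen hexp a (hpow a ha) W (hWinv a ha) hvW hv1
  let Wμ : Subgroup Q :=
    { carrier := {x | x ∈ W ∧ a x = x ^ (μ : ZMod p).val}
      one_mem' := ⟨W.one_mem, by rw [map_one, one_pow]⟩
      mul_mem' := by
        rintro x y ⟨hx, hx'⟩ ⟨hy, hy'⟩
        exact ⟨W.mul_mem hx hy, by rw [map_mul, hx', hy', mul_pow]⟩
      inv_mem' := by
        rintro x ⟨hx, hx'⟩
        exact ⟨W.inv_mem hx, by rw [map_inv, hx', inv_pow]⟩ }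
  have hWμ : Wμ ∈ 𝒲 := by
    refine ⟨?_, fun b hb x hx => ⟨hWinv b hb x hx.1, ?_⟩⟩
    · intro h
      have : w ∈ Wμ := ⟨hwW, hw⟩
      rw [h] at this
      exact hw1 (Subgroup.mem_bot.1 this)
    · have := congrArg (fun g : MulAut Q => g x) (hcomm a ha b hb)
      simp only [MulAut.mul_apply] at this
      rw [this, hx.2, map_pow]
  have hle : Wμ ≤ W := fun x hx => hx.1
  have heq : Wμ = W := by
    by_contra hne'
    exact hWmin Wμ hWμ (lt_of_le_of_ne hle hne')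
  have hv' : v ∈ Wμ := by rw [heq]; exact hvW
  rw [hv'.2]
  exact Subgroup.npow_mem_zpowers v _

/-- The same for a group which is only known to be commutative through a hypothesis. -/
theorem exists_common_eigen' {Q : Type*} [Group Q] [Finite Q] {p : ℕ} [Fact p.Prime]
    (hc : ∀ a b : Q, a * b = b * a) (hexp : ∀ q : Q, q ^ p = 1) (hne : ∃ q : Q, q ≠ 1)
    (𝒴 : Set (MulAut Q)) (hcomm : ∀ a ∈ 𝒴, ∀ b ∈ 𝒴, a * b = b * a)
    (hpow : ∀ a ∈ 𝒴, a ^ (p - 1) = 1) :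
    ∃ v : Q, v ≠ 1 ∧ ∀ a ∈ 𝒴, a v ∈ Subgroup.zpowers v := by
  letI : CommGroup Q := { ‹Group Q› with mul_comm := hc }
  exact exists_common_eigen hexp hne 𝒴 hcomm hpow

end Cfsg.Agent.Lib.H26.Eigen
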