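import Mathlib
import Cfsg.Prelude.Def_KGroupFacts
import Cfsg.Agent.Lib.H26.CycChain
import Cfsg.Agent.Lib.H26.Eigen

set_option autoImplicit false

/-!
Chains of invariant subgroups with cyclic steps (helper26): if `A ≤ Aut(P)` (`P` a finite
`p`-group) contains `Inn(P)` and `A = Inn(P) H'` with `H'` abelian of exponent dividing `p - 1`,
then `P` has a chain of `A`-invariant subgroups from `⊥` to `⊤` with cyclic steps.
-/

namespace Cfsg.Agent.Lib.H26.SuperChain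

open Cfsg.Agent.Lib.H26.CycChain Cfsg.Agent.Lib.H26.Eigen

variable {P : Type*} [Group P]

/-- The subgroup `Ω₁(Z(X))` of elements of the centre of order dividing `p`. -/
def omegaCenter (p : ℕ) (X : Type*) [Group X] : Subgroup X where
  carrier := {z | z ∈ Subgroup.center X ∧ z ^ p = 1}
  one_mem' := ⟨Subgroup.one_mem _, one_pow _⟩
  mul_mem' := by
    rintro a b ⟨ha, ha'⟩ ⟨hb, hb'⟩
    refine ⟨Subgroup.mul_mem _ ha hb, ?_⟩
    have hc : Commute a b := (Subgroup.mem_center_iff.1 ha b).symm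
    rw [hc.mul_pow, ha', hb', one_mul]
  inv_mem' := by
    rintro a ⟨ha, ha'⟩
    exact ⟨Subgroup.inv_mem _ ha, by rw [inv_pow, ha', inv_one]⟩

theorem omegaCenter_invariant (p : ℕ) {X : Type*} [Group X] (θ : MulAut X) {z : X}
    (hz : z ∈ omegaCenter p X) : θ z ∈ omegaCenter p X := by
  refine ⟨?_, by rw [← map_pow, hz.2, map_one]⟩
  rw [Subgroup.mem_center_iff]
  intro g
  have h1 := Subgroup.mem_center_iff.1 hz.1 (θ⁻¹ g)
  have h2 := congrArg θ h1
  rw [map_mul, map_mul, MulAut.apply_inv_self] at h2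
  exact h2

theorem omegaCenter_ne_bot {p : ℕ} [hp : Fact p.Prime] {X : Type*} [Group X] [Finite X]
    [Nontrivial X] (hX : IsPGroup p X) : ∃ z ∈ omegaCenter p X, z ≠ 1 := by
  haveI := hX.center_nontrivial
  have hZp : IsPGroup p (Subgroup.center X) := hX.to_subgroup _
  obtain ⟨k, hk⟩ := hZp.exists_card_eq
  have hk0 : k ≠ 0 := by
    intro h
    rw [h, pow_zero] at hk
    have := Finite.one_lt_card (α := Subgroup.center X)
    omega
  have hdvd : p ∣ Nat.card (Subgroup.center X) := by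
    rw [hk]; exact dvd_pow_self p hk0
  obtain ⟨z, hz⟩ := exists_prime_orderOf_dvd_card' p hdvd
  refine ⟨(z : X), ⟨z.2, ?_⟩, ?_⟩
  · have := pow_orderOf_eq_one z
    rw [hz] at this
    have h2 := congrArg (fun w : Subgroup.center X => (w : X)) this
    simpa using h2
  · intro h
    have h1 : z = 1 := Subtype.ext h
    rw [h1, orderOf_one] at hz
    exact hp.out.one_lt.ne hz

variable [Finite P] {p : ℕ} [hp : Fact p.Prime]

/-- The step: above a proper invariant subgroup there is a bigger one, with cyclic step. -/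
theorem exists_step (hP : IsPGroup p P) (A H' : Subgroup (MulAut P))
    (hinn : ∀ g : P, MulAut.conj g ∈ A) (hH'A : H' ≤ A)
    (hdec : ∀ a ∈ A, ∃ g : P, ∃ h ∈ H', a = MulAut.conj g * h)
    (hcomm : ∀ a ∈ H', ∀ b ∈ H', a * b = b * a) (hpow : ∀ h ∈ H', h ^ (p - 1) = 1)
    (T : Subgroup P) (hT : InvUnder A T) (hTne : T ≠ ⊤) :
    ∃ (T' : Subgroup P) (x : P), InvUnder A T' ∧ T < T' ∧ T' = T ⊔ Subgroup.zpowers x := by
  haveI hTn : T.Normal := ⟨fun t ht g => by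
    have := hT _ (hinn g) t ht
    rwa [MulAut.conj_apply] at this⟩
  have hQp : IsPGroup p (P ⧸ T) := hP.to_quotient T
  haveI hnt : Nontrivial (P ⧸ T) := by
    rw [← not_subsingleton_iff_nontrivial]
    intro h
    exact hTne (QuotientGroup.subgroup_eq_top_of_subsingleton T h)
  -- the action on the quotient
  let ψ : ↥A →* MulAut (P ⧸ T) := quotAutH A.subtype T (fun y k hk => hT y y.2 k hk)
  have hψ : ∀ (a : ↥A) (x : P), ψ a (x : P ⧸ T) = (((a : MulAut P) x : P) : P ⧸ T) :=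
    fun a x => rfl
  let V : Subgroup (P ⧸ T) := omegaCenter p (P ⧸ T)
  have hV : InvUnder ψ.range V := fun y _ z hz => omegaCenter_invariant p y hz
  let ρ : ↥A →* MulAut ↥V := (resAutH ψ.range V hV).comp ψ.rangeRestrict
  have hρ : ∀ (a : ↥A) (v : ↥V), ((ρ a v : ↥V) : P ⧸ T) = ψ a (v : P ⧸ T) := fun a v => rfl
  -- inner automorphisms act trivially on `V`
  have hinnV : ∀ (g : P) (v : ↥V), ψ ⟨MulAut.conj g, hinn g⟩ (v : P ⧸ T) = v := by
    intro g v
    obtain ⟨x, hx⟩ := QuotientGroup.mk_surjective (v : P ⧸ T)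
    rw [← hx, hψ]
    show ((MulAut.conj g x : P) : P ⧸ T) = _
    rw [MulAut.conj_apply, QuotientGroup.mk_mul, QuotientGroup.mk_mul, hx, QuotientGroup.mk_inv]
    have := Subgroup.mem_center_iff.1 v.2.1 (g : P ⧸ T)
    rw [this, mul_inv_cancel_right]
  -- every element acts as an element of `H'`
  have hρH : ∀ a : ↥A, ∃ h : ↥A, (h : MulAut P) ∈ H' ∧ ρ a = ρ h := by
    intro a
    obtain ⟨g, h, hh, hah⟩ := hdec a a.2
    refine ⟨⟨h, hH'A hh⟩, hh, ?_⟩
    have e : a = ⟨MulAut.conj g, hinn g⟩ * ⟨h, hH'A hh⟩ := Subtype.ext hah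
    ext v
    rw [hρ, hρ, e, map_mul, MulAut.mul_apply]
    have := hinnV g (ρ ⟨h, hH'A hh⟩ v)
    rw [hρ] at this
    exact this
  -- commutativity and exponent of the image
  have hc : ∀ y₁ ∈ Set.range ρ, ∀ y₂ ∈ Set.range ρ, y₁ * y₂ = y₂ * y₁ := by
    rintro _ ⟨a₁, rfl⟩ _ ⟨a₂, rfl⟩
    obtain ⟨h₁, hh₁, e₁⟩ := hρH a₁
    obtain ⟨h₂, hh₂, e₂⟩ := hρH a₂
    rw [e₁, e₂, ← map_mul, ← map_mul]
    congr 1
    exact Subtype.ext (hcomm _ hh₁ _ hh₂)
  have hpw : ∀ y ∈ Set.range ρ, y ^ (p - 1) = 1 := by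
    rintro _ ⟨a, rfl⟩
    obtain ⟨h, hh, e⟩ := hρH a
    rw [e, ← map_pow]
    have : h ^ (p - 1) = 1 := Subtype.ext (by
      rw [Subgroup.coe_pow]
      exact hpow _ hh)
    rw [this, map_one]
  -- `V` is commutative of exponent `p` and nontrivial
  have hVc : ∀ a b : ↥V, a * b = b * a := fun a b =>
    Subtype.ext (Subgroup.mem_center_iff.1 b.2.1 a.1)
  have hVexp : ∀ q : ↥V, q ^ p = 1 := fun q => Subtype.ext (by
    rw [Subgroup.coe_pow]
    exact q.2.2)
  have hVne : ∃ q : ↥V, q ≠ 1 := by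
    obtain ⟨z, hz, hz1⟩ := omegaCenter_ne_bot hQp
    exact ⟨⟨z, hz⟩, fun h => hz1 (congrArg Subtype.val h)⟩
  obtain ⟨v, hv1, hv⟩ := exists_common_eigen' hVc hVexp hVne (Set.range ρ) hc hpw
  obtain ⟨x, hx⟩ := QuotientGroup.mk_surjective (v : P ⧸ T)
  have hxT : x ∉ T := by
    intro h
    apply hv1
    apply Subtype.ext
    rw [← hx]
    exact (QuotientGroup.eq_one_iff x).2 h
  let T' : Subgroup P := (Subgroup.zpowers (v : P ⧸ T)).comap (QuotientGroup.mk' T)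
  have hTT' : T ≤ T' := by
    intro t ht
    show ((t : P) : P ⧸ T) ∈ Subgroup.zpowers (v : P ⧸ T)
    rw [(QuotientGroup.eq_one_iff t).2 ht]
    exact Subgroup.one_mem _
  have hxT' : x ∈ T' := by
    show ((x : P) : P ⧸ T) ∈ Subgroup.zpowers (v : P ⧸ T)
    rw [hx]
    exact Subgroup.mem_zpowers _
  refine ⟨T', x, ?_, lt_of_le_of_ne hTT' (fun h => hxT (h ▸ hxT')), ?_⟩
  · -- invariance
    intro a ha y hy
    show (((a y : P)) : P ⧸ T) ∈ Subgroup.zpowers (v : P ⧸ T)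
    obtain ⟨k, hk⟩ := Subgroup.mem_zpowers_iff.1
      (show ((y : P) : P ⧸ T) ∈ Subgroup.zpowers (v : P ⧸ T) from hy)
    have h1 : ((a y : P) : P ⧸ T) = ψ ⟨a, ha⟩ (y : P ⧸ T) := (hψ ⟨a, ha⟩ y).symm
    rw [h1, ← hk, map_zpow]
    apply Subgroup.zpow_mem
    have h2 := hv _ ⟨⟨a, ha⟩, rfl⟩
    obtain ⟨j, hj⟩ := Subgroup.mem_zpowers_iff.1 h2
    rw [← hρ, ← hj, Subgroup.coe_zpow]
    exact Subgroup.zpow_mem _ (Subgroup.mem_zpowers _) _
  · apply le_antisymm
    · intro y hy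
      obtain ⟨k, hk⟩ := Subgroup.mem_zpowers_iff.1
        (show ((y : P) : P ⧸ T) ∈ Subgroup.zpowers (v : P ⧸ T) from hy)
      have h1 : ((x ^ k : P) : P ⧸ T) = (y : P ⧸ T) := by rw [QuotientGroup.mk_zpow, hx, hk]
      have h2 : (x ^ k)⁻¹ * y ∈ T := QuotientGroup.eq.1 h1
      have : y = x ^ k * ((x ^ k)⁻¹ * y) := by group
      rw [this]
      exact Subgroup.mul_mem _
        (Subgroup.mem_sup_right (Subgroup.zpow_mem _ (Subgroup.mem_zpowers x) k))
        (Subgroup.mem_sup_left h2)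
    · exact sup_le hTT' (by rw [Subgroup.zpowers_le]; exact hxT')

/-- The chain of invariant subgroups with cyclic steps. -/
theorem exists_chain_from (hP : IsPGroup p P) (A H' : Subgroup (MulAut P))
    (hinn : ∀ g : P, MulAut.conj g ∈ A) (hH'A : H' ≤ A)
    (hdec : ∀ a ∈ A, ∃ g : P, ∃ h ∈ H', a = MulAut.conj g * h)
    (hcomm : ∀ a ∈ H', ∀ b ∈ H', a * b = b * a) (hpow : ∀ h ∈ H', h ^ (p - 1) = 1) :
    ∀ T : Subgroup P, InvUnder A T → ∃ (m : ℕ) (d : ℕ → Subgroup P), d 0 = T ∧ d m = ⊤ ∧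
      (∀ k, InvUnder A (d k)) ∧ ∀ k, d k ≤ d (k + 1) ∧ ∃ x, d (k + 1) = d k ⊔ Subgroup.zpowers x := by
  intro T
  induction T using WellFoundedGT.induction with
  | ind T ih =>
    intro hT
    by_cases hTt : T = ⊤
    · refine ⟨0, fun _ => T, rfl, hTt, fun _ => hT, fun _ => ⟨le_rfl, 1, ?_⟩⟩
      rw [Subgroup.zpowers_one_eq_bot, sup_bot_eq]
    · obtain ⟨T', x, hT', hlt, hx⟩ := exists_step hP A H' hinn hH'A hdec hcomm hpow T hT hTt
      obtain ⟨m, d, hd0, hdm, hdinv, hdstep⟩ := ih T' hlt hT'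
      refine ⟨m + 1, fun k => match k with | 0 => T | (k + 1) => d k, rfl, hdm, ?_, ?_⟩
      · intro k
        match k with
        | 0 => exact hT
        | (k + 1) => exact hdinv k
      · intro k
        match k with
        | 0 =>
          show T ≤ d 0 ∧ ∃ x, d 0 = T ⊔ Subgroup.zpowers x
          rw [hd0]
          exact ⟨hlt.le, x, hx⟩
        | (k + 1) => exact hdstep k


/-- The chain exists when `Inn(P)` is a Sylow `p`-subgroup of `A` and the `p'`-subgroups of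
`Aut(P)` are abelian of exponent dividing `p - 1`. -/
theorem exists_chain_of_sylow (hP : IsPGroup p P) (A : Subgroup (MulAut P))
    (hinn : ∀ g : P, MulAut.conj g ∈ A) (R₀ : Sylow p ↥A)
    (hR₀ : (R₀ : Subgroup ↥A) = (Cfsg.Inn P).subgroupOf A)
    (hH : ∀ H : Subgroup (MulAut P), (Nat.card H).Coprime p →
      (∀ a ∈ H, ∀ b ∈ H, a * b = b * a) ∧ ∀ h ∈ H, h ^ (p - 1) = 1) :
    ∃ (m : ℕ) (d : ℕ → Subgroup P), d 0 = ⊥ ∧ d m = ⊤ ∧
      (∀ k, InvUnder A (d k)) ∧ ∀ k, d k ≤ d (k + 1) ∧ ∃ x, d (k + 1) = d k ⊔ Subgroup.zpowers x := by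
  haveI hNn : ((Cfsg.Inn P).subgroupOf A).Normal := Subgroup.Normal.subgroupOf inferInstance A
  have hcop : (Nat.card ((Cfsg.Inn P).subgroupOf A)).Coprime ((Cfsg.Inn P).subgroupOf A).index := by
    rw [← hR₀]
    exact R₀.card_coprime_index
  have hnd : ¬ p ∣ ((Cfsg.Inn P).subgroupOf A).index := by
    rw [← hR₀]
    exact R₀.not_dvd_index
  obtain ⟨H₀, hH₀⟩ := Subgroup.exists_right_complement'_of_coprime hcop
  let H' : Subgroup (MulAut P) := H₀.map A.subtype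
  have hH'A : H' ≤ A := by
    rintro _ ⟨a, -, rfl⟩
    exact a.2
  have hcard : Nat.card H' = ((Cfsg.Inn P).subgroupOf A).index := by
    rw [Subgroup.card_map_of_injective A.subtype_injective]
    exact hH₀.symm.index_eq_card.symm
  have hH'cop : (Nat.card H').Coprime p := by
    rw [hcard]
    exact ((Nat.Prime.coprime_iff_not_dvd hp.out).2 hnd).symm
  obtain ⟨hcomm, hpow⟩ := hH H' hH'cop
  have hdec : ∀ a ∈ A, ∃ g : P, ∃ h ∈ H', a = MulAut.conj g * h := by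
    intro a ha
    obtain ⟨⟨n, h⟩, hx, -⟩ := (Subgroup.isComplement'_def.1 hH₀).existsUnique (⟨a, ha⟩ : ↥A)
    have hn : ((n : ↥A) : MulAut P) ∈ Cfsg.Inn P := Subgroup.mem_subgroupOf.1 n.2
    obtain ⟨g, hg⟩ := hn
    refine ⟨g, ((h : ↥A) : MulAut P), ⟨(h : ↥A), h.2, rfl⟩, ?_⟩
    have h1 := congrArg (fun w : ↥A => (w : MulAut P)) hx
    simp only [Subgroup.coe_mul] at h1
    rw [← h1, hg]
  exact exists_chain_from hP A H' hinn hH'A hdec hcomm hpow ⊥
    (fun a _ x hx => by rw [Subgroup.mem_bot.1 hx, map_one]; exact Subgroup.one_mem _)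

end Cfsg.Agent.Lib.H26.SuperChain
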