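import Mathlib
import Cfsg.Prelude.Def_FusionSystem
import Cfsg.Agent.Lib.H25.Fusion
import Cfsg.Agent.Lib.H25.Saturation
import Cfsg.Agent.Lib.H25.Normal
import Cfsg.Agent.Lib.H25.AutSystem
import Cfsg.Agent.Lib.H26.EssentialAut
import Cfsg.Agent.Lib.H26.CycChain
import Cfsg.Agent.Lib.H26.SuperChain

set_option autoImplicit false

/-!
Supersoluble fusion systems (helper26): a chain of strongly closed subgroups with cyclic steps
forces the absence of essential subgroups and restricts the `p'`-groups of automorphisms;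
conversely chains exist when `S` is normal in the system and the `p'`-subgroups of `Aut(S)` are
abelian of exponent dividing `p - 1`.
-/

namespace Cfsg.Agent.Lib.H26.SuperFusion

open Cfsg Cfsg.FusionSystem Cfsg.Agent.Lib.H25
open Cfsg.Agent.Lib.H26.CycChain Cfsg.Agent.Lib.H26.ChainStab

variable {Ω : Type*} [Group Ω] {S : Subgroup Ω}

/-- Descending `ℕ`-indexed version of a supersoluble chain. -/
structure DescChain (F : FusionSystem S) (m : ℕ) (c' : ℕ → Subgroup Ω) : Prop where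
  top : c' 0 = S
  bot : c' m = ⊥
  closed : ∀ j, F.StronglyClosed (c' j)
  step : ∀ j, c' (j + 1) ≤ c' j ∧ ∃ x ∈ S, c' j = c' (j + 1) ⊔ Subgroup.zpowers x

theorem exists_descChain {F : FusionSystem S} {m : ℕ} (c : Fin (m + 1) → Subgroup Ω)
    (h0 : c 0 = ⊥) (hm : c (Fin.last m) = S) (hsc : ∀ i, F.StronglyClosed (c i))
    (hstep : ∀ i : Fin m, c i.castSucc ≤ c i.succ ∧
      ∃ x ∈ S, c i.succ = c i.castSucc ⊔ Subgroup.zpowers x) :
    ∃ c' : ℕ → Subgroup Ω, DescChain F m c' := by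
  refine ⟨fun j => c ⟨m - j, by omega⟩, ?_, ?_, fun j => hsc _, fun j => ?_⟩
  · show c ⟨m - 0, _⟩ = S
    rw [← hm]
    exact congrArg c (Fin.ext (by simp))
  · show c ⟨m - m, _⟩ = ⊥
    rw [← h0]
    exact congrArg c (Fin.ext (by simp))
  · show c ⟨m - (j + 1), _⟩ ≤ c ⟨m - j, _⟩ ∧
      ∃ x ∈ S, c ⟨m - j, _⟩ = c ⟨m - (j + 1), _⟩ ⊔ Subgroup.zpowers x
    by_cases hj : j < m
    · have e1 : c ⟨m - (j + 1), by omega⟩ = c (Fin.castSucc ⟨m - (j + 1), by omega⟩) :=
        congrArg c (Fin.ext rfl)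
      have e2 : c ⟨m - j, by omega⟩ = c (Fin.succ ⟨m - (j + 1), by omega⟩) :=
        congrArg c (Fin.ext (by simp only [Fin.val_succ]; omega))
      rw [e1, e2]
      exact hstep ⟨m - (j + 1), by omega⟩
    · have e : (⟨m - (j + 1), by omega⟩ : Fin (m + 1)) = ⟨m - j, by omega⟩ :=
        Fin.ext (by simp only; omega)
      rw [e]
      refine ⟨le_rfl, 1, S.one_mem, ?_⟩
      rw [Subgroup.zpowers_one_eq_bot, sup_bot_eq]

/-- A section of a cyclic step is cyclic. -/
theorem isCyclic_section {G : Type*} [Group G] (A B R : Subgroup G) (x : G) (hAB : A ≤ B)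
    (hB : B = A ⊔ Subgroup.zpowers x) (hn : ∀ b ∈ B, ∀ a ∈ A, b * a * b⁻¹ ∈ A)
    [((A.subgroupOf R).subgroupOf (B.subgroupOf R)).Normal] :
    IsCyclic (↥(B.subgroupOf R) ⧸ (A.subgroupOf R).subgroupOf (B.subgroupOf R)) := by
  haveI hN : (A.subgroupOf B).Normal := ⟨fun a ha b => by
    rw [Subgroup.mem_subgroupOf] at ha ⊢
    exact hn b.1 b.2 a.1 ha⟩
  have hxB : x ∈ B := by
    rw [hB]
    exact Subgroup.mem_sup_right (Subgroup.mem_zpowers x)
  have hcyc : IsCyclic (↥B ⧸ A.subgroupOf B) := by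
    refine ⟨⟨((⟨x, hxB⟩ : ↥B) : ↥B ⧸ A.subgroupOf B), fun q => ?_⟩⟩
    induction q using QuotientGroup.induction_on with
    | H b =>
      let T : Subgroup G := ((Subgroup.zpowers (((⟨x, hxB⟩ : ↥B) : ↥B ⧸ A.subgroupOf B))).comap
        (QuotientGroup.mk' (A.subgroupOf B))).map B.subtype
      have hAT : A ≤ T := by
        intro a ha
        refine ⟨⟨a, hAB ha⟩, ?_, rfl⟩
        show ((⟨a, hAB ha⟩ : ↥B) : ↥B ⧸ A.subgroupOf B) ∈ Subgroup.zpowers _
        have h1 : ((⟨a, hAB ha⟩ : ↥B) : ↥B ⧸ A.subgroupOf B) = 1 :=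
          (QuotientGroup.eq_one_iff (⟨a, hAB ha⟩ : ↥B)).2 (Subgroup.mem_subgroupOf.2 ha)
        rw [h1]
        exact Subgroup.one_mem _
      have hxT : Subgroup.zpowers x ≤ T := by
        rw [Subgroup.zpowers_le]
        exact ⟨⟨x, hxB⟩, Subgroup.mem_zpowers _, rfl⟩
      have hbT : (b : G) ∈ T := (sup_le hAT hxT) (hB ▸ b.2)
      obtain ⟨b', hb', hbb'⟩ := hbT
      have : b' = b := Subtype.ext hbb'
      rw [← this]
      exact hb'
  let θ : ↥(B.subgroupOf R) →* ↥B :=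
    { toFun := fun y => ⟨((y : ↥R) : G), Subgroup.mem_subgroupOf.1 y.2⟩
      map_one' := rfl
      map_mul' := fun _ _ => rfl }
  let f : ↥(B.subgroupOf R) ⧸ (A.subgroupOf R).subgroupOf (B.subgroupOf R) →*
      ↥B ⧸ A.subgroupOf B :=
    QuotientGroup.lift _ ((QuotientGroup.mk' (A.subgroupOf B)).comp θ) (by
      intro y hy
      rw [Subgroup.mem_subgroupOf, Subgroup.mem_subgroupOf] at hy
      show ((θ y : ↥B) : ↥B ⧸ A.subgroupOf B) = 1
      rw [QuotientGroup.eq_one_iff, Subgroup.mem_subgroupOf]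
      exact hy)
  have hinj : Function.Injective f := by
    rw [injective_iff_map_eq_one]
    intro q hq
    induction q using QuotientGroup.induction_on with
    | H y =>
      have h1 : ((θ y : ↥B) : ↥B ⧸ A.subgroupOf B) = 1 := hq
      rw [QuotientGroup.eq_one_iff, Subgroup.mem_subgroupOf] at h1
      rw [QuotientGroup.eq_one_iff, Subgroup.mem_subgroupOf, Subgroup.mem_subgroupOf]
      exact h1
  exact isCyclic_of_injective f hinj

/-- The chain induced on a subgroup `R ≤ S`, with the action of `Aut_F(R)`. -/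
theorem cycData_of_descChain {F : FusionSystem S} {m : ℕ} {c' : ℕ → Subgroup Ω}
    (h : DescChain F m c') {R : Subgroup Ω} (hR : R ≤ S) :
    CycData (F.autGroup R) (fun j => (c' j).subgroupOf R) where
  mono := by
    intro j x hx
    rw [Subgroup.mem_subgroupOf] at hx ⊢
    exact (h.step j).1 hx
  inv := by
    intro j α hα x hx
    rw [Subgroup.mem_subgroupOf] at hx ⊢
    have h1 := (mem_autGroup_iff F hR α).1 hα
    have h2 := restrict_mem F h1 (inf_le_right : c' j ⊓ R ≤ R)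
    exact (h.closed j).2 (c' j ⊓ R) inf_le_left _ h2 ⟨x, hx, x.2⟩
  normal := by
    intro j
    refine ⟨fun n hn g => ?_⟩
    rw [Subgroup.mem_subgroupOf, Subgroup.mem_subgroupOf] at hn ⊢
    exact stronglyClosed_conj_mem (h.closed (j + 1)) (hR g.1.2) hn
  cyclic := by
    intro j _
    obtain ⟨hle, x, -, hx⟩ := h.step j
    exact isCyclic_section (c' (j + 1)) (c' j) R x hle hx
      (fun b hb a ha => stronglyClosed_conj_mem (h.closed (j + 1)) ((h.closed j).1 hb) ha)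

theorem descChain_top_bot {F : FusionSystem S} {m : ℕ} {c' : ℕ → Subgroup Ω}
    (h : DescChain F m c') {R : Subgroup Ω} (hR : R ≤ S) :
    (c' 0).subgroupOf R = ⊤ ∧ (c' m).subgroupOf R = ⊥ := by
  rw [h.top, h.bot]
  exact ⟨Subgroup.subgroupOf_eq_top.2 hR, Subgroup.bot_subgroupOf R⟩

/-- A saturated system with a supersoluble chain has no essential subgroups. -/
theorem not_essential_of_descChain [Finite S] {p : ℕ} [Fact p.Prime] (hS : IsPGroup p S)
    {F : FusionSystem S} (hF : F.IsSaturated p) {m : ℕ} {c' : ℕ → Subgroup Ω}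
    (h : DescChain F m c') {R : Subgroup Ω} (hess : F.IsEssential p R) : False := by
  have hRS : R ≤ S := hess.1.1
  haveI hfinR : Finite R := finite_of_le S hRS
  have hRp : IsPGroup p R := hS.to_le hRS
  have hcd := cycData_of_descChain h hRS
  obtain ⟨h0, hm⟩ := descChain_top_bot h hRS
  obtain ⟨cc, hcc⟩ : ∃ cc : ℕ → Subgroup ↥R, cc = fun j => (c' j).subgroupOf R := ⟨_, rfl⟩
  rw [← hcc] at hcd
  have h0' : cc 0 = ⊤ := by rw [hcc]; exact h0
  have hm' : cc m = ⊥ := by rw [hcc]; exact hm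
  let K : Subgroup (MulAut R) := F.autGroup R ⊓ chainStab cc hcd.mono
  have hKp : IsPGroup p K :=
    isPGroup_of_stabilizes hRp hcd.mono m h0' hm' K (fun α hα => hα.2)
  have hTp : IsPGroup p (autInducedBy S R) := Cfsg.Agent.Lib.H25.autInducedBy_isPGroup hS R
  have hTle : autInducedBy S R ≤ F.autGroup R := autInducedBy_le_autGroup F hRS
  have hKn : ∀ α ∈ F.autGroup R, ∀ κ ∈ K, α * κ * α⁻¹ ∈ K := by
    intro α hα κ hκ
    refine ⟨Subgroup.mul_mem _ (Subgroup.mul_mem _ hα hκ.1) (Subgroup.inv_mem _ hα), ?_⟩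
    intro i x hx
    have hy : α⁻¹ x ∈ cc i := hcd.inv i α⁻¹ (Subgroup.inv_mem _ hα) x hx
    have h1 := hκ.2 i (α⁻¹ x) hy
    have h2 := hcd.inv (i + 1) α hα _ h1
    have e : α ((α⁻¹ x)⁻¹ * κ (α⁻¹ x)) = x⁻¹ * (α * κ * α⁻¹) x := by
      rw [map_mul, map_inv, MulAut.apply_inv_self, MulAut.mul_apply, MulAut.mul_apply]
    rw [e] at h2
    exact h2
  let N : Subgroup (MulAut R) := K ⊔ autInducedBy S R
  have hNp : IsPGroup p N := by
    apply IsPGroup.to_sup_of_normal_left' hKp hTp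
    intro τ hτ
    apply mem_normalizer_of_conj_mem
    · intro κ hκ
      exact hKn τ (hTle hτ) κ hκ
    · intro κ hκ
      have := hKn τ⁻¹ (Subgroup.inv_mem _ (hTle hτ)) κ hκ
      rwa [inv_inv] at this
  have hNG : N ≤ F.autGroup R := sup_le inf_le_left hTle
  have hNnorm : ∀ α ∈ F.autGroup R, ∀ γ ∈ N, α * γ * α⁻¹ ∈ N := by
    intro α hα γ hγ
    have hγG := hNG hγ
    have h1 : α * γ * α⁻¹ * γ⁻¹ ∈ K :=
      ⟨Subgroup.mul_mem _ (Subgroup.mul_mem _ (Subgroup.mul_mem _ hα hγG) (Subgroup.inv_mem _ hα))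
        (Subgroup.inv_mem _ hγG), stabilizes_commutator hcd hα hγG⟩
    have e : α * γ * α⁻¹ = (α * γ * α⁻¹ * γ⁻¹) * γ := by group
    rw [e]
    exact Subgroup.mul_mem _ (Subgroup.mem_sup_left h1) hγ
  exact not_essential_of_normal_pgroup hS hF hess N hNG hNnorm hNp le_sup_right

/-- A saturated system with a supersoluble chain has `S` as a normal subgroup. -/
theorem isNormal_of_descChain [Finite S] {p : ℕ} [Fact p.Prime] (hS : IsPGroup p S)
    {F : FusionSystem S} (hF : F.IsSaturated p) {m : ℕ} {c' : ℕ → Subgroup Ω}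
    (h : DescChain F m c') : F.IsNormal S := by
  apply isNormal_of_essential hS hF
  intro T hT
  rcases hT with rfl | hT
  · exact ⟨le_rfl, fun α _ x _ => (α x).2⟩
  · exact (not_essential_of_descChain hS hF h hT).elim

/-- Coprime orders force triviality. -/
theorem eq_one_of_pow_coprime {G : Type*} [Group G] {x : G} {a b : ℕ} (hab : a.Coprime b)
    (ha : x ^ a = 1) (hb : x ^ b = 1) : x = 1 := by
  have := pow_gcd_eq_one.2 ⟨ha, hb⟩
  rwa [Nat.Coprime.gcd_eq_one hab, pow_one] at this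

theorem pow_card_subgroup_eq_one {G : Type*} [Group G] (H : Subgroup G) [Finite H] {h : G}
    (hh : h ∈ H) : h ^ Nat.card H = 1 := by
  have h1 : (⟨h, hh⟩ : ↥H) ^ Nat.card H = 1 := pow_card_eq_one'
  have h2 := congrArg (fun w : ↥H => (w : G)) h1
  rw [Subgroup.coe_pow] at h2
  exact h2

/-- An element of `p`-power order in `Inn ⊔ H`, `H` a `p'`-group, is inner. -/
theorem mem_inn_of_pPower {X : Type*} [Group X] {p : ℕ} (H : Subgroup (MulAut X)) [Finite H]
    (hH : (Nat.card H).Coprime p) {α : MulAut X} (hα : α ∈ Inn X ⊔ H) {k : ℕ}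
    (hk : α ^ (p ^ k) = 1) : α ∈ Inn X := by
  have h1 : α ∈ ((Inn X ⊔ H : Subgroup (MulAut X)) : Set (MulAut X)) := hα
  rw [Subgroup.normal_mul] at h1
  obtain ⟨i, hi, h, hh, rfl⟩ := Set.mem_mul.1 h1
  have hπi : ((i : MulAut X) : MulAut X ⧸ Inn X) = 1 := (QuotientGroup.eq_one_iff i).2 hi
  have hπ : ((i * h : MulAut X) : MulAut X ⧸ Inn X) = (h : MulAut X ⧸ Inn X) := by
    rw [QuotientGroup.mk_mul, hπi, one_mul]
  have e1 : (h : MulAut X ⧸ Inn X) ^ (p ^ k) = 1 := by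
    rw [← hπ, ← QuotientGroup.mk_pow, hk]
    rfl
  have e2 : (h : MulAut X ⧸ Inn X) ^ Nat.card H = 1 := by
    rw [← QuotientGroup.mk_pow, pow_card_subgroup_eq_one H hh]
    rfl
  have e3 := eq_one_of_pow_coprime (Nat.Coprime.pow_right k hH) e2 e1
  exact Subgroup.mul_mem _ hi ((QuotientGroup.eq_one_iff h).1 e3)

/-- If every saturated system has a supersoluble chain, the `p'`-subgroups of `Aut(S)` are
abelian of exponent dividing `p - 1`. -/
theorem comm_and_pow_of_descChain [Finite S] {p : ℕ} [Fact p.Prime] (hS : IsPGroup p S)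
    (hall : ∀ F : FusionSystem S, F.IsSaturated p → ∃ (m : ℕ) (c' : ℕ → Subgroup Ω),
      DescChain F m c')
    (H : Subgroup (MulAut ↥S)) (hH : (Nat.card H).Coprime p) :
    (∀ a ∈ H, ∀ b ∈ H, a * b = b * a) ∧ ∀ h ∈ H, h ^ (p - 1) = 1 := by
  let A : Subgroup (MulAut ↥S) := Inn ↥S ⊔ H
  have hinv : ∀ α ∈ A, ∀ x : ↥S, (x : Ω) ∈ S → ((α x : ↥S) : Ω) ∈ S := fun α _ x _ => (α x).2
  have hconj : ∀ t : ↥S, (t : Ω) ∈ S → MulAut.conj t ∈ A :=
    fun t _ => Subgroup.mem_sup_left ⟨t, rfl⟩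
  let E : FusionSystem S := autSystem S S le_rfl A hinv hconj
  have hsat : E.IsSaturated p := by
    apply autSystem_isSaturated hS
    rintro α hα ⟨k, hk⟩
    obtain ⟨t, rfl⟩ := mem_inn_of_pPower H hH hα hk
    exact ⟨(t : Ω), t.2, fun x _ => rfl⟩
  obtain ⟨m, c', hdc⟩ := hall E hsat
  have hcd := cycData_of_descChain hdc (le_rfl : S ≤ S)
  obtain ⟨h0, hm⟩ := descChain_top_bot hdc (le_rfl : S ≤ S)
  obtain ⟨cc, hcc⟩ : ∃ cc : ℕ → Subgroup ↥S, cc = fun j => (c' j).subgroupOf S := ⟨_, rfl⟩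
  rw [← hcc] at hcd
  have h0' : cc 0 = ⊤ := by rw [hcc]; exact h0
  have hm' : cc m = ⊥ := by rw [hcc]; exact hm
  have hHE : H ≤ E.autGroup S := by
    intro α hα
    rw [mem_autGroup_iff E le_rfl]
    exact ⟨le_rfl, α, Subgroup.mem_sup_right hα, fun x => rfl⟩
  have key : ∀ γ ∈ H, Stabilizes cc γ → γ = 1 := by
    intro γ hγ hst
    obtain ⟨k, hk⟩ := pow_eq_one_of_stabilizes hS hcd.mono m h0' hm' hst
    exact eq_one_of_pow_coprime (Nat.Coprime.pow_right k hH) (pow_card_subgroup_eq_one H hγ) hk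
  refine ⟨fun a ha b hb => ?_, fun h hh => ?_⟩
  · have h1 := key (a * b * a⁻¹ * b⁻¹)
      (H.mul_mem (H.mul_mem (H.mul_mem ha hb) (H.inv_mem ha)) (H.inv_mem hb))
      (stabilizes_commutator hcd (hHE ha) (hHE hb))
    calc a * b = (a * b * a⁻¹ * b⁻¹) * (b * a) := by group
      _ = b * a := by rw [h1, one_mul]
  · exact key _ (H.pow_mem hh _)
      (stabilizes_pow hS hcd (hHE hh) hH (pow_card_subgroup_eq_one H hh))

theorem autInducedBy_self_eq_inn : autInducedBy S S = Inn ↥S := by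
  ext α
  rw [mem_autInducedBy_iff]
  constructor
  · rintro ⟨g, hg, h⟩
    refine ⟨⟨g, hg⟩, ?_⟩
    ext x
    rw [h]
    rfl
  · rintro ⟨g, rfl⟩
    exact ⟨g.1, g.2, fun x => rfl⟩

/-- When `S` is normal in the system, subgroups invariant under `Aut_F(S)` are strongly
closed. -/
theorem stronglyClosed_of_invUnder {F : FusionSystem S} (hn : F.IsNormal S) (T : Subgroup ↥S)
    (hT : InvUnder (F.autGroup S) T) : F.StronglyClosed (T.map S.subtype) := by
  refine ⟨Subgroup.map_subtype_le T, fun R hR φ hφ x => ?_⟩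
  have hiso := isIso_of_mem F hφ
  obtain ⟨g, -, hgφ, hgS⟩ := isNormal_exists_ext hn hiso
  obtain ⟨α, hα, hαg⟩ := exists_mem_autGroup_of_isIso F hgS
  obtain ⟨t, ht, htx⟩ := hR x.2
  have h1 : φ x = g x := by
    rw [hgφ x x.2, ext1_apply]
  have h2 := hαg t
  have htx' : (t : Ω) = x := htx
  rw [htx'] at h2
  rw [h1, ← h2]
  exact ⟨α t, hT α hα t ht, rfl⟩

/-- Chains exist when `S` is normal in the system and the `p'`-subgroups of `Aut(S)` are abelian
of exponent dividing `p - 1`. -/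
theorem exists_chain_of_normal [Finite S] {p : ℕ} [Fact p.Prime] (hS : IsPGroup p S)
    {F : FusionSystem S} (hF : F.IsSaturated p) (hn : F.IsNormal S)
    (hH : ∀ H : Subgroup (MulAut ↥S), (Nat.card H).Coprime p →
      (∀ a ∈ H, ∀ b ∈ H, a * b = b * a) ∧ ∀ h ∈ H, h ^ (p - 1) = 1) :
    ∃ (m : ℕ) (c : Fin (m + 1) → Subgroup Ω), c 0 = ⊥ ∧ c (Fin.last m) = S ∧
      (∀ i : Fin (m + 1), F.StronglyClosed (c i)) ∧
      ∀ i : Fin m, c i.castSucc ≤ c i.succ ∧
        ∃ x ∈ S, c i.succ = c i.castSucc ⊔ Subgroup.zpowers x := by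
  have hinn : ∀ g : ↥S, MulAut.conj g ∈ F.autGroup S := by
    intro g
    apply autInducedBy_le_autGroup F le_rfl
    rw [autInducedBy_self_eq_inn]
    exact ⟨g, rfl⟩
  -- `Inn(S)` is a Sylow subgroup of `Aut_F(S)`
  obtain ⟨Q, hSQ, hfa, -⟩ := hF S le_rfl
  obtain ⟨f, hf⟩ := (isConj_iff F).1 hSQ
  have hQS : Q = S := by
    apply Subgroup.eq_of_le_of_card_ge hf.le_right
    rw [← hf.card_eq]
  rw [hQS] at hfa
  obtain ⟨-, R₀, hR₀⟩ := hfa
  rw [autInducedBy_self_eq_inn] at hR₀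
  obtain ⟨m, d, hd0, hdm, hdinv, hdstep⟩ :=
    Cfsg.Agent.Lib.H26.SuperChain.exists_chain_of_sylow hS (F.autGroup S) hinn R₀ hR₀ hH
  refine ⟨m, fun i => (d i.val).map S.subtype, ?_, ?_, fun i => ?_, fun i => ?_⟩
  · show (d 0).map S.subtype = ⊥
    rw [hd0, Subgroup.map_bot]
  · show (d m).map S.subtype = S
    rw [hdm, ← MonoidHom.range_eq_map, Subgroup.range_subtype]
  · exact stronglyClosed_of_invUnder hn _ (hdinv _)
  · show (d i.val).map S.subtype ≤ (d (i.val + 1)).map S.subtype ∧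
      ∃ x ∈ S, (d (i.val + 1)).map S.subtype = (d i.val).map S.subtype ⊔ Subgroup.zpowers x
    obtain ⟨hle, x, hx⟩ := hdstep i.val
    refine ⟨Subgroup.map_mono hle, (x : Ω), x.2, ?_⟩
    rw [hx, Subgroup.map_sup, MonoidHom.map_zpowers]
    rfl

end Cfsg.Agent.Lib.H26.SuperFusion
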