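import Mathlib
import Cfsg.Agent.Lib.H26.ChainStab

set_option autoImplicit false

/-!
Two "transvections" `u`, `v` of a finite abelian `p`-group `A` (each moves `A` into a subgroup of order
`p` which it fixes, and has a fixed-point subgroup of index `p`) which do not generate a `p`-group:
then `A = W × C` with `W = [A,u][A,v]` of order `p²` and `C = C_A(u) ∩ C_A(v)`, and `⟨u,v⟩` contains
the automorphism inverting `W` and centralizing `C` (helper26).
-/

namespace Cfsg.Agent.Lib.H26.TransvPair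

open Cfsg.Agent.Lib.H26.ChainStab

variable {A : Type*} [Group A]

/-- The fixed points of an automorphism. -/
def fixSub (u : MulAut A) : Subgroup A where
  carrier := {x | u x = x}
  one_mem' := map_one u
  mul_mem' := by
    intro a b ha hb
    show u (a * b) = a * b
    rw [map_mul, ha, hb]
  inv_mem' := by
    intro a ha
    show u a⁻¹ = a⁻¹
    rw [map_inv, ha]

theorem mem_fixSub {u : MulAut A} {x : A} : x ∈ fixSub u ↔ u x = x := Iff.rfl

theorem card_sup_of_disjoint (H K : Subgroup A) [K.Normal] (h : H ⊓ K = ⊥) :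
    Nat.card (H ⊔ K : Subgroup A) = Nat.card H * Nat.card K := by
  have h1 : K.relIndex (H ⊔ K) = K.relIndex H := Subgroup.relIndex_sup_right H K
  have h2 : K.relIndex H = Nat.card H := by
    rw [← Subgroup.inf_relIndex_right, inf_comm, h, Subgroup.relIndex_bot_left]
  have h3 : K.relIndex (H ⊔ K) * Nat.card K = Nat.card (H ⊔ K : Subgroup A) := by
    have := (K.subgroupOf (H ⊔ K)).index_mul_card
    rw [← this]
    congr 1
    exact (Nat.card_congr
      (Subgroup.subgroupOfEquivOfLe (le_sup_right : K ≤ H ⊔ K)).toEquiv).symm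
  rw [← h3, h1, h2]

theorem normal_of_comm (hc : ∀ x y : A, x * y = y * x) (K : Subgroup A) : K.Normal :=
  ⟨fun n hn g => by rw [hc g n, mul_inv_cancel_right]; exact hn⟩

/-- In a subgroup of prime order, an automorphism fixing a nontrivial element fixes everything. -/
theorem fixes_of_prime_card {p : ℕ} [Fact p.Prime] {K : Subgroup A} (hK : Nat.card K = p)
    {b : A} (hb : b ∈ K) (hb1 : b ≠ 1) (w : MulAut A) (hw : w b = b) : ∀ y ∈ K, w y = y := by
  intro y hy
  have hb' : (⟨b, hb⟩ : K) ≠ 1 := fun h => hb1 (congrArg Subtype.val h)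
  have htop := zpowers_eq_top_of_prime_card hK hb'
  have : (⟨y, hy⟩ : K) ∈ Subgroup.zpowers (⟨b, hb⟩ : K) := by rw [htop]; exact Subgroup.mem_top _
  obtain ⟨k, hk⟩ := this
  have hk' : b ^ k = y := by
    have := congrArg Subtype.val hk
    simpa using this
  rw [← hk', map_zpow, hw]

/-- Every element of a subgroup of prime order is a natural power of a nontrivial element. -/
theorem exists_pow_of_prime_card [Finite A] {p : ℕ} [Fact p.Prime] {K : Subgroup A}
    (hK : Nat.card K = p) {b : A} (hb : b ∈ K) (hb1 : b ≠ 1) {y : A} (hy : y ∈ K) :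
    ∃ k : ℕ, b ^ k = y := by
  have hb' : (⟨b, hb⟩ : K) ≠ 1 := fun h => hb1 (congrArg Subtype.val h)
  have htop := zpowers_eq_top_of_prime_card hK hb'
  have : (⟨y, hy⟩ : K) ∈ Subgroup.zpowers (⟨b, hb⟩ : K) := by rw [htop]; exact Subgroup.mem_top _
  rw [← mem_powers_iff_mem_zpowers] at this
  obtain ⟨k, hk⟩ := this
  refine ⟨k, ?_⟩
  have := congrArg Subtype.val hk
  simpa using this

/-- The homomorphism `x ↦ x⁻¹ u(x)` of a commutative group. -/
def movHom (hc : ∀ x y : A, x * y = y * x) (u : MulAut A) : A →* A where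
  toFun x := x⁻¹ * u x
  map_one' := by simp
  map_mul' a b := by
    calc (a * b)⁻¹ * u (a * b) = b⁻¹ * (a⁻¹ * u a) * u b := by
          rw [map_mul, mul_inv_rev]; group
      _ = (a⁻¹ * u a) * b⁻¹ * u b := by rw [hc b⁻¹ (a⁻¹ * u a)]
      _ = (a⁻¹ * u a) * (b⁻¹ * u b) := by group

theorem movHom_apply (hc : ∀ x y : A, x * y = y * x) (u : MulAut A) (x : A) :
    movHom hc u x = x⁻¹ * u x := rfl

/-- `[A, u]`. -/
def movSub (hc : ∀ x y : A, x * y = y * x) (u : MulAut A) : Subgroup A := (movHom hc u).range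

theorem mem_movSub {hc : ∀ x y : A, x * y = y * x} {u : MulAut A} {y : A} :
    y ∈ movSub hc u ↔ ∃ x : A, x⁻¹ * u x = y := Iff.rfl

theorem movHom_ker (hc : ∀ x y : A, x * y = y * x) (u : MulAut A) :
    (movHom hc u).ker = fixSub u := by
  ext x
  rw [MonoidHom.mem_ker, movHom_apply, mem_fixSub, inv_mul_eq_one, eq_comm]

theorem card_movSub [Finite A] (hc : ∀ x y : A, x * y = y * x) (u : MulAut A) :
    Nat.card (movSub hc u) = (fixSub u).index := by
  rw [← movHom_ker hc u]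
  exact (Subgroup.index_ker _).symm

theorem fixSub_conj (g u : MulAut A) :
    fixSub (g * u * g⁻¹) = (fixSub u).map g.toMonoidHom := by
  ext y
  constructor
  · intro hy
    refine ⟨g⁻¹ y, ?_, by simp⟩
    have hy' : g (u (g⁻¹ y)) = y := hy
    show u (g⁻¹ y) = g⁻¹ y
    have := congrArg (fun t => g⁻¹ t) hy'
    simpa using this
  · rintro ⟨x, hx, rfl⟩
    have hx' : u x = x := hx
    show g (u (g⁻¹ (g x))) = g x
    simp [hx']

theorem index_fixSub_conj (g u : MulAut A) : (fixSub (g * u * g⁻¹)).index = (fixSub u).index := by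
  rw [fixSub_conj]
  exact Subgroup.index_map_equiv (fixSub u) g

theorem movSub_conj (hc : ∀ x y : A, x * y = y * x) (g u : MulAut A) :
    movSub hc (g * u * g⁻¹) = (movSub hc u).map g.toMonoidHom := by
  ext y
  constructor
  · rintro ⟨x, rfl⟩
    refine ⟨(g⁻¹ x)⁻¹ * u (g⁻¹ x), ⟨g⁻¹ x, rfl⟩, ?_⟩
    show g ((g⁻¹ x)⁻¹ * u (g⁻¹ x)) = x⁻¹ * g (u (g⁻¹ x))
    rw [map_mul, map_inv]
    simp
  · rintro ⟨_, ⟨x, rfl⟩, rfl⟩
    refine ⟨g x, ?_⟩
    show (g x)⁻¹ * g (u (g⁻¹ (g x))) = g (x⁻¹ * u x)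
    rw [map_mul, map_inv]
    simp

/-- The hypotheses on a pair of transvections. -/
structure Setup (p : ℕ) (u v : MulAut A) (Lu Lv : Subgroup A) : Prop where
  comm : ∀ x y : A, x * y = y * x
  pgrp : IsPGroup p A
  cardLu : Nat.card Lu = p
  cardLv : Nat.card Lv = p
  u_mv : ∀ x, x⁻¹ * u x ∈ Lu
  u_fix : ∀ x ∈ Lu, u x = x
  v_mv : ∀ x, x⁻¹ * v x ∈ Lv
  v_fix : ∀ x ∈ Lv, v x = x
  idx_u : (fixSub u).index = p
  idx_v : (fixSub v).index = p
  notp : ¬ IsPGroup p (Subgroup.closure ({u, v} : Set (MulAut A)))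

namespace Setup

variable {p : ℕ} [Fact p.Prime] {u v : MulAut A} {Lu Lv : Subgroup A}

theorem symm (h : Setup p u v Lu Lv) : Setup p v u Lv Lu where
  comm := h.comm
  pgrp := h.pgrp
  cardLu := h.cardLv
  cardLv := h.cardLu
  u_mv := h.v_mv
  u_fix := h.v_fix
  v_mv := h.u_mv
  v_fix := h.u_fix
  idx_u := h.idx_v
  idx_v := h.idx_u
  notp := by
    have : ({v, u} : Set (MulAut A)) = {u, v} := Set.pair_comm v u
    rw [this]
    exact h.notp

theorem mem_sup (h : Setup p u v Lu Lv) {x : A} :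
    x ∈ Lu ⊔ Lv ↔ ∃ a ∈ Lu, ∃ b ∈ Lv, a * b = x := by
  haveI := normal_of_comm h.comm Lv
  exact Subgroup.mem_sup_of_normal_right

/-- `u` does not fix `Lv` pointwise. -/
theorem not_fix_u [Finite A] (h : Setup p u v Lu Lv) : ¬ ∀ y ∈ Lv, u y = y := by
  intro hfix
  apply h.notp
  have hW : ∀ x ∈ Lu ⊔ Lv, u x = x := by
    intro x hx
    obtain ⟨a, ha, b, hb, rfl⟩ := h.mem_sup.1 hx
    rw [map_mul, h.u_fix a ha, hfix b hb]
  apply isPGroup_closure_chain3 h.pgrp (le_sup_right : Lv ≤ Lu ⊔ Lv)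
  intro α hα
  rcases hα with rfl | hα
  · refine ⟨fun x => le_sup_left (a := Lu) (h.u_mv x), fun x hx => ?_, hfix⟩
    rw [hW x hx, inv_mul_cancel]
    exact Lv.one_mem
  · rw [Set.mem_singleton_iff] at hα
    subst hα
    exact ⟨fun x => le_sup_right (b := Lv) (h.v_mv x), fun x _ => h.v_mv x, h.v_fix⟩

/-- `v` does not fix `Lu` pointwise. -/
theorem not_fix_v [Finite A] (h : Setup p u v Lu Lv) : ¬ ∀ y ∈ Lu, v y = y :=
  h.symm.not_fix_u

/-- `W ∩ C = 1`. -/
theorem inf_eq_bot [Finite A] (h : Setup p u v Lu Lv) :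
    (Lu ⊔ Lv) ⊓ (fixSub u ⊓ fixSub v) = ⊥ := by
  rw [eq_bot_iff]
  rintro x ⟨hxW, hxu, hxv⟩
  rw [Subgroup.mem_bot]
  by_contra hx1
  obtain ⟨a, ha, b, hb, rfl⟩ := h.mem_sup.1 hxW
  have hub : u b = b := by
    have h1 : u (a * b) = a * b := hxu
    rw [map_mul, h.u_fix a ha] at h1
    exact mul_left_cancel h1
  have hva : v a = a := by
    have h1 : v (a * b) = a * b := hxv
    rw [map_mul, h.v_fix b hb] at h1
    exact mul_right_cancel h1
  by_cases hb1 : b = 1
  · have ha1 : a ≠ 1 := by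
      intro ha1
      apply hx1
      rw [ha1, hb1, mul_one]
    exact h.not_fix_v (fixes_of_prime_card h.cardLu ha ha1 v hva)
  · exact h.not_fix_u (fixes_of_prime_card h.cardLv hb hb1 u hub)

theorem Lu_le_fix (h : Setup p u v Lu Lv) : Lu ≤ fixSub u := fun x hx => h.u_fix x hx

theorem Lv_le_fix (h : Setup p u v Lu Lv) : Lv ≤ fixSub v := fun x hx => h.v_fix x hx

theorem Lu_inf_Lv [Finite A] (h : Setup p u v Lu Lv) : Lu ⊓ Lv = ⊥ := by
  rw [eq_bot_iff, ← h.inf_eq_bot]
  intro x hx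
  exact ⟨le_sup_left (a := Lu) hx.1, h.Lu_le_fix hx.1, h.Lv_le_fix hx.2⟩

theorem card_W [Finite A] (h : Setup p u v Lu Lv) : Nat.card (Lu ⊔ Lv : Subgroup A) = p ^ 2 := by
  haveI := normal_of_comm h.comm Lv
  rw [card_sup_of_disjoint Lu Lv h.Lu_inf_Lv, h.cardLu, h.cardLv, sq]

/-- `|A| = p² |C|`. -/
theorem card_eq [Finite A] (h : Setup p u v Lu Lv) :
    Nat.card A = p ^ 2 * Nat.card (fixSub u ⊓ fixSub v : Subgroup A) := by
  haveI := normal_of_comm h.comm (fixSub u ⊓ fixSub v)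
  have h1 := card_sup_of_disjoint (Lu ⊔ Lv) (fixSub u ⊓ fixSub v) h.inf_eq_bot
  rw [h.card_W] at h1
  have h2 : Nat.card (Lu ⊔ Lv ⊔ (fixSub u ⊓ fixSub v) : Subgroup A) ≤ Nat.card A :=
    Subgroup.card_le_card_group _
  have h3 := (fixSub u ⊓ fixSub v).index_mul_card
  have h4 : (fixSub u ⊓ fixSub v).index ≤ p * p := by
    have := Subgroup.index_inf_le (H := fixSub u) (K := fixSub v)
    rwa [h.idx_u, h.idx_v] at this
  have hpos : 0 < Nat.card (fixSub u ⊓ fixSub v : Subgroup A) := Nat.card_pos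
  apply le_antisymm
  · rw [← h3, sq]
    exact Nat.mul_le_mul_right _ h4
  · rw [← h1]
    exact h2

/-- `W C = A`. -/
theorem sup_eq_top [Finite A] (h : Setup p u v Lu Lv) :
    (Lu ⊔ Lv) ⊔ (fixSub u ⊓ fixSub v) = ⊤ := by
  haveI := normal_of_comm h.comm (fixSub u ⊓ fixSub v)
  have h1 := card_sup_of_disjoint (Lu ⊔ Lv) (fixSub u ⊓ fixSub v) h.inf_eq_bot
  rw [h.card_W, ← h.card_eq] at h1
  exact Subgroup.eq_top_of_card_eq _ h1

/-- `C_A(u) = [A,u] × C`. -/
theorem fix_u_eq [Finite A] (h : Setup p u v Lu Lv) :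
    fixSub u = Lu ⊔ (fixSub u ⊓ fixSub v) := by
  haveI := normal_of_comm h.comm (fixSub u ⊓ fixSub v)
  have hle : Lu ⊔ (fixSub u ⊓ fixSub v) ≤ fixSub u := sup_le h.Lu_le_fix inf_le_left
  have hdis : Lu ⊓ (fixSub u ⊓ fixSub v) = ⊥ := by
    rw [eq_bot_iff, ← h.inf_eq_bot]
    exact inf_le_inf_right _ le_sup_left
  have h1 := card_sup_of_disjoint Lu (fixSub u ⊓ fixSub v) hdis
  rw [h.cardLu] at h1
  have h2 := (fixSub u).index_mul_card
  rw [h.idx_u, h.card_eq, sq, mul_assoc] at h2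
  have hp : 0 < p := (Fact.out : p.Prime).pos
  have h3 : Nat.card (fixSub u) = p * Nat.card (fixSub u ⊓ fixSub v : Subgroup A) :=
    Nat.eq_of_mul_eq_mul_left hp h2
  symm
  apply Subgroup.eq_of_le_of_card_ge hle
  rw [h1, h3]

/-- The elements inverted by `h`, as a subgroup (in a commutative group). -/
def invSub (hc : ∀ x y : A, x * y = y * x) (w : MulAut A) : Subgroup A where
  carrier := {x | w x = x⁻¹}
  one_mem' := by show w 1 = 1⁻¹; rw [map_one, inv_one]
  mul_mem' := by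
    intro a b ha hb
    show w (a * b) = (a * b)⁻¹
    rw [map_mul, ha, hb, mul_inv_rev, hc]
  inv_mem' := by
    intro a ha
    show w a⁻¹ = a⁻¹⁻¹
    rw [map_inv, ha]

/-- The reflection: an element of `⟨u, v⟩` inverting `W` and centralizing `C`. -/
theorem exists_reflection [Finite A] (h : Setup p u v Lu Lv) :
    ∃ r ∈ Subgroup.closure ({u, v} : Set (MulAut A)), (∀ w ∈ Lu ⊔ Lv, r w = w⁻¹) ∧
      ∀ c ∈ fixSub u ⊓ fixSub v, r c = c := by
  have hp1 : 1 < p := (Fact.out : p.Prime).one_lt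
  -- a generator `zv` of `Lv`
  have hLv : Lv ≠ ⊥ := by
    intro hbot
    have := h.cardLv
    rw [hbot, Subgroup.card_bot] at this
    omega
  obtain ⟨⟨zv, hzvL⟩, hzv1⟩ := (Subgroup.ne_bot_iff_exists_ne_one).1 hLv
  have hzv1' : zv ≠ 1 := fun hh => hzv1 (Subtype.ext hh)
  -- the generator `zu = zv⁻¹ u(zv)` of `Lu`
  obtain ⟨zu, hzu⟩ : ∃ zu : A, zu = zv⁻¹ * u zv := ⟨_, rfl⟩
  have hzuL : zu ∈ Lu := hzu ▸ h.u_mv zv
  have hzu1 : zu ≠ 1 := by
    intro h1
    rw [h1] at hzu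
    have : u zv = zv := by
      have := congrArg (fun t => zv * t) hzu
      simpa using this.symm
    exact h.not_fix_u (fixes_of_prime_card h.cardLv hzvL hzv1' u this)
  have huzv : u zv = zv * zu := by rw [hzu, mul_inv_cancel_left]
  -- `y = zu⁻¹ v(zu)` generates `Lv`
  obtain ⟨y, hy⟩ : ∃ y : A, y = zu⁻¹ * v zu := ⟨_, rfl⟩
  have hyL : y ∈ Lv := hy ▸ h.v_mv zu
  have hy1 : y ≠ 1 := by
    intro h1
    rw [h1] at hy
    have : v zu = zu := by
      have := congrArg (fun t => zu * t) hy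
      simpa using this.symm
    exact h.not_fix_v (fixes_of_prime_card h.cardLu hzuL hzu1 v this)
  have hvzu : v zu = zu * y := by rw [hy, mul_inv_cancel_left]
  obtain ⟨k, hk⟩ := exists_pow_of_prime_card h.cardLv hyL hy1 (Lv.inv_mem hzvL)
  -- `v' = v ^ k`
  have hvk : ∀ n : ℕ, (v ^ n) zu = zu * y ^ n := by
    intro n
    induction n with
    | zero => simp
    | succ n ih =>
      rw [pow_succ', MulAut.mul_apply, ih, map_mul, hvzu, map_pow, h.v_fix y hyL, pow_succ',
        mul_assoc]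
  have hv'zu : (v ^ k) zu = zu * zv⁻¹ := by rw [hvk, hk]
  have hvfix : ∀ n : ℕ, ∀ x, v x = x → (v ^ n) x = x := by
    intro n x hx
    induction n with
    | zero => simp
    | succ n ih => rw [pow_succ', MulAut.mul_apply, ih, hx]
  have hv'zv : (v ^ k) zv = zv := hvfix k zv (h.v_fix zv hzvL)
  have huzu : u zu = zu := h.u_fix zu hzuL
  obtain ⟨t, ht⟩ : ∃ t : MulAut A, t = u * v ^ k * u := ⟨_, rfl⟩
  have htzu : t zu = zv⁻¹ := by
    rw [ht, MulAut.mul_apply, MulAut.mul_apply, huzu, hv'zu, map_mul, huzu, map_inv, huzv,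
      mul_inv_rev, mul_inv_cancel_left]
  have htzv : t zv = zu := by
    rw [ht, MulAut.mul_apply, MulAut.mul_apply, huzv, map_mul, hv'zv, hv'zu, h.comm zu,
      mul_inv_cancel_left, huzu]
  have hu_mem : u ∈ Subgroup.closure ({u, v} : Set (MulAut A)) :=
    Subgroup.subset_closure (Set.mem_insert u _)
  have hv_mem : v ∈ Subgroup.closure ({u, v} : Set (MulAut A)) :=
    Subgroup.subset_closure (Set.mem_insert_of_mem u rfl)
  have ht_mem : t ∈ Subgroup.closure ({u, v} : Set (MulAut A)) := by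
    rw [ht]
    exact Subgroup.mul_mem _ (Subgroup.mul_mem _ hu_mem (Subgroup.pow_mem _ hv_mem k)) hu_mem
  refine ⟨t * t, Subgroup.mul_mem _ ht_mem ht_mem, ?_, ?_⟩
  · have hzu_inv : zu ∈ invSub h.comm (t * t) := by
      show (t * t) zu = zu⁻¹
      rw [MulAut.mul_apply, htzu, map_inv, htzv]
    have hzv_inv : zv ∈ invSub h.comm (t * t) := by
      show (t * t) zv = zv⁻¹
      rw [MulAut.mul_apply, htzv, htzu]
    have hLu_le : Lu ≤ invSub h.comm (t * t) := by
      intro x hx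
      obtain ⟨n, rfl⟩ := exists_pow_of_prime_card h.cardLu hzuL hzu1 hx
      exact Subgroup.pow_mem _ hzu_inv n
    have hLv_le : Lv ≤ invSub h.comm (t * t) := by
      intro x hx
      obtain ⟨n, rfl⟩ := exists_pow_of_prime_card h.cardLv hzvL hzv1' hx
      exact Subgroup.pow_mem _ hzv_inv n
    intro w hw
    exact (sup_le hLu_le hLv_le) hw
  · rintro c ⟨hcu, hcv⟩
    have hcu' : u c = c := hcu
    have hcv' : (v ^ k) c = c := hvfix k c hcv
    have htc : t c = c := by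
      rw [ht, MulAut.mul_apply, MulAut.mul_apply, hcu', hcv', hcu']
    rw [MulAut.mul_apply, htc, htc]

end Setup

/-- Construction of a `Setup` from an automorphism `u` and a conjugate of it. -/
theorem setup_of_conj [Finite A] {p : ℕ} [Fact p.Prime] (hc : ∀ x y : A, x * y = y * x)
    (hA : IsPGroup p A) (u g : MulAut A) (hidx : (fixSub u).index = p)
    (hfix : ∀ x : A, u (x⁻¹ * u x) = x⁻¹ * u x)
    (hnotp : ¬ IsPGroup p (Subgroup.closure ({u, g * u * g⁻¹} : Set (MulAut A)))) :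
    Setup p u (g * u * g⁻¹) (movSub hc u) (movSub hc (g * u * g⁻¹)) where
  comm := hc
  pgrp := hA
  cardLu := by rw [card_movSub, hidx]
  cardLv := by rw [card_movSub, index_fixSub_conj, hidx]
  u_mv := fun x => ⟨x, rfl⟩
  u_fix := by
    rintro _ ⟨x, rfl⟩
    exact hfix x
  v_mv := fun x => ⟨x, rfl⟩
  v_fix := by
    intro y hy
    rw [movSub_conj] at hy
    obtain ⟨_, ⟨x, rfl⟩, rfl⟩ := hy
    show g (u (g⁻¹ (g (movHom hc u x)))) = g (movHom hc u x)
    rw [movHom_apply]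
    simp [hfix x]
  idx_u := hidx
  idx_v := by rw [index_fixSub_conj, hidx]
  notp := hnotp

/-- The reflection commutes with every automorphism preserving `W` and centralizing `C`. -/
theorem reflection_comm (hc : ∀ x y : A, x * y = y * x) {W C : Subgroup A} (hWC : W ⊔ C = ⊤)
    {r τ : MulAut A} (hrW : ∀ w ∈ W, r w = w⁻¹) (hrC : ∀ c ∈ C, r c = c)
    (hτW : ∀ w ∈ W, τ w ∈ W) (hτC : ∀ c ∈ C, τ c = c) (x : A) : r (τ x) = τ (r x) := by
  haveI := normal_of_comm hc C
  have hx : x ∈ W ⊔ C := by rw [hWC]; exact Subgroup.mem_top x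
  obtain ⟨w, hw, c, hcC, rfl⟩ := Subgroup.mem_sup_of_normal_right.1 hx
  rw [map_mul, map_mul, map_mul, map_mul, hτC c hcC, hrC c hcC, hrW w hw, hrW _ (hτW w hw),
    map_inv, hτC c hcC]

end Cfsg.Agent.Lib.H26.TransvPair
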