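import Mathlib
import Cfsg.Prelude.Def_FusionSystem
import Cfsg.Agent.Lib.H26.TransvPair

set_option autoImplicit false

/-!
Group theory of a finite `p`-group `S` with `|S : Z(S)| = p²` (helper26): commutators are central,
the subgroups strictly between `Z(S)` and `S` are abelian, normal, of index `p`, and for such a
subgroup `E` and `x ∈ S ∖ E` one has `S = E⟨x⟩`, `C_E(x) = Z(S)`, and every commutator of `S` is of the
form `e⁻¹ x e x⁻¹`.
-/

namespace Cfsg.Agent.Lib.H26.SmallCenter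

open Cfsg Cfsg.FusionSystem

variable {Ω : Type*} [Group Ω] {S : Subgroup Ω}

theorem mem_center_iff_coe (x : S) :
    x ∈ Subgroup.center ↥S ↔ (x : Ω) ∈ centralizerIn S S := by
  rw [Subgroup.mem_center_iff]
  constructor
  · intro h
    rw [centralizerIn, Subgroup.mem_inf, Subgroup.mem_centralizer_iff]
    refine ⟨x.2, ?_⟩
    intro g hg
    exact congrArg Subtype.val (h ⟨g, hg⟩)
  · intro h g
    rw [centralizerIn, Subgroup.mem_inf, Subgroup.mem_centralizer_iff] at h
    exact Subtype.ext (h.2 g g.2)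

theorem center_map_eq (S : Subgroup Ω) :
    (Subgroup.center ↥S).map S.subtype = centralizerIn S S := by
  ext y
  constructor
  · rintro ⟨x, hx, rfl⟩
    exact (mem_center_iff_coe x).1 hx
  · intro hy
    exact ⟨⟨y, hy.1⟩, (mem_center_iff_coe ⟨y, hy.1⟩).2 hy, rfl⟩

theorem card_center_eq (S : Subgroup Ω) :
    Nat.card (Subgroup.center ↥S) = Nat.card (centralizerIn S S) := by
  rw [← center_map_eq]
  exact (Subgroup.card_map_of_injective S.subtype_injective).symm

theorem zs_le (S : Subgroup Ω) : centralizerIn S S ≤ S := inf_le_left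

theorem zs_comm {z g : Ω} (hz : z ∈ centralizerIn S S) (hg : g ∈ S) : g * z = z * g := by
  rw [centralizerIn, Subgroup.mem_inf, Subgroup.mem_centralizer_iff] at hz
  exact hz.2 g hg

/-- The standing hypothesis. -/
structure Ctx (p : ℕ) (S : Subgroup Ω) : Prop where
  pgrp : IsPGroup p S
  idx : (Subgroup.center ↥S).index = p ^ 2

namespace Ctx

variable {p : ℕ} [Fact p.Prime] [Finite S]

/-- Commutators are central. -/
theorem comm_mem (h : Ctx p S) {s t : Ω} (hs : s ∈ S) (ht : t ∈ S) :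
    s * t * s⁻¹ * t⁻¹ ∈ centralizerIn S S := by
  have hcard : Nat.card (↥S ⧸ Subgroup.center ↥S) = p ^ 2 := by
    rw [← Subgroup.index_eq_card, h.idx]
  have hcomm := (isMulCommutative_iff.1 (IsPGroup.isMulCommutative_of_card_eq_prime_sq hcard))
  have h1 : ((⟨s, hs⟩ * ⟨t, ht⟩ * ⟨s, hs⟩⁻¹ * ⟨t, ht⟩⁻¹ : S) : ↥S ⧸ Subgroup.center ↥S) = 1 := by
    rw [QuotientGroup.mk_mul, QuotientGroup.mk_mul, QuotientGroup.mk_mul, QuotientGroup.mk_inv,
      QuotientGroup.mk_inv, hcomm (⟨s, hs⟩ : S) (⟨t, ht⟩ : S)]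
    group
  rw [QuotientGroup.eq_one_iff] at h1
  exact (mem_center_iff_coe _).1 h1

theorem card_eq (h : Ctx p S) : Nat.card S = p ^ 2 * Nat.card (centralizerIn S S) := by
  rw [← card_center_eq, ← h.idx]
  exact (Subgroup.index_mul_card _).symm

/-- Cardinalities of an intermediate subgroup. -/
theorem card_mid (h : Ctx p S) {E : Subgroup Ω} (hZE : centralizerIn S S ≤ E) (hES : E ≤ S)
    (hne : E ≠ S) (hne' : ¬ E ≤ centralizerIn S S) :
    Nat.card E = p * Nat.card (centralizerIn S S) ∧ Nat.card S = p * Nat.card E := by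
  have hfinE : Finite E := Finite.of_injective _ (Subgroup.inclusion_injective hES)
  have hfinZ : Finite (centralizerIn S S) :=
    Finite.of_injective _ (Subgroup.inclusion_injective (zs_le S))
  obtain ⟨k, hk⟩ := Subgroup.card_dvd_of_le hZE
  obtain ⟨l, hl⟩ := Subgroup.card_dvd_of_le hES
  have hZpos : 0 < Nat.card (centralizerIn S S) := Nat.card_pos
  have hEpos : 0 < Nat.card E := Nat.card_pos
  have hkl : k * l = p ^ 2 := by
    have := h.card_eq
    rw [hl, hk] at this
    have h2 : Nat.card (centralizerIn S S) * (k * l) = Nat.card (centralizerIn S S) * p ^ 2 := by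
      rw [← mul_assoc, this, mul_comm]
    exact Nat.eq_of_mul_eq_mul_left hZpos h2
  have hkdvd : k ∣ p ^ 2 := ⟨l, hkl.symm⟩
  obtain ⟨j, hj, hkj⟩ := (Nat.dvd_prime_pow (Fact.out : p.Prime)).1 hkdvd
  have hp : 0 < p := (Fact.out : p.Prime).pos
  interval_cases j
  · -- k = 1
    exfalso
    apply hne'
    have : Nat.card E ≤ Nat.card (centralizerIn S S) := by rw [hk, hkj]; simp
    exact (Subgroup.eq_of_le_of_card_ge hZE this).ge
  · rw [pow_one] at hkj
    subst hkj
    have hl' : l = k := by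
      have : k * l = k * k := by rw [hkl, sq]
      exact Nat.eq_of_mul_eq_mul_left hp this
    subst hl'
    exact ⟨by rw [hk, mul_comm], by rw [hl, mul_comm]⟩
  · exfalso
    apply hne
    have hl1 : l = 1 := by
      have : p ^ 2 * l = p ^ 2 * 1 := by rw [← hkj, hkl, mul_one, hkj]
      exact Nat.eq_of_mul_eq_mul_left (pow_pos hp 2) this
    have : Nat.card S ≤ Nat.card E := by rw [hl, hl1, mul_one]
    exact Subgroup.eq_of_le_of_card_ge hES this

/-- A subgroup strictly between `Z(S)` and `S`. -/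
structure Mid (S E : Subgroup Ω) : Prop where
  zle : centralizerIn S S ≤ E
  le : E ≤ S
  ne_top : E ≠ S
  not_le : ¬ E ≤ centralizerIn S S

/-- `E` is abelian. -/
theorem mid_comm (h : Ctx p S) {E : Subgroup Ω} (hE : Mid S E) {a b : Ω} (ha : a ∈ E) (hb : b ∈ E) :
    a * b = b * a := by
  have hfinE : Finite E := Finite.of_injective _ (Subgroup.inclusion_injective hE.le)
  obtain ⟨hc1, -⟩ := h.card_mid hE.zle hE.le hE.ne_top hE.not_le
  have hcen : (centralizerIn S S).subgroupOf E ≤ Subgroup.center ↥E := by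
    intro z hz
    rw [Subgroup.mem_center_iff]
    intro g
    exact Subtype.ext (zs_comm (Subgroup.mem_subgroupOf.1 hz) (hE.le g.2))
  haveI : ((centralizerIn S S).subgroupOf E).Normal :=
    ⟨fun n hn g => by
      have := (Subgroup.mem_center_iff.1 (hcen hn)) g
      rw [this, mul_inv_cancel_right]
      exact hn⟩
  have hcardq : Nat.card (↥E ⧸ (centralizerIn S S).subgroupOf E) = p := by
    rw [← Subgroup.index_eq_card]
    have h1 := ((centralizerIn S S).subgroupOf E).index_mul_card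
    have h2 : Nat.card ((centralizerIn S S).subgroupOf E) = Nat.card (centralizerIn S S) :=
      Nat.card_congr (Subgroup.subgroupOfEquivOfLe hE.zle).toEquiv
    rw [h2, hc1] at h1
    have hfinZ : Finite (centralizerIn S S) :=
      Finite.of_injective _ (Subgroup.inclusion_injective (zs_le S))
    have hZpos : 0 < Nat.card (centralizerIn S S) := Nat.card_pos
    exact Nat.eq_of_mul_eq_mul_right hZpos h1
  haveI : IsCyclic (↥E ⧸ (centralizerIn S S).subgroupOf E) := isCyclic_of_prime_card hcardq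
  have := commutative_of_cyclic_center_quotient
    (QuotientGroup.mk' ((centralizerIn S S).subgroupOf E))
    (by rw [QuotientGroup.ker_mk']; exact hcen) (⟨a, ha⟩ : E) ⟨b, hb⟩
  exact congrArg Subtype.val this

/-- `E` is normal in `S`. -/
theorem mid_conj_mem (h : Ctx p S) {E : Subgroup Ω} (hE : Mid S E) {s e : Ω} (hs : s ∈ S)
    (he : e ∈ E) : s * e * s⁻¹ ∈ E := by
  have h1 := hE.zle (h.comm_mem hs (hE.le he))
  have : s * e * s⁻¹ = (s * e * s⁻¹ * e⁻¹) * e := by group
  rw [this]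
  exact E.mul_mem h1 he

theorem mid_le_normalizer (h : Ctx p S) {E : Subgroup Ω} (hE : Mid S E) :
    S ≤ Subgroup.normalizer (E : Set Ω) := by
  intro s hs
  rw [Subgroup.mem_normalizer_iff]
  intro e
  refine ⟨fun he => h.mid_conj_mem hE hs he, fun he => ?_⟩
  have := h.mid_conj_mem hE (S.inv_mem hs) he
  have e2 : s⁻¹ * (s * e * s⁻¹) * s⁻¹⁻¹ = e := by group
  rwa [e2] at this

/-- `S = E⟨x⟩` for `x ∈ S ∖ E`. -/
theorem mid_decomp (h : Ctx p S) {E : Subgroup Ω} (hE : Mid S E) {x : Ω} (hxS : x ∈ S)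
    (hxE : x ∉ E) {s : Ω} (hs : s ∈ S) : ∃ e ∈ E, ∃ j : ℕ, s = e * x ^ j := by
  have hfinE : Finite E := Finite.of_injective _ (Subgroup.inclusion_injective hE.le)
  obtain ⟨-, hc2⟩ := h.card_mid hE.zle hE.le hE.ne_top hE.not_le
  haveI : (E.subgroupOf S).Normal :=
    ⟨fun n hn g => by
      rw [Subgroup.mem_subgroupOf] at hn ⊢
      exact h.mid_conj_mem hE g.2 hn⟩
  have hcardq : Nat.card (↥S ⧸ E.subgroupOf S) = p := by
    rw [← Subgroup.index_eq_card]
    have h1 := (E.subgroupOf S).index_mul_card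
    have h2 : Nat.card (E.subgroupOf S) = Nat.card E :=
      Nat.card_congr (Subgroup.subgroupOfEquivOfLe hE.le).toEquiv
    rw [h2, hc2] at h1
    have hEpos : 0 < Nat.card E := Nat.card_pos
    exact Nat.eq_of_mul_eq_mul_right hEpos h1
  have hx1 : ((⟨x, hxS⟩ : S) : ↥S ⧸ E.subgroupOf S) ≠ 1 := by
    intro hh
    rw [QuotientGroup.eq_one_iff, Subgroup.mem_subgroupOf] at hh
    exact hxE hh
  have htop := zpowers_eq_top_of_prime_card hcardq hx1
  have hmem : ((⟨s, hs⟩ : S) : ↥S ⧸ E.subgroupOf S) ∈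
      Subgroup.zpowers ((⟨x, hxS⟩ : S) : ↥S ⧸ E.subgroupOf S) := by
    rw [htop]; exact Subgroup.mem_top _
  haveI : Finite (↥S ⧸ E.subgroupOf S) := Nat.finite_of_card_ne_zero (by
    rw [hcardq]; exact (Fact.out : p.Prime).ne_zero)
  rw [← mem_powers_iff_mem_zpowers] at hmem
  obtain ⟨j, hj⟩ := hmem
  have hj' : ((⟨x, hxS⟩ ^ j : S) : ↥S ⧸ E.subgroupOf S) = ((⟨s, hs⟩ : S) : ↥S ⧸ E.subgroupOf S) := by
    rw [QuotientGroup.mk_pow]; exact hj
  rw [QuotientGroup.eq] at hj'
  rw [Subgroup.mem_subgroupOf] at hj'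
  have hj'' : (x ^ j)⁻¹ * s ∈ E := by simpa using hj'
  -- `s = (s x⁻ʲ) xʲ`
  have hconj : x ^ j * ((x ^ j)⁻¹ * s) * (x ^ j)⁻¹ ∈ E :=
    h.mid_conj_mem hE (S.pow_mem hxS j) hj''
  refine ⟨x ^ j * ((x ^ j)⁻¹ * s) * (x ^ j)⁻¹, hconj, j, ?_⟩
  group

/-- `C_E(x) = Z(S)`. -/
theorem mid_centralizer (h : Ctx p S) {E : Subgroup Ω} (hE : Mid S E) {x : Ω} (hxS : x ∈ S)
    (hxE : x ∉ E) {e : Ω} (he : e ∈ E) (hex : x * e = e * x) : e ∈ centralizerIn S S := by
  rw [centralizerIn, Subgroup.mem_inf, Subgroup.mem_centralizer_iff]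
  refine ⟨hE.le he, fun s hs => ?_⟩
  obtain ⟨e', he', j, rfl⟩ := h.mid_decomp hE hxS hxE hs
  have h1 : e' * e = e * e' := h.mid_comm hE he' he
  have h2 : x ^ j * e = e * x ^ j := by
    have : Commute x e := hex
    exact (this.pow_left j).eq
  calc e' * x ^ j * e = e' * (x ^ j * e) := by group
    _ = e' * (e * x ^ j) := by rw [h2]
    _ = (e' * e) * x ^ j := by group
    _ = (e * e') * x ^ j := by rw [h1]
    _ = e * (e' * x ^ j) := by group

end Ctx

end Cfsg.Agent.Lib.H26.SmallCenter
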