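import Mathlib
import Cfsg.Prelude.Def_FusionSystem
import Cfsg.Agent.Lib.H25.Fusion
import Cfsg.Agent.Lib.H25.Saturation
import Cfsg.Agent.Lib.H25.SatEquiv
import Cfsg.Agent.Lib.H25.Essential
import Cfsg.Agent.Lib.H25.Normal
import Cfsg.Agent.Lib.H26.EssentialAut
import Cfsg.Agent.Lib.H26.SmallCenterGroup

set_option autoImplicit false

/-!
Essential subgroups of a saturated fusion system on a `p`-group `S` with `|S : Z(S)| = p²`
(helper26): the transvection pair attached to an essential subgroup.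
-/

namespace Cfsg.Agent.Lib.H26.SmallCenter

open Cfsg Cfsg.FusionSystem Cfsg.Agent.Lib.H25 Cfsg.Agent.Lib.H26.TransvPair

variable {Ω : Type*} [Group Ω] {S : Subgroup Ω}

/-- Conjugation by a normalizing element as an automorphism. -/
def cAut (E : Subgroup Ω) (g : Ω) (hg : g ∈ Subgroup.normalizer (E : Set Ω)) : MulAut E where
  toFun x := ⟨g * x * g⁻¹, (Subgroup.mem_normalizer_iff.1 hg x).1 x.2⟩
  invFun x := ⟨g⁻¹ * x * g, by
    have := (Subgroup.mem_normalizer_iff.1 (Subgroup.inv_mem _ hg) x).1 x.2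
    simpa using this⟩
  left_inv x := Subtype.ext (by show g⁻¹ * (g * x * g⁻¹) * g = x; group)
  right_inv x := Subtype.ext (by show g * (g⁻¹ * x * g) * g⁻¹ = x; group)
  map_mul' x y := Subtype.ext (by show g * (x * y) * g⁻¹ = (g * x * g⁻¹) * (g * y * g⁻¹); group)

@[simp] theorem cAut_coe (E : Subgroup Ω) (g : Ω) (hg : g ∈ Subgroup.normalizer (E : Set Ω))
    (x : E) : ((cAut E g hg x : E) : Ω) = g * x * g⁻¹ := rfl

theorem cAut_mem_autInducedBy {E : Subgroup Ω} {g : Ω} (hgS : g ∈ S)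
    (hg : g ∈ Subgroup.normalizer (E : Set Ω)) : cAut E g hg ∈ autInducedBy S E :=
  (mem_autInducedBy_iff S E _).2 ⟨g, hgS, fun _ => rfl⟩

/-- The derived subgroup of `S`, as a subgroup of `Ω`. -/
def derS (S : Subgroup Ω) : Subgroup Ω :=
  Subgroup.closure {y | ∃ s ∈ S, ∃ t ∈ S, y = s * t * s⁻¹ * t⁻¹}

theorem comm_mem_derS {s t : Ω} (hs : s ∈ S) (ht : t ∈ S) : s * t * s⁻¹ * t⁻¹ ∈ derS S :=
  Subgroup.subset_closure ⟨s, hs, t, ht, rfl⟩

theorem derS_le (S : Subgroup Ω) : derS S ≤ S := by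
  unfold derS
  rw [Subgroup.closure_le]
  rintro _ ⟨s, hs, t, ht, rfl⟩
  exact S.mul_mem (S.mul_mem (S.mul_mem hs ht) (S.inv_mem hs)) (S.inv_mem ht)

variable {p : ℕ} [Fact p.Prime] [Finite S]

theorem Ctx.derS_le_zs (h : Ctx p S) : derS S ≤ centralizerIn S S := by
  unfold derS
  rw [Subgroup.closure_le]
  rintro _ ⟨s, hs, t, ht, rfl⟩
  exact h.comm_mem hs ht

/-- An essential subgroup lies strictly between `Z(S)` and `S`. -/
theorem mid_of_essential (hS : IsPGroup p S) {F : FusionSystem S} (hF : F.IsSaturated p)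
    {E : Subgroup Ω} (hE : F.IsEssential p E) : Ctx.Mid S E := by
  have hES : E ≤ S := hE.1.1
  have hCE : centralizerIn S E ≤ E := hE.1.2 E (isConj_refl F hES)
  have hne : E ≠ S := essential_ne_top hS hF hE
  have hzle : centralizerIn S S ≤ E := by
    refine le_trans ?_ hCE
    exact inf_le_inf_left S (Subgroup.centralizer_le hES)
  refine ⟨hzle, hES, hne, fun hEZ => hne ?_⟩
  apply le_antisymm hES
  refine le_trans ?_ hCE
  intro s hs
  refine ⟨hs, ?_⟩
  show s ∈ Subgroup.centralizer (E : Set Ω)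
  rw [Subgroup.mem_centralizer_iff]
  intro e he
  exact (zs_comm (hEZ he) hs).symm

/-- Data: a subgroup `E` strictly between `Z(S)` and `S`, and an element `x ∈ S ∖ E`. -/
structure XData (S E : Subgroup Ω) (x : Ω) : Prop where
  mid : Ctx.Mid S E
  xS : x ∈ S
  xE : x ∉ E

namespace XData

variable {E : Subgroup Ω} {x : Ω}

theorem norm (d : XData S E x) (h : Ctx p S) : x ∈ Subgroup.normalizer (E : Set Ω) :=
  h.mid_le_normalizer d.mid d.xS

theorem hcE (d : XData S E x) (h : Ctx p S) : ∀ a b : E, a * b = b * a :=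
  fun a b => Subtype.ext (h.mid_comm d.mid a.2 b.2)

/-- The automorphism of `E` induced by `x`. -/
def uAut (d : XData S E x) (h : Ctx p S) : MulAut E := cAut E x (d.norm h)

theorem uAut_coe (d : XData S E x) (h : Ctx p S) (e : E) :
    ((d.uAut h e : E) : Ω) = x * e * x⁻¹ := rfl

theorem uAut_mem (d : XData S E x) (h : Ctx p S) : d.uAut h ∈ autInducedBy S E :=
  cAut_mem_autInducedBy d.xS _

theorem mem_fixSub_uAut (d : XData S E x) (h : Ctx p S) (e : E) :
    e ∈ fixSub (d.uAut h) ↔ (e : Ω) ∈ centralizerIn S S := by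
  rw [mem_fixSub]
  constructor
  · intro he
    have h1 : x * (e : Ω) * x⁻¹ = e := congrArg Subtype.val he
    apply h.mid_centralizer d.mid d.xS d.xE e.2
    calc x * (e : Ω) = (x * e * x⁻¹) * x := by group
      _ = e * x := by rw [h1]
  · intro he
    apply Subtype.ext
    show x * (e : Ω) * x⁻¹ = e
    rw [zs_comm he d.xS, mul_inv_cancel_right]

theorem fixSub_uAut (d : XData S E x) (h : Ctx p S) :
    fixSub (d.uAut h) = (centralizerIn S S).subgroupOf E := by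
  ext e
  rw [d.mem_fixSub_uAut h, Subgroup.mem_subgroupOf]

theorem index_fixSub_uAut (d : XData S E x) (h : Ctx p S) : (fixSub (d.uAut h)).index = p := by
  have hfinE : Finite E := Finite.of_injective _ (Subgroup.inclusion_injective d.mid.le)
  obtain ⟨hc1, -⟩ := h.card_mid d.mid.zle d.mid.le d.mid.ne_top d.mid.not_le
  rw [d.fixSub_uAut h]
  have h1 := ((centralizerIn S S).subgroupOf E).index_mul_card
  have h2 : Nat.card ((centralizerIn S S).subgroupOf E) = Nat.card (centralizerIn S S) :=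
    Nat.card_congr (Subgroup.subgroupOfEquivOfLe d.mid.zle).toEquiv
  rw [h2, hc1] at h1
  have hfinZ : Finite (centralizerIn S S) :=
    Finite.of_injective _ (Subgroup.inclusion_injective (zs_le S))
  have hZpos : 0 < Nat.card (centralizerIn S S) := Nat.card_pos
  exact Nat.eq_of_mul_eq_mul_right hZpos h1

theorem mov_mem_zs (d : XData S E x) (h : Ctx p S) (e : E) :
    (((e⁻¹ * d.uAut h e : E) : E) : Ω) ∈ centralizerIn S S := by
  have := h.comm_mem (S.inv_mem (d.mid.le e.2)) d.xS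
  have e1 : (((e⁻¹ * d.uAut h e : E) : E) : Ω) = (e : Ω)⁻¹ * x * ((e : Ω)⁻¹)⁻¹ * x⁻¹ := by
    show (e : Ω)⁻¹ * (x * e * x⁻¹) = _
    group
  rw [e1]
  exact this

theorem uAut_fix (d : XData S E x) (h : Ctx p S) (e : E) :
    d.uAut h (e⁻¹ * d.uAut h e) = e⁻¹ * d.uAut h e :=
  (d.mem_fixSub_uAut h _).2 (d.mov_mem_zs h e)

/-- `Aut_S(E)` is generated by `u`. -/
theorem autInducedBy_le_zpowers (d : XData S E x) (h : Ctx p S) :
    autInducedBy S E ≤ Subgroup.zpowers (d.uAut h) := by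
  intro α hα
  obtain ⟨s, hs, hαs⟩ := (mem_autInducedBy_iff S E α).1 hα
  obtain ⟨e', he', j, rfl⟩ := h.mid_decomp d.mid d.xS d.xE hs
  have : α = d.uAut h ^ j := by
    ext e
    rw [hαs]
    have hpow : ∀ n : ℕ, ∀ y : E, (((d.uAut h ^ n) y : E) : Ω) = x ^ n * y * (x ^ n)⁻¹ := by
      intro n
      induction n with
      | zero => intro y; simp
      | succ n ih =>
        intro y
        rw [pow_succ', MulAut.mul_apply, d.uAut_coe h, ih, pow_succ']
        group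
    rw [hpow]
    have hy : x ^ j * (e : Ω) * (x ^ j)⁻¹ ∈ E := by
      rw [← hpow]; exact ((d.uAut h ^ j) e).2
    have hc := h.mid_comm d.mid he' hy
    calc e' * x ^ j * (e : Ω) * (e' * x ^ j)⁻¹ = e' * (x ^ j * e * (x ^ j)⁻¹) * e'⁻¹ := by group
      _ = (x ^ j * e * (x ^ j)⁻¹) * e' * e'⁻¹ := by rw [hc]
      _ = x ^ j * e * (x ^ j)⁻¹ := by group
  rw [this]
  exact Subgroup.pow_mem _ (Subgroup.mem_zpowers _) j

/-- Every commutator of `S` lies in `[E, x]`. -/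
theorem comm_mem_mov (d : XData S E x) (h : Ctx p S) {s t : Ω} (hs : s ∈ S) (ht : t ∈ S) :
    s * t * s⁻¹ * t⁻¹ ∈ (movSub (d.hcE h) (d.uAut h)).map E.subtype := by
  obtain ⟨L, hL⟩ : ∃ L : Subgroup Ω, L = (movSub (d.hcE h) (d.uAut h)).map E.subtype := ⟨_, rfl⟩
  rw [← hL]
  have hLZ : L ≤ centralizerIn S S := by
    rw [hL]
    rintro _ ⟨_, ⟨e, rfl⟩, rfl⟩
    exact d.mov_mem_zs h e
  have hmemL : ∀ e ∈ E, e⁻¹ * (x * e * x⁻¹) ∈ L := by
    intro e he
    rw [hL]
    exact ⟨(⟨e, he⟩ : E)⁻¹ * d.uAut h ⟨e, he⟩, ⟨⟨e, he⟩, rfl⟩, rfl⟩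
  haveI : (L.subgroupOf S).Normal :=
    ⟨fun n hn g => by
      rw [Subgroup.mem_subgroupOf] at hn ⊢
      have := zs_comm (hLZ hn) g.2
      show (g : Ω) * n * (g : Ω)⁻¹ ∈ L
      rw [this, mul_inv_cancel_right]
      exact hn⟩
  -- commutation in the quotient
  have hqE : ∀ a ∈ E, ∀ b ∈ E, ∀ (ha : a ∈ S) (hb : b ∈ S),
      Commute ((⟨a, ha⟩ : S) : ↥S ⧸ L.subgroupOf S) ((⟨b, hb⟩ : S) : ↥S ⧸ L.subgroupOf S) := by
    intro a ha b hb haS hbS
    show ((⟨a, haS⟩ : S) : ↥S ⧸ L.subgroupOf S) * ((⟨b, hbS⟩ : S) : ↥S ⧸ L.subgroupOf S) = _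
    rw [← QuotientGroup.mk_mul, ← QuotientGroup.mk_mul]
    congr 1
    exact Subtype.ext (h.mid_comm d.mid ha hb)
  have hqx : ∀ a ∈ E, ∀ (ha : a ∈ S),
      Commute ((⟨a, ha⟩ : S) : ↥S ⧸ L.subgroupOf S) ((⟨x, d.xS⟩ : S) : ↥S ⧸ L.subgroupOf S) := by
    intro a ha haS
    show ((⟨a, haS⟩ : S) : ↥S ⧸ L.subgroupOf S) * ((⟨x, d.xS⟩ : S) : ↥S ⧸ L.subgroupOf S) = _
    rw [← QuotientGroup.mk_mul, ← QuotientGroup.mk_mul, QuotientGroup.eq, Subgroup.mem_subgroupOf]
    have : (((⟨a, haS⟩ * ⟨x, d.xS⟩ : S)⁻¹ * (⟨x, d.xS⟩ * ⟨a, haS⟩) : S) : Ω) =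
        x⁻¹ * (a⁻¹ * (x * a * x⁻¹)) * x := by
      show (a * x)⁻¹ * (x * a) = _
      group
    rw [this]
    have hl := hmemL a ha
    have hcomm := zs_comm (hLZ hl) (S.inv_mem d.xS)
    rw [hcomm, mul_assoc, inv_mul_cancel, mul_one]
    exact hl
  obtain ⟨e₁, he₁, i, rfl⟩ := h.mid_decomp d.mid d.xS d.xE hs
  obtain ⟨e₂, he₂, j, rfl⟩ := h.mid_decomp d.mid d.xS d.xE ht
  have he₁S := d.mid.le he₁
  have he₂S := d.mid.le he₂
  have hc : Commute ((⟨e₁ * x ^ i, hs⟩ : S) : ↥S ⧸ L.subgroupOf S)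
      ((⟨e₂ * x ^ j, ht⟩ : S) : ↥S ⧸ L.subgroupOf S) := by
    have e1 : (⟨e₁ * x ^ i, hs⟩ : S) = ⟨e₁, he₁S⟩ * ⟨x, d.xS⟩ ^ i := rfl
    have e2 : (⟨e₂ * x ^ j, ht⟩ : S) = ⟨e₂, he₂S⟩ * ⟨x, d.xS⟩ ^ j := rfl
    rw [e1, e2, QuotientGroup.mk_mul, QuotientGroup.mk_mul, QuotientGroup.mk_pow,
      QuotientGroup.mk_pow]
    apply Commute.mul_left
    · apply Commute.mul_right
      · exact hqE e₁ he₁ e₂ he₂ he₁S he₂S
      · exact (hqx e₁ he₁ he₁S).pow_right j
    · apply Commute.mul_right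
      · exact ((hqx e₂ he₂ he₂S).pow_right i).symm
      · exact (Commute.refl _).pow_pow i j
  have h1 : ((⟨e₁ * x ^ i, hs⟩ * ⟨e₂ * x ^ j, ht⟩ * ⟨e₁ * x ^ i, hs⟩⁻¹ * ⟨e₂ * x ^ j, ht⟩⁻¹ : S) :
      ↥S ⧸ L.subgroupOf S) = 1 := by
    rw [QuotientGroup.mk_mul, QuotientGroup.mk_mul, QuotientGroup.mk_mul, QuotientGroup.mk_inv,
      QuotientGroup.mk_inv, hc.eq]
    group
  rw [QuotientGroup.eq_one_iff, Subgroup.mem_subgroupOf] at h1
  exact h1

theorem derS_eq (d : XData S E x) (h : Ctx p S) :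
    derS S = (movSub (d.hcE h) (d.uAut h)).map E.subtype := by
  apply le_antisymm
  · unfold derS
    rw [Subgroup.closure_le]
    rintro _ ⟨s, hs, t, ht, rfl⟩
    exact d.comm_mem_mov h hs ht
  · rintro _ ⟨_, ⟨e, rfl⟩, rfl⟩
    have := comm_mem_derS (S.inv_mem (d.mid.le e.2)) d.xS
    have e1 : (((e⁻¹ * d.uAut h e : E) : E) : Ω) = (e : Ω)⁻¹ * x * ((e : Ω)⁻¹)⁻¹ * x⁻¹ := by
      show (e : Ω)⁻¹ * (x * e * x⁻¹) = _
      group
    show (((e⁻¹ * d.uAut h e : E) : E) : Ω) ∈ derS S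
    rw [e1]
    exact this

end XData

/-- For an essential subgroup `E` there are `x ∈ S ∖ E` and `g ∈ Aut_F(E)` such that the conjugate
by `g` of the automorphism induced by `x` is not induced by `S`. -/
theorem exists_xdata (hS : IsPGroup p S) (h : Ctx p S) {F : FusionSystem S}
    (hF : F.IsSaturated p) {E : Subgroup Ω} (hE : F.IsEssential p E) :
    ∃ (x : Ω) (d : XData S E x), ∃ g ∈ F.autGroup E,
      g * d.uAut h * g⁻¹ ∉ autInducedBy S E := by
  have hmid := mid_of_essential hS hF hE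
  by_contra hcon
  apply autInducedBy_not_normal_of_essential hS hF hE
  intro α hα τ hτ
  by_contra hnot
  obtain ⟨s, hs, hτs⟩ := (mem_autInducedBy_iff S E τ).1 hτ
  by_cases hsE : s ∈ E
  · apply hnot
    have : τ = 1 := by
      ext e
      rw [hτs]
      show s * (e : Ω) * s⁻¹ = e
      rw [h.mid_comm hmid hsE e.2, mul_inv_cancel_right]
    rw [this, mul_one, mul_inv_cancel]
    exact Subgroup.one_mem _
  · apply hcon
    refine ⟨s, ⟨hmid, hs, hsE⟩, α, hα, ?_⟩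
    have : XData.uAut ⟨hmid, hs, hsE⟩ h = τ := by
      ext e
      rw [hτs]
      rfl
    rw [this]
    exact hnot

/-- The two conjugate automorphisms do not generate a `p`-group. -/
theorem not_isPGroup_closure (hS : IsPGroup p S) (h : Ctx p S) {F : FusionSystem S}
    (hF : F.IsSaturated p) {E : Subgroup Ω} (hE : F.IsEssential p E) {x : Ω} (d : XData S E x)
    {g : MulAut E} (hg : g ∈ F.autGroup E) (hv : g * d.uAut h * g⁻¹ ∉ autInducedBy S E) :
    ¬ IsPGroup p (Subgroup.closure ({d.uAut h, g * d.uAut h * g⁻¹} : Set (MulAut E))) := by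
  intro hK
  have hES : E ≤ S := d.mid.le
  have hfinE : Finite E := finite_of_le S hES
  obtain ⟨-, hfa⟩ := fullyNormalized_props hS hF hE.2.1
  have huA : d.uAut h ∈ F.autGroup E := autInducedBy_le_autGroup F hES (d.uAut_mem h)
  have hvA : g * d.uAut h * g⁻¹ ∈ F.autGroup E :=
    Subgroup.mul_mem _ (Subgroup.mul_mem _ hg huA) (Subgroup.inv_mem _ hg)
  have hKA : Subgroup.closure ({d.uAut h, g * d.uAut h * g⁻¹} : Set (MulAut E)) ≤ F.autGroup E := by
    rw [Subgroup.closure_le]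
    rintro α (rfl | hα)
    · exact huA
    · rw [Set.mem_singleton_iff] at hα
      rw [hα]; exact hvA
  obtain ⟨a, -, ha⟩ := IsFullyAutomized_exists_conj hfa _ hK hKA
  have hu_mem : d.uAut h ∈ Subgroup.closure ({d.uAut h, g * d.uAut h * g⁻¹} : Set (MulAut E)) :=
    Subgroup.subset_closure (Set.mem_insert _ _)
  have hv_mem : g * d.uAut h * g⁻¹ ∈
      Subgroup.closure ({d.uAut h, g * d.uAut h * g⁻¹} : Set (MulAut E)) :=
    Subgroup.subset_closure (Set.mem_insert_of_mem _ rfl)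
  have hZK : Subgroup.zpowers (d.uAut h) ≤
      Subgroup.closure ({d.uAut h, g * d.uAut h * g⁻¹} : Set (MulAut E)) :=
    (Subgroup.zpowers_le).2 hu_mem
  -- conjugation by `a` maps `⟨u⟩` into itself
  have hmaps : ∀ k ∈ Subgroup.zpowers (d.uAut h), a * k * a⁻¹ ∈ Subgroup.zpowers (d.uAut h) :=
    fun k hk => d.autInducedBy_le_zpowers h (ha k (hZK hk))
  let c : Subgroup.zpowers (d.uAut h) → Subgroup.zpowers (d.uAut h) :=
    fun k => ⟨a * k * a⁻¹, hmaps k k.2⟩
  have hcinj : Function.Injective c := by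
    intro k k' hkk'
    have := congrArg Subtype.val hkk'
    have h2 : a * (k : MulAut E) * a⁻¹ = a * (k' : MulAut E) * a⁻¹ := this
    apply Subtype.ext
    have h3 := mul_right_cancel h2
    exact mul_left_cancel h3
  have hcsurj : Function.Surjective c := Finite.injective_iff_surjective.1 hcinj
  have hva : a * (g * d.uAut h * g⁻¹) * a⁻¹ ∈ Subgroup.zpowers (d.uAut h) :=
    d.autInducedBy_le_zpowers h (ha _ hv_mem)
  obtain ⟨k, hk⟩ := hcsurj ⟨_, hva⟩
  have hk' : a * (k : MulAut E) * a⁻¹ = a * (g * d.uAut h * g⁻¹) * a⁻¹ := congrArg Subtype.val hk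
  have hk'' : (k : MulAut E) = g * d.uAut h * g⁻¹ := mul_left_cancel (mul_right_cancel hk')
  apply hv
  rw [← hk'']
  exact (Subgroup.zpowers_le.2 (d.uAut_mem h)) k.2

/-- The transvection pair attached to an essential subgroup. -/
theorem setup_of_essential (hS : IsPGroup p S) (h : Ctx p S) {F : FusionSystem S}
    (hF : F.IsSaturated p) {E : Subgroup Ω} (hE : F.IsEssential p E) {x : Ω} (d : XData S E x)
    {g : MulAut E} (hg : g ∈ F.autGroup E) (hv : g * d.uAut h * g⁻¹ ∉ autInducedBy S E) :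
    haveI : Finite E := finite_of_le S d.mid.le
    Setup p (d.uAut h) (g * d.uAut h * g⁻¹) (movSub (d.hcE h) (d.uAut h))
      (movSub (d.hcE h) (g * d.uAut h * g⁻¹)) := by
  haveI : Finite E := finite_of_le S d.mid.le
  exact setup_of_conj (d.hcE h) (hS.to_le d.mid.le) (d.uAut h) g (d.index_fixSub_uAut h)
    (d.uAut_fix h) (not_isPGroup_closure hS h hF hE d hg hv)

end Cfsg.Agent.Lib.H26.SmallCenter
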