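import Mathlib
import Cfsg.Prelude.Def_FusionSystem
import Cfsg.Agent.Lib.H25.Fusion
import Cfsg.Agent.Lib.H25.Saturation

set_option autoImplicit false
set_option linter.unusedSectionVars false

/-!
The stability group of the chain `1 ≤ Z ≤ P` inside `Aut_F(P)` is a normal `p`-subgroup
(helper26).
-/

namespace Cfsg.Agent.Lib.H26

open Cfsg Cfsg.FusionSystem Cfsg.Agent.Lib.H25

variable {Ω : Type*} [Group Ω] {S : Subgroup Ω}

/-- The automorphisms in `Aut_F(P)` that fix `Z` elementwise and move every element of `P` by an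
element of `Z`. -/
def stabChain (F : FusionSystem S) (P Z : Subgroup Ω) : Subgroup (MulAut P) where
  carrier := {α | α ∈ F.autGroup P ∧ (∀ x : P, (x : Ω)⁻¹ * ((α x : P) : Ω) ∈ Z) ∧
    ∀ x : P, (x : Ω) ∈ Z → α x = x}
  one_mem' := ⟨Subgroup.one_mem _, fun x => by simp [Z.one_mem], fun x _ => rfl⟩
  mul_mem' := by
    rintro α β ⟨hα, hα1, hα2⟩ ⟨hβ, hβ1, hβ2⟩
    refine ⟨Subgroup.mul_mem _ hα hβ, fun x => ?_, fun x hx => ?_⟩
    · show (x : Ω)⁻¹ * ((α (β x) : P) : Ω) ∈ Z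
      have e : (x : Ω)⁻¹ * ((α (β x) : P) : Ω) =
          ((x : Ω)⁻¹ * ((β x : P) : Ω)) * (((β x : P) : Ω)⁻¹ * ((α (β x) : P) : Ω)) := by group
      rw [e]
      exact Z.mul_mem (hβ1 x) (hα1 (β x))
    · show α (β x) = x
      rw [hβ2 x hx, hα2 x hx]
  inv_mem' := by
    rintro α ⟨hα, hα1, hα2⟩
    refine ⟨Subgroup.inv_mem _ hα, fun x => ?_, fun x hx => ?_⟩
    · have h := hα1 (α⁻¹ x)
      have h2 : α (α⁻¹ x) = x := by simp
      rw [h2] at h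
      have e : (x : Ω)⁻¹ * ((α⁻¹ x : P) : Ω) = (((α⁻¹ x : P) : Ω)⁻¹ * x)⁻¹ := by group
      rw [e]
      exact Z.inv_mem h
    · have := hα2 x hx
      calc α⁻¹ x = α⁻¹ (α x) := by rw [this]
        _ = x := by simp

theorem mem_stabChain {F : FusionSystem S} {P Z : Subgroup Ω} {α : MulAut P} :
    α ∈ stabChain F P Z ↔ α ∈ F.autGroup P ∧ (∀ x : P, (x : Ω)⁻¹ * ((α x : P) : Ω) ∈ Z) ∧
      ∀ x : P, (x : Ω) ∈ Z → α x = x := Iff.rfl

theorem stabChain_le (F : FusionSystem S) (P Z : Subgroup Ω) : stabChain F P Z ≤ F.autGroup P :=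
  fun _ h => h.1

theorem stabChain_isPGroup {p : ℕ} [Fact p.Prime] (F : FusionSystem S) {P Z : Subgroup Ω}
    (hZP : Z ≤ P) [Finite Z] (hZ : IsPGroup p Z) : IsPGroup p (stabChain F P Z) := by
  obtain ⟨k, hk⟩ := (IsPGroup.iff_card (p := p) (G := Z)).1 hZ
  rintro ⟨α, hα, hα1, hα2⟩
  refine ⟨k, Subtype.ext ?_⟩
  show α ^ p ^ k = 1
  have hpow : ∀ n : ℕ, ∀ x : P,
      (((α ^ n) x : P) : Ω) = (x : Ω) * ((x : Ω)⁻¹ * ((α x : P) : Ω)) ^ n := by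
    intro n
    induction n with
    | zero => intro x; simp
    | succ n ih =>
      intro x
      have hzn : ((x : Ω)⁻¹ * ((α x : P) : Ω)) ^ n ∈ Z := Z.pow_mem (hα1 x) n
      obtain ⟨z, hzdef⟩ : ∃ z : P, (z : Ω) = ((x : Ω)⁻¹ * ((α x : P) : Ω)) ^ n :=
        ⟨⟨_, hZP hzn⟩, rfl⟩
      have hzfix : α z = z := hα2 z (by rw [hzdef]; exact hzn)
      have h1 : (α ^ n) x = x * z := Subtype.ext (by rw [ih x]; simp [hzdef])
      rw [pow_succ', MulAut.mul_apply, h1, map_mul, hzfix, pow_succ']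
      show ((α x : P) : Ω) * (z : Ω) = _
      rw [hzdef]
      simp only [mul_assoc, mul_inv_cancel_left]
  ext x
  rw [hpow]
  have h1 : (⟨_, hα1 x⟩ : Z) ^ Nat.card Z = 1 := pow_card_eq_one'
  rw [hk] at h1
  have h2 : ((x : Ω)⁻¹ * ((α x : P) : Ω)) ^ p ^ k = 1 := by
    have := congrArg Subtype.val h1
    simpa using this
  rw [h2, mul_one]
  rfl

theorem stabChain_normal (F : FusionSystem S) {P Z : Subgroup Ω} (hZP : Z ≤ P)
    (hinv : ∀ γ ∈ F.autGroup P, ∀ x : P, (x : Ω) ∈ Z → ((γ x : P) : Ω) ∈ Z) :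
    ∀ γ ∈ F.autGroup P, ∀ α ∈ stabChain F P Z, γ * α * γ⁻¹ ∈ stabChain F P Z := by
  rintro γ hγ α ⟨hα, hα1, hα2⟩
  have hγ' : γ⁻¹ ∈ F.autGroup P := Subgroup.inv_mem _ hγ
  refine ⟨Subgroup.mul_mem _ (Subgroup.mul_mem _ hγ hα) hγ', fun x => ?_, fun x hx => ?_⟩
  · show (x : Ω)⁻¹ * ((γ (α (γ⁻¹ x)) : P) : Ω) ∈ Z
    have hz := hα1 (γ⁻¹ x)
    have h1 : α (γ⁻¹ x) = γ⁻¹ x * ⟨_, hZP hz⟩ := by
      apply Subtype.ext
      show _ = ((γ⁻¹ x : P) : Ω) * (((γ⁻¹ x : P) : Ω)⁻¹ * ((α (γ⁻¹ x) : P) : Ω))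
      group
    rw [h1, map_mul]
    have h2 : γ (γ⁻¹ x) = x := by simp
    rw [h2]
    show (x : Ω)⁻¹ * ((x : Ω) * ((γ ⟨_, hZP hz⟩ : P) : Ω)) ∈ Z
    rw [inv_mul_cancel_left]
    exact hinv γ hγ _ hz
  · show γ (α (γ⁻¹ x)) = x
    have h1 := hinv γ⁻¹ hγ' x hx
    rw [hα2 _ h1]
    simp

end Cfsg.Agent.Lib.H26
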