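import Mathlib
import Cfsg.Prelude.Def_FusionSystem
import Cfsg.Agent.Lib.H25.Fusion
import Cfsg.Agent.Lib.H25.Saturation
import Cfsg.Agent.Lib.H25.SatEquiv
import Cfsg.Agent.Lib.H25.Essential
import Cfsg.Agent.Lib.H26.EssentialAut
import Cfsg.Agent.Lib.H26.Stability
import Cfsg.Agent.Lib.H26.SmallCenterEss

set_option autoImplicit false

/-!
Generic lemmas on `Aut_S(R) ∈ Syl_p(Aut_F(R))` for fully automized / essential `R` (helper26):
* `exists_TI`: the preimage `M` of a strongly `p`-embedded subgroup of `Out_F(R)` controls fusion of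
  non-inner elements of `Aut_S(R)`;
* `mem_autInducedBy_of_stab`: a stabilizer of a chain `1 ≤ D ≤ R` normalized by `Aut_S(R)` lies in
  `Aut_S(R)`;
* `frattini_decomp`: the Frattini argument in `Aut_F(R)`;
* `extend_normalizing`: elements of `N_{Aut_F(R)}(Aut_S(R))` extend to `N_S(R)`.
-/

namespace Cfsg.Agent.Lib.H26.AutSylow

open Cfsg Cfsg.FusionSystem Cfsg.Agent.Lib.H25 Cfsg.Agent.Lib.H26

variable {Ω : Type*} [Group Ω] {S : Subgroup Ω} [Finite S] {p : ℕ} [Fact p.Prime]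

/-- For an essential subgroup `R` there is a subgroup `M` not containing `Aut_F(R)` such that
every `δ ∈ Aut_F(R)` conjugating some non-inner element of `Aut_S(R)` into `Aut_S(R)` lies in `M`. -/
theorem exists_TI (hS : IsPGroup p S) {F : FusionSystem S} (hF : F.IsSaturated p) {R : Subgroup Ω}
    (hess : F.IsEssential p R) :
    ∃ M : Subgroup (MulAut R), (∃ γ ∈ F.autGroup R, γ ∉ M) ∧
      ∀ δ ∈ F.autGroup R, ∀ t ∈ autInducedBy S R, t ∉ Inn R →
        δ * t * δ⁻¹ ∈ autInducedBy S R → δ ∈ M := by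
  have hcen := hess.1
  have hfn := hess.2.1
  have hRS : R ≤ S := hcen.1
  have hfinR : Finite R := finite_of_le S hRS
  have hne : R ≠ S := essential_ne_top hS hF hess
  obtain ⟨hfc, hfa⟩ := fullyNormalized_props hS hF hfn
  have hrec := isReceptive_of_fullyCentralized hS hF hfc
  obtain ⟨hI, -⟩ := hess.2.2
  have hspe := stronglyPEmbedded_extGens hS hF hne hess
  obtain ⟨hp, T, hΓ, hTmem⟩ := centric_out_data hS hfa hrec hne hcen
  have hTne : (T : Subgroup (F.autGroup R ⧸ (Inn R).subgroupOf (F.autGroup R))) ≠ ⊥ :=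
    T.ne_bot_of_dvd_card hp
  set X := ((Subgroup.closure (extGens F R)).subgroupOf (F.autGroup R)).map
      (QuotientGroup.mk' ((Inn R).subgroupOf (F.autGroup R))) with hX
  have hTX : (T : Subgroup (F.autGroup R ⧸ (Inn R).subgroupOf (F.autGroup R))) ≤ X := by
    have h1 := Cfsg.Agent.Lib.H9.normalizer_le_kGeneratedCore_one T
      (T : Subgroup (F.autGroup R ⧸ (Inn R).subgroupOf (F.autGroup R))) le_rfl hTne
    exact (Subgroup.le_normalizer.trans h1).trans hΓ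
  refine ⟨(X.comap (QuotientGroup.mk' ((Inn R).subgroupOf (F.autGroup R)))).map
    (F.autGroup R).subtype, ?_, ?_⟩
  · -- `M` is proper
    have hXne : X ≠ ⊤ := hspe.2.1
    obtain ⟨y, hy⟩ : ∃ y, y ∉ X := by
      by_contra hcon
      push Not at hcon
      exact hXne (eq_top_iff.2 (fun y _ => hcon y))
    obtain ⟨a, rfl⟩ := QuotientGroup.mk'_surjective _ y
    refine ⟨(a : MulAut R), a.2, ?_⟩
    rintro ⟨b, hb, hba⟩
    have : b = a := Subtype.ext hba
    rw [this] at hb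
    exact hy hb
  · intro δ hδ t ht htI hδt
    have htG : t ∈ F.autGroup R := autInducedBy_le_autGroup F hRS ht
    set tb : F.autGroup R ⧸ (Inn R).subgroupOf (F.autGroup R) :=
      QuotientGroup.mk' _ (⟨t, htG⟩ : F.autGroup R) with htb
    set δb : F.autGroup R ⧸ (Inn R).subgroupOf (F.autGroup R) :=
      QuotientGroup.mk' _ (⟨δ, hδ⟩ : F.autGroup R) with hδb
    have htbT : tb ∈ (T : Subgroup _) := (hTmem tb).2 ⟨⟨t, htG⟩, ht, rfl⟩
    have htb1 : tb ≠ 1 := by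
      intro h1
      rw [htb, QuotientGroup.mk'_apply, QuotientGroup.eq_one_iff, Subgroup.mem_subgroupOf] at h1
      exact htI h1
    have hconjT : δb * tb * δb⁻¹ ∈ (T : Subgroup _) := by
      rw [hTmem]
      refine ⟨⟨δ, hδ⟩ * ⟨t, htG⟩ * ⟨δ, hδ⟩⁻¹, hδt, ?_⟩
      rw [map_mul, map_mul, map_inv]
    have hQp : IsPGroup p (Subgroup.zpowers tb) :=
      T.2.to_le (Subgroup.zpowers_le.2 htbT)
    have hQne : Subgroup.zpowers tb ≠ ⊥ := by
      intro h0
      apply htb1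
      have : tb ∈ Subgroup.zpowers tb := Subgroup.mem_zpowers tb
      rw [h0, Subgroup.mem_bot] at this
      exact this
    have hQX : Subgroup.zpowers tb ≤ X := (Subgroup.zpowers_le.2 htbT).trans hTX
    have hQc : (Subgroup.zpowers tb).map (MulAut.conj δb).toMonoidHom ≤ X := by
      rintro _ ⟨_, ⟨i, rfl⟩, rfl⟩
      show (MulAut.conj δb) (tb ^ i) ∈ X
      rw [map_zpow]
      apply Subgroup.zpow_mem
      apply hTX
      rw [MulAut.conj_apply]
      exact hconjT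
    have hδX := Cfsg.Agent.Lib.H9.stronglyPEmbedded_mem_of_conj_le hspe _ hQp hQne hQX δb hQc
    exact ⟨⟨δ, hδ⟩, hδX, rfl⟩

/-- Conjugation by an element of `Aut_F(R)` preserving `D` preserves the stability group of
`1 ≤ D ≤ R`. -/
theorem stabChain_conj_mem (F : FusionSystem S) {R D : Subgroup Ω} (hDR : D ≤ R) {γ α : MulAut R}
    (hγ : γ ∈ F.autGroup R) (h1 : ∀ x : R, (x : Ω) ∈ D → ((γ x : R) : Ω) ∈ D)
    (h2 : ∀ x : R, (x : Ω) ∈ D → ((γ⁻¹ x : R) : Ω) ∈ D) (hα : α ∈ stabChain F R D) :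
    γ * α * γ⁻¹ ∈ stabChain F R D := by
  obtain ⟨hα, hα1, hα2⟩ := hα
  have hγ' : γ⁻¹ ∈ F.autGroup R := Subgroup.inv_mem _ hγ
  refine ⟨Subgroup.mul_mem _ (Subgroup.mul_mem _ hγ hα) hγ', fun x => ?_, fun x hx => ?_⟩
  · show (x : Ω)⁻¹ * ((γ (α (γ⁻¹ x)) : R) : Ω) ∈ D
    have hz := hα1 (γ⁻¹ x)
    have h3 : α (γ⁻¹ x) = γ⁻¹ x * ⟨_, hDR hz⟩ := by
      apply Subtype.ext
      show _ = ((γ⁻¹ x : R) : Ω) * (((γ⁻¹ x : R) : Ω)⁻¹ * ((α (γ⁻¹ x) : R) : Ω))
      group
    rw [h3, map_mul]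
    have h4 : γ (γ⁻¹ x) = x := by simp
    rw [h4]
    show (x : Ω)⁻¹ * ((x : Ω) * ((γ ⟨_, hDR hz⟩ : R) : Ω)) ∈ D
    rw [inv_mul_cancel_left]
    exact h1 _ hz
  · show γ (α (γ⁻¹ x)) = x
    rw [hα2 _ (h2 x hx)]
    simp

/-- If `Aut_S(R)` (a Sylow `p`-subgroup of `Aut_F(R)`) leaves `D ≤ R` invariant, then every
element of `Aut_F(R)` stabilizing the chain `1 ≤ D ≤ R` lies in `Aut_S(R)`. -/
theorem mem_autInducedBy_of_stab (hS : IsPGroup p S) {F : FusionSystem S} {R D : Subgroup Ω}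
    (hfa : F.IsFullyAutomized p R) (hDR : D ≤ R)
    (hinv : ∀ τ ∈ autInducedBy S R, ∀ x : R, (x : Ω) ∈ D → ((τ x : R) : Ω) ∈ D)
    {α : MulAut R} (hα : α ∈ stabChain F R D) : α ∈ autInducedBy S R := by
  obtain ⟨hRS, R₀, hR₀⟩ := hfa
  have hfinR : Finite R := finite_of_le S hRS
  have hfinD : Finite D := finite_of_le S (hDR.trans hRS)
  have hDp : IsPGroup p D := hS.to_le (hDR.trans hRS)
  have hKp : IsPGroup p (stabChain F R D) := stabChain_isPGroup F hDR hDp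
  have hTp : IsPGroup p (autInducedBy S R) := autInducedBy_isPGroup hS R
  have hTG : autInducedBy S R ≤ F.autGroup R := autInducedBy_le_autGroup F hRS
  have hnorm : autInducedBy S R ≤ Subgroup.normalizer (stabChain F R D : Set (MulAut R)) := by
    intro τ hτ
    have hτ' : τ⁻¹ ∈ autInducedBy S R := Subgroup.inv_mem _ hτ
    rw [Subgroup.mem_normalizer_iff]
    intro β
    constructor
    · intro hβ
      exact stabChain_conj_mem F hDR (hTG hτ) (hinv τ hτ) (hinv τ⁻¹ hτ') hβ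
    · intro hβ
      have := stabChain_conj_mem F hDR (hTG hτ') (hinv τ⁻¹ hτ')
        (by rw [inv_inv]; exact hinv τ hτ) hβ
      have e : τ⁻¹ * (τ * β * τ⁻¹) * τ⁻¹⁻¹ = β := by group
      rwa [e] at this
  have hQp : IsPGroup p (autInducedBy S R ⊔ stabChain F R D : Subgroup (MulAut R)) :=
    hTp.to_sup_of_normal_right' hKp hnorm
  have hQG : autInducedBy S R ⊔ stabChain F R D ≤ F.autGroup R :=
    sup_le hTG (stabChain_le F R D)
  have hQp' : IsPGroup p ((autInducedBy S R ⊔ stabChain F R D).subgroupOf (F.autGroup R)) :=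
    hQp.comap_subtype
  have hle : (R₀ : Subgroup (F.autGroup R)) ≤
      (autInducedBy S R ⊔ stabChain F R D).subgroupOf (F.autGroup R) := by
    rw [hR₀]
    intro g hg
    exact Subgroup.mem_subgroupOf.2 (le_sup_left (a := autInducedBy S R)
      (Subgroup.mem_subgroupOf.1 hg))
  have heq := R₀.is_maximal' hQp' hle
  have h1 : (⟨α, hα.1⟩ : F.autGroup R) ∈
      (autInducedBy S R ⊔ stabChain F R D).subgroupOf (F.autGroup R) :=
    Subgroup.mem_subgroupOf.2 (le_sup_right (a := autInducedBy S R) hα)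
  rw [heq, hR₀] at h1
  exact Subgroup.mem_subgroupOf.1 h1

/-- **Frattini argument** in `Aut_F(R)`: if `X` contains all `Aut_F(R)`-conjugates of `Aut_S(R)`,
then `Aut_F(R) = (X ∩ Aut_F(R)) N_{Aut_F(R)}(Aut_S(R))`. -/
theorem frattini_decomp {F : FusionSystem S} {R : Subgroup Ω} [Finite R]
    (hfa : F.IsFullyAutomized p R) (X : Subgroup (MulAut R))
    (hX : ∀ δ ∈ F.autGroup R, ∀ t ∈ autInducedBy S R, δ * t * δ⁻¹ ∈ X)
    {α : MulAut R} (hα : α ∈ F.autGroup R) :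
    ∃ l ∈ X, l ∈ F.autGroup R ∧ ∃ ν ∈ F.autGroup R,
      (∀ t ∈ autInducedBy S R, ν * t * ν⁻¹ ∈ autInducedBy S R) ∧ α = l * ν := by
  obtain ⟨hRS, R₀, hR₀⟩ := hfa
  set N : Subgroup (F.autGroup R) :=
    Subgroup.normalClosure ((R₀ : Subgroup (F.autGroup R)) : Set (F.autGroup R)) with hN
  have hle : (R₀ : Subgroup (F.autGroup R)) ≤ N := Subgroup.le_normalClosure
  have htop := Sylow.normalizer_sup_eq_top' R₀ hle
  have hmem' : (⟨α, hα⟩ : F.autGroup R) ∈ Subgroup.normalizer (R₀ : Set (F.autGroup R)) ⊔ N := by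
    rw [htop]
    exact Subgroup.mem_top _
  have hmem : (⟨α, hα⟩ : F.autGroup R) ∈
      N ⊔ Subgroup.normalizer ((R₀ : Subgroup (F.autGroup R)) : Set (F.autGroup R)) := by
    rw [sup_comm]
    exact hmem'
  obtain ⟨l, hl, n, hn, hln⟩ := Subgroup.mem_sup_of_normal_left.1 hmem
  have hNX : N ≤ X.subgroupOf (F.autGroup R) := by
    rw [hN, Subgroup.normalClosure, Subgroup.closure_le]
    intro y hy
    obtain ⟨t, ht, hty⟩ := Group.mem_conjugatesOfSet_iff.1 hy
    obtain ⟨c, hc⟩ := isConj_iff.1 hty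
    rw [SetLike.mem_coe, Subgroup.mem_subgroupOf, ← hc]
    have ht' : (t : MulAut R) ∈ autInducedBy S R := by
      have : t ∈ (R₀ : Subgroup (F.autGroup R)) := ht
      rw [hR₀] at this
      exact Subgroup.mem_subgroupOf.1 this
    exact hX c c.2 t ht'
  refine ⟨(l : MulAut R), Subgroup.mem_subgroupOf.1 (hNX hl), l.2, (n : MulAut R), n.2, ?_, ?_⟩
  · intro t ht
    have htG : t ∈ F.autGroup R := autInducedBy_le_autGroup F hRS ht
    have h1 : (⟨t, htG⟩ : F.autGroup R) ∈ (R₀ : Subgroup (F.autGroup R)) := by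
      rw [hR₀]
      exact Subgroup.mem_subgroupOf.2 ht
    have h2 := (Subgroup.mem_normalizer_iff.1 hn _).1 h1
    rw [hR₀] at h2
    exact Subgroup.mem_subgroupOf.1 h2
  · have := congrArg Subtype.val hln
    exact this.symm

/-- An element of `N_{Aut_F(R)}(Aut_S(R))` extends to `N_S(R)`, for receptive `R`. -/
theorem extend_normalizing {F : FusionSystem S} {R : Subgroup Ω} (hrec : F.IsReceptive R)
    {ν : MulAut R} (hν : ν ∈ F.autGroup R)
    (hnorm : ∀ t ∈ autInducedBy S R, ν * t * ν⁻¹ ∈ autInducedBy S R) :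
    ∃ (f' : Ω → Ω) (N' : Subgroup Ω), IsIso F (normalizerIn S R) N' f' ∧
      ∀ x : R, f' x = ((ν x : R) : Ω) := by
  have hRS := hrec.1
  have hf := isIso_of_mem_autGroup F hRS hν
  obtain ⟨f', N', hf', hf'R⟩ := IsReceptive_extend hrec hf (normalizerIn S R) (by
    intro s hs
    have hsN : s ∈ Subgroup.normalizer (R : Set Ω) := hs.2
    have h1 : Cfsg.Agent.Lib.H26.SmallCenter.cAut R s hsN ∈ autInducedBy S R :=
      Cfsg.Agent.Lib.H26.SmallCenter.cAut_mem_autInducedBy hs.1 hsN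
    obtain ⟨s', hs', hs'ν⟩ := (mem_autInducedBy_iff S R _).1 (hnorm _ h1)
    refine ⟨hs.1, hsN, s', hs', fun e he => ?_⟩
    have hse : s * e * s⁻¹ ∈ R := (Subgroup.mem_normalizer_iff.1 hsN e).1 he
    rw [ext1_apply_mem _ hse, ext1_apply_mem _ he]
    show ((ν ⟨s * e * s⁻¹, hse⟩ : R) : Ω) = s' * ((ν ⟨e, he⟩ : R) : Ω) * s'⁻¹
    have h3 := hs'ν (ν ⟨e, he⟩)
    rw [← h3]
    show _ = ((ν (Cfsg.Agent.Lib.H26.SmallCenter.cAut R s hsN (ν⁻¹ (ν ⟨e, he⟩))) : R) : Ω)
    have h4 : ν⁻¹ (ν ⟨e, he⟩) = ⟨e, he⟩ := by simp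
    rw [h4]
    rfl)
  refine ⟨f', N', hf', fun x => ?_⟩
  rw [hf'R _ x.2 (le_normalizerIn hRS x.2), ext1_apply_mem _ x.2]
  rfl

end Cfsg.Agent.Lib.H26.AutSylow
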