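import Mathlib
import Cfsg.Agent.Lib.L0.SFDefs

/-!
# S4130 pieces A1-A4 (helper26): inheritance of `SFClass` (squarefree class sizes).
-/

set_option autoImplicit false

namespace Cfsg.Agent.Lib.H26.SF

open Cfsg.Agent.Lib.L0.SF

theorem card_mul_relIndex_of_le {G : Type*} [Group G] {H K : Subgroup G} (hHK : H ≤ K) :
    Nat.card H * H.relIndex K = Nat.card K := by
  have := Subgroup.relIndex_mul_relIndex ⊥ H K bot_le hHK
  rwa [Subgroup.relIndex_bot_left, Subgroup.relIndex_bot_left] at this

/-- second isomorphism theorem, as an equality of relative indices -/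
theorem relIndex_sup_eq_of_normal {G : Type*} [Group G] [Finite G] (H N : Subgroup G) [N.Normal] :
    H.relIndex (H ⊔ N) = H.relIndex N := by
  have h1 : Nat.card N * N.relIndex (H ⊔ N) = Nat.card ↥(H ⊔ N) := card_mul_relIndex_of_le le_sup_right
  rw [Subgroup.relIndex_sup_right] at h1
  have h2 : Nat.card ↥(H ⊓ N) * (H ⊓ N).relIndex H = Nat.card H := card_mul_relIndex_of_le inf_le_left
  rw [Subgroup.inf_relIndex_left] at h2
  have h3 : Nat.card ↥(H ⊓ N) * (H ⊓ N).relIndex N = Nat.card N := card_mul_relIndex_of_le inf_le_right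
  rw [Subgroup.inf_relIndex_right] at h3
  have h4 : Nat.card H * H.relIndex (H ⊔ N) = Nat.card ↥(H ⊔ N) := card_mul_relIndex_of_le le_sup_left
  have hpos : 0 < Nat.card H := Nat.card_pos
  have : Nat.card H * H.relIndex (H ⊔ N) = Nat.card H * H.relIndex N := by
    rw [h4, ← h1, ← h3, ← h2]; ring
  exact Nat.eq_of_mul_eq_mul_left hpos this

/-- **S4130-A1**.  `|N : N ∩ H| = |NH : H|` divides `|G : H|` when `N` is normal. -/
theorem relIndex_dvd_index_of_normal_right {G : Type*} [Group G] [Finite G] (H N : Subgroup G) [N.Normal] :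
    H.relIndex N ∣ H.index := by
  rw [← relIndex_sup_eq_of_normal H N]
  exact Subgroup.relIndex_dvd_index_of_le le_sup_left

/-- **S4130-A2** (uses A1).  Normal subgroups inherit `SFClass`. -/
theorem SFClass.of_normal {G : Type*} [Group G] [Finite G] (h : SFClass G) (N : Subgroup G) [N.Normal] :
    SFClass ↥N := by
  intro x
  have heq : Subgroup.centralizer ({x} : Set N) =
      (Subgroup.centralizer ({(x : G)} : Set G)).subgroupOf N := by
    ext y
    rw [Subgroup.mem_subgroupOf, Subgroup.mem_centralizer_singleton_iff,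
      Subgroup.mem_centralizer_singleton_iff]
    constructor
    · intro hy
      exact congrArg Subtype.val hy
    · intro hy
      exact Subtype.ext hy
  rw [heq]
  exact (h (x : G)).squarefree_of_dvd (relIndex_dvd_index_of_normal_right _ N)

/-- **S4130-A3**.  Quotients inherit `SFClass`. -/
theorem SFClass.quotient {G : Type*} [Group G] [Finite G] (h : SFClass G) (N : Subgroup G) [N.Normal] :
    SFClass (G ⧸ N) := by
  intro xbar
  obtain ⟨x, rfl⟩ := QuotientGroup.mk'_surjective N xbar
  have hle : (Subgroup.centralizer ({x} : Set G)).map (QuotientGroup.mk' N) ≤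
      Subgroup.centralizer ({(QuotientGroup.mk' N) x} : Set (G ⧸ N)) := by
    rintro _ ⟨y, hy, rfl⟩
    rw [Subgroup.mem_centralizer_singleton_iff]
    have hy' := Subgroup.mem_centralizer_singleton_iff.mp hy
    rw [← map_mul, ← map_mul, hy']
  have h1 : (Subgroup.centralizer ({(QuotientGroup.mk' N) x} : Set (G ⧸ N))).index ∣
      ((Subgroup.centralizer ({x} : Set G)).map (QuotientGroup.mk' N)).index :=
    Subgroup.index_dvd_of_le hle
  have h2 : ((Subgroup.centralizer ({x} : Set G)).map (QuotientGroup.mk' N)).index ∣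
      (Subgroup.centralizer ({x} : Set G)).index :=
    Subgroup.index_map_dvd _ (QuotientGroup.mk'_surjective N)
  exact (h x).squarefree_of_dvd (h1.trans h2)

/-- **S4130-A4** (uses A1).  For a normal `r`-subgroup `N`, `|N : C_N(x)|` divides `r` for every `x : G`. -/
theorem SFClass.relIndex_dvd_prime {G : Type*} [Group G] [Finite G] (h : SFClass G) {r : ℕ} [hr : Fact r.Prime]
    (N : Subgroup G) [N.Normal] (hN : IsPGroup r N) (x : G) :
    (Subgroup.centralizer ({x} : Set G)).relIndex N ∣ r := by
  have hsq : Squarefree ((Subgroup.centralizer ({x} : Set G)).relIndex N) :=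
    (h x).squarefree_of_dvd (relIndex_dvd_index_of_normal_right _ N)
  obtain ⟨k, hk⟩ := IsPGroup.iff_card.mp hN
  have hdvd : (Subgroup.centralizer ({x} : Set G)).relIndex N ∣ r ^ k :=
    hk ▸ Subgroup.relIndex_dvd_card _ N
  obtain ⟨j, -, hj⟩ := (Nat.dvd_prime_pow hr.out).mp hdvd
  rw [hj] at hsq ⊢
  have hj1 : j ≤ 1 := by
    by_contra hcon
    have h2 : 2 ≤ j := by omega
    have hd : r * r ∣ r ^ j := by
      rw [← pow_two]; exact pow_dvd_pow r h2
    have := hsq r hd
    exact hr.out.one_lt.ne' (Nat.isUnit_iff.mp this)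
  calc r ^ j ∣ r ^ 1 := pow_dvd_pow r hj1
    _ = r := pow_one r

end Cfsg.Agent.Lib.H26.SF
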