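import Mathlib
import Cfsg.Agent.Lib.H26.MC3Defs
import Cfsg.Agent.Lib.H19.MetaKey
import Cfsg.Agent.Lib.H19.MetaBasic
import Cfsg.Agent.Lib.H22.UniqueOrderP

/-!
helper26: S4079 pieces G1, G1', G4, G5: elements of order dividing `p` in a metacyclic `p`-group (`p` odd).
-/

set_option autoImplicit false

namespace Cfsg.Agent.Lib.H26.MC3

open Cfsg.Agent.Lib.H19.MC

universe u

variable {p : ℕ} [hp : Fact p.Prime] {L : Type u} [Group L] [Finite L]

/-- G4 -/
theorem comm_pow_eq_one (hp2 : p ≠ 2) (hL : IsPGroup p L) (hmc : Cfsg.IsMetacyclic L)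
    (g e : L) (he : e ^ p = 1) :
    (g * e * g⁻¹ * e⁻¹) ^ p = 1 ∧ ∀ k : L, k * (g * e * g⁻¹ * e⁻¹) = (g * e * g⁻¹ * e⁻¹) * k := by
  obtain ⟨N, hNn, hNc, hQ⟩ := hmc
  have hmem : g * e * g⁻¹ * e⁻¹ ∈ N := by
    apply commutator_le_of_isCyclic_quotient' N hQ
    rw [commutator_eq_closure]
    exact Subgroup.subset_closure ⟨g, e, (commutatorElement_def g e)⟩
  have h1 : (g * e * g⁻¹ * e⁻¹) ^ p = 1 :=
    commutator_pow_p_eq_one hp2 hL N hNc hmem (by rw [he]; simp)
  exact ⟨h1, fun k => central_of_pow_p hL N hNc hmem h1 k⟩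

/-- G1 -/
theorem mul_pow_eq_one (hp2 : p ≠ 2) (hL : IsPGroup p L) (hmc : Cfsg.IsMetacyclic L)
    {g k : L} (hg : g ^ p = 1) (hk : k ^ p = 1) : (g * k) ^ p = 1 := by
  obtain ⟨h1, h2⟩ := comm_pow_eq_one hp2 hL hmc k g hg
  rw [Cfsg.Agent.Lib.H22.mul_pow_of_central h2 p, hg, hk, one_mul, one_mul]
  have hodd : Odd p := hp.out.eq_two_or_odd'.resolve_left hp2
  obtain ⟨t, ht⟩ := hodd
  have : p * (p - 1) / 2 = p * t := by
    have : p - 1 = 2 * t := by omega
    rw [this, ← mul_assoc, mul_comm p 2, mul_assoc, Nat.mul_div_cancel_left _ two_pos]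
  rw [this, pow_mul, h1, one_pow]

/-- G1' -/
theorem mem_Om_iff (hp2 : p ≠ 2) (hL : IsPGroup p L) (hmc : Cfsg.IsMetacyclic L) (g : L) :
    g ∈ Om p L ↔ g ^ p = 1 := by
  constructor
  · intro hg
    unfold Om at hg
    refine Subgroup.closure_induction (p := fun x _ => x ^ p = 1) ?_ ?_ ?_ ?_ hg
    · intro x hx; exact hx
    · exact one_pow p
    · intro x y _ _ hx hy; exact mul_pow_eq_one hp2 hL hmc hx hy
    · intro x _ hx; rw [inv_pow, hx, inv_one]
  · intro hg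
    exact Subgroup.subset_closure hg

/-- G5 -/
theorem isCyclic_commutator (hmc : Cfsg.IsMetacyclic L) : IsCyclic ↥(commutator L) := by
  obtain ⟨N, hNn, hNc, hQ⟩ := hmc
  have hle : commutator L ≤ N := commutator_le_of_isCyclic_quotient' N hQ
  have : IsCyclic ↥((commutator L).subgroupOf N) := by
    haveI := hNc
    infer_instance
  exact isCyclic_of_surjective _ (Subgroup.subgroupOfEquivOfLe hle).surjective

end Cfsg.Agent.Lib.H26.MC3
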