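import Mathlib

set_option autoImplicit false

/-!
# S1904 (nonabelian 2-groups without normal `E8` admitting odd automorphisms): shared definitions

Farm-out interface file (architect helper26).  Everything here is elementwise, so that the
pieces do not have to fight with coercions and quotient groups.
-/

namespace Cfsg.Agent.Lib.H26.NGP

universe u

variable {X : Type u} [Group X]

/-- the commutator `a b a⁻¹ b⁻¹` (Mathlib's commutator bracket, which is a scoped notation; we avoid it). -/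
@[reducible] def cm (a b : X) : X := a * b * a⁻¹ * b⁻¹

theorem cm_def (a b : X) : cm a b = a * b * a⁻¹ * b⁻¹ := rfl

/-- `N` is abelian (elementwise form). -/
def Ab (N : Subgroup X) : Prop := ∀ a ∈ N, ∀ b ∈ N, a * b = b * a

/-- (N): a normal abelian subgroup contains at most four solutions of `s * s = 1`
(i.e. no normal abelian subgroup contains an `E8`). -/
def NE (X : Type u) [Group X] : Prop :=
  ∀ B : Subgroup X, B.Normal → Ab B →
    ∀ S : Finset X, (∀ s ∈ S, s ∈ B ∧ s * s = 1) → S.card ≤ 4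

/-- `[X, A] = X` (same set as in the statement of S1904). -/
def Gen (A : Subgroup (MulAut X)) : Prop :=
  Subgroup.closure {g : X | ∃ φ ∈ A, ∃ x : X, g = x⁻¹ * φ x} = ⊤

/-- `N` is `A`-invariant. -/
def AInv (A : Subgroup (MulAut X)) (N : Subgroup X) : Prop := ∀ a ∈ A, ∀ x ∈ N, a x ∈ N

/-- the standing hypotheses of S1904, with `hscn` replaced by (N) -/
structure Ctx (A : Subgroup (MulAut X)) : Prop where
  pg : IsPGroup 2 X
  ne : NE X
  odd : Odd (Nat.card A)
  gen : Gen A

/-- Case C2 data: `ρ ∈ A` of `3`-power order, `U = {1, z, ρ z, ρ (ρ z)}` a central `A`-invariant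
four-group whose three involutions are permuted cyclically by `ρ`. -/
structure USetup (A : Subgroup (MulAut X)) (ρ : MulAut X) (z : X) (U : Subgroup X) : Prop where
  mem : ρ ∈ A
  pow : ∃ e : ℕ, ρ ^ 3 ^ e = 1
  z1 : z ≠ 1
  zz : z * z = 1
  ne : ρ z ≠ z
  cube : ρ (ρ (ρ z)) = z
  memU : ∀ x : X, x ∈ U ↔ x = 1 ∨ x = z ∨ x = ρ z ∨ x = ρ (ρ z)
  central : U ≤ Subgroup.center X
  ainv : AInv A U

theorem USetup.normal {A : Subgroup (MulAut X)} {ρ : MulAut X} {z : X} {U : Subgroup X}
    (h : USetup A ρ z U) : U.Normal := by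
  constructor
  intro u hu g
  have := Subgroup.mem_center_iff.mp (h.central hu) g
  rw [this, mul_inv_cancel_right]
  exact hu

/-- `upper N hN = {w | [w, X] ≤ N}`, the preimage of the centre of `X ⧸ N`. -/
def upper (N : Subgroup X) (hN : N.Normal) : Subgroup X where
  carrier := {w | ∀ g : X, cm (w) (g) ∈ N}
  one_mem' := fun g => by
    rw [cm_def]; simp [N.one_mem]
  mul_mem' := by
    intro a b ha hb g
    have h1 : cm (a * b) (g) = a * cm (b) (g) * a⁻¹ * cm (a) (g) := by
      simp only [cm_def]; group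
    rw [h1]
    exact N.mul_mem (hN.conj_mem _ (hb g) a) (ha g)
  inv_mem' := by
    intro a ha g
    have h1 : cm (a⁻¹) (g) = a⁻¹ * (cm (a) (g))⁻¹ * a⁻¹⁻¹ := by
      simp only [cm_def]; group
    rw [h1]
    exact hN.conj_mem _ (N.inv_mem (ha g)) a⁻¹

theorem mem_over {N : Subgroup X} {hN : N.Normal} {w : X} :
    w ∈ upper N hN ↔ ∀ g : X, cm (w) (g) ∈ N := Iff.rfl

theorem le_over (N : Subgroup X) (hN : N.Normal) (hab : Ab N) : N ≤ upper N hN := by
  intro w hw g
  rw [cm_def]
  have : w * g * w⁻¹ * g⁻¹ = w * (g * w⁻¹ * g⁻¹) := by group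
  rw [this]
  exact N.mul_mem hw (hN.conj_mem _ (N.inv_mem hw) g)

theorem over_normal (N : Subgroup X) (hN : N.Normal) : (upper N hN).Normal := by
  constructor
  intro w hw k g
  have h1 : cm (k * w * k⁻¹) (g) = k * cm (w) (k⁻¹ * g * k) * k⁻¹ := by
    simp only [cm_def]; group
  rw [h1]
  exact hN.conj_mem _ (hw _) k

theorem over_ainv (A : Subgroup (MulAut X)) (N : Subgroup X) (hN : N.Normal) (hA : AInv A N) :
    AInv A (upper N hN) := by
  intro a ha w hw g
  have h1 : cm (a w) (g) = a (cm (w) (a⁻¹ g)) := by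
    simp only [cm_def, map_mul, map_inv]
    rw [MulAut.apply_inv_self]
  rw [h1]
  exact hA a ha _ (hw _)

theorem mem_upper {N : Subgroup X} {hN : N.Normal} {w : X} :
    w ∈ upper N hN ↔ ∀ g : X, cm w g ∈ N := Iff.rfl

theorem le_upper (N : Subgroup X) (hN : N.Normal) (hab : Ab N) : N ≤ upper N hN :=
  le_over N hN hab

theorem upper_normal (N : Subgroup X) (hN : N.Normal) : (upper N hN).Normal := over_normal N hN

theorem upper_ainv (A : Subgroup (MulAut X)) (N : Subgroup X) (hN : N.Normal) (hA : AInv A N) :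
    AInv A (upper N hN) := over_ainv A N hN hA

/-- `B` is abelian, generated by two independent elements of order `2 ^ n`
(`B ≅ Z_{2^n} × Z_{2^n}`). -/
structure Homo (B : Subgroup X) (n : ℕ) : Prop where
  ab : Ab B
  card : Nat.card B = 2 ^ n * 2 ^ n
  gen : ∃ x y : X, x ∈ B ∧ y ∈ B ∧ x ^ 2 ^ n = 1 ∧ y ^ 2 ^ n = 1 ∧
      (∀ i j : ℕ, x ^ i * y ^ j = 1 → 2 ^ n ∣ i ∧ 2 ^ n ∣ j) ∧
      ∀ b ∈ B, ∃ i j : ℕ, b = x ^ i * y ^ j

/-- Case 2b data: a self-centralizing `A`-invariant normal homocyclic `B ⊇ U` of exponent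
`2 ^ n ≥ 4` all of whose involutions lie in `U`. -/
structure BSetup (A : Subgroup (MulAut X)) (U B : Subgroup X) (n : ℕ) : Prop where
  normal : B.Normal
  ainv : AInv A B
  homo : Homo B n
  UB : U ≤ B
  invol : ∀ t ∈ B, t * t = 1 → t ∈ U
  cent : ∀ x : X, (∀ b ∈ B, x * b = b * x) → x ∈ B
  two_le : 2 ≤ n

end Cfsg.Agent.Lib.H26.NGP
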