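import Mathlib
import Cfsg.Agent.Lib.H26.NGPDefs

set_option autoImplicit false

/-! # S1904 pieces NU, WINV (helper26) -/

namespace Cfsg.Agent.Lib.H26.NGP

universe u

variable {X : Type u} [Group X] [Finite X]

/-- the four elements of `U` are distinct -/
theorem USetup.distinct {A : Subgroup (MulAut X)} {ρ : MulAut X} {z : X} {U : Subgroup X}
    (h : USetup A ρ z U) :
    z ≠ 1 ∧ ρ z ≠ 1 ∧ ρ (ρ z) ≠ 1 ∧ ρ z ≠ z ∧ ρ (ρ z) ≠ z ∧ ρ (ρ z) ≠ ρ z := by
  have h1 : ρ z ≠ 1 := fun e => h.z1 (by simpa using (map_eq_one_iff ρ ρ.injective).mp e)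
  have h2 : ρ (ρ z) ≠ 1 := fun e => h1 ((map_eq_one_iff ρ ρ.injective).mp e)
  have h3 : ρ (ρ z) ≠ ρ z := fun e => h.ne (ρ.injective e)
  have h4 : ρ (ρ z) ≠ z := by
    intro e
    apply h.ne
    have := h.cube
    rw [e] at this
    exact this
  exact ⟨h.z1, h1, h2, h.ne, h4, h3⟩

theorem USetup.sq_eq_one {A : Subgroup (MulAut X)} {ρ : MulAut X} {z : X} {U : Subgroup X}
    (h : USetup A ρ z U) : ∀ u ∈ U, u * u = 1 := by
  intro u hu
  have h1 : ρ z * ρ z = 1 := by rw [← map_mul, h.zz, map_one]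
  have h2 : ρ (ρ z) * ρ (ρ z) = 1 := by rw [← map_mul, h1, map_one]
  rcases (h.memU u).mp hu with rfl | rfl | rfl | rfl
  · exact one_mul 1
  · exact h.zz
  · exact h1
  · exact h2

theorem USetup.ab {A : Subgroup (MulAut X)} {ρ : MulAut X} {z : X} {U : Subgroup X}
    (h : USetup A ρ z U) : Ab U := fun a ha b _ =>
  (Subgroup.mem_center_iff.mp (h.central ha) b).symm

theorem mem_sup_normal {H N : Subgroup X} (hN : N.Normal) {a : X} (ha : a ∈ H ⊔ N) :
    ∃ h ∈ H, ∃ n ∈ N, a = h * n := by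
  haveI := hN
  have h1 : a ∈ ((H ⊔ N : Subgroup X) : Set X) := ha
  rw [Subgroup.mul_normal] at h1
  obtain ⟨h, hh, n, hn, rfl⟩ := Set.mem_mul.mp h1
  exact ⟨h, hh, n, hn, rfl⟩

/-- (N''): involutions of normal abelian subgroups lie in `U`. -/
theorem invol_mem_U (hne : NE X) {A : Subgroup (MulAut X)} {ρ : MulAut X} {z : X} {U : Subgroup X}
    (hU : USetup A ρ z U) (B : Subgroup X) (hBn : B.Normal) (hBab : Ab B)
    (t : X) (ht : t ∈ B) (htt : t * t = 1) : t ∈ U := by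
  classical
  by_contra htU
  have hUn := hU.normal
  -- `B ⊔ U` is normal and abelian
  have hn : (B ⊔ U).Normal := by
    haveI := hBn; haveI := hUn
    exact Subgroup.sup_normal B U
  have hab : Ab (B ⊔ U) := by
    have hcomm : ∀ a ∈ B ⊔ U, ∀ b ∈ B ⊔ U, a * b = b * a := by
      intro a ha b hb
      haveI := hUn
      obtain ⟨a1, ha1, a2, ha2, rfl⟩ := mem_sup_normal hUn ha
      obtain ⟨b1, hb1, b2, hb2, rfl⟩ := mem_sup_normal hUn hb
      have ca : ∀ g : X, g * a2 = a2 * g := fun g => Subgroup.mem_center_iff.mp (hU.central ha2) g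
      have cb : ∀ g : X, g * b2 = b2 * g := fun g => Subgroup.mem_center_iff.mp (hU.central hb2) g
      have h12 := hBab a1 ha1 b1 hb1
      calc a1 * a2 * (b1 * b2) = a1 * (a2 * b1) * b2 := by group
        _ = a1 * (b1 * a2) * b2 := by rw [← ca b1]
        _ = (a1 * b1) * (a2 * b2) := by group
        _ = (b1 * a1) * (b2 * a2) := by rw [h12, ← cb a2]
        _ = b1 * (a1 * b2) * a2 := by group
        _ = b1 * (b2 * a1) * a2 := by rw [cb a1]
        _ = b1 * b2 * (a1 * a2) := by group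
    exact hcomm
  obtain ⟨d1, d2, d3, d4, d5, d6⟩ := hU.distinct
  have hz : z ∈ U := (hU.memU z).mpr (Or.inr (Or.inl rfl))
  have hρz : ρ z ∈ U := (hU.memU _).mpr (Or.inr (Or.inr (Or.inl rfl)))
  have hρρz : ρ (ρ z) ∈ U := (hU.memU _).mpr (Or.inr (Or.inr (Or.inr rfl)))
  have hle : U ≤ B ⊔ U := le_sup_right
  have htne : ∀ u ∈ U, t ≠ u := fun u hu e => htU (e ▸ hu)
  let S : Finset X := {1, z, ρ z, ρ (ρ z), t}
  have hS : ∀ s ∈ S, s ∈ B ⊔ U ∧ s * s = 1 := by
    intro s hs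
    simp only [S, Finset.mem_insert, Finset.mem_singleton] at hs
    rcases hs with rfl | rfl | rfl | rfl | rfl
    · exact ⟨Subgroup.one_mem _, one_mul 1⟩
    · exact ⟨hle hz, hU.sq_eq_one _ hz⟩
    · exact ⟨hle hρz, hU.sq_eq_one _ hρz⟩
    · exact ⟨hle hρρz, hU.sq_eq_one _ hρρz⟩
    · exact ⟨(le_sup_left : B ≤ B ⊔ U) ht, htt⟩
  have hcard : S.card = 5 := by
    have e1 : (1 : X) ∉ ({z, ρ z, ρ (ρ z), t} : Finset X) := by
      simp only [Finset.mem_insert, Finset.mem_singleton, not_or]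
      exact ⟨d1.symm, d2.symm, d3.symm, (htne 1 U.one_mem).symm⟩
    have e2 : z ∉ ({ρ z, ρ (ρ z), t} : Finset X) := by
      simp only [Finset.mem_insert, Finset.mem_singleton, not_or]
      exact ⟨d4.symm, d5.symm, (htne z hz).symm⟩
    have e3 : ρ z ∉ ({ρ (ρ z), t} : Finset X) := by
      simp only [Finset.mem_insert, Finset.mem_singleton, not_or]
      exact ⟨d6.symm, (htne _ hρz).symm⟩
    have e4 : ρ (ρ z) ∉ ({t} : Finset X) := by
      simp only [Finset.mem_singleton]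
      exact (htne _ hρρz).symm
    simp only [S]
    rw [Finset.card_insert_of_notMem e1, Finset.card_insert_of_notMem e2,
      Finset.card_insert_of_notMem e3, Finset.card_insert_of_notMem e4, Finset.card_singleton]
  have := hne (B ⊔ U) hn hab S hS
  omega

/-- Involutions of `W = upper U` lie in `U`. -/
theorem upperU_invol (hne : NE X) {A : Subgroup (MulAut X)} {ρ : MulAut X} {z : X} {U : Subgroup X}
    (hU : USetup A ρ z U) (hUn : U.Normal) (t : X) (ht : t ∈ upper U hUn) (htt : t * t = 1) :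
    t ∈ U := by
  have hcen : ∀ u ∈ U, ∀ g : X, g * u = u * g := fun u hu g =>
    Subgroup.mem_center_iff.mp (hU.central hu) g
  have hcm : ∀ g : X, cm g t ∈ U := by
    intro g
    have h1 : cm g t = (cm t g)⁻¹ := by simp only [cm_def]; group
    rw [h1]
    exact U.inv_mem (ht g)
  have hconj : ∀ g : X, g * t * g⁻¹ = cm g t * t := fun g => by simp only [cm_def]; group
  -- `T = zpowers t ⊔ U`
  have hTn : (Subgroup.zpowers t ⊔ U).Normal := by
    constructor
    intro n hn g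
    obtain ⟨h, hh, u, hu, rfl⟩ := mem_sup_normal hUn hn
    obtain ⟨k, rfl⟩ := Subgroup.mem_zpowers_iff.mp hh
    have h1 : g * (t ^ k * u) * g⁻¹ = (g * t * g⁻¹) ^ k * u := by
      rw [conj_zpow]
      have := hcen u hu g
      calc g * (t ^ k * u) * g⁻¹ = g * t ^ k * (u * g⁻¹) := by group
        _ = g * t ^ k * (g⁻¹ * u) := by rw [hcen u hu g⁻¹]
        _ = g * t ^ k * g⁻¹ * u := by group
    rw [h1, hconj]
    have hc : Commute (cm g t) t := (hcen _ (hcm g) t).symm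
    rw [hc.mul_zpow]
    refine Subgroup.mul_mem _ (Subgroup.mul_mem _ ?_ ?_) ((le_sup_right : U ≤ _) hu)
    · exact (le_sup_right : U ≤ _) (U.zpow_mem (hcm g) k)
    · exact (le_sup_left : Subgroup.zpowers t ≤ _) (Subgroup.zpow_mem_zpowers t k)
  have hTab : Ab (Subgroup.zpowers t ⊔ U) := by
    intro a ha b hb
    obtain ⟨a1, ha1, a2, ha2, rfl⟩ := mem_sup_normal hUn ha
    obtain ⟨b1, hb1, b2, hb2, rfl⟩ := mem_sup_normal hUn hb
    obtain ⟨k, rfl⟩ := Subgroup.mem_zpowers_iff.mp ha1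
    obtain ⟨l, rfl⟩ := Subgroup.mem_zpowers_iff.mp hb1
    have ca : ∀ g : X, g * a2 = a2 * g := hcen a2 ha2
    have cb : ∀ g : X, g * b2 = b2 * g := hcen b2 hb2
    have h12 : t ^ k * t ^ l = t ^ l * t ^ k := by rw [← zpow_add, ← zpow_add, add_comm]
    calc t ^ k * a2 * (t ^ l * b2) = t ^ k * (a2 * t ^ l) * b2 := by group
      _ = t ^ k * (t ^ l * a2) * b2 := by rw [← ca (t ^ l)]
      _ = (t ^ k * t ^ l) * (a2 * b2) := by group
      _ = (t ^ l * t ^ k) * (b2 * a2) := by rw [h12, ← cb a2]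
      _ = t ^ l * (t ^ k * b2) * a2 := by group
      _ = t ^ l * (b2 * t ^ k) * a2 := by rw [cb (t ^ k)]
      _ = t ^ l * b2 * (t ^ k * a2) := by group
  exact invol_mem_U hne hU _ hTn hTab t
    ((le_sup_left : Subgroup.zpowers t ≤ _) (Subgroup.mem_zpowers t)) htt

end Cfsg.Agent.Lib.H26.NGP
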