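import Mathlib
import Cfsg.Agent.Lib.H22.PearlDefs

/-!
# S5238 (pearls in `p`-groups, `p` odd) — shared definitions (architect helper26)

General-`p` sibling of helper22's `Lib/H22/PearlDefs.lean` (which is imported: `L G i = γ_{i+1}(G)` and the abstract
filtration notion `Fil M m` are reused as they are).  New here: the hypothesis bundle `PP p G n e`
(`|G| = p^n`, `e^p = 1`, `|C_G(e)| = p^2`) and the iterated commutator `itc e d j`
(`d_0 = d`, `d_{j+1} = d_j⁻¹ * e * d_j * e⁻¹`).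
-/

set_option autoImplicit false

namespace Cfsg.Agent.Lib.H26.PPearl

/-- `|G| = p^n`, `e^p = 1`, `|C_G(e)| = p^2`. -/
structure PP (p : ℕ) (G : Type*) [Group G] (n : ℕ) (e : G) : Prop where
  card : Nat.card G = p ^ n
  he : e ^ p = 1
  hC : Nat.card ↥(Subgroup.centralizer ({e} : Set G)) = p ^ 2

/-- The iterated commutators with `e`: `d_0 = d`, `d_{j+1} = d_j⁻¹ * e * d_j * e⁻¹`
(`= x * e * x⁻¹ * e⁻¹` for `x = d_j⁻¹`). -/
def itc {T : Type*} [Group T] (e d : T) : ℕ → T
  | 0 => d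
  | (j + 1) => (itc e d j)⁻¹ * e * itc e d j * e⁻¹

@[simp] theorem itc_zero {T : Type*} [Group T] (e d : T) : itc e d 0 = d := rfl

theorem itc_succ {T : Type*} [Group T] (e d : T) (j : ℕ) :
    itc e d (j + 1) = (itc e d j)⁻¹ * e * itc e d j * e⁻¹ := rfl

end Cfsg.Agent.Lib.H26.PPearl
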