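import Mathlib
import Cfsg.Prelude.Def_Transfer
import Cfsg.Agent.Lib.H26.Basic

set_option autoImplicit false

namespace Cfsg.Agent.Lib.H26

variable {X : Type*} [Group X]

/-- elementary abelian subgroups of the ambient group inside `P`, of largest order. -/
def maxEA (p : ℕ) (P : Subgroup X) : Set (Subgroup X) :=
  {A | A ≤ P ∧ Cfsg.IsElementaryAbelian p A ∧
    ∀ B : Subgroup X, B ≤ P → Cfsg.IsElementaryAbelian p B → Nat.card B ≤ Nat.card A}

/-- the Thompson subgroup of `P`, computed in the ambient group. -/
def JJ (p : ℕ) (P : Subgroup X) : Subgroup X := sSup (maxEA p P)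

theorem JJ_le (p : ℕ) (P : Subgroup X) : JJ p P ≤ P :=
  sSup_le fun _ hA => hA.1

theorem isElementaryAbelian_map_iff {Y : Type*} [Group Y] (p : ℕ) (f : X →* Y)
    (hf : Function.Injective f) (A : Subgroup X) :
    Cfsg.IsElementaryAbelian p (A.map f) ↔ Cfsg.IsElementaryAbelian p A := by
  unfold Cfsg.IsElementaryAbelian
  constructor
  · rintro ⟨hc, he⟩
    refine ⟨⟨⟨fun a b => ?_⟩⟩, fun a ha => ?_⟩
    · have h1 := setLike_mul_comm (s := A.map f) (Subgroup.mem_map_of_mem f a.2)
        (Subgroup.mem_map_of_mem f b.2)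
      apply Subtype.ext
      apply hf
      simpa using h1
    · apply hf
      rw [map_pow, map_one]
      exact he _ (Subgroup.mem_map_of_mem f ha)
  · rintro ⟨hc, he⟩
    refine ⟨⟨⟨?_⟩⟩, ?_⟩
    · rintro ⟨_, a, ha, rfl⟩ ⟨_, b, hb, rfl⟩
      apply Subtype.ext
      show f a * f b = f b * f a
      rw [← map_mul, ← map_mul, setLike_mul_comm (s := A) ha hb]
    · rintro _ ⟨a, ha, rfl⟩
      rw [← map_pow, he a ha, map_one]

theorem thompsonSubgroupOf_eq (p : ℕ) (P : Subgroup X) :
    Cfsg.thompsonSubgroupOf p P = JJ p P := by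
  unfold Cfsg.thompsonSubgroupOf Cfsg.thompsonSubgroup JJ
  apply le_antisymm
  · rw [Subgroup.map_le_iff_le_comap]
    apply sSup_le
    intro A' hA'
    rw [← Subgroup.map_le_iff_le_comap]
    apply le_sSup
    refine ⟨Subgroup.map_subtype_le A', ?_, ?_⟩
    · exact (isElementaryAbelian_map_iff p P.subtype P.subtype_injective A').mpr hA'.1
    · intro B hBP hB
      have hB' : Cfsg.IsElementaryAbelian p (B.subgroupOf P) := by
        rw [← isElementaryAbelian_map_iff p P.subtype P.subtype_injective,
          Subgroup.map_subgroupOf_eq_of_le hBP]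
        exact hB
      have h1 := hA'.2 (B.subgroupOf P) hB'
      have h2 : Nat.card (B.subgroupOf P) = Nat.card B := by
        conv_rhs => rw [← Subgroup.map_subgroupOf_eq_of_le hBP]
        exact (Subgroup.card_map_of_injective P.subtype_injective).symm
      rw [Subgroup.card_map_of_injective P.subtype_injective, ← h2]
      exact h1
  · apply sSup_le
    intro A hA
    rw [← Subgroup.map_subgroupOf_eq_of_le hA.1]
    apply Subgroup.map_mono
    apply le_sSup
    refine ⟨?_, ?_⟩
    · rw [← isElementaryAbelian_map_iff p P.subtype P.subtype_injective,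
        Subgroup.map_subgroupOf_eq_of_le hA.1]
      exact hA.2.1
    · intro B' hB'
      have h1 := hA.2.2 (B'.map P.subtype) (Subgroup.map_subtype_le B')
        ((isElementaryAbelian_map_iff p P.subtype P.subtype_injective B').mpr hB')
      rw [Subgroup.card_map_of_injective P.subtype_injective] at h1
      have h2 : Nat.card (A.subgroupOf P) = Nat.card A := by
        conv_rhs => rw [← Subgroup.map_subgroupOf_eq_of_le hA.1]
        exact (Subgroup.card_map_of_injective P.subtype_injective).symm
      rw [h2]; exact h1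

/-- `J(P)` is weakly closed in `P`: a conjugate of `J(P)` inside `P` equals `J(P)`. -/
theorem JJ_weaklyClosed (p : ℕ) (P : Subgroup X) [Finite P] (u : X)
    (h : (JJ p P).map (MulAut.conj u).toMonoidHom ≤ P) :
    (JJ p P).map (MulAut.conj u).toMonoidHom = JJ p P := by
  have hinj : Function.Injective (MulAut.conj u).toMonoidHom := (MulAut.conj u).injective
  have hfin : Finite (JJ p P) := Finite.of_injective (Subgroup.inclusion (JJ_le p P))
    (Subgroup.inclusion_injective _)
  apply Subgroup.eq_of_le_of_card_ge
  · rw [Subgroup.map_le_iff_le_comap]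
    apply sSup_le
    intro A hA
    rw [← Subgroup.map_le_iff_le_comap]
    apply le_sSup
    refine ⟨(Subgroup.map_mono (le_sSup hA)).trans h, ?_, ?_⟩
    · exact (isElementaryAbelian_map_iff p _ hinj A).mpr hA.2.1
    · intro B hBP hB
      rw [Subgroup.card_map_of_injective hinj]
      exact hA.2.2 B hBP hB
  · rw [Subgroup.card_map_of_injective hinj]

end Cfsg.Agent.Lib.H26
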