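import Mathlib
import Cfsg.Agent.Lib.H16.ClassTwo
import Cfsg.Agent.Lib.H1.PGroupBasic
import Cfsg.Agent.S0093
import Cfsg.Agent.S0121
import Cfsg.Agent.S0120

set_option autoImplicit false

/-!
Automorphisms of order prime to `p` of a finite `p`-group and the elements of order `p` (or `4`
when `p = 2`), helper26.  Builds on helper16's `S0093`, `S0120` and helper5's `S0121`.
-/

namespace Cfsg.Agent.Lib.H26

open Cfsg.Agent.Lib.H16
open scoped commutatorElement

universe u

/-- Elementwise coprime action: if `a` has order prime to `p`, and `g⁻¹ a(g)` is a `p`-element fixed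
by `a`, then `a g = g`. -/
theorem fix_of_fixes_comm {G : Type*} [Group G] {p : ℕ} [Fact p.Prime] (a : MulAut G)
    (ha : Nat.Coprime (orderOf a) p) (g : G) (hc : ∃ k : ℕ, (g⁻¹ * a g) ^ (p ^ k) = 1)
    (h : a (g⁻¹ * a g) = g⁻¹ * a g) : a g = g := by
  have hpow : ∀ k : ℕ, (a ^ k) g = g * (g⁻¹ * a g) ^ k := by
    intro k
    induction k with
    | zero => simp
    | succ k ih =>
      rw [pow_succ', MulAut.mul_apply, ih, map_mul, map_pow, h, pow_succ', ← mul_assoc,
        ← mul_assoc, mul_inv_cancel, one_mul]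
  have hk := hpow (orderOf a)
  rw [pow_orderOf_eq_one, MulAut.one_apply] at hk
  have hck : (g⁻¹ * a g) ^ orderOf a = 1 := by
    have := mul_left_cancel (a := g) (b := 1) (c := (g⁻¹ * a g) ^ orderOf a)
      (by rw [mul_one]; exact hk)
    exact this.symm
  obtain ⟨m, hm⟩ := hc
  have hd : orderOf (g⁻¹ * a g) ∣ orderOf a := orderOf_dvd_of_pow_eq_one hck
  have hd' : orderOf (g⁻¹ * a g) ∣ p ^ m := orderOf_dvd_of_pow_eq_one hm
  have hcop : Nat.Coprime (orderOf (g⁻¹ * a g)) (orderOf (g⁻¹ * a g)) :=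
    Nat.Coprime.coprime_dvd_right hd' ((Nat.Coprime.coprime_dvd_left hd ha).pow_right m)
  have h1 : orderOf (g⁻¹ * a g) = 1 := by rwa [Nat.coprime_self] at hcop
  rw [orderOf_eq_one_iff] at h1
  have : a g = g * (g⁻¹ * a g) := by group
  rw [this, h1, mul_one]

/-- The minimal configuration: a nontrivial `p'`-automorphism of a finite `p`-group that is trivial on
every proper characteristic subgroup forces every element to have order dividing `p` (dividing `4`
when `p = 2`). -/
theorem small_of_minimal {G : Type*} [Group G] [Finite G] {p : ℕ} [Fact p.Prime]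
    (hG : IsPGroup p G) (a : MulAut G) (ha : Nat.Coprime (orderOf a) p) (hne : a ≠ 1)
    (hmin : ∀ H : Subgroup G, H.Characteristic → H ≠ ⊤ → ∀ x ∈ H, a x = x) (x : G) :
    x ^ p = 1 ∨ (p = 2 ∧ x ^ 4 = 1) := by
  have hpp : p.Prime := Fact.out
  obtain ⟨H, hHchar, h1, h2, h3⟩ := Cfsg.Agent.S0093.result hG
  have hHtop : H = ⊤ := by
    by_contra hH
    exact hne (Cfsg.Agent.S0121.result hG H hHchar h1 h2 h3 a ha (hmin H hHchar hH))
  have hcent : ∀ z ∈ Subgroup.centralizer (H : Set G), ∀ g : G, Commute z g := by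
    intro z hz g
    rw [hHtop] at hz
    exact (Subgroup.mem_centralizer_iff.mp hz g (Subgroup.mem_top g)).symm
  have hcomm : ∀ x g k : G, Commute ⁅x, g⁆ k := by
    intro x g k
    apply hcent
    have : ⁅x, g⁆ ∈ ⁅H, (⊤ : Subgroup G)⁆ :=
      Subgroup.commutator_mem_commutator (by rw [hHtop]; exact Subgroup.mem_top x)
        (Subgroup.mem_top g)
    exact (h2 this).2
  have hpowc : ∀ x g : G, Commute (x ^ p) g := by
    intro x g
    apply hcent
    have hxH : x ∈ H := by rw [hHtop]; exact Subgroup.mem_top x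
    have hHp : IsPGroup p H := hG.to_subgroup H
    have h4 := Cfsg.Agent.Lib.H1.isPGroup_pow_mem_frattini hHp (⟨x, hxH⟩ : H)
    apply h1
    exact ⟨_, h4, rfl⟩
  -- the exponent `q`
  obtain ⟨q, hq, hpq, hmul⟩ : ∃ q : ℕ, (q = p ∨ (p = 2 ∧ q = 4)) ∧ p ∣ q ∧
      ∀ x y : G, (x * y) ^ q = x ^ q * y ^ q := by
    by_cases hp2 : p = 2
    · refine ⟨4, Or.inr ⟨hp2, rfl⟩, by rw [hp2]; norm_num, ?_⟩
      intro x y
      have hc : y * x = x * y * ⁅y⁻¹, x⁻¹⁆ := by rw [commutatorElement_def]; group
      have hcp : ⁅y⁻¹, x⁻¹⁆ ^ p = 1 :=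
        pow_eq_one_of_pow_commute hc (hcomm _ _ y) (hpowc y x)
      rw [hp2] at hcp
      rw [mul_pow_of_central hc (hcomm _ _ x) (hcomm _ _ y) 4]
      have : 4 * (4 - 1) / 2 = 2 * 3 := by norm_num
      rw [this, pow_mul, hcp, one_pow, mul_one]
    · refine ⟨p, Or.inl rfl, dvd_rfl, ?_⟩
      have hodd : Odd p := hpp.odd_of_ne_two hp2
      intro x y
      have hc : y * x = x * y * ⁅y⁻¹, x⁻¹⁆ := by rw [commutatorElement_def]; group
      have hcp : ⁅y⁻¹, x⁻¹⁆ ^ p = 1 :=
        pow_eq_one_of_pow_commute hc (hcomm _ _ y) (hpowc y x)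
      exact mul_pow_eq_of_central hc (hcomm _ _ x) (hcomm _ _ y) hodd hcp
  suffices hall : ∀ x : G, x ^ q = 1 by
    rcases hq with rfl | ⟨hp2, rfl⟩
    · exact Or.inl (hall x)
    · exact Or.inr ⟨hp2, hall x⟩
  let θ : G →* G := MonoidHom.mk' (fun x : G => x ^ q) hmul
  have hθ : ∀ x : G, θ x = x ^ q := fun _ => rfl
  have hKchar : θ.ker.Characteristic := by
    rw [Subgroup.characteristic_iff_map_le]
    rintro φ _ ⟨z, hz, rfl⟩
    have hz' : z ^ q = 1 := hz
    show θ (φ z) = 1
    rw [hθ]
    have : (φ z) ^ q = φ (z ^ q) := (map_pow φ z q).symm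
    rw [this, hz', map_one]
  have hRchar : θ.range.Characteristic := by
    rw [Subgroup.characteristic_iff_map_le]
    rintro φ _ ⟨z, ⟨w, rfl⟩, rfl⟩
    refine ⟨φ w, ?_⟩
    rw [hθ, hθ]
    exact (map_pow φ w q).symm
  by_contra hall
  push Not at hall
  have hKtop : θ.ker ≠ ⊤ := by
    intro h
    obtain ⟨y, hy⟩ := hall
    apply hy
    have : y ∈ θ.ker := by rw [h]; exact Subgroup.mem_top y
    exact this
  have hKfix := hmin θ.ker hKchar hKtop
  have hnt : Nontrivial G := by
    by_contra hsub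
    rw [not_nontrivial_iff_subsingleton] at hsub
    apply hne
    ext g
    exact Subsingleton.elim _ _
  have hRtop : θ.range ≠ ⊤ := by
    intro h
    have hsurj : Function.Surjective θ := MonoidHom.range_eq_top.1 h
    have hinj : Function.Injective θ := Finite.injective_iff_surjective.2 hsurj
    obtain ⟨g, hg⟩ := exists_ne (1 : G)
    obtain ⟨j, hj1, hjp⟩ := Cfsg.Agent.S0093.exists_pow_ne_one_pow_eq_one hG hg
    apply hj1
    apply hinj
    rw [map_one, hθ]
    obtain ⟨r, rfl⟩ := hpq
    rw [pow_mul, hjp, one_pow]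
  have hRfix := hmin θ.range hRchar hRtop
  apply hne
  apply Cfsg.Agent.S0120.eq_one_of_fixes_comm hG a ha
  intro g
  apply hKfix
  show θ (g⁻¹ * a g) = 1
  rw [hθ, hmul, inv_pow, ← map_pow, hRfix (g ^ q) ⟨g, rfl⟩, inv_mul_cancel]

/-- The restriction of an automorphism to an invariant subgroup of a finite group. -/
noncomputable def restrictAut {G : Type*} [Group G] [Finite G] (a : MulAut G) (P : Subgroup G)
    (h : ∀ x ∈ P, a x ∈ P) : MulAut P :=
  MulEquiv.ofBijective
    (MonoidHom.mk' (fun x : P => (⟨a x, h x x.2⟩ : P)) (fun x y => Subtype.ext (map_mul a _ _)))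
    (by
      have hinj : Function.Injective (fun x : P => (⟨a x, h x x.2⟩ : P)) := by
        intro x y hxy
        exact Subtype.ext (a.injective (congrArg Subtype.val hxy))
      exact ⟨hinj, Finite.injective_iff_surjective.1 hinj⟩)

theorem restrictAut_apply {G : Type*} [Group G] [Finite G] (a : MulAut G) (P : Subgroup G)
    (h : ∀ x ∈ P, a x ∈ P) (x : P) : ((restrictAut a P h x : P) : G) = a x := rfl

theorem restrictAut_pow_apply {G : Type*} [Group G] [Finite G] (a : MulAut G) (P : Subgroup G)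
    (h : ∀ x ∈ P, a x ∈ P) (n : ℕ) (x : P) :
    (((restrictAut a P h) ^ n) x : G) = (a ^ n) x := by
  induction n generalizing x with
  | zero => simp
  | succ n ih =>
    rw [pow_succ, pow_succ, MulAut.mul_apply, MulAut.mul_apply, ih, restrictAut_apply]

theorem orderOf_restrictAut_dvd {G : Type*} [Group G] [Finite G] (a : MulAut G) (P : Subgroup G)
    (h : ∀ x ∈ P, a x ∈ P) : orderOf (restrictAut a P h) ∣ orderOf a := by
  apply orderOf_dvd_of_pow_eq_one
  ext x
  rw [restrictAut_pow_apply, pow_orderOf_eq_one]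
  rfl

/-- A `p'`-automorphism of a finite `p`-group fixing every element of order dividing `p` (and,
when `p = 2`, every element of order dividing `4`) is trivial. -/
theorem aut_eq_one_of_fix_small_aux {p : ℕ} [Fact p.Prime] :
    ∀ (N : ℕ) (G : Type u) [Group G] [Finite G], Nat.card G = N → IsPGroup p G →
      ∀ a : MulAut G, Nat.Coprime (orderOf a) p →
        (∀ x : G, (x ^ p = 1 ∨ (p = 2 ∧ x ^ 4 = 1)) → a x = x) → a = 1 := by
  intro N
  induction N using Nat.strong_induction_on with
  | _ N ih =>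
  intro G _ _ hN hG a ha hfix
  by_contra hne
  apply hne
  ext x
  apply hfix
  refine small_of_minimal hG a ha hne ?_ x
  intro H hHchar hHtop
  have hHlt : Nat.card H < N := by
    rw [← hN, ← H.index_mul_card]
    exact lt_mul_of_one_lt_left Nat.card_pos (Subgroup.one_lt_index_of_ne_top hHtop)
  have hinv : ∀ x ∈ H, a x ∈ H := by
    intro x hx
    have := hHchar.fixed a⁻¹
    rw [← this]
    show a⁻¹ (a x) ∈ H
    simpa using hx
  have haH : restrictAut a H hinv = 1 := by
    apply ih (Nat.card H) hHlt H rfl (hG.to_subgroup H)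
    · exact Nat.Coprime.coprime_dvd_left (orderOf_restrictAut_dvd a H hinv) ha
    · intro y hy
      apply Subtype.ext
      rw [restrictAut_apply]
      apply hfix
      rcases hy with hy | ⟨hp2, hy⟩
      · left
        have := congrArg Subtype.val hy
        simpa using this
      · right
        refine ⟨hp2, ?_⟩
        have := congrArg Subtype.val hy
        simpa using this
  intro y hy
  have h5 : ((restrictAut a H hinv ⟨y, hy⟩ : H) : G) = a y := rfl
  rw [haH] at h5
  exact h5.symm

theorem aut_eq_one_of_fix_small {G : Type*} [Group G] [Finite G] {p : ℕ} [Fact p.Prime]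
    (hG : IsPGroup p G) (a : MulAut G) (ha : Nat.Coprime (orderOf a) p)
    (h : ∀ x : G, (x ^ p = 1 ∨ (p = 2 ∧ x ^ 4 = 1)) → a x = x) : a = 1 :=
  aut_eq_one_of_fix_small_aux (Nat.card G) G rfl hG a ha h

/-- A minimal invariant subgroup on which a nontrivial `p'`-automorphism acts nontrivially: it has
small exponent and is generated by the "commutators" `x⁻¹ a(x)`. -/
theorem exists_minimal_invariant {G : Type*} [Group G] [Finite G] {p : ℕ} [Fact p.Prime]
    (hG : IsPGroup p G) (a : MulAut G) (ha : Nat.Coprime (orderOf a) p) (hne : a ≠ 1) :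
    ∃ P : Subgroup G, (∀ x ∈ P, a x ∈ P) ∧ (∃ x ∈ P, a x ≠ x) ∧
      (∀ x ∈ P, x ^ p = 1 ∨ (p = 2 ∧ x ^ 4 = 1)) ∧
      P ≤ Subgroup.closure {y : G | ∃ x ∈ P, y = x⁻¹ * a x} := by
  classical
  set s : Set (Subgroup G) := {P | (∀ x ∈ P, a x ∈ P) ∧ ∃ x ∈ P, a x ≠ x} with hs
  have hfin : s.Finite := Set.toFinite s
  have hnonempty : s.Nonempty := by
    refine ⟨⊤, fun x _ => Subgroup.mem_top _, ?_⟩
    by_contra h
    push Not at h
    apply hne
    ext x
    exact h x (Subgroup.mem_top x)
  obtain ⟨P, hPs, hPmin⟩ := Set.exists_min_image s (fun P => Nat.card P) hfin hnonempty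
  obtain ⟨hPinv, hPne⟩ := hPs
  have hmin : ∀ P' : Subgroup G, P' ≤ P → P' ≠ P → (∀ x ∈ P', a x ∈ P') → ∀ x ∈ P', a x = x := by
    intro P' hle hneq hinv
    by_contra h
    push Not at h
    have hmem : P' ∈ s := ⟨hinv, h⟩
    have h1 := hPmin P' hmem
    exact hneq (Subgroup.eq_of_le_of_card_ge hle h1)
  set a' := restrictAut a P hPinv with ha'
  have ha'cop : Nat.Coprime (orderOf a') p :=
    Nat.Coprime.coprime_dvd_left (orderOf_restrictAut_dvd a P hPinv) ha
  have ha'ne : a' ≠ 1 := by
    intro h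
    obtain ⟨x, hx, hax⟩ := hPne
    apply hax
    have h5 : ((a' ⟨x, hx⟩ : P) : G) = a x := rfl
    rw [h] at h5
    exact h5.symm
  have hPp : IsPGroup p P := hG.to_subgroup P
  refine ⟨P, hPinv, hPne, ?_, ?_⟩
  · intro x hx
    have hmin' : ∀ H : Subgroup P, H.Characteristic → H ≠ ⊤ → ∀ y ∈ H, a' y = y := by
      intro H hHchar hHtop y hy
      have hle : H.map P.subtype ≤ P := by
        rintro _ ⟨z, -, rfl⟩
        exact z.2
      have hneq : H.map P.subtype ≠ P := by
        intro h
        apply hHtop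
        rw [eq_top_iff]
        intro z _
        have : (z : G) ∈ H.map P.subtype := by rw [h]; exact z.2
        obtain ⟨w, hw, hwz⟩ := this
        have : w = z := Subtype.ext hwz
        rwa [← this]
      have hinv : ∀ z ∈ H.map P.subtype, a z ∈ H.map P.subtype := by
        rintro _ ⟨z, hz, rfl⟩
        refine ⟨a' z, ?_, rfl⟩
        have := hHchar.fixed a'⁻¹
        rw [← this]
        show a'⁻¹ (a' z) ∈ H
        simpa using hz
      have := hmin _ hle hneq hinv (y : G) ⟨y, hy, rfl⟩
      exact Subtype.ext this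
    have := small_of_minimal hPp a' ha'cop ha'ne hmin' ⟨x, hx⟩
    rcases this with h | ⟨hp2, h⟩
    · left
      have := congrArg Subtype.val h
      simpa using this
    · right
      refine ⟨hp2, ?_⟩
      have := congrArg Subtype.val h
      simpa using this
  · set D := Subgroup.closure {y : G | ∃ x ∈ P, y = x⁻¹ * a x} with hD
    have hDP : D ≤ P := by
      rw [hD, Subgroup.closure_le]
      rintro _ ⟨x, hx, rfl⟩
      exact P.mul_mem (P.inv_mem hx) (hPinv x hx)
    have hDinv : ∀ d ∈ D, a d ∈ D := by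
      intro d hd
      rw [hD] at hd
      refine Subgroup.closure_induction (p := fun d _ => a d ∈ D) ?_ ?_ ?_ ?_ hd
      · rintro _ ⟨x, hx, rfl⟩
        apply Subgroup.subset_closure
        refine ⟨a x, hPinv x hx, ?_⟩
        rw [map_mul, map_inv]
      · rw [map_one]; exact D.one_mem
      · intro u v _ _ hu hv
        rw [map_mul]; exact D.mul_mem hu hv
      · intro u _ hu
        rw [map_inv]; exact D.inv_mem hu
    by_contra hnot
    have hneq : D ≠ P := fun h => hnot (h ▸ le_rfl)
    have hfixD := hmin D hDP hneq hDinv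
    obtain ⟨x, hx, hax⟩ := hPne
    apply hax
    apply fix_of_fixes_comm a ha x
    · obtain ⟨k, hk⟩ := hG (x⁻¹ * a x)
      exact ⟨k, hk⟩
    · apply hfixD
      exact Subgroup.subset_closure ⟨x, hx, rfl⟩

end Cfsg.Agent.Lib.H26
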