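import Mathlib
import Cfsg.Prelude.Def_FusionSystem
import Cfsg.Agent.Lib.H25.Fusion
import Cfsg.Agent.Lib.H25.Alperin
import Cfsg.Agent.Lib.H25.Hyperfocal
import Cfsg.Agent.Lib.H26.SmallExponent
import Cfsg.Agent.Lib.H26.EssentialOmit

set_option autoImplicit false

/-!
Cyclic subgroups of order `p` or `4` of the hyperfocal subgroup and nilpotency of a saturated
fusion system (helper26).
-/

namespace Cfsg.Agent.Lib.H26

open Cfsg Cfsg.FusionSystem Cfsg.Agent.Lib.H25

variable {Ω : Type*} [Group Ω] {S : Subgroup Ω}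

/-- Restriction of an automorphism of the system to an invariant subgroup. -/
theorem exists_restrict_of_invariant [Finite S] {F : FusionSystem S} {P P' : Subgroup Ω}
    (hPS : P ≤ S) (hP'P : P' ≤ P) {α : MulAut P} (hα : α ∈ F.autGroup P)
    (hinv : ∀ x ∈ P', aext α x ∈ P') :
    ∃ β ∈ F.autGroup P', (∀ x : P', ((β x : P') : Ω) = aext α (x : Ω)) ∧
      orderOf β ∣ orderOf α := by
  have hiso : IsIso F P P (aext α) := isIso_of_mem_autGroup F hPS hα
  obtain ⟨Q', -, hiso', hQ'mem⟩ := hiso.restrict hP'P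
  have hfin : Finite P' := finite_of_le S (hP'P.trans hPS)
  have hQ'le : Q' ≤ P' := by
    intro y hy
    obtain ⟨x, hx, rfl⟩ := (hQ'mem y).1 hy
    exact hinv x hx
  have hQ' : Q' = P' := Subgroup.eq_of_le_of_card_ge hQ'le (le_of_eq hiso'.card_eq)
  rw [hQ'] at hiso'
  obtain ⟨β, hβ, hβf⟩ := exists_mem_autGroup_of_isIso F hiso'
  refine ⟨β, hβ, hβf, ?_⟩
  have hpow : ∀ n : ℕ, ∀ x : P', (((β ^ n) x : P') : Ω) = aext (α ^ n) (x : Ω) := by
    intro n
    induction n with
    | zero =>
      intro x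
      rw [pow_zero, pow_zero, aext_apply _ (hP'P x.2)]
      rfl
    | succ n ih =>
      intro x
      rw [pow_succ', pow_succ', MulAut.mul_apply, hβf, ih, aext_mul _ _ (hP'P x.2)]
  apply orderOf_dvd_of_pow_eq_one
  ext x
  rw [hpow, pow_orderOf_eq_one, aext_apply _ (hP'P x.2)]
  rfl

/-- An automorphism in the system of order prime to `p` lies in `O^p(Aut_F(P))`. -/
theorem mem_pResidual_of_coprime {F : FusionSystem S} {p : ℕ} {P : Subgroup Ω} {β : MulAut P}
    (hβ : β ∈ F.autGroup P) (hcop : Nat.Coprime (orderOf β) p) :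
    (⟨β, hβ⟩ : F.autGroup P) ∈ pResidual p (F.autGroup P) := by
  apply Subgroup.subset_closure
  show Nat.Coprime (orderOf (⟨β, hβ⟩ : F.autGroup P)) p
  rwa [Subgroup.orderOf_mk]

/-- The order of a nontrivial small element is `p` or `4`. -/
theorem orderOf_small {G : Type*} [Group G] {p : ℕ} [hp : Fact p.Prime] {x : G} (hx1 : x ≠ 1)
    (hx : x ^ p = 1 ∨ (p = 2 ∧ x ^ 4 = 1)) : orderOf x = p ∨ orderOf x = 4 := by
  rcases hx with hx | ⟨hp2, hx⟩
  · left
    have hd := orderOf_dvd_of_pow_eq_one hx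
    rcases (Nat.dvd_prime hp.out).1 hd with h | h
    · exact absurd (orderOf_eq_one_iff.1 h) hx1
    · exact h
  · have hd := orderOf_dvd_of_pow_eq_one hx
    have h4 : (4 : ℕ) = 2 ^ 2 := by norm_num
    rw [h4] at hd
    obtain ⟨j, hj, hjo⟩ := (Nat.dvd_prime_pow Nat.prime_two).1 hd
    interval_cases j
    · exact absurd (orderOf_eq_one_iff.1 (by simpa using hjo)) hx1
    · left; rw [hp2]; simpa using hjo
    · right; simpa using hjo

/-- If the maps of the system between cyclic subgroups of order `p` or `4` of the hyperfocal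
subgroup are conjugations by elements of `S`, no automorphism group of the system has a nontrivial
element of order prime to `p`. -/
theorem eq_one_of_coprime_of_small_inner [Finite S] {p : ℕ} [Fact p.Prime] (hS : IsPGroup p S)
    (F : FusionSystem S)
    (h : ∀ A B : Subgroup Ω, A ≤ F.hyperfocalSubgroup p → B ≤ F.hyperfocalSubgroup p →
      IsCyclic A → (Nat.card A = p ∨ Nat.card A = 4) → IsCyclic B →
      (Nat.card B = p ∨ Nat.card B = 4) → F.homSet A B ⊆ (innerFusionSystem S).Hom A)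
    {P : Subgroup Ω} (hPS : P ≤ S) {α : MulAut P} (hα : α ∈ F.autGroup P)
    (hcop : Nat.Coprime (orderOf α) p) : α = 1 := by
  by_contra hne
  have hfinP : Finite P := finite_of_le S hPS
  have hPp : IsPGroup p P := hS.to_le hPS
  obtain ⟨P₁, hP₁inv, ⟨y₀, hy₀, hy₀ne⟩, hP₁small, hP₁gen⟩ :=
    exists_minimal_invariant hPp α hcop hne
  set P' : Subgroup Ω := P₁.map P.subtype with hP'
  have hP'P : P' ≤ P := by
    rintro _ ⟨z, -, rfl⟩
    exact z.2
  have hP'S : P' ≤ S := hP'P.trans hPS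
  have hfinP' : Finite P' := finite_of_le S hP'S
  have hmemP' : ∀ z : P, z ∈ P₁ → (z : Ω) ∈ P' := fun z hz => ⟨z, hz, rfl⟩
  have hinv : ∀ x ∈ P', aext α x ∈ P' := by
    rintro _ ⟨z, hz, rfl⟩
    show aext α (z : Ω) ∈ P'
    rw [aext_apply α z.2]
    exact hmemP' _ (hP₁inv z hz)
  obtain ⟨β, hβ, hβf, hβord⟩ := exists_restrict_of_invariant hPS hP'P hα hinv
  have hβcop : Nat.Coprime (orderOf β) p := Nat.Coprime.coprime_dvd_left hβord hcop
  have hβres := mem_pResidual_of_coprime hβ hβcop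
  -- `P' ≤ hyp(F)`
  have hP'hyp : P' ≤ F.hyperfocalSubgroup p := by
    rintro _ ⟨z, hz, rfl⟩
    have hz' := hP₁gen hz
    refine Subgroup.closure_induction
      (p := fun z _ => ((z : P) : Ω) ∈ F.hyperfocalSubgroup p) ?_ ?_ ?_ ?_ hz'
    · rintro _ ⟨w, hw, rfl⟩
      have hwP' : (w : Ω) ∈ P' := hmemP' w hw
      have := mem_hyperfocal_gen F p hP'S ⟨β, hβ⟩ hβres ⟨(w : Ω), hwP'⟩
      have hval : (((⟨β, hβ⟩ : F.autGroup P') : MulAut P') ⟨(w : Ω), hwP'⟩ : Ω) =
          ((α w : P) : Ω) := by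
        show ((β ⟨(w : Ω), hwP'⟩ : P') : Ω) = _
        rw [hβf, aext_apply α w.2]
      rw [hval] at this
      simpa using this
    · exact Subgroup.one_mem _
    · intro u v _ _ hu hv
      rw [Subgroup.coe_mul]
      exact Subgroup.mul_mem _ hu hv
    · intro u _ hu
      rw [Subgroup.coe_inv]
      exact Subgroup.inv_mem _ hu
  -- elements of `P'` are small
  have hsmall : ∀ x ∈ P', x ^ p = 1 ∨ (p = 2 ∧ x ^ 4 = 1) := by
    rintro _ ⟨z, hz, rfl⟩
    rcases hP₁small z hz with h1 | ⟨hp2, h1⟩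
    · left
      have := congrArg Subtype.val h1
      simpa using this
    · right
      refine ⟨hp2, ?_⟩
      have := congrArg Subtype.val h1
      simpa using this
  have hβhom : P'.subtype.comp β.toMonoidHom ∈ F.Hom P' := (mem_autGroup_iff F hP'S β).1 hβ
  -- the automorphism is a conjugation on each element
  have hconj : ∀ x ∈ P', ∃ s ∈ S, aext α x = s * x * s⁻¹ := by
    intro x hx
    by_cases hx1 : x = 1
    · refine ⟨1, S.one_mem, ?_⟩
      rw [hx1]
      have h1 : aext α 1 = ((α 1 : P) : Ω) := aext_apply α P.one_mem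
      rw [h1, map_one]
      simp
    have hAP' : Subgroup.zpowers x ≤ P' := Subgroup.zpowers_le.2 hx
    have hyP' : aext α x ∈ P' := hinv x hx
    have hφ := restrict_mem F hβhom hAP'
    have hφval : ∀ y : Subgroup.zpowers x,
        ((P'.subtype.comp β.toMonoidHom).comp (Subgroup.inclusion hAP')) y =
          aext α (y : Ω) := by
      intro y
      show ((β ⟨(y : Ω), hAP' y.2⟩ : P') : Ω) = _
      rw [hβf]
    have hxP : x ∈ P := hP'P hx
    have hφB : ∀ y : Subgroup.zpowers x,
        ((P'.subtype.comp β.toMonoidHom).comp (Subgroup.inclusion hAP')) y ∈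
          Subgroup.zpowers (aext α x) := by
      intro y
      rw [hφval]
      obtain ⟨k, hk⟩ := Subgroup.mem_zpowers_iff.1 y.2
      rw [← hk]
      have h1 : aext α (x ^ k) = (aext α x) ^ k := by
        rw [aext_apply α (P.zpow_mem hxP k), aext_apply α hxP]
        have : (⟨x ^ k, P.zpow_mem hxP k⟩ : P) = (⟨x, hxP⟩ : P) ^ k := rfl
        rw [this, map_zpow]
        rfl
      rw [h1]
      exact Subgroup.zpow_mem_zpowers _ k
    have hordx := orderOf_small hx1 (hsmall x hx)
    have hy1 : aext α x ≠ 1 := by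
      intro h1
      apply hx1
      rw [aext_apply α hxP] at h1
      have h2 : α ⟨x, hxP⟩ = 1 := Subtype.ext h1
      have h3 : (⟨x, hxP⟩ : P) = 1 := by
        rw [← map_one α] at h2
        exact α.injective h2
      exact congrArg Subtype.val h3
    have hordy := orderOf_small hy1 (hsmall _ hyP')
    have hmem := h (Subgroup.zpowers x) (Subgroup.zpowers (aext α x))
      (hAP'.trans hP'hyp) ((Subgroup.zpowers_le.2 hyP').trans hP'hyp) inferInstance
      (by rw [Nat.card_zpowers]; exact hordx) inferInstance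
      (by rw [Nat.card_zpowers]; exact hordy) ⟨hφ, hφB⟩
    obtain ⟨-, s, hs, hsφ⟩ := hmem
    refine ⟨s, hs, ?_⟩
    have := hsφ ⟨x, Subgroup.mem_zpowers x⟩
    rw [hφval] at this
    exact this
  -- the upper central series argument
  have hchain : ∀ i : ℕ, ∀ x ∈ P', x ∈ (Subgroup.upperCentralSeries S i).map S.subtype →
      aext α x = x := by
    intro i
    induction i with
    | zero =>
      intro x hx hxZ
      rw [Subgroup.upperCentralSeries_zero, Subgroup.map_bot, Subgroup.mem_bot] at hxZ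
      rw [hxZ, aext_apply α P.one_mem]
      have h1 : (⟨1, P.one_mem⟩ : P) = 1 := rfl
      rw [h1, map_one]
      rfl
    | succ i ih =>
      intro x hx hxZ
      obtain ⟨s, hs, hsx⟩ := hconj x hx
      have hxP : x ∈ P := hP'P hx
      obtain ⟨x₀, hx₀, rfl⟩ := hxZ
      have hsx' : aext α (x₀ : Ω) = s * (x₀ : Ω) * s⁻¹ := hsx
      have hx' : (x₀ : Ω) ∈ P' := hx
      have hc : (x₀ : Ω)⁻¹ * aext α (x₀ : Ω) ∈ (Subgroup.upperCentralSeries S i).map S.subtype := by
        rw [hsx']
        have h1 := (Subgroup.mem_upperCentralSeries_succ_iff).1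
          ((Subgroup.upperCentralSeries S (i + 1)).inv_mem hx₀) ⟨s, hs⟩
        refine ⟨_, h1, ?_⟩
        rw [commutatorElement_def]
        simp [mul_assoc]
      have hcP' : (x₀ : Ω)⁻¹ * aext α (x₀ : Ω) ∈ P' := P'.mul_mem (P'.inv_mem hx') (hinv _ hx')
      have hcfix := ih _ hcP' hc
      -- apply the coprime lemma inside `P'`
      have key := fix_of_fixes_comm β hβcop ⟨(x₀ : Ω), hx'⟩
        (by
          obtain ⟨k, hk⟩ := (hS.to_le hP'S) (⟨(x₀ : Ω), hx'⟩⁻¹ * β ⟨(x₀ : Ω), hx'⟩)
          exact ⟨k, hk⟩)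
        (by
          apply Subtype.ext
          rw [hβf]
          have : ((⟨(x₀ : Ω), hx'⟩⁻¹ * β ⟨(x₀ : Ω), hx'⟩ : P') : Ω) =
              (x₀ : Ω)⁻¹ * aext α (x₀ : Ω) := by
            rw [Subgroup.coe_mul, Subgroup.coe_inv, hβf]
          rw [this]
          exact hcfix)
      have := congrArg Subtype.val key
      rw [hβf] at this
      exact this
  -- nilpotency of `S`
  have hnil : Group.IsNilpotent S := hS.isNilpotent
  obtain ⟨n, hn⟩ := hnil.nilpotent
  apply hy₀ne
  have hy₀P' : (y₀ : Ω) ∈ P' := hmemP' y₀ hy₀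
  have hZ : (y₀ : Ω) ∈ (Subgroup.upperCentralSeries S n).map S.subtype := by
    refine ⟨⟨(y₀ : Ω), hPS y₀.2⟩, ?_, rfl⟩
    rw [hn]
    exact Subgroup.mem_top _
  have := hchain n _ hy₀P' hZ
  rw [aext_apply α y₀.2] at this
  exact Subtype.ext this

end Cfsg.Agent.Lib.H26
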