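import Mathlib
import Cfsg.Prelude.Def_FusionSystem
import Cfsg.Agent.Lib.H25.Fusion
import Cfsg.Agent.Lib.H25.Normal
import Cfsg.Agent.Lib.H26.SmallExponent
import Cfsg.Agent.Lib.H26.SmallCyclic
import Cfsg.Agent.Lib.H26.EssentialAut

set_option autoImplicit false

/-!
Cyclic subgroups of order `p` or `4` of the focal subgroup that are normal in `S` (helper26).
-/

namespace Cfsg.Agent.Lib.H26

open Cfsg Cfsg.FusionSystem Cfsg.Agent.Lib.H25

/-- A subgroup all of whose elements of order prime to `p` are trivial is a `p`-group. -/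
theorem isPGroup_of_coprime_trivial {G : Type*} [Group G] [Finite G] {p : ℕ} [hp : Fact p.Prime]
    (N : Subgroup G) (h : ∀ γ ∈ N, Nat.Coprime (orderOf γ) p → γ = 1) : IsPGroup p N := by
  intro g
  have hpp : p.Prime := hp.out
  have hpos : orderOf g ≠ 0 := (orderOf_pos g).ne'
  obtain ⟨k, m, hm, hkm⟩ := Nat.exists_eq_pow_mul_and_not_dvd hpos p hpp.ne_one
  refine ⟨k, ?_⟩
  have hord : orderOf (g ^ (p ^ k)) = m := by
    rw [orderOf_pow' g (pow_ne_zero k hpp.ne_zero), hkm, Nat.gcd_eq_right (Dvd.intro _ rfl)]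
    exact Nat.mul_div_cancel_left m (pow_pos hpp.pos k)
  have hcop : Nat.Coprime (orderOf ((g ^ (p ^ k) : N) : G)) p := by
    rw [Subgroup.orderOf_coe, hord]
    exact (Nat.Coprime.symm ((Nat.Prime.coprime_iff_not_dvd hpp).2 hm))
  exact Subtype.ext (h _ (g ^ (p ^ k) : N).2 hcop)

/-- An element of `p`-power order normalizing a cyclic group of order `p` centralizes it. -/
theorem conj_eq_of_pow_prime {Ω : Type*} [Group Ω] {p : ℕ} [hp : Fact p.Prime] {s x : Ω}
    (hs : ∃ j : ℕ, s ^ (p ^ j) = 1) (hx : x ^ p = 1)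
    (h : s * x * s⁻¹ ∈ Subgroup.zpowers x) : s * x * s⁻¹ = x := by
  by_cases hx1 : x = 1
  · rw [hx1]; simp
  obtain ⟨k, hk⟩ := Subgroup.mem_zpowers_iff.1 h
  have hpow : ∀ m : ℕ, s ^ m * x * (s ^ m)⁻¹ = x ^ (k ^ m) := by
    intro m
    induction m with
    | zero => simp
    | succ m ih =>
      have h1 : s ^ (m + 1) * x * (s ^ (m + 1))⁻¹ = s * (s ^ m * x * (s ^ m)⁻¹) * s⁻¹ := by
        rw [pow_succ']; group
      rw [h1, ih, ← conj_zpow, ← hk, ← zpow_mul, pow_succ']
  obtain ⟨j, hj⟩ := hs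
  have h0 := hpow (p ^ j)
  rw [hj] at h0
  simp only [one_mul, inv_one, mul_one] at h0
  have hord : orderOf x = p := orderOf_eq_prime hx hx1
  have h1 : x ^ (k ^ (p ^ j) - 1) = 1 := by
    rw [zpow_sub, zpow_one, ← h0, mul_inv_cancel]
  have h2 : (p : ℤ) ∣ k ^ (p ^ j) - 1 := by
    have := orderOf_dvd_iff_zpow_eq_one.2 h1
    rwa [hord] at this
  have h3 : (k : ZMod p) = 1 := by
    have h4 : ((k ^ (p ^ j) - 1 : ℤ) : ZMod p) = 0 := (ZMod.intCast_zmod_eq_zero_iff_dvd _ p).2 h2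
    push_cast at h4
    rw [ZMod.pow_card_pow] at h4
    exact sub_eq_zero.1 h4
  have h4 : (p : ℤ) ∣ k - 1 := by
    rw [← ZMod.intCast_zmod_eq_zero_iff_dvd]
    push_cast
    rw [h3, sub_self]
  have h5 : x ^ (k - 1) = 1 := by
    rw [← hord] at h4
    exact orderOf_dvd_iff_zpow_eq_one.1 h4
  calc s * x * s⁻¹ = x ^ k := hk.symm
    _ = x ^ ((k - 1) + 1) := by rw [sub_add_cancel]
    _ = x := by rw [zpow_add, h5, zpow_one, one_mul]

/-- An element of `p`-power order normalizing a cyclic group of order `p` (or `4`, when `p = 2`)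
centralizes or (when `p = 2`) inverts its generator. -/
theorem conj_small {Ω : Type*} [Group Ω] {p : ℕ} [hp : Fact p.Prime] {s x : Ω}
    (hs : ∃ j : ℕ, s ^ (p ^ j) = 1) (hx : x ^ p = 1 ∨ (p = 2 ∧ x ^ 4 = 1))
    (h : s * x * s⁻¹ ∈ Subgroup.zpowers x) :
    s * x * s⁻¹ = x ∨ (p = 2 ∧ s * x * s⁻¹ = x⁻¹) := by
  rcases hx with hx | ⟨hp2, hx4⟩
  · exact Or.inl (conj_eq_of_pow_prime hs hx h)
  by_cases hx2 : x ^ 2 = 1
  · exact Or.inl (conj_eq_of_pow_prime hs (by rw [hp2]; exact hx2) h)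
  obtain ⟨k, hk⟩ := Subgroup.mem_zpowers_iff.1 h
  have hx4' : x ^ (4 : ℤ) = 1 := by
    have : x ^ ((4 : ℕ) : ℤ) = 1 := by rw [zpow_natCast]; exact hx4
    simpa using this
  have hk' : x ^ (k % 4) = s * x * s⁻¹ := by
    rw [← hk]
    conv_rhs => rw [← Int.mul_ediv_add_emod k 4]
    rw [zpow_add, zpow_mul, hx4', one_zpow, one_mul]
  have h0 : 0 ≤ k % 4 := Int.emod_nonneg _ (by norm_num)
  have h4 : k % 4 < 4 := Int.emod_lt_of_pos _ (by norm_num)
  have hconj1 : ∀ y : Ω, s * y * s⁻¹ = 1 → y = 1 := by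
    intro y hy
    have : y = s⁻¹ * (s * y * s⁻¹) * s := by group
    rw [this, hy]; group
  interval_cases hr : k % 4
  · exfalso
    rw [zpow_zero] at hk'
    have := hconj1 x hk'.symm
    apply hx2
    rw [this, one_pow]
  · left
    rw [← hk', zpow_one]
  · exfalso
    apply hx2
    apply hconj1
    have h5 : s * x ^ 2 * s⁻¹ = (s * x * s⁻¹) ^ 2 := by rw [conj_pow]
    rw [h5, ← hk']
    have : (x ^ (2 : ℤ)) ^ 2 = x ^ (4 : ℤ) := by
      rw [← zpow_natCast, ← zpow_mul]; norm_num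
    rw [this, hx4']
  · right
    refine ⟨hp2, ?_⟩
    rw [← hk']
    have : x ^ (3 : ℤ) * x = 1 := by
      have h5 : x ^ (3 : ℤ) * x = x ^ (4 : ℤ) := by
        have : (4 : ℤ) = 3 + 1 := by norm_num
        rw [this, zpow_add, zpow_one]
      rw [h5, hx4']
    exact eq_inv_of_mul_eq_one_left this

variable {Ω : Type*} [Group Ω] {S : Subgroup Ω}

/-- If every cyclic subgroup of the focal subgroup of order `p` (or `4`, when `p = 2`) is normal in
`S`, the saturated system has no essential subgroups. -/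
theorem not_essential_of_small_focal_normal [Finite S] {p : ℕ} [Fact p.Prime]
    (hS : IsPGroup p S) {F : FusionSystem S} (hF : F.IsSaturated p)
    (hnorm : ∀ x ∈ F.focalSubgroup, (x ^ p = 1 ∨ (p = 2 ∧ x ^ 4 = 1)) →
      ∀ s ∈ S, s * x * s⁻¹ ∈ Subgroup.zpowers x)
    {R : Subgroup Ω} (hess : F.IsEssential p R) : False := by
  have hRS : R ≤ S := hess.1.1
  have hfinR : Finite R := finite_of_le S hRS
  have hRp : IsPGroup p R := hS.to_le hRS
  -- the relevant elements of `R`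
  let X : R → Prop := fun x =>
    (x : Ω) ∈ F.focalSubgroup ∧ ((x : Ω) ^ p = 1 ∨ (p = 2 ∧ (x : Ω) ^ 4 = 1))
  have hcomm_mem : ∀ γ ∈ F.autGroup R, ∀ x : R,
      (x : Ω)⁻¹ * ((γ x : R) : Ω) ∈ F.focalSubgroup := by
    intro γ hγ x
    apply Subgroup.subset_closure
    exact ⟨R, R.subtype.comp γ.toMonoidHom, x, (mem_autGroup_iff F hRS γ).1 hγ, rfl⟩
  have hfocinv : ∀ γ ∈ F.autGroup R, ∀ x : R, (x : Ω) ∈ F.focalSubgroup →
      ((γ x : R) : Ω) ∈ F.focalSubgroup := by
    intro γ hγ x hx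
    have h1 := Subgroup.mul_mem _ hx (hcomm_mem γ hγ x)
    simpa using h1
  have hXinv : ∀ γ ∈ F.autGroup R, ∀ x : R, X x → X (γ x) := by
    rintro γ hγ x ⟨hx1, hx2⟩
    refine ⟨hfocinv γ hγ x hx1, ?_⟩
    rcases hx2 with hx2 | ⟨hp2, hx2⟩
    · left
      have h1 : x ^ p = 1 := Subtype.ext (by simpa using hx2)
      have h2 : (γ x) ^ p = 1 := by rw [← map_pow, h1, map_one]
      have := congrArg Subtype.val h2
      simpa using this
    · right
      refine ⟨hp2, ?_⟩
      have h1 : x ^ 4 = 1 := Subtype.ext (by simpa using hx2)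
      have h2 : (γ x) ^ 4 = 1 := by rw [← map_pow, h1, map_one]
      have := congrArg Subtype.val h2
      simpa using this
  let N₁ : Subgroup (MulAut R) :=
    { carrier := {γ | γ ∈ F.autGroup R ∧ ∀ x : R, X x → (γ x = x ∨ (p = 2 ∧ γ x = x⁻¹))}
      one_mem' := ⟨Subgroup.one_mem _, fun x _ => Or.inl rfl⟩
      mul_mem' := by
        rintro γ' γ ⟨hγ', h'⟩ ⟨hγ, h⟩
        refine ⟨Subgroup.mul_mem _ hγ' hγ, fun x hx => ?_⟩
        show γ' (γ x) = x ∨ (p = 2 ∧ γ' (γ x) = x⁻¹)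
        rcases h x hx with h1 | ⟨hp2, h1⟩
        · rw [h1]; exact h' x hx
        · rw [h1, map_inv]
          rcases h' x hx with h2 | ⟨-, h2⟩
          · rw [h2]; exact Or.inr ⟨hp2, rfl⟩
          · rw [h2, inv_inv]; exact Or.inl rfl
      inv_mem' := by
        rintro γ ⟨hγ, h⟩
        refine ⟨Subgroup.inv_mem _ hγ, fun x hx => ?_⟩
        rcases h x hx with h1 | ⟨hp2, h1⟩
        · left
          conv_lhs => rw [← h1]
          simp
        · right
          refine ⟨hp2, ?_⟩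
          have h2 : γ x⁻¹ = x := by rw [map_inv, h1, inv_inv]
          conv_lhs => rw [← h2]
          simp }
  have hN₁mem : ∀ γ, γ ∈ N₁ ↔ γ ∈ F.autGroup R ∧
      ∀ x : R, X x → (γ x = x ∨ (p = 2 ∧ γ x = x⁻¹)) := fun γ => Iff.rfl
  have hN₁G : N₁ ≤ F.autGroup R := fun γ hγ => hγ.1
  have hN₁norm : ∀ α ∈ F.autGroup R, ∀ γ ∈ N₁, α * γ * α⁻¹ ∈ N₁ := by
    rintro α hα γ ⟨hγ, h⟩
    have hα' : α⁻¹ ∈ F.autGroup R := Subgroup.inv_mem _ hα
    refine ⟨Subgroup.mul_mem _ (Subgroup.mul_mem _ hα hγ) hα', fun x hx => ?_⟩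
    show α (γ (α⁻¹ x)) = x ∨ (p = 2 ∧ α (γ (α⁻¹ x)) = x⁻¹)
    rcases h (α⁻¹ x) (hXinv α⁻¹ hα' x hx) with h1 | ⟨hp2, h1⟩
    · left; rw [h1]; simp
    · right
      refine ⟨hp2, ?_⟩
      rw [h1, map_inv]; simp
  have hTN₁ : autInducedBy S R ≤ N₁ := by
    intro τ hτ
    obtain ⟨s, hs, hτs⟩ := (mem_autInducedBy_iff S R τ).1 hτ
    refine ⟨autInducedBy_le_autGroup F hRS hτ, fun x hx => ?_⟩
    have hsp : ∃ j : ℕ, s ^ (p ^ j) = 1 := by
      obtain ⟨j, hj⟩ := hS ⟨s, hs⟩
      refine ⟨j, ?_⟩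
      have := congrArg Subtype.val hj
      simpa using this
    rcases conj_small hsp hx.2 (hnorm _ hx.1 hx.2 s hs) with h1 | ⟨hp2, h1⟩
    · left
      apply Subtype.ext
      rw [hτs, h1]
    · right
      refine ⟨hp2, ?_⟩
      apply Subtype.ext
      rw [hτs, h1]
      rfl
  -- elements of `N₁` of order prime to `p` are trivial
  have hcoprime : ∀ γ ∈ N₁, Nat.Coprime (orderOf γ) p → γ = 1 := by
    rintro γ ⟨hγ, h⟩ hcop
    have hfixX : ∀ x : R, X x → γ x = x := by
      intro x hx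
      rcases h x hx with h1 | ⟨hp2, h1⟩
      · exact h1
      · -- `γ` inverts `x` and has odd order
        have hsq : ∀ l : ℕ, ((γ ^ 2) ^ l) x = x := by
          intro l
          induction l with
          | zero => simp
          | succ l ih =>
            rw [pow_succ, MulAut.mul_apply]
            have : (γ ^ 2) x = x := by
              rw [pow_two, MulAut.mul_apply, h1, map_inv, h1, inv_inv]
            rw [this, ih]
        have hodd : Odd (orderOf γ) := by
          rw [hp2] at hcop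
          exact Nat.Coprime.odd_of_right hcop
        obtain ⟨l, hl⟩ := hodd
        have h2 : (γ ^ orderOf γ) x = x := by rw [pow_orderOf_eq_one]; rfl
        rw [hl, pow_succ, pow_mul, MulAut.mul_apply, h1] at h2
        have h3 : ((γ ^ 2) ^ l) x⁻¹ = x⁻¹ := by rw [map_inv, hsq l]
        rw [h3] at h2
        rw [h1, h2]
    -- the focal part of `R`
    let R₀ : Subgroup R := F.focalSubgroup.subgroupOf R
    have hR₀inv : ∀ x ∈ R₀, γ x ∈ R₀ := by
      intro x hx
      exact Subgroup.mem_subgroupOf.2 (hfocinv γ hγ x (Subgroup.mem_subgroupOf.1 hx))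
    have hγ₀ : restrictAut γ R₀ hR₀inv = 1 := by
      apply aut_eq_one_of_fix_small (hRp.to_subgroup R₀)
      · exact Nat.Coprime.coprime_dvd_left (orderOf_restrictAut_dvd γ R₀ hR₀inv) hcop
      · intro y hy
        apply Subtype.ext
        rw [restrictAut_apply]
        apply hfixX
        refine ⟨Subgroup.mem_subgroupOf.1 y.2, ?_⟩
        rcases hy with hy | ⟨hp2, hy⟩
        · left
          have := congrArg Subtype.val (congrArg Subtype.val hy)
          simpa using this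
        · right
          refine ⟨hp2, ?_⟩
          have := congrArg Subtype.val (congrArg Subtype.val hy)
          simpa using this
    have hfixR₀ : ∀ x ∈ R₀, γ x = x := by
      intro x hx
      have h5 : ((restrictAut γ R₀ hR₀inv ⟨x, hx⟩ : R₀) : R) = γ x := rfl
      rw [hγ₀] at h5
      exact h5.symm
    ext x
    rw [MulAut.one_apply]
    have key := fix_of_fixes_comm γ hcop x
      (by obtain ⟨k, hk⟩ := hRp (x⁻¹ * γ x); exact ⟨k, hk⟩)
      (by
        apply hfixR₀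
        apply Subgroup.mem_subgroupOf.2
        have := hcomm_mem γ hγ x
        simpa using this)
    rw [key]
  have hN₁p : IsPGroup p N₁ := isPGroup_of_coprime_trivial N₁ hcoprime
  exact not_essential_of_normal_pgroup hS hF hess N₁ hN₁G hN₁norm hN₁p hTN₁

end Cfsg.Agent.Lib.H26
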