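import Mathlib
import Cfsg.Prelude.Def_LieRecognition
import Cfsg.Agent.Lib.H24.SuzukiTwo

set_option autoImplicit false
set_option linter.style.haveILetI false

/-!
Suzuki 2-groups (helper26): the standing hypotheses after Higman's lemma (S1137), and the
finite field of characteristic two carried by the centre, on which the regular cyclic group `K`
acts as the multiplicative group.
-/

namespace Cfsg.Agent.Lib.H26.Sz

open scoped IsMulCommutative

universe u

variable {P : Type u} [Group P]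

/-- Standing hypotheses: a Suzuki 2-group with its regular cyclic group, after Higman's lemma. -/
structure Hyp (K : Subgroup (MulAut P)) : Prop where
  fin : Finite P
  two : IsPGroup 2 P
  hZ : ∀ x : P, x * x = 1 ↔ x ∈ Subgroup.center P
  reg : ∀ x y : P, x ≠ 1 → x * x = 1 → y ≠ 1 → y * y = 1 → ∃! k : K, (k : MulAut P) x = y
  comm : ∀ k k' : K, k * k' = k' * k
  inv2 : ∃ x y : P, x ≠ y ∧ x ≠ 1 ∧ x * x = 1 ∧ y ≠ 1 ∧ y * y = 1
  nonab : ∃ x y : P, x * y ≠ y * x

theorem hyp_of_suzuki (hP : Cfsg.IsSuzukiTwoGroup P) : ∃ K : Subgroup (MulAut P), Hyp K := by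
  have hS := Cfsg.Agent.Lib.H24.SuzukiTwo.suzuki_center hP
  obtain ⟨hfin, h2, hnc, hinv2, K, hKc, hreg⟩ := hP
  refine ⟨K, hfin, h2, ?_, hreg, ?_, hinv2, hnc⟩
  · intro x
    constructor
    · intro hx
      by_cases hx1 : x = 1
      · rw [hx1]; exact Subgroup.one_mem _
      · exact ((hS.1 x).1 ⟨hx1, hx⟩).1
    · intro hx
      exact hS.2 x hx
  · intro k k'
    letI : CommGroup K := IsCyclic.commGroup
    exact mul_comm k k'

/-- the centre, written additively -/
abbrev ZA (P : Type u) [Group P] := Additive (Subgroup.center P)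

/-- action of an automorphism on the centre, additively -/
def actZ (e : MulAut P) : AddMonoid.End (ZA P) :=
  MonoidHom.toAdditive (Subgroup.centerCongr e).toMonoidHom

theorem actZ_apply (e : MulAut P) (a : ZA P) :
    (((actZ e a).toMul : Subgroup.center P) : P) = e ((a.toMul : Subgroup.center P) : P) := rfl

theorem actZ_mul (e e' : MulAut P) : actZ (e * e') = actZ e * actZ e' := by
  ext a
  rfl

theorem actZ_one : actZ (1 : MulAut P) = 1 := by
  ext a
  rfl

theorem ZA_ext {a b : ZA P} (hab : ((a.toMul : Subgroup.center P) : P) = (b.toMul : Subgroup.center P)) :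
    a = b := Additive.toMul.injective (Subtype.ext hab)

theorem ZA_add_val (a b : ZA P) : (((a + b).toMul : Subgroup.center P) : P) =
    ((a.toMul : Subgroup.center P) : P) * ((b.toMul : Subgroup.center P) : P) := rfl

theorem ZA_zero_val : ((((0 : ZA P)).toMul : Subgroup.center P) : P) = 1 := rfl

variable {K : Subgroup (MulAut P)}

namespace Hyp

variable (h : Hyp K)
include h

theorem mem_center_of_aut (e : MulAut P) {x : P} (hx : x ∈ Subgroup.center P) :
    e x ∈ Subgroup.center P := by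
  rw [← h.hZ] at hx ⊢
  rw [← map_mul, hx, map_one]

theorem sq_of_mem {x : P} (hx : x ∈ Subgroup.center P) : x * x = 1 := (h.hZ x).2 hx

theorem inv_of_mem {x : P} (hx : x ∈ Subgroup.center P) : x⁻¹ = x :=
  inv_eq_of_mul_eq_one_left (h.sq_of_mem hx)

theorem k_inj {k k' : K} {x : P} (hx : x ∈ Subgroup.center P) (hx1 : x ≠ 1)
    (hk : (k : MulAut P) x = (k' : MulAut P) x) : k = k' := by
  have h2 : (k : MulAut P) x ≠ 1 := fun h0 => hx1 (by simpa using h0)
  have h3 := h.sq_of_mem (h.mem_center_of_aut k hx)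
  exact (h.reg x _ hx1 (h.sq_of_mem hx) h2 h3).unique rfl hk.symm

theorem k_trans {x y : P} (hx : x ∈ Subgroup.center P) (hx1 : x ≠ 1)
    (hy : y ∈ Subgroup.center P) (hy1 : y ≠ 1) : ∃ k : K, (k : MulAut P) x = y :=
  (h.reg x y hx1 (h.sq_of_mem hx) hy1 (h.sq_of_mem hy)).exists

theorem k_comm (k k' : K) (x : P) :
    (k : MulAut P) ((k' : MulAut P) x) = (k' : MulAut P) ((k : MulAut P) x) := by
  have := h.comm k k'
  have h2 : ((k * k' : K) : MulAut P) x = ((k' * k : K) : MulAut P) x := by rw [this]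
  simpa using h2

/-- F1: the sum of two distinct elements of `K` on the centre is again in `K`. -/
theorem exists_add {k k' : K} (hkk' : k ≠ k') :
    ∃ k'' : K, ∀ a ∈ Subgroup.center P, (k : MulAut P) a * (k' : MulAut P) a = (k'' : MulAut P) a := by
  obtain ⟨z₁, _, _, hz₁, hz₁', _, _⟩ := h.inv2
  have hz₁c : z₁ ∈ Subgroup.center P := (h.hZ z₁).1 hz₁'
  have hwc : (k : MulAut P) z₁ * (k' : MulAut P) z₁ ∈ Subgroup.center P :=
    Subgroup.mul_mem _ (h.mem_center_of_aut k hz₁c) (h.mem_center_of_aut k' hz₁c)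
  have hw1 : (k : MulAut P) z₁ * (k' : MulAut P) z₁ ≠ 1 := by
    intro h0
    apply hkk'
    apply h.k_inj hz₁c hz₁
    rw [eq_inv_of_mul_eq_one_left h0, h.inv_of_mem (h.mem_center_of_aut k' hz₁c)]
  obtain ⟨k'', hk''⟩ := h.k_trans hz₁c hz₁ hwc hw1
  refine ⟨k'', fun a ha => ?_⟩
  by_cases ha1 : a = 1
  · rw [ha1]; simp
  obtain ⟨m, rfl⟩ := h.k_trans hz₁c hz₁ ha ha1
  rw [h.k_comm k m, h.k_comm k' m, h.k_comm k'' m, ← map_mul, hk'']

theorem ZA_add_self (a : ZA P) : a + a = 0 := by
  apply ZA_ext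
  rw [ZA_add_val, ZA_zero_val]
  exact h.sq_of_mem (a.toMul).2

theorem actZ_ne_zero (k : K) : actZ (k : MulAut P) ≠ 0 := by
  obtain ⟨z₁, _, _, hz₁, hz₁', _, _⟩ := h.inv2
  have hz₁c : z₁ ∈ Subgroup.center P := (h.hZ z₁).1 hz₁'
  intro h0
  have := DFunLike.congr_fun h0 (Additive.ofMul ⟨z₁, hz₁c⟩)
  have h2 := congrArg (fun a : ZA P => ((a.toMul : Subgroup.center P) : P)) this
  simp only [actZ_apply] at h2
  change (k : MulAut P) z₁ = 1 at h2
  exact hz₁ (by simpa using h2)

/-- the field, as a subring of the endomorphism ring of the centre -/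
def fieldRing : Subring (AddMonoid.End (ZA P)) where
  carrier := {f | f = 0 ∨ ∃ k : K, f = actZ (k : MulAut P)}
  mul_mem' := by
    rintro f g (rfl | ⟨k, rfl⟩) (rfl | ⟨k', rfl⟩)
    · left; simp
    · left; simp
    · left; simp
    · right; exact ⟨k * k', by rw [Subgroup.coe_mul, actZ_mul]⟩
  one_mem' := Or.inr ⟨1, by rw [Subgroup.coe_one, actZ_one]⟩
  add_mem' := by
    rintro f g (rfl | ⟨k, rfl⟩) (rfl | ⟨k', rfl⟩)
    · left; simp
    · right; exact ⟨k', by simp⟩
    · right; exact ⟨k, by simp⟩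
    · by_cases hkk' : k = k'
      · left
        subst hkk'
        refine AddMonoidHom.ext (fun a => ?_)
        exact h.ZA_add_self _
      · right
        obtain ⟨k'', hk''⟩ := h.exists_add hkk'
        refine ⟨k'', ?_⟩
        refine AddMonoidHom.ext (fun a => ?_)
        apply ZA_ext
        exact hk'' _ (a.toMul).2
  zero_mem' := Or.inl rfl
  neg_mem' := by
    intro f hf
    have : -f = f := by
      refine AddMonoidHom.ext (fun a => ?_)
      show -(f a) = f a
      exact neg_eq_of_add_eq_zero_left (h.ZA_add_self _)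
    rw [this]
    exact hf

theorem mem_fieldRing (f : AddMonoid.End (ZA P)) :
    f ∈ h.fieldRing ↔ f = 0 ∨ ∃ k : K, f = actZ (k : MulAut P) := Iff.rfl

theorem fieldRing_mul_comm (a b : h.fieldRing) : a * b = b * a := by
  obtain ⟨f, hf⟩ := a
  obtain ⟨g, hg⟩ := b
  apply Subtype.ext
  show f * g = g * f
  rcases hf with rfl | ⟨k, rfl⟩
  · simp
  rcases hg with rfl | ⟨k', rfl⟩
  · simp
  rw [← actZ_mul, ← actZ_mul, ← Subgroup.coe_mul, ← Subgroup.coe_mul, h.comm]

/-- the commutative ring structure -/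
@[reducible] def fieldCommRing : CommRing h.fieldRing :=
  { (inferInstance : Ring h.fieldRing) with mul_comm := h.fieldRing_mul_comm }

theorem fieldRing_isDomain : @IsDomain h.fieldRing h.fieldCommRing.toSemiring := by
  letI := h.fieldCommRing
  haveI : Nontrivial h.fieldRing := by
    refine ⟨⟨0, 1, ?_⟩⟩
    intro h0
    have := congrArg Subtype.val h0
    have h1 : (1 : AddMonoid.End (ZA P)) = actZ ((1 : K) : MulAut P) := by
      rw [Subgroup.coe_one, actZ_one]
    exact h.actZ_ne_zero 1 (h1 ▸ this.symm)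
  haveI : NoZeroDivisors h.fieldRing := by
    refine ⟨?_⟩
    rintro ⟨f, hf⟩ ⟨g, hg⟩ hfg
    have hfg' : f * g = 0 := congrArg Subtype.val hfg
    rcases hf with rfl | ⟨k, rfl⟩
    · left; rfl
    rcases hg with rfl | ⟨k', rfl⟩
    · right; rfl
    exfalso
    rw [← actZ_mul, ← Subgroup.coe_mul] at hfg'
    exact h.actZ_ne_zero _ hfg'
  exact NoZeroDivisors.to_isDomain _

theorem fieldRing_finite : Finite h.fieldRing := by
  haveI := h.fin
  haveI : Finite (AddMonoid.End (ZA P)) := by
    show Finite (ZA P →+ ZA P)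
    exact Finite.of_injective (fun f : ZA P →+ ZA P => (f : ZA P → ZA P)) DFunLike.coe_injective
  infer_instance

/-- evaluation at a base point -/
def ev (z₁ : ZA P) (r : h.fieldRing) : ZA P := r.1 z₁

theorem ev_add (z₁ : ZA P) (r s : h.fieldRing) : h.ev z₁ (r + s) = h.ev z₁ r + h.ev z₁ s := rfl

theorem ev_zero (z₁ : ZA P) : h.ev z₁ 0 = 0 := rfl

theorem ev_mul (z₁ : ZA P) (r s : h.fieldRing) : h.ev z₁ (r * s) = r.1 (h.ev z₁ s) := rfl

theorem ev_eq_zero {z₁ : ZA P} (hz₁ : z₁ ≠ 0) {r : h.fieldRing} (hr : h.ev z₁ r = 0) : r = 0 := by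
  obtain ⟨f, hf⟩ := r
  rcases hf with rfl | ⟨k, rfl⟩
  · rfl
  exfalso
  apply hz₁
  have h1 : actZ (k : MulAut P) z₁ = 0 := hr
  apply ZA_ext
  have h2 := congrArg (fun a : ZA P => ((a.toMul : Subgroup.center P) : P)) h1
  simp only [actZ_apply] at h2
  change (k : MulAut P) _ = 1 at h2
  rw [ZA_zero_val]
  simpa using h2

theorem ev_bijective {z₁ : ZA P} (hz₁ : z₁ ≠ 0) : Function.Bijective (h.ev z₁) := by
  constructor
  · intro r s hrs
    have : h.ev z₁ (r - s) = 0 := by
      have e : r = (r - s) + s := by abel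
      have := h.ev_add z₁ (r - s) s
      rw [← e, hrs] at this
      exact (add_eq_right.1 this.symm)
    exact sub_eq_zero.1 (h.ev_eq_zero hz₁ this)
  · intro a
    by_cases ha : a = 0
    · exact ⟨0, by rw [ha]; rfl⟩
    have hz₁' : ((z₁.toMul : Subgroup.center P) : P) ≠ 1 := by
      intro h0
      apply hz₁
      apply ZA_ext
      rw [h0]; rfl
    have ha' : ((a.toMul : Subgroup.center P) : P) ≠ 1 := by
      intro h0
      apply ha
      apply ZA_ext
      rw [h0]; rfl
    obtain ⟨k, hk⟩ := h.k_trans (z₁.toMul).2 hz₁' (a.toMul).2 ha'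
    refine ⟨⟨actZ (k : MulAut P), Or.inr ⟨k, rfl⟩⟩, ?_⟩
    apply ZA_ext
    exact hk

/-- The field attached to a Suzuki 2-group: the centre becomes (the additive group of) a finite
field of characteristic two on which `K` acts as the multiplicative group. -/
theorem exists_field : ∃ (F : Type u) (_ : Field F) (_ : Fintype F) (_ : CharP F 2) (zv : P → F)
    (κ : K → F),
    (∀ a b, a ∈ Subgroup.center P → b ∈ Subgroup.center P → zv (a * b) = zv a + zv b) ∧
    (∀ a ∈ Subgroup.center P, zv a = 0 → a = 1) ∧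
    (∀ u : F, ∃ a ∈ Subgroup.center P, zv a = u) ∧
    (∀ k k', κ (k * k') = κ k * κ k') ∧ (∀ k, κ k ≠ 0) ∧ (∀ u : F, u ≠ 0 → ∃ k, κ k = u) ∧
    (κ 1 = 1) ∧ (∀ k, κ k = 1 → k = 1) ∧
    (∀ k : K, ∀ a ∈ Subgroup.center P, zv ((k : MulAut P) a) = κ k * zv a) := by
  classical
  obtain ⟨z₁, _, _, hz₁, hz₁', _, _⟩ := h.inv2
  have hz₁c : z₁ ∈ Subgroup.center P := (h.hZ z₁).1 hz₁'
  set z : ZA P := Additive.ofMul ⟨z₁, hz₁c⟩ with hz
  have hz0 : z ≠ 0 := by
    intro h0
    have := congrArg (fun a : ZA P => ((a.toMul : Subgroup.center P) : P)) h0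
    exact hz₁ this
  letI := h.fieldCommRing
  haveI := h.fieldRing_isDomain
  haveI := h.fieldRing_finite
  letI : Fintype h.fieldRing := Fintype.ofFinite _
  letI fld : Field h.fieldRing := Fintype.fieldOfDomain h.fieldRing
  let e : h.fieldRing ≃ ZA P := Equiv.ofBijective (h.ev z) (h.ev_bijective hz0)
  have he_add : ∀ r s, e (r + s) = e r + e s := fun r s => h.ev_add z r s
  have hes_add : ∀ x y, e.symm (x + y) = e.symm x + e.symm y := by
    intro x y
    apply e.injective
    rw [he_add, e.apply_symm_apply, e.apply_symm_apply, e.apply_symm_apply]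
  have h2 : (2 : h.fieldRing) = 0 := by
    rw [← one_add_one_eq_two]
    apply Subtype.ext
    refine AddMonoidHom.ext (fun a => ?_)
    exact h.ZA_add_self a
  have hchar : CharP h.fieldRing 2 := CharTwo.of_one_ne_zero_of_two_eq_zero one_ne_zero h2
  let zv : P → h.fieldRing := fun x =>
    if hx : x ∈ Subgroup.center P then e.symm (Additive.ofMul ⟨x, hx⟩) else 0
  have hzv : ∀ x (hx : x ∈ Subgroup.center P), zv x = e.symm (Additive.ofMul ⟨x, hx⟩) :=
    fun x hx => dif_pos hx
  let κ : K → h.fieldRing := fun k => ⟨actZ (k : MulAut P), Or.inr ⟨k, rfl⟩⟩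
  refine ⟨h.fieldRing, fld, inferInstance, hchar, zv, κ, ?_, ?_, ?_, ?_, ?_, ?_, ?_, ?_, ?_⟩
  · intro a b ha hb
    rw [hzv a ha, hzv b hb, hzv _ (Subgroup.mul_mem _ ha hb), ← hes_add]
    rfl
  · intro a ha h0
    rw [hzv a ha] at h0
    have : (Additive.ofMul ⟨a, ha⟩ : ZA P) = e 0 := by rw [← h0, e.apply_symm_apply]
    have h3 := congrArg (fun a : ZA P => ((a.toMul : Subgroup.center P) : P)) this
    exact h3
  · intro u
    refine ⟨((e u).toMul : Subgroup.center P), ((e u).toMul : Subgroup.center P).2, ?_⟩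
    rw [hzv _ ((e u).toMul : Subgroup.center P).2]
    exact e.symm_apply_apply u
  · intro k k'
    apply Subtype.ext
    show actZ ((k * k' : K) : MulAut P) = actZ k * actZ k'
    rw [Subgroup.coe_mul, actZ_mul]
  · intro k h0
    exact h.actZ_ne_zero k (congrArg Subtype.val h0)
  · rintro ⟨f, hf⟩ hu
    rcases hf with rfl | ⟨k, rfl⟩
    · exact absurd rfl hu
    · exact ⟨k, rfl⟩
  · apply Subtype.ext
    show actZ ((1 : K) : MulAut P) = 1
    rw [Subgroup.coe_one, actZ_one]
  · intro k hk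
    have h3 : actZ (k : MulAut P) = 1 := congrArg Subtype.val hk
    have h4 := DFunLike.congr_fun h3 z
    have h5 := congrArg (fun a : ZA P => ((a.toMul : Subgroup.center P) : P)) h4
    simp only [actZ_apply] at h5
    apply h.k_inj hz₁c hz₁
    rw [Subgroup.coe_one]
    exact h5
  · intro k a ha
    rw [hzv a ha, hzv _ (h.mem_center_of_aut k ha)]
    apply e.injective
    rw [e.apply_symm_apply]
    show _ = h.ev z (κ k * e.symm (Additive.ofMul ⟨a, ha⟩))
    rw [h.ev_mul]
    have : h.ev z (e.symm (Additive.ofMul ⟨a, ha⟩)) = Additive.ofMul ⟨a, ha⟩ :=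
      e.apply_symm_apply _
    rw [this]
    rfl

end Hyp

end Cfsg.Agent.Lib.H26.Sz
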