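import Mathlib
import Cfsg.Agent.Lib.H26.SzField

set_option autoImplicit false
set_option linter.style.haveILetI false

/-!
Suzuki 2-groups (helper26): commutator identities, fixed-point-freeness of the regular cyclic
group, and the abelian characteristic subgroup `A` with `Z < A ≤ Z₂` in a hypothetical
counterexample of class at least three.
-/

namespace Cfsg.Agent.Lib.H26.Sz

open Cfsg.Agent.Lib.H24.SuzukiTwo (cm)
open scoped IsMulCommutative commutatorElement

universe u

variable {P : Type u} [Group P] {K : Subgroup (MulAut P)}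

theorem cm_def (x y : P) : cm x y = x⁻¹ * y⁻¹ * x * y := rfl

theorem cm_mul_left_gen (x x' y : P) : cm (x * x') y = x'⁻¹ * cm x y * x' * cm x' y := by
  unfold cm; group

theorem cm_mul_right_gen (x y y' : P) : cm x (y * y') = cm x y' * (y'⁻¹ * cm x y * y') := by
  unfold cm; group

theorem cm_inv' (x y : P) : (cm x y)⁻¹ = cm y x := by
  unfold cm; group

theorem conj_eq_mul_cm (x y : P) : y⁻¹ * x * y = x * cm x y := by
  unfold cm; group

theorem mul_eq_mul_cm (x y : P) : x * y = y * x * cm x y := by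
  unfold cm; group

theorem cm_one_right (x : P) : cm x 1 = 1 := by unfold cm; group

theorem cm_one_left (x : P) : cm 1 x = 1 := by unfold cm; group

theorem cm_eq_one_iff (x y : P) : cm x y = 1 ↔ x * y = y * x := by
  constructor
  · intro h
    rw [mul_eq_mul_cm, h, mul_one]
  · intro h
    unfold cm
    rw [mul_assoc, mul_assoc, h]; group

theorem central_comm {z : P} (hz : z ∈ Subgroup.center P) (g : P) : z * g = g * z :=
  (Subgroup.mem_center_iff.1 hz g).symm

theorem cm_mul_left_of_mem {x x' y : P} (hc : cm x y ∈ Subgroup.center P) :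
    cm (x * x') y = cm x y * cm x' y := by
  rw [cm_mul_left_gen, mul_assoc x'⁻¹, central_comm hc x']
  group

theorem cm_mul_right_of_mem {x y y' : P} (hc : cm x y ∈ Subgroup.center P) :
    cm x (y * y') = cm x y * cm x y' := by
  rw [cm_mul_right_gen, mul_assoc y'⁻¹, central_comm hc y', inv_mul_cancel_left,
    ← central_comm hc]

theorem cm_central_mul_left {z : P} (hz : z ∈ Subgroup.center P) (x y : P) :
    cm (x * z) y = cm x y := by
  calc cm (x * z) y = z⁻¹ * (x⁻¹ * y⁻¹ * x) * (z * y) := by unfold cm; group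
    _ = z⁻¹ * (x⁻¹ * y⁻¹ * x) * (y * z) := by rw [central_comm hz y]
    _ = z⁻¹ * (cm x y * z) := by unfold cm; group
    _ = z⁻¹ * (z * cm x y) := by rw [central_comm hz]
    _ = cm x y := by group

theorem cm_central_mul_right {z : P} (hz : z ∈ Subgroup.center P) (x y : P) :
    cm x (y * z) = cm x y := by
  calc cm x (y * z) = x⁻¹ * z⁻¹ * y⁻¹ * x * y * z := by unfold cm; group
    _ = z * (x⁻¹ * z⁻¹ * y⁻¹ * x * y) := (central_comm hz _).symm
    _ = (z * x⁻¹) * z⁻¹ * y⁻¹ * x * y := by group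
    _ = (x⁻¹ * z) * z⁻¹ * y⁻¹ * x * y := by rw [central_comm hz]
    _ = cm x y := by unfold cm; group

theorem cm_central_left {z : P} (hz : z ∈ Subgroup.center P) (y : P) : cm z y = 1 := by
  rw [cm_eq_one_iff]; exact central_comm hz y

theorem cm_central_right {z : P} (hz : z ∈ Subgroup.center P) (x : P) : cm x z = 1 := by
  rw [cm_eq_one_iff]; exact (central_comm hz x).symm

theorem cm_aut (e : MulAut P) (x y : P) : cm (e x) (e y) = e (cm x y) := by
  unfold cm; simp only [map_mul, map_inv]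

theorem cm_eq_commutatorElement (x y : P) : cm x y = ⁅x⁻¹, y⁻¹⁆ := by
  unfold cm; rw [commutatorElement_def]; group

namespace Hyp

variable (h : Hyp K)
include h

/-- a nontrivial element has a power which is an involution -/
theorem exists_pow_involution {x : P} (hx : x ≠ 1) :
    ∃ j : ℕ, x ^ j ≠ 1 ∧ x ^ j * x ^ j = 1 := by
  classical
  have hex : ∃ m : ℕ, x ^ 2 ^ m = 1 := h.two x
  obtain ⟨m, hm, hmin⟩ : ∃ m, x ^ 2 ^ m = 1 ∧ ∀ k < m, ¬ x ^ 2 ^ k = 1 :=
    ⟨Nat.find hex, Nat.find_spec hex, fun k hk => Nat.find_min hex hk⟩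
  have h0 : m ≠ 0 := by
    rintro rfl
    apply hx
    simpa using hm
  obtain ⟨m', rfl⟩ : ∃ m', m = m' + 1 := ⟨m - 1, by omega⟩
  refine ⟨2 ^ m', hmin m' (by omega), ?_⟩
  rw [← pow_add, ← two_mul, ← pow_succ']
  exact hm

/-- `K` acts fixed-point-freely on `P`. -/
theorem fpf {k : K} (hk : k ≠ 1) {x : P} (hx : (k : MulAut P) x = x) : x = 1 := by
  by_contra hx1
  obtain ⟨j, hj1, hj2⟩ := h.exists_pow_involution hx1
  apply hk
  have hjc : x ^ j ∈ Subgroup.center P := (h.hZ _).1 hj2
  apply h.k_inj hjc hj1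
  rw [map_pow, hx, Subgroup.coe_one, MulAut.one_apply]

theorem fpf_inj {k : K} (hk : k ≠ 1) {x y : P}
    (hxy : x⁻¹ * (k : MulAut P) x = y⁻¹ * (k : MulAut P) y) : x = y := by
  have h1 : (k : MulAut P) (y * x⁻¹) = y * x⁻¹ := by
    rw [map_mul, map_inv]
    calc (k : MulAut P) y * ((k : MulAut P) x)⁻¹
        = y * (y⁻¹ * (k : MulAut P) y) * ((k : MulAut P) x)⁻¹ := by group
      _ = y * (x⁻¹ * (k : MulAut P) x) * ((k : MulAut P) x)⁻¹ := by rw [hxy]
      _ = y * x⁻¹ := by group
  have := h.fpf hk h1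
  exact (mul_inv_eq_one.1 this).symm

/-- fixed-point-freeness passes to quotients by invariant subgroups -/
theorem mem_of_inv_mul_mem (C : Subgroup P) (hC : ∀ k : K, ∀ x ∈ C, (k : MulAut P) x ∈ C)
    {k : K} (hk : k ≠ 1) {x : P} (hx : x⁻¹ * (k : MulAut P) x ∈ C) : x ∈ C := by
  haveI := h.fin
  let θ : C → C := fun c => ⟨(c : P)⁻¹ * (k : MulAut P) c, C.mul_mem (C.inv_mem c.2) (hC k c c.2)⟩
  have hinj : Function.Injective θ := by
    intro c d hcd
    have := congrArg Subtype.val hcd
    exact Subtype.ext (h.fpf_inj hk this)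
  obtain ⟨c, hc⟩ := Finite.injective_iff_surjective.1 hinj ⟨_, hx⟩
  have := congrArg Subtype.val hc
  have hxc : (c : P) = x := h.fpf_inj hk this
  rw [← hxc]
  exact c.2

/-- a nontrivial `K`-invariant subgroup of the centre is the whole centre -/
theorem center_le_of_invariant (H : Subgroup P) (hH : ∀ k : K, ∀ x ∈ H, (k : MulAut P) x ∈ H)
    {x : P} (hx : x ∈ H) (hxc : x ∈ Subgroup.center P) (hx1 : x ≠ 1) :
    Subgroup.center P ≤ H := by
  intro y hy
  by_cases hy1 : y = 1
  · rw [hy1]; exact H.one_mem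
  obtain ⟨k, rfl⟩ := h.k_trans hxc hx1 hy hy1
  exact hH k x hx

end Hyp


/-- the homomorphism `g ↦ [a, g]` for `a` in the second centre -/
def cmHom (a : P) (ha : ∀ g, cm a g ∈ Subgroup.center P) : P →* Subgroup.center P where
  toFun g := ⟨cm a g, ha g⟩
  map_one' := by
    apply Subtype.ext
    show cm a 1 = 1
    unfold cm; group
  map_mul' := by
    intro g g'
    apply Subtype.ext
    exact cm_mul_right_of_mem (ha g)

theorem comm_commutator_of_second_center (a : P) (ha : ∀ g, cm a g ∈ Subgroup.center P)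
    {c : P} (hc : c ∈ commutator P) : a * c = c * a := by
  have h1 : commutator P ≤ (cmHom a ha).ker := Abelianization.commutator_subset_ker _
  have h2 := h1 hc
  rw [MonoidHom.mem_ker] at h2
  have h3 : cm a c = 1 := congrArg Subtype.val h2
  exact (cm_eq_one_iff a c).1 h3

/-- the product of a subgroup with the centre -/
def mulCenter (A₀ : Subgroup P) : Subgroup P where
  carrier := {x | ∃ a ∈ A₀, ∃ z ∈ Subgroup.center P, x = a * z}
  one_mem' := ⟨1, A₀.one_mem, 1, Subgroup.one_mem _, by simp⟩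
  mul_mem' := by
    rintro _ _ ⟨a, ha, z, hz, rfl⟩ ⟨a', ha', z', hz', rfl⟩
    refine ⟨a * a', A₀.mul_mem ha ha', z * z', Subgroup.mul_mem _ hz hz', ?_⟩
    calc a * z * (a' * z') = a * (z * a') * z' := by group
      _ = a * (a' * z) * z' := by rw [central_comm hz]
      _ = a * a' * (z * z') := by group
  inv_mem' := by
    rintro _ ⟨a, ha, z, hz, rfl⟩
    refine ⟨a⁻¹, A₀.inv_mem ha, z⁻¹, Subgroup.inv_mem _ hz, ?_⟩
    rw [mul_inv_rev, central_comm (Subgroup.inv_mem _ hz)]

theorem exists_A [Finite P] (h2 : IsPGroup 2 P) (hN : ¬ ∀ x y : P, cm x y ∈ Subgroup.center P) :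
    ∃ A : Subgroup P, Subgroup.center P ≤ A ∧ (∃ a ∈ A, a ∉ Subgroup.center P) ∧
      (∀ a ∈ A, ∀ g, cm a g ∈ Subgroup.center P) ∧
      (∀ a ∈ A, ∀ c ∈ commutator P, a * c = c * a) ∧
      (∀ a ∈ A, ∀ b ∈ A, a * b = b * a) ∧ (∀ e : MulAut P, ∀ a ∈ A, e a ∈ A) := by
  classical
  haveI : Fact (Nat.Prime 2) := ⟨Nat.prime_two⟩
  haveI : Group.IsNilpotent P := h2.isNilpotent
  have hex : ∃ n, Subgroup.lowerCentralSeries (⊤ : Subgroup P) n = ⊥ :=
    Subgroup.nilpotent_iff_lowerCentralSeries.1 inferInstance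
  have hle_center : ∀ n, Subgroup.lowerCentralSeries (⊤ : Subgroup P) (n + 1) = ⊥ →
      Subgroup.lowerCentralSeries (⊤ : Subgroup P) n ≤ Subgroup.center P := by
    intro n hn
    rw [Subgroup.lowerCentralSeries_succ, Subgroup.commutator_eq_bot_iff_le_centralizer] at hn
    intro x hx
    have := hn hx
    rw [Subgroup.mem_centralizer_iff] at this
    rw [Subgroup.mem_center_iff]
    intro g
    exact this g (Subgroup.mem_top g)
  obtain ⟨n, hn, hmin⟩ : ∃ n, Subgroup.lowerCentralSeries (⊤ : Subgroup P) n = ⊥ ∧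
      ∀ k < n, ¬ Subgroup.lowerCentralSeries (⊤ : Subgroup P) k = ⊥ :=
    ⟨Nat.find hex, Nat.find_spec hex, fun k hk => Nat.find_min hex hk⟩
  have hn3 : 3 ≤ n := by
    by_contra hlt
    push Not at hlt
    apply hN
    intro x y
    have h2' : Subgroup.lowerCentralSeries (⊤ : Subgroup P) 2 = ⊥ := by
      rw [eq_bot_iff, ← hn]
      exact Subgroup.lowerCentralSeries_antitone _ (by omega)
    have h1 := hle_center 1 h2'
    apply h1
    rw [Subgroup.top_lowerCentralSeries_one, cm_eq_commutatorElement]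
    exact Subgroup.commutator_mem_commutator (Subgroup.mem_top _) (Subgroup.mem_top _)
  obtain ⟨m, rfl⟩ : ∃ m, n = m + 3 := ⟨n - 3, by omega⟩
  set A₀ := Subgroup.lowerCentralSeries (⊤ : Subgroup P) (m + 1) with hA₀
  have hA₀Z2 : ∀ a ∈ A₀, ∀ g, cm a g ∈ Subgroup.center P := by
    intro a ha g
    apply hle_center (m + 2) hn
    rw [Subgroup.lowerCentralSeries_succ, cm_eq_commutatorElement]
    exact Subgroup.commutator_mem_commutator (A₀.inv_mem ha) (Subgroup.mem_top _)
  have hA₀comm : A₀ ≤ commutator P := by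
    rw [← Subgroup.top_lowerCentralSeries_one]
    exact Subgroup.lowerCentralSeries_antitone _ (by omega)
  have hA₀nc : ¬ A₀ ≤ Subgroup.center P := by
    intro hle
    apply hmin (m + 2) (by omega)
    rw [Subgroup.lowerCentralSeries_succ, Subgroup.commutator_eq_bot_iff_le_centralizer]
    intro x hx
    rw [Subgroup.mem_centralizer_iff]
    intro g _
    exact (central_comm (hle hx) g).symm
  have hA₀char : ∀ e : MulAut P, ∀ a ∈ A₀, e a ∈ A₀ := by
    intro e a ha
    have hch : A₀.Characteristic := by rw [hA₀]; infer_instance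
    have := (Subgroup.characteristic_iff_map_le.1 hch) e
    exact this ⟨a, ha, rfl⟩
  refine ⟨mulCenter A₀, ?_, ?_, ?_, ?_, ?_, ?_⟩
  · intro z hz
    exact ⟨1, A₀.one_mem, z, hz, by simp⟩
  · obtain ⟨a, ha, hac⟩ := SetLike.not_le_iff_exists.1 hA₀nc
    exact ⟨a, ⟨a, ha, 1, Subgroup.one_mem _, by simp⟩, hac⟩
  · rintro _ ⟨a, ha, z, hz, rfl⟩ g
    rw [cm_central_mul_left hz]
    exact hA₀Z2 a ha g
  · rintro _ ⟨a, ha, z, hz, rfl⟩ c hc
    have := comm_commutator_of_second_center a (hA₀Z2 a ha) hc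
    calc a * z * c = a * (z * c) := by group
      _ = a * (c * z) := by rw [central_comm hz]
      _ = (a * c) * z := by group
      _ = (c * a) * z := by rw [this]
      _ = c * (a * z) := by group
  · rintro _ ⟨a, ha, z, hz, rfl⟩ _ ⟨b, hb, z', hz', rfl⟩
    have := comm_commutator_of_second_center a (hA₀Z2 a ha) (hA₀comm hb)
    calc a * z * (b * z') = a * (z * b) * z' := by group
      _ = a * (b * z) * z' := by rw [central_comm hz]
      _ = (a * b) * (z * z') := by group
      _ = (b * a) * (z' * z) := by rw [this, central_comm hz]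
      _ = b * (a * z') * z := by group
      _ = b * (z' * a) * z := by rw [central_comm hz']
      _ = b * z' * (a * z) := by group
  · rintro e _ ⟨a, ha, z, hz, rfl⟩
    refine ⟨e a, hA₀char e a ha, e z, ?_, map_mul e a z⟩
    have hch : (Subgroup.center P).Characteristic := inferInstance
    have := (Subgroup.characteristic_iff_map_le.1 hch) e
    exact this ⟨z, hz, rfl⟩

end Cfsg.Agent.Lib.H26.Sz
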