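import Mathlib
import Cfsg.Agent.Lib.H26.SzGrpA

set_option autoImplicit false
set_option linter.style.haveILetI false

/-!
Chevalley–Warning bound for class-two 2-groups with `Z(P) = Ω₁(P)` (helper26): the squaring map
`P / Z(P) → Z(P)` is an anisotropic quadratic map over `𝔽₂`, hence `|P : Z(P)| ≤ |Z(P)|²`.
-/

namespace Cfsg.Agent.Lib.H26.Sz

open Cfsg.Agent.Lib.H24.SuzukiTwo (cm)
open scoped IsMulCommutative
open MvPolynomial

theorem bilin_expand {d : ℕ} (B : LinearMap.BilinMap (ZMod 2) (Fin d → ZMod 2) (ZMod 2))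
    (x y : Fin d → ZMod 2) :
    B x y = ∑ i, ∑ k, x i * y k * B (Pi.single i 1) (Pi.single k 1) := by
  have hx : ∀ x : Fin d → ZMod 2, x = ∑ i, x i • (Pi.single i 1 : Fin d → ZMod 2) := by
    intro x
    funext l
    simp [Finset.sum_apply, Pi.single_apply]
  calc B x y = B (∑ i, x i • (Pi.single i 1 : Fin d → ZMod 2))
        (∑ k, y k • (Pi.single k 1 : Fin d → ZMod 2)) := by rw [← hx x, ← hx y]
    _ = ∑ i, ∑ k, x i * y k * B (Pi.single i 1) (Pi.single k 1) := by
      rw [LinearMap.map_sum₂]
      apply Finset.sum_congr rfl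
      intro i _
      rw [LinearMap.map_smul₂, map_sum, Finset.smul_sum]
      apply Finset.sum_congr rfl
      intro k _
      rw [map_smul, smul_eq_mul, smul_eq_mul]
      ring

/-- Chevalley–Warning for a system of quadratic forms over `𝔽₂`. -/
theorem dim_le_of_anisotropic {d n : ℕ}
    (Q : QuadraticMap (ZMod 2) (Fin d → ZMod 2) (Fin n → ZMod 2))
    (h0 : ∀ x, Q x = 0 → x = 0) : d ≤ 2 * n := by
  classical
  by_contra hlt
  push Not at hlt
  -- bilinear forms for the coordinates
  have hβ : ∀ j : Fin n, ∃ β : LinearMap.BilinMap (ZMod 2) (Fin d → ZMod 2) (ZMod 2),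
      ∀ x, β x x = Q x j := by
    intro j
    obtain ⟨β, hβ⟩ := LinearMap.BilinMap.toQuadraticMap_surjective
      ((LinearMap.proj j : (Fin n → ZMod 2) →ₗ[ZMod 2] ZMod 2).compQuadraticMap Q)
    refine ⟨β, fun x => ?_⟩
    rw [← LinearMap.BilinMap.toQuadraticMap_apply, hβ]
    rfl
  choose β hβ using hβ
  let p : Fin n → MvPolynomial (Fin d) (ZMod 2) := fun j =>
    ∑ i, ∑ k, C (β j (Pi.single i 1) (Pi.single k 1)) * X i * X k
  have hdeg : ∀ j, (p j).totalDegree ≤ 2 := by
    intro j
    apply totalDegree_finsetSum_le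
    intro i _
    apply totalDegree_finsetSum_le
    intro k _
    calc (C (β j (Pi.single i 1) (Pi.single k 1)) * X i * X k).totalDegree
        ≤ (C (β j (Pi.single i 1) (Pi.single k 1)) * X i).totalDegree
            + (X k : MvPolynomial (Fin d) (ZMod 2)).totalDegree :=
          totalDegree_mul _ _
      _ ≤ ((C (β j (Pi.single i 1) (Pi.single k 1)) : MvPolynomial (Fin d) (ZMod 2)).totalDegree
            + (X i : MvPolynomial (Fin d) (ZMod 2)).totalDegree)
            + (X k : MvPolynomial (Fin d) (ZMod 2)).totalDegree :=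
          Nat.add_le_add_right (totalDegree_mul _ _) _
      _ = 2 := by rw [totalDegree_C, totalDegree_X, totalDegree_X]
  have heval : ∀ j x, eval x (p j) = Q x j := by
    intro j x
    rw [← hβ j x, bilin_expand (β j) x x]
    simp only [p, map_sum, map_mul, eval_C, eval_X]
    apply Finset.sum_congr rfl
    intro i _
    apply Finset.sum_congr rfl
    intro k _
    ring
  have hsum : ∑ j ∈ (Finset.univ : Finset (Fin n)), (p j).totalDegree < Fintype.card (Fin d) := by
    calc ∑ j ∈ (Finset.univ : Finset (Fin n)), (p j).totalDegree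
        ≤ ∑ j ∈ (Finset.univ : Finset (Fin n)), 2 := Finset.sum_le_sum (fun j _ => hdeg j)
      _ = 2 * n := by simp [mul_comm]
      _ < Fintype.card (Fin d) := by simpa using hlt
  have hcw := char_dvd_card_solutions_of_sum_lt (K := ZMod 2) 2 hsum
  rw [Fintype.card_eq_nat_card] at hcw
  have hcard : Nat.card {x : Fin d → ZMod 2 // ∀ j ∈ (Finset.univ : Finset (Fin n)),
      eval x (p j) = 0} = 1 := by
    rw [Nat.card_eq_one_iff_unique]
    refine ⟨⟨?_⟩, ⟨⟨0, fun j _ => by rw [heval, map_zero]; rfl⟩⟩⟩
    rintro ⟨x, hx⟩ ⟨y, hy⟩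
    have hx0 : x = 0 := by
      apply h0
      funext j
      rw [← heval j x]
      exact hx j (Finset.mem_univ j)
    have hy0 : y = 0 := by
      apply h0
      funext j
      rw [← heval j y]
      exact hy j (Finset.mem_univ j)
    exact Subtype.ext (hx0.trans hy0.symm)
  rw [hcard] at hcw
  exact absurd hcw (by decide)

theorem card_le_sq_of_anisotropic {V W : Type*} [AddCommGroup V] [AddCommGroup W]
    [Module (ZMod 2) V] [Module (ZMod 2) W] [Finite V] [Finite W]
    (Q : QuadraticMap (ZMod 2) V W) (h0 : ∀ x, Q x = 0 → x = 0) :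
    Nat.card V ≤ Nat.card W ^ 2 := by
  let bV := Module.finBasis (ZMod 2) V
  let bW := Module.finBasis (ZMod 2) W
  set d := Module.finrank (ZMod 2) V with hd
  set n := Module.finrank (ZMod 2) W with hn
  let eV : V ≃ₗ[ZMod 2] (Fin d → ZMod 2) := bV.equivFun
  let eW : W ≃ₗ[ZMod 2] (Fin n → ZMod 2) := bW.equivFun
  let Q' : QuadraticMap (ZMod 2) (Fin d → ZMod 2) (Fin n → ZMod 2) :=
    (eW : W →ₗ[ZMod 2] (Fin n → ZMod 2)).compQuadraticMap
      (Q.comp (eV.symm : (Fin d → ZMod 2) →ₗ[ZMod 2] V))
  have hQ' : ∀ x, Q' x = eW (Q (eV.symm x)) := fun x => rfl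
  have h0' : ∀ x, Q' x = 0 → x = 0 := by
    intro x hx
    rw [hQ'] at hx
    have h1 : Q (eV.symm x) = 0 := by
      have := congrArg eW.symm hx
      simpa using this
    have h2 := h0 _ h1
    have := congrArg eV h2
    simpa using this
  have hdn := dim_le_of_anisotropic Q' h0'
  have hcV : Nat.card V = 2 ^ d := by
    rw [Nat.card_congr eV.toEquiv, Nat.card_fun, Nat.card_zmod, Nat.card_fin]
  have hcW : Nat.card W = 2 ^ n := by
    rw [Nat.card_congr eW.toEquiv, Nat.card_fun, Nat.card_zmod, Nat.card_fin]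
  rw [hcV, hcW, ← pow_mul]
  exact Nat.pow_le_pow_right (by norm_num) (by omega)

section cw

variable {P : Type*} [Group P]

/-- class two with centre `= Ω₁` -/
structure CT (P : Type*) [Group P] : Prop where
  hcm : ∀ x y : P, cm x y ∈ Subgroup.center P
  hZ : ∀ x : P, x * x = 1 ↔ x ∈ Subgroup.center P

namespace CT

variable (c : CT P)
include c

theorem sq_mem_center (x : P) : x * x ∈ Subgroup.center P := by
  rw [Subgroup.mem_center_iff]
  intro g
  have h1 : cm (x * x) g = 1 := by
    rw [cm_mul_left_of_mem (c.hcm x g)]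
    exact (c.hZ _).2 (c.hcm x g)
  exact ((cm_eq_one_iff _ _).1 h1).symm

theorem sq_mul_eq (x y : P) : (x * y) * (x * y) = (x * x) * (y * y) * cm y x := by
  have hc := c.hcm y x
  calc (x * y) * (x * y) = x * (y * x) * y := by group
    _ = x * (x * y * cm y x) * y := by rw [← mul_eq_mul_cm y x]
    _ = x * x * y * (cm y x * y) := by group
    _ = x * x * y * (y * cm y x) := by rw [central_comm hc]
    _ = (x * x) * (y * y) * cm y x := by group

theorem sq_mul_central (x : P) {z : P} (hz : z ∈ Subgroup.center P) :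
    (x * z) * (x * z) = x * x := by
  rw [c.sq_mul_eq, (c.hZ z).2 hz, mul_one, cm_central_left hz, mul_one]

/-- squaring on the central quotient -/
def sqQ (q : P ⧸ Subgroup.center P) : Subgroup.center P :=
  Quotient.liftOn' q (fun x => (⟨x * x, c.sq_mem_center x⟩ : Subgroup.center P)) (by
    intro x y hxy
    rw [QuotientGroup.leftRel_apply] at hxy
    apply Subtype.ext
    show x * x = y * y
    have : y = x * (x⁻¹ * y) := by group
    rw [this, c.sq_mul_central x hxy])

theorem sqQ_mk (x : P) : c.sqQ (QuotientGroup.mk x) = ⟨x * x, c.sq_mem_center x⟩ := rfl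

theorem sqQ_one : c.sqQ 1 = 1 := by
  apply Subtype.ext
  show (1 : P) * 1 = 1
  simp

theorem sqQ_eq_one {q : P ⧸ Subgroup.center P} (hq : c.sqQ q = 1) : q = 1 := by
  induction q using QuotientGroup.induction_on with
  | H x =>
    rw [sqQ_mk] at hq
    have : x * x = 1 := congrArg Subtype.val hq
    exact (QuotientGroup.eq_one_iff x).2 ((c.hZ x).1 this)

theorem quot_comm (q r : P ⧸ Subgroup.center P) : q * r = r * q := by
  induction q using QuotientGroup.induction_on with
  | H x =>
  induction r using QuotientGroup.induction_on with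
  | H y =>
    rw [← QuotientGroup.mk_mul, ← QuotientGroup.mk_mul, QuotientGroup.eq]
    have : (x * y)⁻¹ * (y * x) = cm y x := by unfold cm; group
    rw [this]
    exact c.hcm y x

theorem quot_sq (q : P ⧸ Subgroup.center P) : q * q = 1 := by
  induction q using QuotientGroup.induction_on with
  | H x =>
    rw [← QuotientGroup.mk_mul, QuotientGroup.eq_one_iff]
    exact c.sq_mem_center x

/-- the polar form -/
def bQ (q r : P ⧸ Subgroup.center P) : Subgroup.center P :=
  c.sqQ (q * r) * (c.sqQ q)⁻¹ * (c.sqQ r)⁻¹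

theorem bQ_mk (x y : P) :
    c.bQ (QuotientGroup.mk x) (QuotientGroup.mk y) = ⟨cm y x, c.hcm y x⟩ := by
  have h1 : c.sqQ (QuotientGroup.mk x * QuotientGroup.mk y) =
      c.sqQ (QuotientGroup.mk x) * c.sqQ (QuotientGroup.mk y) * ⟨cm y x, c.hcm y x⟩ := by
    apply Subtype.ext
    exact c.sq_mul_eq x y
  unfold bQ
  rw [h1]
  generalize c.sqQ (QuotientGroup.mk x) = a
  generalize c.sqQ (QuotientGroup.mk y) = b
  generalize (⟨cm y x, c.hcm y x⟩ : Subgroup.center P) = d
  calc a * b * d * a⁻¹ * b⁻¹ = d * (a * a⁻¹) * (b * b⁻¹) := by ac_rfl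
    _ = d := by simp

theorem bQ_mul_left (q q' r : P ⧸ Subgroup.center P) :
    c.bQ (q * q') r = c.bQ q r * c.bQ q' r := by
  induction q using QuotientGroup.induction_on with
  | H x =>
  induction q' using QuotientGroup.induction_on with
  | H x' =>
  induction r using QuotientGroup.induction_on with
  | H y =>
    rw [← QuotientGroup.mk_mul, bQ_mk, bQ_mk, bQ_mk]
    apply Subtype.ext
    exact cm_mul_right_of_mem (c.hcm y x)

theorem bQ_mul_right (q r r' : P ⧸ Subgroup.center P) :
    c.bQ q (r * r') = c.bQ q r * c.bQ q r' := by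
  induction q using QuotientGroup.induction_on with
  | H x =>
  induction r using QuotientGroup.induction_on with
  | H y =>
  induction r' using QuotientGroup.induction_on with
  | H y' =>
    rw [← QuotientGroup.mk_mul, bQ_mk, bQ_mk, bQ_mk]
    apply Subtype.ext
    exact cm_mul_left_of_mem (c.hcm y x)

theorem sqQ_mul (q r : P ⧸ Subgroup.center P) :
    c.sqQ (q * r) = c.sqQ q * c.sqQ r * c.bQ q r := by
  unfold bQ
  generalize c.sqQ (q * r) = d
  generalize c.sqQ q = a
  generalize c.sqQ r = b
  calc d = d * (a * a⁻¹) * (b * b⁻¹) := by simp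
    _ = a * b * (d * a⁻¹ * b⁻¹) := by ac_rfl

theorem bQ_one_left (r : P ⧸ Subgroup.center P) : c.bQ 1 r = 1 := by
  have := c.bQ_mul_left 1 1 r
  rw [mul_one] at this
  exact left_eq_mul.1 this

theorem bQ_one_right (q : P ⧸ Subgroup.center P) : c.bQ q 1 = 1 := by
  have := c.bQ_mul_right q 1 1
  rw [mul_one] at this
  exact left_eq_mul.1 this

/-- Chevalley–Warning bound for the central quotient. -/
theorem card_quot_le [Finite P] :
    Nat.card (P ⧸ Subgroup.center P) ≤ Nat.card (Subgroup.center P) ^ 2 := by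
  classical
  letI : CommGroup (P ⧸ Subgroup.center P) :=
    { (inferInstance : Group (P ⧸ Subgroup.center P)) with mul_comm := c.quot_comm }
  have hV2 : ∀ v : Additive (P ⧸ Subgroup.center P), 2 • v = 0 := by
    intro v
    rw [two_nsmul]
    exact congrArg Additive.ofMul (c.quot_sq v.toMul)
  have hW2 : ∀ w : Additive (Subgroup.center P), 2 • w = 0 := by
    intro w
    rw [two_nsmul]
    exact congrArg Additive.ofMul (Subtype.ext ((c.hZ _).2 (w.toMul).2))
  letI : Module (ZMod 2) (Additive (P ⧸ Subgroup.center P)) := AddCommGroup.zmodModule hV2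
  letI : Module (ZMod 2) (Additive (Subgroup.center P)) := AddCommGroup.zmodModule hW2
  have h01 : ∀ a : ZMod 2, a = 0 ∨ a = 1 := by decide
  let s : Additive (P ⧸ Subgroup.center P) → Additive (Subgroup.center P) :=
    fun v => Additive.ofMul (c.sqQ v.toMul)
  let Bf : Additive (P ⧸ Subgroup.center P) → Additive (P ⧸ Subgroup.center P) →
      Additive (Subgroup.center P) := fun v w => Additive.ofMul (c.bQ v.toMul w.toMul)
  have hs0 : s 0 = 0 := congrArg Additive.ofMul c.sqQ_one
  have hB0l : ∀ w, Bf 0 w = 0 := fun w => congrArg Additive.ofMul (c.bQ_one_left w.toMul)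
  have hB0r : ∀ v, Bf v 0 = 0 := fun v => congrArg Additive.ofMul (c.bQ_one_right v.toMul)
  let B : LinearMap.BilinMap (ZMod 2) (Additive (P ⧸ Subgroup.center P))
      (Additive (Subgroup.center P)) :=
    LinearMap.mk₂ (ZMod 2) Bf
      (fun v v' w => congrArg Additive.ofMul (c.bQ_mul_left v.toMul v'.toMul w.toMul))
      (fun a v w => by
        rcases h01 a with rfl | rfl
        · rw [zero_smul, zero_smul]; exact hB0l w
        · rw [one_smul, one_smul])
      (fun v w w' => congrArg Additive.ofMul (c.bQ_mul_right v.toMul w.toMul w'.toMul))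
      (fun a v w => by
        rcases h01 a with rfl | rfl
        · rw [zero_smul, zero_smul]; exact hB0r v
        · rw [one_smul, one_smul])
  let Q : QuadraticMap (ZMod 2) (Additive (P ⧸ Subgroup.center P))
      (Additive (Subgroup.center P)) :=
    { toFun := s
      toFun_smul := by
        intro a v
        rcases h01 a with rfl | rfl
        · rw [zero_smul, mul_zero, zero_smul]; exact hs0
        · rw [one_smul, mul_one, one_smul]
      exists_companion' := ⟨B, fun v w =>
        congrArg Additive.ofMul (c.sqQ_mul v.toMul w.toMul)⟩ }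
  have h0 : ∀ v, Q v = 0 → v = 0 := by
    intro v hv
    have h1 : c.sqQ v.toMul = 1 := congrArg Additive.toMul hv
    exact congrArg Additive.ofMul (c.sqQ_eq_one h1)
  have key := card_le_sq_of_anisotropic Q h0
  rwa [Nat.card_congr (Additive.toMul (α := P ⧸ Subgroup.center P)),
    Nat.card_congr (Additive.toMul (α := Subgroup.center P))] at key

end CT

end cw

end Cfsg.Agent.Lib.H26.Sz
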