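import Cfsg.Agent.Lib.H26.ThreeTrans
import Cfsg.Agent.Lib.H1.PCore

set_option autoImplicit false

/-!
3-transpositions and `O_2(G)` (helper26): transpositions congruent modulo a normal 2-subgroup have
the same commuting set and are conjugate under it.
-/

namespace Cfsg.Agent.Lib.H26.ThreeTrans

open Cfsg

variable {G : Type*} [Group G] {D : Set G}

theorem eq_one_of_two_pow_of_cube {x : G} {k : ℕ} (h2 : x ^ (2 ^ k) = 1) (h3 : x ^ 3 = 1) :
    x = 1 := by
  have h1 : orderOf x ∣ 2 ^ k := orderOf_dvd_of_pow_eq_one h2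
  have h2' : orderOf x ∣ 3 := orderOf_dvd_of_pow_eq_one h3
  have hco : Nat.Coprime (2 ^ k) 3 := Nat.Coprime.pow_left k (by norm_num)
  have := Nat.dvd_gcd h1 h2'
  rw [hco] at this
  exact orderOf_eq_one_iff.1 (Nat.dvd_one.1 this)

theorem mem_conjugatesOf_iff' {a b : G} : b ∈ conjugatesOf a ↔ IsConj a b := Iff.rfl

theorem class_conj (hD : IsThreeTranspositionClass D) : ∀ g : G, ∀ d ∈ D, g * d * g⁻¹ ∈ D := by
  obtain ⟨-, ⟨d₀, -, hD0⟩, -⟩ := hD
  intro g d hd
  rw [hD0] at hd ⊢
  rw [mem_conjugatesOf_iff', isConj_iff] at hd ⊢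
  obtain ⟨c, rfl⟩ := hd
  exact ⟨g * c, by group⟩

theorem class_eq_conjugatesOf (hD : IsThreeTranspositionClass D) {d : G} (hd : d ∈ D) :
    D = conjugatesOf d := by
  obtain ⟨-, ⟨d₀, -, hD0⟩, -⟩ := hD
  rw [hD0] at hd ⊢
  rw [mem_conjugatesOf_iff'] at hd
  ext x
  rw [mem_conjugatesOf_iff', mem_conjugatesOf_iff']
  exact ⟨fun h => hd.symm.trans h, fun h => hd.trans h⟩

theorem exists_not_commute (hD : IsThreeTranspositionClass D) (hD2 : ∃ a ∈ D, ∃ b ∈ D, a ≠ b)
    {d : G} (hd : d ∈ D) : ∃ e ∈ D, ¬ Commute d e := by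
  by_contra hcon
  push Not at hcon
  have hcen : d ∈ Subgroup.centralizer ((Subgroup.closure D : Subgroup G) : Set G) := by
    rw [Subgroup.centralizer_closure, Subgroup.mem_centralizer_iff]
    intro x hx
    exact ((hcon x hx).eq).symm
  rw [hD.2.2] at hcen
  have hcen' : ∀ g : G, g * d = d * g := by
    intro g
    have := Subgroup.mem_centralizer_iff.1 hcen g (Subgroup.mem_top g)
    exact this
  have hDd : D = {d} := by
    rw [class_eq_conjugatesOf hD hd]
    ext x
    rw [mem_conjugatesOf_iff', isConj_iff, Set.mem_singleton_iff]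
    constructor
    · rintro ⟨c, rfl⟩
      rw [hcen' c]; group
    · rintro rfl
      exact ⟨1, by group⟩
  obtain ⟨a, ha, b, hb, hab⟩ := hD2
  rw [hDd, Set.mem_singleton_iff] at ha hb
  exact hab (ha.trans hb.symm)

section normal2

variable (hD : IsThreeTranspositionSet D)
include hD

theorem commute_of_mul_mem_aux {Q : Subgroup G} [Q.Normal] (hQ : IsPGroup 2 Q) {d v e : G}
    (hd : d ∈ D) (hv : v ∈ D) (he : e ∈ D) (h : d * v ∈ Q) (hde : Commute d e) : Commute v e := by
  by_contra hve
  have h3 : (v * e) ^ 3 = 1 := (commute_or_cube hD hv he).resolve_left hve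
  have hd2 := sq_eq_one hD hd
  have he2 := sq_eq_one hD he
  have hv2 := sq_eq_one hD hv
  have hvd : v * d ∈ Q := by
    have := Q.inv_mem h
    rwa [mul_inv_rev, inv_eq hD hd, inv_eq hD hv] at this
  -- images in the quotient
  have hπ : (QuotientGroup.mk' Q) v = (QuotientGroup.mk' Q) d := by
    rw [QuotientGroup.mk'_apply, QuotientGroup.mk'_apply, QuotientGroup.eq, inv_eq hD hv]
    exact hvd
  have hde2 : (d * e) ^ 2 = 1 := by
    rw [pow_two]
    calc d * e * (d * e) = d * (e * d) * e := by group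
      _ = d * (d * e) * e := by rw [hde.eq]
      _ = (d * d) * (e * e) := by group
      _ = 1 := by rw [hd2, he2, one_mul]
  have hπde : (QuotientGroup.mk' Q) (d * e) = 1 := by
    have h1 : (QuotientGroup.mk' Q) (d * e) = (QuotientGroup.mk' Q) (v * e) := by
      rw [map_mul, map_mul, hπ]
    have h2 : ((QuotientGroup.mk' Q) (d * e)) ^ 3 = 1 := by
      rw [h1, ← map_pow, h3, map_one]
    have h2' : ((QuotientGroup.mk' Q) (d * e)) ^ 2 = 1 := by
      rw [← map_pow, hde2, map_one]
    have : ((QuotientGroup.mk' Q) (d * e)) ^ 3 =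
        ((QuotientGroup.mk' Q) (d * e)) ^ 2 * (QuotientGroup.mk' Q) (d * e) := pow_succ _ _
    rw [h2, h2', one_mul] at this
    exact this.symm
  have hdeQ : d * e ∈ Q := by
    rwa [QuotientGroup.mk'_apply, QuotientGroup.eq_one_iff] at hπde
  have hveQ : v * e ∈ Q := by
    have : v * e = (v * d) * (d * e) := by
      calc v * e = v * (d * d) * e := by rw [hd2, mul_one]
        _ = (v * d) * (d * e) := by group
    rw [this]
    exact Q.mul_mem hvd hdeQ
  obtain ⟨k, hk⟩ := hQ ⟨v * e, hveQ⟩
  have hk' : (v * e) ^ (2 ^ k) = 1 := by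
    have := congrArg Subtype.val hk
    simpa using this
  have h1 := eq_one_of_two_pow_of_cube hk' h3
  apply hve
  have hveq : v = e := by
    calc v = v * (e * e) := by rw [he2, mul_one]
      _ = (v * e) * e := by group
      _ = e := by rw [h1, one_mul]
  rw [hveq]

/-- Transpositions congruent modulo a normal 2-subgroup have the same commuting set. -/
theorem veq_of_mul_mem {Q : Subgroup G} [Q.Normal] (hQ : IsPGroup 2 Q) {d v : G}
    (hd : d ∈ D) (hv : v ∈ D) (h : d * v ∈ Q) : Veq D d v := by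
  have hvd : v * d ∈ Q := by
    have := Q.inv_mem h
    rwa [mul_inv_rev, inv_eq hD hd, inv_eq hD hv] at this
  refine ⟨hv, fun e he => ⟨fun hc => ?_, fun hc => ?_⟩⟩
  · exact commute_of_mul_mem_aux hD hQ hv hd he hvd hc
  · exact commute_of_mul_mem_aux hD hQ hd hv he h hc

/-- The word identity in `S_4`: `(e d v e) d (e d v e)⁻¹ = v`. -/
theorem conj_path {d v e : G} (hd : d ∈ D) (hv : v ∈ D) (he : e ∈ D) (hdv : Commute d v)
    (hde : ¬ Commute d e) (hve : ¬ Commute v e) :
    (e * (d * v) * e) * d * (e * (d * v) * e)⁻¹ = v := by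
  have hd2 := sq_eq_one hD hd
  have he2 := sq_eq_one hD he
  have hv2 := sq_eq_one hD hv
  have hb1 : d * e * d = e * d * e := braid hD hd he hde
  have hb2 : v * e * v = e * v * e := braid hD hv he hve
  have hinv : (e * (d * v) * e)⁻¹ = e * (v * d) * e := by
    rw [mul_inv_rev, mul_inv_rev, mul_inv_rev, inv_eq hD hd, inv_eq hD hv, inv_eq hD he]
    group
  have hdvd : d * v * d = v := by
    calc d * v * d = (v * d) * d := by rw [hdv.eq]
      _ = v * (d * d) := by group
      _ = v := by rw [hd2, mul_one]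
  rw [hinv]
  calc e * (d * v) * e * d * (e * (v * d) * e)
      = e * d * v * (e * d * e) * v * d * e := by group
    _ = e * d * v * (d * e * d) * v * d * e := by rw [hb1]
    _ = e * (d * v * d) * e * (d * v * d) * e := by group
    _ = e * (v * e * v) * e := by rw [hdvd]; group
    _ = e * (e * v * e) * e := by rw [hb2]
    _ = (e * e) * v * (e * e) := by group
    _ = v := by rw [he2, one_mul, mul_one]

end normal2

end Cfsg.Agent.Lib.H26.ThreeTrans
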