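import Mathlib
import Cfsg.Prelude.Def_SporadicB
import Cfsg.Prelude.Def_Solvable
import Cfsg.Agent.Lib.H16.BaerSuzuki
import Cfsg.Agent.Lib.H1.TwoInvolutions
import Cfsg.Agent.Lib.H25.Basic

set_option autoImplicit false

/-!
Basic theory of 3-transpositions (helper26): braid relations, the relation "same commuting set"
(`Veq`), and the theorem that the products `d v` of `Veq`-equivalent 3-transpositions lie in `O_2(G)`.
-/

namespace Cfsg.Agent.Lib.H26.ThreeTrans

open Cfsg

variable {G : Type*} [Group G] {D : Set G}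

section basic

theorem sq_eq_one (hD : IsThreeTranspositionSet D) {d : G} (hd : d ∈ D) : d * d = 1 := by
  have := hD.1 d hd
  have h2 : d ^ 2 = 1 := by rw [← this]; exact pow_orderOf_eq_one d
  rwa [pow_two] at h2

theorem inv_eq (hD : IsThreeTranspositionSet D) {d : G} (hd : d ∈ D) : d⁻¹ = d :=
  inv_eq_of_mul_eq_one_right (sq_eq_one hD hd)

theorem ne_one (hD : IsThreeTranspositionSet D) {d : G} (hd : d ∈ D) : d ≠ 1 := by
  intro h
  have := hD.1 d hd
  rw [h, orderOf_one] at this
  omega

/-- Two involutions whose product squares to one commute. -/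
theorem commute_of_sq {d e : G} (hd : d * d = 1) (he : e * e = 1) (h : (d * e) ^ 2 = 1) :
    Commute d e := by
  show d * e = e * d
  have h1 : d * e * (d * e) = 1 := by rwa [pow_two] at h
  calc d * e = d * e * (d * e) * (e * d) := by
        have : d * e * (d * e) * (e * d) = d * e * d * (e * e) * d := by group
        rw [this, he]
        have : d * e * d * 1 * d = d * e * (d * d) := by group
        rw [this, hd, mul_one]
    _ = e * d := by rw [h1, one_mul]

theorem commute_or_cube (hD : IsThreeTranspositionSet D) {d e : G} (hd : d ∈ D) (he : e ∈ D) :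
    Commute d e ∨ (d * e) ^ 3 = 1 := by
  rcases hD.2 d hd e he with h | h
  · exact Or.inl (commute_of_sq (sq_eq_one hD hd) (sq_eq_one hD he) h)
  · exact Or.inr h

/-- The braid relation for two non-commuting 3-transpositions. -/
theorem braid (hD : IsThreeTranspositionSet D) {d e : G} (hd : d ∈ D) (he : e ∈ D)
    (hne : ¬ Commute d e) : d * e * d = e * d * e := by
  rcases commute_or_cube hD hd he with h | h
  · exact absurd h hne
  · have hd2 := sq_eq_one hD hd
    have he2 := sq_eq_one hD he
    have h3 : d * e * (d * e) * (d * e) = 1 := by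
      rw [pow_succ, pow_two] at h; exact h
    calc d * e * d = d * e * d * (e * d * e * (e * d * e)) := by
          have : e * d * e * (e * d * e) = e * d * (e * e) * d * e := by group
          rw [this, he2]
          have : e * d * 1 * d * e = e * (d * d) * e := by group
          rw [this, hd2, mul_one, he2, mul_one]
      _ = (d * e * (d * e) * (d * e)) * (e * d * e) := by group
      _ = e * d * e := by rw [h3, one_mul]

/-- If two 3-transpositions commute and their product cubes to one, they are equal. -/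
theorem eq_of_commute_of_cube (hD : IsThreeTranspositionSet D) {d e : G} (hd : d ∈ D) (he : e ∈ D)
    (hc : Commute d e) (h3 : (d * e) ^ 3 = 1) : d = e := by
  have hd2 := sq_eq_one hD hd
  have he2 := sq_eq_one hD he
  have h2 : (d * e) ^ 2 = 1 := by
    rw [pow_two]
    calc d * e * (d * e) = d * (e * d) * e := by group
      _ = d * (d * e) * e := by rw [hc.eq]
      _ = (d * d) * (e * e) := by group
      _ = 1 := by rw [hd2, he2, one_mul]
  have h1 : d * e = 1 := by
    have : (d * e) ^ 3 = (d * e) ^ 2 * (d * e) := pow_succ _ _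
    rw [h3, h2, one_mul] at this
    exact this.symm
  calc d = d * (e * e) := by rw [he2, mul_one]
    _ = (d * e) * e := by group
    _ = e := by rw [h1, one_mul]

theorem conj_mem' (hD : IsThreeTranspositionSet D) (hconj : ∀ g : G, ∀ d ∈ D, g * d * g⁻¹ ∈ D)
    {d e : G} (hd : d ∈ D) (he : e ∈ D) : e * d * e ∈ D := by
  have := hconj e d hd
  rwa [inv_eq hD he] at this

end basic

section veq

/-- `v` has the same commuting set in `D` as `d`. -/
def Veq (D : Set G) (d v : G) : Prop := v ∈ D ∧ ∀ e ∈ D, Commute v e ↔ Commute d e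

theorem Veq.refl {d : G} (hd : d ∈ D) : Veq D d d := ⟨hd, fun _ _ => Iff.rfl⟩

theorem Veq.symm {d v : G} (hd : d ∈ D) (h : Veq D d v) : Veq D v d :=
  ⟨hd, fun e he => (h.2 e he).symm⟩

theorem Veq.trans {d v w : G} (h1 : Veq D d v) (h2 : Veq D v w) : Veq D d w :=
  ⟨h2.1, fun e he => (h2.2 e he).trans (h1.2 e he)⟩

theorem Veq.commute {d v : G} (hd : d ∈ D) (h : Veq D d v) : Commute d v :=
  ((h.2 d hd).2 (Commute.refl d)).symm

theorem Veq.conj (hconj : ∀ g : G, ∀ d ∈ D, g * d * g⁻¹ ∈ D) {d v : G} (h : Veq D d v) (g : G) :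
    Veq D (g * d * g⁻¹) (g * v * g⁻¹) := by
  refine ⟨hconj g v h.1, fun e he => ?_⟩
  have he' : g⁻¹ * e * g ∈ D := by
    have := hconj g⁻¹ e he
    rwa [inv_inv] at this
  have key : ∀ x : G, Commute (g * x * g⁻¹) e ↔ Commute x (g⁻¹ * e * g) := by
    intro x
    constructor
    · intro hc
      show x * (g⁻¹ * e * g) = g⁻¹ * e * g * x
      have h1 : g * x * g⁻¹ * e = e * (g * x * g⁻¹) := hc
      calc x * (g⁻¹ * e * g) = g⁻¹ * (g * x * g⁻¹ * e) * g := by group
        _ = g⁻¹ * (e * (g * x * g⁻¹)) * g := by rw [h1]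
        _ = g⁻¹ * e * g * x := by group
    · intro hc
      show g * x * g⁻¹ * e = e * (g * x * g⁻¹)
      have h1 : x * (g⁻¹ * e * g) = g⁻¹ * e * g * x := hc
      calc g * x * g⁻¹ * e = g * (x * (g⁻¹ * e * g)) * g⁻¹ := by group
        _ = g * (g⁻¹ * e * g * x) * g⁻¹ := by rw [h1]
        _ = e * (g * x * g⁻¹) := by group
  rw [key, key]
  exact h.2 _ he'

variable (hD : IsThreeTranspositionSet D) (hconj : ∀ g : G, ∀ d ∈ D, g * d * g⁻¹ ∈ D)
include hD hconj

/-- **Key lemma.** If `v` is `Veq`-equivalent to `d`, `a` and `e` commute with each other but not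
with `d`, then `t e t⁻¹` commutes with `a` for `t = d v`. -/
theorem commute_conj_of_veq {d v a e : G} (hd : d ∈ D) (hv : Veq D d v) (ha : a ∈ D) (he : e ∈ D)
    (had : ¬ Commute a d) (hed : ¬ Commute e d) (hae : Commute a e) :
    Commute (d * v * e * (d * v)⁻¹) a := by
  have hd2 := sq_eq_one hD hd
  have hv2 := sq_eq_one hD hv.1
  have ha2 := sq_eq_one hD ha
  have he2 := sq_eq_one hD he
  have hdv : Commute d v := hv.commute hd
  have hev : ¬ Commute e v := fun h => hed (((hv.2 e he).1 h.symm).symm)
  -- e₀ = e d a d e commutes with d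
  have he₀D : e * (d * a * d) * e ∈ D := conj_mem' hD hconj (conj_mem' hD hconj ha hd) he
  have hb1 : d * e * d = e * d * e := braid hD hd he (fun h => hed h.symm)
  have hb2 : v * e * v = e * v * e := braid hD hv.1 he (fun h => hev h.symm)
  have hea : e * a * e = a := by
    calc e * a * e = (a * e) * e := by rw [hae.eq]
      _ = a * (e * e) := by group
      _ = a := by rw [he2, mul_one]
  have hc0 : Commute (e * (d * a * d) * e) d := by
    show e * (d * a * d) * e * d = d * (e * (d * a * d) * e)
    have h1 : d * (e * (d * a * d) * e) * d = e * (d * a * d) * e := by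
      calc d * (e * (d * a * d) * e) * d = (d * e * d) * a * (d * e * d) := by group
        _ = (e * d * e) * a * (e * d * e) := by rw [hb1]
        _ = e * d * (e * a * e) * d * e := by group
        _ = e * d * a * d * e := by rw [hea]
        _ = e * (d * a * d) * e := by group
    calc e * (d * a * d) * e * d = (d * (e * (d * a * d) * e) * d) * d := by rw [h1]
      _ = d * (e * (d * a * d) * e) * (d * d) := by group
      _ = d * (e * (d * a * d) * e) := by rw [hd2, mul_one]
  have hc1 : Commute (e * (d * a * d) * e) v := ((hv.2 _ he₀D).2 hc0.symm).symm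
  -- rewrite
  have hinv : (d * v)⁻¹ = v * d := by
    rw [mul_inv_rev, inv_eq hD hd, inv_eq hD hv.1]
  have hte : d * v * e * (d * v)⁻¹ = d * e * v * e * d := by
    rw [hinv]
    calc d * v * e * (v * d) = d * (v * e * v) * d := by group
      _ = d * (e * v * e) * d := by rw [hb2]
      _ = d * e * v * e * d := by group
  have haa : a = d * e * (e * (d * a * d) * e) * e * d := by
    symm
    calc d * e * (e * (d * a * d) * e) * e * d = d * (e * e) * (d * a * d) * (e * e) * d := by group
      _ = (d * d) * a * (d * d) := by rw [he2]; group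
      _ = a := by rw [hd2, one_mul, mul_one]
  rw [hte]
  show d * e * v * e * d * a = a * (d * e * v * e * d)
  have h1 : v * (e * (d * a * d) * e) = (e * (d * a * d) * e) * v := hc1.eq.symm
  calc d * e * v * e * d * a
      = d * e * v * e * d * (d * e * (e * (d * a * d) * e) * e * d) := by rw [← haa]
    _ = d * e * v * (e * (d * d) * e) * (e * (d * a * d) * e) * e * d := by group
    _ = d * e * (v * (e * (d * a * d) * e)) * e * d := by
        rw [hd2, mul_one, he2]; group
    _ = d * e * ((e * (d * a * d) * e) * v) * e * d := by rw [h1]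
    _ = (d * e * (e * (d * a * d) * e) * e * d) * (d * e * v * e * d) := by
        have : (d * e * (e * (d * a * d) * e) * e * d) * (d * e * v * e * d) =
            d * e * (e * (d * a * d) * e) * (e * (d * d) * e) * v * e * d := by group
        rw [this, hd2, mul_one, he2]; group
    _ = a * (d * e * v * e * d) := by rw [← haa]

/-- Conjugation by `t = d v` (with `v` equivalent to `d`) preserves every `Veq`-class. -/
theorem veq_conj_of_veq {d v a : G} (hd : d ∈ D) (hv : Veq D d v) (ha : a ∈ D) :
    Veq D a (d * v * a * (d * v)⁻¹) := by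
  have hd2 := sq_eq_one hD hd
  have hv2 := sq_eq_one hD hv.1
  have hdv : Commute d v := hv.commute hd
  have hinv : (d * v)⁻¹ = d * v := by
    rw [mul_inv_rev, inv_eq hD hd, inv_eq hD hv.1, hdv.eq]
  have htt : d * v * (d * v) = 1 := by
    calc d * v * (d * v) = d * (v * d) * v := by group
      _ = d * (d * v) * v := by rw [hdv.eq]
      _ = (d * d) * (v * v) := by group
      _ = 1 := by rw [hd2, hv2, one_mul]
  -- elements commuting with d are fixed by t
  have hfix : ∀ x ∈ D, Commute x d → d * v * x * (d * v)⁻¹ = x := by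
    intro x hx hxd
    have hxv : Commute x v := ((hv.2 x hx).2 hxd.symm).symm
    rw [hinv]
    calc d * v * x * (d * v) = d * (v * x) * (d * v) := by group
      _ = d * (x * v) * (d * v) := by rw [hxv.eq]
      _ = (d * x) * (v * d) * v := by group
      _ = (x * d) * (d * v) * v := by rw [hxd.eq, hdv.eq]
      _ = x * (d * d) * (v * v) := by group
      _ = x := by rw [hd2, hv2, mul_one, mul_one]
  -- t a t⁻¹ does not commute with d when a does not
  have hnc : ∀ x : G, ¬ Commute x d → ¬ Commute (d * v * x * (d * v)⁻¹) d := by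
    intro x hx hc
    apply hx
    rw [hinv] at hc
    have h1 : d * v * x * (d * v) * d = d * (d * v * x * (d * v)) := hc
    show x * d = d * x
    have h2 : (d * v) * d = d * (d * v) := by
      calc (d * v) * d = d * (v * d) := by group
        _ = d * (d * v) := by rw [hdv.eq]
    calc x * d = (d * v * (d * v)) * x * ((d * v * (d * v)) * d) := by rw [htt]; group
      _ = (d * v) * (d * v * x * (d * v) * d) * (d * v)⁻¹ * (d * v * (d * v)) := by
          rw [hinv]
          have : (d * v) * d = d * (d * v) := h2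
          calc d * v * (d * v) * x * (d * v * (d * v) * d)
              = d * v * (d * v * x * (d * v)) * ((d * v) * d) := by group
            _ = d * v * (d * v * x * (d * v)) * (d * (d * v)) := by rw [h2]
            _ = d * v * (d * v * x * (d * v) * d) * (d * v) * (d * v * (d * v)) := by
                rw [htt]; group
      _ = (d * v) * (d * (d * v * x * (d * v))) * (d * v)⁻¹ := by rw [h1, htt, mul_one]
      _ = ((d * v) * d) * (d * v) * x := by
          rw [hinv]
          calc d * v * (d * (d * v * x * (d * v))) * (d * v)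
              = ((d * v) * d) * (d * v) * x * ((d * v) * (d * v)) := by group
            _ = ((d * v) * d) * (d * v) * x := by rw [htt, mul_one]
      _ = d * ((d * v) * (d * v)) * x := by rw [h2]; group
      _ = d * x := by rw [htt, mul_one]
  -- one direction of the equivalence
  have hdir : ∀ x ∈ D, ¬ Commute x d → ∀ e ∈ D, Commute x e → Commute (d * v * x * (d * v)⁻¹) e := by
    intro x hx hxd e he hxe
    by_cases hed : Commute e d
    · have h1 := hfix e he hed
      rw [← h1]
      show d * v * x * (d * v)⁻¹ * (d * v * e * (d * v)⁻¹) = d * v * e * (d * v)⁻¹ * (d * v * x * (d * v)⁻¹)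
      calc d * v * x * (d * v)⁻¹ * (d * v * e * (d * v)⁻¹) = d * v * (x * e) * (d * v)⁻¹ := by group
        _ = d * v * (e * x) * (d * v)⁻¹ := by rw [hxe.eq]
        _ = d * v * e * (d * v)⁻¹ * (d * v * x * (d * v)⁻¹) := by group
    · exact commute_conj_of_veq hD hconj hd hv he hx hed hxd hxe.symm
  by_cases had : Commute a d
  · rw [hfix a ha had]
    exact Veq.refl ha
  · have hta : d * v * a * (d * v)⁻¹ ∈ D := hconj _ a ha
    refine ⟨hta, fun e he => ⟨fun h => ?_, fun h => hdir a ha had e he h⟩⟩
    have := hdir _ hta (hnc a had) e he h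
    have hback : d * v * (d * v * a * (d * v)⁻¹) * (d * v)⁻¹ = a := by
      rw [hinv]
      calc d * v * (d * v * a * (d * v)) * (d * v) = (d * v * (d * v)) * a * (d * v * (d * v)) := by
            group
        _ = a := by rw [htt, one_mul, mul_one]
    rwa [hback] at this

end veq

section main

variable [Finite G]

/-- The set of products of two distinct `Veq`-equivalent transpositions. -/
def vProducts (D : Set G) : Set G := {t | ∃ d v : G, d ∈ D ∧ Veq D d v ∧ d ≠ v ∧ t = d * v}

theorem vProducts_conj (hconj : ∀ g : G, ∀ d ∈ D, g * d * g⁻¹ ∈ D) (g : G) {t : G}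
    (ht : t ∈ vProducts D) : g * t * g⁻¹ ∈ vProducts D := by
  obtain ⟨d, v, hd, hv, hne, rfl⟩ := ht
  refine ⟨g * d * g⁻¹, g * v * g⁻¹, hconj g d hd, hv.conj hconj g, ?_, by group⟩
  intro h
  apply hne
  have := congrArg (fun x => g⁻¹ * x * g) h
  simpa [mul_assoc] using this

theorem orderOf_vProducts (hD : IsThreeTranspositionSet D) {t : G} (ht : t ∈ vProducts D) :
    orderOf t = 2 := by
  obtain ⟨d, v, hd, hv, hne, rfl⟩ := ht
  have hd2 := sq_eq_one hD hd
  have hv2 := sq_eq_one hD hv.1
  have hdv : Commute d v := hv.commute hd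
  apply orderOf_eq_prime
  · rw [pow_two]
    calc d * v * (d * v) = d * (v * d) * v := by group
      _ = d * (d * v) * v := by rw [hdv.eq]
      _ = (d * d) * (v * v) := by group
      _ = 1 := by rw [hd2, hv2, one_mul]
  · intro h
    apply hne
    calc d = d * (v * v) := by rw [hv2, mul_one]
      _ = (d * v) * v := by group
      _ = v := by rw [h, one_mul]

/-- Two involutions whose product has order dividing 4 generate a 2-group. -/
theorem isPGroup_closure_pair {x y : G} (hx : orderOf x = 2) (hy : orderOf y = 2)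
    (h4 : (x * y) ^ 4 = 1) : IsPGroup 2 (Subgroup.closure ({x, y} : Set G)) := by
  by_cases hxy : x = y
  · subst hxy
    have : ({x, x} : Set G) = {x} := by simp
    rw [this, ← Subgroup.zpowers_eq_closure]
    apply IsPGroup.of_card (n := 1)
    rw [Nat.card_zpowers, hx, pow_one]
  · obtain ⟨e⟩ := Cfsg.Agent.Lib.H1.twoInv_closure_equiv_dihedral hx hy hxy
    have hdvd : orderOf (x * y) ∣ 2 ^ 2 := by
      apply orderOf_dvd_of_pow_eq_one
      simpa using h4
    obtain ⟨k, -, hk⟩ := (Nat.dvd_prime_pow Nat.prime_two).1 hdvd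
    haveI : NeZero (orderOf (x * y)) := ⟨(orderOf_pos (x * y)).ne'⟩
    apply IsPGroup.of_card (n := k + 1)
    rw [Nat.card_congr e.toEquiv, DihedralGroup.nat_card, hk, pow_succ, mul_comm]

variable (hD : IsThreeTranspositionSet D) (hconj : ∀ g : G, ∀ d ∈ D, g * d * g⁻¹ ∈ D)
include hD hconj

theorem pow_four_vProducts {t t' : G} (ht : t ∈ vProducts D) (ht' : t' ∈ vProducts D) :
    (t * t') ^ 4 = 1 := by
  have hot := orderOf_vProducts hD ht
  have hot' := orderOf_vProducts hD ht'
  have ht2 : t * t = 1 := Cfsg.Agent.Lib.H1.mul_self_eq_one_of_orderOf_eq_two hot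
  have ht'2 : t' * t' = 1 := Cfsg.Agent.Lib.H1.mul_self_eq_one_of_orderOf_eq_two hot'
  have ht'inv : t'⁻¹ = t' := inv_eq_of_mul_eq_one_right ht'2
  obtain ⟨d, v, hd, hv, hne, rfl⟩ := ht
  obtain ⟨d', v', hd', hv', hne', rfl⟩ := ht'
  -- u = t' d t'⁻¹, w = t' v t'⁻¹ are equivalent to d
  have hu : Veq D d (d' * v' * d * (d' * v')⁻¹) := veq_conj_of_veq hD hconj hd' hv' hd
  have hw : Veq D v (d' * v' * v * (d' * v')⁻¹) := veq_conj_of_veq hD hconj hd' hv' hv.1
  have hw' : Veq D d (d' * v' * v * (d' * v')⁻¹) := hv.trans hw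
  have hdv : Commute d v := hv.commute hd
  have hdu : Commute d (d' * v' * d * (d' * v')⁻¹) := hu.commute hd
  have hdw : Commute d (d' * v' * v * (d' * v')⁻¹) := hw'.commute hd
  have hvu : Commute v (d' * v' * d * (d' * v')⁻¹) := (hv.symm hd |>.trans hu).commute hv.1
  have hvw : Commute v (d' * v' * v * (d' * v')⁻¹) := hw.commute hv.1
  -- s = t' t t'⁻¹ = u w commutes with t
  have hs : d' * v' * (d * v) * (d' * v')⁻¹ =
      (d' * v' * d * (d' * v')⁻¹) * (d' * v' * v * (d' * v')⁻¹) := by group
  have hcomm : Commute (d * v) (d' * v' * (d * v) * (d' * v')⁻¹) := by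
    rw [hs]
    exact (hdu.mul_right hdw).mul_left (hvu.mul_right hvw)
  have hs2 : (d' * v' * (d * v) * (d' * v')⁻¹) * (d' * v' * (d * v) * (d' * v')⁻¹) = 1 := by
    calc (d' * v' * (d * v) * (d' * v')⁻¹) * (d' * v' * (d * v) * (d' * v')⁻¹)
        = d' * v' * ((d * v) * (d * v)) * (d' * v')⁻¹ := by group
      _ = 1 := by rw [ht2]; group
  have h2 : (d * v * (d' * v')) ^ 2 = (d * v) * (d' * v' * (d * v) * (d' * v')⁻¹) := by
    rw [pow_two, ht'inv]; group
  have : (d * v * (d' * v')) ^ 4 = ((d * v * (d' * v')) ^ 2) ^ 2 := by rw [← pow_mul]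
  rw [this, h2, pow_two]
  calc d * v * (d' * v' * (d * v) * (d' * v')⁻¹) * (d * v * (d' * v' * (d * v) * (d' * v')⁻¹))
      = d * v * ((d' * v' * (d * v) * (d' * v')⁻¹) * (d * v)) * (d' * v' * (d * v) * (d' * v')⁻¹) := by
        group
    _ = d * v * ((d * v) * (d' * v' * (d * v) * (d' * v')⁻¹)) * (d' * v' * (d * v) * (d' * v')⁻¹) := by
        rw [hcomm.eq]
    _ = (d * v * (d * v)) * ((d' * v' * (d * v) * (d' * v')⁻¹) * (d' * v' * (d * v) * (d' * v')⁻¹)) := by
        group
    _ = 1 := by rw [ht2, hs2, one_mul]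

/-- **Theorem.** Products of `Veq`-equivalent transpositions lie in `O_2(G)`. -/
theorem mul_mem_pCore_of_veq {d v : G} (hd : d ∈ D) (hv : Veq D d v) : d * v ∈ pCore 2 G := by
  by_cases hne : d = v
  · rw [← hne, sq_eq_one hD hd]
    exact Subgroup.one_mem _
  · haveI : Fact (Nat.Prime 2) := ⟨Nat.prime_two⟩
    have hK : IsPGroup 2 (Subgroup.closure (vProducts D)) := by
      apply Cfsg.Agent.Lib.H16.isPGroup_closure_of_pairwise
      · intro g x hx
        exact vProducts_conj hconj g hx
      · intro x hx y hy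
        exact isPGroup_closure_pair (orderOf_vProducts hD hx) (orderOf_vProducts hD hy)
          (pow_four_vProducts hD hconj hx hy)
    have hN : (Subgroup.closure (vProducts D)).Normal :=
      Cfsg.Agent.Lib.H16.closure_normal_of_conj_mem _ (fun g x hx => vProducts_conj hconj g hx)
    exact Cfsg.Agent.Lib.H25.le_pCore hN hK (Subgroup.subset_closure ⟨d, v, hd, hv, hne, rfl⟩)

end main

end Cfsg.Agent.Lib.H26.ThreeTrans
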