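import Mathlib

set_option autoImplicit false

namespace Cfsg.Agent.Lib.H26.APM

/-- geometric sum, defined recursively -/
def gs (x : ℕ) : ℕ → ℕ
  | 0 => 0
  | (d+1) => gs x d + x ^ d

theorem gs_spec (y : ℕ) (d : ℕ) : y * gs (y+1) d + 1 = (y+1) ^ d := by
  induction d with
  | zero => simp [gs]
  | succ d ih =>
    simp only [gs]
    rw [pow_succ]
    calc y * (gs (y+1) d + (y+1)^d) + 1 = (y * gs (y+1) d + 1) + y * (y+1)^d := by ring
      _ = (y+1)^d + y * (y+1)^d := by rw [ih]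
      _ = (y+1)^d * (y+1) := by ring

theorem gs_spec' {x : ℕ} (hx : 1 ≤ x) (d : ℕ) : (x - 1) * gs x d = x ^ d - 1 := by
  obtain ⟨y, rfl⟩ : ∃ y, x = y + 1 := ⟨x - 1, by omega⟩
  have := gs_spec y d
  simp only [Nat.add_sub_cancel]
  omega

/-- `e * y ≤ y ^ e` for `y ≥ 2`, `e ≥ 1` -/
theorem mul_le_pow {y e : ℕ} (hy : 2 ≤ y) (he : 1 ≤ e) : e * y ≤ y ^ e := by
  induction e, he using Nat.le_induction with
  | base => simp
  | succ e he ih =>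
    rw [pow_succ]
    have h1 : e * y * y ≤ y ^ e * y := Nat.mul_le_mul_right _ ih
    have h3 : e * y * 2 ≤ e * y * y := Nat.mul_le_mul_left _ hy
    have h4 : y ≤ e * y := Nat.le_mul_of_pos_left _ (by omega)
    have h2 : (e + 1) * y ≤ e * y * y := by linarith
    exact h2.trans h1

theorem two_le_pow {x d : ℕ} (hx : 2 ≤ x) (hd : 1 ≤ d) : 2 ≤ x ^ d :=
  calc 2 ≤ x := hx
    _ = x ^ 1 := by ring
    _ ≤ x ^ d := Nat.pow_le_pow_right (by omega) hd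

theorem term_le {x e d : ℕ} (hx : 2 ≤ x) (he : 1 ≤ e) (hd : 1 ≤ d) :
    e * x ^ d ≤ (x ^ e) ^ d := by
  rw [← pow_mul, mul_comm e d, pow_mul]
  exact mul_le_pow (two_le_pow hx hd) he

theorem baseA3 {x : ℕ} (hx : 2 ≤ x) (e : ℕ) (h3 : 3 ≤ e) :
    e * (1 + x) ≤ 1 + x ^ e := by
  induction e, h3 using Nat.le_induction with
  | base =>
    have : x ^ 3 = x * x * x := by ring
    nlinarith [Nat.mul_le_mul hx hx]
  | succ e h3 ih =>
    rw [pow_succ]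
    have h1 : 2 * x ^ e ≤ x ^ e * x := by
      rw [mul_comm]; exact Nat.mul_le_mul_left _ hx
    nlinarith

theorem baseA {x e : ℕ} (hx : 2 ≤ x) (he : 1 ≤ e) (hex : ¬ (x = 2 ∧ e = 2)) :
    e * (1 + x) ≤ 1 + x ^ e := by
  rcases Nat.lt_or_ge e 3 with h3 | h3
  · interval_cases e
    · simp
    · have hx3 : 3 ≤ x := by
        rcases Nat.lt_or_ge x 3 with h | h
        · exfalso; apply hex; omega
        · exact h
      nlinarith
  · exact baseA3 hx e h3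

theorem keyA22 (d : ℕ) (hd3 : 3 ≤ d) : 2 * gs 2 d ≤ gs (2 ^ 2) d := by
  induction d, hd3 using Nat.le_induction with
  | base => simp [gs]
  | succ d hd3 ih =>
    simp only [gs]
    have : 2 * 2 ^ d ≤ (2 ^ 2) ^ d := term_le (le_refl 2) (by norm_num) (by omega)
    linarith

theorem keyAgen {x e : ℕ} (hx : 2 ≤ x) (he : 1 ≤ e) (h22 : ¬ (x = 2 ∧ e = 2)) (d : ℕ)
    (hd : 2 ≤ d) : e * gs x d ≤ gs (x ^ e) d := by
  induction d, hd using Nat.le_induction with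
  | base =>
    simp only [gs, pow_zero, pow_one, zero_add]
    exact baseA hx he h22
  | succ d hd ih =>
    simp only [gs]
    have : e * x ^ d ≤ (x ^ e) ^ d := term_le hx he (by omega)
    linarith

theorem keyA {x e d : ℕ} (hx : 2 ≤ x) (he : 1 ≤ e) (hd : 2 ≤ d)
    (hex : ¬ (d = 2 ∧ x = 2 ∧ e = 2)) : e * gs x d ≤ gs (x ^ e) d := by
  by_cases h22 : x = 2 ∧ e = 2
  · obtain ⟨rfl, rfl⟩ := h22
    have hd3 : 3 ≤ d := by
      rcases Nat.lt_or_ge d 3 with h | h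
      · exfalso; apply hex; omega
      · exact h
    exact keyA22 d hd3
  · exact keyAgen hx he h22 d hd

/-- T1a -/
theorem arithA {q₀ e d K : ℕ} (hq : 2 ≤ q₀) (he : 1 ≤ e) (hd : 2 ≤ d)
    (hK : (q₀ - 1) * K ≤ q₀ ^ d - 1) (hex : ¬ (d = 2 ∧ q₀ = 2 ∧ e = 2)) :
    (q₀ ^ e - 1) * (e * K) ≤ (q₀ ^ e) ^ d - 1 := by
  have hX : 1 ≤ q₀ ^ e := Nat.one_le_pow _ _ (by omega)
  rw [← gs_spec' (by omega) d] at hK
  have hK' : K ≤ gs q₀ d := Nat.le_of_mul_le_mul_left hK (by omega)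
  rw [← gs_spec' hX d]
  apply Nat.mul_le_mul_left
  exact (Nat.mul_le_mul_left e hK').trans (keyA hq he hd hex)

/-- `2 * e * y ≤ y ^ e` for `y ≥ 4`, `e ≥ 2` -/
theorem two_mul_le_pow {y : ℕ} (hy : 4 ≤ y) (e : ℕ) (he : 2 ≤ e) : 2 * e * y ≤ y ^ e := by
  induction e, he using Nat.le_induction with
  | base =>
    rw [pow_two]
    nlinarith
  | succ e he ih =>
    rw [pow_succ]
    have h1 : 2 * e * y * y ≤ y ^ e * y := Nat.mul_le_mul_right _ ih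
    have h3 : 2 * e * y * 4 ≤ 2 * e * y * y := Nat.mul_le_mul_left _ hy
    have h2 : 2 * (e + 1) * y ≤ 2 * e * y * y := by nlinarith
    exact h2.trans h1

theorem termB_le {x e d : ℕ} (hx : 2 ≤ x) (he : 2 ≤ e) (hd : 2 ≤ d) :
    2 * e * x ^ d ≤ (x ^ e) ^ d := by
  rw [← pow_mul, mul_comm e d, pow_mul]
  have h4 : 4 ≤ x ^ d :=
    calc 4 = 2 ^ 2 := by norm_num
      _ ≤ x ^ 2 := Nat.pow_le_pow_left hx 2
      _ ≤ x ^ d := Nat.pow_le_pow_right (by omega) hd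
  exact two_mul_le_pow h4 e he

theorem baseB3 {x : ℕ} (hx : 2 ≤ x) (e : ℕ) (he : 3 ≤ e) :
    2 * e * (1 + x + x ^ 2) ≤ 1 + x ^ e + (x ^ e) ^ 2 := by
  induction e, he using Nat.le_induction with
  | base =>
    have h3 : 4 * x ≤ x ^ 3 := by
      have : x ^ 3 = x * x * x := by ring
      nlinarith [Nat.mul_le_mul hx hx]
    have h6 : 16 * x ^ 2 ≤ (x ^ 3) ^ 2 := by
      have : 4 * x * (4 * x) ≤ x ^ 3 * x ^ 3 := Nat.mul_le_mul h3 h3
      nlinarith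
    nlinarith
  | succ e he ih =>
    have h1 : 2 * x ^ e ≤ x ^ (e + 1) := by
      rw [pow_succ, mul_comm]; exact Nat.mul_le_mul_left _ hx
    have h2 : 2 * (x ^ e) ^ 2 ≤ (x ^ (e + 1)) ^ 2 := by
      have : 2 * x ^ e * (2 * x ^ e) ≤ x ^ (e + 1) * x ^ (e + 1) := Nat.mul_le_mul h1 h1
      nlinarith
    have hT : 7 ≤ 1 + x + x ^ 2 := by nlinarith
    nlinarith

theorem baseB {x e : ℕ} (hx : 2 ≤ x) (he : 2 ≤ e) (h : 3 ≤ e ∨ 4 ≤ x) :
    2 * e * (1 + x + x ^ 2) ≤ 1 + x ^ e + (x ^ e) ^ 2 := by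
  rcases Nat.lt_or_ge e 3 with h3 | h3
  · have he2 : e = 2 := by omega
    subst he2
    have hx4 : 4 ≤ x := by
      rcases h with h | h
      · omega
      · exact h
    have h16 : 16 ≤ x ^ 2 := by nlinarith
    nlinarith
  · exact baseB3 hx e h3

theorem keyB {x e : ℕ} (hx : 2 ≤ x) (he : 2 ≤ e) (h : 3 ≤ e ∨ 4 ≤ x) (d : ℕ) (hd : 3 ≤ d) :
    2 * e * gs x d ≤ gs (x ^ e) d := by
  induction d, hd using Nat.le_induction with
  | base =>
    simp only [gs, pow_zero, pow_one, zero_add]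
    exact baseB hx he h
  | succ d hd ih =>
    simp only [gs]
    have : 2 * e * x ^ d ≤ (x ^ e) ^ d := termB_le hx he (by omega)
    linarith

/-- T1b -/
theorem arithB {q₁ e₂ d K : ℕ} (hq : 2 ≤ q₁) (he : 2 ≤ e₂) (hd : 3 ≤ d)
    (hK : (q₁ - 1) * K ≤ q₁ ^ d - 1) (h : 3 ≤ e₂ ∨ 4 ≤ q₁) :
    (q₁ ^ e₂ - 1) * (2 * e₂ * K) ≤ (q₁ ^ e₂) ^ d - 1 := by
  have hX : 1 ≤ q₁ ^ e₂ := Nat.one_le_pow _ _ (by omega)
  rw [← gs_spec' (by omega) d] at hK
  have hK' : K ≤ gs q₁ d := Nat.le_of_mul_le_mul_left hK (by omega)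
  rw [← gs_spec' hX d]
  apply Nat.mul_le_mul_left
  exact (Nat.mul_le_mul_left (2 * e₂) hK').trans (keyB hq he h d hd)

/-- T1c -/
theorem arithU {q₀ d N : ℕ} (hq : 2 ≤ q₀) (hd : 3 ≤ d) (hN : (q₀ - 1) * N ≤ q₀ ^ (d + 1))
    (hex : ¬ (d = 3 ∧ q₀ = 2)) :
    (q₀ ^ 2 - 1) * (2 * N) ≤ (q₀ ^ 2) ^ d - 1 := by
  obtain ⟨y, rfl⟩ : ∃ y, q₀ = y + 1 := ⟨q₀ - 1, by omega⟩
  obtain ⟨k, rfl⟩ : ∃ k, d = k + 3 := ⟨d - 3, by omega⟩
  simp only [Nat.add_sub_cancel] at hN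
  have hsq : (y + 1) ^ 2 - 1 = y * (y + 2) := by
    have : (y + 1) ^ 2 = y * (y + 2) + 1 := by ring
    omega
  rw [hsq]
  set a := (y + 1) ^ (k + 3 + 1) with ha
  set b := (y + 1) ^ (k + 2) with hb
  have hab : ((y + 1) ^ 2) ^ (k + 3) = a * b := by
    rw [ha, hb, ← pow_mul, ← pow_add]; congr 1; ring
  have ha1 : 1 ≤ a := Nat.one_le_pow _ _ (by omega)
  have hb1 : 2 * (y + 2) + 1 ≤ b := by
    rcases Nat.lt_or_ge y 2 with h | h
    · have hy1 : y = 1 := by omega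
      subst hy1
      have hk : 1 ≤ k := by
        rcases Nat.eq_zero_or_pos k with h0 | h0
        · exfalso; apply hex; subst h0; simp
        · exact h0
      have : (1 + 1) ^ 3 ≤ (1 + 1) ^ (k + 2) := Nat.pow_le_pow_right (by norm_num) (by omega)
      rw [hb]; norm_num at this ⊢; omega
    · have h1 : (y + 1) ^ 2 ≤ (y + 1) ^ (k + 2) := Nat.pow_le_pow_right (by omega) (by omega)
      have h2 : 2 * (y + 2) + 1 ≤ (y + 1) ^ 2 := by nlinarith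
      exact h2.trans h1
  rw [hab]
  have h1 : y * (y + 2) * (2 * N) = 2 * (y + 2) * (y * N) := by ring
  rw [h1]
  have h2 : 2 * (y + 2) * (y * N) ≤ 2 * (y + 2) * a := Nat.mul_le_mul_left _ hN
  have h3 : (2 * (y + 2) + 1) * a ≤ b * a := Nat.mul_le_mul_right _ hb1
  have h4 : 2 * (y + 2) * a + 1 ≤ a * b := by nlinarith
  omega

end Cfsg.Agent.Lib.H26.APM
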