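import Mathlib

set_option autoImplicit false

open Polynomial

namespace Cfsg.Agent.Lib.H26.APM

theorem fixed_of_mem_zpowers {F : Type*} [Field F] (σ : F ≃+* F) (x : F) (hx : σ x = x)
    (g : F ≃+* F) (hg : g ∈ Subgroup.zpowers σ) : g x = x := by
  have hle : Subgroup.zpowers σ ≤ MulAction.stabilizer (F ≃+* F) x := by
    rw [Subgroup.zpowers_le]
    exact hx
  exact hle hg

/-- T3a -/
theorem exists_fixed_subfield {F : Type*} [Field F] [Fintype F] (σ : F ≃+* F) :
    ∃ K₀ : Subfield F, (∀ x, x ∈ K₀ ↔ σ x = x) ∧ Nat.card K₀ ^ orderOf σ = Fintype.card F := by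
  classical
  refine ⟨FixedPoints.subfield (Subgroup.zpowers σ) F, ?_, ?_⟩
  · intro x
    constructor
    · intro hx
      exact hx ⟨σ, Subgroup.mem_zpowers σ⟩
    · intro hx g
      exact fixed_of_mem_zpowers σ x hx g.1 g.2
  · haveI : Finite (F ≃+* F) :=
      Finite.of_injective (fun g : F ≃+* F => (g : F → F)) DFunLike.coe_injective
    haveI : Fintype (Subgroup.zpowers σ) := Fintype.ofFinite _
    have h1 := FixedPoints.finrank_eq_card (Subgroup.zpowers σ) F
    have h2 : Nat.card F =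
        Nat.card (FixedPoints.subfield (Subgroup.zpowers σ) F) ^
          Module.finrank (FixedPoints.subfield (Subgroup.zpowers σ) F) F :=
      Module.natCard_eq_pow_finrank
    rw [h1, ← Nat.card_eq_fintype_card, Nat.card_zpowers] at h2
    rw [← Nat.card_eq_fintype_card, h2]

/-- T3b -/
theorem lift_of_map_eq {F : Type*} [Field F] (σ : F ≃+* F) (K₀ : Subfield F)
    (hK : ∀ x, x ∈ K₀ ↔ σ x = x) (f : F[X]) (hf : f.map (σ : F →+* F) = f) :
    ∃ f₀ : Polynomial K₀, f₀.map K₀.subtype = f := by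
  rw [← Polynomial.mem_lifts, Polynomial.lifts_iff_coeff_lifts]
  intro n
  have h1 : σ (f.coeff n) = f.coeff n := by
    have := congrArg (fun p => p.coeff n) hf
    simpa [Polynomial.coeff_map] using this
  exact ⟨⟨f.coeff n, (hK _).2 h1⟩, rfl⟩

end Cfsg.Agent.Lib.H26.APM
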