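import Mathlib

set_option autoImplicit false

open Polynomial Matrix

namespace Cfsg.Agent.Lib.H26.APM

/-- every power of `A` lies in the `K₀`-span of `A^i`, `i < d`, when the characteristic
polynomial of `A` has coefficients in `K₀`. -/
theorem pow_mem_span₀ {K₀ F : Type*} [Field K₀] [Field F] [Algebra K₀ F] {d : ℕ} (hd : 1 ≤ d)
    (A : Matrix (Fin d) (Fin d) F) (χ₀ : K₀[X])
    (hχ : A.charpoly = χ₀.map (algebraMap K₀ F)) (k : ℕ) :
    A ^ k ∈ LinearMap.range (Fintype.linearCombination K₀ (fun i : Fin d => A ^ (i : ℕ))) := by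
  have : Nonempty (Fin d) := ⟨⟨0, hd⟩⟩
  have hmon : χ₀.Monic := by
    apply Polynomial.monic_of_injective (algebraMap K₀ F).injective
    rw [← hχ]; exact Matrix.charpoly_monic A
  have hnd : χ₀.natDegree = d := by
    have h1 := Matrix.charpoly_natDegree_eq_dim A
    rw [hχ, Polynomial.natDegree_map, Fintype.card_fin] at h1
    exact h1
  have hroot : aeval A χ₀ = 0 := by
    rw [← Polynomial.aeval_map_algebraMap F A χ₀, ← hχ]
    exact Matrix.aeval_self_charpoly A
  set p : K₀[X] := (X ^ k) %ₘ χ₀ with hp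
  have h1 : aeval A p = A ^ k := by
    rw [hp, Polynomial.aeval_modByMonic_eq_self_of_root hroot]
    simp
  have hdeg : p.natDegree < d := by
    have hne : χ₀ ≠ 1 := by
      intro h
      rw [h] at hnd
      simp at hnd
      omega
    have := Polynomial.natDegree_modByMonic_lt (X ^ k) hmon hne
    rwa [hnd] at this
  rw [Polynomial.aeval_eq_sum_range' hdeg] at h1
  refine ⟨fun i => p.coeff i, ?_⟩
  rw [Fintype.linearCombination_apply, ← h1,
    Fin.sum_univ_eq_sum_range (fun i => p.coeff i • A ^ i) d]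

theorem smul_unit_eq_zero₀ {F : Type*} [Field F] {d : ℕ} (hd : 1 ≤ d) (B : GL (Fin d) F) (c : F)
    (h : c • (B : Matrix (Fin d) (Fin d) F) = 0) : c = 0 := by
  have h2 : c • ((B : Matrix (Fin d) (Fin d) F) * ((B⁻¹ : GL (Fin d) F) : Matrix (Fin d) (Fin d) F)) = 0 := by
    rw [← Matrix.smul_mul, h, Matrix.zero_mul]
  rw [← Units.val_mul, mul_inv_cancel, Units.val_one] at h2
  have := congrFun (congrFun h2 ⟨0, hd⟩) ⟨0, hd⟩
  simpa using this

theorem scalar_val₀ {F : Type*} [Field F] {d : ℕ} (u : Fˣ) :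
    ((Matrix.GeneralLinearGroup.scalar (Fin d) u : GL (Fin d) F) : Matrix (Fin d) (Fin d) F)
      = (u : F) • (1 : Matrix (Fin d) (Fin d) F) := by
  rw [Matrix.GeneralLinearGroup.coe_scalar, Matrix.scalar_apply, Matrix.smul_one_eq_diagonal]

/-- the subgroup of `K₀ˣ`-scalar matrices -/
noncomputable def scal₀ (K₀ F : Type*) [Field K₀] [Field F] [Algebra K₀ F] (d : ℕ) :
    Subgroup (GL (Fin d) F) :=
  ((Matrix.GeneralLinearGroup.scalar (Fin d)).comp
    (Units.map ((algebraMap K₀ F : K₀ →+* F) : K₀ →* F))).range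

instance scal₀_normal (K₀ F : Type*) [Field K₀] [Field F] [Algebra K₀ F] (d : ℕ) :
    (scal₀ K₀ F d).Normal := by
  constructor
  rintro _ ⟨c, rfl⟩ g
  have hc : (Matrix.GeneralLinearGroup.scalar (Fin d)
      (Units.map ((algebraMap K₀ F : K₀ →+* F) : K₀ →* F) c)) ∈ Subgroup.center (GL (Fin d) F) := by
    rw [Matrix.GeneralLinearGroup.center_eq_range_scalar]
    exact ⟨_, rfl⟩
  rw [Subgroup.mem_center_iff] at hc
  have : g * (Matrix.GeneralLinearGroup.scalar (Fin d)
      (Units.map ((algebraMap K₀ F : K₀ →+* F) : K₀ →* F) c)) * g⁻¹ =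
      (Matrix.GeneralLinearGroup.scalar (Fin d)
      (Units.map ((algebraMap K₀ F : K₀ →+* F) : K₀ →* F) c)) := by
    rw [hc g, mul_inv_cancel_right]
  simp only [MonoidHom.comp_apply]
  rw [this]
  exact ⟨c, rfl⟩

/-- T2 -/
theorem pigeon {K₀ F : Type*} [Field K₀] [Fintype K₀] [Field F] [Fintype F] [Algebra K₀ F] {d : ℕ}
    (hd : 1 ≤ d) (N : GL (Fin d) F) (χ₀ : K₀[X])
    (hχ : (N : Matrix (Fin d) (Fin d) F).charpoly = χ₀.map (algebraMap K₀ F)) :
    ∃ K : ℕ, 1 ≤ K ∧ (Fintype.card K₀ - 1) * K ≤ Fintype.card K₀ ^ d - 1 ∧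
      ∃ c : K₀, (N : Matrix (Fin d) (Fin d) F) ^ K = (algebraMap K₀ F c) • (1 : Matrix (Fin d) (Fin d) F) := by
  classical
  set Z := scal₀ K₀ F d with hZ
  set n := orderOf (QuotientGroup.mk N : GL (Fin d) F ⧸ Z) with hn
  set M : Matrix (Fin d) (Fin d) F := (N : Matrix (Fin d) (Fin d) F) with hM
  have hnpos : 0 < n := orderOf_pos _
  refine ⟨n, hnpos, ?_, ?_⟩
  · let f := Fintype.linearCombination K₀ (fun i : Fin d => M ^ (i : ℕ))
    let T := LinearMap.range f
    have hT : Nat.card T ≤ Fintype.card K₀ ^ d := by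
      have := Nat.card_le_card_of_surjective f.rangeRestrict f.surjective_rangeRestrict
      have h2 : Nat.card (Fin d → K₀) = Fintype.card K₀ ^ d := by simp
      rwa [h2] at this
    let ψ : Option (K₀ˣ × Fin n) → T := fun o => match o with
      | none => 0
      | some (c, k) => ⟨(c : K₀) • M ^ (k : ℕ), T.smul_mem _ (pow_mem_span₀ hd _ χ₀ hχ _)⟩
    have hsm : ∀ (c : K₀) (B : Matrix (Fin d) (Fin d) F), c • B = (algebraMap K₀ F c) • B := by
      intro c B
      rw [algebraMap_smul]
    have hψ : Function.Injective ψ := by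
      rintro (_ | ⟨c, j⟩) (_ | ⟨c', k⟩) h
      · rfl
      · exfalso
        have h1 : (c' : K₀) • M ^ (k : ℕ) = 0 := by
          have := congrArg Subtype.val h
          exact this.symm
        rw [hsm, hM, ← Units.val_pow_eq_pow_val] at h1
        have := smul_unit_eq_zero₀ hd _ _ h1
        rw [map_eq_zero] at this
        exact c'.ne_zero this
      · exfalso
        have h1 : (c : K₀) • M ^ (j : ℕ) = 0 := by
          have := congrArg Subtype.val h
          exact this
        rw [hsm, hM, ← Units.val_pow_eq_pow_val] at h1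
        have := smul_unit_eq_zero₀ hd _ _ h1
        rw [map_eq_zero] at this
        exact c.ne_zero this
      · have h1 : (c : K₀) • M ^ (j : ℕ) = (c' : K₀) • M ^ (k : ℕ) :=
          congrArg Subtype.val h
        have h2 : Matrix.GeneralLinearGroup.scalar (Fin d)
              (Units.map ((algebraMap K₀ F : K₀ →+* F) : K₀ →* F) c) * N ^ (j : ℕ)
            = Matrix.GeneralLinearGroup.scalar (Fin d)
              (Units.map ((algebraMap K₀ F : K₀ →+* F) : K₀ →* F) c') * N ^ (k : ℕ) := by
          apply Units.ext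
          simp only [Units.val_mul, Units.val_pow_eq_pow_val]
          rw [hsm, hsm] at h1
          rw [scalar_val₀, scalar_val₀, Matrix.smul_mul, Matrix.smul_mul, Matrix.one_mul,
            Matrix.one_mul]
          exact h1
        have hc : ∀ u : K₀ˣ, (QuotientGroup.mk (Matrix.GeneralLinearGroup.scalar (Fin d)
            (Units.map ((algebraMap K₀ F : K₀ →+* F) : K₀ →* F) u)) : GL (Fin d) F ⧸ Z) = 1 := by
          intro u
          rw [QuotientGroup.eq_one_iff]
          exact ⟨u, rfl⟩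
        have h3 := congrArg (QuotientGroup.mk : GL (Fin d) F → GL (Fin d) F ⧸ Z) h2
        rw [QuotientGroup.mk_mul, QuotientGroup.mk_mul, hc, hc, one_mul, one_mul, QuotientGroup.mk_pow,
          QuotientGroup.mk_pow] at h3
        have hjk : (j : ℕ) = k := pow_injOn_Iio_orderOf (Set.mem_Iio.2 j.2) (Set.mem_Iio.2 k.2) h3
        have hjk' : j = k := Fin.ext hjk
        subst hjk'
        have h4 : ((c : K₀) - c') • M ^ (j : ℕ) = 0 := by rw [sub_smul, h1, sub_self]
        rw [hsm, hM, ← Units.val_pow_eq_pow_val] at h4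
        have h5 := smul_unit_eq_zero₀ hd _ _ h4
        rw [map_eq_zero] at h5
        have h6 : c = c' := Units.ext (sub_eq_zero.1 h5)
        rw [h6]
    have h5 := Nat.card_le_card_of_injective ψ hψ
    have h6 : Nat.card (Option (K₀ˣ × Fin n)) = (Fintype.card K₀ - 1) * n + 1 := by
      simp [Nat.card_eq_fintype_card, Fintype.card_units]
    have h7 : 0 < Fintype.card K₀ ^ d := pow_pos Fintype.card_pos d
    omega
  · have h1 : (QuotientGroup.mk N : GL (Fin d) F ⧸ Z) ^ n = 1 := pow_orderOf_eq_one _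
    rw [← QuotientGroup.mk_pow, QuotientGroup.eq_one_iff] at h1
    obtain ⟨c, hc⟩ := h1
    refine ⟨(c : K₀), ?_⟩
    have := congrArg Units.val hc
    rw [Units.val_pow_eq_pow_val] at this
    rw [← this, MonoidHom.comp_apply, scalar_val₀]
    rfl

end Cfsg.Agent.Lib.H26.APM
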