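import Mathlib

set_option autoImplicit false

open Polynomial Matrix

namespace Cfsg.Agent.Lib.H26.APM

theorem pow_eq_smul_of_dvd {F : Type*} [Field F] {n : ℕ} (h : Matrix (Fin n) (Fin n) F) (K : ℕ) (s : F)
    (hd : h.charpoly ∣ X ^ K - C s) : h ^ K = s • (1 : Matrix (Fin n) (Fin n) F) := by
  obtain ⟨g, hg⟩ := hd
  have h1 : aeval h (X ^ K - C s) = 0 := by
    rw [hg, map_mul, Matrix.aeval_self_charpoly, zero_mul]
  rw [map_sub, map_pow, aeval_X, aeval_C, sub_eq_zero] at h1
  rw [h1, Algebra.algebraMap_eq_smul_one]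

theorem poly_id_a {R : Type*} [CommRing R] (X A : R) (h2 : (2 : R) = 0) (hA : A ^ 3 = 1) :
    X ^ 4 - A = (X ^ 3 + A * X ^ 2 + A ^ 2 * X + 1) * (X + A) := by
  grind

theorem poly_id_b {R : Type*} [CommRing R] (X A B : R) (h2 : (2 : R) = 0) (hA : A ^ 3 = 1)
    (hB : B ^ 2 + B + 1 = 0) :
    X ^ 6 - 1 = (X ^ 3 + A * X ^ 2 + B * A ^ 2 * X + B) * ((X + A) * (X ^ 2 + A ^ 2 * B ^ 2)) := by
  grind

/-- T4 -/
theorem case34 {F : Type*} [Field F] [Fintype F] (hF : Fintype.card F = 4) (σ : F ≃+* F)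
    (hσ : ∀ a, σ a = a ^ 2) (h : Matrix (Fin 3) (Fin 3) F) (u : F) (hu : u ≠ 0)
    (hχ : h.charpoly.reverse = C u * h.charpoly.map (σ : F →+* F)) :
    ∃ K : ℕ, 1 ≤ K ∧ K ≤ 10 ∧ ∃ s : F, h ^ K = s • (1 : Matrix (Fin 3) (Fin 3) F) := by
  classical
  have h3 : ∀ x : F, x ≠ 0 → x ^ 3 = 1 := fun x hx => by
    have := FiniteField.pow_card_sub_one_eq_one x hx
    rwa [hF] at this
  have h44 : (4 : F) = 0 := by
    have := card_nsmul_eq_zero (G := F) (x := (1 : F))
    rw [hF, nsmul_eq_mul, mul_one] at this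
    exact_mod_cast this
  have h2 : (2 : F) = 0 := by
    have : (2 : F) ^ 2 = 0 := by
      rw [← h44]; norm_num
    exact pow_eq_zero_iff (by norm_num) |>.1 this
  have h2' : (2 : F[X]) = 0 := by
    have := congrArg (C : F → F[X]) h2
    rw [map_zero] at this
    rw [← this]
    exact (map_ofNat (C : F →+* F[X]) 2).symm
  set χ := h.charpoly with hχdef
  have hmon : χ.Monic := Matrix.charpoly_monic h
  have hdeg : χ.natDegree = 3 := by
    rw [hχdef, Matrix.charpoly_natDegree_eq_dim, Fintype.card_fin]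
  have hc3 : χ.coeff 3 = 1 := by
    have := hmon.coeff_natDegree
    rwa [hdeg] at this
  have e0 := congrArg (fun p => p.coeff 0) hχ
  have e2 := congrArg (fun p => p.coeff 2) hχ
  have e3 := congrArg (fun p => p.coeff 3) hχ
  simp only [Polynomial.coeff_reverse, hdeg, Polynomial.coeff_C_mul, Polynomial.coeff_map,
    RingEquiv.coe_toRingHom, hσ] at e0 e2 e3
  rw [Polynomial.revAt_le (by norm_num)] at e0 e2 e3
  norm_num at e0 e2 e3
  rw [hc3] at e0 e3
  -- e0 : 1 = u * c^2 ; e2 : b = u * a^2 ; e3 : c = u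
  rw [one_pow, mul_one] at e3
  set a := χ.coeff 2 with ha
  set b := χ.coeff 1 with hb
  set c := χ.coeff 0 with hc
  have hform : χ = X ^ 3 + C a * X ^ 2 + C c * C a ^ 2 * X + C c := by
    conv_lhs => rw [hmon.as_sum, hdeg]
    simp only [Finset.sum_range_succ, Finset.sum_range_zero, zero_add, pow_zero, mul_one, pow_one]
    rw [← ha, ← hb, ← hc, e2, ← e3]
    simp only [map_mul, map_pow]
    ring
  have hcne : c ≠ 0 := by rw [e3]; simpa using hu
  by_cases ha0 : a = 0
  · refine ⟨3, by norm_num, by norm_num, -c, ?_⟩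
    apply pow_eq_smul_of_dvd
    rw [← hχdef, hform, ha0]
    simp
  · have hA : (C a : F[X]) ^ 3 = 1 := by rw [← C_pow, h3 a ha0, C_1]
    by_cases hc1 : c = 1
    · refine ⟨4, by norm_num, by norm_num, a, ?_⟩
      apply pow_eq_smul_of_dvd
      rw [← hχdef, hform, hc1]
      refine ⟨X + C a, ?_⟩
      have := poly_id_a (X : F[X]) (C a) h2' hA
      rw [this]
      simp
    · refine ⟨6, by norm_num, by norm_num, 1, ?_⟩
      apply pow_eq_smul_of_dvd
      rw [← hχdef, hform]
      have hcc : c ^ 2 + c + 1 = 0 := by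
        have h1 : (c - 1) * (c ^ 2 + c + 1) = 0 := by
          have := h3 c hcne
          ring_nf
          rw [this]; ring
        rcases mul_eq_zero.1 h1 with h | h
        · exact absurd (sub_eq_zero.1 h) hc1
        · exact h
      have hB : (C c : F[X]) ^ 2 + C c + 1 = 0 := by
        have := congrArg (C : F → F[X]) hcc
        simpa using this
      refine ⟨(X + C a) * (X ^ 2 + C a ^ 2 * C c ^ 2), ?_⟩
      have := poly_id_b (X : F[X]) (C a) (C c) h2' hA hB
      rw [C_1, this]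

end Cfsg.Agent.Lib.H26.APM
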