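/-
Aschbacher's theorem, linear case (S5630 project), module M8: shared definition (helper26).
`Components H t L`: the "components" of a non-abelian minimal normal subgroup modulo scalars.
-/
import Cfsg.Agent.Lib.Lead.AschDefs

set_option autoImplicit false

namespace Cfsg.Agent.Lib.H26.Asch

open Cfsg Cfsg.Geo Cfsg.Agent.Lib.Lead.Asch
open scoped MatrixGroups Matrix Kronecker

variable {F : Type*} [Field F] [Fintype F] {n : ℕ}

/-- Output of M8.1: the "components" of a non-abelian minimal normal subgroup modulo scalars. -/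
structure Components (H : Subgroup (GL (Fin n) F)) (t : ℕ) (L : Fin t → Subgroup (GL (Fin n) F)) :
    Prop where
  pos : 0 < t
  le : ∀ i, L i ≤ H
  perfect : ∀ i, ⁅L i, L i⁆ = L i
  comm : ∀ i j, i ≠ j → ∀ x ∈ L i, ∀ y ∈ L j, x * y = y * x
  perm : ∀ h ∈ H, ∃ σ : Equiv.Perm (Fin t), ∀ i, (L i).map (MulAut.conj h).toMonoidHom = L (σ i)
  trans : ∀ i j, ∃ h ∈ H, (L i).map (MulAut.conj h).toMonoidHom = L j
  not_scal : ∀ i, ¬ L i ≤ scalars (Fin n) F
  simple : ∀ i, IsSimpleGroup (L i ⧸ (scalars (Fin n) F).subgroupOf (L i))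
  nonab : ∀ i, ¬ IsMulCommutative (L i ⧸ (scalars (Fin n) F).subgroupOf (L i))

end Cfsg.Agent.Lib.H26.Asch
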