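/-
Aschbacher's theorem for the orthogonal groups of a quadratic form in EVEN dimension, ALL q (EO project, rows
S5826 S5847 S5850 S5871 S5874): class-by-class predicates.  (helper26)
`Q` a non-degenerate quadratic form on `F^ι`, `f = QuadraticMap.polar Q`, `I = isometryGroup F Q`; every
predicate says `H ≤ X` for the GL-level member `X` (the class member is `X ⊓ I`, resp. `X ⊓ omegaGL Q`).
The predicates are kept as close as possible to the disjuncts of the five rows.  New compared with the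
odd-dimensional case (`Lib/H24/AschODefs`): q even (non-singular point `EC1c`; `Q` is not determined by `f`, so
the classes 3, 4, 7 carry the condition on `Q` that phase 1 gets for free from the normal subgroup),
totally singular pairs `EC2b`, fields of unitary kind `EC3b`, symplectic ⊗ symplectic `EC4a` / `EC7a`,
class 6 `EC6`, and the scalar `ζ` in class 5.
-/
import Cfsg.Agent.Lib.Lead.AschDefs2

set_option autoImplicit false

namespace Cfsg.Agent.Lib.H26.AschE

open Cfsg Cfsg.Geo Cfsg.Agent.Lib.Lead.Asch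
open scoped MatrixGroups Matrix Kronecker

variable {ι : Type} [Fintype ι] [DecidableEq ι] {F : Type*} [Field F] [Fintype F]

/-- class 1, totally singular subspace. -/
def EC1a (Q : (ι → F) → F) (H : Subgroup (GL ι F)) : Prop :=
  ∃ W : Submodule F (ι → F), W ≠ ⊥ ∧ IsTotallySingularQuad Q W ∧ H ≤ subspaceStabilizer W

/-- class 1, non-degenerate subspace. -/
def EC1b (Q : (ι → F) → F) (H : Subgroup (GL ι F)) : Prop :=
  ∃ W : Submodule F (ι → F), W ≠ ⊥ ∧ W ≠ ⊤ ∧ IsNondegenerateOn (QuadraticMap.polar Q) W ∧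
    H ≤ subspaceStabilizer W

/-- class 1, `q` even, non-singular point. -/
def EC1c (Q : (ι → F) → F) (H : Subgroup (GL ι F)) : Prop :=
  ¬ Odd (Fintype.card F) ∧ ∃ v : ι → F, Q v ≠ 0 ∧ H ≤ subspaceStabilizer (Submodule.span F {v})

/-- class 2, pairwise orthogonal, pairwise isometric non-degenerate blocks of dimension `k ≥ 1` (lines included,
over any field: phase 2 decides what to do with lines over a non-prime field). -/
def EC2a (Q : (ι → F) → F) (H : Subgroup (GL ι F)) : Prop :=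
  ∃ (t k : ℕ) (D : Fin t → Submodule F (ι → F)), IsOrthogonalMDecomposition Q k D ∧
    H ≤ decompositionStabilizer D

/-- class 2, a pair of complementary totally singular subspaces. -/
def EC2b (Q : (ι → F) → F) (H : Subgroup (GL ι F)) : Prop :=
  ∃ (m : ℕ) (D : Fin 2 → Submodule F (ι → F)), IsMDecomposition m D ∧
    (∀ i, IsTotallySingularQuad Q (D i)) ∧ H ≤ decompositionStabilizer D

/-- class 3, self-adjoint field of prime degree `r` (`f` is the trace of a symmetric `K`-bilinear form; for `q`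
even that form is alternating, which is what the extra clause says). -/
def EC3a (Q : (ι → F) → F) (H : Subgroup (GL ι F)) : Prop :=
  ∃ (r : ℕ) (K : Subalgebra F (Matrix ι ι F)), r.Prime ∧ IsFieldSubalgebra r K ∧
    IsSelfAdjointFor (QuadraticMap.polar Q) K ∧
    (¬ Odd (Fintype.card F) → ∀ k ∈ K, ∀ v : ι → F, QuadraticMap.polar Q (k *ᵥ v) v = 0) ∧
    H ≤ subalgebraNormalizer K

/-- class 3, field of degree 2 of unitary kind (the adjoint is the non-trivial automorphism of `K`; `Q` is the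
trace-free part of a unitary form over `K`: every element of `K` is a similitude of `Q`). -/
def EC3b (Q : (ι → F) → F) (H : Subgroup (GL ι F)) : Prop :=
  ∃ K : Subalgebra F (Matrix ι ι F), IsFieldSubalgebra 2 K ∧ IsAdjointClosedFor (QuadraticMap.polar Q) K ∧
    ¬ IsSelfAdjointFor (QuadraticMap.polar Q) K ∧
    (∀ k ∈ K, ∃ c : F, ∀ v : ι → F, Q (k *ᵥ v) = c * Q v) ∧ H ≤ subalgebraNormalizer K

/-- class 4, symplectic ⊗ symplectic (all `q`), `Q` vanishing on the pure tensors. -/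
def EC4a (Q : (ι → F) → F) (H : Subgroup (GL ι F)) : Prop :=
  ∃ (n₁ n₂ : ℕ) (e : ι ≃ Fin n₁ × Fin n₂) (P : GL ι F)
    (f₁ : (Fin n₁ → F) → (Fin n₁ → F) → F) (f₂ : (Fin n₂ → F) → (Fin n₂ → F) → F),
    2 ≤ n₁ ∧ n₁ < n₂ ∧ IsSymplecticForm f₁ ∧ IsSymplecticForm f₂ ∧
    IsTensorFormStructure id (QuadraticMap.polar Q) f₁ f₂ e P ∧
    (∀ (x₁ : Fin n₁ → F) (x₂ : Fin n₂ → F),
      Q ((P : Matrix ι ι F) *ᵥ ((fun a : Fin n₁ × Fin n₂ => x₁ a.1 * x₂ a.2) ∘ e)) = 0) ∧
    H ≤ tensorProductSubgroup n₁ n₂ e P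

/-- class 4, symmetric ⊗ symmetric, `q` odd, both factors of dimension at least 3 (`n₁ = n₂` allowed: two
non-similar forms of the same dimension). -/
def EC4b (Q : (ι → F) → F) (H : Subgroup (GL ι F)) : Prop :=
  ∃ (n₁ n₂ : ℕ) (e : ι ≃ Fin n₁ × Fin n₂) (P : GL ι F)
    (f₁ : (Fin n₁ → F) → (Fin n₁ → F) → F) (f₂ : (Fin n₂ → F) → (Fin n₂ → F) → F),
    Odd (Fintype.card F) ∧ 3 ≤ n₁ ∧ n₁ ≤ n₂ ∧ IsSymmetricForm f₁ ∧ IsSymmetricForm f₂ ∧
    IsTensorFormStructure id (QuadraticMap.polar Q) f₁ f₂ e P ∧ H ≤ tensorProductSubgroup n₁ n₂ e P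

/-- class 5: subfield of prime index, the `F₀`-structure carries a non-zero multiple of `Q`. -/
def EC5 (Q : (ι → F) → F) (H : Subgroup (GL ι F)) : Prop :=
  ∃ (F₀ : Subfield F) (r : ℕ) (P : GL ι F) (ζ : F), r.Prime ∧ Fintype.card F = Nat.card F₀ ^ r ∧ ζ ≠ 0 ∧
    IsQuadFormRationalStructure (fun v : ι → F => ζ * Q v) F₀ P ∧ H ≤ subfieldSubgroup F₀ P

/-- class 6: `H` normalises an absolutely irreducible group `R` of isometries with scalar commutators
(a 2-group of symplectic type).  This forces `|ι| = 2^m`, `q` odd and `Q` of PLUS type, and that is all the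
five rows need (no row lists class 6), so it is part of the predicate. -/
def EC6 (Q : (ι → F) → F) (H : Subgroup (GL ι F)) : Prop :=
  (∃ m : ℕ, Fintype.card ι = 2 ^ m) ∧ Odd (Fintype.card F) ∧ IsPlusTypeOn Q ⊤ ∧
    ∃ R : Subgroup (GL ι F), R ≤ isometryGroup F Q ∧ ActsAbsolutelyIrreducibly (matrixSet R) ∧
      (∀ x ∈ R, ∀ y ∈ R, x * y * x⁻¹ * y⁻¹ ∈ scalars ι F) ∧ NormalizedBy H R

/-- class 7, tensor power of a symplectic form (all `q`), `Q` vanishing on the pure tensors. -/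
def EC7a (Q : (ι → F) → F) (H : Subgroup (GL ι F)) : Prop :=
  ∃ (k t : ℕ) (e : ι ≃ (Fin t → Fin k)) (P : GL ι F) (f₁ : (Fin k → F) → (Fin k → F) → F),
    2 ≤ k ∧ 2 ≤ t ∧ IsSymplecticForm f₁ ∧ IsTensorPowerFormStructure id (QuadraticMap.polar Q) f₁ e P ∧
    (∀ x : Fin t → Fin k → F,
      Q ((P : Matrix ι ι F) *ᵥ ((fun a : Fin t → Fin k => ∏ i, x i (a i)) ∘ e)) = 0) ∧
    H ≤ tensorWreathSubgroup k t e P

/-- class 7, tensor power of a symmetric form of dimension at least 3, `q` odd. -/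
def EC7b (Q : (ι → F) → F) (H : Subgroup (GL ι F)) : Prop :=
  ∃ (k t : ℕ) (e : ι ≃ (Fin t → Fin k)) (P : GL ι F) (f₁ : (Fin k → F) → (Fin k → F) → F),
    Odd (Fintype.card F) ∧ 3 ≤ k ∧ 2 ≤ t ∧ IsSymmetricForm f₁ ∧
    IsTensorPowerFormStructure id (QuadraticMap.polar Q) f₁ e P ∧ H ≤ tensorWreathSubgroup k t e P

def EC1 (Q : (ι → F) → F) (H : Subgroup (GL ι F)) : Prop := EC1a Q H ∨ EC1b Q H ∨ EC1c Q H
def EC2 (Q : (ι → F) → F) (H : Subgroup (GL ι F)) : Prop := EC2a Q H ∨ EC2b Q H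
def EC3 (Q : (ι → F) → F) (H : Subgroup (GL ι F)) : Prop := EC3a Q H ∨ EC3b Q H
def EC4 (Q : (ι → F) → F) (H : Subgroup (GL ι F)) : Prop := EC4a Q H ∨ EC4b Q H
def EC7 (Q : (ι → F) → F) (H : Subgroup (GL ι F)) : Prop := EC7a Q H ∨ EC7b Q H

/-- `H` lies in a member of a geometric class of the orthogonal group of `Q`, class by class. -/
def ETame (Q : (ι → F) → F) (H : Subgroup (GL ι F)) : Prop :=
  EC1 Q H ∨ EC2 Q H ∨ EC3 Q H ∨ EC4 Q H ∨ EC5 Q H ∨ EC6 Q H ∨ EC7 Q H

theorem ETame.of1 {Q : (ι → F) → F} {H : Subgroup (GL ι F)} (h : EC1 Q H) : ETame Q H := Or.inl h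
theorem ETame.of2 {Q : (ι → F) → F} {H : Subgroup (GL ι F)} (h : EC2 Q H) : ETame Q H := Or.inr (Or.inl h)
theorem ETame.of3 {Q : (ι → F) → F} {H : Subgroup (GL ι F)} (h : EC3 Q H) : ETame Q H :=
  Or.inr (Or.inr (Or.inl h))
theorem ETame.of4 {Q : (ι → F) → F} {H : Subgroup (GL ι F)} (h : EC4 Q H) : ETame Q H :=
  Or.inr (Or.inr (Or.inr (Or.inl h)))
theorem ETame.of5 {Q : (ι → F) → F} {H : Subgroup (GL ι F)} (h : EC5 Q H) : ETame Q H :=
  Or.inr (Or.inr (Or.inr (Or.inr (Or.inl h))))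
theorem ETame.of6 {Q : (ι → F) → F} {H : Subgroup (GL ι F)} (h : EC6 Q H) : ETame Q H :=
  Or.inr (Or.inr (Or.inr (Or.inr (Or.inr (Or.inl h)))))
theorem ETame.of7 {Q : (ι → F) → F} {H : Subgroup (GL ι F)} (h : EC7 Q H) : ETame Q H :=
  Or.inr (Or.inr (Or.inr (Or.inr (Or.inr (Or.inr h)))))

end Cfsg.Agent.Lib.H26.AschE
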