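/-
EO project, phase 2, piece EO2-F1 (helper26): a self-adjoint field subalgebra `K` of degree `r` such that `f(k v, v) = 0`
for all `k ∈ K`, `v` (the `K`-bilinear form with trace `f` is ALTERNATING) forces `2 r ∣ n`.
Proof: a maximal `K`-stable totally isotropic subspace `L` satisfies `L = L^⊥` (otherwise add `K v`, `v ∈ L^⊥ \ L`),
so `n = 2 dim L`, and `r ∣ dim L` because `L` is a vector space over the field `K`.
-/
import Mathlib
import Cfsg.Agent.Lib.H17.AschO2E1
import Cfsg.Agent.Lib.H5.AschO2F2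

set_option autoImplicit false

namespace Cfsg.Agent.Lib.H26.EOP2

open Cfsg Cfsg.Geo Cfsg.Agent.Lib.H17.OP2
open scoped MatrixGroups Matrix

variable {F : Type*} [Field F] [Fintype F] {n : ℕ}

/-- The dimension of a `K`-stable subspace is divisible by the degree of the field subalgebra `K`. -/
theorem dvd_finrank_of_stable {ι : Type} [Fintype ι] [DecidableEq ι] [Nonempty ι] (r : ℕ)
    (K : Subalgebra F (Matrix ι ι F)) (hK : IsFieldSubalgebra r K) (L : Submodule F (ι → F))
    (hL : ∀ k ∈ K, ∀ v ∈ L, k *ᵥ v ∈ L) : r ∣ Module.finrank F L := by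
  letI : Field ↥K := (Cfsg.Agent.Lib.H5.OP2.isField_of_isFieldSubalgebra r K hK).toField
  let φ : ↥K →+* Module.End F (ι → F) :=
    ((Matrix.toLinAlgEquiv' (R := F) (n := ι)).toAlgHom.comp K.val).toRingHom
  letI : Module ↥K (ι → F) := Module.compHom (ι → F) φ
  have hsmul : ∀ (k : ↥K) (v : ι → F), k • v = (k : Matrix ι ι F) *ᵥ v := by
    intro k v
    rfl
  haveI hst : IsScalarTower F ↥K (ι → F) := ⟨fun c k v => by
    rw [hsmul, hsmul, Subalgebra.coe_smul, Matrix.smul_mulVec]⟩
  let L' : Submodule ↥K (ι → F) :=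
    { carrier := L
      add_mem' := fun ha hb => L.add_mem ha hb
      zero_mem' := L.zero_mem
      smul_mem' := fun k v hv => by
        show k • v ∈ L
        rw [hsmul]
        exact hL k k.2 v hv }
  haveI : IsScalarTower F ↥K ↥L' := ⟨fun c k x => Subtype.ext (smul_assoc c k (x : ι → F))⟩
  have h1 := Module.finrank_mul_finrank F ↥K ↥L'
  have h2 : Module.finrank F ↥L' = Module.finrank F ↥L := by
    have e : ↥L' ≃ₗ[F] ↥L :=
      { toFun := fun x => ⟨x.1, x.2⟩
        invFun := fun x => ⟨x.1, x.2⟩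
        left_inv := fun x => rfl
        right_inv := fun x => rfl
        map_add' := fun x y => rfl
        map_smul' := fun c x => rfl }
    exact e.finrank_eq
  rw [hK.finrank_eq, h2] at h1
  exact ⟨_, h1.symm⟩

/-- **EO2-F1**. -/
theorem dvd_of_selfAdjoint_alt (Q : (Fin n → F) → F) (hQ : IsNondegenerateQuadraticForm Q) (r : ℕ)
    (K : Subalgebra F (Matrix (Fin n) (Fin n) F)) (hK : IsFieldSubalgebra r K)
    (hsa : IsSelfAdjointFor (QuadraticMap.polar Q) K)
    (halt : ∀ k ∈ K, ∀ v : Fin n → F, QuadraticMap.polar Q (k *ᵥ v) v = 0) : 2 * r ∣ n := by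
  classical
  rcases Nat.eq_zero_or_pos n with hn0 | hn0
  · subst hn0; exact dvd_zero _
  haveI : Nonempty (Fin n) := ⟨⟨0, hn0⟩⟩
  set f := QuadraticMap.polar Q with hf
  have hb : IsBilinearForm f := hQ.polar_bilinear
  -- the property
  let P : Submodule F (Fin n → F) → Prop := fun L =>
    (∀ k ∈ K, ∀ v ∈ L, k *ᵥ v ∈ L) ∧ ∀ u ∈ L, ∀ v ∈ L, f u v = 0
  let p : ℕ → Prop := fun d => ∃ L, P L ∧ Module.finrank F L = d
  have hp0 : p 0 := ⟨⊥, ⟨fun k _ v hv => by
      rw [Submodule.mem_bot] at hv ⊢; rw [hv, Matrix.mulVec_zero],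
    fun u hu v _ => by
      rw [Submodule.mem_bot] at hu; rw [hu]
      have := hb.smul_left 0 0 v
      rw [zero_smul, zero_mul] at this
      exact this⟩, finrank_bot F _⟩
  obtain ⟨L, hPL, hLd⟩ : p (Nat.findGreatest p n) := Nat.findGreatest_spec (Nat.zero_le n) hp0
  have hmax : ∀ L', P L' → Module.finrank F L' ≤ Module.finrank F L := by
    intro L' hL'
    rw [hLd]
    apply Nat.le_findGreatest
    · have := Submodule.finrank_le L'
      rwa [Module.finrank_fin_fun] at this
    · exact ⟨L', hL', rfl⟩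
  -- `L^⊥ ≤ L`
  set Lp : Submodule F (Fin n → F) := (BpG hQ).orthogonal L with hLp
  have hmemLp : ∀ v, v ∈ Lp ↔ ∀ w ∈ L, f w v = 0 := fun v => Iff.rfl
  have hLle : L ≤ Lp := fun v hv => (hmemLp v).2 (fun w hw => hPL.2 w hw v hv)
  have hLpK : ∀ k ∈ K, ∀ v ∈ Lp, k *ᵥ v ∈ Lp := by
    intro k hk v hv
    rw [hmemLp] at hv ⊢
    intro w hw
    rw [← hsa k hk w v]
    exact hv _ (hPL.1 k hk w hw)
  have hLple : Lp ≤ L := by
    intro v hv
    by_contra hvL
    -- the K-span of v
    let ψ : Matrix (Fin n) (Fin n) F →ₗ[F] (Fin n → F) :=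
      { toFun := fun k => k *ᵥ v
        map_add' := fun a b => Matrix.add_mulVec a b v
        map_smul' := fun c a => by
          show (c • a) *ᵥ v = c • (a *ᵥ v)
          rw [Matrix.smul_mulVec] }
    let Kv : Submodule F (Fin n → F) := (Subalgebra.toSubmodule K).map ψ
    have hKvmem : ∀ x, x ∈ Kv ↔ ∃ k ∈ K, k *ᵥ v = x := by
      intro x
      constructor
      · rintro ⟨k, hk, rfl⟩
        exact ⟨k, hk, rfl⟩
      · rintro ⟨k, hk, rfl⟩
        exact ⟨k, hk, rfl⟩
    have hP1 : P (L ⊔ Kv) := by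
      constructor
      · intro k hk x hx
        obtain ⟨a, ha, b, hb', rfl⟩ := Submodule.mem_sup.mp hx
        rw [Matrix.mulVec_add]
        refine Submodule.add_mem _ (Submodule.mem_sup_left (hPL.1 k hk a ha)) (Submodule.mem_sup_right ?_)
        obtain ⟨k', hk', rfl⟩ := (hKvmem b).1 hb'
        rw [hKvmem]
        exact ⟨k * k', K.mul_mem hk hk', by rw [Matrix.mulVec_mulVec]⟩
      · intro x hx y hy
        obtain ⟨a, ha, b, hb', rfl⟩ := Submodule.mem_sup.mp hx
        obtain ⟨c, hc, d, hd, rfl⟩ := Submodule.mem_sup.mp hy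
        obtain ⟨k₁, hk₁, rfl⟩ := (hKvmem b).1 hb'
        obtain ⟨k₂, hk₂, rfl⟩ := (hKvmem d).1 hd
        rw [hb.add_left, hb.add_right, hb.add_right]
        have h1 : f a c = 0 := hPL.2 a ha c hc
        have h2 : f a (k₂ *ᵥ v) = 0 := (hmemLp _).1 (hLpK k₂ hk₂ v hv) a ha
        have h3 : f (k₁ *ᵥ v) c = 0 := by
          rw [hf, QuadraticMap.polar_comm]
          exact (hmemLp _).1 (hLpK k₁ hk₁ v hv) c hc
        have h4 : f (k₁ *ᵥ v) (k₂ *ᵥ v) = 0 := by
          rw [← hsa k₂ hk₂, Matrix.mulVec_mulVec]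
          exact halt _ (K.mul_mem hk₂ hk₁) v
        rw [h1, h2, h3, h4]
        ring
    have hlt : L < L ⊔ Kv := by
      refine lt_of_le_of_ne le_sup_left ?_
      intro heq
      apply hvL
      rw [heq]
      apply Submodule.mem_sup_right
      rw [hKvmem]
      exact ⟨1, K.one_mem, Matrix.one_mulVec v⟩
    have := Submodule.finrank_lt_finrank_of_lt hlt
    have := hmax _ hP1
    omega
  have hLeq : Lp = L := le_antisymm hLple hLle
  have hfin : Module.finrank F Lp = Module.finrank F (Fin n → F) - Module.finrank F L :=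
    LinearMap.BilinForm.finrank_orthogonal (BpG_nondeg hQ) L
  rw [hLeq, Module.finrank_fin_fun] at hfin
  have hle : Module.finrank F L ≤ n := by
    have := Submodule.finrank_le L
    rwa [Module.finrank_fin_fun] at this
  obtain ⟨c, hc⟩ := dvd_finrank_of_stable r K hK L hPL.1
  refine ⟨c, ?_⟩
  rw [hc] at hfin hle
  have : n = r * c + r * c := by omega
  rw [this]; ring

end Cfsg.Agent.Lib.H26.EOP2
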