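/-
Aschbacher's theorem, linear case (S5630 project), module M8.1, abstract part (helper26).
Pure finite group theory: a subgroup `N` of `H` that is minimal among the `H`-invariant subgroups
containing `H ⊓ Z` and not contained in the central subgroup `Z`, and is not abelian modulo `Z`.
We take a minimal `N`-invariant section `T` (so `T / (H ⊓ Z)` is a minimal normal subgroup of
`N / (H ⊓ Z)`), and show that distinct `H`-conjugates of `T` commute modulo `Z`, that `T` is "simple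
modulo `Z`", and that `⁅T, T⁆` is perfect, not inside `Z`, and commutes with the other conjugates.
-/
import Mathlib

set_option autoImplicit false

namespace Cfsg.Agent.Lib.H26.Asch

variable {G : Type*} [Group G]

/-- `T` conjugated by `h`. -/
abbrev cjs (h : G) (T : Subgroup G) : Subgroup G := T.map (MulAut.conj h).toMonoidHom

theorem mem_cjs {h : G} {T : Subgroup G} {x : G} : x ∈ cjs h T ↔ h⁻¹ * x * h ∈ T := by
  constructor
  · rintro ⟨y, hy, rfl⟩
    have : h⁻¹ * ((MulAut.conj h).toMonoidHom y) * h = y := by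
      simp [MulAut.conj_apply, mul_assoc]
    rw [this]; exact hy
  · intro hx
    refine ⟨h⁻¹ * x * h, hx, ?_⟩
    simp [MulAut.conj_apply, mul_assoc]

theorem conj_mem_cjs {h : G} {T : Subgroup G} {y : G} (hy : y ∈ T) : h * y * h⁻¹ ∈ cjs h T := by
  rw [mem_cjs]
  have : h⁻¹ * (h * y * h⁻¹) * h = y := by group
  rw [this]; exact hy

theorem cjs_cjs (a b : G) (T : Subgroup G) : cjs a (cjs b T) = cjs (a * b) T := by
  ext x
  rw [mem_cjs, mem_cjs, mem_cjs]
  have : b⁻¹ * (a⁻¹ * x * a) * b = (a * b)⁻¹ * x * (a * b) := by group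
  rw [this]

theorem cjs_one (T : Subgroup G) : cjs 1 T = T := by
  ext x
  rw [mem_cjs]
  simp

theorem cjs_mono {h : G} {T T' : Subgroup G} (hle : T ≤ T') : cjs h T ≤ cjs h T' :=
  Subgroup.map_mono hle

/-- The abstract hypotheses (`Z` central). -/
structure MinModCentral (Z H N : Subgroup G) : Prop where
  central : ∀ z ∈ Z, ∀ g : G, z * g = g * z
  le : N ≤ H
  norm : ∀ h ∈ H, ∀ x ∈ N, h * x * h⁻¹ ∈ N
  scal_le : H ⊓ Z ≤ N
  not_scal : ¬ N ≤ Z
  min : ∀ N' : Subgroup G, N' ≤ N → (∀ h ∈ H, ∀ x ∈ N', h * x * h⁻¹ ∈ N') → H ⊓ Z ≤ N' →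
    N' ≤ Z ∨ N' = N
  nab : ¬ ∀ x ∈ N, ∀ y ∈ N, x * y * x⁻¹ * y⁻¹ ∈ Z

/-- `T` is an `N`-invariant subgroup between `H ⊓ Z` and `N`, not inside `Z`. -/
structure IsSect (Z H N T : Subgroup G) : Prop where
  z_le : H ⊓ Z ≤ T
  le : T ≤ N
  norm : ∀ x ∈ N, ∀ y ∈ T, x * y * x⁻¹ ∈ T
  not_scal : ¬ T ≤ Z

/-- a minimal such subgroup -/
def IsMinSect (Z H N T : Subgroup G) : Prop :=
  IsSect Z H N T ∧ ∀ T' : Subgroup G, IsSect Z H N T' → T' ≤ T → T' = T

theorem exists_isMinSect [Finite G] {Z H N : Subgroup G} (hm : MinModCentral Z H N) :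
    ∃ T, IsMinSect Z H N T := by
  have hN : IsSect Z H N N :=
    ⟨hm.scal_le, le_rfl, fun x hx y hy => N.mul_mem (N.mul_mem hx hy) (N.inv_mem hx), hm.not_scal⟩
  obtain ⟨T, hT, hmin⟩ :=
    (wellFounded_lt (α := Subgroup G)).has_min {T | IsSect Z H N T} ⟨N, hN⟩
  refine ⟨T, hT, fun T' hT' hle => ?_⟩
  by_contra hne
  exact hmin T' hT' (lt_of_le_of_ne hle hne)

theorem conj_central {Z : Subgroup G} (hZ : ∀ z ∈ Z, ∀ g : G, z * g = g * z) {z : G} (hz : z ∈ Z)
    (g : G) : g * z * g⁻¹ = z := by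
  rw [← hZ z hz g]; simp

theorem IsSect.conj {Z H N T : Subgroup G} (hm : MinModCentral Z H N) (hT : IsSect Z H N T)
    {h : G} (hh : h ∈ H) : IsSect Z H N (cjs h T) := by
  refine ⟨?_, ?_, ?_, ?_⟩
  · intro z hz
    rw [mem_cjs]
    have : h⁻¹ * z * h = z := by
      have := conj_central hm.central hz.2 h⁻¹
      simpa using this
    rw [this]; exact hT.z_le hz
  · intro x hx
    rw [mem_cjs] at hx
    have h1 := hm.norm h hh _ (hT.le hx)
    have : h * (h⁻¹ * x * h) * h⁻¹ = x := by group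
    rwa [this] at h1
  · intro x hx y hy
    rw [mem_cjs] at hy ⊢
    have hx' : h⁻¹ * x * h ∈ N := by
      have := hm.norm h⁻¹ (H.inv_mem hh) x hx
      simpa using this
    have h1 := hT.norm _ hx' _ hy
    have : h⁻¹ * x * h * (h⁻¹ * y * h) * (h⁻¹ * x * h)⁻¹ = h⁻¹ * (x * y * x⁻¹) * h := by group
    rwa [this] at h1
  · intro hle
    apply hT.not_scal
    intro y hy
    have h1 : h * y * h⁻¹ ∈ Z := hle (conj_mem_cjs hy)
    have h2 := conj_central hm.central h1 h⁻¹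
    have : h⁻¹ * (h * y * h⁻¹) * h⁻¹⁻¹ = y := by group
    rw [this] at h2
    rw [h2]; exact h1

theorem IsMinSect.conj {Z H N T : Subgroup G} (hm : MinModCentral Z H N) (hT : IsMinSect Z H N T)
    {h : G} (hh : h ∈ H) : IsMinSect Z H N (cjs h T) := by
  refine ⟨hT.1.conj hm hh, fun T' hT' hle => ?_⟩
  have h1 : IsSect Z H N (cjs h⁻¹ T') := hT'.conj hm (H.inv_mem hh)
  have h2 : cjs h⁻¹ T' ≤ T := by
    have := cjs_mono (h := h⁻¹) hle
    rwa [cjs_cjs, inv_mul_cancel, cjs_one] at this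
  have h3 := hT.2 _ h1 h2
  have h4 : cjs h (cjs h⁻¹ T') = cjs h T := by rw [h3]
  rwa [cjs_cjs, mul_inv_cancel, cjs_one] at h4

/-- distinct minimal sections commute modulo `H ⊓ Z`. -/
theorem comm_mem_of_ne {Z H N T T' : Subgroup G} (hm : MinModCentral Z H N)
    (hT : IsMinSect Z H N T) (hT' : IsMinSect Z H N T') (hne : T ≠ T')
    {x y : G} (hx : x ∈ T) (hy : y ∈ T') : x * y * x⁻¹ * y⁻¹ ∈ H ⊓ Z := by
  have hle : T ⊓ T' ≤ Z := by
    by_contra hns
    have hS : IsSect Z H N (T ⊓ T') :=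
      ⟨le_inf hT.1.z_le hT'.1.z_le, inf_le_left.trans hT.1.le,
        fun a ha b hb => ⟨hT.1.norm a ha b hb.1, hT'.1.norm a ha b hb.2⟩, hns⟩
    have e1 := hT.2 _ hS inf_le_left
    have e2 := hT'.2 _ hS inf_le_right
    exact hne (e1.symm.trans e2)
  have h1 : x * y * x⁻¹ * y⁻¹ ∈ T' :=
    T'.mul_mem (hT'.1.norm x (hT.1.le hx) y hy) (T'.inv_mem hy)
  have h2 : x * y * x⁻¹ * y⁻¹ ∈ T := by
    have := T.mul_mem hx (hT.1.norm y (hT'.1.le hy) x⁻¹ (T.inv_mem hx))
    have e : x * (y * x⁻¹ * y⁻¹) = x * y * x⁻¹ * y⁻¹ := by group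
    rwa [e] at this
  exact ⟨hm.le (hT.1.le h2), hle ⟨h2, h1⟩⟩

/-- the join of the `H`-conjugates of a section is `N`. -/
theorem iSup_cjs_eq {Z H N T : Subgroup G} (hm : MinModCentral Z H N) (hT : IsSect Z H N T) :
    (⨆ h : H, cjs (h : G) T) = N := by
  set M : Subgroup G := ⨆ h : H, cjs (h : G) T with hM
  have hTM : T ≤ M := by
    have := le_iSup (fun h : H => cjs (h : G) T) (1 : H)
    simpa [cjs_one] using this
  have hMN : M ≤ N := iSup_le fun h => (hT.conj hm h.2).le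
  have hnorm : ∀ k ∈ H, ∀ x ∈ M, k * x * k⁻¹ ∈ M := by
    intro k hk x hx
    have h1 : k * x * k⁻¹ ∈ cjs k M := conj_mem_cjs hx
    have h2 : cjs k M ≤ M := by
      rw [hM]
      change Subgroup.map _ _ ≤ _
      rw [Subgroup.map_iSup]
      refine iSup_le fun h => ?_
      have : cjs k (cjs (h : G) T) = cjs ((⟨k, hk⟩ * h : H) : G) T := by
        rw [cjs_cjs]; rfl
      change cjs k (cjs (h : G) T) ≤ _
      rw [this]
      exact le_iSup (fun h : H => cjs (h : G) T) _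
    exact h2 h1
  rcases hm.min M hMN hnorm (hT.z_le.trans hTM) with h | h
  · exact absurd (hTM.trans h) hT.not_scal
  · exact h

/-- "simplicity modulo `Z`" of a minimal section. -/
theorem IsMinSect.simple {Z H N T : Subgroup G} (hm : MinModCentral Z H N)
    (hT : IsMinSect Z H N T) (K : Subgroup G) (hZK : H ⊓ Z ≤ K) (hKT : K ≤ T)
    (hnorm : ∀ x ∈ T, ∀ y ∈ K, x * y * x⁻¹ ∈ K) : K ≤ Z ∨ K = T := by
  by_cases hKZ : K ≤ Z
  · exact Or.inl hKZ
  right
  refine hT.2 K ⟨hZK, hKT.trans hT.1.le, ?_, hKZ⟩ hKT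
  -- `N` normalises `K`
  have hle : N ≤ Subgroup.normalizer (K : Set G) := by
    rw [← iSup_cjs_eq hm hT.1]
    refine iSup_le fun h => ?_
    intro x hx
    rw [Subgroup.mem_normalizer_iff]
    intro k
    by_cases heq : cjs (h : G) T = T
    · rw [heq] at hx
      constructor
      · intro hk; exact hnorm x hx k hk
      · intro hk
        have := hnorm x⁻¹ (T.inv_mem hx) _ hk
        have e : x⁻¹ * (x * k * x⁻¹) * x⁻¹⁻¹ = k := by group
        rwa [e] at this
    · have hc : ∀ k ∈ K, x * k * x⁻¹ * k⁻¹ ∈ K := fun k hk =>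
        hZK (comm_mem_of_ne hm (hT.conj hm h.2) hT heq hx (hKT hk))
      constructor
      · intro hk
        have := K.mul_mem (hc k hk) hk
        simpa using this
      · intro hk
        -- `x k x⁻¹ ∈ K ≤ T`, so `k = x⁻¹ (x k x⁻¹) x`, and `x⁻¹` also commutes with `K` mod `Z`
        have hx' : x⁻¹ ∈ cjs (h : G) T := (cjs (h : G) T).inv_mem hx
        have hc' : x⁻¹ * (x * k * x⁻¹) * x⁻¹⁻¹ * (x * k * x⁻¹)⁻¹ ∈ K :=
          hZK (comm_mem_of_ne hm (hT.conj hm h.2) hT heq hx' (hKT hk))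
        have := K.mul_mem hc' hk
        have e : x⁻¹ * (x * k * x⁻¹) * x⁻¹⁻¹ * (x * k * x⁻¹)⁻¹ * (x * k * x⁻¹) = k := by group
        rwa [e] at this
  intro x hx y hy
  exact ((Subgroup.mem_normalizer_iff.mp (hle hx)) y).mp hy

end Cfsg.Agent.Lib.H26.Asch
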