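/-
Aschbacher's theorem, linear case (S5630 project), module M8.1, abstract part, continued (helper26).
The derived subgroup of a minimal section: not inside `Z`, perfect, simple modulo `Z`, and commuting
with the other minimal sections.
-/
import Cfsg.Agent.Lib.H26.AschM8A

set_option autoImplicit false

namespace Cfsg.Agent.Lib.H26.Asch

open scoped commutatorElement

variable {G : Type*} [Group G]

/-- elements commuting with `B` modulo the central subgroup `Z` -/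
def czs (Z : Subgroup G) (hZ : ∀ z ∈ Z, ∀ g : G, z * g = g * z) (B : Subgroup G) : Subgroup G where
  carrier := {x | ∀ y ∈ B, x * y * x⁻¹ * y⁻¹ ∈ Z}
  one_mem' := by
    intro y _
    simp
  mul_mem' := by
    intro a b ha hb y hy
    have h1 := ha y hy
    have h2 := hb y hy
    have e1 : b * y * b⁻¹ = (b * y * b⁻¹ * y⁻¹) * y := by group
    have e2 : a * b * y * (a * b)⁻¹ * y⁻¹ = (b * y * b⁻¹ * y⁻¹) * (a * y * a⁻¹ * y⁻¹) := by
      calc a * b * y * (a * b)⁻¹ * y⁻¹ = a * (b * y * b⁻¹) * a⁻¹ * y⁻¹ := by group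
        _ = a * ((b * y * b⁻¹ * y⁻¹) * y) * a⁻¹ * y⁻¹ := by rw [← e1]
        _ = (a * (b * y * b⁻¹ * y⁻¹)) * y * a⁻¹ * y⁻¹ := by group
        _ = ((b * y * b⁻¹ * y⁻¹) * a) * y * a⁻¹ * y⁻¹ := by rw [hZ _ h2 a]
        _ = (b * y * b⁻¹ * y⁻¹) * (a * y * a⁻¹ * y⁻¹) := by group
    show a * b * y * (a * b)⁻¹ * y⁻¹ ∈ Z
    rw [e2]
    exact Z.mul_mem h2 h1
  inv_mem' := by
    intro a ha y hy
    have h1 := ha y hy
    -- `a⁻¹ y a y⁻¹ = a⁻¹ (a y a⁻¹ y⁻¹)⁻¹ a`
    have e : a⁻¹ * y * a⁻¹⁻¹ * y⁻¹ = a⁻¹ * (a * y * a⁻¹ * y⁻¹)⁻¹ * a⁻¹⁻¹ := by group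
    show a⁻¹ * y * a⁻¹⁻¹ * y⁻¹ ∈ Z
    rw [e, conj_central hZ (Z.inv_mem h1)]
    exact Z.inv_mem h1

theorem mem_czs {Z : Subgroup G} {hZ : ∀ z ∈ Z, ∀ g : G, z * g = g * z} {B : Subgroup G} {x : G} :
    x ∈ czs Z hZ B ↔ ∀ y ∈ B, x * y * x⁻¹ * y⁻¹ ∈ Z := Iff.rfl

theorem le_czs_symm {Z : Subgroup G} {hZ : ∀ z ∈ Z, ∀ g : G, z * g = g * z} {A B : Subgroup G}
    (h : A ≤ czs Z hZ B) : B ≤ czs Z hZ A := by
  intro y hy x hx
  have := Z.inv_mem (h hx y hy)
  have e : (x * y * x⁻¹ * y⁻¹)⁻¹ = y * x * y⁻¹ * x⁻¹ := by group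
  rwa [e] at this

theorem cjs_eq_of_mem {T : Subgroup G} {x : G} (hx : x ∈ T) : cjs x T = T := by
  ext y
  rw [mem_cjs]
  constructor
  · intro h
    have := T.mul_mem (T.mul_mem hx h) (T.inv_mem hx)
    have e : x * (x⁻¹ * y * x) * x⁻¹ = y := by group
    rwa [e] at this
  · intro h
    exact T.mul_mem (T.mul_mem (T.inv_mem hx) h) hx

theorem commutator_bot_of_central {Z A B : Subgroup G} (hZ : ∀ z ∈ Z, ∀ g : G, z * g = g * z)
    (hA : A ≤ Z) : ⁅A, B⁆ = ⊥ := by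
  rw [eq_bot_iff, Subgroup.commutator_le]
  intro a ha b _
  rw [Subgroup.mem_bot, commutatorElement_def, hZ a (hA ha) b]
  group

/-- the commutator subgroup is not changed by adjoining a central subgroup. -/
theorem commutator_sup_central (A C : Subgroup G) (hC : ∀ z ∈ C, ∀ g : G, z * g = g * z) :
    ⁅A ⊔ C, A ⊔ C⁆ = ⁅A, A⁆ := by
  apply le_antisymm
  · have : C.Normal := ⟨fun z hz g => by rw [conj_central hC hz g]; exact hz⟩
    rw [Subgroup.commutator_le]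
    intro x hx y hy
    obtain ⟨a, ha, c, hc, rfl⟩ := Subgroup.mem_sup_of_normal_right.mp hx
    obtain ⟨b, hb, d, hd, rfl⟩ := Subgroup.mem_sup_of_normal_right.mp hy
    have e1 : c * (b * d) * c⁻¹ = b * d := by rw [hC c hc (b * d)]; group
    have e2 : d * a⁻¹ * d⁻¹ = a⁻¹ := by rw [hC d hd a⁻¹]; group
    have : ⁅a * c, b * d⁆ = ⁅a, b⁆ := by
      simp only [commutatorElement_def]
      calc a * c * (b * d) * (a * c)⁻¹ * (b * d)⁻¹
          = a * (c * (b * d) * c⁻¹) * a⁻¹ * (b * d)⁻¹ := by group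
        _ = a * (b * d) * a⁻¹ * (b * d)⁻¹ := by rw [e1]
        _ = a * b * (d * a⁻¹ * d⁻¹) * b⁻¹ := by group
        _ = a * b * a⁻¹ * b⁻¹ := by rw [e2]
    rw [this]
    exact Subgroup.commutator_mem_commutator ha hb
  · exact Subgroup.commutator_mono le_sup_left le_sup_left

theorem inf_central {Z H : Subgroup G} (hZ : ∀ z ∈ Z, ∀ g : G, z * g = g * z) :
    ∀ z ∈ H ⊓ Z, ∀ g : G, z * g = g * z := fun z hz g => hZ z hz.2 g

/-- the derived subgroup of a minimal section is not inside `Z`. -/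
theorem IsMinSect.not_commutator_le {Z H N T : Subgroup G} (hm : MinModCentral Z H N)
    (hT : IsMinSect Z H N T) : ¬ ⁅T, T⁆ ≤ Z := by
  intro hle
  apply hm.nab
  have hZ := hm.central
  have key : ∀ h k : H, cjs (h : G) T ≤ czs Z hZ (cjs (k : G) T) := by
    intro h k x hx y hy
    by_cases heq : cjs (h : G) T = cjs (k : G) T
    · rw [heq] at hx
      rw [mem_cjs] at hx hy
      have h1 : ⁅(k : G)⁻¹ * x * k, (k : G)⁻¹ * y * k⁆ ∈ Z :=
        hle (Subgroup.commutator_mem_commutator hx hy)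
      have h2 := conj_central hZ h1 (k : G)
      have e : (k : G) * ⁅(k : G)⁻¹ * x * k, (k : G)⁻¹ * y * k⁆ * (k : G)⁻¹ = x * y * x⁻¹ * y⁻¹ := by
        rw [commutatorElement_def]; group
      rw [e] at h2
      rw [h2]; exact h1
    · exact (comm_mem_of_ne hm (hT.conj hm h.2) (hT.conj hm k.2) heq hx hy).2
  have h1 : ∀ k : H, N ≤ czs Z hZ (cjs (k : G) T) := by
    intro k
    rw [← iSup_cjs_eq hm hT.1]
    exact iSup_le fun h => key h k
  have h2 : N ≤ czs Z hZ N := by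
    conv_lhs => rw [← iSup_cjs_eq hm hT.1]
    exact iSup_le fun k => le_czs_symm (h1 k)
  intro x hx y hy
  exact h2 hx y hy

theorem commutator_le_self (T : Subgroup G) : ⁅T, T⁆ ≤ T := by
  rw [Subgroup.commutator_le]
  intro a ha b hb
  rw [commutatorElement_def]
  exact T.mul_mem (T.mul_mem (T.mul_mem ha hb) (T.inv_mem ha)) (T.inv_mem hb)

theorem conj_mem_commutator {T : Subgroup G} {x a : G} (hx : x ∈ T) (ha : a ∈ ⁅T, T⁆) :
    x * a * x⁻¹ ∈ ⁅T, T⁆ := by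
  have h1 : x * a * x⁻¹ ∈ cjs x ⁅T, T⁆ := conj_mem_cjs ha
  have h2 : cjs x ⁅T, T⁆ = ⁅T, T⁆ := by
    change Subgroup.map _ _ = _
    rw [Subgroup.map_commutator]
    change ⁅cjs x T, cjs x T⁆ = _
    rw [cjs_eq_of_mem hx]
  rwa [h2] at h1

/-- a minimal section is its derived subgroup times `H ⊓ Z`. -/
theorem IsMinSect.sup_eq {Z H N T : Subgroup G} (hm : MinModCentral Z H N)
    (hT : IsMinSect Z H N T) : ⁅T, T⁆ ⊔ (H ⊓ Z) = T := by
  have hC := inf_central (H := H) hm.central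
  have : (H ⊓ Z).Normal := ⟨fun z hz g => by rw [conj_central hC hz g]; exact hz⟩
  have hn : ∀ x ∈ T, ∀ y ∈ ⁅T, T⁆ ⊔ (H ⊓ Z), x * y * x⁻¹ ∈ ⁅T, T⁆ ⊔ (H ⊓ Z) := by
    intro x hx y hy
    obtain ⟨a, ha, c, hc, rfl⟩ := Subgroup.mem_sup_of_normal_right.mp hy
    have e : x * (a * c) * x⁻¹ = (x * a * x⁻¹) * (x * c * x⁻¹) := by group
    rw [e, conj_central hC hc x]
    exact Subgroup.mul_mem_sup (conj_mem_commutator hx ha) hc
  rcases hT.simple hm (⁅T, T⁆ ⊔ (H ⊓ Z)) le_sup_right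
      (sup_le (commutator_le_self T) hT.1.z_le) hn with h | h
  · exact absurd (le_sup_left.trans h) (hT.not_commutator_le hm)
  · exact h

/-- the derived subgroup of a minimal section is perfect. -/
theorem IsMinSect.perfect {Z H N T : Subgroup G} (hm : MinModCentral Z H N)
    (hT : IsMinSect Z H N T) : ⁅⁅T, T⁆, ⁅T, T⁆⁆ = ⁅T, T⁆ := by
  have hC := inf_central (H := H) hm.central
  have h1 := commutator_sup_central ⁅T, T⁆ (H ⊓ Z) hC
  rw [hT.sup_eq hm] at h1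
  exact h1.symm

/-- the derived subgroup of a minimal section is "simple modulo `Z`". -/
theorem IsMinSect.commutator_simple {Z H N T : Subgroup G} (hm : MinModCentral Z H N)
    (hT : IsMinSect Z H N T) (K : Subgroup G) (hKL : K ≤ ⁅T, T⁆)
    (hnorm : ∀ x ∈ ⁅T, T⁆, ∀ k ∈ K, x * k * x⁻¹ ∈ K) : K ≤ Z ∨ K = ⁅T, T⁆ := by
  have hC := inf_central (H := H) hm.central
  have : (H ⊓ Z).Normal := ⟨fun z hz g => by rw [conj_central hC hz g]; exact hz⟩
  have hn : ∀ x ∈ T, ∀ y ∈ K ⊔ (H ⊓ Z), x * y * x⁻¹ ∈ K ⊔ (H ⊓ Z) := by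
    intro x hx y hy
    rw [← hT.sup_eq hm] at hx
    obtain ⟨l, hl, z, hz, rfl⟩ := Subgroup.mem_sup_of_normal_right.mp hx
    obtain ⟨k, hk, c, hc, rfl⟩ := Subgroup.mem_sup_of_normal_right.mp hy
    have e1 : z * (k * c) * z⁻¹ = k * c := by rw [hC z hz (k * c)]; group
    have e : l * z * (k * c) * (l * z)⁻¹ = (l * k * l⁻¹) * (l * c * l⁻¹) := by
      calc l * z * (k * c) * (l * z)⁻¹ = l * (z * (k * c) * z⁻¹) * l⁻¹ := by group
        _ = l * (k * c) * l⁻¹ := by rw [e1]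
        _ = (l * k * l⁻¹) * (l * c * l⁻¹) := by group
    rw [e, conj_central hC hc l]
    exact Subgroup.mul_mem_sup (hnorm l hl k hk) hc
  rcases hT.simple hm (K ⊔ (H ⊓ Z)) le_sup_right
      (sup_le (hKL.trans (commutator_le_self T)) hT.1.z_le) hn with h | h
  · exact Or.inl (le_sup_left.trans h)
  · right
    apply le_antisymm hKL
    have h1 := commutator_sup_central K (H ⊓ Z) hC
    rw [h] at h1
    rw [h1]
    exact commutator_le_self K

/-- the derived subgroup of a minimal section commutes with every other minimal section. -/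
theorem IsMinSect.commute_of_ne {Z H N T T' : Subgroup G} (hm : MinModCentral Z H N)
    (hT : IsMinSect Z H N T) (hT' : IsMinSect Z H N T') (hne : T ≠ T')
    {x y : G} (hx : x ∈ ⁅T, T⁆) (hy : y ∈ T') : x * y = y * x := by
  have hZ := hm.central
  have h1 : ⁅T, T'⁆ ≤ Z := by
    rw [Subgroup.commutator_le]
    intro a ha b hb
    rw [commutatorElement_def]
    exact (comm_mem_of_ne hm hT hT' hne ha hb).2
  have h2 : ⁅T', T⁆ ≤ Z := by
    rw [Subgroup.commutator_le]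
    intro a ha b hb
    rw [commutatorElement_def]
    exact (comm_mem_of_ne hm hT' hT (Ne.symm hne) ha hb).2
  have h3 : ⁅⁅T, T⁆, T'⁆ = ⊥ :=
    Subgroup.commutator_commutator_eq_bot_of_rotate
      (commutator_bot_of_central hZ h1) (commutator_bot_of_central hZ h2)
  have h4 := Subgroup.commutator_eq_bot_iff_le_centralizer.mp h3 hx
  exact ((Subgroup.mem_centralizer_iff.mp h4) y hy).symm

end Cfsg.Agent.Lib.H26.Asch
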