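/-
Aschbacher's theorem, linear case (S5630 project), module M8.1 (helper26):
the components of a non-abelian minimal normal subgroup modulo scalars.
Uses the abstract group theory of AschM8A / AschM8A2 (helper26) and the two pieces
M8-Q (quotient simple) and M8-O (orbit indexing) proved by helper14.
-/
import Cfsg.Agent.Lib.H26.AschM8A2
import Cfsg.Agent.Lib.H26.AschM8Defs
import Cfsg.Agent.Lib.H14.AschM8Q
import Cfsg.Agent.Lib.H14.AschM8O

set_option autoImplicit false

namespace Cfsg.Agent.Lib.H26.Asch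

open Cfsg Cfsg.Geo Cfsg.Agent.Lib.Lead.Asch
open scoped MatrixGroups Matrix Kronecker
open scoped commutatorElement

variable {F : Type*} [Field F] [Fintype F] {n : ℕ}

theorem scalars_central : ∀ z ∈ scalars (Fin n) F, ∀ g : GL (Fin n) F, z * g = g * z := by
  intro z hz g
  rw [mem_scalars_iff] at hz
  obtain ⟨c, hc⟩ := hz
  apply Units.ext
  rw [Units.val_mul, Units.val_mul, hc, Matrix.smul_mul, Matrix.mul_smul, Matrix.one_mul,
    Matrix.mul_one]

theorem minModCentral_of (H N : Subgroup (GL (Fin n) F)) (hmin : MinimalModScalars H N)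
    (hnab : ¬ ∀ x ∈ N, ∀ y ∈ N, x * y * x⁻¹ * y⁻¹ ∈ scalars (Fin n) F) :
    MinModCentral (scalars (Fin n) F) H N :=
  ⟨scalars_central, hmin.le, hmin.norm, hmin.scal_le, hmin.not_scal,
    fun N' h1 h2 h3 => hmin.min N' h1 h2 h3, hnab⟩

/-- **M8.1**. -/
theorem exists_components (H N : Subgroup (GL (Fin n) F)) (hmin : MinimalModScalars H N)
    (hnab : ¬ ∀ x ∈ N, ∀ y ∈ N, x * y * x⁻¹ * y⁻¹ ∈ scalars (Fin n) F) :
    ∃ (t : ℕ) (L : Fin t → Subgroup (GL (Fin n) F)), Components H t L := by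
  have hm := minModCentral_of H N hmin hnab
  obtain ⟨T, hT⟩ := exists_isMinSect hm
  obtain ⟨t, S, ht, hinj, hS1, -, hperm, htrans⟩ :=
    Cfsg.Agent.Lib.H14.Asch.exists_orbit_indexing H T
  have hSmin : ∀ i, IsMinSect (scalars (Fin n) F) H N (S i) := by
    intro i
    obtain ⟨h, hh, e⟩ := hS1 i
    rw [e]
    exact hT.conj hm hh
  have hns : ∀ i, ¬ ⁅S i, S i⁆ ≤ scalars (Fin n) F := fun i => (hSmin i).not_commutator_le hm
  refine ⟨t, fun i => ⁅S i, S i⁆, ht, ?_, ?_, ?_, ?_, ?_, hns, ?_, ?_⟩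
  · intro i
    exact (commutator_le_self (S i)).trans ((hSmin i).1.le.trans hm.le)
  · intro i
    exact (hSmin i).perfect hm
  · intro i j hij x hx y hy
    exact (hSmin i).commute_of_ne hm (hSmin j) (fun e => hij (hinj e)) hx
      (commutator_le_self (S j) hy)
  · intro h hh
    obtain ⟨σ, hσ⟩ := hperm h hh
    refine ⟨σ, fun i => ?_⟩
    show Subgroup.map _ ⁅S i, S i⁆ = ⁅S (σ i), S (σ i)⁆
    rw [Subgroup.map_commutator, hσ i]
  · intro i j
    obtain ⟨h, hh, e⟩ := htrans i j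
    refine ⟨h, hh, ?_⟩
    show Subgroup.map _ ⁅S i, S i⁆ = ⁅S j, S j⁆
    rw [Subgroup.map_commutator, e]
  · intro i
    exact Cfsg.Agent.Lib.H14.Asch.isSimpleGroup_quotient_of_minimal ⁅S i, S i⁆ (scalars (Fin n) F)
      (hns i) (fun K hK _ hnorm => (hSmin i).commutator_simple hm K hK hnorm)
  · intro i hcomm
    apply hns i
    rw [← (hSmin i).perfect hm, Subgroup.commutator_le]
    intro a ha b hb
    have h1 := hcomm.is_comm.comm
      (QuotientGroup.mk (s := (scalars (Fin n) F).subgroupOf ⁅S i, S i⁆) ⟨a, ha⟩)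
      (QuotientGroup.mk (s := (scalars (Fin n) F).subgroupOf ⁅S i, S i⁆) ⟨b, hb⟩)
    rw [← QuotientGroup.mk_mul, ← QuotientGroup.mk_mul, QuotientGroup.eq] at h1
    rw [Subgroup.mem_subgroupOf] at h1
    -- h1 : ((a*b)⁻¹ * (b*a) : G) ∈ scalars
    have h2 : (b * a)⁻¹ * (a * b) ∈ scalars (Fin n) F := by
      have := (scalars (Fin n) F).inv_mem h1
      simpa [mul_assoc] using this
    -- conjugate: `a b a⁻¹ b⁻¹ = (b a) ((b a)⁻¹ (a b)) (b a)⁻¹`
    have h3 := conj_central scalars_central h2 (b * a)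
    have e : (b * a) * ((b * a)⁻¹ * (a * b)) * (b * a)⁻¹ = ⁅a, b⁆ := by
      rw [commutatorElement_def]; group
    rw [e] at h3
    rw [h3]; exact h2

end Cfsg.Agent.Lib.H26.Asch
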