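/-
S5662 project (Aschbacher, symplectic case; architect helper11), piece SM8.2 (helper26), `_aux` version:
the case of one component (t = 1): class 5, class 8 or the symplectic residual class,
with the statements of ST5 / ST5' for this `H` as hypotheses.
Adapted from the linear M8.2 of helper22 (Lib/H22/AschM82.lean).
-/
import Cfsg.Agent.Lib.H22.AschM82
import Cfsg.Agent.Lib.H11.AschSDefs
import Cfsg.Agent.Lib.H6.AschST8

set_option autoImplicit false

namespace Cfsg.Agent.Lib.H26.AschS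

open Cfsg Cfsg.Geo Cfsg.Agent.Lib.Lead.Asch Cfsg.Agent.Lib.H11.AschS
open scoped MatrixGroups Matrix Kronecker

variable {F : Type*} [Field F] [Fintype F] {n : ℕ} {f : (Fin n → F) → (Fin n → F) → F}

/-- **SM8.2**, with ST5 and ST5' for this `H` as hypotheses. -/
theorem residual_of_components_one_symplectic_aux (hf : IsSymplecticForm f) (hn : 4 ≤ n)
    (H : Subgroup (GL (Fin n) F)) (hH : FixesForm (matrixSet H) f) (hgood : Good H)
    (L : Fin 1 → Subgroup (GL (Fin n) F)) (hL : Cfsg.Agent.Lib.H26.Asch.Components H 1 L)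
    (hST5 : ∀ N : Subgroup (GL (Fin n) F), N ≤ H → NormalizedBy H N →
      ActsAbsolutelyIrreducibly (matrixSet N) → ∀ F₁ : Subfield F, F₁ ≠ ⊤ →
      RealisableOver F₁ (matrixSet N) → SC5 f H)
    (hST5p : ∀ N : Subgroup (GL (Fin n) F), N ≤ H → NormalizedBy H N →
      ActsAbsolutelyIrreducibly (matrixSet N) → ∀ (σ : F ≃+* F)
      (h : (Fin n → F) → (Fin n → F) → F), IsUnitaryForm σ h → FixesForm (matrixSet N) h →
      SC5 f H) :
    (SC5 f H ∨ SC8 f H) ∨ InSymplecticResidualClass H := by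
  have hnorm : NormalizedBy H (L 0) := by
    intro h hh x hx
    obtain ⟨σ, hσ⟩ := hL.perm h hh
    have h0 : σ 0 = 0 := Subsingleton.elim _ _
    have h1 := hσ 0
    rw [h0] at h1
    rw [← h1]
    exact ⟨x, hx, by simp [MulAut.conj_apply]⟩
  have habs : ActsAbsolutelyIrreducibly (matrixSet (L 0)) := by
    rcases hgood.star (L 0) (hL.le 0) hnorm with h | h
    · exact absurd h (hL.not_scal 0)
    · exact h
  by_cases hreal : ∃ F₀ : Subfield F, F₀ ≠ ⊤ ∧ RealisableOver F₀ (matrixSet (L 0))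
  · obtain ⟨F₀, hne, hr⟩ := hreal
    exact Or.inl (Or.inl (hST5 (L 0) (hL.le 0) hnorm habs F₀ hne hr))
  by_cases hq : ∃ Q : (Fin n → F) → F, IsNondegenerateQuadraticForm Q ∧
      FixesQuadForm (matrixSet (L 0)) Q
  · obtain ⟨Q, hQ, hfix⟩ := hq
    exact Or.inl (Or.inr (Cfsg.Agent.Lib.H6.AschS.sc8_of_fixes_quad hf (by omega) H (L 0) hH
      (hL.le 0) hnorm habs Q hQ hfix))
  by_cases hu : ∃ (σ : F ≃+* F) (h : (Fin n → F) → (Fin n → F) → F), IsUnitaryForm σ h ∧
      FixesForm (matrixSet (L 0)) h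
  · obtain ⟨σ, h, hh, hfix⟩ := hu
    exact Or.inl (Or.inl (hST5p (L 0) (hL.le 0) hnorm habs σ h hh hfix))
  refine Or.inr ⟨L 0, ⟨hL.le 0, hnorm, hL.perfect 0, hL.simple 0, hL.nonab 0, ?_, habs, ?_⟩,
    hq, hu⟩
  · intro h _ hcomm
    apply Cfsg.Agent.Lib.H3.Asch.mem_scalars_of_absIrr_of_commute (L 0) habs h
    exact Cfsg.Agent.Lib.H22.Asch.m82_commute_of_perfect (L 0) (scalars (Fin n) F)
      (fun z hz g => Cfsg.Agent.Lib.H22.Asch.m82_scalars_comm z g hz) (hL.perfect 0) h hcomm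
  · intro F₀ hne hr
    exact hreal ⟨F₀, hne, hr⟩

end Cfsg.Agent.Lib.H26.AschS
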