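/-
S5662 project (Aschbacher, symplectic case; architect helper11), piece SM8.2 (helper26):
the case of one component (t = 1): class 5, class 8 or the symplectic residual class.
Exact signature of tools/blueprints/S5662_sigs.lean; uses ST5 / ST5' of helper25 and ST8 of helper6.
-/
import Cfsg.Agent.Lib.H26.AschSM82a
import Cfsg.Agent.Lib.H25.AschST5p

set_option autoImplicit false

namespace Cfsg.Agent.Lib.H26.AschS

open Cfsg Cfsg.Geo Cfsg.Agent.Lib.Lead.Asch Cfsg.Agent.Lib.H11.AschS
open scoped MatrixGroups Matrix Kronecker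

variable {F : Type*} [Field F] [Fintype F] {n : ℕ} {f : (Fin n → F) → (Fin n → F) → F}

/-- **SM8.2** one component: residual, or class 5, or class 8. -/
theorem residual_of_components_one_symplectic (hf : IsSymplecticForm f) (hn : 4 ≤ n)
    (H : Subgroup (GL (Fin n) F)) (hH : FixesForm (matrixSet H) f) (hgood : Good H)
    (L : Fin 1 → Subgroup (GL (Fin n) F)) (hL : Cfsg.Agent.Lib.H26.Asch.Components H 1 L) :
    (SC5 f H ∨ SC8 f H) ∨ InSymplecticResidualClass H :=
  residual_of_components_one_symplectic_aux hf hn H hH hgood L hL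
    (fun N h1 h2 h3 F₁ h4 h5 =>
      Cfsg.Agent.Lib.H25.AschS.sc5_of_realisable hf (by omega) H N hH h1 h2 h3 F₁ h4 h5)
    (fun N h1 h2 h3 σ h h4 h5 =>
      Cfsg.Agent.Lib.H25.AschS.sc5_of_fixes_unitary hf (by omega) H N hH h1 h2 h3 σ h h4 h5)

end Cfsg.Agent.Lib.H26.AschS
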