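import Mathlib
import Cfsg.Agent.Lib.H7.T648Defs
import Cfsg.Agent.Lib.H7.T648Model

/-!
# S3702 piece MODJ: the normal subgroup `J648` of translations of the model `M648`
-/

set_option autoImplicit false

namespace Cfsg.Agent.Lib.H26.T648

open Cfsg Cfsg.Agent.Lib.H7.T648

theorem tr_v (w : Fin 3 → ZMod 3) : (tr w).v = w := rfl
theorem tr_a (w : Fin 3 → ZMod 3) : (tr w).a = 1 := rfl
theorem tr_b (w : Fin 3 → ZMod 3) : (tr w).b = 1 := rfl
theorem tr_p (w : Fin 3 → ZMod 3) : (tr w).p = 1 := rfl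

theorem tr_sg (w : Fin 3 → ZMod 3) (i : Fin 3) : (tr w).sg i = 1 := sgf_one i

theorem tr_sz (w : Fin 3 → ZMod 3) (i : Fin 3) : (tr w).sz i = 1 := by
  unfold M648.sz
  rw [tr_sg]
  simp

theorem tr_mul (w w' : Fin 3 → ZMod 3) : tr w * tr w' = tr (w + w') := by
  apply M648.ext
  · funext i
    simp only [M648.mul_v, tr_sz, tr_p, tr_v, Equiv.Perm.coe_one, id_eq, one_mul, Pi.add_apply]
    ring
  · simp only [M648.mul_a, tr_sg, tr_a, mul_one]
  · simp only [M648.mul_b, tr_sg, tr_b, mul_one]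
  · simp only [M648.mul_p, tr_p, mul_one]

theorem tr_zero : tr 0 = 1 := rfl

theorem tr_injective : Function.Injective tr := by
  intro w w' h
  exact congrArg M648.v h

theorem mem_J648_iff_tr (x : M648) : x ∈ J648 ↔ x = tr x.v := by
  constructor
  · rintro ⟨ha, hb, hp⟩
    exact M648.ext rfl ha hb hp
  · intro h
    rw [h]
    exact tr_mem _

theorem sz_ne_zero (x : M648) (i : Fin 3) : x.sz i ≠ 0 := by
  intro h
  have := x.sz_sq i
  rw [h, mul_zero] at this
  exact zero_ne_one this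

theorem conj_tr (x : M648) (w : Fin 3 → ZMod 3) : x * tr w * x⁻¹ = tr (x.act w) := by
  apply M648.ext
  · funext i
    simp only [M648.mul_v, M648.inv_v, M648.inv_p, M648.sz_mul, tr_sz, tr_p, tr_v,
      Equiv.Perm.coe_one, id_eq, mul_one, M648.act]
    have h := x.sz_sq (x.p⁻¹ i)
    linear_combination (-(x.v (x.p⁻¹ i))) * h
  · simp only [M648.mul_a, M648.inv_a, M648.inv_p, M648.sg_mul, tr_sg, tr_p, tr_a,
      Equiv.Perm.coe_one, id_eq, mul_one]
    exact x.sg_sq _
  · simp only [M648.mul_b, M648.inv_b, M648.inv_p, M648.sg_mul, tr_sg, tr_p, tr_b,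
      Equiv.Perm.coe_one, id_eq, mul_one]
    exact x.sg_sq _
  · simp only [M648.mul_p, M648.inv_p, tr_p, mul_one, mul_inv_cancel]

theorem J648_normal : (J648).Normal := by
  constructor
  intro n hn g
  rw [(mem_J648_iff_tr n).mp hn, conj_tr]
  exact tr_mem _

theorem J648_comm (x y : M648) (hx : x ∈ J648) (hy : y ∈ J648) : x * y = y * x := by
  rw [(mem_J648_iff_tr x).mp hx, (mem_J648_iff_tr y).mp hy, tr_mul, tr_mul, add_comm]

theorem J648_pow_three (x : M648) (hx : x ∈ J648) : x ^ 3 = 1 := by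
  rw [(mem_J648_iff_tr x).mp hx, pow_succ, pow_two, tr_mul, tr_mul, ← tr_zero]
  congr 1
  funext i
  simp only [Pi.add_apply, Pi.zero_apply]
  have h3 : (3 : ZMod 3) = 0 := by decide
  linear_combination (x.v i) * h3

theorem card_J648 : Nat.card ↥J648 = 27 := by
  have e : (Fin 3 → ZMod 3) ≃ ↥J648 :=
    { toFun := fun w => ⟨tr w, tr_mem w⟩
      invFun := fun x => x.1.v
      left_inv := fun w => rfl
      right_inv := fun x => Subtype.ext ((mem_J648_iff_tr x.1).mp x.2).symm }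
  rw [← Nat.card_congr e, Nat.card_eq_fintype_card]
  simp only [Fintype.card_pi, ZMod.card, Finset.prod_const, Finset.card_univ, Fintype.card_fin]
  rfl

theorem wt_tr (w : Fin 3 → ZMod 3) : (tr w).wt = (Finset.univ.filter (fun i => w i ≠ 0)).card :=
  rfl

/-- the weight is a class invariant on `J648` -/
theorem wt_conj (m x : M648) (hx : x ∈ J648) : (m * x * m⁻¹).wt = x.wt := by
  rw [(mem_J648_iff_tr x).mp hx, conj_tr, wt_tr, wt_tr]
  apply Finset.card_bij (fun i _ => m.p⁻¹ i)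
  · intro i hi
    rw [Finset.mem_filter] at hi ⊢
    refine ⟨Finset.mem_univ _, ?_⟩
    intro h
    apply hi.2
    show m.sz (m.p⁻¹ i) * x.v (m.p⁻¹ i) = 0
    rw [h, mul_zero]
  · intro i _ j _ h
    exact (m.p⁻¹).injective h
  · intro j hj
    rw [Finset.mem_filter] at hj
    refine ⟨m.p j, ?_, M648.pinv_apply _ _⟩
    rw [Finset.mem_filter]
    refine ⟨Finset.mem_univ _, ?_⟩
    show m.sz (m.p⁻¹ (m.p j)) * x.v (m.p⁻¹ (m.p j)) ≠ 0
    rw [M648.pinv_apply]
    exact mul_ne_zero (sz_ne_zero m j) hj.2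

theorem tr_inv (w : Fin 3 → ZMod 3) : (tr w)⁻¹ = tr (-w) := by
  rw [inv_eq_iff_mul_eq_one, tr_mul, add_neg_cancel, tr_zero]

theorem wt_inv (x : M648) (hx : x ∈ J648) : (x⁻¹).wt = x.wt := by
  rw [(mem_J648_iff_tr x).mp hx, tr_inv, wt_tr, wt_tr]
  congr 1
  ext i
  simp only [Finset.mem_filter, Finset.mem_univ, true_and, Pi.neg_apply, ne_eq, neg_eq_zero]

end Cfsg.Agent.Lib.H26.T648
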