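import Mathlib
import Cfsg.Agent.Lib.H7.T648Defs
import Cfsg.Agent.Lib.H7.T648Model
import Cfsg.Agent.Lib.H26.T648MODJ

/-!
# S3702 piece MODG: elements of order 3 of the centraliser of a good element lie in `J648`
-/

set_option autoImplicit false

namespace Cfsg.Agent.Lib.H26.T648

open Cfsg Cfsg.Agent.Lib.H7.T648

/-- the linear part of an element -/
def linpart (x : M648) : M648 := lin x.a x.b x.p

theorem linpart_mul (x y : M648) : linpart (x * y) = linpart x * linpart y := by
  apply M648.ext
  · funext i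
    show (0 : ZMod 3) = (linpart x).sz ((linpart y).p i) * 0 + 0
    ring
  · rfl
  · rfl
  · rfl

theorem linpart_one : linpart 1 = 1 := rfl

theorem linpart_pow (x : M648) (n : ℕ) : linpart (x ^ n) = linpart x ^ n := by
  induction n with
  | zero => rfl
  | succ n ih => rw [pow_succ, pow_succ, linpart_mul, ih]

theorem act_linpart (x : M648) (w : Fin 3 → ZMod 3) : (linpart x).act w = x.act w := rfl

/-- the cube of a linear part -/
def lcube (a b : ℤˣ) (p : Equiv.Perm (Fin 3)) : M648 := lin a b p * lin a b p * lin a b p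

/-- the statement checked by `decide` (24 linear parts, 27 vectors) -/
def chkG (a b : ℤˣ) (p : Equiv.Perm (Fin 3)) (v : Fin 3 → ZMod 3) : Prop :=
  (lcube a b p).a = 1 → (lcube a b p).b = 1 → (lcube a b p).p = 1 →
    (lin a b p).act v = v → (∃ i, v i = 0) → v ≠ 0 → a = 1 ∧ b = 1 ∧ p = 1

instance (a b : ℤˣ) (p : Equiv.Perm (Fin 3)) (v : Fin 3 → ZMod 3) : Decidable (chkG a b p v) := by
  unfold chkG; infer_instance

set_option maxRecDepth 100000 in
theorem lin_fix_aux : ∀ (a b : ℤˣ) (p : Equiv.Perm (Fin 3)) (v : Fin 3 → ZMod 3),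
    chkG a b p v := by
  decide

/-- MODG. -/
theorem mem_J648_of_comm_good (t α : M648) (ht : Good t) (hα : α ^ 3 = 1) (hc : α * t = t * α) :
    α ∈ J648 := by
  obtain ⟨htJ, ht1, i, hi⟩ := ht
  have htv := (mem_J648_iff_tr t).mp htJ
  have h1 : linpart α * linpart α * linpart α = 1 := by
    have := linpart_pow α 3
    rw [hα, linpart_one, pow_succ, pow_two] at this
    exact this.symm
  have h2 : α.act t.v = t.v := by
    apply tr_injective
    rw [← conj_tr, ← htv, hc, mul_inv_cancel_right]
  have h3 : t.v ≠ 0 := by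
    intro h
    apply ht1
    rw [htv, h, tr_zero]
  exact lin_fix_aux α.a α.b α.p t.v (congrArg M648.a h1) (congrArg M648.b h1)
    (congrArg M648.p h1) h2 ⟨i, hi⟩ h3

end Cfsg.Agent.Lib.H26.T648
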