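import Mathlib
import Cfsg.Agent.Lib.H7.T648Defs
import Cfsg.Agent.Lib.H7.T648Model
import Cfsg.Agent.Lib.H26.T648MODJ
import Cfsg.Agent.Lib.H26.T648MODG

/-!
# S3702 piece MODC: the three classes of `J648 \ {1}` are told apart by `inv2`, `inv4`
-/

set_option autoImplicit false

namespace Cfsg.Agent.Lib.H26.T648

open Cfsg Cfsg.Agent.Lib.H7.T648

/-- the weight of a vector -/
def W (v : Fin 3 → ZMod 3) : ℕ := (Finset.univ.filter (fun i => v i ≠ 0)).card

/-- trivial linear part -/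
def triv (x : M648) : Prop := x.a = 1 ∧ x.b = 1 ∧ x.p = 1

instance (x : M648) : Decidable (triv x) := by unfold triv; infer_instance

/-- the square of a linear part -/
def lsq (a b : ℤˣ) (p : Equiv.Perm (Fin 3)) : M648 := lin a b p * lin a b p

/-- the fourth power of a linear part -/
def lfo (a b : ℤˣ) (p : Equiv.Perm (Fin 3)) : M648 := lsq a b p * lsq a b p

/-- the canonical vector of weight `n` -/
def canon (n : ℕ) : Fin 3 → ZMod 3 :=
  if n = 1 then ![1, 0, 0] else if n = 2 then ![1, 1, 0] else ![1, 1, 1]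

def chk1 (v : Fin 3 → ZMod 3) : Prop :=
  v ≠ 0 → (W v = 1 ∨ W v = 2 ∨ W v = 3) ∧
    ∃ (a b : ℤˣ) (p : Equiv.Perm (Fin 3)), (lin a b p).act v = canon (W v)

instance (v : Fin 3 → ZMod 3) : Decidable (chk1 v) := by unfold chk1; infer_instance

set_option maxRecDepth 100000 in
theorem chk1_all : ∀ v : Fin 3 → ZMod 3, chk1 v := by decide

/-- weight 1: an element of order 4 in the centraliser -/
def chk2 (v : Fin 3 → ZMod 3) : Prop :=
  W v = 1 → ∃ (a b : ℤˣ) (p : Equiv.Perm (Fin 3)),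
    (lin a b p).act v = v ∧ ¬ triv (lsq a b p) ∧ triv (lfo a b p)

instance (v : Fin 3 → ZMod 3) : Decidable (chk2 v) := by unfold chk2; infer_instance

set_option maxRecDepth 100000 in
theorem chk2_all : ∀ v : Fin 3 → ZMod 3, chk2 v := by decide

/-- weight 2: an involution, no element of order 4 -/
def chk3 (v : Fin 3 → ZMod 3) : Prop :=
  W v = 2 → (∃ (a b : ℤˣ) (p : Equiv.Perm (Fin 3)),
    (lin a b p).act v = v ∧ ¬ triv (lin a b p) ∧ triv (lsq a b p)) ∧
    ∀ (a b : ℤˣ) (p : Equiv.Perm (Fin 3)),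
      (lin a b p).act v = v → triv (lfo a b p) → triv (lsq a b p)

instance (v : Fin 3 → ZMod 3) : Decidable (chk3 v) := by unfold chk3; infer_instance

set_option maxRecDepth 100000 in
theorem chk3_all : ∀ v : Fin 3 → ZMod 3, chk3 v := by decide

/-- weight 3: no involution -/
def chk4 (v : Fin 3 → ZMod 3) : Prop :=
  W v = 3 → ∀ (a b : ℤˣ) (p : Equiv.Perm (Fin 3)),
    (lin a b p).act v = v → triv (lsq a b p) → triv (lin a b p)

instance (v : Fin 3 → ZMod 3) : Decidable (chk4 v) := by unfold chk4; infer_instance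

set_option maxRecDepth 100000 in
theorem chk4_all : ∀ v : Fin 3 → ZMod 3, chk4 v := by decide

/-! ## bridging lemmas -/

theorem comm_tr_iff (x : M648) (v : Fin 3 → ZMod 3) : x * tr v = tr v * x ↔ x.act v = v := by
  constructor
  · intro h
    apply tr_injective
    rw [← conj_tr, h, mul_inv_cancel_right]
  · intro h
    have := conj_tr x v
    rw [h] at this
    have h2 := congrArg (fun y => y * x) this
    simpa using h2

theorem triv_iff_mem (x : M648) : triv x ↔ x ∈ J648 := Iff.rfl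

theorem lin_eq_linpart (x : M648) : lin x.a x.b x.p = linpart x := rfl

theorem triv_lsq_iff (x : M648) : triv (lsq x.a x.b x.p) ↔ triv (x * x) := by
  unfold lsq
  rw [lin_eq_linpart, ← linpart_mul]
  exact Iff.rfl

theorem triv_lfo_iff (x : M648) : triv (lfo x.a x.b x.p) ↔ triv ((x * x) * (x * x)) := by
  unfold lfo lsq
  rw [lin_eq_linpart, ← linpart_mul, ← linpart_mul]
  exact Iff.rfl

theorem triv_lin_iff (x : M648) : triv (lin x.a x.b x.p) ↔ triv x := Iff.rfl

theorem eq_one_of_lin_triv (a b : ℤˣ) (p : Equiv.Perm (Fin 3)) (h : triv (lin a b p)) :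
    lin a b p = 1 := by
  obtain ⟨ha, hb, hp⟩ := h
  exact M648.ext rfl ha hb hp

theorem lin_mul_v (x y : M648) (hx : x.v = 0) (hy : y.v = 0) : (x * y).v = 0 := by
  funext i
  simp only [M648.mul_v, hx, hy, Pi.zero_apply, mul_zero, add_zero]

theorem eq_one_of_triv_of_v (x : M648) (hv : x.v = 0) (h : triv x) : x = 1 := by
  obtain ⟨ha, hb, hp⟩ := h
  exact M648.ext hv ha hb hp

/-- an element of `J648` of order dividing a power of 2 is trivial -/
theorem eq_one_of_mem_of_sq (y : M648) (hy : y ∈ J648) (h2 : y * y = 1) : y = 1 := by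
  have h3 := J648_pow_three y hy
  rw [pow_succ, pow_two, h2, one_mul] at h3
  exact h3

theorem inv4_of_wt_one (v : Fin 3 → ZMod 3) (h : W v = 1) : inv4 (tr v) ∧ inv2 (tr v) := by
  obtain ⟨a, b, p, hact, hsq, hfo⟩ := chk2_all v h
  have hl4 : lfo a b p = 1 := by
    apply eq_one_of_triv_of_v _ _ hfo
    exact lin_mul_v _ _ (lin_mul_v _ _ rfl rfl) (lin_mul_v _ _ rfl rfl)
  have hcomm : lin a b p * tr v = tr v * lin a b p := (comm_tr_iff _ _).mpr hact
  constructor
  · refine ⟨lin a b p, hcomm, ?_, ?_⟩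
    · intro h1
      apply hsq
      rw [pow_two] at h1
      show triv (lin a b p * lin a b p)
      rw [h1]
      exact ⟨rfl, rfl, rfl⟩
    · have : lin a b p ^ 4 = lfo a b p := by
        unfold lfo lsq
        rw [pow_succ, pow_succ, pow_two, mul_assoc, mul_assoc]
      rw [this, hl4]
  · refine ⟨lsq a b p, ?_, ?_, ?_⟩
    · unfold lsq
      rw [mul_assoc, hcomm, ← mul_assoc, hcomm, mul_assoc]
    · intro h1
      apply hsq
      rw [h1]
      exact ⟨rfl, rfl, rfl⟩
    · rw [pow_two]; exact hl4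

theorem inv2_of_wt_two (v : Fin 3 → ZMod 3) (h : W v = 2) : inv2 (tr v) := by
  obtain ⟨a, b, p, hact, hne, hsq⟩ := (chk3_all v h).1
  refine ⟨lin a b p, (comm_tr_iff _ _).mpr hact, ?_, ?_⟩
  · intro h1
    apply hne
    rw [h1]
    exact ⟨rfl, rfl, rfl⟩
  · rw [pow_two]
    exact eq_one_of_triv_of_v _ (lin_mul_v _ _ rfl rfl) hsq

theorem not_inv4_of_wt_two (v : Fin 3 → ZMod 3) (h : W v = 2) : ¬ inv4 (tr v) := by
  rintro ⟨x, hc, hx2, hx4⟩
  have hact : (lin x.a x.b x.p).act v = v := (comm_tr_iff x v).mp hc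
  have h4 : triv (lfo x.a x.b x.p) := by
    rw [triv_lfo_iff]
    have : x * x * (x * x) = x ^ 4 := by
      rw [pow_succ, pow_succ, pow_two]; simp only [mul_assoc]
    rw [this, hx4]
    exact ⟨rfl, rfl, rfl⟩
  have h2 := (chk3_all v h).2 x.a x.b x.p hact h4
  rw [triv_lsq_iff] at h2
  apply hx2
  rw [pow_two]
  apply eq_one_of_mem_of_sq _ h2
  have : x * x * (x * x) = x ^ 4 := by
    rw [pow_succ, pow_succ, pow_two]; simp only [mul_assoc]
  rw [this, hx4]

theorem not_inv2_of_wt_three (v : Fin 3 → ZMod 3) (h : W v = 3) : ¬ inv2 (tr v) := by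
  rintro ⟨x, hc, hx1, hx2⟩
  have hact : (lin x.a x.b x.p).act v = v := (comm_tr_iff x v).mp hc
  have h2 : triv (lsq x.a x.b x.p) := by
    rw [triv_lsq_iff, ← pow_two, hx2]
    exact ⟨rfl, rfl, rfl⟩
  have h1 := chk4_all v h x.a x.b x.p hact h2
  apply hx1
  apply eq_one_of_mem_of_sq x h1
  rw [← pow_two, hx2]

/-- MODC. -/
theorem exists_conj_of_inv (t t' : M648) (ht : t ∈ J648) (ht' : t' ∈ J648) (h1 : t ≠ 1) (h1' : t' ≠ 1)
    (h2 : inv2 t ↔ inv2 t') (h4 : inv4 t ↔ inv4 t') : ∃ m : M648, m * t * m⁻¹ = t' := by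
  have htv := (mem_J648_iff_tr t).mp ht
  have htv' := (mem_J648_iff_tr t').mp ht'
  have hv : t.v ≠ 0 := by
    intro h; apply h1; rw [htv, h, tr_zero]
  have hv' : t'.v ≠ 0 := by
    intro h; apply h1'; rw [htv', h, tr_zero]
  obtain ⟨hw, a, b, p, hl⟩ := chk1_all t.v hv
  obtain ⟨hw', a', b', p', hl'⟩ := chk1_all t'.v hv'
  rw [htv] at h2 h4
  rw [htv'] at h2 h4
  have hW : W t.v = W t'.v := by
    rcases hw with h | h | h <;> rcases hw' with h' | h' | h'
    · rw [h, h']
    · exact absurd (h4.mp (inv4_of_wt_one _ h).1) (not_inv4_of_wt_two _ h')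
    · exact absurd (h2.mp (inv4_of_wt_one _ h).2) (not_inv2_of_wt_three _ h')
    · exact absurd (h4.mpr (inv4_of_wt_one _ h').1) (not_inv4_of_wt_two _ h)
    · rw [h, h']
    · exact absurd (h2.mp (inv2_of_wt_two _ h)) (not_inv2_of_wt_three _ h')
    · exact absurd (h2.mpr (inv4_of_wt_one _ h').2) (not_inv2_of_wt_three _ h)
    · exact absurd (h2.mpr (inv2_of_wt_two _ h')) (not_inv2_of_wt_three _ h)
    · rw [h, h']
  refine ⟨(lin a' b' p')⁻¹ * lin a b p, ?_⟩
  have e1 : lin a b p * t * (lin a b p)⁻¹ = tr (canon (W t.v)) := by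
    have := conj_tr (lin a b p) t.v
    rw [← htv, hl] at this
    exact this
  have e2 : lin a' b' p' * t' * (lin a' b' p')⁻¹ = tr (canon (W t.v)) := by
    have := conj_tr (lin a' b' p') t'.v
    rw [← htv', hl', ← hW] at this
    exact this
  have e3 : (lin a' b' p')⁻¹ * lin a b p * t * ((lin a' b' p')⁻¹ * lin a b p)⁻¹ =
      (lin a' b' p')⁻¹ * (lin a b p * t * (lin a b p)⁻¹) * lin a' b' p' := by group
  rw [e3, e1, ← e2]
  group

end Cfsg.Agent.Lib.H26.T648
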