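import Mathlib

set_option autoImplicit false

/-!
Power computations for "transvection-like" conjugation (helper26): if `g q g⁻¹ = q m` with `m`
fixed by `g` and commuting with `q`, then `(q g) ^ k = q ^ k m ^ C(k,2) g ^ k`.  Also the
arithmetic of the geometric sum `∑_{i<p} j^i` for `j ≡ 1 (mod p)`, `p` odd.
-/

namespace Cfsg.Agent.Lib.H26.MetaPow

variable {G : Type*} [Group G]

theorem conj_pow_transv {q g m : G} (h1 : g * q * g⁻¹ = q * m) (h2 : g * m * g⁻¹ = m) (k : ℕ) :
    g ^ k * q * (g ^ k)⁻¹ = q * m ^ k := by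
  induction k with
  | zero => simp
  | succ k ih =>
    have hm : ∀ n : ℕ, g * m ^ n * g⁻¹ = m ^ n := by
      intro n
      induction n with
      | zero => simp
      | succ n ihn =>
        calc g * m ^ (n + 1) * g⁻¹ = (g * m ^ n * g⁻¹) * (g * m * g⁻¹) := by
              rw [pow_succ]; group
          _ = m ^ (n + 1) := by rw [ihn, h2, pow_succ]
    calc g ^ (k + 1) * q * (g ^ (k + 1))⁻¹ = g * (g ^ k * q * (g ^ k)⁻¹) * g⁻¹ := by
          rw [pow_succ']; group
      _ = g * (q * m ^ k) * g⁻¹ := by rw [ih]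
      _ = (g * q * g⁻¹) * (g * m ^ k * g⁻¹) := by group
      _ = q * m ^ (k + 1) := by rw [h1, hm, pow_succ', mul_assoc]

theorem mul_pow_transv {q g m : G} (h1 : g * q * g⁻¹ = q * m) (h2 : g * m * g⁻¹ = m)
    (h3 : q * m = m * q) (k : ℕ) :
    (q * g) ^ k = q ^ k * m ^ (k.choose 2) * g ^ k := by
  induction k with
  | zero => simp
  | succ k ih =>
    have hc := conj_pow_transv h1 h2 k
    have hqm : ∀ n : ℕ, q * m ^ n = m ^ n * q := by
      intro n
      exact ((Commute.pow_right (show Commute q m from h3) n)).eq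
    have hgk : g ^ k * q = q * m ^ k * g ^ k := by
      rw [← hc]; group
    have hch : (k + 1).choose 2 = k.choose 2 + k := by
      rw [Nat.choose_succ_succ' k 1, Nat.choose_one_right, add_comm]
    calc (q * g) ^ (k + 1) = (q * g) ^ k * (q * g) := pow_succ _ _
      _ = q ^ k * m ^ (k.choose 2) * (g ^ k * q) * g := by rw [ih]; group
      _ = q ^ k * m ^ (k.choose 2) * (q * m ^ k * g ^ k) * g := by rw [hgk]
      _ = q ^ k * (m ^ (k.choose 2) * q) * m ^ k * (g ^ k * g) := by group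
      _ = q ^ k * (q * m ^ (k.choose 2)) * m ^ k * (g ^ k * g) := by rw [hqm]
      _ = q ^ (k + 1) * m ^ ((k + 1).choose 2) * g ^ (k + 1) := by
        rw [hch, pow_add m, pow_succ q, pow_succ g]; group

/-- `(1 + p t) ^ i ≡ 1 + i p t (mod p²)`. -/
theorem one_add_pow_modEq (p t i : ℕ) : (1 + p * t) ^ i ≡ 1 + i * (p * t) [MOD p ^ 2] := by
  induction i with
  | zero => simp [Nat.ModEq]
  | succ i ih =>
    have h1 : (1 + p * t) ^ (i + 1) ≡ (1 + i * (p * t)) * (1 + p * t) [MOD p ^ 2] := by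
      rw [pow_succ]
      exact Nat.ModEq.mul_right _ ih
    have h2 : (1 + i * (p * t)) * (1 + p * t) = 1 + (i + 1) * (p * t) + p ^ 2 * (i * t * t) := by
      ring
    rw [h2] at h1
    refine h1.trans ?_
    have : p ^ 2 * (i * t * t) ≡ 0 [MOD p ^ 2] := by
      rw [Nat.modEq_zero_iff_dvd]
      exact dvd_mul_right _ _
    simpa using Nat.ModEq.add_left (1 + (i + 1) * (p * t)) this

/-- For `p` odd and `j ≡ 1 (mod p)`, `∑_{i<p} j^i = p · s'` with `s' ≡ 1 (mod p)`. -/
theorem geom_sum_eq {p : ℕ} (hp : p.Prime) (hp2 : p ≠ 2) (t : ℕ) :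
    ∃ w : ℕ, ∑ i ∈ Finset.range p, (1 + p * t) ^ i = p * (1 + p * w) := by
  have hodd : Odd p := hp.odd_of_ne_two hp2
  obtain ⟨r, hr⟩ := hodd
  have h1 : ∑ i ∈ Finset.range p, (1 + p * t) ^ i ≡
      ∑ i ∈ Finset.range p, (1 + i * (p * t)) [MOD p ^ 2] := by
    apply Nat.ModEq.sum
    intro i _
    exact one_add_pow_modEq p t i
  have h2 : ∑ i ∈ Finset.range p, (1 + i * (p * t)) = p + (∑ i ∈ Finset.range p, i) * (p * t) := by
    rw [Finset.sum_add_distrib, Finset.sum_const, Finset.card_range, smul_eq_mul, mul_one,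
      Finset.sum_mul]
  have h3 : (∑ i ∈ Finset.range p, i) = p * r := by
    have := Finset.sum_range_id_mul_two p
    have h4 : p - 1 = 2 * r := by omega
    rw [h4] at this
    have h5 : (∑ i ∈ Finset.range p, i) * 2 = (p * r) * 2 := by rw [this]; ring
    exact Nat.eq_of_mul_eq_mul_right (by norm_num) h5
  rw [h2, h3] at h1
  have h6 : p + p * r * (p * t) = p + p ^ 2 * (r * t) := by ring
  rw [h6] at h1
  have h7 : p + p ^ 2 * (r * t) ≡ p [MOD p ^ 2] := by
    have : p ^ 2 * (r * t) ≡ 0 [MOD p ^ 2] := by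
      rw [Nat.modEq_zero_iff_dvd]
      exact dvd_mul_right _ _
    simpa using Nat.ModEq.add_left p this
  have h8 := h1.trans h7
  -- the sum is at least `p`
  have hge : p ≤ ∑ i ∈ Finset.range p, (1 + p * t) ^ i := by
    calc p = ∑ _i ∈ Finset.range p, 1 := by simp
      _ ≤ ∑ i ∈ Finset.range p, (1 + p * t) ^ i := by
        apply Finset.sum_le_sum
        intro i _
        exact Nat.one_le_pow _ _ (by omega)
  have h9 : p ^ 2 ∣ ∑ i ∈ Finset.range p, (1 + p * t) ^ i - p :=
    (Nat.modEq_iff_dvd' hge).1 h8.symm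
  obtain ⟨w, hw⟩ := h9
  refine ⟨w, ?_⟩
  have : ∑ i ∈ Finset.range p, (1 + p * t) ^ i = p + p ^ 2 * w := by omega
  rw [this]; ring

end Cfsg.Agent.Lib.H26.MetaPow
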