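import Mathlib
import Cfsg.Prelude.Def_FusionSystem
import Cfsg.Agent.Lib.H25.Fusion

set_option autoImplicit false

/-!
The inner fusion system `F_S(S)` (helper26): membership, saturation.
-/

namespace Cfsg.Agent.Lib.H26

open Cfsg Cfsg.FusionSystem Cfsg.Agent.Lib.H25

variable {Ω : Type*} [Group Ω] {S : Subgroup Ω}

theorem mem_inner_hom_iff {P : Subgroup Ω} (φ : P →* Ω) :
    φ ∈ (innerFusionSystem S).Hom P ↔ P ≤ S ∧ ∃ g ∈ S, ∀ x : P, φ x = g * (x : Ω) * g⁻¹ := Iff.rfl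

/-- For abelian `S` the inner system has only inclusions. -/
theorem mem_inner_hom_iff_of_comm (hab : ∀ x ∈ S, ∀ y ∈ S, x * y = y * x) {P : Subgroup Ω}
    (φ : P →* Ω) : φ ∈ (innerFusionSystem S).Hom P ↔ P ≤ S ∧ ∀ x : P, φ x = x := by
  rw [mem_inner_hom_iff]
  constructor
  · rintro ⟨hP, g, hg, h⟩
    refine ⟨hP, fun x => ?_⟩
    rw [h x, hab g hg x (hP x.2)]; group
  · rintro ⟨hP, h⟩
    exact ⟨hP, 1, S.one_mem, fun x => by rw [h x]; group⟩

theorem inner_autGroup_eq {P : Subgroup Ω} (hP : P ≤ S) :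
    (innerFusionSystem S).autGroup P = autInducedBy S P := by
  unfold FusionSystem.autGroup autInducedBy
  congr 1
  ext α
  constructor
  · rintro ⟨-, g, hg, h⟩
    exact ⟨g, hg, fun x => h x⟩
  · rintro ⟨g, hg, h⟩
    exact ⟨hP, g, hg, fun x => h x⟩

theorem autInducedBy_isPGroup {p : ℕ} (hS : IsPGroup p S) (P : Subgroup Ω) :
    IsPGroup p (autInducedBy S P) := by
  rintro ⟨α, hα⟩
  obtain ⟨g, hg, hαg⟩ := (mem_autInducedBy_iff S P α).1 hα
  obtain ⟨k, hk⟩ := hS ⟨g, hg⟩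
  have hk' : g ^ (p ^ k) = 1 := by simpa using congrArg Subtype.val hk
  refine ⟨k, Subtype.ext ?_⟩
  have hpow : ∀ n : ℕ, ∀ x : P, (((α ^ n) x : P) : Ω) = g ^ n * (x : Ω) * (g ^ n)⁻¹ := by
    intro n
    induction n with
    | zero => intro x; simp
    | succ n ih =>
      intro x
      rw [pow_succ', MulAut.mul_apply, hαg, ih, pow_succ']
      group
  show α ^ (p ^ k) = 1
  ext x
  rw [hpow, hk']
  simp

/-- The inner fusion system of a `p`-group is saturated. -/
theorem inner_isSaturated {p : ℕ} (hS : IsPGroup p S) : (innerFusionSystem S).IsSaturated p := by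
  intro P hP
  refine ⟨P, isConj_refl _ hP, ⟨hP, ?_⟩, hP, ?_⟩
  · have hpg : IsPGroup p ((innerFusionSystem S).autGroup P) := by
      rw [inner_autGroup_eq hP]; exact autInducedBy_isPGroup hS P
    refine ⟨⟨⊤, ?_, ?_⟩, ?_⟩
    · intro x
      obtain ⟨k, hk⟩ := hpg x.1
      exact ⟨k, Subtype.ext hk⟩
    · intro Q _ hQ
      exact top_le_iff.mp hQ
    · show (⊤ : Subgroup ((innerFusionSystem S).autGroup P)) = _
      rw [← inner_autGroup_eq hP]
      exact (Subgroup.subgroupOf_self _).symm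
  · rintro P' φ ⟨hP', g, hg, hφ⟩ -
    have hle : extender S P' φ ≤ S := (extender_le_normalizerIn S P' φ).trans inf_le_left
    refine ⟨conjHom (extender S P' φ) g, (innerFusionSystem S).conj_mem hle hg, ?_⟩
    intro x hxP hxN
    rw [hφ]
    rfl

end Cfsg.Agent.Lib.H26
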