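import Mathlib
import Cfsg.Agent.Lib.H25.SatEquiv
import Cfsg.Agent.Lib.H25.Saturation

set_option autoImplicit false

/-!
Extension of an automorphism of a fully normalized subgroup `T` to `T⟨x⟩`, when the conjugate of
`c_x` is induced by an element of `S` (helper26).
-/

namespace Cfsg.Agent.Lib.H26.MetaSC

open Cfsg Cfsg.FusionSystem Cfsg.Agent.Lib.H25

universe u

variable {Ω : Type u} [Group Ω] {S : Subgroup Ω}

theorem exists_ext [Finite S] {p : ℕ} [Fact p.Prime] (hS : IsPGroup p S)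
    {F : FusionSystem S} (hF : F.IsSaturated p) {T : Subgroup Ω}
    (hTfn : F.IsFullyNormalized T) {f : Ω → Ω} (hf : IsIso F T T f) {x h : Ω}
    (hxS : x ∈ S) (hxN : x ∈ Subgroup.normalizer (T : Set Ω)) (hhS : h ∈ S)
    (hh : ∀ t ∈ T, f (x * t * x⁻¹) = h * f t * h⁻¹) :
    ∃ (f' : Ω → Ω) (N' : Subgroup Ω), IsIso F (T ⊔ Subgroup.zpowers x) N' f' ∧
      ∀ t ∈ T, f' t = f t := by
  have hrec : F.IsReceptive T :=
    isReceptive_of_fullyCentralized hS hF (fullyNormalized_props hS hF hTfn).1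
  obtain ⟨φ, hφ, hφf, hrange⟩ := hf
  have hle : T ⊔ Subgroup.zpowers x ≤ extender S T φ := by
    apply sup_le (le_extender F hφ)
    rw [Subgroup.zpowers_le]
    exact (mem_extender_iff' hφf x).2 ⟨hxS, hxN, h, hhS, hh⟩
  obtain ⟨f', N', hiso, hext⟩ := IsReceptive_extend hrec ⟨φ, hφ, hφf, hrange⟩
    (T ⊔ Subgroup.zpowers x) (fun g hg => (mem_extender_iff' hφf g).1 (hle hg))
  exact ⟨f', N', hiso, fun t ht => hext t ht (le_sup_left (a := T) ht)⟩

/-- powers under a function-level isomorphism -/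
theorem IsIso.map_pow' {F : FusionSystem S} {P Q : Subgroup Ω} {f : Ω → Ω} (h : IsIso F P Q f)
    {x : Ω} (hx : x ∈ P) (n : ℕ) : f (x ^ n) = f x ^ n := by
  induction n with
  | zero => rw [pow_zero, pow_zero]; exact h.map_one
  | succ n ih => rw [pow_succ, pow_succ, h.map_mul (P.pow_mem hx n) hx, ih]

end Cfsg.Agent.Lib.H26.MetaSC
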