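import Mathlib
import Cfsg.Prelude.Def_OddOrderLocal
import Cfsg.Agent.Lib.H16.Metacyclic
import Cfsg.Agent.Lib.H1.PGroupBasic
import Cfsg.Agent.Lib.H25.EssChain
import Cfsg.Agent.Lib.H26.MetaPow

set_option autoImplicit false

/-!
A finite metacyclic `p`-group (`p` odd) with no characteristic subgroup of index `p` is abelian,
and it either has exponent `p` or all its elements of order `p` are `p`-th powers (helper26).
-/

namespace Cfsg.Agent.Lib.H26.MetaG1

open Cfsg.Agent.Lib.H26.MetaPow

variable {Q : Type*} [Group Q]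

/-- No characteristic subgroup of index `p`. -/
def NoCharIdx (p : ℕ) (Q : Type*) [Group Q] : Prop :=
  ∀ K : Subgroup Q, K.Characteristic → K.index ≠ p

/-- In a finite cyclic group, an element killed by the order of a subgroup lies in it. -/
theorem mem_of_pow_card_eq_one {C : Type*} [Group C] [Finite C] [IsCyclic C] (D : Subgroup C)
    {c : C} (h : c ^ Nat.card D = 1) : c ∈ D := by
  classical
  haveI : Fintype C := Fintype.ofFinite C
  have hpos : 0 < Nat.card D := Nat.card_pos
  have h1 := IsCyclic.card_pow_eq_one_le (α := C) hpos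
  set T : Finset C := Finset.univ.filter (fun a : C => a ^ Nat.card D = 1) with hT
  let DF : Finset C := Finset.univ.filter (fun a : C => a ∈ D)
  have hDT : DF ⊆ T := by
    intro a ha
    rw [Finset.mem_filter] at ha ⊢
    refine ⟨Finset.mem_univ _, ?_⟩
    have h2 : (⟨a, ha.2⟩ : D) ^ Nat.card D = 1 := pow_card_eq_one'
    have h3 := congrArg (fun w : D => (w : C)) h2
    simp only [Subgroup.coe_pow, Subgroup.coe_one] at h3
    exact h3
  have hDFcard : DF.card = Nat.card D := by
    rw [Nat.card_eq_fintype_card, Fintype.card_subtype]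
  have hTD : T = DF := by
    symm
    apply Finset.eq_of_subset_of_card_le hDT
    rw [hDFcard]
    exact h1
  have hcT : c ∈ T := by
    rw [Finset.mem_filter]
    exact ⟨Finset.mem_univ _, h⟩
  rw [hTD, Finset.mem_filter] at hcT
  exact hcT.2

/-- In a group where commutators lie in a central subgroup `Z` of exponent `p` (`p` odd), the
`p^s`-th power map is multiplicative for `s ≥ 1`. -/
theorem mul_pow_of_central {G : Type*} [Group G] {p : ℕ} (hp : p.Prime) (hp2 : p ≠ 2)
    (Z : Subgroup G) (hZc : ∀ z ∈ Z, ∀ g : G, g * z = z * g) (hZp : ∀ z ∈ Z, z ^ p = 1)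
    (hcomm : ∀ x y : G, x⁻¹ * y * x * y⁻¹ ∈ Z) {s : ℕ} (hs : 1 ≤ s) (x y : G) :
    (x * y) ^ (p ^ s) = x ^ (p ^ s) * y ^ (p ^ s) := by
  set m := x⁻¹ * y * x * y⁻¹ with hm
  have hmZ : m ∈ Z := hcomm x y
  have h1 : y * x * y⁻¹ = x * m := by rw [hm]; group
  have h2 : y * m * y⁻¹ = m := by rw [hZc m hmZ y]; group
  have h3 : x * m = m * x := hZc m hmZ x
  have h4 := mul_pow_transv h1 h2 h3 (p ^ s)
  have hdvd : p ∣ (p ^ s).choose 2 := by
    rw [Nat.choose_two_right]
    have hodd : Odd p := hp.odd_of_ne_two hp2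
    have hodd' : Odd (p ^ s) := hodd.pow
    obtain ⟨r, hr⟩ := hodd'
    have h5 : p ^ s - 1 = 2 * r := by omega
    have h7 : p ^ s * (2 * r) / 2 = p ^ s * r := by
      rw [show p ^ s * (2 * r) = p ^ s * r * 2 by ring, Nat.mul_div_cancel _ (by norm_num : 0 < 2)]
    rw [h5, h7]
    exact (dvd_pow_self p (by omega)).mul_right _
  obtain ⟨w, hw⟩ := hdvd
  have h6 : m ^ ((p ^ s).choose 2) = 1 := by rw [hw, pow_mul, hZp m hmZ, one_pow]
  rw [h4, h6, mul_one]

variable [Finite Q] {p : ℕ} [hp : Fact p.Prime]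

theorem frattini_ne_top_of_nontrivial [Nontrivial Q] : frattini Q ≠ ⊤ := by
  intro h
  have h1 : (⊥ : Subgroup Q) ⊔ frattini Q = ⊤ := by rw [h, sup_top_eq]
  have h2 := frattini_nongenerating h1
  exact bot_ne_top h2

theorem frattini_index (hQ : IsPGroup p Q) (hm : Cfsg.IsMetacyclic Q) [Nontrivial Q]
    (hno : NoCharIdx p Q) : (frattini Q).index = p ^ 2 := by
  obtain ⟨n, hn2, hn⟩ := Cfsg.Agent.Lib.H16.Meta.card_frattini_quotient hQ hm
  rw [← Subgroup.index_eq_card] at hn
  have hn0 : n ≠ 0 := by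
    intro h0
    rw [h0, pow_zero, Subgroup.index_eq_one] at hn
    exact frattini_ne_top_of_nontrivial hn
  have hn1 : n ≠ 1 := by
    intro h1
    rw [h1, pow_one] at hn
    exact hno _ inferInstance hn
  have : n = 2 := by omega
  rw [hn, this]

/-- Every proper characteristic subgroup lies in the Frattini subgroup. -/
theorem le_frattini_of_char (hQ : IsPGroup p Q) (hidx : (frattini Q).index = p ^ 2)
    (hno : NoCharIdx p Q) (K : Subgroup Q) [K.Characteristic] (hK : K ≠ ⊤) :
    K ≤ frattini Q := by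
  set J := K ⊔ frattini Q with hJ
  have hJc : J.Characteristic := inferInstance
  have hJne : J ≠ ⊤ := fun h => hK (frattini_nongenerating h)
  have hdvd : J.index ∣ p ^ 2 := by
    rw [← hidx]
    exact Subgroup.index_dvd_of_le le_sup_right
  obtain ⟨i, hi2, hi⟩ := (Nat.dvd_prime_pow hp.out).1 hdvd
  have hi0 : i ≠ 0 := by
    intro h0
    rw [h0, pow_zero, Subgroup.index_eq_one] at hi
    exact hJne hi
  have hi1 : i ≠ 1 := by
    intro h1
    rw [h1, pow_one] at hi
    exact hno J hJc hi
  have hi2' : i = 2 := by omega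
  rw [hi2'] at hi
  have hcard : Nat.card J = Nat.card (frattini Q) := by
    have h1 := J.card_mul_index
    have h2 := (frattini Q).card_mul_index
    rw [hi] at h1
    rw [hidx] at h2
    have hpos : 0 < p ^ 2 := pow_pos hp.out.pos 2
    exact Nat.eq_of_mul_eq_mul_right hpos (h1.trans h2.symm)
  have hJeq : frattini Q = J :=
    Subgroup.eq_of_le_of_card_ge le_sup_right (le_of_eq hcard)
  rw [hJeq]
  exact le_sup_left

/-- A normal subgroup with cyclic quotient is not inside the Frattini subgroup. -/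
theorem not_le_frattini_of_cyclic_quot (hQ : IsPGroup p Q) (hidx : (frattini Q).index = p ^ 2)
    (C : Subgroup Q) [C.Normal] (hq : IsCyclic (Q ⧸ C)) : ¬ C ≤ frattini Q := by
  intro hle
  let f : Q ⧸ C →* Q ⧸ frattini Q := QuotientGroup.map C (frattini Q) (MonoidHom.id Q) hle
  have hf : Function.Surjective f := by
    intro y
    obtain ⟨x, rfl⟩ := QuotientGroup.mk'_surjective _ y
    exact ⟨QuotientGroup.mk' C x, rfl⟩
  haveI : IsCyclic (Q ⧸ frattini Q) := isCyclic_of_surjective f hf
  have hle' : Nat.card (Q ⧸ frattini Q) ≤ p := by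
    apply Cfsg.Agent.Lib.H16.Meta.card_le_of_cyclic_of_pow hp.out.pos
    intro a
    obtain ⟨x, rfl⟩ := QuotientGroup.mk'_surjective (frattini Q) a
    rw [← map_pow, QuotientGroup.mk'_apply, QuotientGroup.eq_one_iff]
    exact Cfsg.Agent.Lib.H1.isPGroup_pow_mem_frattini hQ x
  rw [← Subgroup.index_eq_card, hidx] at hle'
  have : p < p ^ 2 := by
    have := hp.out.one_lt
    nlinarith
  omega

end Cfsg.Agent.Lib.H26.MetaG1
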