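import Mathlib
import Cfsg.Agent.Lib.H26.MetaG1
import Cfsg.Agent.Lib.H25.AbPow

set_option autoImplicit false
set_option maxHeartbeats 800000

/-!
Main step (helper26): a finite metacyclic `p`-group (`p` odd) with no characteristic subgroup of
index `p` is abelian.
-/

namespace Cfsg.Agent.Lib.H26.MetaG1

open Cfsg.Agent.Lib.H26.MetaPow
open scoped commutatorElement

variable {Q : Type*} [Group Q] [Finite Q] {p : ℕ} [hp : Fact p.Prime]

/-- The Frattini subgroup of a nontrivial finite cyclic `p`-group has index `p`. -/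
theorem frattini_index_of_cyclic {D : Type*} [Group D] [Finite D] [Nontrivial D] [IsCyclic D]
    (hD : IsPGroup p D) : (frattini D).index = p := by
  obtain ⟨n, hn⟩ := hD.index (frattini D)
  have hcyc : IsCyclic (D ⧸ frattini D) :=
    isCyclic_of_surjective (QuotientGroup.mk' (frattini D)) (QuotientGroup.mk'_surjective _)
  have hle : Nat.card (D ⧸ frattini D) ≤ p := by
    apply Cfsg.Agent.Lib.H16.Meta.card_le_of_cyclic_of_pow hp.out.pos
    intro a
    obtain ⟨x, rfl⟩ := QuotientGroup.mk'_surjective (frattini D) a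
    rw [← map_pow, QuotientGroup.mk'_apply, QuotientGroup.eq_one_iff]
    exact Cfsg.Agent.Lib.H1.isPGroup_pow_mem_frattini hD x
  rw [← Subgroup.index_eq_card, hn] at hle
  have hn0 : n ≠ 0 := by
    intro h0
    rw [h0, pow_zero, Subgroup.index_eq_one] at hn
    exact frattini_ne_top_of_nontrivial hn
  have hn1 : n ≤ 1 := by
    by_contra h
    push Not at h
    have h2 : p ^ 2 ≤ p ^ n := Nat.pow_le_pow_right hp.out.pos h
    have : p < p ^ 2 := by
      have := hp.out.one_lt
      nlinarith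
    omega
  have : n = 1 := by omega
  rw [hn, this, pow_one]

theorem comm_of_noCharIdx (hp2 : p ≠ 2) (hQ : IsPGroup p Q) (hm : Cfsg.IsMetacyclic Q)
    (hno : NoCharIdx p Q) : ∀ x y : Q, x * y = y * x := by
  by_cases hnt : Nontrivial Q
  swap
  · rw [not_nontrivial_iff_subsingleton] at hnt
    intro x y
    exact Subsingleton.elim _ _
  have hidx := frattini_index hQ hm hno
  by_contra hcon
  obtain ⟨D, hD⟩ : ∃ D : Subgroup Q, D = commutator Q := ⟨_, rfl⟩
  haveI hDchar : D.Characteristic := by rw [hD]; infer_instance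
  have hDne : D ≠ ⊥ := by
    intro h
    apply hcon
    rw [hD] at h
    haveI := (commutator_eq_bot_iff Q).1 h
    intro x y
    exact mul_comm' x y
  obtain ⟨C, hCn, hCc, hQc⟩ := hm
  haveI := hCn
  have hDC : D ≤ C := by
    rw [hD]
    exact Subgroup.Normal.quotient_commutative_iff_commutator_le.1 inferInstance
  haveI hDcyc : IsCyclic D :=
    isCyclic_of_injective (Subgroup.inclusion hDC) (Subgroup.inclusion_injective hDC)
  haveI hDnt : Nontrivial D := (Subgroup.nontrivial_iff_ne_bot D).2 hDne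
  have hDp : IsPGroup p D := hQ.to_subgroup D
  -- `L = Φ(D)`
  set L : Subgroup Q := (frattini ↥D).map D.subtype with hL
  haveI hLchar : L.Characteristic := inferInstance
  have hLD : L ≤ D := Subgroup.map_subtype_le _
  have hLsub : L.subgroupOf D = frattini ↥D := by
    rw [hL]
    exact Subgroup.comap_map_eq_self_of_injective (Subgroup.subtype_injective D) _
  have hLrel : L.relIndex D = p := by
    unfold Subgroup.relIndex
    rw [hLsub]
    exact frattini_index_of_cyclic hDp
  have hcardDL : Nat.card D = p * Nat.card L := by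
    have h1 := (L.subgroupOf D).card_mul_index
    have h2 : (L.subgroupOf D).index = p := hLrel
    have h3 : Nat.card (L.subgroupOf D) = Nat.card L :=
      Nat.card_congr (Subgroup.subgroupOfEquivOfLe hLD).toEquiv
    rw [h2, h3] at h1
    rw [← h1, mul_comm]
  -- `[D, Q] ≤ L`
  have hDL : ∀ d ∈ D, ∀ y : Q, d⁻¹ * (y * d * y⁻¹) ∈ L := by
    intro d hd y
    obtain ⟨k, hk⟩ := hQ y
    have hα : (MulAut.conj y) ^ p ^ k = 1 := by
      rw [← map_pow, hk, map_one]
    have := Cfsg.Agent.Lib.H25.EssChain.stabilizes_step L D hLD hLrel (MulAut.conj y)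
      (fun a ha => by
        rw [MulAut.conj_apply]
        exact (inferInstance : L.Normal).conj_mem a ha y)
      (fun b hb => by
        rw [MulAut.conj_apply]
        exact (inferInstance : D.Normal).conj_mem b hb y) hα d hd
    rwa [MulAut.conj_apply] at this
  have hpowL : ∀ d ∈ D, d ^ p ∈ L := by
    intro d hd
    have h1 := Cfsg.Agent.Lib.H1.isPGroup_pow_mem_frattini hDp (⟨d, hd⟩ : D)
    exact ⟨⟨d, hd⟩ ^ p, h1, by simp⟩
  -- the quotient `Q / L`
  let Z : Subgroup (Q ⧸ L) := D.map (QuotientGroup.mk' L)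
  have hZc : ∀ z ∈ Z, ∀ g : Q ⧸ L, g * z = z * g := by
    rintro _ ⟨d, hd, rfl⟩ g
    obtain ⟨y, rfl⟩ := QuotientGroup.mk'_surjective L g
    rw [← map_mul, ← map_mul, QuotientGroup.mk'_apply, QuotientGroup.mk'_apply, QuotientGroup.eq]
    have h1 := hDL d hd y⁻¹
    have e : (y * d)⁻¹ * (d * y) = d⁻¹ * (y⁻¹ * d * y⁻¹⁻¹) := by group
    rw [e]
    exact h1
  have hZp : ∀ z ∈ Z, z ^ p = 1 := by
    rintro _ ⟨d, hd, rfl⟩
    rw [← map_pow, QuotientGroup.mk'_apply, QuotientGroup.eq_one_iff]
    exact hpowL d hd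
  have hZcomm : ∀ x y : Q ⧸ L, x⁻¹ * y * x * y⁻¹ ∈ Z := by
    intro x y
    obtain ⟨a, rfl⟩ := QuotientGroup.mk'_surjective L x
    obtain ⟨b, rfl⟩ := QuotientGroup.mk'_surjective L y
    refine ⟨a⁻¹ * b * a * b⁻¹, ?_, by simp⟩
    rw [hD]
    have h1 : ⁅a⁻¹, b⁆ ∈ commutator Q :=
      Subgroup.commutator_mem_commutator (Subgroup.mem_top _) (Subgroup.mem_top _)
    rw [commutatorElement_def, inv_inv] at h1
    exact h1
  -- the subgroups `K j = {x | x ^ p ^ j ∈ D}`
  let f : ℕ → Q →* Abelianization Q := fun j =>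
    (powMonoidHom (p ^ j)).comp Abelianization.of
  have hfmem : ∀ j (x : Q), x ∈ (f j).ker ↔ x ^ p ^ j ∈ D := by
    intro j x
    rw [MonoidHom.mem_ker, hD, ← Abelianization.ker_of, MonoidHom.mem_ker, map_pow]
    rfl
  have hKchar : ∀ j, ((f j).ker).Characteristic := by
    intro j
    rw [Subgroup.characteristic_iff_le_comap]
    intro φ x hx
    rw [Subgroup.mem_comap, hfmem]
    rw [hfmem] at hx
    have := Cfsg.Agent.Lib.H25.EssChain.char_map_mem hDchar φ hx
    rwa [map_pow] at this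
  have hex : ∃ j, (f j).ker = ⊤ := by
    obtain ⟨e, he⟩ := IsPGroup.iff_card.1 hQ
    refine ⟨e, ?_⟩
    rw [eq_top_iff]
    intro x _
    rw [hfmem, ← he, pow_card_eq_one']
    exact D.one_mem
  classical
  let s := Nat.find hex
  have hs : (f s).ker = ⊤ := Nat.find_spec hex
  have hDtop : D ≠ ⊤ := by
    intro h
    have h1 : D ≤ frattini Q := by
      rw [hD]; exact Cfsg.Agent.Lib.H1.isPGroup_commutator_le_frattini hQ
    rw [h, top_le_iff] at h1
    exact frattini_ne_top_of_nontrivial h1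
  have hs1 : 1 ≤ s := by
    by_contra h
    have h0 : s = 0 := by omega
    rw [h0] at hs
    apply hDtop
    rw [eq_top_iff]
    intro x _
    have : x ∈ (f 0).ker := by rw [hs]; exact Subgroup.mem_top x
    rw [hfmem, pow_zero, pow_one] at this
    exact this
  have hspred : (f (s - 1)).ker ≠ ⊤ := Nat.find_min hex (by omega)
  haveI := hKchar (s - 1)
  have hKle : (f (s - 1)).ker ≤ frattini Q := le_frattini_of_char hQ hidx hno _ hspred
  have hsD : ∀ x : Q, x ^ p ^ s ∈ D := by
    intro x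
    rw [← hfmem, hs]
    exact Subgroup.mem_top x
  -- the homomorphism `π`
  let π : Q →* Q ⧸ L := MonoidHom.mk' (fun x => (QuotientGroup.mk' L x) ^ (p ^ s)) (by
    intro a b
    rw [map_mul]
    exact mul_pow_of_central hp.out hp2 Z hZc hZp hZcomm hs1 _ _)
  have hπ : ∀ x : Q, π x = (QuotientGroup.mk' L x) ^ (p ^ s) := fun x => rfl
  have hπmem : ∀ x : Q, x ∈ π.ker ↔ x ^ p ^ s ∈ L := by
    intro x
    rw [MonoidHom.mem_ker, hπ, ← map_pow, QuotientGroup.mk'_apply, QuotientGroup.eq_one_iff]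
  haveI hRchar : (π.ker).Characteristic := by
    rw [Subgroup.characteristic_iff_le_comap]
    intro φ x hx
    rw [Subgroup.mem_comap, hπmem]
    rw [hπmem] at hx
    have := Cfsg.Agent.Lib.H25.EssChain.char_map_mem hLchar φ hx
    rwa [map_pow] at this
  have hrange : π.range ≤ Z := by
    rintro _ ⟨x, rfl⟩
    rw [hπ, ← map_pow]
    exact ⟨x ^ p ^ s, hsD x, rfl⟩
  haveI hZcyc : IsCyclic Z :=
    isCyclic_of_surjective ((QuotientGroup.mk' L).subgroupMap D)
      ((QuotientGroup.mk' L).subgroupMap_surjective D)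
  have hZcard : Nat.card Z ≤ p := by
    apply Cfsg.Agent.Lib.H16.Meta.card_le_of_cyclic_of_pow hp.out.pos
    intro a
    apply Subtype.ext
    rw [Subgroup.coe_pow, Subgroup.coe_one]
    exact hZp a a.2
  have hRidx : π.ker.index ≤ p := by
    rw [Subgroup.index_ker]
    exact (Subgroup.card_le_of_le hrange).trans hZcard
  have hRtop : π.ker = ⊤ := by
    obtain ⟨n, hn⟩ := hQ.index π.ker
    have hn1 : n ≤ 1 := by
      by_contra h
      push Not at h
      have h2 : p ^ 2 ≤ p ^ n := Nat.pow_le_pow_right hp.out.pos h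
      have : p < p ^ 2 := by
        have := hp.out.one_lt
        nlinarith
      omega
    rcases Nat.lt_or_ge n 1 with h0 | h0
    · have : n = 0 := by omega
      rw [this, pow_zero, Subgroup.index_eq_one] at hn
      exact hn
    · exfalso
      have : n = 1 := by omega
      rw [this, pow_one] at hn
      exact hno _ hRchar hn
  have hsL : ∀ x : Q, x ^ p ^ s ∈ L := by
    intro x
    rw [← hπmem, hRtop]
    exact Subgroup.mem_top x
  -- a generator of `C`
  obtain ⟨a, ha⟩ := IsCyclic.exists_generator (α := C)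
  have haL : ((a : Q)) ^ p ^ s ∈ L := hsL a
  -- `a ^ p ^ (s-1) ∈ D`
  have haD : ((a : Q)) ^ p ^ (s - 1) ∈ D := by
    have hDCcard : Nat.card (D.subgroupOf C) = Nat.card D :=
      Nat.card_congr (Subgroup.subgroupOfEquivOfLe hDC).toEquiv
    have h1 : (a ^ p ^ (s - 1)) ^ Nat.card (D.subgroupOf C) = 1 := by
      apply Subtype.ext
      rw [hDCcard, hcardDL, Subgroup.coe_pow, Subgroup.coe_pow, Subgroup.coe_one, ← pow_mul,
        ← mul_assoc, ← pow_succ, Nat.sub_add_cancel hs1, pow_mul]
      have h2 : (⟨(a : Q) ^ p ^ s, haL⟩ : L) ^ Nat.card L = 1 := pow_card_eq_one'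
      have h3 := congrArg (fun w : L => (w : Q)) h2
      simp only [Subgroup.coe_pow, Subgroup.coe_one] at h3
      exact h3
    have h4 := mem_of_pow_card_eq_one (D.subgroupOf C) h1
    rw [Subgroup.mem_subgroupOf, Subgroup.coe_pow] at h4
    exact h4
  have haK : (a : Q) ∈ (f (s - 1)).ker := (hfmem _ _).2 haD
  have haΦ : (a : Q) ∈ frattini Q := hKle haK
  apply not_le_frattini_of_cyclic_quot hQ hidx C hQc
  intro c hc
  have h1 := ha ⟨c, hc⟩
  obtain ⟨n, hn⟩ := h1
  have h2 : c = (a : Q) ^ n := by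
    have := congrArg (fun w : C => (w : Q)) hn
    simpa using this.symm
  rw [h2]
  exact Subgroup.zpow_mem _ haΦ n

/-- The exponent dichotomy. -/
theorem exp_or_le_range (hQ : IsPGroup p Q) (hm : Cfsg.IsMetacyclic Q)
    (hno : NoCharIdx p Q) (hc : ∀ x y : Q, x * y = y * x) :
    (∀ q : Q, q ^ p = 1) ∨ (∀ q : Q, q ^ p = 1 → ∃ y : Q, y ^ p = q) := by
  by_cases hnt : Nontrivial Q
  swap
  · rw [not_nontrivial_iff_subsingleton] at hnt
    left
    intro q
    exact Subsingleton.elim _ _
  have hidx := frattini_index hQ hm hno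
  by_cases hΩ : (Cfsg.Agent.Lib.H25.AbPow.pw hc p).ker = ⊤
  · left
    intro q
    rw [← Cfsg.Agent.Lib.H25.AbPow.mem_ker_pw hc, hΩ]
    exact Subgroup.mem_top q
  · right
    haveI := Cfsg.Agent.Lib.H25.AbPow.ker_pw_char hc p
    have hle := le_frattini_of_char hQ hidx hno _ hΩ
    rw [Cfsg.Agent.Lib.H25.AbPow.frattini_eq_range hQ hc] at hle
    intro q hq
    have := hle ((Cfsg.Agent.Lib.H25.AbPow.mem_ker_pw hc p q).2 hq)
    obtain ⟨y, hy⟩ := this
    exact ⟨y, hy⟩

end Cfsg.Agent.Lib.H26.MetaG1
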