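import Mathlib
import Cfsg.Prelude.Def_FusionSystem
import Cfsg.Agent.Lib.H25.Fusion
import Cfsg.Agent.Lib.H25.Saturation
import Cfsg.Agent.Lib.H25.Alperin

set_option autoImplicit false
set_option linter.unusedSectionVars false

/-!
Maps of a saturated fusion system agreeing on a centric subgroup differ by an element of its
centre (helper26).
-/

namespace Cfsg.Agent.Lib.H26

open Cfsg Cfsg.FusionSystem Cfsg.Agent.Lib.H25

variable {Ω : Type*} [Group Ω] {S : Subgroup Ω}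

theorem isCentric_of_isConj {F : FusionSystem S} {Q Q' : Subgroup Ω} (hQ : F.IsCentric Q)
    (h : F.IsConj Q Q') : F.IsCentric Q' :=
  ⟨isConj_le_right F h, fun R hR => hQ.2 R (isConj_trans F h hR)⟩

theorem isCentric_of_le {F : FusionSystem S} {Q Q₁ : Subgroup Ω} (hQ : F.IsCentric Q)
    (hle : Q ≤ Q₁) (hQ₁ : Q₁ ≤ S) : F.IsCentric Q₁ := by
  refine ⟨hQ₁, fun R hR => ?_⟩
  obtain ⟨f, hf⟩ := (isConj_iff F).1 hR
  obtain ⟨R₀, hR₀R, hiso, -⟩ := hf.restrict hle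
  have h1 := hQ.2 R₀ hiso.isConj
  intro x hx
  apply hR₀R
  apply h1
  exact ⟨hx.1, Subgroup.centralizer_le (by exact_mod_cast hR₀R) hx.2⟩

/-- An automorphism of the system of `p`-power order is conjugate, along a suitable isomorphism
onto a fully automized subgroup, to conjugation by an element of `S`. -/
theorem exists_iso_conj_of_pow [Finite S] {p : ℕ} [Fact p.Prime]
    {F : FusionSystem S} {P P₁ : Subgroup Ω} (hP₁ : F.IsFullyAutomized p P₁) {f₀ : Ω → Ω}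
    (hf₀ : IsIso F P P₁ f₀) {β : Ω → Ω} (hβ : IsIso F P P β) {k : ℕ}
    (hk : ∀ x ∈ P, β^[p ^ k] x = x) :
    ∃ χ : Ω → Ω, IsIso F P P₁ χ ∧ ∃ h ∈ S, ∀ y ∈ P, χ (β y) = h * χ y * h⁻¹ := by
  have hP₁S := hf₀.le_right
  obtain ⟨g₀, hg₀, hg₀f₀, hf₀g₀⟩ := hf₀.symm
  have hβ₁ : IsIso F P₁ P₁ (f₀ ∘ β ∘ g₀) := (hg₀.trans hβ).trans hf₀
  obtain ⟨α₁, hα₁A, hα₁⟩ := exists_mem_autGroup_of_isIso F hβ₁
  have hiter_mem : ∀ n : ℕ, ∀ x ∈ P, β^[n] x ∈ P := by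
    intro n
    induction n with
    | zero => intro x hx; exact hx
    | succ n ih =>
      intro x hx
      rw [Function.iterate_succ_apply']
      exact hβ.map_mem (ih x hx)
  have hpow : ∀ n : ℕ, ∀ x : P₁, (((α₁ ^ n) x : P₁) : Ω) = f₀ (β^[n] (g₀ x)) := by
    intro n
    induction n with
    | zero =>
      intro x
      show (x : Ω) = f₀ (g₀ x)
      rw [hf₀g₀ x x.2]
    | succ n ih =>
      intro x
      rw [pow_succ', MulAut.mul_apply, hα₁, ih]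
      show f₀ (β (g₀ (f₀ (β^[n] (g₀ x))))) = _
      rw [hg₀f₀ _ (hiter_mem n _ (hg₀.map_mem x.2)), Function.iterate_succ_apply']
  have hone : α₁ ^ (p ^ k) = 1 := by
    ext x
    rw [hpow, hk _ (hg₀.map_mem x.2), hf₀g₀ x x.2]
    rfl
  have hKp : IsPGroup p (Subgroup.zpowers α₁) := by
    have hdvd := orderOf_dvd_of_pow_eq_one hone
    obtain ⟨j, -, hj⟩ := (Nat.dvd_prime_pow (Fact.out : p.Prime)).1 hdvd
    apply IsPGroup.of_card (n := j)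
    rw [Nat.card_zpowers, hj]
  have hKA : Subgroup.zpowers α₁ ≤ F.autGroup P₁ := Subgroup.zpowers_le.2 hα₁A
  obtain ⟨a, haA, ha⟩ := IsFullyAutomized_exists_conj hP₁ _ hKp hKA
  have hfa := isIso_of_mem_autGroup F hP₁S haA
  obtain ⟨h, hh, hconj⟩ := (mem_autInducedBy_iff S P₁ _).1 (ha α₁ (Subgroup.mem_zpowers α₁))
  have hfa_apply : ∀ x : P₁, ext1 (P₁.subtype.comp a.toMonoidHom) x = ((a x : P₁) : Ω) :=
    fun x => ext1_apply _ x
  refine ⟨ext1 (P₁.subtype.comp a.toMonoidHom) ∘ f₀, hf₀.trans hfa, h, hh, fun y hy => ?_⟩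
  have hy' : f₀ y ∈ P₁ := hf₀.map_mem hy
  have hβy : β y ∈ P := hβ.map_mem hy
  have hy'' : f₀ (β y) ∈ P₁ := hf₀.map_mem hβy
  have h1 := hconj (a ⟨f₀ y, hy'⟩)
  rw [MulAut.mul_apply, MulAut.mul_apply] at h1
  have h2 : a⁻¹ (a ⟨f₀ y, hy'⟩) = ⟨f₀ y, hy'⟩ := by simp
  rw [h2] at h1
  have h3 : ((α₁ ⟨f₀ y, hy'⟩ : P₁) : Ω) = f₀ (β y) := by
    rw [hα₁]
    show f₀ (β (g₀ (f₀ y))) = _
    rw [hg₀f₀ y hy]
  have h5 : α₁ ⟨f₀ y, hy'⟩ = ⟨f₀ (β y), hy''⟩ := Subtype.ext h3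
  rw [h5] at h1
  show ext1 (P₁.subtype.comp a.toMonoidHom) (f₀ (β y)) =
    h * ext1 (P₁.subtype.comp a.toMonoidHom) (f₀ y) * h⁻¹
  rw [hfa_apply ⟨f₀ y, hy'⟩, ← h1]
  exact hfa_apply ⟨f₀ (β y), hy''⟩

/-- The normal case. -/
theorem centric_ext_normal [Finite S] {p : ℕ} [Fact p.Prime] (hS : IsPGroup p S)
    {F : FusionSystem S} (hF : F.IsSaturated p) {P Q P' : Subgroup Ω} (hQP : Q ≤ P)
    (hnorm : P ≤ Subgroup.normalizer (Q : Set Ω)) (hQ : F.IsCentric Q) {β : Ω → Ω}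
    (hβ : IsIso F P P' β) (hβQ : ∀ x ∈ Q, β x = x) :
    ∃ w ∈ Q, w ∈ Subgroup.centralizer (Q : Set Ω) ∧ ∀ y ∈ P, β y = w * y * w⁻¹ := by
  have hPS := hβ.le_left
  have hQS := hQ.1
  have : Finite P := finite_of_le S hPS
  have : Finite Q := finite_of_le S hQS
  have hz : ∀ x ∈ P, x⁻¹ * β x ∈ Q ∧ x⁻¹ * β x ∈ Subgroup.centralizer (Q : Set Ω) := by
    intro x hx
    have hc : x⁻¹ * β x ∈ Subgroup.centralizer (Q : Set Ω) := by
      rw [Subgroup.mem_centralizer_iff]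
      intro q hq
      have hq' : x * q * x⁻¹ ∈ Q := (Subgroup.mem_normalizer_iff.1 (hnorm hx) q).1 hq
      have h1 : β (x * q * x⁻¹) = β x * q * (β x)⁻¹ := by
        rw [hβ.map_mul (P.mul_mem hx (hQP hq)) (P.inv_mem hx), hβ.map_mul hx (hQP hq),
          hβ.map_inv hx, hβQ q hq]
      rw [hβQ _ hq'] at h1
      have e : x⁻¹ * β x * q = x⁻¹ * (β x * q * (β x)⁻¹) * β x := by group
      rw [e, ← h1]
      group
    exact ⟨hQ.2 Q (isConj_refl F hQS)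
      ⟨S.mul_mem (S.inv_mem (hPS hx)) (hβ.le_right (hβ.map_mem hx)), hc⟩, hc⟩
  have hβP : ∀ x ∈ P, β x ∈ P := by
    intro x hx
    have e : β x = x * (x⁻¹ * β x) := by group
    rw [e]
    exact P.mul_mem hx (hQP (hz x hx).1)
  have hP'P : P' = P := by
    have hle : P' ≤ P := by
      intro y hy
      obtain ⟨x, hx, rfl⟩ := hβ.surjOn hy
      exact hβP x hx
    exact Subgroup.eq_of_le_of_card_ge hle (le_of_eq hβ.card_eq)
  rw [hP'P] at hβ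
  -- iterates
  have hiter : ∀ n : ℕ, ∀ x ∈ P, β^[n] x = x * (x⁻¹ * β x) ^ n := by
    intro n
    induction n with
    | zero => intro x _; simp
    | succ n ih =>
      intro x hx
      have hzn : (x⁻¹ * β x) ^ n ∈ Q := Q.pow_mem (hz x hx).1 n
      rw [Function.iterate_succ_apply', ih x hx, hβ.map_mul hx (hQP hzn), hβQ _ hzn, pow_succ']
      simp only [mul_assoc, mul_inv_cancel_left]
  obtain ⟨k, hk⟩ := (IsPGroup.iff_card (p := p) (G := Q)).1 (hS.to_le hQS)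
  have hpk : ∀ x ∈ P, β^[p ^ k] x = x := by
    intro x hx
    rw [hiter _ x hx]
    have h1 : (⟨x⁻¹ * β x, (hz x hx).1⟩ : Q) ^ Nat.card Q = 1 := pow_card_eq_one'
    rw [hk] at h1
    have h2 : (x⁻¹ * β x) ^ p ^ k = 1 := by
      have := congrArg Subtype.val h1
      simpa using this
    rw [h2, mul_one]
  obtain ⟨P₁, hPP₁, hfa, -⟩ := hF P hPS
  obtain ⟨f₀, hf₀⟩ := (isConj_iff F).1 hPP₁
  obtain ⟨χ, hχ, h, hh, hχh⟩ := exists_iso_conj_of_pow hfa hf₀ hβ hpk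
  obtain ⟨Q₁, hQ₁P₁, hχQ, hQ₁mem⟩ := hχ.restrict hQP
  have hcQ₁ := hQ.2 Q₁ hχQ.isConj
  have hhQ₁ : h ∈ Q₁ := by
    apply hcQ₁
    refine ⟨hh, ?_⟩
    show h ∈ Subgroup.centralizer (Q₁ : Set Ω)
    rw [Subgroup.mem_centralizer_iff]
    intro y₁ hy₁
    obtain ⟨q, hq, rfl⟩ := hχQ.surjOn hy₁
    have h1 := hχh q (hQP hq)
    rw [hβQ q hq] at h1
    -- h1 : χ q = h * χ q * h⁻¹
    have e : h * χ q = (h * χ q * h⁻¹) * h := by group
    rw [e, ← h1]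
  obtain ⟨w, hw, hwh⟩ := hχQ.surjOn hhQ₁
  have hwP : w ∈ P := hQP hw
  have key : ∀ y ∈ P, β y = w * y * w⁻¹ := by
    intro y hy
    apply hχ.injOn (hβP y hy) (P.mul_mem (P.mul_mem hwP hy) (P.inv_mem hwP))
    rw [hχh y hy, hχ.map_mul (P.mul_mem hwP hy) (P.inv_mem hwP), hχ.map_mul hwP hy,
      hχ.map_inv hwP, hwh]
  refine ⟨w, hw, ?_, key⟩
  rw [Subgroup.mem_centralizer_iff]
  intro q hq
  have h1 := key q (hQP hq)
  rw [hβQ q hq] at h1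
  have e : w * q = (w * q * w⁻¹) * w := by group
  rw [e, ← h1]

theorem centric_ext_aux [Finite S] {p : ℕ} [Fact p.Prime] (hS : IsPGroup p S)
    {F : FusionSystem S} (hF : F.IsSaturated p) {P : Subgroup Ω} (hPS : P ≤ S) :
    ∀ n : ℕ, ∀ Q : Subgroup Ω, Q ≤ P → F.IsCentric Q → Nat.card P - Nat.card Q = n →
      ∀ (P' : Subgroup Ω) (β : Ω → Ω), IsIso F P P' β → (∀ x ∈ Q, β x = x) →
        ∃ w ∈ Q, w ∈ Subgroup.centralizer (Q : Set Ω) ∧ ∀ y ∈ P, β y = w * y * w⁻¹ := by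
  have hfinP : Finite P := finite_of_le S hPS
  intro n
  induction n using Nat.strong_induction_on with
  | _ n ih =>
    intro Q hQP hQ hn P' β hβ hβQ
    by_cases hQeq : Q = P
    · refine ⟨1, Q.one_mem, Subgroup.one_mem _, fun y hy => ?_⟩
      rw [hβQ y (hQeq ▸ hy)]
      simp
    · have hPp : IsPGroup p P := hS.to_le hPS
      obtain ⟨g, hgN, hgQ⟩ := exists_mem_normalizerIn_not_mem (S := P) hPp hQP hQeq
      obtain ⟨Q₁, hQ₁def⟩ : ∃ Q₁ : Subgroup Ω, Q₁ = normalizerIn P Q := ⟨_, rfl⟩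
      have hQQ₁ : Q ≤ Q₁ := by
        rw [hQ₁def]
        exact le_inf hQP Subgroup.le_normalizer
      have hQ₁P : Q₁ ≤ P := by
        rw [hQ₁def]
        exact inf_le_left
      have hQ₁N : Q₁ ≤ Subgroup.normalizer (Q : Set Ω) := by
        rw [hQ₁def]
        exact inf_le_right
      have hlt : Q < Q₁ := by
        refine lt_of_le_of_ne hQQ₁ ?_
        intro h
        apply hgQ
        rw [h, hQ₁def]
        exact hgN
      have hcard : Nat.card Q < Nat.card Q₁ := card_lt_of_lt' (S := P) hQ₁P hlt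
      obtain ⟨Q₁', -, hβ₁, -⟩ := hβ.restrict hQ₁P
      obtain ⟨w₁, hw₁Q, hw₁C, hw₁⟩ := centric_ext_normal hS hF hQQ₁ hQ₁N hQ hβ₁ hβQ
      have hw₁P : w₁ ∈ P := hQP hw₁Q
      have hcj : IsIso F P P (fun x => w₁⁻¹ * x * w₁⁻¹⁻¹) :=
        isIso_conj_normalizer F hPS
          ⟨hPS (P.inv_mem hw₁P), Subgroup.le_normalizer (P.inv_mem hw₁P)⟩
      have hβ' : IsIso F P P' (β ∘ fun x => w₁⁻¹ * x * w₁⁻¹⁻¹) := hcj.trans hβ
      have hQ₁c : F.IsCentric Q₁ := isCentric_of_le hQ hQQ₁ (hQ₁P.trans hPS)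
      have hβ'Q₁ : ∀ x ∈ Q₁, (β ∘ fun x => w₁⁻¹ * x * w₁⁻¹⁻¹) x = x := by
        intro x hx
        show β (w₁⁻¹ * x * w₁⁻¹⁻¹) = x
        have hw₁Q₁ : w₁ ∈ Q₁ := hQQ₁ hw₁Q
        rw [hw₁ _ (Q₁.mul_mem (Q₁.mul_mem (Q₁.inv_mem hw₁Q₁) hx) (Q₁.inv_mem (Q₁.inv_mem hw₁Q₁)))]
        group
      have hle : Nat.card Q₁ ≤ Nat.card P := Subgroup.card_le_of_le hQ₁P
      obtain ⟨w₂, hw₂Q₁, hw₂C, hw₂⟩ := ih (Nat.card P - Nat.card Q₁) (by omega) Q₁ hQ₁P hQ₁c rfl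
        P' _ hβ' hβ'Q₁
      have hw₂CQ : w₂ ∈ Subgroup.centralizer (Q : Set Ω) :=
        Subgroup.centralizer_le (by exact_mod_cast hQQ₁) hw₂C
      have hw₂Q : w₂ ∈ Q :=
        hQ.2 Q (isConj_refl F hQ.1) ⟨hPS (hQ₁P hw₂Q₁), hw₂CQ⟩
      refine ⟨w₂ * w₁, Q.mul_mem hw₂Q hw₁Q, Subgroup.mul_mem _ hw₂CQ hw₁C, fun y hy => ?_⟩
      have h1 := hw₂ (w₁ * y * w₁⁻¹) (P.mul_mem (P.mul_mem hw₁P hy) (P.inv_mem hw₁P))
      have e : (β ∘ fun x => w₁⁻¹ * x * w₁⁻¹⁻¹) (w₁ * y * w₁⁻¹) = β y := by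
        show β (w₁⁻¹ * (w₁ * y * w₁⁻¹) * w₁⁻¹⁻¹) = β y
        congr 1
        group
      rw [e] at h1
      rw [h1]
      group

/-- Function-level form: an isomorphism of a saturated system that is the identity on a centric
subgroup `Q ≤ P` is conjugation by an element of `Z(Q)`. -/
theorem centric_ext [Finite S] {p : ℕ} [Fact p.Prime] (hS : IsPGroup p S)
    {F : FusionSystem S} (hF : F.IsSaturated p) {P Q P' : Subgroup Ω} (hQP : Q ≤ P)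
    (hQ : F.IsCentric Q) {β : Ω → Ω} (hβ : IsIso F P P' β) (hβQ : ∀ x ∈ Q, β x = x) :
    ∃ w ∈ Q, w ∈ Subgroup.centralizer (Q : Set Ω) ∧ ∀ y ∈ P, β y = w * y * w⁻¹ :=
  centric_ext_aux hS hF hβ.le_left _ Q hQP hQ rfl P' β hβ hβQ

/-- S5095. -/
theorem centric_ext_hom [Finite S] {p : ℕ} [Fact p.Prime] (hS : IsPGroup p S)
    {F : FusionSystem S} (hF : F.IsSaturated p) {P Q : Subgroup Ω} (hQP : Q ≤ P)
    (hQ : F.IsCentric Q) {φ φ' : P →* Ω} (hφ : φ ∈ F.Hom P) (hφ' : φ' ∈ F.Hom P)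
    (h : ∀ x : P, (x : Ω) ∈ Q → φ x = φ' x) :
    ∃ z : P, (z : Ω) ∈ Q ∧ (z : Ω) ∈ Subgroup.centralizer (Q : Set Ω) ∧
      ∀ y : P, φ' y = φ (z * y * z⁻¹) := by
  have hf := isIso_of_mem F hφ
  have hf' := isIso_of_mem F hφ'
  obtain ⟨g, hg, hgf, hfg⟩ := hf.symm
  obtain ⟨Q', hQ'R, hfQ, hQ'mem⟩ := hf.restrict hQP
  have hQ'c : F.IsCentric Q' := isCentric_of_isConj hQ hfQ.isConj
  have hβ : IsIso F φ.range φ'.range (ext1 φ' ∘ g) := hg.trans hf'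
  have hβQ : ∀ y ∈ Q', (ext1 φ' ∘ g) y = y := by
    intro y hy
    obtain ⟨x, hx, rfl⟩ := hfQ.surjOn hy
    show ext1 φ' (g (ext1 φ x)) = ext1 φ x
    rw [hgf x (hQP hx), ext1_apply_mem φ' (hQP hx), ext1_apply_mem φ (hQP hx)]
    exact (h ⟨x, hQP hx⟩ hx).symm
  obtain ⟨w, hwQ', hwC, hw⟩ := centric_ext hS hF hQ'R hQ'c hβ hβQ
  obtain ⟨z, hzQ, hzw⟩ := hfQ.surjOn hwQ'
  have hzP : z ∈ P := hQP hzQ
  refine ⟨⟨z, hzP⟩, hzQ, ?_, fun y => ?_⟩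
  · show z ∈ Subgroup.centralizer (Q : Set Ω)
    rw [Subgroup.mem_centralizer_iff]
    intro q hq
    apply hf.injOn (P.mul_mem (hQP hq) hzP) (P.mul_mem hzP (hQP hq))
    rw [hf.map_mul (hQP hq) hzP, hf.map_mul hzP (hQP hq), hzw]
    exact (Subgroup.mem_centralizer_iff.1 hwC) _ (hfQ.map_mem hq)
  · have h1 := hw (ext1 φ y) (hf.map_mem y.2)
    have h2 : (ext1 φ' ∘ g) (ext1 φ y) = φ' y := by
      show ext1 φ' (g (ext1 φ y)) = φ' y
      rw [hgf y y.2, ext1_apply]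
    rw [h2] at h1
    rw [h1, ← hzw, ← ext1_apply φ (⟨z, hzP⟩ * y * ⟨z, hzP⟩⁻¹)]
    show _ = ext1 φ (z * y * z⁻¹)
    rw [hf.map_mul (P.mul_mem hzP y.2) (P.inv_mem hzP), hf.map_mul hzP y.2, hf.map_inv hzP]

end Cfsg.Agent.Lib.H26
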