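import Mathlib

set_option autoImplicit false
set_option linter.unusedSectionVars false
set_option linter.unusedVariables false

/-!
Abstract input for the model theorem (helper26).

`Amb S A Q`: a group `S`, a group `Q` sitting in `S` through an injective `j`, a group `A` acting
faithfully on `Q`, a homomorphism `c : S →* A` compatible with conjugation, and a family `Fam` of
"partial maps" (a subgroup `V` of `S` with a total function `S → S` whose restriction to `V`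
matters) which is closed under the operations of a fusion system, whose members defined on
overgroups of `Q` restrict on `Q` to elements of `A`, are determined by that restriction up to
conjugation by `ker c`, and such that every element `a` of `A` extends to `N_a`.
-/

namespace Cfsg.Agent.Lib.H26.Model

universe u v x w

/-- `N_a`: the elements `s` of `S` with `a c(s) a⁻¹ ∈ c(S)`. -/
def Na {S : Type u} {A : Type v} [Group S] [Group A] (c : S →* A) (a : A) : Subgroup S where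
  carrier := {s | a * c s * a⁻¹ ∈ c.range}
  one_mem' := by
    show a * c 1 * a⁻¹ ∈ c.range
    rw [map_one, mul_one, mul_inv_cancel]
    exact c.range.one_mem
  mul_mem' := by
    intro s t hs ht
    show a * c (s * t) * a⁻¹ ∈ c.range
    have : a * c (s * t) * a⁻¹ = (a * c s * a⁻¹) * (a * c t * a⁻¹) := by
      rw [map_mul]; group
    rw [this]
    exact c.range.mul_mem hs ht
  inv_mem' := by
    intro s hs
    show a * c s⁻¹ * a⁻¹ ∈ c.range
    have : a * c s⁻¹ * a⁻¹ = (a * c s * a⁻¹)⁻¹ := by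
      rw [map_inv]; group
    rw [this]
    exact c.range.inv_mem hs

theorem mem_Na {S : Type u} {A : Type v} [Group S] [Group A] (c : S →* A) (a : A) (s : S) :
    s ∈ Na c a ↔ a * c s * a⁻¹ ∈ c.range := Iff.rfl

/-- Ambient data for the model construction. -/
structure Amb (S : Type u) (A : Type v) (Q : Type x) [Group S] [Group A] [Group Q] where
  c : S →* A
  j : Q →* S
  act : A →* MulAut Q
  j_inj : Function.Injective j
  act_inj : Function.Injective act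
  conj_j : ∀ s q, j (act (c s) q) = s * j q * s⁻¹
  ker_le : c.ker ≤ j.range
  Fam : Subgroup S → (S → S) → Prop
  F_mul : ∀ {V : Subgroup S} {φ : S → S}, Fam V φ → ∀ v ∈ V, ∀ w ∈ V, φ (v * w) = φ v * φ w
  F_res : ∀ {V W : Subgroup S} {φ : S → S}, Fam V φ → W ≤ V → Fam W φ
  F_congr : ∀ {V : Subgroup S} {φ φ' : S → S}, Fam V φ → (∀ v ∈ V, φ' v = φ v) → Fam V φ'
  F_conj : ∀ (V : Subgroup S) (s : S), Fam V (fun v => s * v * s⁻¹)
  F_comp : ∀ {V W : Subgroup S} {φ ψ : S → S}, Fam V φ → Fam W ψ → (∀ v ∈ V, φ v ∈ W) →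
    Fam V (ψ ∘ φ)
  F_Q : ∀ {V : Subgroup S} {φ : S → S}, Fam V φ → j.range ≤ V → ∃ a, ∀ q, φ (j q) = j (act a q)
  F_uniq : ∀ {V : Subgroup S} {φ φ' : S → S}, Fam V φ → Fam V φ' → j.range ≤ V →
    (∀ q, φ (j q) = φ' (j q)) → ∃ z ∈ c.ker, ∀ v ∈ V, φ' v = φ (z * v * z⁻¹)
  F_ext : ∀ a : A, ∃ φ : S → S, Fam (Na c a) φ ∧ ∀ q, φ (j q) = j (act a q)

namespace Amb

variable {S : Type u} {A : Type v} {Q : Type x} [Group S] [Group A] [Group Q] (𝔄 : Amb S A Q)

theorem F_one {V : Subgroup S} {φ : S → S} (h : 𝔄.Fam V φ) : φ 1 = 1 := by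
  have := 𝔄.F_mul h 1 V.one_mem 1 V.one_mem
  rw [mul_one] at this
  exact (mul_eq_left).1 this.symm

theorem F_inv {V : Subgroup S} {φ : S → S} (h : 𝔄.Fam V φ) {v : S} (hv : v ∈ V) :
    φ v⁻¹ = (φ v)⁻¹ := by
  have := 𝔄.F_mul h v hv v⁻¹ (V.inv_mem hv)
  rw [mul_inv_cancel, 𝔄.F_one h] at this
  exact eq_inv_of_mul_eq_one_right this.symm

theorem act_mul (a b : A) (q : Q) : 𝔄.act (a * b) q = 𝔄.act a (𝔄.act b q) := by
  rw [map_mul]; rfl

theorem act_one (q : Q) : 𝔄.act 1 q = q := by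
  rw [map_one]; rfl

theorem act_inv_act (a : A) (q : Q) : 𝔄.act a⁻¹ (𝔄.act a q) = q := by
  rw [← act_mul, inv_mul_cancel, act_one]

theorem act_act_inv (a : A) (q : Q) : 𝔄.act a (𝔄.act a⁻¹ q) = q := by
  rw [← act_mul, mul_inv_cancel, act_one]

/-- conjugation the other way round -/
theorem conj_j' (s : S) (q : Q) : 𝔄.j (𝔄.act (𝔄.c s)⁻¹ q) = s⁻¹ * 𝔄.j q * s := by
  have := 𝔄.conj_j s⁻¹ q
  rw [map_inv, inv_inv] at this
  exact this

/-- `c (j q)` acts on `Q` as conjugation by `q`. -/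
theorem act_c_j (q q' : Q) : 𝔄.act (𝔄.c (𝔄.j q)) q' = q * q' * q⁻¹ := by
  apply 𝔄.j_inj
  rw [𝔄.conj_j, map_mul, map_mul, map_inv]

/-- `c (j (a • q)) = a c(j q) a⁻¹`. -/
theorem c_j_act (a : A) (q : Q) : 𝔄.c (𝔄.j (𝔄.act a q)) = a * 𝔄.c (𝔄.j q) * a⁻¹ := by
  apply 𝔄.act_inj
  ext q'
  rw [act_c_j, act_mul, act_mul, act_c_j, map_mul, map_mul, act_act_inv, map_inv]

theorem j_range_le_Na (a : A) : 𝔄.j.range ≤ Na 𝔄.c a := by
  rintro _ ⟨q, rfl⟩
  rw [mem_Na, ← c_j_act]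
  exact ⟨_, rfl⟩

/-- Elements of `ker c` come from central elements of `Q`. -/
theorem exists_center_of_mem_ker {s : S} (hs : s ∈ 𝔄.c.ker) :
    ∃ z ∈ Subgroup.center Q, 𝔄.j z = s := by
  obtain ⟨z, rfl⟩ := 𝔄.ker_le hs
  refine ⟨z, ?_, rfl⟩
  rw [Subgroup.mem_center_iff]
  intro q
  have h1 := act_c_j 𝔄 z q
  rw [MonoidHom.mem_ker] at hs
  rw [hs, act_one] at h1
  calc q * z = (z * q * z⁻¹) * z := by rw [← h1]
    _ = z * q := by group

theorem j_mem_ker_of_mem_center {z : Q} (hz : z ∈ Subgroup.center Q) : 𝔄.j z ∈ 𝔄.c.ker := by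
  rw [MonoidHom.mem_ker]
  apply 𝔄.act_inj
  ext q
  rw [act_c_j, act_one]
  rw [Subgroup.mem_center_iff] at hz
  rw [← hz q]; group

/-- `A` preserves the centre of `Q`. -/
theorem act_mem_center (a : A) {z : Q} (hz : z ∈ Subgroup.center Q) :
    𝔄.act a z ∈ Subgroup.center Q := by
  rw [Subgroup.mem_center_iff] at hz ⊢
  intro q
  have := hz (𝔄.act a⁻¹ q)
  have h2 := congrArg (𝔄.act a) this
  rw [map_mul, map_mul, act_act_inv] at h2
  exact h2

/-- The action of `A` on the centre of `Q`. -/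
def actZ (a : A) : Subgroup.center Q →* Subgroup.center Q where
  toFun z := ⟨𝔄.act a z, 𝔄.act_mem_center a z.2⟩
  map_one' := Subtype.ext (by simp)
  map_mul' := fun z w => Subtype.ext (by simp)

@[simp] theorem actZ_coe (a : A) (z : Subgroup.center Q) : ((𝔄.actZ a z : Subgroup.center Q) : Q) = 𝔄.act a z :=
  rfl

theorem actZ_mul (a b : A) (z : Subgroup.center Q) : 𝔄.actZ (a * b) z = 𝔄.actZ a (𝔄.actZ b z) :=
  Subtype.ext (act_mul 𝔄 a b z)

theorem actZ_one (z : Subgroup.center Q) : 𝔄.actZ 1 z = z := Subtype.ext (act_one 𝔄 z)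

/-- The values of `c` on a member of the family extending `a`. -/
theorem c_F {V : Subgroup S} {φ : S → S} (h : 𝔄.Fam V φ) (hQV : 𝔄.j.range ≤ V) {a : A}
    (ha : ∀ q, φ (𝔄.j q) = 𝔄.j (𝔄.act a q)) {v : S} (hv : v ∈ V) :
    𝔄.c (φ v) = a * 𝔄.c v * a⁻¹ := by
  apply 𝔄.act_inj
  ext q
  apply 𝔄.j_inj
  rw [𝔄.conj_j]
  have hq : 𝔄.j (𝔄.act a⁻¹ q) ∈ V := hQV ⟨_, rfl⟩
  have h1 : φ (v * 𝔄.j (𝔄.act a⁻¹ q) * v⁻¹) = φ v * 𝔄.j q * (φ v)⁻¹ := by
    rw [𝔄.F_mul h _ (V.mul_mem hv hq) _ (V.inv_mem hv), 𝔄.F_mul h _ hv _ hq, 𝔄.F_inv h hv, ha,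
      act_act_inv]
  rw [← h1, ← 𝔄.conj_j, ha, act_mul, act_mul]

end Amb

end Cfsg.Agent.Lib.H26.Model
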