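import Mathlib
import Cfsg.Agent.Lib.H26.ModelAmb

set_option autoImplicit false
set_option linter.unusedSectionVars false
set_option linter.unusedVariables false

/-!
Torsor bisets over `c : S →* A` and the matching / transport lemma (helper26).
-/

namespace Cfsg.Agent.Lib.H26.Model

universe u v x w w'

/-- An `S`-`S`-biset `Y` with an equivariant map `θ : Y → A`, free on the right, whose right orbits
are the fibres of `Y → A / c(S)`, and with `θ` surjective. -/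
structure TB {S : Type u} {A : Type v} [Group S] [Group A] (c : S →* A) where
  Y : Type w
  lm : S → Y → Y
  rm : Y → S → Y
  θ : Y → A
  lm_one : ∀ y, lm 1 y = y
  lm_mul : ∀ s t y, lm (s * t) y = lm s (lm t y)
  rm_one : ∀ y, rm y 1 = y
  rm_mul : ∀ y s t, rm y (s * t) = rm (rm y s) t
  lm_rm : ∀ s y t, lm s (rm y t) = rm (lm s y) t
  θ_lm : ∀ s y, θ (lm s y) = c s * θ y
  θ_rm : ∀ y s, θ (rm y s) = θ y * c s
  free : ∀ y s, rm y s = y → s = 1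
  trans : ∀ y y', (θ y)⁻¹ * θ y' ∈ c.range → ∃ s, y' = rm y s
  surj : Function.Surjective θ

namespace TB

variable {S : Type u} {A : Type v} {Q : Type x} [Group S] [Group A] [Group Q]
variable {c : S →* A} (B : TB.{u, v, w} c)

theorem rm_inj {y : B.Y} {s t : S} (h : B.rm y s = B.rm y t) : s = t := by
  have h1 : B.rm (B.rm y t) (s⁻¹ * t) = B.rm y t := by
    rw [← h, ← B.rm_mul, mul_inv_cancel_left]
    exact h.symm
  have := B.free _ _ h1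
  exact (inv_mul_eq_one.1 this)

theorem rm_rm_inv (y : B.Y) (s : S) : B.rm (B.rm y s) s⁻¹ = y := by
  rw [← B.rm_mul, mul_inv_cancel, B.rm_one]

theorem rm_inv_rm (y : B.Y) (s : S) : B.rm (B.rm y s⁻¹) s = y := by
  rw [← B.rm_mul, inv_mul_cancel, B.rm_one]

theorem lm_lm_inv (y : B.Y) (s : S) : B.lm s (B.lm s⁻¹ y) = y := by
  rw [← B.lm_mul, mul_inv_cancel, B.lm_one]

theorem lm_inv_lm (y : B.Y) (s : S) : B.lm s⁻¹ (B.lm s y) = y := by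
  rw [← B.lm_mul, inv_mul_cancel, B.lm_one]

theorem eq_rm_of_rm_eq {y y' : B.Y} {s : S} (h : B.rm y s = y') : y = B.rm y' s⁻¹ := by
  rw [← h, rm_rm_inv]

theorem lm_injective (s : S) : Function.Injective (B.lm s) := by
  intro y y' h
  have := congrArg (B.lm s⁻¹) h
  rwa [lm_inv_lm, lm_inv_lm] at this

/-- The elements of `S` whose left action on `y` is a right translation. -/
def stabU (y : B.Y) : Subgroup S where
  carrier := {s | ∃ t, B.lm s y = B.rm y t}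
  one_mem' := ⟨1, by rw [B.lm_one, B.rm_one]⟩
  mul_mem' := by
    rintro s s' ⟨t, ht⟩ ⟨t', ht'⟩
    refine ⟨t * t', ?_⟩
    rw [B.lm_mul, ht', B.lm_rm, ht, ← B.rm_mul]
  inv_mem' := by
    rintro s ⟨t, ht⟩
    refine ⟨t⁻¹, ?_⟩
    have : B.lm s⁻¹ (B.rm y t) = y := by rw [← ht, lm_inv_lm]
    rw [B.lm_rm] at this
    exact B.eq_rm_of_rm_eq this

theorem mem_stabU {y : B.Y} {s : S} : s ∈ B.stabU y ↔ ∃ t, B.lm s y = B.rm y t := Iff.rfl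

open scoped Classical in
/-- The map `s ↦ t` with `s y = y t`, extended by `1`. -/
noncomputable def psi (y : B.Y) : S → S :=
  fun s => if h : ∃ t, B.lm s y = B.rm y t then h.choose else 1

theorem psi_spec {y : B.Y} {s : S} (h : s ∈ B.stabU y) : B.lm s y = B.rm y (B.psi y s) := by
  have h' : ∃ t, B.lm s y = B.rm y t := h
  unfold psi
  rw [dif_pos h']
  exact h'.choose_spec

theorem psi_eq {y : B.Y} {s t : S} (h : B.lm s y = B.rm y t) : B.psi y s = t := by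
  have hs : s ∈ B.stabU y := ⟨t, h⟩
  have := B.psi_spec hs
  rw [h] at this
  exact (B.rm_inj this).symm

variable (𝔄 : Amb S A Q)

/-- Compatibility of the biset with `Q`. -/
def Qcompat (B : TB.{u, v, w} 𝔄.c) : Prop :=
  ∀ q y, B.lm (𝔄.j q) y = B.rm y (𝔄.j (𝔄.act (B.θ y)⁻¹ q))

/-- All the stabilizer maps are in the family. -/
def Fcond (B : TB.{u, v, w} 𝔄.c) : Prop := ∀ y, 𝔄.Fam (B.stabU y) (B.psi y)

theorem j_range_le_stabU {B : TB.{u, v, w} 𝔄.c} (hQ : B.Qcompat 𝔄) (y : B.Y) :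
    𝔄.j.range ≤ B.stabU y := by
  rintro _ ⟨q, rfl⟩
  exact ⟨_, hQ q y⟩

theorem psi_j {B : TB.{u, v, w} 𝔄.c} (hQ : B.Qcompat 𝔄) (y : B.Y) (q : Q) :
    B.psi y (𝔄.j q) = 𝔄.j (𝔄.act (B.θ y)⁻¹ q) :=
  B.psi_eq (hQ q y)

/-- **Matching lemma**. -/
theorem matching {B : TB.{u, v, w} 𝔄.c} {B' : TB.{u, v, w'} 𝔄.c} (hQ : B.Qcompat 𝔄)
    (hF : B.Fcond 𝔄) (hQ' : B'.Qcompat 𝔄) (hF' : B'.Fcond 𝔄)
    {V : Subgroup S} {φ : S → S} (hφ : 𝔄.Fam V φ) (hQV : 𝔄.j.range ≤ V) {a : A}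
    (ha : ∀ q, φ (𝔄.j q) = 𝔄.j (𝔄.act a q)) (y₀ : B.Y) :
    ∃ y₁ : B'.Y, B'.θ y₁ = a * B.θ y₀ ∧
      ∀ w ∈ V, ∀ t, B.lm w y₀ = B.rm y₀ t → B'.lm (φ w) y₁ = B'.rm y₁ t := by
  obtain ⟨y₁', hy₁'⟩ := B'.surj (a * B.θ y₀)
  have hstab : ∀ w ∈ V, w ∈ B.stabU y₀ → φ w ∈ B'.stabU y₁' := by
    rintro w hwV ⟨t, ht⟩
    apply B'.trans
    rw [B'.θ_lm, hy₁', 𝔄.c_F hφ hQV ha hwV]
    have h1 := congrArg B.θ ht
    rw [B.θ_lm, B.θ_rm] at h1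
    refine ⟨t, ?_⟩
    have : (a * B.θ y₀)⁻¹ * (a * 𝔄.c w * a⁻¹ * (a * B.θ y₀)) = (B.θ y₀)⁻¹ * (𝔄.c w * B.θ y₀) := by
      group
    rw [this, h1]; group
  have h1 : 𝔄.Fam (V ⊓ B.stabU y₀) (B.psi y₀) := 𝔄.F_res (hF y₀) inf_le_right
  have h2 : 𝔄.Fam (V ⊓ B.stabU y₀) (B'.psi y₁' ∘ φ) :=
    𝔄.F_comp (𝔄.F_res hφ inf_le_left) (hF' y₁') (fun w hw => hstab w hw.1 hw.2)
  have hQW : 𝔄.j.range ≤ V ⊓ B.stabU y₀ := le_inf hQV (j_range_le_stabU 𝔄 hQ y₀)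
  have hagree : ∀ q, B.psi y₀ (𝔄.j q) = (B'.psi y₁' ∘ φ) (𝔄.j q) := by
    intro q
    rw [Function.comp_apply, ha, psi_j 𝔄 hQ, psi_j 𝔄 hQ', hy₁', mul_inv_rev, 𝔄.act_mul,
      𝔄.act_inv_act]
  obtain ⟨z, hz, hzW⟩ := 𝔄.F_uniq h1 h2 hQW hagree
  obtain ⟨zq, rfl⟩ := 𝔄.ker_le hz
  have hzmem : 𝔄.j zq ∈ V ⊓ B.stabU y₀ := hQW ⟨zq, rfl⟩
  set ζ : S := B.psi y₀ (𝔄.j zq) with hζ
  have hζker : 𝔄.c ζ = 1 := by
    rw [hζ, psi_j 𝔄 hQ, 𝔄.c_j_act]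
    rw [MonoidHom.mem_ker] at hz
    rw [hz]; group
  refine ⟨B'.rm y₁' ζ, ?_, ?_⟩
  · rw [B'.θ_rm, hy₁', hζker, mul_one]
  · intro w hw t ht
    have hwW : w ∈ V ⊓ B.stabU y₀ := ⟨hw, ⟨t, ht⟩⟩
    have h3 := hzW w hwW
    rw [Function.comp_apply] at h3
    have hzi : (𝔄.j zq)⁻¹ ∈ V ⊓ B.stabU y₀ := Subgroup.inv_mem _ hzmem
    rw [𝔄.F_mul h1 _ (Subgroup.mul_mem _ hzmem hwW) _ hzi, 𝔄.F_mul h1 _ hzmem _ hwW,
      𝔄.F_inv h1 hzmem, B.psi_eq ht, ← hζ] at h3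
    have h4 := B'.psi_spec (hstab w hw ⟨t, ht⟩)
    rw [h3] at h4
    rw [B'.lm_rm, h4, ← B'.rm_mul, ← B'.rm_mul]
    congr 1
    group

/-- **Transport lemma**: a member `φ` of the family, defined on an overgroup `V` of `Q` and
restricting to `a` on `Q`, is covered by a bijection of torsor bisets which is right equivariant
and `φ`-equivariant on the left. -/
theorem exists_transport {B : TB.{u, v, w} 𝔄.c} {B' : TB.{u, v, w'} 𝔄.c} (hQ : B.Qcompat 𝔄)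
    (hF : B.Fcond 𝔄) (hQ' : B'.Qcompat 𝔄) (hF' : B'.Fcond 𝔄)
    {V : Subgroup S} {φ : S → S} (hφ : 𝔄.Fam V φ) (hQV : 𝔄.j.range ≤ V) {a : A}
    (ha : ∀ q, φ (𝔄.j q) = 𝔄.j (𝔄.act a q)) :
    ∃ σ : B.Y ≃ B'.Y, (∀ y s, σ (B.rm y s) = B'.rm (σ y) s) ∧ (∀ y, B'.θ (σ y) = a * B.θ y) ∧
      ∀ v ∈ V, ∀ y, σ (B.lm v y) = B'.lm (φ v) (σ y) := by
  classical
  -- the relation of lying in the same `(V, S)`-orbit
  let st : Setoid B.Y :=
    { r := fun y y' => ∃ v ∈ V, ∃ s, y' = B.lm v (B.rm y s)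
      iseqv := by
        refine ⟨fun y => ⟨1, V.one_mem, 1, by rw [B.lm_one, B.rm_one]⟩, ?_, ?_⟩
        · rintro y y' ⟨v, hv, s, rfl⟩
          refine ⟨v⁻¹, V.inv_mem hv, s⁻¹, ?_⟩
          rw [B.lm_rm, B.lm_inv_lm, B.rm_rm_inv]
        · rintro y y' y'' ⟨v, hv, s, rfl⟩ ⟨v', hv', s', rfl⟩
          refine ⟨v' * v, V.mul_mem hv' hv, s * s', ?_⟩
          rw [B.lm_mul, B.rm_mul, B.lm_rm v (B.rm y s) s'] }
  have hst : ∀ y y', st.r y y' ↔ ∃ v ∈ V, ∃ s, y' = B.lm v (B.rm y s) := fun _ _ => Iff.rfl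
  choose m hm1 hm2 using matching 𝔄 hQ hF hQ' hF' hφ hQV ha
  let base : B.Y → B.Y := fun y => (Quotient.mk st y).out
  have hbase : ∀ y, ∃ v ∈ V, ∃ s, y = B.lm v (B.rm (base y) s) := by
    intro y
    exact (hst _ _).1 (Quotient.mk_out (s := st) y)
  have hbase_eq : ∀ y y', st.r y y' → base y' = base y := by
    intro y y' h
    show (Quotient.mk st y').out = (Quotient.mk st y).out
    rw [Quotient.sound (s := st) (show y ≈ y' from h)]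
  choose vv hvV ss hvs using hbase
  -- well-definedness
  have hWD : ∀ b v₁ v₂ s₁ s₂, v₁ ∈ V → v₂ ∈ V → B.lm v₁ (B.rm b s₁) = B.lm v₂ (B.rm b s₂) →
      B'.lm (φ v₁) (B'.rm (m b) s₁) = B'.lm (φ v₂) (B'.rm (m b) s₂) := by
    intro b v₁ v₂ s₁ s₂ h1 h2 h
    have hw : B.lm (v₂⁻¹ * v₁) b = B.rm b (s₂ * s₁⁻¹) := by
      have h3 := congrArg (B.lm v₂⁻¹) h
      rw [B.lm_inv_lm, ← B.lm_mul, B.lm_rm] at h3
      rw [B.rm_mul, ← h3, B.rm_rm_inv]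
    have h4 := hm2 b _ (V.mul_mem (V.inv_mem h2) h1) _ hw
    have h5 : v₁ = v₂ * (v₂⁻¹ * v₁) := by group
    rw [h5, 𝔄.F_mul hφ _ h2 _ (V.mul_mem (V.inv_mem h2) h1), B'.lm_mul, B'.lm_rm, h4,
      ← B'.rm_mul, inv_mul_cancel_right]
  let σ₀ : B.Y → B'.Y := fun y => B'.lm (φ (vv y)) (B'.rm (m (base y)) (ss y))
  have hσ₀ : ∀ y v s, v ∈ V → y = B.lm v (B.rm (base y) s) →
      σ₀ y = B'.lm (φ v) (B'.rm (m (base y)) s) := by
    intro y v s hv hy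
    apply hWD _ _ _ _ _ (hvV y) hv
    rw [← hvs y, ← hy]
  have hσr : ∀ y s, σ₀ (B.rm y s) = B'.rm (σ₀ y) s := by
    intro y s
    have hb : base (B.rm y s) = base y :=
      hbase_eq _ _ ⟨1, V.one_mem, s, by rw [B.lm_one]⟩
    have h1 : B.rm y s = B.lm (vv y) (B.rm (base (B.rm y s)) (ss y * s)) := by
      rw [hb, B.rm_mul, B.lm_rm, ← hvs y]
    rw [hσ₀ _ _ _ (hvV y) h1, hb, B'.rm_mul, B'.lm_rm]
  have hσl : ∀ v ∈ V, ∀ y, σ₀ (B.lm v y) = B'.lm (φ v) (σ₀ y) := by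
    intro v hv y
    have hb : base (B.lm v y) = base y :=
      hbase_eq _ _ ⟨v, hv, 1, by rw [B.rm_one]⟩
    have h1 : B.lm v y = B.lm (v * vv y) (B.rm (base (B.lm v y)) (ss y)) := by
      rw [hb, B.lm_mul, ← hvs y]
    rw [hσ₀ _ _ _ (V.mul_mem hv (hvV y)) h1, hb, 𝔄.F_mul hφ _ hv _ (hvV y), B'.lm_mul]
  have hσθ : ∀ y, B'.θ (σ₀ y) = a * B.θ y := by
    intro y
    show B'.θ (B'.lm (φ (vv y)) (B'.rm (m (base y)) (ss y))) = a * B.θ y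
    rw [B'.θ_lm, B'.θ_rm, hm1, 𝔄.c_F hφ hQV ha (hvV y)]
    conv_rhs => rw [hvs y, B.θ_lm, B.θ_rm]
    group
  have hinj : Function.Injective σ₀ := by
    intro y y' h
    have h1 : B.θ y = B.θ y' := by
      have := congrArg B'.θ h
      rw [hσθ, hσθ] at this
      exact mul_left_cancel this
    obtain ⟨s, hs⟩ := B.trans y y' (by rw [h1, inv_mul_cancel]; exact (𝔄.c.range).one_mem)
    rw [hs, hσr] at h
    have := B'.free _ _ h.symm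
    rw [hs, this, B.rm_one]
  have hsurj : Function.Surjective σ₀ := by
    intro y'
    obtain ⟨y₂, hy₂⟩ := B.surj (a⁻¹ * B'.θ y')
    obtain ⟨s, hs⟩ := B'.trans (σ₀ y₂) y' (by
      rw [hσθ, hy₂, mul_inv_cancel_left, inv_mul_cancel]; exact (𝔄.c.range).one_mem)
    exact ⟨B.rm y₂ s, by rw [hσr, hs]⟩
  exact ⟨Equiv.ofBijective σ₀ ⟨hinj, hsurj⟩, hσr, hσθ, hσl⟩

end TB

end Cfsg.Agent.Lib.H26.Model
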