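import Mathlib
import Cfsg.Agent.Lib.H26.ModelBiset

set_option autoImplicit false
set_option linter.unusedSectionVars false
set_option linter.unusedVariables false

/-!
The group of a torsor biset (helper26): right equivariant permutations covering `A`, the norm
map on its kernel, and the quotient by the kernel of the norm.
-/

namespace Cfsg.Agent.Lib.H26.Model

universe u v x w

variable {S : Type u} {A : Type v} {Q : Type x} [Group S] [Group A] [Group Q]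

theorem perm_apply_inv {α : Type*} (f : Equiv.Perm α) (x : α) : f (f⁻¹ x) = x :=
  f.apply_symm_apply x

theorem perm_inv_apply {α : Type*} (f : Equiv.Perm α) (x : α) : f⁻¹ (f x) = x :=
  f.symm_apply_apply x

open scoped IsMulCommutative

namespace TB

section basic

variable {c : S →* A} (B : TB.{u, v, w} c)

/-- The group of right-equivariant permutations of `Y` covering left translations of `A`. -/
def Ghat : Subgroup (A × Equiv.Perm B.Y) where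
  carrier := {g | (∀ y s, g.2 (B.rm y s) = B.rm (g.2 y) s) ∧ ∀ y, B.θ (g.2 y) = g.1 * B.θ y}
  one_mem' := ⟨fun y s => rfl, fun y => by simp⟩
  mul_mem' := by
    rintro g h ⟨hg1, hg2⟩ ⟨hh1, hh2⟩
    refine ⟨fun y s => ?_, fun y => ?_⟩
    · show g.2 (h.2 (B.rm y s)) = B.rm (g.2 (h.2 y)) s
      rw [hh1, hg1]
    · show B.θ (g.2 (h.2 y)) = (g.1 * h.1) * B.θ y
      rw [hg2, hh2, mul_assoc]
  inv_mem' := by
    rintro g ⟨hg1, hg2⟩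
    refine ⟨fun y s => ?_, fun y => ?_⟩
    · show g.2⁻¹ (B.rm y s) = B.rm (g.2⁻¹ y) s
      apply g.2.injective
      rw [perm_apply_inv, hg1, perm_apply_inv]
    · show B.θ (g.2⁻¹ y) = g.1⁻¹ * B.θ y
      have := hg2 (g.2⁻¹ y)
      rw [perm_apply_inv] at this
      rw [this, inv_mul_cancel_left]

theorem mem_Ghat {g : A × Equiv.Perm B.Y} : g ∈ B.Ghat ↔
    (∀ y s, g.2 (B.rm y s) = B.rm (g.2 y) s) ∧ ∀ y, B.θ (g.2 y) = g.1 * B.θ y := Iff.rfl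

/-- Left translation by `s` as a permutation. -/
def lmPerm (s : S) : Equiv.Perm B.Y where
  toFun := B.lm s
  invFun := B.lm s⁻¹
  left_inv := fun y => B.lm_inv_lm y s
  right_inv := fun y => B.lm_lm_inv y s

@[simp] theorem lmPerm_apply (s : S) (y : B.Y) : B.lmPerm s y = B.lm s y := rfl

theorem lmPerm_one : B.lmPerm 1 = 1 := Equiv.ext (fun y => B.lm_one y)

theorem lmPerm_mul (s t : S) : B.lmPerm (s * t) = B.lmPerm s * B.lmPerm t :=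
  Equiv.ext (fun y => B.lm_mul s t y)

/-- `S → Ĝ`. -/
def iotaHat : S →* B.Ghat where
  toFun s := ⟨(c s, B.lmPerm s), fun y t => B.lm_rm s y t, fun y => B.θ_lm s y⟩
  map_one' := Subtype.ext (Prod.ext (map_one c) B.lmPerm_one)
  map_mul' := fun s t => Subtype.ext (Prod.ext (map_mul c s t) (B.lmPerm_mul s t))

@[simp] theorem iotaHat_fst (s : S) : (B.iotaHat s).1.1 = c s := rfl
@[simp] theorem iotaHat_snd (s : S) : (B.iotaHat s).1.2 = B.lmPerm s := rfl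

/-- Projection `Ĝ → A`. -/
def piHat : B.Ghat →* A := (MonoidHom.fst A (Equiv.Perm B.Y)).comp B.Ghat.subtype

@[simp] theorem piHat_apply (g : B.Ghat) : B.piHat g = g.1.1 := rfl

/-- A chosen point over each coset. -/
noncomputable def pt (i : A ⧸ c.range) : B.Y := (B.surj i.out).choose

theorem θ_pt (i : A ⧸ c.range) : B.θ (B.pt i) = i.out := (B.surj i.out).choose_spec

theorem mk_θ_pt (i : A ⧸ c.range) : (QuotientGroup.mk (B.θ (B.pt i)) : A ⧸ c.range) = i := by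
  rw [θ_pt]; exact QuotientGroup.out_eq' i

end basic

section norm

variable (𝔄 : Amb S A Q) (B : TB.{u, v, w} 𝔄.c)

open scoped Classical in
/-- For `σ` covering `1`: the central element `z` with `σ y = y z`. -/
noncomputable def zc (σ : Equiv.Perm B.Y) (y : B.Y) : Subgroup.center Q :=
  if h : ∃ z : Subgroup.center Q, σ y = B.rm y (𝔄.j z) then h.choose else 1

theorem zc_eq {σ : Equiv.Perm B.Y} {y : B.Y} {z : Subgroup.center Q}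
    (h : σ y = B.rm y (𝔄.j z)) : zc 𝔄 B σ y = z := by
  have h' : ∃ z : Subgroup.center Q, σ y = B.rm y (𝔄.j z) := ⟨z, h⟩
  unfold zc
  rw [dif_pos h']
  have := h'.choose_spec
  exact (Subtype.ext (𝔄.j_inj (B.rm_inj (h.symm.trans this)))).symm

theorem zc_spec {g : A × Equiv.Perm B.Y} (hg : g ∈ B.Ghat) (h1 : g.1 = 1) (y : B.Y) :
    g.2 y = B.rm y (𝔄.j (zc 𝔄 B g.2 y)) := by
  have h2 := hg.2 y
  rw [h1, one_mul] at h2
  obtain ⟨s, hs⟩ := B.trans y (g.2 y) (by rw [h2, inv_mul_cancel]; exact (𝔄.c.range).one_mem)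
  have hsk : s ∈ 𝔄.c.ker := by
    rw [MonoidHom.mem_ker]
    have := congrArg B.θ hs
    rw [B.θ_rm, h2] at this
    exact (mul_eq_left.1 this.symm)
  obtain ⟨z, hz, rfl⟩ := 𝔄.exists_center_of_mem_ker hsk
  have h3 : g.2 y = B.rm y (𝔄.j ((⟨z, hz⟩ : Subgroup.center Q) : Q)) := hs
  rw [zc_eq 𝔄 B h3]
  exact h3

theorem zc_one (y : B.Y) : zc 𝔄 B 1 y = 1 := by
  apply zc_eq
  rw [Equiv.Perm.one_apply]
  show y = B.rm y (𝔄.j 1)
  rw [map_one, B.rm_one]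

theorem zc_mul {g h : A × Equiv.Perm B.Y} (hg : g ∈ B.Ghat) (hg1 : g.1 = 1) (hh : h ∈ B.Ghat)
    (hh1 : h.1 = 1) (y : B.Y) : zc 𝔄 B (g.2 * h.2) y = zc 𝔄 B g.2 y * zc 𝔄 B h.2 y := by
  apply zc_eq
  rw [Equiv.Perm.mul_apply, zc_spec 𝔄 B hh hh1 y, hg.1, zc_spec 𝔄 B hg hg1 y, ← B.rm_mul]
  congr 1
  rw [Subgroup.coe_mul, map_mul]

theorem zc_conj {g h : A × Equiv.Perm B.Y} (hg : g ∈ B.Ghat) (hh : h ∈ B.Ghat)
    (hh1 : h.1 = 1) (y : B.Y) : zc 𝔄 B (g.2 * h.2 * g.2⁻¹) y = zc 𝔄 B h.2 (g.2⁻¹ y) := by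
  apply zc_eq
  rw [Equiv.Perm.mul_apply, Equiv.Perm.mul_apply, zc_spec 𝔄 B hh hh1 (g.2⁻¹ y), hg.1,
    perm_apply_inv]

theorem zc_lmPerm (hQ : B.Qcompat 𝔄) (z : Subgroup.center Q) (y : B.Y) :
    zc 𝔄 B (B.lmPerm (𝔄.j z)) y = 𝔄.actZ (B.θ y)⁻¹ z := by
  apply zc_eq
  rw [lmPerm_apply, hQ]
  rfl

/-- the value attached to a point is constant along right orbits. -/
theorem val_indep {g : A × Equiv.Perm B.Y} (hg : g ∈ B.Ghat) (h1 : g.1 = 1) {y y' : B.Y}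
    (h : (B.θ y)⁻¹ * B.θ y' ∈ 𝔄.c.range) :
    𝔄.actZ (B.θ y') (zc 𝔄 B g.2 y') = 𝔄.actZ (B.θ y) (zc 𝔄 B g.2 y) := by
  obtain ⟨s, rfl⟩ := B.trans y y' h
  have h2 : g.2 (B.rm y s) = B.rm (B.rm y s) (𝔄.j (𝔄.act (𝔄.c s)⁻¹ (zc 𝔄 B g.2 y))) := by
    rw [hg.1, zc_spec 𝔄 B hg h1 y, ← B.rm_mul, ← B.rm_mul, 𝔄.conj_j']
    congr 1
    group
  have hmem : 𝔄.act (𝔄.c s)⁻¹ (zc 𝔄 B g.2 y) ∈ Subgroup.center Q :=
    𝔄.act_mem_center _ (zc 𝔄 B g.2 y).2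
  have h3 : zc 𝔄 B g.2 (B.rm y s) = 𝔄.actZ (𝔄.c s)⁻¹ (zc 𝔄 B g.2 y) := zc_eq 𝔄 B h2
  rw [h3, B.θ_rm, 𝔄.actZ_mul, ← 𝔄.actZ_mul (𝔄.c s), mul_inv_cancel, 𝔄.actZ_one]

variable [Fintype (A ⧸ 𝔄.c.range)]

/-- The norm of a permutation covering `1`. -/
noncomputable def nu (σ : Equiv.Perm B.Y) : Subgroup.center Q :=
  ∏ i : A ⧸ 𝔄.c.range, 𝔄.actZ (B.θ (B.pt i)) (zc 𝔄 B σ (B.pt i))

theorem nu_one : nu 𝔄 B 1 = 1 := by
  unfold nu
  apply Finset.prod_eq_one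
  intro i _
  rw [zc_one, map_one]

theorem nu_mul {g h : A × Equiv.Perm B.Y} (hg : g ∈ B.Ghat) (hg1 : g.1 = 1) (hh : h ∈ B.Ghat)
    (hh1 : h.1 = 1) : nu 𝔄 B (g.2 * h.2) = nu 𝔄 B g.2 * nu 𝔄 B h.2 := by
  unfold nu
  rw [← Finset.prod_mul_distrib]
  apply Finset.prod_congr rfl
  intro i _
  rw [zc_mul 𝔄 B hg hg1 hh hh1, map_mul]

theorem nu_conj {g h : A × Equiv.Perm B.Y} (hg : g ∈ B.Ghat) (hh : h ∈ B.Ghat)
    (hh1 : h.1 = 1) : nu 𝔄 B (g.2 * h.2 * g.2⁻¹) = 𝔄.actZ g.1 (nu 𝔄 B h.2) := by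
  unfold nu
  rw [map_prod]
  -- reindex by `i ↦ g.1⁻¹ • i`
  rw [← Equiv.prod_comp (MulAction.toPerm (g.1⁻¹ : A))
    (fun i => 𝔄.actZ g.1 (𝔄.actZ (B.θ (B.pt i)) (zc 𝔄 B h.2 (B.pt i))))]
  apply Finset.prod_congr rfl
  intro i _
  rw [zc_conj 𝔄 B hg hh hh1]
  have hθ : B.θ (g.2⁻¹ (B.pt i)) = g.1⁻¹ * B.θ (B.pt i) := by
    have := hg.2 (g.2⁻¹ (B.pt i))
    rw [perm_apply_inv] at this
    rw [this, inv_mul_cancel_left]
  have hcos : (B.θ (B.pt (MulAction.toPerm (g.1⁻¹ : A) i)))⁻¹ * B.θ (g.2⁻¹ (B.pt i)) ∈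
      𝔄.c.range := by
    rw [← QuotientGroup.eq, mk_θ_pt, hθ, MulAction.toPerm_apply]
    conv_lhs => rw [← mk_θ_pt B i]
    rfl
  have h5 := val_indep 𝔄 B hh hh1 hcos
  rw [← h5, ← 𝔄.actZ_mul, hθ, mul_inv_cancel_left]

theorem nu_lmPerm (hQ : B.Qcompat 𝔄) (z : Subgroup.center Q) :
    nu 𝔄 B (B.lmPerm (𝔄.j z)) = z ^ Fintype.card (A ⧸ 𝔄.c.range) := by
  unfold nu
  rw [← Finset.card_univ, ← Finset.prod_const]
  apply Finset.prod_congr rfl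
  intro i _
  rw [zc_lmPerm 𝔄 B hQ, ← 𝔄.actZ_mul, mul_inv_cancel, 𝔄.actZ_one]

/-- The kernel of the norm, as a subgroup of `Ĝ`. -/
noncomputable def K : Subgroup B.Ghat where
  carrier := {g | g.1.1 = 1 ∧ nu 𝔄 B g.1.2 = 1}
  one_mem' := ⟨rfl, nu_one 𝔄 B⟩
  mul_mem' := by
    rintro g h ⟨hg1, hg2⟩ ⟨hh1, hh2⟩
    refine ⟨?_, ?_⟩
    · show g.1.1 * h.1.1 = 1
      rw [hg1, hh1, mul_one]
    · show nu 𝔄 B (g.1.2 * h.1.2) = 1
      rw [nu_mul 𝔄 B g.2 hg1 h.2 hh1, hg2, hh2, mul_one]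
  inv_mem' := by
    rintro g ⟨hg1, hg2⟩
    refine ⟨?_, ?_⟩
    · show g.1.1⁻¹ = 1
      rw [hg1, inv_one]
    · show nu 𝔄 B (g.1.2⁻¹) = 1
      have hi : (g⁻¹ : B.Ghat).1.1 = 1 := by
        show g.1.1⁻¹ = 1
        rw [hg1, inv_one]
      have := nu_mul 𝔄 B g.2 hg1 (g⁻¹).2 hi
      have h2 : g.1.2 * (g⁻¹ : B.Ghat).1.2 = 1 := mul_inv_cancel g.1.2
      rw [h2, nu_one, hg2, one_mul] at this
      exact this.symm

theorem mem_K {g : B.Ghat} : g ∈ K 𝔄 B ↔ g.1.1 = 1 ∧ nu 𝔄 B g.1.2 = 1 := Iff.rfl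

instance K_normal : (K 𝔄 B).Normal := by
  constructor
  rintro k ⟨hk1, hk2⟩ g
  refine ⟨?_, ?_⟩
  · show g.1.1 * k.1.1 * g.1.1⁻¹ = 1
    rw [hk1, mul_one, mul_inv_cancel]
  · show nu 𝔄 B (g.1.2 * k.1.2 * g.1.2⁻¹) = 1
    rw [nu_conj 𝔄 B g.2 k.2 hk1, hk2, map_one]

end norm

end TB

end Cfsg.Agent.Lib.H26.Model
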