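import Mathlib
import Cfsg.Agent.Lib.H26.ModelGroup

set_option autoImplicit false
set_option linter.unusedSectionVars false
set_option linter.unusedVariables false

/-!
The abstract model theorem (helper26): from a torsor biset satisfying the compatibility and family
conditions, a finite group `G` with `ι : S →* G` injective, `π : G →* A` surjective with kernel
`ι (ker c)`, acting on `ι (j Q)` through `π`, realizing exactly the family on overgroups of `Q`.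
-/

namespace Cfsg.Agent.Lib.H26.Model

universe u v x w

variable {S : Type u} {A : Type v} {Q : Type x} [Group S] [Group A] [Group Q]

open scoped IsMulCommutative

namespace TB

variable (𝔄 : Amb S A Q) (B : TB.{u, v, w} 𝔄.c)

/-- Conjugation in `Ĝ` on the image of `Q`. -/
theorem hat_conj (hQ : B.Qcompat 𝔄) (g : B.Ghat) (q : Q) :
    g * B.iotaHat (𝔄.j q) * g⁻¹ = B.iotaHat (𝔄.j (𝔄.act g.1.1 q)) := by
  apply Subtype.ext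
  apply Prod.ext
  · show g.1.1 * 𝔄.c (𝔄.j q) * g.1.1⁻¹ = 𝔄.c (𝔄.j (𝔄.act g.1.1 q))
    rw [𝔄.c_j_act]
  · apply Equiv.ext
    intro y
    show g.1.2 (B.lm (𝔄.j q) (g.1.2⁻¹ y)) = B.lm (𝔄.j (𝔄.act g.1.1 q)) y
    have hθ : B.θ y = g.1.1 * B.θ (g.1.2⁻¹ y) := by
      have := g.2.2 (g.1.2⁻¹ y)
      rw [perm_apply_inv] at this
      exact this
    rw [hQ q, g.2.1, perm_apply_inv, hQ _ y, hθ, mul_inv_rev, 𝔄.act_mul, 𝔄.act_inv_act]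

/-- Members of the family on overgroups of `Q` are induced by elements of `Ĝ`. -/
theorem hat_transport (hQ : B.Qcompat 𝔄) (hF : B.Fcond 𝔄) {V : Subgroup S} {φ : S → S}
    (hφ : 𝔄.Fam V φ) (hQV : 𝔄.j.range ≤ V) {a : A} (ha : ∀ q, φ (𝔄.j q) = 𝔄.j (𝔄.act a q)) :
    ∃ g : B.Ghat, g.1.1 = a ∧ ∀ v ∈ V, g * B.iotaHat v * g⁻¹ = B.iotaHat (φ v) := by
  obtain ⟨σ, h1, h2, h3⟩ := exists_transport 𝔄 hQ hF hQ hF hφ hQV ha
  refine ⟨⟨(a, σ), h1, h2⟩, rfl, fun v hv => ?_⟩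
  apply Subtype.ext
  apply Prod.ext
  · show a * 𝔄.c v * a⁻¹ = 𝔄.c (φ v)
    rw [𝔄.c_F hφ hQV ha hv]
  · apply Equiv.ext
    intro y
    show σ (B.lm v (σ⁻¹ y)) = B.lm (φ v) y
    rw [h3 v hv, perm_apply_inv]

variable [Fintype (A ⧸ 𝔄.c.range)]

theorem hat_ker (hQ : B.Qcompat 𝔄)
    (hcop : (Nat.card (Subgroup.center Q)).Coprime (Fintype.card (A ⧸ 𝔄.c.range)))
    (g : B.Ghat) (hg : g.1.1 = 1) :
    ∃ z : Subgroup.center Q, g * B.iotaHat (𝔄.j z) ∈ K 𝔄 B := by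
  obtain ⟨z, hz⟩ := (powCoprime hcop).surjective (nu 𝔄 B g.1.2)
  have hz' : z ^ Fintype.card (A ⧸ 𝔄.c.range) = nu 𝔄 B g.1.2 := hz
  refine ⟨z⁻¹, ?_, ?_⟩
  · show g.1.1 * 𝔄.c (𝔄.j ((z⁻¹ : Subgroup.center Q) : Q)) = 1
    have := 𝔄.j_mem_ker_of_mem_center (z⁻¹).2
    rw [MonoidHom.mem_ker] at this
    rw [hg, this, mul_one]
  · show nu 𝔄 B (g.1.2 * B.lmPerm (𝔄.j ((z⁻¹ : Subgroup.center Q) : Q))) = 1
    have h1 : (B.iotaHat (𝔄.j ((z⁻¹ : Subgroup.center Q) : Q))).1.1 = 1 := by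
      have := 𝔄.j_mem_ker_of_mem_center (z⁻¹).2
      rw [MonoidHom.mem_ker] at this
      exact this
    have := nu_mul 𝔄 B g.2 hg (B.iotaHat (𝔄.j ((z⁻¹ : Subgroup.center Q) : Q))).2 h1
    rw [iotaHat_snd] at this
    rw [this, nu_lmPerm 𝔄 B hQ, ← hz', inv_pow, mul_inv_cancel]

theorem eq_one_of_iotaHat_mem_K (hQ : B.Qcompat 𝔄)
    (hcop : (Nat.card (Subgroup.center Q)).Coprime (Fintype.card (A ⧸ 𝔄.c.range)))
    {s : S} (hs : B.iotaHat s ∈ K 𝔄 B) : s = 1 := by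
  obtain ⟨h1, h2⟩ := hs
  have hk : s ∈ 𝔄.c.ker := h1
  obtain ⟨z, hz, rfl⟩ := 𝔄.exists_center_of_mem_ker hk
  have h3 : nu 𝔄 B (B.lmPerm (𝔄.j ((⟨z, hz⟩ : Subgroup.center Q) : Q))) = 1 := h2
  rw [nu_lmPerm 𝔄 B hQ] at h3
  have h4 : powCoprime hcop ⟨z, hz⟩ = powCoprime hcop 1 := by
    rw [powCoprime_one]; exact h3
  have h5 := (powCoprime hcop).injective h4
  have h6 : z = 1 := congrArg Subtype.val h5
  rw [h6, map_one]

end TB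

/-- **Abstract model theorem.** -/
theorem exists_model_of_TB (𝔄 : Amb S A Q) [Finite A] (B : TB.{u, v, w} 𝔄.c) [Finite B.Y]
    (hcop : (Nat.card (Subgroup.center Q)).Coprime (Nat.card (A ⧸ 𝔄.c.range)))
    (hQ : B.Qcompat 𝔄) (hF : B.Fcond 𝔄) :
    ∃ (G : Type (max v w)) (_ : Group G) (_ : Finite G) (ι : S →* G) (π : G →* A),
      Function.Injective ι ∧ Function.Surjective π ∧ (∀ s, π (ι s) = 𝔄.c s) ∧
      (∀ g, π g = 1 → ∃ s ∈ 𝔄.c.ker, ι s = g) ∧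
      (∀ g q, g * ι (𝔄.j q) * g⁻¹ = ι (𝔄.j (𝔄.act (π g) q))) ∧
      (∀ (V : Subgroup S) (φ : S → S), 𝔄.Fam V φ → 𝔄.j.range ≤ V →
        ∃ g, ∀ v ∈ V, g * ι v * g⁻¹ = ι (φ v)) ∧
      (∀ (g : G) (V : Subgroup S), 𝔄.j.range ≤ V → (∀ v ∈ V, ∃ s, g * ι v * g⁻¹ = ι s) →
        ∃ φ, 𝔄.Fam V φ ∧ ∀ v ∈ V, g * ι v * g⁻¹ = ι (φ v)) := by
  classical
  letI : Fintype (A ⧸ 𝔄.c.range) := Fintype.ofFinite _
  have hcop' : (Nat.card (Subgroup.center Q)).Coprime (Fintype.card (A ⧸ 𝔄.c.range)) := by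
    rw [← Nat.card_eq_fintype_card]; exact hcop
  have hKle : TB.K 𝔄 B ≤ B.piHat.ker := fun k hk => hk.1
  let ι : S →* B.Ghat ⧸ TB.K 𝔄 B := (QuotientGroup.mk' (TB.K 𝔄 B)).comp B.iotaHat
  let π : B.Ghat ⧸ TB.K 𝔄 B →* A := QuotientGroup.lift (TB.K 𝔄 B) B.piHat hKle
  have hπmk : ∀ g : B.Ghat, π (QuotientGroup.mk g) = g.1.1 := fun g => rfl
  have hιmk : ∀ s, ι s = QuotientGroup.mk (B.iotaHat s) := fun s => rfl
  have hπι : ∀ s, π (ι s) = 𝔄.c s := fun s => rfl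
  have hker : ∀ g, π g = 1 → ∃ s ∈ 𝔄.c.ker, ι s = g := by
    intro g
    refine QuotientGroup.induction_on g (fun g' hg' => ?_)
    rw [hπmk] at hg'
    obtain ⟨z, hz⟩ := TB.hat_ker 𝔄 B hQ hcop' g' hg'
    refine ⟨𝔄.j ((z⁻¹ : Subgroup.center Q) : Q), 𝔄.j_mem_ker_of_mem_center (z⁻¹).2, ?_⟩
    have h1 : (QuotientGroup.mk (g' * B.iotaHat (𝔄.j z)) : B.Ghat ⧸ TB.K 𝔄 B) = 1 :=
      (QuotientGroup.eq_one_iff _).2 hz
    rw [QuotientGroup.mk_mul] at h1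
    rw [hιmk, Subgroup.coe_inv, map_inv, map_inv, QuotientGroup.mk_inv]
    exact (eq_inv_of_mul_eq_one_left h1).symm
  have hconj : ∀ g q, g * ι (𝔄.j q) * g⁻¹ = ι (𝔄.j (𝔄.act (π g) q)) := by
    intro g q
    refine QuotientGroup.induction_on g (fun g' => ?_)
    rw [hπmk, hιmk, hιmk, ← TB.hat_conj 𝔄 B hQ g' q]
    rfl
  have htrans : ∀ (V : Subgroup S) (φ : S → S) (a : A), 𝔄.Fam V φ → 𝔄.j.range ≤ V →
      (∀ q, φ (𝔄.j q) = 𝔄.j (𝔄.act a q)) →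
      ∃ g, π g = a ∧ ∀ v ∈ V, g * ι v * g⁻¹ = ι (φ v) := by
    intro V φ a hφ hQV ha
    obtain ⟨g, hg1, hg2⟩ := TB.hat_transport 𝔄 B hQ hF hφ hQV ha
    refine ⟨QuotientGroup.mk g, hg1, fun v hv => ?_⟩
    rw [hιmk, hιmk, ← hg2 v hv]
    rfl
  refine ⟨B.Ghat ⧸ TB.K 𝔄 B, inferInstance, inferInstance, ι, π, ?_, ?_, hπι, hker, hconj, ?_, ?_⟩
  · -- injectivity
    rw [injective_iff_map_eq_one]
    intro s hs
    rw [hιmk, QuotientGroup.eq_one_iff] at hs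
    exact TB.eq_one_of_iotaHat_mem_K 𝔄 B hQ hcop' hs
  · -- surjectivity
    intro a
    obtain ⟨φ, hφ, ha⟩ := 𝔄.F_ext a
    obtain ⟨g, hg, -⟩ := htrans _ φ a hφ (𝔄.j_range_le_Na a) ha
    exact ⟨g, hg⟩
  · intro V φ hφ hQV
    obtain ⟨a, ha⟩ := 𝔄.F_Q hφ hQV
    obtain ⟨g, -, hg⟩ := htrans V φ a hφ hQV ha
    exact ⟨g, hg⟩
  · intro g V hQV hV
    have hVN : V ≤ Na 𝔄.c (π g) := by
      intro v hv
      obtain ⟨s, hs⟩ := hV v hv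
      have := congrArg π hs
      rw [map_mul, map_mul, map_inv, hπι, hπι] at this
      rw [mem_Na, this]
      exact ⟨s, rfl⟩
    obtain ⟨φ, hφ, ha⟩ := 𝔄.F_ext (π g)
    obtain ⟨g₀, hg₀, hg₀'⟩ := htrans _ φ (π g) hφ (𝔄.j_range_le_Na _) ha
    obtain ⟨s₀, hs₀k, hs₀⟩ := hker (g₀⁻¹ * g) (by rw [map_mul, map_inv, hg₀, inv_mul_cancel])
    have hgeq : g = g₀ * ι s₀ := by rw [hs₀, mul_inv_cancel_left]
    have hs₀N : s₀ ∈ Na 𝔄.c (π g) := 𝔄.j_range_le_Na _ (𝔄.ker_le hs₀k)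
    have hmem : ∀ v ∈ V, s₀ * v * s₀⁻¹ ∈ Na 𝔄.c (π g) := fun v hv =>
      Subgroup.mul_mem _ (Subgroup.mul_mem _ hs₀N (hVN hv)) (Subgroup.inv_mem _ hs₀N)
    refine ⟨φ ∘ (fun v => s₀ * v * s₀⁻¹), 𝔄.F_comp (𝔄.F_conj V s₀) hφ hmem, fun v hv => ?_⟩
    rw [Function.comp_apply, ← hg₀' _ (hmem v hv), hgeq, map_mul, map_mul, map_inv]
    group

end Cfsg.Agent.Lib.H26.Model
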