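import Mathlib
import Cfsg.Agent.Lib.H26.ModelMain

set_option autoImplicit false
set_option linter.unusedSectionVars false
set_option linter.unusedVariables false

/-!
Construction of the standard torsor biset of an `Amb` (helper26): the disjoint union, over double
coset representatives `x` of `c(S)` in `A`, of the bisets `S ×_{(N_{x⁻¹}, χ_x)} S`.
-/

namespace Cfsg.Agent.Lib.H26.Model

universe u v x

variable {S : Type u} {A : Type v} {Q : Type x} [Group S] [Group A] [Group Q]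

namespace Amb

variable (𝔄 : Amb S A Q)

/-- index set: double cosets of `c(S)` in `A`. -/
abbrev RR : Type v := DoubleCoset.Quotient (𝔄.c.range : Set A) (𝔄.c.range : Set A)

/-- representative -/
noncomputable def xx (r : 𝔄.RR) : A := Quotient.out r

theorem mk_xx (r : 𝔄.RR) : DoubleCoset.mk 𝔄.c.range 𝔄.c.range (𝔄.xx r) = r :=
  DoubleCoset.out_eq' _ _ r

/-- the domain `N_{x⁻¹}` -/
noncomputable def UU (r : 𝔄.RR) : Subgroup S := Na 𝔄.c (𝔄.xx r)⁻¹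

/-- the chosen extension of `x⁻¹` -/
noncomputable def chi (r : 𝔄.RR) : S → S := (𝔄.F_ext (𝔄.xx r)⁻¹).choose

theorem chi_fam (r : 𝔄.RR) : 𝔄.Fam (𝔄.UU r) (𝔄.chi r) := (𝔄.F_ext (𝔄.xx r)⁻¹).choose_spec.1

theorem chi_j (r : 𝔄.RR) (q : Q) : 𝔄.chi r (𝔄.j q) = 𝔄.j (𝔄.act (𝔄.xx r)⁻¹ q) :=
  (𝔄.F_ext (𝔄.xx r)⁻¹).choose_spec.2 q

theorem j_le_UU (r : 𝔄.RR) : 𝔄.j.range ≤ 𝔄.UU r := 𝔄.j_range_le_Na _

theorem mem_UU (r : 𝔄.RR) (s : S) : s ∈ 𝔄.UU r ↔ (𝔄.xx r)⁻¹ * 𝔄.c s * 𝔄.xx r ∈ 𝔄.c.range := by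
  unfold UU
  rw [mem_Na, inv_inv]

theorem c_chi (r : 𝔄.RR) {u : S} (hu : u ∈ 𝔄.UU r) :
    𝔄.c (𝔄.chi r u) = (𝔄.xx r)⁻¹ * 𝔄.c u * 𝔄.xx r := by
  have := 𝔄.c_F (𝔄.chi_fam r) (𝔄.j_le_UU r) (𝔄.chi_j r) hu
  rw [inv_inv] at this
  exact this

/-- the relation defining the biset -/
def preRel (p p' : 𝔄.RR × S × S) : Prop :=
  p.1 = p'.1 ∧ ∃ u ∈ 𝔄.UU p.1, p'.2.1 = p.2.1 * u ∧ p.2.2 = 𝔄.chi p.1 u * p'.2.2

theorem preRel_equiv : Equivalence 𝔄.preRel := by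
  refine ⟨?_, ?_, ?_⟩
  · rintro ⟨r, s, s'⟩
    refine ⟨rfl, 1, Subgroup.one_mem _, by simp, ?_⟩
    show s' = 𝔄.chi r 1 * s'
    rw [𝔄.F_one (𝔄.chi_fam r), one_mul]
  · rintro ⟨r, s, s'⟩ ⟨r', t, t'⟩ ⟨h1, u, hu, h2, h3⟩
    simp only at h1 h2 h3 hu
    subst h1
    refine ⟨rfl, u⁻¹, Subgroup.inv_mem _ hu, ?_, ?_⟩
    · show s = t * u⁻¹
      rw [h2, mul_inv_cancel_right]
    · show t' = 𝔄.chi r u⁻¹ * s'
      rw [𝔄.F_inv (𝔄.chi_fam r) hu, h3, inv_mul_cancel_left]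
  · rintro ⟨r, s, s'⟩ ⟨r', t, t'⟩ ⟨r'', w, w'⟩ ⟨h1, u, hu, h2, h3⟩ ⟨h1', u', hu', h2', h3'⟩
    simp only at h1 h2 h3 hu h1' h2' h3' hu'
    subst h1
    subst h1'
    refine ⟨rfl, u * u', Subgroup.mul_mem _ hu hu', ?_, ?_⟩
    · show w = s * (u * u')
      rw [h2', h2, mul_assoc]
    · show s' = 𝔄.chi r (u * u') * w'
      rw [𝔄.F_mul (𝔄.chi_fam r) u hu u' hu', h3, h3', mul_assoc]

/-- the setoid -/
def preSetoid : Setoid (𝔄.RR × S × S) := ⟨𝔄.preRel, 𝔄.preRel_equiv⟩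

/-- the underlying type of the standard biset -/
abbrev YY : Type (max u v) := Quotient 𝔄.preSetoid

/-- class of a triple -/
def mkY (r : 𝔄.RR) (s s' : S) : 𝔄.YY := Quotient.mk 𝔄.preSetoid (r, s, s')

theorem mkY_eq_iff {r r' : 𝔄.RR} {s s' t t' : S} :
    𝔄.mkY r s s' = 𝔄.mkY r' t t' ↔
      r = r' ∧ ∃ u ∈ 𝔄.UU r, t = s * u ∧ s' = 𝔄.chi r u * t' := by
  unfold mkY
  rw [Quotient.eq]
  rfl

theorem mkY_mul_left (r : 𝔄.RR) (s s' : S) {u : S} (hu : u ∈ 𝔄.UU r) :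
    𝔄.mkY r (s * u) s' = 𝔄.mkY r s (𝔄.chi r u * s') :=
  ((𝔄.mkY_eq_iff).2 ⟨rfl, u, hu, rfl, rfl⟩).symm

theorem YY_ind {P : 𝔄.YY → Prop} (h : ∀ r s s', P (𝔄.mkY r s s')) (y : 𝔄.YY) : P y := by
  refine Quotient.inductionOn y ?_
  rintro ⟨r, s, s'⟩
  exact h r s s'

/-- left multiplication -/
def lmY (g : S) : 𝔄.YY → 𝔄.YY :=
  Quotient.lift (s := 𝔄.preSetoid) (fun p => 𝔄.mkY p.1 (g * p.2.1) p.2.2) (by
    rintro ⟨r, s, s'⟩ ⟨r', t, t'⟩ ⟨h1, u, hu, h2, h3⟩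
    rw [mkY_eq_iff]
    refine ⟨h1, u, hu, ?_, h3⟩
    show g * t = g * s * u
    rw [show t = s * u from h2, mul_assoc])

/-- right multiplication -/
def rmY (y : 𝔄.YY) (g : S) : 𝔄.YY :=
  Quotient.lift (s := 𝔄.preSetoid) (fun p => 𝔄.mkY p.1 p.2.1 (p.2.2 * g)) (by
    rintro ⟨r, s, s'⟩ ⟨r', t, t'⟩ ⟨h1, u, hu, h2, h3⟩
    rw [mkY_eq_iff]
    refine ⟨h1, u, hu, h2, ?_⟩
    show s' * g = 𝔄.chi r u * (t' * g)
    rw [show s' = 𝔄.chi r u * t' from h3, mul_assoc]) y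

/-- the map to `A` -/
noncomputable def thY : 𝔄.YY → A :=
  Quotient.lift (s := 𝔄.preSetoid) (fun p => 𝔄.c p.2.1 * 𝔄.xx p.1 * 𝔄.c p.2.2) (by
    rintro ⟨r, s, s'⟩ ⟨r', t, t'⟩ ⟨h1, u, hu, h2, h3⟩
    simp only at h1 h2 h3 hu
    subst h1
    show 𝔄.c s * 𝔄.xx r * 𝔄.c s' = 𝔄.c t * 𝔄.xx r * 𝔄.c t'
    rw [h2, h3, map_mul, map_mul, 𝔄.c_chi r hu]
    group)

@[simp] theorem lmY_mk (g : S) (r : 𝔄.RR) (s s' : S) :
    𝔄.lmY g (𝔄.mkY r s s') = 𝔄.mkY r (g * s) s' := rfl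

@[simp] theorem rmY_mk (g : S) (r : 𝔄.RR) (s s' : S) :
    𝔄.rmY (𝔄.mkY r s s') g = 𝔄.mkY r s (s' * g) := rfl

@[simp] theorem thY_mk (r : 𝔄.RR) (s s' : S) :
    𝔄.thY (𝔄.mkY r s s') = 𝔄.c s * 𝔄.xx r * 𝔄.c s' := rfl

/-- The standard torsor biset. -/
noncomputable def stdTB : TB.{u, v, max u v} 𝔄.c where
  Y := 𝔄.YY
  lm := 𝔄.lmY
  rm := 𝔄.rmY
  θ := 𝔄.thY
  lm_one := by
    refine 𝔄.YY_ind (fun r s s' => ?_)
    rw [lmY_mk, one_mul]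
  lm_mul := by
    intro g h
    refine 𝔄.YY_ind (fun r s s' => ?_)
    rw [lmY_mk, lmY_mk, lmY_mk, mul_assoc]
  rm_one := by
    refine 𝔄.YY_ind (fun r s s' => ?_)
    rw [rmY_mk, mul_one]
  rm_mul := by
    intro y g h
    revert y
    refine 𝔄.YY_ind (fun r s s' => ?_)
    rw [rmY_mk, rmY_mk, rmY_mk, mul_assoc]
  lm_rm := by
    intro g y h
    revert y
    refine 𝔄.YY_ind (fun r s s' => ?_)
    rw [rmY_mk, lmY_mk, lmY_mk, rmY_mk]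
  θ_lm := by
    intro g
    refine 𝔄.YY_ind (fun r s s' => ?_)
    rw [lmY_mk, thY_mk, thY_mk, map_mul]
    group
  θ_rm := by
    intro y g
    revert y
    refine 𝔄.YY_ind (fun r s s' => ?_)
    rw [rmY_mk, thY_mk, thY_mk, map_mul]
    group
  free := by
    intro y g
    revert y
    refine 𝔄.YY_ind (fun r s s' => ?_)
    intro h
    rw [rmY_mk, mkY_eq_iff] at h
    obtain ⟨-, u, hu, h2, h3⟩ := h
    have hu1 : u = 1 := by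
      have := h2.symm
      exact mul_eq_left.1 this
    rw [hu1, 𝔄.F_one (𝔄.chi_fam r), one_mul] at h3
    exact mul_eq_left.1 h3
  trans := by
    refine 𝔄.YY_ind (fun r s s' => ?_)
    refine 𝔄.YY_ind (fun r' t t' => ?_)
    intro h
    rw [thY_mk, thY_mk] at h
    obtain ⟨w, hw⟩ := h
    -- the representatives agree
    have hr : r = r' := by
      rw [← 𝔄.mk_xx r, ← 𝔄.mk_xx r', DoubleCoset.eq]
      refine ⟨𝔄.c (t⁻¹ * s), ⟨_, rfl⟩, 𝔄.c (s' * w * t'⁻¹), ⟨_, rfl⟩, ?_⟩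
      rw [map_mul, map_mul, map_mul, hw, map_inv, map_inv]
      group
    subst hr
    have hu : s⁻¹ * t ∈ 𝔄.UU r := by
      rw [mem_UU]
      refine ⟨s' * w * t'⁻¹, ?_⟩
      rw [map_mul, map_mul, hw, map_mul, map_inv, map_inv]
      group
    refine ⟨s'⁻¹ * 𝔄.chi r (s⁻¹ * t) * t', ?_⟩
    rw [rmY_mk]
    have h1 : t = s * (s⁻¹ * t) := by group
    conv_lhs => rw [h1]
    rw [𝔄.mkY_mul_left r s t' hu]
    congr 1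
    group
  surj := by
    intro a
    obtain ⟨h, k, hh, hk, hhk⟩ := DoubleCoset.mk_out_eq_mul 𝔄.c.range 𝔄.c.range a
    obtain ⟨s, rfl⟩ := hh
    obtain ⟨s', rfl⟩ := hk
    refine ⟨𝔄.mkY (DoubleCoset.mk 𝔄.c.range 𝔄.c.range a) s⁻¹ s'⁻¹, ?_⟩
    rw [thY_mk]
    unfold xx
    rw [hhk, map_inv, map_inv]
    group

@[simp] theorem stdTB_lm (g : S) (y : 𝔄.YY) : 𝔄.stdTB.lm g y = 𝔄.lmY g y := rfl
@[simp] theorem stdTB_rm (g : S) (y : 𝔄.YY) : 𝔄.stdTB.rm y g = 𝔄.rmY y g := rfl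
@[simp] theorem stdTB_θ (y : 𝔄.YY) : 𝔄.stdTB.θ y = 𝔄.thY y := rfl

theorem stdTB_Qcompat : 𝔄.stdTB.Qcompat 𝔄 := by
  intro q
  refine 𝔄.YY_ind (fun r s s' => ?_)
  rw [stdTB_lm, stdTB_rm, stdTB_θ, lmY_mk, rmY_mk, thY_mk]
  have hu : s⁻¹ * 𝔄.j q * s ∈ 𝔄.UU r := by
    rw [← 𝔄.conj_j']
    exact 𝔄.j_le_UU r ⟨_, rfl⟩
  have h1 : 𝔄.j q * s = s * (s⁻¹ * 𝔄.j q * s) := by group
  rw [h1, 𝔄.mkY_mul_left r s s' hu]
  congr 1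
  rw [← 𝔄.conj_j', 𝔄.chi_j, mul_inv_rev, mul_inv_rev, 𝔄.act_mul, 𝔄.act_mul, 𝔄.conj_j']
  group

theorem mem_stabU_std (r : 𝔄.RR) (s s' g : S) :
    g ∈ 𝔄.stdTB.stabU (𝔄.mkY r s s') ↔ s⁻¹ * g * s ∈ 𝔄.UU r := by
  constructor
  · rintro ⟨t, ht⟩
    rw [stdTB_lm, stdTB_rm, lmY_mk, rmY_mk] at ht
    have ht' : 𝔄.mkY r (g * s) s' = 𝔄.mkY r s (s' * t) := ht
    rw [mkY_eq_iff] at ht'
    obtain ⟨-, u, hu, h2, h3⟩ := ht'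
    have : s⁻¹ * g * s = u⁻¹ := by
      have h4 : s⁻¹ * g * s * u = 1 := by
        calc s⁻¹ * g * s * u = s⁻¹ * (g * s * u) := by group
          _ = s⁻¹ * s := by rw [← h2]
          _ = 1 := inv_mul_cancel s
      exact eq_inv_of_mul_eq_one_left h4
    rw [this]
    exact Subgroup.inv_mem _ hu
  · intro hu
    refine ⟨s'⁻¹ * 𝔄.chi r (s⁻¹ * g * s) * s', ?_⟩
    rw [stdTB_lm, stdTB_rm, lmY_mk, rmY_mk]
    have h1 : g * s = s * (s⁻¹ * g * s) := by group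
    rw [h1, 𝔄.mkY_mul_left r s s' hu]
    congr 1
    group

theorem psi_std (r : 𝔄.RR) (s s' g : S) (hg : g ∈ 𝔄.stdTB.stabU (𝔄.mkY r s s')) :
    𝔄.stdTB.psi (𝔄.mkY r s s') g = s'⁻¹ * 𝔄.chi r (s⁻¹ * g * s) * s' := by
  apply TB.psi_eq
  have hu := (𝔄.mem_stabU_std r s s' g).1 hg
  rw [stdTB_lm, stdTB_rm, lmY_mk, rmY_mk]
  have h1 : g * s = s * (s⁻¹ * g * s) := by group
  rw [h1, 𝔄.mkY_mul_left r s s' hu]
  congr 1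
  group

theorem stdTB_Fcond : 𝔄.stdTB.Fcond 𝔄 := by
  refine 𝔄.YY_ind (fun r s s' => ?_)
  have h1 : 𝔄.Fam (𝔄.stdTB.stabU (𝔄.mkY r s s')) (fun g => s⁻¹ * g * s⁻¹⁻¹) :=
    𝔄.F_conj _ s⁻¹
  have h2 : 𝔄.Fam (𝔄.stdTB.stabU (𝔄.mkY r s s')) (𝔄.chi r ∘ (fun g => s⁻¹ * g * s⁻¹⁻¹)) := by
    refine 𝔄.F_comp h1 (𝔄.chi_fam r) (fun g hg => ?_)
    show s⁻¹ * g * s⁻¹⁻¹ ∈ 𝔄.UU r
    rw [inv_inv]
    exact (𝔄.mem_stabU_std r s s' g).1 hg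
  have h3 : 𝔄.Fam ⊤ (fun g => s'⁻¹ * g * s'⁻¹⁻¹) := 𝔄.F_conj _ s'⁻¹
  have h4 := 𝔄.F_comp h2 h3 (fun _ _ => Subgroup.mem_top _)
  refine 𝔄.F_congr h4 (fun g hg => ?_)
  rw [𝔄.psi_std r s s' g hg]
  simp only [Function.comp_apply, inv_inv]

instance [Finite S] [Finite A] : Finite 𝔄.stdTB.Y := by
  show Finite (Quotient 𝔄.preSetoid)
  have : Finite 𝔄.RR := by
    unfold RR DoubleCoset.Quotient
    infer_instance
  infer_instance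

end Amb

/-- **Abstract model theorem**, from an `Amb` alone. -/
theorem exists_model_of_Amb (𝔄 : Amb S A Q) [Finite S] [Finite A]
    (hcop : (Nat.card (Subgroup.center Q)).Coprime (Nat.card (A ⧸ 𝔄.c.range))) :
    ∃ (G : Type (max u v)) (_ : Group G) (_ : Finite G) (ι : S →* G) (π : G →* A),
      Function.Injective ι ∧ Function.Surjective π ∧ (∀ s, π (ι s) = 𝔄.c s) ∧
      (∀ g, π g = 1 → ∃ s ∈ 𝔄.c.ker, ι s = g) ∧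
      (∀ g q, g * ι (𝔄.j q) * g⁻¹ = ι (𝔄.j (𝔄.act (π g) q))) ∧
      (∀ (V : Subgroup S) (φ : S → S), 𝔄.Fam V φ → 𝔄.j.range ≤ V →
        ∃ g, ∀ v ∈ V, g * ι v * g⁻¹ = ι (φ v)) ∧
      (∀ (g : G) (V : Subgroup S), 𝔄.j.range ≤ V → (∀ v ∈ V, ∃ s, g * ι v * g⁻¹ = ι s) →
        ∃ φ, 𝔄.Fam V φ ∧ ∀ v ∈ V, g * ι v * g⁻¹ = ι (φ v)) := by
  have := exists_model_of_TB 𝔄 𝔄.stdTB hcop 𝔄.stdTB_Qcompat 𝔄.stdTB_Fcond
  simpa using this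

end Cfsg.Agent.Lib.H26.Model
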