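import Mathlib
import Cfsg.Agent.Lib.H26.ModelConstruct
import Cfsg.Agent.Lib.H26.CentricExt
import Cfsg.Agent.Lib.H25.Normal

set_option autoImplicit false
set_option linter.unusedSectionVars false
set_option linter.unusedVariables false

/-!
The `Amb` attached to a saturated fusion system with a normal centric subgroup (helper26).
-/

namespace Cfsg.Agent.Lib.H26.Model

open Cfsg Cfsg.FusionSystem Cfsg.Agent.Lib.H25

universe u

variable {Ω : Type u} [Group Ω] {S : Subgroup Ω}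

open scoped Classical in
/-- extend a self-map of `S` to the ambient group by `1`. -/
noncomputable def liftFun (φ : S → S) : Ω → Ω := fun x => if h : x ∈ S then (φ ⟨x, h⟩ : Ω) else 1

open scoped Classical in
/-- restrict a self-map of the ambient group to `S` (value `1` where it leaves `S`). -/
noncomputable def restrFun (f : Ω → Ω) : S → S := fun s => if h : f s ∈ S then ⟨f s, h⟩ else 1

theorem liftFun_coe (φ : S → S) (s : S) : liftFun φ (s : Ω) = (φ s : Ω) := by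
  unfold liftFun
  rw [dif_pos s.2]

theorem liftFun_mem (φ : S → S) {x : Ω} (hx : x ∈ S) : liftFun φ x = (φ ⟨x, hx⟩ : Ω) :=
  liftFun_coe φ ⟨x, hx⟩

theorem liftFun_mem_S (φ : S → S) (x : Ω) : liftFun φ x ∈ S := by
  unfold liftFun
  split_ifs with h
  · exact (φ ⟨x, h⟩).2
  · exact S.one_mem

theorem restrFun_coe {f : Ω → Ω} {s : S} (h : f s ∈ S) : ((restrFun f s : S) : Ω) = f s := by
  unfold restrFun
  rw [dif_pos h]

/-- Conjugation by a normalizing element as an automorphism. -/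
def conjAut (Q : Subgroup Ω) (g : Ω) (hg : g ∈ Subgroup.normalizer (Q : Set Ω)) : MulAut Q where
  toFun x := ⟨g * x * g⁻¹, (Subgroup.mem_normalizer_iff.1 hg x).1 x.2⟩
  invFun x := ⟨g⁻¹ * x * g, by
    have := (Subgroup.mem_normalizer_iff.1 (Subgroup.inv_mem _ hg) x).1 x.2
    simpa using this⟩
  left_inv x := Subtype.ext (by show g⁻¹ * (g * x * g⁻¹) * g = x; group)
  right_inv x := Subtype.ext (by show g * (g⁻¹ * x * g) * g⁻¹ = x; group)
  map_mul' x y := Subtype.ext (by show g * (x * y) * g⁻¹ = (g * x * g⁻¹) * (g * y * g⁻¹); group)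

@[simp] theorem conjAut_coe (Q : Subgroup Ω) (g : Ω) (hg : g ∈ Subgroup.normalizer (Q : Set Ω))
    (x : Q) : ((conjAut Q g hg x : Q) : Ω) = g * x * g⁻¹ := rfl

theorem conjAut_mem_autGroup (F : FusionSystem S) {Q : Subgroup Ω} (hQS : Q ≤ S) {g : Ω}
    (hgS : g ∈ S) (hg : g ∈ Subgroup.normalizer (Q : Set Ω)) :
    conjAut Q g hg ∈ F.autGroup Q := by
  rw [mem_autGroup_iff F hQS]
  have : Q.subtype.comp (conjAut Q g hg).toMonoidHom = conjHom Q g := by
    ext x; rfl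
  rw [this]
  exact F.conj_mem hQS hgS

/-- The family attached to a fusion system. -/
def FamF (F : FusionSystem S) (V : Subgroup S) (φ : S → S) : Prop :=
  ∃ P' : Subgroup Ω, IsIso F (V.map S.subtype) P' (liftFun φ)

theorem mem_map_subtype {V : Subgroup S} {v : S} (hv : v ∈ V) : (v : Ω) ∈ V.map S.subtype :=
  ⟨v, hv, rfl⟩

theorem map_subtype_le (V : Subgroup S) : V.map S.subtype ≤ S := by
  rintro _ ⟨v, -, rfl⟩
  exact v.2

section amb

variable {p : ℕ} [Fact p.Prime] [Finite S] (hS : IsPGroup p S) {F : FusionSystem S}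
  (hF : F.IsSaturated p) {Q : Subgroup Ω} (hQn : F.IsNormal Q) (hQc : F.IsCentric Q)

/-- the homomorphism `S → Aut_F(Q)` -/
def cHom (hQn : F.IsNormal Q) : S →* F.autGroup Q where
  toFun s := ⟨conjAut Q s (stronglyClosed_le_normalizer (isNormal_stronglyClosed hQn) s.2),
    conjAut_mem_autGroup F hQn.1 s.2 _⟩
  map_one' := by
    apply Subtype.ext
    ext x
    show (1 : Ω) * x * (1 : Ω)⁻¹ = x
    group
  map_mul' s t := by
    apply Subtype.ext
    ext x
    show ((s : Ω) * t) * x * ((s : Ω) * t)⁻¹ = s * (t * x * (t : Ω)⁻¹) * (s : Ω)⁻¹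
    group

@[simp] theorem cHom_coe (s : S) (x : Q) :
    ((((cHom hQn s : F.autGroup Q) : MulAut Q) x : Q) : Ω) = s * x * (s : Ω)⁻¹ := rfl

include hQc in
theorem ker_cHom_le {s : S} (hs : s ∈ (cHom hQn).ker) :
    s ∈ (Subgroup.inclusion hQn.1).range := by
  rw [MonoidHom.mem_ker] at hs
  have hcent : (s : Ω) ∈ Subgroup.centralizer (Q : Set Ω) := by
    rw [Subgroup.mem_centralizer_iff]
    intro q hq
    have h1 := congrArg (fun α : F.autGroup Q => (((α : MulAut Q) ⟨q, hq⟩ : Q) : Ω)) hs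
    simp only [cHom_coe] at h1
    have h2 : (s : Ω) * q * (s : Ω)⁻¹ = q := h1
    calc q * s = (s * q * (s : Ω)⁻¹) * s := by rw [h2]
      _ = s * q := by group
  have hQ : (s : Ω) ∈ Q := hQc.2 Q (isConj_refl F hQn.1) ⟨s.2, hcent⟩
  exact ⟨⟨s, hQ⟩, rfl⟩

theorem famF_mul {V : Subgroup S} {φ : S → S} (h : FamF F V φ) (v : S) (hv : v ∈ V) (w : S)
    (hw : w ∈ V) : φ (v * w) = φ v * φ w := by
  obtain ⟨P', hP'⟩ := h
  have h1 : liftFun φ ((v * w : S) : Ω) = liftFun φ (v : Ω) * liftFun φ (w : Ω) :=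
    hP'.map_mul (mem_map_subtype hv) (mem_map_subtype hw)
  rw [liftFun_coe, liftFun_coe, liftFun_coe] at h1
  exact Subtype.ext h1

theorem famF_res {V W : Subgroup S} {φ : S → S} (h : FamF F V φ) (hWV : W ≤ V) : FamF F W φ := by
  obtain ⟨P', hP'⟩ := h
  obtain ⟨P'', -, h2, -⟩ := hP'.restrict (Subgroup.map_mono hWV)
  exact ⟨P'', h2⟩

theorem famF_congr {V : Subgroup S} {φ φ' : S → S} (h : FamF F V φ)
    (hφ : ∀ v ∈ V, φ' v = φ v) : FamF F V φ' := by
  obtain ⟨P', hP'⟩ := h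
  refine ⟨P', hP'.congr ?_⟩
  rintro _ ⟨v, hv, rfl⟩
  show liftFun φ (v : Ω) = liftFun φ' (v : Ω)
  rw [liftFun_coe, liftFun_coe, hφ v hv]

theorem famF_conj (F : FusionSystem S) (V : Subgroup S) (s : S) :
    FamF F V (fun v => s * v * s⁻¹) := by
  refine ⟨_, (IsIso.conj (F := F) (map_subtype_le V) s.2).congr ?_⟩
  rintro _ ⟨v, hv, rfl⟩
  show (s : Ω) * (v : Ω) * (s : Ω)⁻¹ = liftFun (fun v => s * v * s⁻¹) (v : Ω)
  rw [liftFun_coe]
  rfl

theorem famF_comp {V W : Subgroup S} {φ ψ : S → S} (h1 : FamF F V φ) (h2 : FamF F W ψ)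
    (h : ∀ v ∈ V, φ v ∈ W) : FamF F V (ψ ∘ φ) := by
  obtain ⟨P', hP'⟩ := h1
  obtain ⟨P'', hP''⟩ := h2
  have hle : P' ≤ W.map S.subtype := by
    intro y hy
    obtain ⟨x, hx, rfl⟩ := hP'.surjOn hy
    obtain ⟨v, hv, rfl⟩ := hx
    show liftFun φ (v : Ω) ∈ _
    rw [liftFun_coe]
    exact mem_map_subtype (h v hv)
  obtain ⟨P₃, -, h3, -⟩ := hP''.restrict hle
  refine ⟨P₃, (hP'.trans h3).congr ?_⟩
  rintro _ ⟨v, hv, rfl⟩
  show liftFun ψ (liftFun φ (v : Ω)) = liftFun (ψ ∘ φ) (v : Ω)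
  rw [liftFun_coe, liftFun_coe, liftFun_coe]
  rfl

theorem inclusion_range_le_iff {V : Subgroup S} (hQS : Q ≤ S) :
    (Subgroup.inclusion hQS).range ≤ V ↔ Q ≤ V.map S.subtype := by
  constructor
  · intro h x hx
    exact ⟨⟨x, hQS hx⟩, h ⟨⟨x, hx⟩, rfl⟩, rfl⟩
  · rintro h _ ⟨q, rfl⟩
    obtain ⟨v, hv, hvq⟩ := h q.2
    have : v = Subgroup.inclusion hQS q := Subtype.ext hvq
    rw [← this]
    exact hv

theorem famF_Q {V : Subgroup S} {φ : S → S} (h : FamF F V φ)
    (hQV : (Subgroup.inclusion hQn.1).range ≤ V) :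
    ∃ a : F.autGroup Q, ∀ q : Q, φ (Subgroup.inclusion hQn.1 q) =
      Subgroup.inclusion hQn.1 ((a : MulAut Q) q) := by
  obtain ⟨P', hP'⟩ := h
  have hQV' := (inclusion_range_le_iff hQn.1).1 hQV
  have hQQ := stronglyClosed_isIso_self (isNormal_stronglyClosed hQn) hP' hQV'
  obtain ⟨α, hα, hαf⟩ := exists_mem_autGroup_of_isIso F hQQ
  refine ⟨⟨α, hα⟩, fun q => ?_⟩
  apply Subtype.ext
  show ((φ (Subgroup.inclusion hQn.1 q) : S) : Ω) = ((α q : Q) : Ω)
  rw [hαf, ← liftFun_coe]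
  rfl

include hS hF hQc in
theorem famF_uniq {V : Subgroup S} {φ φ' : S → S} (h : FamF F V φ) (h' : FamF F V φ')
    (hQV : (Subgroup.inclusion hQn.1).range ≤ V)
    (hag : ∀ q : Q, φ (Subgroup.inclusion hQn.1 q) = φ' (Subgroup.inclusion hQn.1 q)) :
    ∃ z ∈ (cHom hQn).ker, ∀ v ∈ V, φ' v = φ (z * v * z⁻¹) := by
  obtain ⟨P', hP'⟩ := h
  obtain ⟨P'', hP''⟩ := h'
  have hQV' := (inclusion_range_le_iff hQn.1).1 hQV
  obtain ⟨ψ, hψ, hψf, -⟩ := hP'
  obtain ⟨ψ', hψ', hψf', -⟩ := hP''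
  have hagree : ∀ x : V.map S.subtype, (x : Ω) ∈ Q → ψ x = ψ' x := by
    intro x hx
    rw [hψf, hψf']
    have hxS : (x : Ω) ∈ S := hQn.1 hx
    rw [liftFun_mem φ hxS, liftFun_mem φ' hxS]
    exact congrArg Subtype.val (hag ⟨x, hx⟩)
  obtain ⟨z, hzQ, hzC, hz⟩ := centric_ext_hom hS hF hQV' hQc hψ hψ' hagree
  have hzS : (z : Ω) ∈ S := hQn.1 hzQ
  refine ⟨⟨z, hzS⟩, ?_, fun v hv => ?_⟩
  · rw [MonoidHom.mem_ker]
    apply Subtype.ext
    ext x
    show (z : Ω) * x * (z : Ω)⁻¹ = x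
    have := (Subgroup.mem_centralizer_iff.1 hzC) x x.2
    rw [← this]; group
  · have h1 := hz ⟨v, mem_map_subtype hv⟩
    rw [hψf', hψf] at h1
    apply Subtype.ext
    rw [← liftFun_coe, ← liftFun_coe]
    exact h1

include hS hF hQc in
theorem famF_ext (a : F.autGroup Q) :
    ∃ φ : S → S, FamF F (Na (cHom hQn) a) φ ∧
      ∀ q : Q, φ (Subgroup.inclusion hQn.1 q) = Subgroup.inclusion hQn.1 ((a : MulAut Q) q) := by
  have hQS := hQn.1
  have hsc := isNormal_stronglyClosed hQn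
  have hNQ : normalizerIn S Q = S := stronglyClosed_normalizerIn_eq hsc
  have hQfn : F.IsFullyNormalized Q := by
    refine ⟨hQS, fun Q' hQ' => ?_⟩
    rw [hNQ]
    exact Nat.card_le_card_of_injective (Subgroup.inclusion (inf_le_left : normalizerIn S Q' ≤ S))
      (Subgroup.inclusion_injective _)
  have hQrec : F.IsReceptive Q :=
    isReceptive_of_fullyCentralized hS hF (fullyNormalized_props hS hF hQfn).1
  have hfa := isIso_of_mem_autGroup F hQS a.2
  have hfa_apply : ∀ x : Q, ext1 (Q.subtype.comp (a : MulAut Q).toMonoidHom) x =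
      (((a : MulAut Q) x : Q) : Ω) := fun x => ext1_apply _ x
  obtain ⟨f', N', hf', hf'Q⟩ := IsReceptive_extend hQrec hfa ((Na (cHom hQn) a).map S.subtype) (by
    rintro _ ⟨s, hs, rfl⟩
    refine ⟨s.2, stronglyClosed_le_normalizer hsc s.2, ?_⟩
    obtain ⟨t, ht⟩ := hs
    refine ⟨t, t.2, fun x hx => ?_⟩
    have hsx : (s : Ω) * x * (s : Ω)⁻¹ ∈ Q :=
      (Subgroup.mem_normalizer_iff.1 (stronglyClosed_le_normalizer hsc s.2) x).1 hx
    show ext1 (Q.subtype.comp (a : MulAut Q).toMonoidHom) ((s : Ω) * x * (s : Ω)⁻¹) =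
      (t : Ω) * ext1 (Q.subtype.comp (a : MulAut Q).toMonoidHom) x * (t : Ω)⁻¹
    have e1 : ext1 (Q.subtype.comp (a : MulAut Q).toMonoidHom) ((s : Ω) * x * (s : Ω)⁻¹) =
        (((a : MulAut Q) ⟨_, hsx⟩ : Q) : Ω) := hfa_apply ⟨_, hsx⟩
    have e2 : ext1 (Q.subtype.comp (a : MulAut Q).toMonoidHom) x =
        (((a : MulAut Q) ⟨x, hx⟩ : Q) : Ω) := hfa_apply ⟨x, hx⟩
    rw [e1, e2]
    have h1 : cHom hQn t * a = a * cHom hQn s := by rw [ht]; group
    have h2 := congrArg (fun α : F.autGroup Q => (((α : MulAut Q) ⟨x, hx⟩ : Q) : Ω)) h1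
    exact h2.symm)
  refine ⟨restrFun f', ⟨N', hf'.congr ?_⟩, fun q => ?_⟩
  · rintro _ ⟨s, hs, rfl⟩
    show f' (s : Ω) = liftFun (restrFun f') (s : Ω)
    rw [liftFun_coe]
    have : f' (s : Ω) ∈ S := hf'.le_right (hf'.map_mem (mem_map_subtype hs))
    rw [restrFun_coe this]
  · have hqN : (q : Ω) ∈ (Na (cHom hQn) a).map S.subtype := by
      refine ⟨Subgroup.inclusion hQS q, ?_, rfl⟩
      show Subgroup.inclusion hQS q ∈ Na (cHom hQn) a
      rw [mem_Na]
      refine ⟨Subgroup.inclusion hQS ((a : MulAut Q) q), ?_⟩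
      apply Subtype.ext
      ext x
      show (((a : MulAut Q) q : Q) : Ω) * x * (((a : MulAut Q) q : Q) : Ω)⁻¹ =
        ((((a * cHom hQn (Subgroup.inclusion hQS q) * a⁻¹ : F.autGroup Q) : MulAut Q) x : Q) : Ω)
      have : ((a * cHom hQn (Subgroup.inclusion hQS q) * a⁻¹ : F.autGroup Q) : MulAut Q) x =
          (a : MulAut Q) (((cHom hQn (Subgroup.inclusion hQS q) : F.autGroup Q) : MulAut Q)
            ((a : MulAut Q)⁻¹ x)) := rfl
      rw [this]
      have h3 : ((cHom hQn (Subgroup.inclusion hQS q) : F.autGroup Q) : MulAut Q)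
          ((a : MulAut Q)⁻¹ x) = q * ((a : MulAut Q)⁻¹ x) * q⁻¹ := by
        apply Subtype.ext
        rfl
      rw [h3, map_mul, map_mul, map_inv, MulAut.apply_inv_self]
      rfl
    have h1 := hf'Q q q.2 hqN
    apply Subtype.ext
    have hmem : f' ((Subgroup.inclusion hQS q : S) : Ω) ∈ S := by
      show f' (q : Ω) ∈ S
      rw [h1, hfa_apply q]
      exact hQS ((a : MulAut Q) q).2
    rw [restrFun_coe hmem]
    show f' (q : Ω) = _
    rw [h1, hfa_apply q]
    rfl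

/-- The ambient data of a saturated system with a normal centric subgroup. -/
noncomputable def ambOf : Amb S (F.autGroup Q) Q where
  c := cHom hQn
  j := Subgroup.inclusion hQn.1
  act := (F.autGroup Q).subtype
  j_inj := Subgroup.inclusion_injective _
  act_inj := Subtype.val_injective
  conj_j := fun s q => Subtype.ext rfl
  ker_le := fun s hs => ker_cHom_le hQn hQc hs
  Fam := FamF F
  F_mul := fun h => famF_mul h
  F_res := fun h hWV => famF_res h hWV
  F_congr := fun h hφ => famF_congr h hφ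
  F_conj := fun V s => famF_conj F V s
  F_comp := fun h1 h2 h => famF_comp h1 h2 h
  F_Q := fun h hQV => famF_Q hQn h hQV
  F_uniq := fun h h' hQV hag => famF_uniq hS hF hQn hQc h h' hQV hag
  F_ext := fun a => famF_ext hS hF hQn hQc a

end amb

end Cfsg.Agent.Lib.H26.Model
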