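import Mathlib
import Cfsg.Agent.Lib.H25.NormalSeries
import Cfsg.Agent.Lib.H25.EssChain
import Cfsg.Agent.Lib.H25.Alperin
import Cfsg.Agent.Lib.H26.ModelFusion
import Cfsg.Agent.Lib.H26.CycChain
import Cfsg.Agent.Lib.H1.PGroupBasic

set_option autoImplicit false

/-!
Strongly closed subgroups and centric radical subgroups (helper26): if `P` is strongly closed
and `T` is centric radical, then `P ≤ T` as soon as `N_P(T)` stabilizes an `Aut_F(T)`-invariant
chain of `T` reaching the Frattini subgroup of `T`.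
-/

namespace Cfsg.Agent.Lib.H26.MetaSC

open Cfsg Cfsg.FusionSystem Cfsg.Agent.Lib.H25 Cfsg.Agent.Lib.H26.ChainStab
  Cfsg.Agent.Lib.H26.Model
open scoped Pointwise commutatorElement

universe u

variable {Ω : Type u} [Group Ω] {S : Subgroup Ω}

theorem conjAut_pow_coe (T : Subgroup Ω) (g : Ω) (hg : g ∈ Subgroup.normalizer (T : Set Ω))
    (n : ℕ) (t : T) : (((conjAut T g hg) ^ n) t : Ω) = g ^ n * t * (g ^ n)⁻¹ := by
  induction n generalizing t with
  | zero => simp
  | succ n ih =>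
    rw [pow_succ', MulAut.mul_apply, conjAut_coe, ih, pow_succ']
    group

theorem conjAut_pow_eq_one (T : Subgroup Ω) (g : Ω) (hg : g ∈ Subgroup.normalizer (T : Set Ω))
    {n : ℕ} (h : g ^ n = 1) : (conjAut T g hg) ^ n = 1 := by
  ext t
  rw [conjAut_pow_coe, h]
  simp

/-- The chain stabilizer inside `Aut_F(T)`. -/
def chainB (F : FusionSystem S) (T : Subgroup Ω) [Finite T] (c : ℕ → Subgroup T)
    (hmono : ∀ i, c (i + 1) ≤ c i) : Subgroup (MulAut T) :=
  chainStab c hmono ⊓ F.autGroup T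

theorem chainB_normal (F : FusionSystem S) (T : Subgroup Ω) [Finite T] (c : ℕ → Subgroup T)
    (hmono : ∀ i, c (i + 1) ≤ c i)
    (hinv : ∀ i, ∀ α ∈ F.autGroup T, ∀ x ∈ c i, α x ∈ c i) :
    ∀ α ∈ F.autGroup T, ∀ β ∈ chainB F T c hmono, α * β * α⁻¹ ∈ chainB F T c hmono := by
  rintro α hα γ ⟨hγ1, hγ2⟩
  refine ⟨?_, (F.autGroup T).mul_mem ((F.autGroup T).mul_mem hα hγ2)
    ((F.autGroup T).inv_mem hα)⟩
  intro i x hx
  have hy : α⁻¹ x ∈ c i := hinv i α⁻¹ ((F.autGroup T).inv_mem hα) x hx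
  have h1 := hγ1 i _ hy
  have h2 := hinv (i + 1) α hα _ h1
  have : x⁻¹ * (α * γ * α⁻¹) x = α ((α⁻¹ x)⁻¹ * γ (α⁻¹ x)) := by
    rw [map_mul, map_inv, MulAut.mul_apply, MulAut.mul_apply]
    simp
  rw [this]
  exact h2

theorem chainB_isPGroup {p : ℕ} [Fact p.Prime] (F : FusionSystem S) (T : Subgroup Ω) [Finite T]
    (hTp : IsPGroup p T) (c : ℕ → Subgroup T) (hmono : ∀ i, c (i + 1) ≤ c i) (n : ℕ)
    (h0 : c 0 = ⊤) (hn : c n ≤ frattini T) : IsPGroup p (chainB F T c hmono) :=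
  Cfsg.Agent.Lib.H25.EssChain.isPGroup_of_stabilizes hTp c hmono n h0 hn _ (fun γ hγ => hγ.1)

/-- An element of `S` normalizing the centric radical subgroup `T` and stabilizing an invariant
chain into `Φ(T)` lies in `T`. -/
theorem mem_of_stabilizes [Finite S] {p : ℕ} [Fact p.Prime] (hS : IsPGroup p S)
    {F : FusionSystem S} {T : Subgroup Ω} (hc : F.IsCentric T) (hr : F.IsRadical p T)
    [Finite T] (c : ℕ → Subgroup T) (hmono : ∀ i, c (i + 1) ≤ c i) (n : ℕ)
    (h0 : c 0 = ⊤) (hn : c n ≤ frattini T)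
    (hinv : ∀ i, ∀ α ∈ F.autGroup T, ∀ x ∈ c i, α x ∈ c i)
    {g : Ω} (hgS : g ∈ S) (hgN : g ∈ Subgroup.normalizer (T : Set Ω))
    (hst : Stabilizes c (conjAut T g hgN)) : g ∈ T := by
  have hTS := hc.1
  have hTp : IsPGroup p T := hS.to_le hTS
  exact mem_of_centric_radical hc hr (chainB F T c hmono) inf_le_right
    (chainB_normal F T c hmono hinv) (chainB_isPGroup F T hTp c hmono n h0 hn) hgS
    (β := conjAut T g hgN) ⟨hst, conjAut_mem_autGroup F hTS hgS hgN⟩ (fun x => rfl)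

/-- `P ≤ T` from an invariant chain whose steps below `P ∩ T` have index `p` or `1`. -/
theorem le_of_chain [Finite S] {p : ℕ} [Fact p.Prime] (hS : IsPGroup p S)
    {F : FusionSystem S} {P T : Subgroup Ω} (hP : F.StronglyClosed P)
    (hc : F.IsCentric T) (hr : F.IsRadical p T)
    [Finite T] (c : ℕ → Subgroup T) (hmono : ∀ i, c (i + 1) ≤ c i) (n : ℕ)
    (h0 : c 0 = ⊤) (h1 : c 1 = P.subgroupOf T) (hn : c n ≤ frattini T)
    (hinv : ∀ i, ∀ α ∈ F.autGroup T, ∀ x ∈ c i, α x ∈ c i)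
    (hstep : ∀ i, 1 ≤ i → (c (i + 1)).relIndex (c i) = p ∨ c (i + 1) = c i) : P ≤ T := by
  have hTS := hc.1
  have hTp : IsPGroup p T := hS.to_le hTS
  apply le_of_centric_radical_of_normalizer hS hP.1 (stronglyClosed_le_normalizer hP) hc hr
    (chainB F T c hmono) inf_le_right (chainB_normal F T c hmono hinv)
    (chainB_isPGroup F T hTp c hmono n h0 hn)
  intro g hgP hgN
  have hgS : g ∈ S := hP.1 hgP
  refine ⟨conjAut T g hgN, ⟨?_, conjAut_mem_autGroup F hTS hgS hgN⟩, fun x => rfl⟩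
  obtain ⟨k, hk⟩ := hS ⟨g, hgS⟩
  have hk' : g ^ p ^ k = 1 := by
    have := congrArg Subtype.val hk
    simpa using this
  have hβpow : (conjAut T g hgN) ^ p ^ k = 1 := conjAut_pow_eq_one T g hgN hk'
  have hβmem : conjAut T g hgN ∈ F.autGroup T := conjAut_mem_autGroup F hTS hgS hgN
  intro i x hx
  rcases Nat.eq_zero_or_pos i with hi | hi
  · subst hi
    rw [zero_add, h1, Subgroup.mem_subgroupOf]
    show ((x : Ω))⁻¹ * (g * (x : Ω) * g⁻¹) ∈ P
    have h2 : ((x : Ω))⁻¹ * g * ((x : Ω))⁻¹⁻¹ ∈ P :=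
      stronglyClosed_conj_mem hP (S.inv_mem (hTS x.2)) hgP
    have e : ((x : Ω))⁻¹ * (g * (x : Ω) * g⁻¹) = ((x : Ω))⁻¹ * g * ((x : Ω))⁻¹⁻¹ * g⁻¹ := by
      group
    rw [e]
    exact P.mul_mem h2 (P.inv_mem hgP)
  · rcases hstep i hi with hidx | heq
    · exact Cfsg.Agent.Lib.H25.EssChain.stabilizes_step (c (i + 1)) (c i) (hmono i) hidx
        (conjAut T g hgN) (fun a ha => hinv (i + 1) _ hβmem a ha)
        (fun b hb => hinv i _ hβmem b hb) hβpow x hx
    · rw [heq]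
      exact (c i).mul_mem ((c i).inv_mem hx) (hinv i _ hβmem x hx)

/-- In a `p`-group `S`: if the subgroup `P`, normalized by `S`, is not contained in `T`, some
element of `N_P(T)` lies outside `T` while its `p`-th power lies in `T`. -/
theorem exists_normalizer_elt [Finite S] {p : ℕ} [Fact p.Prime] (hS : IsPGroup p S)
    {P T : Subgroup Ω} (hPS : P ≤ S) (hPn : S ≤ Subgroup.normalizer (P : Set Ω)) (hTS : T ≤ S)
    (h : ¬ P ≤ T) :
    ∃ x ∈ P, x ∈ Subgroup.normalizer (T : Set Ω) ∧ x ∉ T ∧ x ^ p ∈ T := by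
  set R := T ⊔ P with hR
  have hRS : R ≤ S := sup_le hTS hPS
  haveI hfinR : Finite R := finite_of_le S hRS
  have hRp : IsPGroup p R := hS.to_le hRS
  have hTR : T ≠ R := by
    intro h'
    apply h
    rw [h']
    exact le_sup_right
  obtain ⟨g, hgN, hgT⟩ := exists_mem_normalizerIn_not_mem hRp (le_sup_left : T ≤ R) hTR
  have hmul : (↑(T ⊔ P) : Set Ω) = (T : Set Ω) * (P : Set Ω) :=
    Subgroup.coe_mul_of_left_le_normalizer_right T P (hTS.trans hPn)
  have hg' : g ∈ (↑(T ⊔ P) : Set Ω) := hgN.1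
  rw [hmul] at hg'
  obtain ⟨t, ht, q, hq, rfl⟩ := hg'
  have hqN : q ∈ Subgroup.normalizer (T : Set Ω) := by
    have h1 : t⁻¹ ∈ Subgroup.normalizer (T : Set Ω) := Subgroup.le_normalizer (T.inv_mem ht)
    have h2 := Subgroup.mul_mem _ h1 hgN.2
    simpa using h2
  have hqT : q ∉ T := fun hqT => hgT (T.mul_mem ht hqT)
  -- a minimal power
  obtain ⟨e, he⟩ := hS ⟨q, hPS hq⟩
  have he' : q ^ p ^ e = 1 := by
    have := congrArg Subtype.val he
    simpa using this
  have hex : ∃ k, q ^ p ^ k ∈ T := ⟨e, by rw [he']; exact T.one_mem⟩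
  classical
  let k := Nat.find hex
  have hk : q ^ p ^ k ∈ T := Nat.find_spec hex
  have hk1 : 1 ≤ k := by
    by_contra h0
    have h00 : k = 0 := by omega
    rw [h00, pow_zero, pow_one] at hk
    exact hqT hk
  have hkm : q ^ p ^ (k - 1) ∉ T := Nat.find_min hex (by omega)
  refine ⟨q ^ p ^ (k - 1), P.pow_mem hq _, Subgroup.pow_mem _ hqN _, hkm, ?_⟩
  rw [← pow_mul, ← pow_succ, Nat.sub_add_cancel hk1]
  exact hk

/-- For finite `p`-groups, the Frattini subgroup of a subgroup lies in the Frattini subgroup. -/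
theorem frattini_map_le {G : Type*} [Group G] [Finite G] {p : ℕ} [Fact p.Prime]
    (hG : IsPGroup p G) (Q : Subgroup G) : (frattini ↥Q).map Q.subtype ≤ frattini G := by
  rw [Subgroup.map_le_iff_le_comap]
  apply Cfsg.Agent.Lib.H1.frattini_le_of_commutator_le_of_pow_mem (p := p)
  · rw [commutator_def, Subgroup.commutator_le]
    intro a _ b _
    rw [Subgroup.mem_comap]
    have h1 : ⁅(a : G), (b : G)⁆ ∈ commutator G :=
      Subgroup.commutator_mem_commutator (Subgroup.mem_top _) (Subgroup.mem_top _)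
    have h2 := Cfsg.Agent.Lib.H1.isPGroup_commutator_le_frattini hG h1
    simpa [commutatorElement_def] using h2
  · intro x
    rw [Subgroup.mem_comap]
    have := Cfsg.Agent.Lib.H1.isPGroup_pow_mem_frattini hG (x : G)
    simpa using this

end Cfsg.Agent.Lib.H26.MetaSC
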