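import Mathlib
import Cfsg.Agent.Lib.H26.MetaSCBasic
import Cfsg.Agent.Lib.H26.MetaG1Main

set_option autoImplicit false

/-!
Reduction step (helper26): if `P` is strongly closed and metacyclic, `T` is centric radical and
`P ≰ T`, then `P ∩ T` has no characteristic subgroup of index `p`.
-/

namespace Cfsg.Agent.Lib.H26.MetaSC

open Cfsg Cfsg.FusionSystem Cfsg.Agent.Lib.H25 Cfsg.Agent.Lib.H26.ChainStab
  Cfsg.Agent.Lib.H26.Model Cfsg.Agent.Lib.H26.CycChain Cfsg.Agent.Lib.H26.MetaG1

universe u

variable {Ω : Type u} [Group Ω] {S : Subgroup Ω}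

/-- `P ∩ T` is invariant under `Aut_F(T)`. -/
theorem invUnder_subgroupOf {F : FusionSystem S} {P T : Subgroup Ω} (hP : F.StronglyClosed P)
    (hTS : T ≤ S) : InvUnder (F.autGroup T) (P.subgroupOf T) := by
  intro α hα x hx
  rw [Subgroup.mem_subgroupOf] at hx ⊢
  exact stronglyClosed_aut_mem' hP hTS hα x hx

/-- the inclusion of `P ∩ T` (as a subgroup of `T`) into `P` -/
def inclP (P T : Subgroup Ω) : ↥(P.subgroupOf T) →* ↥P where
  toFun x := ⟨((x : T) : Ω), Subgroup.mem_subgroupOf.1 x.2⟩
  map_one' := rfl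
  map_mul' _ _ := rfl

theorem inclP_injective (P T : Subgroup Ω) : Function.Injective (inclP P T) := by
  intro a b hab
  apply Subtype.ext
  apply Subtype.ext
  exact congrArg (fun w : P => (w : Ω)) hab

theorem inclP_coe (P T : Subgroup Ω) (x : ↥(P.subgroupOf T)) :
    ((inclP P T x : P) : Ω) = ((x : T) : Ω) := rfl

theorem isMetacyclic_subgroupOf {P T : Subgroup Ω} (hm : Cfsg.IsMetacyclic ↥P) :
    Cfsg.IsMetacyclic ↥(P.subgroupOf T) := by
  have h1 := Cfsg.Agent.Lib.H16.Meta.isMetacyclic_sub hm (inclP P T).range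
  exact Cfsg.Agent.Lib.H16.Meta.isMetacyclic_of_mulEquiv h1
    (MonoidHom.ofInjective (inclP_injective P T)).symm

/-- the four-term chain -/
def ch4 {A : Type*} [Group A] (X Y Z : Subgroup A) : ℕ → Subgroup A
  | 0 => ⊤
  | 1 => X
  | 2 => Y
  | _ => Z

theorem ch4_mono {A : Type*} [Group A] {X Y Z : Subgroup A} (h1 : Y ≤ X) (h2 : Z ≤ Y) :
    ∀ i, ch4 X Y Z (i + 1) ≤ ch4 X Y Z i := by
  intro i
  match i with
  | 0 => exact le_top
  | 1 => exact h1
  | 2 => exact h2
  | (k + 3) => exact le_rfl

/-- A characteristic subgroup of an invariant subgroup is invariant. -/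
theorem invUnder_map_char {A : Type*} [Group A] [Finite A] (𝒜 : Subgroup (MulAut A)) (X : Subgroup A)
    (hX : InvUnder 𝒜 X) (K : Subgroup ↥X) (hK : K.Characteristic) :
    InvUnder 𝒜 (K.map X.subtype) := by
  rintro α hα _ ⟨k, hk, rfl⟩
  have := Cfsg.Agent.Lib.H25.EssChain.char_map_mem hK (resAutH 𝒜 X hX ⟨α, hα⟩) hk
  exact ⟨_, this, rfl⟩

theorem noCharIdx_of_not_le [Finite S] {p : ℕ} [Fact p.Prime] (hS : IsPGroup p S)
    {F : FusionSystem S} {P T : Subgroup Ω} (hP : F.StronglyClosed P)
    (hm : Cfsg.IsMetacyclic ↥P) (hc : F.IsCentric T) (hr : F.IsRadical p T) (h : ¬ P ≤ T) :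
    NoCharIdx p ↥(P.subgroupOf T) := by
  intro K hK hidx
  apply h
  have hTS := hc.1
  haveI : Finite T := finite_of_le S hTS
  have hTp : IsPGroup p T := hS.to_le hTS
  have hQp : IsPGroup p (P.subgroupOf T) := hTp.to_subgroup (P.subgroupOf T)
  have hQinv := invUnder_subgroupOf hP hTS
  haveI hKn : K.Normal := inferInstance
  -- `Φ((P.subgroupOf T)) ≤ K`
  have hΦK : frattini ↥(P.subgroupOf T) ≤ K := by
    apply Cfsg.Agent.Lib.H1.frattini_le_of_commutator_le_of_pow_mem (p := p)
    · apply Subgroup.Normal.quotient_commutative_iff_commutator_le.1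
      haveI : IsCyclic (↥(P.subgroupOf T) ⧸ K) := by
        apply isCyclic_of_prime_card (p := p)
        rw [← Subgroup.index_eq_card, hidx]
      infer_instance
    · intro x
      have := Subgroup.pow_index_mem K x
      rwa [hidx] at this
  set c := ch4 (P.subgroupOf T) (K.map (P.subgroupOf T).subtype) ((frattini ↥(P.subgroupOf T)).map (P.subgroupOf T).subtype) with hcdef
  have hmono : ∀ i, c (i + 1) ≤ c i :=
    ch4_mono (Subgroup.map_subtype_le K) (Subgroup.map_mono hΦK)
  refine le_of_chain hS hP hc hr c hmono 3 rfl rfl (frattini_map_le hTp (P.subgroupOf T)) ?_ ?_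
  · intro i
    match i with
    | 0 => intro α _ x _; exact Subgroup.mem_top _
    | 1 => exact fun α hα x hx => hQinv α hα x hx
    | 2 => exact fun α hα x hx => invUnder_map_char _ (P.subgroupOf T) hQinv K hK α hα x hx
    | (k + 3) =>
      exact fun α hα x hx => invUnder_map_char _ (P.subgroupOf T) hQinv (frattini ↥(P.subgroupOf T)) inferInstance α hα x hx
  · intro i hi
    match i, hi with
    | 1, _ =>
      left
      show (K.map (P.subgroupOf T).subtype).relIndex (P.subgroupOf T) = p
      have h1 : (K.map (P.subgroupOf T).subtype).relIndex ((⊤ : Subgroup ↥(P.subgroupOf T)).map (P.subgroupOf T).subtype) = K.relIndex ⊤ :=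
        Subgroup.relIndex_map_map_of_injective K ⊤ (Subgroup.subtype_injective (P.subgroupOf T))
      rw [← MonoidHom.range_eq_map, Subgroup.range_subtype, Subgroup.relIndex_top_right] at h1
      rw [h1, hidx]
    | 2, _ =>
      show ((frattini ↥(P.subgroupOf T)).map (P.subgroupOf T).subtype).relIndex (K.map (P.subgroupOf T).subtype) = p ∨
        (frattini ↥(P.subgroupOf T)).map (P.subgroupOf T).subtype = K.map (P.subgroupOf T).subtype
      have h1 : ((frattini ↥(P.subgroupOf T)).map (P.subgroupOf T).subtype).relIndex (K.map (P.subgroupOf T).subtype) =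
          (frattini ↥(P.subgroupOf T)).relIndex K :=
        Subgroup.relIndex_map_map_of_injective _ K (Subgroup.subtype_injective (P.subgroupOf T))
      rw [h1]
      obtain ⟨n, hn2, hn⟩ := Cfsg.Agent.Lib.H16.Meta.card_frattini_quotient hQp
        (isMetacyclic_subgroupOf hm)
      rw [← Subgroup.index_eq_card] at hn
      have h2 := Subgroup.relIndex_mul_index hΦK
      rw [hidx, hn] at h2
      have hp := (Fact.out : p.Prime)
      have hn0 : n ≠ 0 := by
        intro h0
        rw [h0, pow_zero] at h2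
        have : p ∣ 1 := ⟨_, h2.symm.trans (mul_comm _ _)⟩
        exact hp.one_lt.ne' (Nat.dvd_one.1 this)
      rcases Nat.lt_or_ge n 2 with hlt | hge
      · right
        have hn1 : n = 1 := by omega
        rw [hn1, pow_one] at h2
        have h3 : (frattini ↥(P.subgroupOf T)).relIndex K = 1 := by
          have := Nat.eq_of_mul_eq_mul_right hp.pos (h2.trans (one_mul p).symm)
          exact this
        rw [Subgroup.relIndex_eq_one] at h3
        rw [le_antisymm hΦK h3]
      · left
        have hn2' : n = 2 := by omega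
        rw [hn2', sq] at h2
        exact Nat.eq_of_mul_eq_mul_right hp.pos h2
    | (k + 3), _ => right; rfl

end Cfsg.Agent.Lib.H26.MetaSC
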