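import Mathlib
import Cfsg.Agent.Lib.H26.MetaPow
import Cfsg.Agent.Lib.H26.TransvPair

set_option autoImplicit false

/-!
An automorphism `σ` with `σ ^ p = 1` of a finite abelian `p`-group (`p` odd) whose commutator
subgroup `[A, σ]` is cyclic: `[A, σ]` has exponent dividing `p` and is fixed by `σ` (helper26).
-/

namespace Cfsg.Agent.Lib.H26.MetaTau

open Cfsg.Agent.Lib.H26.TransvPair Cfsg.Agent.Lib.H26.MetaPow

variable {A : Type*} [Group A]

/-- A subgroup of a finite cyclic subgroup has a generator all of whose members are natural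
powers. -/
theorem exists_gen_of_le_cyclic [Finite A] (H K : Subgroup A) (hHK : H ≤ K) (hK : IsCyclic K) :
    ∃ c ∈ H, ∀ y ∈ H, ∃ n : ℕ, c ^ n = y := by
  haveI : IsCyclic (H.subgroupOf K) := Subgroup.isCyclic _
  obtain ⟨g, hg⟩ := IsCyclic.exists_generator (α := H.subgroupOf K)
  refine ⟨((g : K) : A), Subgroup.mem_subgroupOf.1 g.2, fun y hy => ?_⟩
  have hyK : y ∈ K := hHK hy
  have h1 := hg ⟨⟨y, hyK⟩, Subgroup.mem_subgroupOf.2 hy⟩
  rw [← mem_powers_iff_mem_zpowers] at h1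
  obtain ⟨n, hn⟩ := h1
  refine ⟨n, ?_⟩
  have := congrArg (fun w : H.subgroupOf K => ((w : K) : A)) hn
  simpa using this

theorem sigma_movHom (hc : ∀ x y : A, x * y = y * x) (σ : MulAut A) (x : A) :
    σ (x⁻¹ * σ x) = (σ x)⁻¹ * σ (σ x) := by
  rw [map_mul, map_inv]

/-- iterates of `σ` in terms of the geometric sum. -/
theorem pow_apply_of_transv (σ : MulAut A) {x m : A} {j : ℕ} (h1 : σ x = x * m)
    (h2 : σ m = m ^ j) (k : ℕ) :
    (σ ^ k) x = x * m ^ (∑ i ∈ Finset.range k, j ^ i) := by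
  induction k with
  | zero => simp
  | succ k ih =>
    have hm : ∀ n : ℕ, σ (m ^ n) = m ^ (j * n) := by
      intro n
      rw [map_pow, h2, ← pow_mul]
    calc (σ ^ (k + 1)) x = σ ((σ ^ k) x) := by rw [pow_succ', MulAut.mul_apply]
      _ = σ x * σ (m ^ (∑ i ∈ Finset.range k, j ^ i)) := by rw [ih, map_mul]
      _ = x * (m * m ^ (j * ∑ i ∈ Finset.range k, j ^ i)) := by rw [h1, hm, mul_assoc]
      _ = x * m ^ (∑ i ∈ Finset.range (k + 1), j ^ i) := by
        rw [← pow_succ', geom_sum_succ]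

/-- The main computation. -/
theorem movSub_pow_eq_one [Finite A] {p : ℕ} [hp : Fact p.Prime] (hp2 : p ≠ 2)
    (hA : IsPGroup p A) (hc : ∀ x y : A, x * y = y * x) (σ : MulAut A) (hσ : σ ^ p = 1)
    (hcyc : ∃ c ∈ movSub hc σ, ∀ y ∈ movSub hc σ, ∃ n : ℕ, c ^ n = y) :
    (∀ x : A, (x⁻¹ * σ x) ^ p = 1) ∧ ∀ x : A, σ (x⁻¹ * σ x) = x⁻¹ * σ x := by
  obtain ⟨c, hcM, hgen⟩ := hcyc
  -- `σ c` is a power of `c`
  have hσc : σ c ∈ movSub hc σ := by
    obtain ⟨x, rfl⟩ := hcM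
    exact ⟨σ x, (sigma_movHom hc σ x).symm⟩
  obtain ⟨j, hj⟩ := hgen _ hσc
  by_cases hc1 : c = 1
  · have htriv : ∀ x : A, x⁻¹ * σ x = 1 := by
      intro x
      obtain ⟨n, hn⟩ := hgen (x⁻¹ * σ x) ⟨x, rfl⟩
      rw [← hn, hc1, one_pow]
    refine ⟨fun x => by rw [htriv x, one_pow], fun x => by rw [htriv x, map_one]⟩
  -- `j ≡ 1 (mod p)`
  have hpow : ∀ k : ℕ, (σ ^ k) c = c ^ (j ^ k) := by
    intro k
    induction k with
    | zero => simp
    | succ k ih =>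
      rw [pow_succ', MulAut.mul_apply, ih, map_pow, ← hj, ← pow_mul, ← pow_succ']
  have hcp : c ^ (j ^ p) = c := by
    rw [← hpow p, hσ, MulAut.one_apply]
  obtain ⟨e, he⟩ := (IsPGroup.iff_orderOf.1 hA) c
  have he1 : e ≠ 0 := by
    intro h0
    rw [h0, pow_zero, orderOf_eq_one_iff] at he
    exact hc1 he
  have hjpos : 0 < j := by
    rcases Nat.eq_zero_or_pos j with h0 | h0
    · exfalso
      rw [h0, pow_zero] at hj
      apply hc1
      have : σ c = σ 1 := by rw [← hj, map_one]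
      exact σ.injective this
    · exact h0
  have hdvd : orderOf c ∣ j ^ p - 1 := by
    apply orderOf_dvd_of_pow_eq_one
    have h1 : c ^ (j ^ p - 1) * c = c := by
      rw [← pow_succ, Nat.sub_add_cancel (Nat.one_le_pow _ _ hjpos), hcp]
    exact mul_eq_right.1 h1
  have hpd : p ∣ j ^ p - 1 := by
    rw [he] at hdvd
    exact (dvd_pow_self p he1).trans hdvd
  have hj1 : j % p = 1 % p := by
    have h1 : (j ^ p : ZMod p) = 1 := by
      have h2 : ((j ^ p - 1 : ℕ) : ZMod p) = 0 := (ZMod.natCast_eq_zero_iff _ _).2 hpd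
      rw [Nat.cast_sub (Nat.one_le_pow _ _ hjpos), Nat.cast_pow, Nat.cast_one, sub_eq_zero] at h2
      exact h2
    rw [ZMod.pow_card] at h1
    have h3 : ((j : ℕ) : ZMod p) = ((1 : ℕ) : ZMod p) := by rw [h1, Nat.cast_one]
    exact (ZMod.natCast_eq_natCast_iff' j 1 p).1 h3
  obtain ⟨t, ht⟩ : ∃ t : ℕ, j = 1 + p * t := by
    have hp1 : 1 < p := hp.out.one_lt
    rw [Nat.mod_eq_of_lt hp1] at hj1
    refine ⟨j / p, ?_⟩
    have := Nat.mod_add_div j p
    omega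
  obtain ⟨w, hw⟩ := geom_sum_eq hp.out hp2 t
  rw [← ht] at hw
  -- every `τ x` satisfies `σ (τ x) = (τ x) ^ j`
  have hτj : ∀ x : A, σ (x⁻¹ * σ x) = (x⁻¹ * σ x) ^ j := by
    intro x
    obtain ⟨n, hn⟩ := hgen (x⁻¹ * σ x) ⟨x, rfl⟩
    rw [← hn, map_pow, ← hj, ← pow_mul, ← pow_mul, mul_comm]
  have key : ∀ x : A, (x⁻¹ * σ x) ^ p = 1 := by
    intro x
    set m := x⁻¹ * σ x with hm
    have h1 : σ x = x * m := by rw [hm]; group
    have h2 := pow_apply_of_transv σ h1 (hτj x) p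
    rw [hσ, MulAut.one_apply, hw] at h2
    have h3 : m ^ (p * (1 + p * w)) = 1 := by
      have := h2.symm
      rwa [mul_eq_left] at this
    obtain ⟨f, hf⟩ := hA m
    have h4 : (m ^ p) ^ (1 + p * w) = 1 := by rw [← pow_mul]; exact h3
    have h5 : (m ^ p) ^ (p ^ f) = 1 := by rw [← pow_mul, mul_comm, pow_mul, hf, one_pow]
    have hcop : (1 + p * w).Coprime (p ^ f) := by
      apply Nat.Coprime.pow_right
      rw [Nat.coprime_comm, Nat.Prime.coprime_iff_not_dvd hp.out]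
      intro hd
      have : p ∣ 1 := (Nat.dvd_add_left (dvd_mul_right p w)).1 hd
      exact hp.out.one_lt.ne' (Nat.dvd_one.1 this)
    have h6 : (m ^ p) ^ Nat.gcd (1 + p * w) (p ^ f) = 1 := pow_gcd_eq_one.2 ⟨h4, h5⟩
    rwa [Nat.Coprime.gcd_eq_one hcop, pow_one] at h6
  refine ⟨key, fun x => ?_⟩
  rw [hτj x, ht, pow_add, pow_one, pow_mul, key x, one_pow, mul_one]

end Cfsg.Agent.Lib.H26.MetaTau
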