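import Mathlib
import Cfsg.Agent.S5080
import Cfsg.Agent.Lib.H26.MetaSCRed
import Cfsg.Agent.Lib.H26.MetaSCExt
import Cfsg.Agent.Lib.H26.MetaTau
import Cfsg.Agent.Lib.H26.TransvPair

set_option autoImplicit false

/-!
The local configuration (helper26): `P` strongly closed metacyclic, `T` essential, `P ≰ T`,
`x ∈ N_P(T) ∖ T` with `x ^ p ∈ T`.  First consequences: `P ∩ T` is elementary abelian of order
`p²` and `c_x` acts on it as a transvection.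
-/

namespace Cfsg.Agent.Lib.H26.MetaSC

open Cfsg Cfsg.FusionSystem Cfsg.Agent.Lib.H25 Cfsg.Agent.Lib.H26.ChainStab
  Cfsg.Agent.Lib.H26.Model Cfsg.Agent.Lib.H26.CycChain Cfsg.Agent.Lib.H26.MetaG1
  Cfsg.Agent.Lib.H26.TransvPair Cfsg.Agent.Lib.H26.MetaTau
open scoped commutatorElement

universe u

variable {Ω : Type u} [Group Ω] {S : Subgroup Ω}

/-- The local configuration. -/
structure Ctx [Finite S] (p : ℕ) [Fact p.Prime] (F : FusionSystem S) (P T : Subgroup Ω) (x : Ω) :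
    Prop where
  hS : IsPGroup p S
  hF : F.IsSaturated p
  hP : F.StronglyClosed P
  hm : Cfsg.IsMetacyclic ↥P
  hT : F.IsEssential p T
  hnot : ¬ P ≤ T
  hxP : x ∈ P
  hxN : x ∈ Subgroup.normalizer (T : Set Ω)
  hxT : x ∉ T
  hxp : x ^ p ∈ T
  hp2 : p ≠ 2

namespace Ctx

variable [Finite S] {p : ℕ} [hp : Fact p.Prime] {F : FusionSystem S} {P T : Subgroup Ω} {x : Ω}

theorem hTS (h : Ctx p F P T x) : T ≤ S := h.hT.1.1
theorem hxS (h : Ctx p F P T x) : x ∈ S := h.hP.1 h.hxP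
theorem hc (h : Ctx p F P T x) : F.IsCentric T := h.hT.1
theorem hr (h : Ctx p F P T x) : F.IsRadical p T := Cfsg.Agent.S5080.result p h.hS F h.hF T h.hT
theorem finT (h : Ctx p F P T x) : Finite T := finite_of_le S h.hTS
theorem hTp (h : Ctx p F P T x) : IsPGroup p T := h.hS.to_le h.hTS
theorem hQinv (h : Ctx p F P T x) : InvUnder (F.autGroup T) (P.subgroupOf T) :=
  invUnder_subgroupOf h.hP h.hTS
theorem finQ (h : Ctx p F P T x) : Finite ↥(P.subgroupOf T) :=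
  haveI := h.finT
  inferInstance
theorem hQp (h : Ctx p F P T x) : IsPGroup p ↥(P.subgroupOf T) := h.hTp.to_subgroup _
theorem hQm (h : Ctx p F P T x) : Cfsg.IsMetacyclic ↥(P.subgroupOf T) :=
  isMetacyclic_subgroupOf h.hm
theorem hno (h : Ctx p F P T x) : NoCharIdx p ↥(P.subgroupOf T) :=
  noCharIdx_of_not_le h.hS h.hP h.hm h.hc h.hr h.hnot
theorem hcQ (h : Ctx p F P T x) : ∀ a b : ↥(P.subgroupOf T), a * b = b * a :=
  haveI := h.finQ
  comm_of_noCharIdx h.hp2 h.hQp h.hQm h.hno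

theorem hcxA (h : Ctx p F P T x) : conjAut T x h.hxN ∈ F.autGroup T :=
  conjAut_mem_autGroup F h.hTS h.hxS h.hxN

/-- `c_x` acts trivially on `T / (P ∩ T)`. -/
theorem cx_top (h : Ctx p F P T x) (t : T) :
    t⁻¹ * conjAut T x h.hxN t ∈ P.subgroupOf T := by
  rw [Subgroup.mem_subgroupOf]
  show ((t : Ω))⁻¹ * (x * (t : Ω) * x⁻¹) ∈ P
  have h2 : ((t : Ω))⁻¹ * x * ((t : Ω))⁻¹⁻¹ ∈ P :=
    stronglyClosed_conj_mem h.hP (S.inv_mem (h.hTS t.2)) h.hxP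
  have e : ((t : Ω))⁻¹ * (x * (t : Ω) * x⁻¹) = ((t : Ω))⁻¹ * x * ((t : Ω))⁻¹⁻¹ * x⁻¹ := by
    group
  rw [e]
  exact P.mul_mem h2 (P.inv_mem h.hxP)

/-- The action of `x` on `P ∩ T`. -/
def σ (h : Ctx p F P T x) : MulAut ↥(P.subgroupOf T) :=
  resAutH (F.autGroup T) (P.subgroupOf T) h.hQinv ⟨conjAut T x h.hxN, h.hcxA⟩

theorem σ_coe (h : Ctx p F P T x) (q : ↥(P.subgroupOf T)) :
    (((h.σ q : ↥(P.subgroupOf T)) : T) : Ω) = x * ((q : T) : Ω) * x⁻¹ := rfl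

theorem σ_pow_coe (h : Ctx p F P T x) (n : ℕ) (q : ↥(P.subgroupOf T)) :
    ((((h.σ ^ n) q : ↥(P.subgroupOf T)) : T) : Ω) = x ^ n * ((q : T) : Ω) * (x ^ n)⁻¹ := by
  induction n generalizing q with
  | zero => simp
  | succ n ih =>
    rw [pow_succ', MulAut.mul_apply, σ_coe, ih, pow_succ']
    group

/-- commutativity of `P ∩ T`, in the ambient group -/
theorem comm_amb (h : Ctx p F P T x) {a b : Ω} (haP : a ∈ P) (haT : a ∈ T) (hbP : b ∈ P)
    (hbT : b ∈ T) : a * b = b * a := by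
  have := h.hcQ ⟨⟨a, haT⟩, Subgroup.mem_subgroupOf.2 haP⟩ ⟨⟨b, hbT⟩, Subgroup.mem_subgroupOf.2 hbP⟩
  have h2 := congrArg (fun w : ↥(P.subgroupOf T) => ((w : T) : Ω)) this
  exact h2

theorem σ_pow_p (h : Ctx p F P T x) : h.σ ^ p = 1 := by
  ext q
  rw [σ_pow_coe, MulAut.one_apply]
  have hxpP : x ^ p ∈ P := P.pow_mem h.hxP p
  have hq := Subgroup.mem_subgroupOf.1 q.2
  rw [h.comm_amb hxpP h.hxp hq (q : T).2]
  group

/-- the cyclic subgroup containing `[P ∩ T, x]` -/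
theorem movSub_gen (h : Ctx p F P T x) :
    ∃ c ∈ movSub h.hcQ h.σ, ∀ y ∈ movSub h.hcQ h.σ, ∃ n : ℕ, c ^ n = y := by
  haveI := h.finQ
  obtain ⟨CP, hCPn, hCPc, hCPq⟩ := h.hm
  haveI := hCPn
  have hcomm : commutator ↥P ≤ CP :=
    Subgroup.Normal.quotient_commutative_iff_commutator_le.1 inferInstance
  let KC : Subgroup ↥(P.subgroupOf T) := CP.comap (inclP P T)
  have hKCcyc : IsCyclic KC := by
    let g : KC →* CP :=
      { toFun := fun k => ⟨inclP P T k.1, k.2⟩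
        map_one' := rfl
        map_mul' := fun _ _ => rfl }
    apply isCyclic_of_injective g
    intro a b hab
    apply Subtype.ext
    apply inclP_injective P T
    exact congrArg (fun w : CP => (w : ↥P)) hab
  apply exists_gen_of_le_cyclic (movSub h.hcQ h.σ) KC _ hKCcyc
  rintro _ ⟨q, rfl⟩
  rw [movHom_apply, Subgroup.mem_comap]
  apply hcomm
  have h1 : ⁅(inclP P T q)⁻¹, (⟨x, h.hxP⟩ : P)⁆ ∈ commutator ↥P :=
    Subgroup.commutator_mem_commutator (Subgroup.mem_top _) (Subgroup.mem_top _)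
  have e : inclP P T (q⁻¹ * h.σ q) = ⁅(inclP P T q)⁻¹, (⟨x, h.hxP⟩ : P)⁆ := by
    apply Subtype.ext
    rw [commutatorElement_def, inv_inv]
    show ((q : T) : Ω)⁻¹ * (x * ((q : T) : Ω) * x⁻¹) = ((q : T) : Ω)⁻¹ * x * ((q : T) : Ω) * x⁻¹
    group
  rw [e]
  exact h1

theorem tau_pow (h : Ctx p F P T x) (q : ↥(P.subgroupOf T)) : (q⁻¹ * h.σ q) ^ p = 1 :=
  haveI := h.finQ
  (movSub_pow_eq_one h.hp2 h.hQp h.hcQ h.σ h.σ_pow_p h.movSub_gen).1 q

theorem tau_fix (h : Ctx p F P T x) (q : ↥(P.subgroupOf T)) :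
    h.σ (q⁻¹ * h.σ q) = q⁻¹ * h.σ q :=
  haveI := h.finQ
  (movSub_pow_eq_one h.hp2 h.hQp h.hcQ h.σ h.σ_pow_p h.movSub_gen).2 q

end Ctx

end Cfsg.Agent.Lib.H26.MetaSC
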