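import Mathlib
import Cfsg.Agent.Lib.H26.MetaSCCtx

set_option autoImplicit false

/-!
The local configuration, continued (helper26): `P ∩ T` has exponent `p` and order `p²`, and
`[P ∩ T, x] = C_{P ∩ T}(x)` has order `p`.
-/

namespace Cfsg.Agent.Lib.H26.MetaSC

open Cfsg Cfsg.FusionSystem Cfsg.Agent.Lib.H25 Cfsg.Agent.Lib.H26.ChainStab
  Cfsg.Agent.Lib.H26.Model Cfsg.Agent.Lib.H26.CycChain Cfsg.Agent.Lib.H26.MetaG1
  Cfsg.Agent.Lib.H26.TransvPair Cfsg.Agent.Lib.H26.MetaTau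

universe u

variable {Ω : Type u} [Group Ω] {S : Subgroup Ω}

namespace Ctx

variable [Finite S] {p : ℕ} [hp : Fact p.Prime] {F : FusionSystem S} {P T : Subgroup Ω} {x : Ω}

theorem inv_bot (F : FusionSystem S) (T : Subgroup Ω) :
    ∀ α ∈ F.autGroup T, ∀ t ∈ (⊥ : Subgroup T), α t ∈ (⊥ : Subgroup T) := by
  intro α _ t ht
  rw [Subgroup.mem_bot] at ht ⊢
  rw [ht, map_one]

/-- `x` does not stabilize a chain `T ≥ P ∩ T ≥ Y ≥ 1` with `Y` invariant. -/
theorem not_stabilizes (h : Ctx p F P T x) (Y : Subgroup T) (hY : Y ≤ P.subgroupOf T)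
    (hYinv : InvUnder (F.autGroup T) Y)
    (h1 : ∀ q : ↥(P.subgroupOf T), ((q⁻¹ * h.σ q : ↥(P.subgroupOf T)) : T) ∈ Y)
    (h2 : ∀ q : ↥(P.subgroupOf T), (q : T) ∈ Y → h.σ q = q) : False := by
  haveI := h.finT
  apply h.hxT
  refine mem_of_stabilizes h.hS h.hc h.hr (ch4 (P.subgroupOf T) Y ⊥) (ch4_mono hY bot_le) 3 rfl
    bot_le ?_ h.hxS h.hxN ?_
  · intro i
    match i with
    | 0 => intro α _ t _; exact Subgroup.mem_top _
    | 1 => exact fun α hα t ht => h.hQinv α hα t ht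
    | 2 => exact fun α hα t ht => hYinv α hα t ht
    | (k + 3) => exact inv_bot F T
  · intro i t ht
    match i with
    | 0 => exact h.cx_top t
    | 1 => exact h1 ⟨t, ht⟩
    | 2 =>
      have htQ : t ∈ P.subgroupOf T := hY ht
      have h3 := h2 ⟨t, htQ⟩ ht
      show t⁻¹ * conjAut T x h.hxN t ∈ (⊥ : Subgroup T)
      rw [Subgroup.mem_bot]
      have h4 : conjAut T x h.hxN t = t := by
        have := congrArg (fun w : ↥(P.subgroupOf T) => (w : T)) h3
        exact this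
      rw [h4, inv_mul_cancel]
    | (k + 3) =>
      show t⁻¹ * conjAut T x h.hxN t ∈ (⊥ : Subgroup T)
      have ht' : t ∈ (⊥ : Subgroup T) := ht
      rw [Subgroup.mem_bot] at ht' ⊢
      rw [ht', map_one, inv_one, one_mul]

/-- `P ∩ T` has exponent `p`. -/
theorem exp_p (h : Ctx p F P T x) : ∀ q : ↥(P.subgroupOf T), q ^ p = 1 := by
  haveI := h.finQ
  haveI := h.finT
  rcases exp_or_le_range h.hQp h.hQm h.hno h.hcQ with hexp | hbad
  · exact hexp
  exfalso
  set K := (Cfsg.Agent.Lib.H25.AbPow.pw h.hcQ p).ker with hK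
  have hKchar : K.Characteristic := Cfsg.Agent.Lib.H25.AbPow.ker_pw_char h.hcQ p
  apply h.not_stabilizes (K.map (P.subgroupOf T).subtype) (Subgroup.map_subtype_le K)
    (invUnder_map_char _ _ h.hQinv K hKchar)
  · intro q
    refine ⟨q⁻¹ * h.σ q, ?_, rfl⟩
    show q⁻¹ * h.σ q ∈ K
    rw [hK, Cfsg.Agent.Lib.H25.AbPow.mem_ker_pw]
    exact h.tau_pow q
  · rintro q ⟨k, hk, hkq⟩
    have hkq' : k = q := Subtype.ext hkq
    subst hkq'
    have hk' : k ∈ K := hk
    rw [hK, Cfsg.Agent.Lib.H25.AbPow.mem_ker_pw] at hk'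
    have hk := hk'
    obtain ⟨y, hy⟩ := hbad k hk
    have h1 : movHom h.hcQ h.σ k = 1 := by
      rw [← hy, map_pow, movHom_apply, h.tau_pow y]
    rw [movHom_apply, inv_mul_eq_one] at h1
    exact h1.symm

/-- `σ` is not the identity. -/
theorem exists_moved (h : Ctx p F P T x) : ∃ q : ↥(P.subgroupOf T), h.σ q ≠ q := by
  by_contra hcon
  push Not at hcon
  apply h.not_stabilizes ⊥ bot_le (inv_bot F T)
  · intro q
    rw [hcon q, inv_mul_cancel]
    exact Subgroup.one_mem _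
  · intro q _
    exact hcon q

theorem card_movSub_eq (h : Ctx p F P T x) : Nat.card (movSub h.hcQ h.σ) = p := by
  haveI := h.finQ
  have hMp : IsPGroup p (movSub h.hcQ h.σ) := h.hQp.to_subgroup _
  -- cyclic
  obtain ⟨c, hcM, hgen⟩ := h.movSub_gen
  haveI hcyc : IsCyclic (movSub h.hcQ h.σ) := by
    refine ⟨⟨⟨c, hcM⟩, fun y => ?_⟩⟩
    obtain ⟨n, hn⟩ := hgen y.1 y.2
    exact ⟨n, Subtype.ext (by simpa using hn)⟩
  have hle : Nat.card (movSub h.hcQ h.σ) ≤ p := by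
    apply Cfsg.Agent.Lib.H16.Meta.card_le_of_cyclic_of_pow hp.out.pos
    rintro ⟨y, ⟨q, hq⟩⟩
    apply Subtype.ext
    rw [Subgroup.coe_pow, Subgroup.coe_one]
    show y ^ p = 1
    rw [← hq, movHom_apply]
    exact h.tau_pow q
  obtain ⟨k, hk⟩ := IsPGroup.iff_card.1 hMp
  have hk0 : k ≠ 0 := by
    intro h0
    rw [h0, pow_zero] at hk
    obtain ⟨q, hq⟩ := h.exists_moved
    have hsub : Subsingleton (movSub h.hcQ h.σ) := (Nat.card_eq_one_iff_unique.1 hk).1
    have h1 : (⟨q⁻¹ * h.σ q, ⟨q, rfl⟩⟩ : movSub h.hcQ h.σ) = 1 := Subsingleton.elim _ _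
    have h2 := congrArg Subtype.val h1
    apply hq
    have h3 : q⁻¹ * h.σ q = 1 := h2
    rw [inv_mul_eq_one] at h3
    exact h3.symm
  rw [hk] at hle ⊢
  have hk1 : k ≤ 1 := by
    by_contra hlt
    push Not at hlt
    have h2 : p ^ 2 ≤ p ^ k := Nat.pow_le_pow_right hp.out.pos hlt
    have : p < p ^ 2 := by
      have := hp.out.one_lt
      nlinarith
    omega
  have : k = 1 := by omega
  rw [this, pow_one]

theorem idx_fix (h : Ctx p F P T x) : (fixSub h.σ).index = p := by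
  haveI := h.finQ
  rw [← card_movSub h.hcQ h.σ, h.card_movSub_eq]

theorem movSub_le_fix (h : Ctx p F P T x) : movSub h.hcQ h.σ ≤ fixSub h.σ := by
  rintro _ ⟨q, rfl⟩
  rw [mem_fixSub, movHom_apply]
  exact h.tau_fix q

theorem card_Q (h : Ctx p F P T x) : Nat.card ↥(P.subgroupOf T) = p ^ 2 := by
  haveI := h.finQ
  have h1 : Nat.card ↥(P.subgroupOf T) ≤ p ^ 2 :=
    Cfsg.Agent.Lib.H16.Meta.card_le_sq_of_pow_eq_one h.hQm hp.out.pos h.exp_p
  have h2 := (fixSub h.σ).card_mul_index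
  rw [h.idx_fix] at h2
  have h3 : p ≤ Nat.card (fixSub h.σ) :=
    (le_of_eq h.card_movSub_eq.symm).trans (Subgroup.card_le_of_le h.movSub_le_fix)
  have h4 : p * p ≤ Nat.card ↥(P.subgroupOf T) := by
    rw [← h2]
    exact Nat.mul_le_mul_right p h3
  rw [sq] at h1 ⊢
  omega

theorem fixSub_eq (h : Ctx p F P T x) : fixSub h.σ = movSub h.hcQ h.σ := by
  haveI := h.finQ
  symm
  apply Subgroup.eq_of_le_of_card_ge h.movSub_le_fix
  have h2 := (fixSub h.σ).card_mul_index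
  rw [h.idx_fix, h.card_Q, sq] at h2
  have := Nat.eq_of_mul_eq_mul_right hp.out.pos h2
  rw [this, h.card_movSub_eq]

end Ctx

end Cfsg.Agent.Lib.H26.MetaSC
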