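import Mathlib
import Cfsg.Agent.Lib.H26.MetaSCExp

set_option autoImplicit false

/-!
The local configuration, continued (helper26): `Aut_F(T)` contains an automorphism inverting
`P ∩ T`.
-/

namespace Cfsg.Agent.Lib.H26.MetaSC

open Cfsg Cfsg.FusionSystem Cfsg.Agent.Lib.H25 Cfsg.Agent.Lib.H26.ChainStab
  Cfsg.Agent.Lib.H26.Model Cfsg.Agent.Lib.H26.CycChain Cfsg.Agent.Lib.H26.MetaG1
  Cfsg.Agent.Lib.H26.TransvPair Cfsg.Agent.Lib.H26.MetaTau

universe u

/-- A `p`-group of automorphisms of a finite group of order divisible by `p` fixes a nontrivial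
element. -/
theorem exists_fixed {A : Type*} [Group A] [Finite A] {p : ℕ} [Fact p.Prime]
    (hA1 : p ∣ Nat.card A) (H : Subgroup (MulAut A)) (hH : IsPGroup p H) :
    ∃ y : A, y ≠ 1 ∧ ∀ α ∈ H, α y = y := by
  have h1 : (1 : A) ∈ MulAction.fixedPoints H A := by
    intro g
    show (g : MulAut A) 1 = 1
    exact map_one _
  obtain ⟨b, hb, hne⟩ := hH.exists_fixed_point_of_prime_dvd_card_of_fixed_point A hA1 h1
  exact ⟨b, fun h => hne h.symm, fun α hα => hb ⟨α, hα⟩⟩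

theorem eq_of_prime_card_of_common {A : Type*} [Group A] [Finite A] {p : ℕ} [Fact p.Prime]
    {K K' : Subgroup A} (hK : Nat.card K = p) (hK' : Nat.card K' = p) {y : A} (hy : y ∈ K)
    (hy' : y ∈ K') (hy1 : y ≠ 1) : K = K' := by
  apply Subgroup.eq_of_le_of_card_ge
  · intro z hz
    obtain ⟨k, rfl⟩ := exists_pow_of_prime_card hK hy hy1 hz
    exact K'.pow_mem hy' k
  · rw [hK, hK']

variable {Ω : Type u} [Group Ω] {S : Subgroup Ω}

namespace Ctx

variable [Finite S] {p : ℕ} [hp : Fact p.Prime] {F : FusionSystem S} {P T : Subgroup Ω} {x : Ω}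

theorem exists_notp (h : Ctx p F P T x) :
    ∃ β : ↥(F.autGroup T), ¬ IsPGroup p (Subgroup.closure
      ({h.σ, (resAutH (F.autGroup T) (P.subgroupOf T) h.hQinv β) * h.σ *
        (resAutH (F.autGroup T) (P.subgroupOf T) h.hQinv β)⁻¹} :
          Set (MulAut ↥(P.subgroupOf T)))) := by
  haveI := h.finQ
  haveI := h.finT
  by_contra hcon
  push Not at hcon
  have hL : ∀ β : ↥(F.autGroup T), (movSub h.hcQ h.σ).map
      (resAutH (F.autGroup T) (P.subgroupOf T) h.hQinv β).toMonoidHom = movSub h.hcQ h.σ := by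
    intro β
    obtain ⟨b, hb⟩ : ∃ b, b = resAutH (F.autGroup T) (P.subgroupOf T) h.hQinv β := ⟨_, rfl⟩
    rw [← hb]
    have hcon' := hcon β
    rw [← hb] at hcon'
    obtain ⟨y, hy1, hyfix⟩ := exists_fixed
      (by rw [h.card_Q]; exact dvd_pow_self p two_ne_zero) _ hcon'
    have hyσ : h.σ y = y := hyfix _ (Subgroup.subset_closure (Set.mem_insert _ _))
    have hyσ' : (b * h.σ * b⁻¹) y = y :=
      hyfix _ (Subgroup.subset_closure (Set.mem_insert_of_mem _ rfl))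
    have hy1' : y ∈ movSub h.hcQ h.σ := by rw [← h.fixSub_eq]; exact hyσ
    have hy2 : y ∈ (movSub h.hcQ h.σ).map b.toMonoidHom := by
      rw [← h.fixSub_eq, ← fixSub_conj]; exact hyσ'
    symm
    apply eq_of_prime_card_of_common h.card_movSub_eq _ hy1' hy2 hy1
    rw [Subgroup.card_map_of_injective b.injective, h.card_movSub_eq]
  apply h.not_stabilizes ((movSub h.hcQ h.σ).map (P.subgroupOf T).subtype)
    (Subgroup.map_subtype_le _)
  · rintro α hα _ ⟨l, hl, rfl⟩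
    refine ⟨resAutH (F.autGroup T) (P.subgroupOf T) h.hQinv ⟨α, hα⟩ l, ?_, rfl⟩
    rw [← hL ⟨α, hα⟩]
    exact ⟨l, hl, rfl⟩
  · intro q
    exact ⟨_, ⟨q, rfl⟩, rfl⟩
  · rintro q ⟨l, hl, hlq⟩
    have : l = q := Subtype.ext hlq
    subst this
    have hl' : l ∈ fixSub h.σ := by rw [h.fixSub_eq]; exact hl
    exact hl'

/-- `Aut_F(T)` contains an automorphism inverting `P ∩ T`. -/
theorem exists_inverting (h : Ctx p F P T x) :
    ∃ ρ ∈ F.autGroup T, ∀ t : T, t ∈ P.subgroupOf T → ρ t = t⁻¹ := by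
  haveI := h.finQ
  obtain ⟨β, hnotp⟩ := h.exists_notp
  obtain ⟨b, hb⟩ : ∃ b, b = resAutH (F.autGroup T) (P.subgroupOf T) h.hQinv β := ⟨_, rfl⟩
  rw [← hb] at hnotp
  have hset := setup_of_conj h.hcQ h.hQp h.σ b h.idx_fix h.tau_fix hnotp
  obtain ⟨r, hr, hrW, -⟩ := hset.exists_reflection
  have htop : movSub h.hcQ h.σ ⊔ movSub h.hcQ (b * h.σ * b⁻¹) = ⊤ := by
    apply Subgroup.eq_top_of_card_eq
    rw [hset.card_W, h.card_Q]
  have hrange : Subgroup.closure ({h.σ, b * h.σ * b⁻¹} : Set (MulAut ↥(P.subgroupOf T))) ≤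
      (resAutH (F.autGroup T) (P.subgroupOf T) h.hQinv).range := by
    rw [Subgroup.closure_le]
    rintro _ (rfl | rfl)
    · exact ⟨_, rfl⟩
    · refine ⟨β * ⟨conjAut T x h.hxN, h.hcxA⟩ * β⁻¹, ?_⟩
      rw [map_mul, map_mul, map_inv, ← hb]
      rfl
  obtain ⟨ρ, hρ⟩ := hrange hr
  refine ⟨ρ.1, ρ.2, fun t ht => ?_⟩
  have h1 := hrW ⟨t, ht⟩ (by rw [htop]; exact Subgroup.mem_top _)
  rw [← hρ] at h1
  exact congrArg Subtype.val h1

end Ctx

end Cfsg.Agent.Lib.H26.MetaSC
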