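import Mathlib
import Cfsg.Agent.Lib.H26.MetaSCRefl
import Cfsg.Agent.Lib.H25.EssRadical

set_option autoImplicit false

/-!
The local configuration, continued (helper26): the inverting automorphism twists `c_x` by an
inner automorphism, hence extends to `T⟨x⟩`; consequently `x ^ p = 1`.
-/

namespace Cfsg.Agent.Lib.H26.MetaSC

open Cfsg Cfsg.FusionSystem Cfsg.Agent.Lib.H25 Cfsg.Agent.Lib.H26.ChainStab
  Cfsg.Agent.Lib.H26.Model Cfsg.Agent.Lib.H26.CycChain Cfsg.Agent.Lib.H26.MetaG1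
  Cfsg.Agent.Lib.H26.TransvPair Cfsg.Agent.Lib.H26.MetaTau

universe u

variable {Ω : Type u} [Group Ω] {S : Subgroup Ω}

namespace Ctx

variable [Finite S] {p : ℕ} [hp : Fact p.Prime] {F : FusionSystem S} {P T : Subgroup Ω} {x : Ω}

theorem exists_twist (h : Ctx p F P T x) {ρ : MulAut T} (hρ : ρ ∈ F.autGroup T)
    (hinv : ∀ t : T, t ∈ P.subgroupOf T → ρ t = t⁻¹) :
    ∃ t₀ : T, ∀ t : T, ρ (conjAut T x h.hxN t) = t₀ * conjAut T x h.hxN (ρ t) * t₀⁻¹ := by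
  haveI := h.finT
  obtain ⟨c, hc⟩ : ∃ c, c = conjAut T x h.hxN := ⟨_, rfl⟩
  have hcA : c ∈ F.autGroup T := hc ▸ h.hcxA
  have hcx_top : ∀ t : T, t⁻¹ * c t ∈ P.subgroupOf T := by
    intro t
    rw [hc]
    exact h.cx_top t
  rw [← hc]
  have hQinv := h.hQinv
  obtain ⟨γ, hγ⟩ : ∃ γ, γ = ρ * c * ρ⁻¹ * c⁻¹ := ⟨_, rfl⟩
  have hγA : γ ∈ F.autGroup T := by
    rw [hγ]
    exact Subgroup.mul_mem _ (Subgroup.mul_mem _ (Subgroup.mul_mem _ hρ hcA)
      (Subgroup.inv_mem _ hρ)) (Subgroup.inv_mem _ hcA)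
  -- `γ` acts trivially modulo `P ∩ T`
  have hA1 : ∀ t : T, t⁻¹ * γ t ∈ P.subgroupOf T := by
    have hmono' := ch4_mono (le_refl (P.subgroupOf T)) (le_refl (P.subgroupOf T))
    have hinv' : ∀ i, ∀ α ∈ F.autGroup T,
        ∀ y ∈ ch4 (P.subgroupOf T) (P.subgroupOf T) (P.subgroupOf T) i,
        α y ∈ ch4 (P.subgroupOf T) (P.subgroupOf T) (P.subgroupOf T) i := by
      intro i
      match i with
      | 0 => intro α _ t _; exact Subgroup.mem_top _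
      | 1 => exact fun α hα t ht => hQinv α hα t ht
      | 2 => exact fun α hα t ht => hQinv α hα t ht
      | (k + 3) => exact fun α hα t ht => hQinv α hα t ht
    have hcB : c ∈ chainB F T _ hmono' := by
      refine ⟨?_, hcA⟩
      intro i t ht
      match i with
      | 0 => exact hcx_top t
      | 1 => exact Subgroup.mul_mem _ (Subgroup.inv_mem _ ht) (hQinv c hcA t ht)
      | 2 => exact Subgroup.mul_mem _ (Subgroup.inv_mem _ ht) (hQinv c hcA t ht)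
      | (k + 3) => exact Subgroup.mul_mem _ (Subgroup.inv_mem _ ht) (hQinv c hcA t ht)
    have h1 := chainB_normal F T _ hmono' hinv' ρ hρ c hcB
    have h2 : γ ∈ chainB F T _ hmono' := by
      rw [hγ]
      exact Subgroup.mul_mem _ h1 (Subgroup.inv_mem _ hcB)
    intro t
    exact h2.1 0 t (Subgroup.mem_top _)
  -- `γ` is trivial on `P ∩ T`
  have hρinv : ∀ s : T, s ∈ P.subgroupOf T → ρ⁻¹ s = s⁻¹ := by
    intro s hs
    have h1 : ρ s⁻¹ = s := by rw [hinv _ (Subgroup.inv_mem _ hs), inv_inv]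
    calc ρ⁻¹ s = ρ⁻¹ (ρ s⁻¹) := by rw [h1]
      _ = s⁻¹ := MulAut.inv_apply_self _ _ _
  have hA2 : ∀ q : T, q ∈ P.subgroupOf T → γ q = q := by
    intro q hq
    have hq' : c⁻¹ q ∈ P.subgroupOf T := hQinv c⁻¹ (Subgroup.inv_mem _ hcA) q hq
    rw [hγ]
    show ρ (c (ρ⁻¹ (c⁻¹ q))) = q
    rw [hρinv _ hq', map_inv, MulAut.apply_inv_self, hinv _ (Subgroup.inv_mem _ hq), inv_inv]
  -- hence `γ` is inner
  have hmono := ch4_mono (X := P.subgroupOf T) (Y := ⊥) (Z := ⊥) bot_le le_rfl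
  have hinvc : ∀ i, ∀ α ∈ F.autGroup T, ∀ y ∈ ch4 (P.subgroupOf T) ⊥ ⊥ i,
      α y ∈ ch4 (P.subgroupOf T) ⊥ ⊥ i := by
    intro i
    match i with
    | 0 => intro α _ t _; exact Subgroup.mem_top _
    | 1 => exact fun α hα t ht => hQinv α hα t ht
    | 2 => exact inv_bot F T
    | (k + 3) => exact inv_bot F T
  have hγB : γ ∈ chainB F T (ch4 (P.subgroupOf T) ⊥ ⊥) hmono := by
    refine ⟨?_, hγA⟩
    intro i t ht
    match i with
    | 0 => exact hA1 t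
    | 1 =>
      show t⁻¹ * γ t ∈ (⊥ : Subgroup T)
      rw [Subgroup.mem_bot, hA2 t ht, inv_mul_cancel]
    | 2 =>
      show t⁻¹ * γ t ∈ (⊥ : Subgroup T)
      have ht' : t ∈ (⊥ : Subgroup T) := ht
      rw [Subgroup.mem_bot] at ht' ⊢
      rw [ht', map_one, inv_one, one_mul]
    | (k + 3) =>
      show t⁻¹ * γ t ∈ (⊥ : Subgroup T)
      have ht' : t ∈ (⊥ : Subgroup T) := ht
      rw [Subgroup.mem_bot] at ht' ⊢
      rw [ht', map_one, inv_one, one_mul]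
  have hInn := Cfsg.Agent.Lib.H25.EssRadical.normal_pgroup_le_inn h.hS h.hF h.hT
    (chainB F T (ch4 (P.subgroupOf T) ⊥ ⊥) hmono) inf_le_right
    (chainB_normal F T _ hmono hinvc) (chainB_isPGroup F T h.hTp _ hmono 2 rfl bot_le) hγB
  obtain ⟨t₀, ht₀⟩ := hInn
  refine ⟨t₀, fun t => ?_⟩
  have h1 : ρ (c t) = γ (c (ρ t)) := by
    rw [hγ]
    show ρ (c t) = ρ (c (ρ⁻¹ (c⁻¹ (c (ρ t)))))
    rw [MulAut.inv_apply_self, MulAut.inv_apply_self]
  rw [h1, ← ht₀]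
  rfl

end Ctx

end Cfsg.Agent.Lib.H26.MetaSC
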