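import Mathlib
import Cfsg.Agent.Lib.H26.MetaSCInv
import Cfsg.Agent.Lib.H26.MetaPow

set_option autoImplicit false

/-!
The local configuration, continued (helper26): ambient-group versions of the facts on `P ∩ T`, the
power formula `(q x^k)^p = x^{kp}` and `x ^ p = 1`.
-/

namespace Cfsg.Agent.Lib.H26.MetaSC

open Cfsg Cfsg.FusionSystem Cfsg.Agent.Lib.H25 Cfsg.Agent.Lib.H26.ChainStab
  Cfsg.Agent.Lib.H26.Model Cfsg.Agent.Lib.H26.CycChain Cfsg.Agent.Lib.H26.MetaG1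
  Cfsg.Agent.Lib.H26.TransvPair Cfsg.Agent.Lib.H26.MetaTau Cfsg.Agent.Lib.H26.MetaPow

universe u

variable {Ω : Type u} [Group Ω] {S : Subgroup Ω}

namespace Ctx

variable [Finite S] {p : ℕ} [hp : Fact p.Prime] {F : FusionSystem S} {P T : Subgroup Ω} {x : Ω}

theorem amb_exp (h : Ctx p F P T x) {q : Ω} (hqP : q ∈ P) (hqT : q ∈ T) : q ^ p = 1 :=
  congrArg (fun w : ↥(P.subgroupOf T) => ((w : T) : Ω))
    (h.exp_p ⟨⟨q, hqT⟩, Subgroup.mem_subgroupOf.2 hqP⟩)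

theorem amb_tau_memT (h : Ctx p F P T x) {q : Ω} (hqP : q ∈ P) (hqT : q ∈ T) :
    q⁻¹ * (x * q * x⁻¹) ∈ T :=
  (((⟨⟨q, hqT⟩, Subgroup.mem_subgroupOf.2 hqP⟩ : ↥(P.subgroupOf T))⁻¹ *
    h.σ ⟨⟨q, hqT⟩, Subgroup.mem_subgroupOf.2 hqP⟩ : ↥(P.subgroupOf T)) : T).2

theorem amb_tau_memP (h : Ctx p F P T x) {q : Ω} (hqP : q ∈ P) (_hqT : q ∈ T) :
    q⁻¹ * (x * q * x⁻¹) ∈ P :=
  P.mul_mem (P.inv_mem hqP) (P.mul_mem (P.mul_mem h.hxP hqP) (P.inv_mem h.hxP))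

theorem amb_tau_pow (h : Ctx p F P T x) {q : Ω} (hqP : q ∈ P) (hqT : q ∈ T) :
    (q⁻¹ * (x * q * x⁻¹)) ^ p = 1 :=
  congrArg (fun w : ↥(P.subgroupOf T) => ((w : T) : Ω))
    (h.tau_pow ⟨⟨q, hqT⟩, Subgroup.mem_subgroupOf.2 hqP⟩)

theorem amb_tau_fix (h : Ctx p F P T x) {q : Ω} (hqP : q ∈ P) (hqT : q ∈ T) :
    x * (q⁻¹ * (x * q * x⁻¹)) * x⁻¹ = q⁻¹ * (x * q * x⁻¹) :=
  congrArg (fun w : ↥(P.subgroupOf T) => ((w : T) : Ω))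
    (h.tau_fix ⟨⟨q, hqT⟩, Subgroup.mem_subgroupOf.2 hqP⟩)

theorem two_lt (h : Ctx p F P T x) : 2 < p :=
  lt_of_le_of_ne hp.out.two_le (Ne.symm h.hp2)

/-- `(q x^k)^p = x^{kp}` for `q ∈ P ∩ T`. -/
theorem amb_mul_pow (h : Ctx p F P T x) {q : Ω} (hqP : q ∈ P) (hqT : q ∈ T) (k : ℕ) :
    (q * x ^ k) ^ p = (x ^ k) ^ p := by
  obtain ⟨m, hm⟩ : ∃ m, m = q⁻¹ * (x * q * x⁻¹) := ⟨_, rfl⟩
  have hm1 : x * q * x⁻¹ = q * m := by rw [hm]; group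
  have hm2 : x * m * x⁻¹ = m := by rw [hm]; exact h.amb_tau_fix hqP hqT
  have hmp : m ^ p = 1 := by rw [hm]; exact h.amb_tau_pow hqP hqT
  have hmP : m ∈ P := by rw [hm]; exact h.amb_tau_memP hqP hqT
  have hmT : m ∈ T := by rw [hm]; exact h.amb_tau_memT hqP hqT
  have hm3 : Commute q m := h.comm_amb hqP hqT hmP hmT
  have hxm : Commute x m := by
    have : x * m = m * x := by
      have := congrArg (fun w => w * x) hm2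
      simpa using this
    exact this
  have h1' : x ^ k * q * (x ^ k)⁻¹ = q * m ^ k := conj_pow_transv hm1 hm2 k
  have h2' : x ^ k * m ^ k * (x ^ k)⁻¹ = m ^ k := by
    rw [(hxm.pow_pow k k).eq, mul_inv_cancel_right]
  have h3' : q * m ^ k = m ^ k * q := (hm3.pow_right k).eq
  rw [mul_pow_transv h1' h2' h3' p, h.amb_exp hqP hqT, one_mul]
  obtain ⟨d, hd⟩ := hp.out.dvd_choose_self two_ne_zero h.two_lt
  have : (m ^ k) ^ (p.choose 2) = 1 := by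
    rw [hd, ← pow_mul, ← mul_assoc, mul_comm k p, mul_assoc, pow_mul, hmp, one_pow]
  rw [this, one_mul]

/-- `x` has order `p`. -/
theorem x_pow_p (h : Ctx p F P T x) : x ^ p = 1 := by
  haveI := h.finT
  obtain ⟨ρ, hρ, hinv⟩ := h.exists_inverting
  obtain ⟨t₀, ht₀⟩ := h.exists_twist hρ hinv
  obtain ⟨f, hfdef⟩ : ∃ f, f = ext1 (T.subtype.comp ρ.toMonoidHom) := ⟨_, rfl⟩
  have hf : IsIso F T T f := hfdef ▸ isIso_of_mem_autGroup F h.hTS hρ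
  have hfρ : ∀ (t : Ω) (ht : t ∈ T), f t = ((ρ ⟨t, ht⟩ : T) : Ω) := by
    intro t ht
    rw [hfdef, ext1_apply_mem _ ht]
    rfl
  have hxtT : ∀ t ∈ T, x * t * x⁻¹ ∈ T := fun t ht =>
    (Subgroup.mem_normalizer_iff.1 h.hxN t).1 ht
  have hh : ∀ t ∈ T, f (x * t * x⁻¹) = ((t₀ : Ω) * x) * f t * ((t₀ : Ω) * x)⁻¹ := by
    intro t ht
    rw [hfρ _ (hxtT t ht), hfρ t ht]
    have h1 := congrArg (fun w : T => (w : Ω)) (ht₀ ⟨t, ht⟩)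
    have h2 : ((ρ ⟨x * t * x⁻¹, hxtT t ht⟩ : T) : Ω) =
        (t₀ : Ω) * (x * ((ρ ⟨t, ht⟩ : T) : Ω) * x⁻¹) * (t₀ : Ω)⁻¹ := h1
    rw [h2]
    group
  have ht₀S : (t₀ : Ω) * x ∈ S := S.mul_mem (h.hTS t₀.2) h.hxS
  obtain ⟨f', N', hiso, hext⟩ := exists_ext h.hS h.hF h.hT.2.1 hf h.hxS h.hxN ht₀S hh
  have hxR : x ∈ T ⊔ Subgroup.zpowers x := le_sup_right (a := T) (Subgroup.mem_zpowers x)
  have hTR : T ≤ T ⊔ Subgroup.zpowers x := le_sup_left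
  have hyP : f' x ∈ P := by
    obtain ⟨Q', -, hQ', -⟩ := hiso.restrict (le_sup_right : Subgroup.zpowers x ≤ T ⊔ Subgroup.zpowers x)
    exact stronglyClosed_map_mem h.hP hQ' (Subgroup.zpowers_le.2 h.hxP) (Subgroup.mem_zpowers x)
  have hyS : f' x ∈ S := h.hP.1 hyP
  have hact : ∀ s ∈ T, f' x * s * (f' x)⁻¹ = ((t₀ : Ω) * x) * s * ((t₀ : Ω) * x)⁻¹ := by
    intro s hs
    obtain ⟨t, ht, rfl⟩ := hf.surjOn hs
    have h2 : f' (x * t * x⁻¹) = f' x * f' t * (f' x)⁻¹ := by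
      rw [hiso.map_mul (Subgroup.mul_mem _ hxR (hTR ht)) (Subgroup.inv_mem _ hxR),
        hiso.map_mul hxR (hTR ht), hiso.map_inv hxR]
    rw [hext t ht] at h2
    rw [← h2, hext _ (hxtT t ht), hh t ht]
  have hcent : ((t₀ : Ω) * x)⁻¹ * f' x ∈ centralizerIn S T := by
    refine ⟨S.mul_mem (S.inv_mem ht₀S) hyS, ?_⟩
    show _ ∈ Subgroup.centralizer (T : Set Ω)
    rw [Subgroup.mem_centralizer_iff]
    intro s hs
    have h3 := hact s hs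
    calc s * (((t₀ : Ω) * x)⁻¹ * f' x)
        = ((t₀ : Ω) * x)⁻¹ * (((t₀ : Ω) * x) * s * ((t₀ : Ω) * x)⁻¹) * f' x := by group
      _ = ((t₀ : Ω) * x)⁻¹ * (f' x * s * (f' x)⁻¹) * f' x := by rw [h3]
      _ = ((t₀ : Ω) * x)⁻¹ * f' x * s := by group
  have hmemT : ((t₀ : Ω) * x)⁻¹ * f' x ∈ T := h.hc.2 T (isConj_refl F h.hTS) hcent
  obtain ⟨q₃, hq₃⟩ : ∃ q₃, q₃ = f' x * x⁻¹ := ⟨_, rfl⟩
  have hq₃P : q₃ ∈ P := hq₃ ▸ P.mul_mem hyP (P.inv_mem h.hxP)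
  have hq₃T : q₃ ∈ T := by
    have h1 : x * (((t₀ : Ω) * x)⁻¹ * f' x) * x⁻¹ ∈ T := hxtT _ hmemT
    have e : q₃ = (t₀ : Ω) * (x * (((t₀ : Ω) * x)⁻¹ * f' x) * x⁻¹) := by rw [hq₃]; group
    rw [e]
    exact T.mul_mem t₀.2 h1
  have hy : f' x = q₃ * x := by rw [hq₃]; group
  have hxpP : x ^ p ∈ P := P.pow_mem h.hxP p
  have h1 : f' (x ^ p) = (x ^ p)⁻¹ := by
    rw [hext _ h.hxp, hfρ _ h.hxp, hinv ⟨x ^ p, h.hxp⟩ (Subgroup.mem_subgroupOf.2 hxpP)]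
    rfl
  have h2 : f' (x ^ p) = (f' x) ^ p := IsIso.map_pow' hiso hxR p
  have h3 : (q₃ * x) ^ p = x ^ p := by
    have := h.amb_mul_pow hq₃P hq₃T 1
    rwa [pow_one] at this
  have h4 : (x ^ p)⁻¹ = x ^ p := by rw [← h1, h2, hy, h3]
  have h5 : (x ^ p) ^ 2 = 1 := by
    rw [sq]
    nth_rewrite 1 [← h4]
    exact inv_mul_cancel _
  obtain ⟨k, hk⟩ := h.hS ⟨x, h.hxS⟩
  have hk' : x ^ p ^ k = 1 := by
    have := congrArg Subtype.val hk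
    simpa using this
  have h6 : (x ^ p) ^ p ^ k = 1 := by rw [← pow_mul, mul_comm, pow_mul, hk', one_pow]
  have hcop : Nat.gcd 2 (p ^ k) = 1 := by
    apply Nat.Coprime.pow_right
    exact (Nat.coprime_primes Nat.prime_two hp.out).2 (Ne.symm h.hp2)
  have h7 := pow_gcd_eq_one.2 ⟨h5, h6⟩
  rwa [hcop, pow_one] at h7

end Ctx

end Cfsg.Agent.Lib.H26.MetaSC
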