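import Mathlib
import Cfsg.Agent.Lib.H26.MetaSCPow

set_option autoImplicit false

/-!
The local configuration is contradictory (helper26): hence a strongly closed metacyclic subgroup,
for `p` odd, lies in every essential subgroup, and is normal in the system.
-/

namespace Cfsg.Agent.Lib.H26.MetaSC

open Cfsg Cfsg.FusionSystem Cfsg.Agent.Lib.H25 Cfsg.Agent.Lib.H26.ChainStab
  Cfsg.Agent.Lib.H26.Model Cfsg.Agent.Lib.H26.CycChain Cfsg.Agent.Lib.H26.MetaG1
  Cfsg.Agent.Lib.H26.TransvPair Cfsg.Agent.Lib.H26.MetaTau Cfsg.Agent.Lib.H26.MetaPow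
open scoped Pointwise

universe u

variable {Ω : Type u} [Group Ω] {S : Subgroup Ω}

namespace Ctx

variable [Finite S] {p : ℕ} [hp : Fact p.Prime] {F : FusionSystem S} {P T : Subgroup Ω} {x : Ω}

theorem false_of_ctx (h : Ctx p F P T x) : False := by
  haveI := h.finT
  have hxp := h.x_pow_p
  obtain ⟨Q', hQ'⟩ : ∃ Q', Q' = P ⊓ T := ⟨_, rfl⟩
  obtain ⟨Y, hY⟩ : ∃ Y, Y = Q' ⊔ Subgroup.zpowers x := ⟨_, rfl⟩
  have hQ'Y : Q' ≤ Y := hY ▸ le_sup_left
  have hxY : x ∈ Y := hY ▸ le_sup_right (a := Q') (Subgroup.mem_zpowers x)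
  have hYP : Y ≤ P := by
    rw [hY, hQ']
    exact sup_le inf_le_left (Subgroup.zpowers_le.2 h.hxP)
  haveI : Finite Y := finite_of_le S (hYP.trans h.hP.1)
  have hnorm : Subgroup.zpowers x ≤ Subgroup.normalizer (Q' : Set Ω) := by
    rw [Subgroup.zpowers_le, Subgroup.mem_normalizer_iff, hQ']
    intro y
    constructor
    · rintro ⟨hyP, hyT⟩
      exact ⟨P.mul_mem (P.mul_mem h.hxP hyP) (P.inv_mem h.hxP),
        (Subgroup.mem_normalizer_iff.1 h.hxN y).1 hyT⟩
    · rintro ⟨hyP, hyT⟩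
      refine ⟨?_, (Subgroup.mem_normalizer_iff.1 h.hxN y).2 hyT⟩
      have := P.mul_mem (P.mul_mem (P.inv_mem h.hxP) hyP) h.hxP
      simpa [mul_assoc] using this
  have hmul : (↑Y : Set Ω) = (Q' : Set Ω) * (Subgroup.zpowers x : Set Ω) := by
    rw [hY]
    exact Subgroup.coe_mul_of_right_le_normalizer_left Q' _ hnorm
  have hexp : ∀ y : Y, y ^ p = 1 := by
    rintro ⟨y, hy⟩
    apply Subtype.ext
    show y ^ p = 1
    have hy' : y ∈ (↑Y : Set Ω) := hy
    rw [hmul] at hy'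
    obtain ⟨q, hq, g, hg, rfl⟩ := hy'
    obtain ⟨z, rfl⟩ := Subgroup.mem_zpowers_iff.1 hg
    have hq' : q ∈ P ⊓ T := hQ' ▸ hq
    have hpz : (p : ℤ) ≠ 0 := by exact_mod_cast hp.out.ne_zero
    have hz : x ^ z = x ^ (z % (p : ℤ)).toNat := by
      rw [← zpow_natCast, Int.toNat_of_nonneg (Int.emod_nonneg _ hpz)]
      exact zpow_eq_zpow_emod z (by exact_mod_cast hxp)
    rw [hz, h.amb_mul_pow hq'.1 hq'.2, ← pow_mul, mul_comm, pow_mul, hxp, one_pow]
  have hYm : Cfsg.IsMetacyclic ↥Y := Cfsg.Agent.Lib.H16.Meta.isMetacyclic_of_le hYP h.hm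
  have hle : Nat.card Y ≤ p ^ 2 :=
    Cfsg.Agent.Lib.H16.Meta.card_le_sq_of_pow_eq_one hYm hp.out.pos hexp
  have hcQ' : Nat.card Q' = p ^ 2 := by
    rw [← h.card_Q, hQ', ← Subgroup.subgroupOf_map_subtype]
    exact Subgroup.card_map_of_injective (Subgroup.subtype_injective T)
  have heq : Q' = Y := Subgroup.eq_of_le_of_card_ge hQ'Y (by rw [hcQ']; exact hle)
  apply h.hxT
  have : x ∈ Q' := heq ▸ hxY
  rw [hQ'] at this
  exact this.2

end Ctx

/-- A strongly closed metacyclic subgroup, for `p` odd, lies in every essential subgroup. -/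
theorem le_of_essential [Finite S] {p : ℕ} [Fact p.Prime] (hS : IsPGroup p S)
    {F : FusionSystem S} (hF : F.IsSaturated p) {P : Subgroup Ω} (hP : F.StronglyClosed P)
    (hp2 : p ≠ 2) (hm : Cfsg.IsMetacyclic ↥P) {T : Subgroup Ω} (hT : F.IsEssential p T) :
    P ≤ T := by
  by_contra hnot
  obtain ⟨x, hxP, hxN, hxT, hxp⟩ :=
    exists_normalizer_elt hS hP.1 (stronglyClosed_le_normalizer hP) hT.1.1 hnot
  exact Ctx.false_of_ctx (x := x)
    ⟨hS, hF, hP, hm, hT, hnot, hxP, hxN, hxT, hxp, hp2⟩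

/-- A strongly closed metacyclic subgroup, for `p` odd, is normal in the system. -/
theorem isNormal_of_metacyclic [Finite S] {p : ℕ} [Fact p.Prime] (hS : IsPGroup p S)
    {F : FusionSystem S} (hF : F.IsSaturated p) {P : Subgroup Ω} (hP : F.StronglyClosed P)
    (hp2 : p ≠ 2) (hm : Cfsg.IsMetacyclic ↥P) : F.IsNormal P :=
  isNormal_of_stronglyClosed_of_le hS hF hP (fun _ hT => le_of_essential hS hF hP hp2 hm hT)

end Cfsg.Agent.Lib.H26.MetaSC
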