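import Mathlib
import Cfsg.Agent.Lib.H9.SHLOCpD
import Cfsg.Agent.Lib.H11.SHCSG
import Cfsg.Agent.Lib.H12.SHGLUEA
import Cfsg.Agent.Lib.L0.PRegCongP

/-!
# S3016 (Shult, odd `p`): the minimal configuration

`min_normal_p` : in the minimal configuration of the reduction, the subgroup `H` is normal, given
the three group-side case theorems (CASE A, CASE B with `|H| ≥ 5`, CASE B with `|H| = 3`) as
explicit hypotheses.  General-`p` twin of helper7's `Lib/H7/ShultMin.lean`; inputs: helper9's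
`H9.SHp.locData_of_loc` / `exists_struct` / `H_inf_Kg`.
-/

set_option autoImplicit false

namespace Cfsg.Agent.Lib.H26.SH16

open Cfsg

universe u

section loc

variable {G : Type u} [Group G] [Finite G] {H : Subgroup G}

/-- `N_G(H)` controls fusion in `H` (general prime `p`). -/
theorem fus_of_loc_p {p : ℕ} [Fact p.Prime] (hHp : IsPGroup p H) (hHab : IsMulCommutative H)
    (hcl : IsExtremelyClosed H) :
    ∀ h ∈ H, ∀ c ∈ H, IsConj h c →
      ∃ n ∈ Subgroup.normalizer (H : Set G), n * c * n⁻¹ = h := by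
  intro h hh c hc hconj
  obtain ⟨g, hg⟩ := isConj_iff.1 hconj
  obtain ⟨k, hk, ν, hν, hgk⟩ := Cfsg.Agent.Lib.H9.SHp.exists_struct hHp hHab hcl g
  have hb' : ν * h * ν⁻¹ ∈ H := ((Subgroup.mem_normalizer_iff.1 hν) h).1 hh
  have hc' : c = k * (ν * h * ν⁻¹) * k⁻¹ := by rw [← hg, hgk]; group
  have hmem : (ν * h * ν⁻¹)⁻¹ * c ∈ Cfsg.Agent.Lib.H9.SHp.Kg p H g := by
    have h1 : (ν * h * ν⁻¹)⁻¹ * c = ((ν * h * ν⁻¹)⁻¹ * k * ((ν * h * ν⁻¹)⁻¹)⁻¹) * k⁻¹ := by
      rw [hc']; group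
    rw [h1]
    refine Subgroup.mul_mem _ ?_ (Subgroup.inv_mem _ hk)
    exact Cfsg.Agent.Lib.H9.SHp.Kg_conj_mem p H g
      (Cfsg.Agent.Lib.H9.SHp.H_le_Tg H g (H.inv_mem hb')) hk
  have hmemH : (ν * h * ν⁻¹)⁻¹ * c ∈ H := H.mul_mem (H.inv_mem hb') hc
  have h1 : (ν * h * ν⁻¹)⁻¹ * c = 1 := by
    have h2 : (ν * h * ν⁻¹)⁻¹ * c ∈ H ⊓ Cfsg.Agent.Lib.H9.SHp.Kg p H g := ⟨hmemH, hmem⟩
    rw [Cfsg.Agent.Lib.H9.SHp.H_inf_Kg hHp hHab hcl g, Subgroup.mem_bot] at h2
    exact h2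
  have hceq : c = ν * h * ν⁻¹ := (inv_mul_eq_one.1 h1).symm
  refine ⟨ν⁻¹, Subgroup.inv_mem _ hν, ?_⟩
  rw [hceq]; group

end loc

/-- the shape of the group-side CASE A theorem (`N_G(H)` not transitive on `H#`) -/
def CaseAStmtP (p : ℕ) : Prop :=
  ∀ (G : Type u) [Group G] [Finite G] (M : Ideal AlgInt), IsPModular p M → ∀ H : Subgroup G,
    IsPGroup p H → IsMulCommutative H → IsExtremelyClosed H →
    Cfsg.Agent.Lib.H11.SH.LocData p H (principalBlock M G) →
    (∀ h ∈ H, ∀ c ∈ H, IsConj h c → ∃ n ∈ Subgroup.normalizer (H : Set G), n * c * n⁻¹ = h) →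
    Subgroup.normalClosure (H : Set G) = ⊤ → Cfsg.pPrimeCore p G = ⊥ → H ≠ ⊥ →
    ¬ Cfsg.Agent.Lib.H12.SH.TransN H → H = ⊤

/-- the shape of the group-side CASE B theorem for `5 ≤ |H|` -/
def CaseB5StmtP (p : ℕ) : Prop :=
  ∀ (G : Type u) [Group G] [Finite G] (M : Ideal AlgInt), IsPModular p M → ∀ H : Subgroup G,
    IsPGroup p H → IsMulCommutative H →
    Cfsg.Agent.Lib.H11.SH.LocData p H (principalBlock M G) →
    Subgroup.normalClosure (H : Set G) = ⊤ → Cfsg.Agent.Lib.H12.SH.TransN H →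
    5 ≤ Nat.card H → False

/-- the shape of the group-side CASE B theorem for `|H| = 3` -/
def CaseB3Stmt : Prop :=
  ∀ (G : Type u) [Group G] [Finite G] (M : Ideal AlgInt), IsPModular 3 M → ∀ H : Subgroup G,
    IsPGroup 3 H → IsMulCommutative H → IsExtremelyClosed H →
    Cfsg.Agent.Lib.H11.SH.LocData 3 H (principalBlock M G) →
    Subgroup.normalClosure (H : Set G) = ⊤ → Cfsg.Agent.Lib.H12.SH.TransN H →
    Nat.card H = 3 → False

/-- a nontrivial `p`-group, `p` odd, has order `3` (and then `p = 3`) or at least `5` -/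
theorem card_cases {p : ℕ} [hp : Fact p.Prime] (hp2 : p ≠ 2) {G : Type u} [Group G] [Finite G]
    {H : Subgroup G} (hHp : IsPGroup p H) (hne : H ≠ ⊥) :
    (Nat.card H = 3 ∧ p = 3) ∨ 5 ≤ Nat.card H := by
  obtain ⟨k, hk⟩ := (IsPGroup.iff_card).mp hHp
  have hk0 : k ≠ 0 := by
    rintro rfl
    rw [pow_zero] at hk
    exact hne ((Subgroup.card_eq_one).1 hk)
  have hp3 : 3 ≤ p := by
    have h2 := hp.out.two_le
    omega
  have hle : p ≤ Nat.card H := by
    rw [hk]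
    calc p = p ^ 1 := (pow_one p).symm
      _ ≤ p ^ k := Nat.pow_le_pow_right (by omega) (by omega)
  by_cases h5 : 5 ≤ Nat.card H
  · exact Or.inr h5
  · left
    have h34 : Nat.card H = 3 ∨ Nat.card H = 4 := by omega
    rcases h34 with h3 | h4
    · refine ⟨h3, ?_⟩
      have hdvd : p ∣ 3 := by
        rw [← h3, hk]
        exact dvd_pow_self p hk0
      exact (Nat.prime_dvd_prime_iff_eq hp.out Nat.prime_three).1 hdvd
    · exfalso
      have hdvd : p ∣ 4 := by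
        rw [← h4, hk]
        exact dvd_pow_self p hk0
      have h22 : p ∣ 2 ^ 2 := by simpa using hdvd
      have := (Nat.prime_dvd_prime_iff_eq hp.out Nat.prime_two).1 (hp.out.dvd_of_dvd_pow h22)
      exact hp2 this

/-- **MIN-p**: in the minimal configuration `H` is normal (`p` odd). -/
theorem min_normal_p {p : ℕ} [hp : Fact p.Prime] (hp2 : p ≠ 2)
    (caseA : CaseAStmtP.{u} p) (caseB5 : CaseB5StmtP.{u} p) (caseB3 : CaseB3Stmt.{u}) :
    ∀ (G : Type u) [Group G] [Finite G] (H : Subgroup G), IsPGroup p H →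
      IsMulCommutative H → IsExtremelyClosed H →
      (∀ h ∈ H, h ≠ 1 → Subgroup.normalizer
        ((H.subgroupOf (Subgroup.centralizer ({h} : Set G)) :
          Subgroup ↥(Subgroup.centralizer ({h} : Set G))) :
          Set ↥(Subgroup.centralizer ({h} : Set G))) ⊔
        Cfsg.pPrimeCore p ↥(Subgroup.centralizer ({h} : Set G)) = ⊤) →
      Cfsg.pPrimeCore p G = ⊥ → Subgroup.normalClosure (H : Set G) = ⊤ → H.Normal := by
  intro G _ _ H hHp hHab hcl hIH hO hncl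
  by_cases hbot : H = ⊥
  · subst hbot; infer_instance
  obtain ⟨M, hM⟩ := Cfsg.Agent.Lib.L0.PRegP.exists_isPModular hp.out
  have hloc := Cfsg.Agent.Lib.H9.SHp.locData_of_loc hHp hHab hcl hIH M hM
  have hfus := fus_of_loc_p hHp hHab hcl
  by_cases htr : Cfsg.Agent.Lib.H12.SH.TransN H
  · exfalso
    rcases card_cases hp2 hHp hbot with ⟨h3, hp3⟩ | h5
    · subst hp3
      exact caseB3 G M hM H hHp hHab hcl hloc hncl htr h3
    · exact caseB5 G M hM H hHp hHab hloc hncl htr h5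
  · have htop : H = ⊤ := caseA G M hM H hHp hHab hcl hloc hfus hncl hO hbot htr
    subst htop
    infer_instance

end Cfsg.Agent.Lib.H26.SH16
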