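import Mathlib
import Cfsg.Prelude.Def_Transfer
import Cfsg.Prelude.Def_Solvable

set_option autoImplicit false
open scoped commutatorElement

/-!
# S4409: definitions shared by all pieces (helper26 architect).  See `tools/blueprints/S4409_sigs.lean`.
-/

namespace Cfsg.Agent.Lib.H26.TwoMin


variable {G : Type*} [Group G]

/-- `Y` contains no noncyclic abelian subgroup of order 8. -/
def AFree (Y : Subgroup G) : Prop :=
  ∀ A : Subgroup G, A ≤ Y → (∀ a ∈ A, ∀ b ∈ A, a * b = b * a) → Nat.card ↥A = 8 → IsCyclic ↥A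

/-- four-group -/
def V4Type (Y : Subgroup G) : Prop := Nat.card ↥Y = 4 ∧ ∀ y ∈ Y, y ^ 2 = 1

/-- quaternion group of order 8 with involution `z` -/
def Q8Type (Y : Subgroup G) (z : G) : Prop :=
  Nat.card ↥Y = 8 ∧ z ∈ Y ∧ z ≠ 1 ∧ z ^ 2 = 1 ∧ ∀ y ∈ Y, y ≠ 1 → y ≠ z → y ^ 2 = z

/-- `g` normalizes `Y`, does not centralize it, but centralizes every proper subgroup of `Y` that it normalizes. -/
def MinActs (Y : Subgroup G) (g : G) : Prop :=
  g ∈ Subgroup.normalizer (Y : Set G) ∧ g ∉ Subgroup.centralizer (Y : Set G) ∧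
  ∀ U : Subgroup G, U < Y → g ∈ Subgroup.normalizer (U : Set G) → g ∈ Subgroup.centralizer (U : Set G)

/-- `Z = Z(X) = X' ` and all squares of `X` lie in `Z` (so `Φ(X) = Z` for a 2-group `X`). -/
def SpecialIn (X Z : Subgroup G) : Prop :=
  Z = X ⊓ Subgroup.centralizer (X : Set G) ∧ ⁅X, X⁆ = Z ∧ ∀ x ∈ X, x ^ 2 ∈ Z

/-- The situation after the reduction: `X` normal 2-subgroup, `H` of odd order, every proper `H`-invariant subgroup of
`X` is `AFree`, `X` is not. -/
structure Setup (X H : Subgroup G) : Prop where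
  normal : X.Normal
  two : IsPGroup 2 ↥X
  odd : Odd (Nat.card ↥H)
  inv : ∀ Y : Subgroup G, Y < X → H ≤ Subgroup.normalizer (Y : Set G) → AFree Y
  notfree : ¬ AFree X

/-- First-layer facts, assumed (as one hypothesis) by the second-layer pieces. -/
structure Layer1 (G : Type*) [Group G] : Prop where
  lemmaK : ∀ (Y : Subgroup G) (g : G), IsPGroup 2 ↥Y → AFree Y → Odd (orderOf g) →
    g ∈ Subgroup.normalizer (Y : Set G) → g ∉ Subgroup.centralizer (Y : Set G) → V4Type Y ∨ ∃ z, Q8Type Y z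
  v4_no_fixed : ∀ (Y : Subgroup G) (g : G), V4Type Y → Odd (orderOf g) →
    g ∈ Subgroup.normalizer (Y : Set G) → g ∉ Subgroup.centralizer (Y : Set G) → ∀ y ∈ Y, g * y * g⁻¹ = y → y = 1
  q8_no_fixed : ∀ (Y : Subgroup G) (z g : G), Q8Type Y z → Odd (orderOf g) →
    g ∈ Subgroup.normalizer (Y : Set G) → g ∉ Subgroup.centralizer (Y : Set G) →
    g * z * g⁻¹ = z ∧ ∀ y ∈ Y, (g * y * g⁻¹ = y ∨ g * y * g⁻¹ = y * z) → (y = 1 ∨ y = z)
  v4_central : ∀ (X Y : Subgroup G) (g : G), IsPGroup 2 ↥X → Y ≤ X → V4Type Y →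
    X ≤ Subgroup.normalizer (Y : Set G) → Odd (orderOf g) → g ∈ Subgroup.normalizer (X : Set G) →
    g ∈ Subgroup.normalizer (Y : Set G) → g ∉ Subgroup.centralizer (Y : Set G) → Y ≤ Subgroup.centralizer (X : Set G)
  q8_factor : ∀ (X Y : Subgroup G) (z g : G), IsPGroup 2 ↥X → Y ≤ X → Q8Type Y z →
    X ≤ Subgroup.normalizer (Y : Set G) → Odd (orderOf g) → g ∈ Subgroup.normalizer (X : Set G) →
    g ∈ Subgroup.normalizer (Y : Set G) → g ∉ Subgroup.centralizer (Y : Set G) →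
    Y ⊔ (X ⊓ Subgroup.centralizer (Y : Set G)) = X


end Cfsg.Agent.Lib.H26.TwoMin
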