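import Cfsg.Agent.Lib.H26.LS2KA2

/-!
# S2333, piece LS2-KA1 (helper26 for helper12): a good frame exists
-/

set_option autoImplicit false

namespace Cfsg.Agent.Lib.H26.LS2

open QuadraticMap

variable {F : Type*} [Field F]

theorem neg_eq_self_of_two (h2 : (2 : F) = 0) (x : F) : -x = x := by
  linear_combination (-x) * h2

/-- `s ↦ s² + s` is not onto -/
theorem exists_not_wp [Finite F] (h2 : (2 : F) = 0) : ∃ d : F, ∀ s : F, s ^ 2 + s ≠ d := by
  by_contra hcon
  push Not at hcon
  have hsurj : Function.Surjective (fun s : F => s ^ 2 + s) := hcon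
  have hinj := Finite.injective_iff_surjective.mpr hsurj
  have h01 : (fun s : F => s ^ 2 + s) 0 = (fun s : F => s ^ 2 + s) 1 := by
    show (0 : F) ^ 2 + 0 = 1 ^ 2 + 1
    linear_combination (-1 : F) * h2
  exact zero_ne_one (hinj h01)

/-- squaring is onto -/
theorem exists_sq_eq [Finite F] (h2 : (2 : F) = 0) (z : F) : ∃ s : F, s ^ 2 = z := by
  have hinj : Function.Injective (fun s : F => s ^ 2) := fun x y h => sq_inj_of_two h2 h
  exact Finite.injective_iff_surjective.mp hinj z

/-- anisotropy criterion -/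
theorem aniso_of_not_wp (h2 : (2 : F) = 0) (α β : F) (h : ∀ s : F, s ^ 2 + s ≠ α * β) :
    ∀ x y : F, α * x ^ 2 + x * y + β * y ^ 2 = 0 → x = 0 ∧ y = 0 := by
  intro x y hxy
  have hy : y = 0 := by
    by_contra hy
    apply h (α * x / y)
    have : (α * x / y) ^ 2 + α * x / y = (α / y ^ 2) * (α * x ^ 2 + x * y) := by
      field_simp
    rw [this]
    have h3 : α * x ^ 2 + x * y = β * y ^ 2 := by
      have := neg_eq_self_of_two h2 (β * y ^ 2)
      linear_combination hxy + this
    rw [h3]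
    field_simp
  subst hy
  refine ⟨?_, rfl⟩
  by_contra hx
  apply h 0
  have : α * x ^ 2 = 0 := by linear_combination hxy
  rcases mul_eq_zero.mp this with h0 | h0
  · rw [h0]; ring
  · exact absurd (pow_eq_zero_iff (two_ne_zero) |>.mp h0) hx

/-- **LS2-KA1** (dichotomy). -/
theorem exists_good_frame [Fintype F] (h2 : (2 : F) = 0) (n : ℕ) (Q : QuadraticForm F (Fin n → F))
    (hQ : ∃ u w, QuadraticMap.polar Q u w ≠ 0) :
    ∃ u0 w0, QuadraticMap.polar Q u0 w0 = 1 ∧
      ((∀ x y : F, Q u0 * x ^ 2 + x * y + Q w0 * y ^ 2 = 0 → x = 0 ∧ y = 0) ∨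
       (∀ r r', QuadraticMap.polar Q r u0 = 0 → QuadraticMap.polar Q r w0 = 0 →
          QuadraticMap.polar Q r' u0 = 0 → QuadraticMap.polar Q r' w0 = 0 → QuadraticMap.polar Q r r' = 0)) := by
  classical
  by_cases hex : ∃ u w, QuadraticMap.polar Q u w = 1 ∧
      ∀ x y : F, Q u * x ^ 2 + x * y + Q w * y ^ 2 = 0 → x = 0 ∧ y = 0
  · obtain ⟨u, w, h1, h⟩ := hex
    exact ⟨u, w, h1, Or.inl h⟩
  push Not at hex
  -- every frame has `Q u * Q w` in the range of `℘`
  have hwp : ∀ u w, QuadraticMap.polar Q u w = 1 → ∃ s : F, s ^ 2 + s = Q u * Q w := by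
    intro u w h1
    by_contra hcon
    push Not at hcon
    obtain ⟨x, y, hxy, hne⟩ := hex u w h1
    have := aniso_of_not_wp h2 (Q u) (Q w) hcon x y hxy
    exact hne this.1 this.2
  obtain ⟨d, hd⟩ := exists_not_wp (F := F) h2
  obtain ⟨u, w, huw⟩ := hQ
  obtain ⟨u0, hu0⟩ : ∃ u0, u0 = (QuadraticMap.polar Q u w)⁻¹ • u := ⟨_, rfl⟩
  have h1 : QuadraticMap.polar Q u0 w = 1 := by
    rw [hu0, polar_smul_left, smul_eq_mul, inv_mul_cancel₀ huw]
  refine ⟨u0, w, h1, Or.inr ?_⟩
  have h2Q : ∀ v, QuadraticMap.polar Q v v = 0 := by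
    intro v
    rw [polar_self, two_smul]
    linear_combination (Q v) * h2
  -- `Q = 0` on `P^⊥`
  have hzero : ∀ r, QuadraticMap.polar Q r u0 = 0 → QuadraticMap.polar Q r w = 0 → Q r = 0 := by
    intro r hr1 hr2
    by_contra hQr
    have hr1' : QuadraticMap.polar Q u0 r = 0 := by rw [polar_comm]; exact hr1
    have hr2' : QuadraticMap.polar Q w r = 0 := by rw [polar_comm]; exact hr2
    obtain ⟨s0, hs0⟩ := hwp u0 w h1
    -- (i) `Q r * Q w = 0`
    have hi : Q r * Q w = 0 := by
      by_contra hne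
      obtain ⟨l, hl⟩ := exists_sq_eq h2 (d / (Q r * Q w))
      have hf : QuadraticMap.polar Q (u0 + l • r) w = 1 := by
        rw [polar_add_left, polar_smul_left, hr2, h1, smul_zero, add_zero]
      obtain ⟨s, hs⟩ := hwp _ _ hf
      have hQ1 : Q (u0 + l • r) = Q u0 + l ^ 2 * Q r := by
        rw [QuadraticMap.map_add Q, QuadraticMap.map_smul, polar_smul_right, hr1', smul_zero,
          add_zero, smul_eq_mul]
        ring
      apply hd (s + s0)
      have : l ^ 2 * (Q r * Q w) = d := by rw [hl]; exact div_mul_cancel₀ d hne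
      rw [hQ1] at hs
      linear_combination hs + hs0 + this + (s * s0 + Q u0 * Q w) * h2
    -- (ii) `Q r * Q u0 = 0`
    have hii : Q r * Q u0 = 0 := by
      by_contra hne
      obtain ⟨l, hl⟩ := exists_sq_eq h2 (d / (Q r * Q u0))
      have hf : QuadraticMap.polar Q u0 (w + l • r) = 1 := by
        rw [polar_add_right, polar_smul_right, hr1', h1, smul_zero, add_zero]
      obtain ⟨s, hs⟩ := hwp _ _ hf
      have hQ1 : Q (w + l • r) = Q w + l ^ 2 * Q r := by
        rw [QuadraticMap.map_add Q, QuadraticMap.map_smul, polar_smul_right, hr2', smul_zero,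
          add_zero, smul_eq_mul]
        ring
      apply hd (s + s0)
      have : l ^ 2 * (Q r * Q u0) = d := by rw [hl]; exact div_mul_cancel₀ d hne
      rw [hQ1] at hs
      linear_combination hs + hs0 + this + (s * s0 + Q u0 * Q w) * h2
    have hw0 : Q w = 0 := (mul_eq_zero.mp hi).resolve_left hQr
    have hu00 : Q u0 = 0 := (mul_eq_zero.mp hii).resolve_left hQr
    -- (iii)
    obtain ⟨s1, hs1⟩ := exists_sq_eq h2 d
    have hf : QuadraticMap.polar Q (u0 + r) (w + (s1 / Q r) • r) = 1 := by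
      rw [polar_add_left, polar_add_right, polar_add_right, polar_smul_right, polar_smul_right,
        hr1', hr2, h2Q r, h1]
      simp
    obtain ⟨s, hs⟩ := hwp _ _ hf
    have hQ1 : Q (u0 + r) = Q r := by
      rw [QuadraticMap.map_add Q, hr1', hu00]
      ring
    have hQ2 : Q (w + (s1 / Q r) • r) = (s1 / Q r) ^ 2 * Q r := by
      rw [QuadraticMap.map_add Q, QuadraticMap.map_smul, polar_smul_right, hr2', hw0, smul_zero,
        smul_eq_mul]
      ring
    apply hd s
    rw [hs, hQ1, hQ2, ← hs1]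
    field_simp
  intro r r' hr1 hr2 hr1' hr2'
  have ha : Q (r + r') = 0 := by
    apply hzero
    · rw [polar_add_left, hr1, hr1', add_zero]
    · rw [polar_add_left, hr2, hr2', add_zero]
  have hb := hzero r hr1 hr2
  have hc := hzero r' hr1' hr2'
  rw [QuadraticMap.map_add Q, hb, hc] at ha
  simpa using ha

end Cfsg.Agent.Lib.H26.LS2
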