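import Cfsg.Agent.Lib.H12.LS2Defs

/-!
# S2333, piece LS2-KA2 (helper26 for helper12): the `F^4`-count

`#{(x,y,x',y') : N(x,y) = a, N(x',y') = b, x y' + x' y = c} ≤ 2 (q + 1)` for `N(x,y) = α x² + x y + β y²` over a finite
field of characteristic two, if `c ≠ 0` or `N` is anisotropic.
-/

set_option autoImplicit false

namespace Cfsg.Agent.Lib.H26.LS2

variable {F : Type*} [Field F]

theorem sq_inj_of_two (h2 : (2 : F) = 0) {x y : F} (h : x ^ 2 = y ^ 2) : x = y := by
  have h1 : (x - y) ^ 2 = 0 := by linear_combination h - (x * y - y ^ 2) * h2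
  have h3 : x - y = 0 := by simpa using h1
  exact sub_eq_zero.mp h3

/-- a quadratic with non-zero leading coefficient has at most two roots -/
theorem quad_roots_le_two [DecidableEq F] (A B C : F) (hA : A ≠ 0) (s : Finset F)
    (hs : ∀ t ∈ s, A * t ^ 2 + B * t + C = 0) : s.card ≤ 2 := by
  by_contra hcon
  push Not at hcon
  obtain ⟨t1, ht1, t2, ht2, t3, ht3, h12, h13, h23⟩ := Finset.two_lt_card.mp hcon
  have e1 := hs t1 ht1
  have e2 := hs t2 ht2
  have e3 := hs t3 ht3
  have k12 : (t1 - t2) * (A * (t1 + t2) + B) = 0 := by linear_combination e1 - e2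
  have k13 : (t1 - t3) * (A * (t1 + t3) + B) = 0 := by linear_combination e1 - e3
  have m12 : A * (t1 + t2) + B = 0 := by
    rcases mul_eq_zero.mp k12 with h | h
    · exact absurd (sub_eq_zero.mp h) h12
    · exact h
  have m13 : A * (t1 + t3) + B = 0 := by
    rcases mul_eq_zero.mp k13 with h | h
    · exact absurd (sub_eq_zero.mp h) h13
    · exact h
  have : A * (t2 - t3) = 0 := by linear_combination m12 - m13
  rcases mul_eq_zero.mp this with h | h
  · exact hA h
  · exact h23 (sub_eq_zero.mp h)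

/-- the fibre over a vector `(x, y)` with `N (x, y) ≠ 0` -/
theorem fibre_card_le_two [Fintype F] [DecidableEq F] (h2 : (2 : F) = 0) (α β b c x y : F)
    (ha : α * x ^ 2 + x * y + β * y ^ 2 ≠ 0) :
    (Finset.univ.filter (fun p' : F × F =>
      α * p'.1 ^ 2 + p'.1 * p'.2 + β * p'.2 ^ 2 = b ∧ x * p'.2 + p'.1 * y = c)).card ≤ 2 := by
  set T := Finset.univ.filter (fun p' : F × F =>
      α * p'.1 ^ 2 + p'.1 * p'.2 + β * p'.2 ^ 2 = b ∧ x * p'.2 + p'.1 * y = c) with hT
  set a := α * x ^ 2 + x * y + β * y ^ 2 with hadef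
  by_cases hy : y = 0
  · -- `x ≠ 0`; the first coordinates are roots
    have hx : x ≠ 0 := by
      intro hx
      apply ha
      rw [hadef, hx, hy]
      ring
    have hinj : Set.InjOn (fun p' : F × F => p'.1) (T : Set (F × F)) := by
      intro p hp p' hp' hpp
      simp only [hT, Finset.coe_filter, Finset.mem_univ, true_and, Set.mem_ofPred_eq] at hp hp'
      have h1 : x * p.2 = x * p'.2 := by
        have e1 := hp.2
        have e2 := hp'.2
        rw [hy] at e1 e2
        linear_combination e1 - e2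
      have h3 : p.2 = p'.2 := mul_left_cancel₀ hx h1
      exact Prod.ext hpp h3
    rw [← Finset.card_image_of_injOn hinj]
    apply quad_roots_le_two a (c * x) (β * c ^ 2 + b * x ^ 2) ha
    intro t ht
    obtain ⟨p', hp', rfl⟩ := Finset.mem_image.mp ht
    simp only [hT, Finset.mem_filter, Finset.mem_univ, true_and] at hp'
    obtain ⟨hb, hc⟩ := hp'
    rw [hadef, ← hb, ← hc, hy]
    linear_combination (β * x ^ 2 * p'.2 ^ 2 + α * x ^ 2 * p'.1 ^ 2 + x ^ 2 * p'.1 * p'.2) * h2
  · have hinj : Set.InjOn (fun p' : F × F => p'.2) (T : Set (F × F)) := by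
      intro p hp p' hp' hpp
      simp only [hT, Finset.coe_filter, Finset.mem_univ, true_and, Set.mem_ofPred_eq] at hp hp'
      have hpp' : p.2 = p'.2 := hpp
      have h1 : p.1 * y = p'.1 * y := by
        have e1 := hp.2
        have e2 := hp'.2
        rw [hpp'] at e1
        linear_combination e1 - e2
      have h3 : p.1 = p'.1 := mul_right_cancel₀ hy h1
      exact Prod.ext h3 hpp'
    rw [← Finset.card_image_of_injOn hinj]
    apply quad_roots_le_two a (c * y) (α * c ^ 2 + b * y ^ 2) ha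
    intro t ht
    obtain ⟨p', hp', rfl⟩ := Finset.mem_image.mp ht
    simp only [hT, Finset.mem_filter, Finset.mem_univ, true_and] at hp'
    obtain ⟨hb, hc⟩ := hp'
    rw [hadef, ← hb, ← hc]
    linear_combination (α * x ^ 2 * p'.2 ^ 2 + x * y * p'.2 ^ 2 + β * y ^ 2 * p'.2 ^ 2 +
      p'.1 * y ^ 2 * p'.2 + α * x * p'.1 * y * p'.2 + α * p'.1 ^ 2 * y ^ 2) * h2

/-- at most `q + 1` vectors with a given non-zero value of `N` -/
theorem card_level_le [Fintype F] [DecidableEq F] (h2 : (2 : F) = 0) (α β a : F) (ha : a ≠ 0) :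
    (Finset.univ.filter (fun p : F × F => α * p.1 ^ 2 + p.1 * p.2 + β * p.2 ^ 2 = a)).card ≤
      Fintype.card F + 1 := by
  rw [← Fintype.card_option, ← Finset.card_univ]
  apply Finset.card_le_card_of_injOn (fun p : F × F => if p.2 = 0 then none else some (p.1 / p.2))
  · intro p _
    exact Finset.mem_univ _
  · intro p hp p' hp' hpp
    simp only [Finset.coe_filter, Finset.mem_univ, true_and, Set.mem_ofPred_eq] at hp hp'
    by_cases h0 : p.2 = 0
    · by_cases h0' : p'.2 = 0
      · rw [h0] at hp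
        rw [h0'] at hp'
        have hα : α ≠ 0 := by
          intro hα
          apply ha
          rw [← hp, hα]
          ring
        have : α * p.1 ^ 2 = α * p'.1 ^ 2 := by linear_combination hp - hp'
        have h1 : p.1 = p'.1 := sq_inj_of_two h2 (mul_left_cancel₀ hα this)
        exact Prod.ext h1 (h0.trans h0'.symm)
      · simp only [h0, h0', if_true, if_false] at hpp
        exact absurd hpp (by simp)
    · by_cases h0' : p'.2 = 0
      · simp only [h0, h0', if_true, if_false] at hpp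
        exact absurd hpp (by simp)
      · simp only [h0, h0', if_false, Option.some.injEq] at hpp
        -- common slope `s`
        set s := p.1 / p.2 with hs
        have e1 : p.1 = s * p.2 := by rw [hs]; field_simp
        have e2 : p'.1 = s * p'.2 := by rw [hpp]; field_simp
        have k1 : p.2 ^ 2 * (α * s ^ 2 + s + β) = a := by rw [← hp, e1]; ring
        have k2 : p'.2 ^ 2 * (α * s ^ 2 + s + β) = a := by rw [← hp', e2]; ring
        have hne : α * s ^ 2 + s + β ≠ 0 := by
          intro h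
          apply ha
          rw [← k1, h, mul_zero]
        have h3 : p.2 ^ 2 = p'.2 ^ 2 := mul_right_cancel₀ hne (k1.trans k2.symm)
        have h4 : p.2 = p'.2 := sq_inj_of_two h2 h3
        refine Prod.ext ?_ h4
        rw [e1, e2, h4]

/-- case `a ≠ 0` -/
theorem card_quad_le_of_ne [Fintype F] (h2 : (2 : F) = 0) (α β a b c : F) (ha : a ≠ 0) :
    Nat.card {p : (F × F) × (F × F) //
      α * p.1.1 ^ 2 + p.1.1 * p.1.2 + β * p.1.2 ^ 2 = a ∧
      α * p.2.1 ^ 2 + p.2.1 * p.2.2 + β * p.2.2 ^ 2 = b ∧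
      p.1.1 * p.2.2 + p.2.1 * p.1.2 = c} ≤ 2 * (Fintype.card F + 1) := by
  classical
  rw [Nat.card_eq_fintype_card, Fintype.card_subtype]
  set S := Finset.univ.filter (fun p : (F × F) × (F × F) =>
      α * p.1.1 ^ 2 + p.1.1 * p.1.2 + β * p.1.2 ^ 2 = a ∧
      α * p.2.1 ^ 2 + p.2.1 * p.2.2 + β * p.2.2 ^ 2 = b ∧
      p.1.1 * p.2.2 + p.2.1 * p.1.2 = c) with hS
  have h1 : S.card ≤ 2 * (S.image Prod.fst).card := by
    apply Finset.card_le_mul_card_image
    intro p0 hp0
    obtain ⟨z, hz, rfl⟩ := Finset.mem_image.mp hp0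
    simp only [hS, Finset.mem_filter, Finset.mem_univ, true_and] at hz
    have hne : α * z.1.1 ^ 2 + z.1.1 * z.1.2 + β * z.1.2 ^ 2 ≠ 0 := by rw [hz.1]; exact ha
    refine le_trans ?_ (fibre_card_le_two h2 α β b c z.1.1 z.1.2 hne)
    apply Finset.card_le_card_of_injOn Prod.snd
    · intro w hw
      simp only [hS, Finset.coe_filter, Finset.mem_filter, Finset.mem_univ, true_and,
        Set.mem_ofPred_eq] at hw
      obtain ⟨⟨_, hwb, hwc⟩, hw1⟩ := hw
      simp only [Finset.coe_filter, Finset.mem_univ, true_and, Set.mem_ofPred_eq]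
      rw [← hw1]
      exact ⟨hwb, hwc⟩
    · intro w hw w' hw' hww
      simp only [Finset.coe_filter, Finset.mem_filter, Set.mem_ofPred_eq] at hw hw'
      exact Prod.ext (hw.2.trans hw'.2.symm) hww
  have h3 : (S.image Prod.fst).card ≤ Fintype.card F + 1 := by
    refine le_trans (Finset.card_le_card ?_) (card_level_le h2 α β a ha)
    intro p hp
    obtain ⟨z, hz, rfl⟩ := Finset.mem_image.mp hp
    simp only [hS, Finset.mem_filter, Finset.mem_univ, true_and] at hz
    simp only [Finset.mem_filter, Finset.mem_univ, true_and]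
    exact hz.1
  calc S.card ≤ 2 * (S.image Prod.fst).card := h1
    _ ≤ 2 * (Fintype.card F + 1) := Nat.mul_le_mul_left 2 h3

/-- **LS2-KA2** (the `F^4`-count). -/
theorem card_quad_le [Fintype F] (h2 : (2 : F) = 0) (α β a b c : F)
    (h : c ≠ 0 ∨ ∀ x y : F, α * x ^ 2 + x * y + β * y ^ 2 = 0 → x = 0 ∧ y = 0) :
    Nat.card {p : (F × F) × (F × F) //
      α * p.1.1 ^ 2 + p.1.1 * p.1.2 + β * p.1.2 ^ 2 = a ∧
      α * p.2.1 ^ 2 + p.2.1 * p.2.2 + β * p.2.2 ^ 2 = b ∧
      p.1.1 * p.2.2 + p.2.1 * p.1.2 = c} ≤ 2 * (Fintype.card F + 1) := by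
  classical
  by_cases ha : a ≠ 0
  · exact card_quad_le_of_ne h2 α β a b c ha
  push Not at ha
  by_cases hb : b ≠ 0
  · -- swap the two vectors
    refine le_trans ?_ (card_quad_le_of_ne h2 α β b a c hb)
    apply Nat.card_le_card_of_injective
      (fun z : {p : (F × F) × (F × F) //
        α * p.1.1 ^ 2 + p.1.1 * p.1.2 + β * p.1.2 ^ 2 = a ∧
        α * p.2.1 ^ 2 + p.2.1 * p.2.2 + β * p.2.2 ^ 2 = b ∧
        p.1.1 * p.2.2 + p.2.1 * p.1.2 = c} =>
        (⟨(z.1.2, z.1.1), z.2.2.1, z.2.1, by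
          have := z.2.2.2
          linear_combination this⟩ :
        {p : (F × F) × (F × F) //
          α * p.1.1 ^ 2 + p.1.1 * p.1.2 + β * p.1.2 ^ 2 = b ∧
          α * p.2.1 ^ 2 + p.2.1 * p.2.2 + β * p.2.2 ^ 2 = a ∧
          p.1.1 * p.2.2 + p.2.1 * p.1.2 = c}))
    intro z z' hzz
    have := congrArg Subtype.val hzz
    simp only [Prod.mk.injEq] at this
    exact Subtype.ext (Prod.ext this.2 this.1)
  push Not at hb
  subst ha hb
  by_cases hc : c ≠ 0
  · -- `(p, p') ↦ (p + p', p)`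
    refine le_trans ?_ (card_quad_le_of_ne h2 α β c 0 c hc)
    apply Nat.card_le_card_of_injective
      (fun z : {p : (F × F) × (F × F) //
        α * p.1.1 ^ 2 + p.1.1 * p.1.2 + β * p.1.2 ^ 2 = 0 ∧
        α * p.2.1 ^ 2 + p.2.1 * p.2.2 + β * p.2.2 ^ 2 = 0 ∧
        p.1.1 * p.2.2 + p.2.1 * p.1.2 = c} =>
        (⟨((z.1.1.1 + z.1.2.1, z.1.1.2 + z.1.2.2), z.1.1), by
            have e1 := z.2.1
            have e2 := z.2.2.1
            have e3 := z.2.2.2
            refine ⟨?_, e1, ?_⟩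
            · show α * (z.1.1.1 + z.1.2.1) ^ 2 + (z.1.1.1 + z.1.2.1) * (z.1.1.2 + z.1.2.2) +
                β * (z.1.1.2 + z.1.2.2) ^ 2 = c
              linear_combination e1 + e2 + e3 +
                (α * z.1.1.1 * z.1.2.1 + β * z.1.1.2 * z.1.2.2) * h2
            · show (z.1.1.1 + z.1.2.1) * z.1.1.2 + z.1.1.1 * (z.1.1.2 + z.1.2.2) = c
              linear_combination e3 + (z.1.1.1 * z.1.1.2) * h2⟩ :
        {p : (F × F) × (F × F) //
          α * p.1.1 ^ 2 + p.1.1 * p.1.2 + β * p.1.2 ^ 2 = c ∧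
          α * p.2.1 ^ 2 + p.2.1 * p.2.2 + β * p.2.2 ^ 2 = 0 ∧
          p.1.1 * p.2.2 + p.2.1 * p.1.2 = c}))
    intro z z' hzz
    have := congrArg Subtype.val hzz
    simp only [Prod.mk.injEq] at this
    obtain ⟨⟨h11, h12⟩, h3⟩ := this
    apply Subtype.ext
    refine Prod.ext h3 (Prod.ext ?_ ?_)
    · have : z.1.1.1 = z'.1.1.1 := by rw [h3]
      linear_combination h11 - this
    · have : z.1.1.2 = z'.1.1.2 := by rw [h3]
      linear_combination h12 - this
  · push Not at hc
    subst hc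
    have han := h.resolve_left (by simp)
    have hsub : Subsingleton {p : (F × F) × (F × F) //
        α * p.1.1 ^ 2 + p.1.1 * p.1.2 + β * p.1.2 ^ 2 = 0 ∧
        α * p.2.1 ^ 2 + p.2.1 * p.2.2 + β * p.2.2 ^ 2 = 0 ∧
        p.1.1 * p.2.2 + p.2.1 * p.1.2 = 0} := by
      refine ⟨fun z z' => ?_⟩
      have e1 := han _ _ z.2.1
      have e2 := han _ _ z.2.2.1
      have e1' := han _ _ z'.2.1
      have e2' := han _ _ z'.2.2.1
      apply Subtype.ext
      refine Prod.ext (Prod.ext ?_ ?_) (Prod.ext ?_ ?_)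
      · rw [e1.1, e1'.1]
      · rw [e1.2, e1'.2]
      · rw [e2.1, e2'.1]
      · rw [e2.2, e2'.2]
    calc Nat.card _ ≤ 1 := Finite.card_le_one_iff_subsingleton.mpr hsub
      _ ≤ 2 * (Fintype.card F + 1) := by omega

end Cfsg.Agent.Lib.H26.LS2
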