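import Mathlib
import Cfsg.Prelude.Def_FusionSystem
import Cfsg.Agent.Lib.H25.Fusion
import Cfsg.Agent.Lib.H26.Basic

set_option autoImplicit false
set_option linter.unusedSectionVars false

/-!
Sylow-type lemmas inside a finite group, in the form needed for the fusion system of a group
(helper26).
-/

namespace Cfsg.Agent.Lib.H26

open Cfsg Cfsg.FusionSystem

variable {G : Type*} [Group G]

/-- `X ⊓ N` is a Sylow `p`-subgroup of `N`, in the form used by the statements. -/
def IsSylowIn (p : ℕ) (X N : Subgroup G) : Prop :=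
  ∃ R : Sylow p N, (R : Subgroup N) = X.subgroupOf N

/-- The conjugate `g P g⁻¹`. -/
abbrev cj (g : G) (P : Subgroup G) : Subgroup G := P.map (MulAut.conj g).toMonoidHom

theorem mem_cj {g : G} {P : Subgroup G} {x : G} : x ∈ cj g P ↔ g⁻¹ * x * g ∈ P := by
  constructor
  · rintro ⟨y, hy, rfl⟩
    show g⁻¹ * (g * y * g⁻¹) * g ∈ P
    simpa [mul_assoc] using hy
  · intro h
    refine ⟨g⁻¹ * x * g, h, ?_⟩
    show g * (g⁻¹ * x * g) * g⁻¹ = x
    group

theorem conj_mem_cj {g : G} {P : Subgroup G} {x : G} (hx : x ∈ P) : g * x * g⁻¹ ∈ cj g P :=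
  ⟨x, hx, rfl⟩

theorem cj_one (P : Subgroup G) : cj 1 P = P := by
  ext x
  rw [mem_cj]
  simp

theorem cj_mul (g h : G) (P : Subgroup G) : cj (g * h) P = cj g (cj h P) := by
  ext x
  simp only [mem_cj]
  rw [mul_inv_rev]
  simp only [mul_assoc]

theorem cj_inv_cj (g : G) (P : Subgroup G) : cj g⁻¹ (cj g P) = P := by
  rw [← cj_mul, inv_mul_cancel, cj_one]

theorem cj_cj_inv (g : G) (P : Subgroup G) : cj g (cj g⁻¹ P) = P := by
  rw [← cj_mul, mul_inv_cancel, cj_one]

theorem cj_mono (g : G) {P Q : Subgroup G} (h : P ≤ Q) : cj g P ≤ cj g Q :=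
  Subgroup.map_mono h

theorem card_cj (g : G) (P : Subgroup G) : Nat.card (cj g P) = Nat.card P :=
  Subgroup.card_map_of_injective (MulAut.conj g).injective

theorem cj_isPGroup {p : ℕ} (g : G) {P : Subgroup G} (h : IsPGroup p P) : IsPGroup p (cj g P) :=
  h.map _

theorem cj_eq_self_of_mem_normalizer {g : G} {P : Subgroup G}
    (hg : g ∈ Subgroup.normalizer (P : Set G)) : cj g P = P := by
  ext x
  rw [mem_cj]
  have := (Subgroup.mem_normalizer_iff.1 (Subgroup.inv_mem _ hg) x)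
  rw [inv_inv] at this
  exact this.symm

theorem cj_normalizer (g : G) (P : Subgroup G) :
    cj g (Subgroup.normalizer (P : Set G)) = Subgroup.normalizer ((cj g P : Subgroup G) : Set G) := by
  ext x
  rw [mem_cj, Subgroup.mem_normalizer_iff, Subgroup.mem_normalizer_iff]
  constructor
  · intro h y
    rw [mem_cj, mem_cj, h (g⁻¹ * y * g)]
    have : g⁻¹ * x * g * (g⁻¹ * y * g) * (g⁻¹ * x * g)⁻¹ = g⁻¹ * (x * y * x⁻¹) * g := by group
    rw [this]
  · intro h y
    have h2 := h (g * y * g⁻¹)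
    rw [mem_cj, mem_cj] at h2
    have e1 : g⁻¹ * (g * y * g⁻¹) * g = y := by group
    have e2 : g⁻¹ * (x * (g * y * g⁻¹) * x⁻¹) * g = g⁻¹ * x * g * y * (g⁻¹ * x * g)⁻¹ := by group
    rw [e1, e2] at h2
    exact h2

theorem cj_centralizer (g : G) (P : Subgroup G) :
    cj g (Subgroup.centralizer (P : Set G)) = Subgroup.centralizer ((cj g P : Subgroup G) : Set G) := by
  ext x
  rw [mem_cj, Subgroup.mem_centralizer_iff, Subgroup.mem_centralizer_iff]
  constructor
  · intro h y hy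
    have hy' : g⁻¹ * y * g ∈ P := mem_cj.1 hy
    have := h _ hy'
    have e : y * x = g * ((g⁻¹ * y * g) * (g⁻¹ * x * g)) * g⁻¹ := by group
    rw [e, this]
    group
  · intro h y hy
    have := h (g * y * g⁻¹) (conj_mem_cj hy)
    have e : y * (g⁻¹ * x * g) = g⁻¹ * ((g * y * g⁻¹) * x) * g := by group
    rw [e, this]
    group

theorem cj_inf (g : G) (P Q : Subgroup G) : cj g (P ⊓ Q) = cj g P ⊓ cj g Q := by
  ext x
  simp only [mem_cj, Subgroup.mem_inf]

section Sylow

variable [Finite G] {p : ℕ} [Fact p.Prime]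

/-- A `p`-subgroup of `N` of maximal order among the `p`-subgroups of `N` containing it is a Sylow
`p`-subgroup of `N`. -/
theorem isSylowIn_of_max {X N : Subgroup G} (hXN : X ≤ N) (hX : IsPGroup p X)
    (hmax : ∀ Y : Subgroup G, X ≤ Y → Y ≤ N → IsPGroup p Y → Nat.card Y ≤ Nat.card X) :
    IsSylowIn p X N := by
  have hX' : IsPGroup p (X.subgroupOf N) := hX.comap_subtype
  obtain ⟨R, hR⟩ := hX'.exists_le_sylow
  have hXY : X ≤ (R : Subgroup N).map N.subtype := by
    intro x hx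
    exact ⟨⟨x, hXN hx⟩, hR (Subgroup.mem_subgroupOf.2 hx), rfl⟩
  have hYN : (R : Subgroup N).map N.subtype ≤ N := by
    rintro _ ⟨y, -, rfl⟩
    exact y.2
  have hY : IsPGroup p ((R : Subgroup N).map N.subtype) := R.2.map _
  have hcard := hmax _ hXY hYN hY
  have heq : X = (R : Subgroup N).map N.subtype := Subgroup.eq_of_le_of_card_ge hXY hcard
  refine ⟨R, ?_⟩
  ext y
  rw [Subgroup.mem_subgroupOf, heq]
  constructor
  · intro hy
    exact ⟨y, hy, rfl⟩
  · rintro ⟨z, hz, hzy⟩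
    have : z = y := Subtype.ext hzy
    rwa [← this]

theorem IsSylowIn.exists_conj {X N : Subgroup G} (h : IsSylowIn p X N) {Y : Subgroup G}
    (hYN : Y ≤ N) (hY : IsPGroup p Y) : ∃ n ∈ N, cj n Y ≤ X := by
  obtain ⟨R, hR⟩ := h
  have hY' : IsPGroup p (Y.subgroupOf N) := hY.comap_subtype
  obtain ⟨R', hR'⟩ := hY'.exists_le_sylow
  obtain ⟨n, hn⟩ := MulAction.exists_smul_eq N R' R
  refine ⟨n, n.2, ?_⟩
  rintro _ ⟨y, hy, rfl⟩
  have hyR : (⟨y, hYN hy⟩ : N) ∈ R' := hR' (Subgroup.mem_subgroupOf.mpr hy)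
  have h1 : n * ⟨y, hYN hy⟩ * n⁻¹ ∈ (n • R' : Sylow p N) := by
    rw [← SetLike.mem_coe, Sylow.coe_smul]
    exact ⟨_, hyR, rfl⟩
  rw [hn] at h1
  have h2 : (n * ⟨y, hYN hy⟩ * n⁻¹ : N) ∈ X.subgroupOf N := by
    rw [← hR]; exact h1
  exact Subgroup.mem_subgroupOf.mp h2

theorem IsSylowIn.card_le {X N : Subgroup G} (h : IsSylowIn p X N) {Y : Subgroup G}
    (hYN : Y ≤ N) (hY : IsPGroup p Y) : Nat.card Y ≤ Nat.card X := by
  obtain ⟨n, -, hn⟩ := h.exists_conj hYN hY
  rw [← card_cj n Y]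
  exact Subgroup.card_le_of_le hn

theorem IsSylowIn.isPGroup {X N : Subgroup G} (h : IsSylowIn p X N) : IsPGroup p (X ⊓ N : Subgroup G) := by
  obtain ⟨R, hR⟩ := h
  have h1 : IsPGroup p (X.subgroupOf N) := hR ▸ R.2
  have h2 := h1.map N.subtype
  rwa [Subgroup.subgroupOf_map_subtype] at h2

/-- `IsSylowIn p X N` only depends on `X ⊓ N`. -/
theorem isSylowIn_inf_iff {X N : Subgroup G} : IsSylowIn p (X ⊓ N) N ↔ IsSylowIn p X N := by
  unfold IsSylowIn
  rw [Subgroup.inf_subgroupOf_right]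

/-- A Sylow subgroup of `N` meets a normal subgroup `K` of `N` in a Sylow subgroup of `K`. -/
theorem IsSylowIn.of_normal {X N K : Subgroup G} (h : IsSylowIn p X N) (hKN : K ≤ N)
    (hnorm : N ≤ Subgroup.normalizer (K : Set G)) : IsSylowIn p X K := by
  rw [← isSylowIn_inf_iff]
  have hXp : IsPGroup p (X ⊓ K : Subgroup G) :=
    h.isPGroup.to_le (inf_le_inf_left X hKN)
  apply isSylowIn_of_max inf_le_right hXp
  intro Y _ hYK hY
  obtain ⟨n, hnN, hn⟩ := h.exists_conj (hYK.trans hKN) hY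
  have hnK : cj n Y ≤ K := by
    have := cj_mono n hYK
    rwa [cj_eq_self_of_mem_normalizer (hnorm hnN)] at this
  rw [← card_cj n Y]
  exact Subgroup.card_le_of_le (le_inf hn hnK)

theorem isSylowIn_of_sylow {N : Subgroup G} (R : Sylow p N) :
    IsSylowIn p ((R : Subgroup N).map N.subtype) N := by
  refine ⟨R, ?_⟩
  rw [Subgroup.subgroupOf, Subgroup.comap_map_eq_self_of_injective N.subtype_injective]

theorem isSylowIn_cj {X N : Subgroup G} (h : IsSylowIn p X N) (hXN : X ≤ N) (g : G) :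
    IsSylowIn p (cj g X) (cj g N) := by
  have hXp : IsPGroup p X := by
    have := h.isPGroup
    rwa [inf_of_le_left hXN] at this
  apply isSylowIn_of_max (cj_mono g hXN) (cj_isPGroup g hXp)
  intro Y _ hYN hY
  have h1 : cj g⁻¹ Y ≤ N := by
    have := cj_mono g⁻¹ hYN
    rwa [cj_inv_cj] at this
  have := h.card_le h1 (cj_isPGroup g⁻¹ hY)
  rwa [card_cj, ← card_cj g X] at this

end Sylow

/-! ### The fusion system of a group -/

theorem mem_groupFusionSystem_hom {S P : Subgroup G} {φ : P →* G} :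
    φ ∈ (groupFusionSystem S).Hom P ↔
      P ≤ S ∧ (∀ x : P, φ x ∈ S) ∧ ∃ g : G, ∀ x : P, φ x = g * (x : G) * g⁻¹ := Iff.rfl

theorem conjHom_range (P : Subgroup G) (g : G) : (conjHom P g).range = cj g P := by
  ext y
  constructor
  · rintro ⟨x, rfl⟩
    exact ⟨x, x.2, rfl⟩
  · rintro ⟨x, hx, rfl⟩
    exact ⟨⟨x, hx⟩, rfl⟩

theorem conjHom_mem_groupFusionSystem {S P : Subgroup G} (hP : P ≤ S) {g : G} (hg : cj g P ≤ S) :
    conjHom P g ∈ (groupFusionSystem S).Hom P :=
  ⟨hP, fun x => hg ⟨x, x.2, rfl⟩, g, fun _ => rfl⟩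

theorem isConj_groupFusionSystem_iff {S P Q : Subgroup G} :
    (groupFusionSystem S).IsConj P Q ↔ P ≤ S ∧ Q ≤ S ∧ ∃ g : G, cj g P = Q := by
  constructor
  · rintro ⟨φ, ⟨hP, hφS, g, hg⟩, hr⟩
    refine ⟨hP, ?_, g, ?_⟩
    · rw [← hr]
      rintro _ ⟨x, rfl⟩
      exact hφS x
    · rw [← hr]
      ext y
      constructor
      · rintro ⟨x, hx, rfl⟩
        exact ⟨⟨x, hx⟩, hg ⟨x, hx⟩⟩
      · rintro ⟨x, rfl⟩
        exact ⟨x, x.2, (hg x).symm⟩
  · rintro ⟨hP, hQ, g, rfl⟩
    exact ⟨conjHom P g, conjHom_mem_groupFusionSystem hP hQ, conjHom_range P g⟩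

theorem normalizerIn_le_normalizer (S P : Subgroup G) :
    normalizerIn S P ≤ Subgroup.normalizer (P : Set G) := inf_le_right

theorem centralizerIn_le_centralizer (S P : Subgroup G) :
    centralizerIn S P ≤ Subgroup.centralizer (P : Set G) := inf_le_right

theorem le_normalizerIn {S P : Subgroup G} (hP : P ≤ S) : P ≤ normalizerIn S P :=
  le_inf hP Subgroup.le_normalizer

section SylowFusion

variable [Finite G] {p : ℕ} [Fact p.Prime]

/-- S5100 -/
theorem isFullyNormalized_iff (S : Sylow p G) {P : Subgroup G} (hP : P ≤ S) :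
    (groupFusionSystem (S : Subgroup G)).IsFullyNormalized P ↔
      IsSylowIn p (normalizerIn (S : Subgroup G) P) (Subgroup.normalizer (P : Set G)) := by
  constructor
  · rintro ⟨-, hmax⟩
    apply isSylowIn_of_max (normalizerIn_le_normalizer _ _) (S.2.to_le inf_le_left)
    intro Y hXY hYN hY
    obtain ⟨g, hg⟩ := exists_conj_mem_sylow S Y hY
    have hgY : cj g Y ≤ S := by
      rintro _ ⟨y, hy, rfl⟩
      exact hg y hy
    have hQS : cj g P ≤ S := (cj_mono g ((le_normalizerIn hP).trans hXY)).trans hgY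
    have h1 : cj g Y ≤ normalizerIn (S : Subgroup G) (cj g P) := by
      refine le_inf hgY ?_
      rw [← cj_normalizer]
      exact cj_mono g hYN
    have h2 := hmax (cj g P) (isConj_groupFusionSystem_iff.2 ⟨hP, hQS, g, rfl⟩)
    rw [← card_cj g Y]
    exact (Subgroup.card_le_of_le h1).trans h2
  · intro h
    refine ⟨hP, fun Q hQ => ?_⟩
    obtain ⟨-, hQS, g, rfl⟩ := isConj_groupFusionSystem_iff.1 hQ
    have h1 : cj g⁻¹ (normalizerIn (S : Subgroup G) (cj g P)) ≤ Subgroup.normalizer (P : Set G) := by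
      have := cj_mono g⁻¹ (normalizerIn_le_normalizer (S : Subgroup G) (cj g P))
      rwa [cj_normalizer, cj_inv_cj] at this
    have := h.card_le h1 (cj_isPGroup g⁻¹ (S.2.to_le inf_le_left))
    rwa [card_cj] at this

/-- S5101 -/
theorem isFullyCentralized_iff (S : Sylow p G) {P : Subgroup G} (hP : P ≤ S) :
    (groupFusionSystem (S : Subgroup G)).IsFullyCentralized P ↔
      IsSylowIn p (centralizerIn (S : Subgroup G) P) (Subgroup.centralizer (P : Set G)) := by
  constructor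
  · rintro ⟨-, hmax⟩
    apply isSylowIn_of_max (centralizerIn_le_centralizer _ _) (S.2.to_le inf_le_left)
    intro Y hXY hYN hY
    have hPY : P ≤ Subgroup.normalizer ((Y : Subgroup G) : Set G) := by
      intro x hx
      rw [Subgroup.mem_normalizer_iff]
      intro y
      constructor
      · intro hy
        have := (Subgroup.mem_centralizer_iff.1 (hYN hy)) x hx
        rw [this]
        simpa using hy
      · intro hy
        have h1 := (Subgroup.mem_centralizer_iff.1 (hYN hy)) x⁻¹ (P.inv_mem hx)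
        have : y = x⁻¹ * (x * y * x⁻¹) * x := by group
        rw [this, h1]
        simpa using hy
    have hYP : IsPGroup p (P ⊔ Y : Subgroup G) :=
      IsPGroup.to_sup_of_normal_right' (S.2.to_le hP) hY hPY
    obtain ⟨g, hg⟩ := exists_conj_mem_sylow S _ hYP
    have hgYP : cj g (P ⊔ Y) ≤ S := by
      rintro _ ⟨y, hy, rfl⟩
      exact hg y hy
    have hgY : cj g Y ≤ S := (cj_mono g le_sup_right).trans hgYP
    have hQS : cj g P ≤ S := (cj_mono g le_sup_left).trans hgYP
    have h1 : cj g Y ≤ centralizerIn (S : Subgroup G) (cj g P) := by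
      refine le_inf hgY ?_
      rw [← cj_centralizer]
      exact cj_mono g hYN
    have h2 := hmax (cj g P) (isConj_groupFusionSystem_iff.2 ⟨hP, hQS, g, rfl⟩)
    rw [← card_cj g Y]
    exact (Subgroup.card_le_of_le h1).trans h2
  · intro h
    refine ⟨hP, fun Q hQ => ?_⟩
    obtain ⟨-, hQS, g, rfl⟩ := isConj_groupFusionSystem_iff.1 hQ
    have h1 : cj g⁻¹ (centralizerIn (S : Subgroup G) (cj g P)) ≤ Subgroup.centralizer (P : Set G) := by
      have := cj_mono g⁻¹ (centralizerIn_le_centralizer (S : Subgroup G) (cj g P))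
      rwa [cj_centralizer, cj_inv_cj] at this
    have := h.card_le h1 (cj_isPGroup g⁻¹ (S.2.to_le inf_le_left))
    rwa [card_cj] at this

/-- Every subgroup of `S` has a `G`-conjugate `Q ≤ S` with `N_S(Q)` Sylow in `N_G(Q)`. -/
theorem exists_cj_normalizer_sylow (S : Sylow p G) {P : Subgroup G} (hP : P ≤ S) :
    ∃ g : G, cj g P ≤ S ∧
      IsSylowIn p (normalizerIn (S : Subgroup G) (cj g P))
        (Subgroup.normalizer ((cj g P : Subgroup G) : Set G)) := by
  have hPp : IsPGroup p (P.subgroupOf (Subgroup.normalizer (P : Set G))) :=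
    (S.2.to_le hP).comap_subtype
  obtain ⟨R, hR⟩ := hPp.exists_le_sylow
  have hT := isSylowIn_of_sylow R
  obtain ⟨T, hTdef⟩ : ∃ T : Subgroup G, T = (R : Subgroup _).map (Subgroup.normalizer (P : Set G)).subtype :=
    ⟨_, rfl⟩
  rw [← hTdef] at hT
  have hTN : T ≤ Subgroup.normalizer (P : Set G) := by
    rw [hTdef]
    rintro _ ⟨y, -, rfl⟩
    exact y.2
  have hPT : P ≤ T := by
    intro x hx
    rw [hTdef]
    exact ⟨⟨x, Subgroup.le_normalizer hx⟩, hR (Subgroup.mem_subgroupOf.2 hx), rfl⟩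
  have hTp : IsPGroup p T := by
    rw [hTdef]
    exact R.2.map _
  obtain ⟨g, hg⟩ := exists_conj_mem_sylow S T hTp
  have hgT : cj g T ≤ S := by
    rintro _ ⟨y, hy, rfl⟩
    exact hg y hy
  have hQS : cj g P ≤ S := (cj_mono g hPT).trans hgT
  refine ⟨g, hQS, ?_⟩
  have hT' := isSylowIn_cj hT hTN g
  rw [cj_normalizer] at hT'
  apply isSylowIn_of_max (normalizerIn_le_normalizer _ _) (S.2.to_le inf_le_left)
  intro Y _ hYN hY
  have h1 := hT'.card_le hYN hY
  have h2 : cj g T ≤ normalizerIn (S : Subgroup G) (cj g P) := by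
    refine le_inf hgT ?_
    rw [← cj_normalizer]
    exact cj_mono g hTN
  exact h1.trans (Subgroup.card_le_of_le h2)

theorem centralizer_sylow_of_normalizer_sylow {S Q : Subgroup G}
    (h : IsSylowIn p (normalizerIn S Q) (Subgroup.normalizer (Q : Set G))) :
    IsSylowIn p (centralizerIn S Q) (Subgroup.centralizer (Q : Set G)) := by
  have h1 := h.of_normal (Subgroup.centralizer_le_normalizer (Q : Set G)) (by
    intro n hn
    rw [Subgroup.mem_normalizer_iff]
    intro c
    have key : ∀ m ∈ Subgroup.normalizer (Q : Set G), ∀ d ∈ Subgroup.centralizer (Q : Set G),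
        m * d * m⁻¹ ∈ Subgroup.centralizer (Q : Set G) := by
      intro m hm d hd
      rw [Subgroup.mem_centralizer_iff]
      intro y hy
      have hy' : m⁻¹ * y * m ∈ Q := by
        have := (Subgroup.mem_normalizer_iff.1 (Subgroup.inv_mem _ hm) y).1 hy
        simpa using this
      have := (Subgroup.mem_centralizer_iff.1 hd) _ hy'
      have e : y * (m * d * m⁻¹) = m * ((m⁻¹ * y * m) * d) * m⁻¹ := by group
      rw [e, this]
      group
    constructor
    · intro hc
      exact key n hn c hc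
    · intro hc
      have := key n⁻¹ (Subgroup.inv_mem _ hn) _ hc
      have e : n⁻¹ * (n * c * n⁻¹) * n⁻¹⁻¹ = c := by group
      rwa [e] at this)
  rw [← isSylowIn_inf_iff] at h1 ⊢
  have e : normalizerIn S Q ⊓ Subgroup.centralizer (Q : Set G) =
      centralizerIn S Q ⊓ Subgroup.centralizer (Q : Set G) := by
    unfold normalizerIn centralizerIn
    ext x
    simp only [Subgroup.mem_inf]
    constructor
    · rintro ⟨⟨h1, -⟩, h3⟩
      exact ⟨⟨h1, h3⟩, h3⟩
    · rintro ⟨⟨h1, h2⟩, -⟩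
      exact ⟨⟨h1, Subgroup.centralizer_le_normalizer _ h2⟩, h2⟩
  rwa [e] at h1

/-- If `α ∈ Aut(Q)` is induced by conjugation by `g`, then `g` normalizes `Q`. -/
theorem mem_normalizer_of_aut {Q : Subgroup G} {α : MulAut Q} {g : G}
    (h : ∀ x : Q, ((α x : Q) : G) = g * (x : G) * g⁻¹) : g ∈ Subgroup.normalizer (Q : Set G) := by
  rw [Subgroup.mem_normalizer_iff]
  intro y
  constructor
  · intro hy
    rw [← h ⟨y, hy⟩]
    exact (α ⟨y, hy⟩).2
  · intro hy
    have h1 := h (α⁻¹ ⟨_, hy⟩)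
    have h2 : α (α⁻¹ ⟨_, hy⟩) = ⟨_, hy⟩ := by simp
    rw [h2] at h1
    have h3 : ((α⁻¹ ⟨_, hy⟩ : Q) : G) = y := by
      have : g * y * g⁻¹ = g * ((α⁻¹ ⟨_, hy⟩ : Q) : G) * g⁻¹ := h1
      exact (mul_left_cancel (mul_right_cancel this)).symm
    rw [← h3]
    exact (α⁻¹ ⟨_, hy⟩).2

/-- `Aut_S(Q)` is Sylow in `Aut_G(Q)` when `N_S(Q)` is Sylow in `N_G(Q)`. -/
theorem autInducedBy_sylow_of_normalizer_sylow {S Q : Subgroup G}
    (h : IsSylowIn p (normalizerIn S Q) (Subgroup.normalizer (Q : Set G))) :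
    IsSylowIn p (autInducedBy S Q) (autInducedBy ⊤ Q) := by
  obtain ⟨R, hR⟩ := h
  have hmem : ∀ n : Subgroup.normalizer (Q : Set G),
      Subgroup.normalizerMonoidHom Q n ∈ autInducedBy ⊤ Q := by
    intro n
    rw [Cfsg.Agent.Lib.H25.mem_autInducedBy_iff]
    exact ⟨n, Subgroup.mem_top _, fun x => rfl⟩
  let f : Subgroup.normalizer (Q : Set G) →* autInducedBy ⊤ Q :=
    (Subgroup.normalizerMonoidHom Q).codRestrict _ hmem
  have hf : Function.Surjective f := by
    rintro ⟨α, hα⟩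
    obtain ⟨g, -, hg⟩ := (Cfsg.Agent.Lib.H25.mem_autInducedBy_iff ⊤ Q α).1 hα
    refine ⟨⟨g, mem_normalizer_of_aut hg⟩, ?_⟩
    apply Subtype.ext
    ext x
    exact (hg x).symm
  refine ⟨R.mapSurjective hf, ?_⟩
  rw [Sylow.coe_mapSurjective, hR]
  ext ⟨α, hα⟩
  rw [Subgroup.mem_subgroupOf]
  constructor
  · rintro ⟨n, hn, hnα⟩
    rw [SetLike.mem_coe, Subgroup.mem_subgroupOf] at hn
    have : α = Subgroup.normalizerMonoidHom Q n := by
      have := congrArg Subtype.val hnα
      exact this.symm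
    rw [Cfsg.Agent.Lib.H25.mem_autInducedBy_iff]
    refine ⟨n, hn.1, fun x => ?_⟩
    show ((α x : Q) : G) = _
    rw [this]
    rfl
  · intro hα'
    obtain ⟨g, hgS, hg⟩ := (Cfsg.Agent.Lib.H25.mem_autInducedBy_iff S Q α).1 hα'
    have hgN := mem_normalizer_of_aut hg
    refine ⟨⟨g, hgN⟩, ?_, ?_⟩
    · rw [SetLike.mem_coe, Subgroup.mem_subgroupOf]
      exact ⟨hgS, hgN⟩
    · apply Subtype.ext
      ext x
      exact (hg x).symm

/-- S5123: the Sylow argument behind receptivity. -/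
theorem exists_centralizer_conj_le (S : Sylow p G) {P Q : Subgroup G} (g : G)
    (hN : IsSylowIn p (normalizerIn (S : Subgroup G) Q) (Subgroup.normalizer (Q : Set G))) :
    ∃ h ∈ Subgroup.centralizer (Q : Set G),
      cj (h * g) (normalizerIn (S : Subgroup G) P ⊓
        (normalizerIn (S : Subgroup G) Q ⊔ Subgroup.centralizer (Q : Set G)).comap
          (MulAut.conj g).toMonoidHom) ≤ S := by
  obtain ⟨Ng, hNg⟩ : ∃ Ng : Subgroup G, Ng = normalizerIn (S : Subgroup G) P ⊓
        (normalizerIn (S : Subgroup G) Q ⊔ Subgroup.centralizer (Q : Set G)).comap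
          (MulAut.conj g).toMonoidHom := ⟨_, rfl⟩
  rw [← hNg]
  obtain ⟨M, hM⟩ : ∃ M : Subgroup G,
      M = normalizerIn (S : Subgroup G) Q ⊔ Subgroup.centralizer (Q : Set G) := ⟨_, rfl⟩
  have hMN : M ≤ Subgroup.normalizer (Q : Set G) := by
    rw [hM]
    exact sup_le (normalizerIn_le_normalizer _ _) (Subgroup.centralizer_le_normalizer _)
  -- `N_S(Q)` is Sylow in `M`
  have hXM : normalizerIn (S : Subgroup G) Q ≤ M := by rw [hM]; exact le_sup_left
  have hSylM : IsSylowIn p (normalizerIn (S : Subgroup G) Q) M := by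
    apply isSylowIn_of_max hXM (S.2.to_le inf_le_left)
    intro Y _ hYM hY
    exact hN.card_le (hYM.trans hMN) hY
  have hNgp : IsPGroup p Ng := by
    rw [hNg]
    exact S.2.to_le (inf_le_left.trans inf_le_left)
  have hgNg : cj g Ng ≤ M := by
    rintro _ ⟨x, hx, rfl⟩
    rw [hNg] at hx
    have hx2 := (Subgroup.mem_inf.1 hx).2
    rw [hM]
    exact Subgroup.mem_comap.1 hx2
  obtain ⟨m, hmM, hm⟩ := hSylM.exists_conj hgNg (cj_isPGroup g hNgp)
  -- write `m = s * c`
  have hnorm : normalizerIn (S : Subgroup G) Q ≤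
      Subgroup.normalizer ((Subgroup.centralizer (Q : Set G) : Subgroup G) : Set G) := by
    intro n hn
    have hn' : n ∈ Subgroup.normalizer (Q : Set G) := hn.2
    have key : ∀ m ∈ Subgroup.normalizer (Q : Set G), ∀ d ∈ Subgroup.centralizer (Q : Set G),
        m * d * m⁻¹ ∈ Subgroup.centralizer (Q : Set G) := by
      intro m hm d hd
      rw [Subgroup.mem_centralizer_iff]
      intro y hy
      have hy' : m⁻¹ * y * m ∈ Q := by
        have := (Subgroup.mem_normalizer_iff.1 (Subgroup.inv_mem _ hm) y).1 hy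
        simpa using this
      have := (Subgroup.mem_centralizer_iff.1 hd) _ hy'
      have e : y * (m * d * m⁻¹) = m * ((m⁻¹ * y * m) * d) * m⁻¹ := by group
      rw [e, this]
      group
    rw [Subgroup.mem_normalizer_iff]
    intro c
    constructor
    · intro hc
      exact key n hn' c hc
    · intro hc
      have := key n⁻¹ (Subgroup.inv_mem _ hn') _ hc
      have e : n⁻¹ * (n * c * n⁻¹) * n⁻¹⁻¹ = c := by group
      rwa [e] at this
  have hmem : m ∈ normalizerIn (S : Subgroup G) Q ⊔ Subgroup.centralizer (Q : Set G) := hM ▸ hmM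
  rw [← SetLike.mem_coe, Subgroup.coe_mul_of_left_le_normalizer_right _ _ hnorm] at hmem
  obtain ⟨s, hs, c, hc, rfl⟩ := Set.mem_mul.1 hmem
  refine ⟨c, hc, ?_⟩
  rw [cj_mul]
  intro x hx
  have h1 : s * x * s⁻¹ ∈ cj (s * c) (cj g Ng) := by
    rw [cj_mul]
    exact conj_mem_cj hx
  have h2 : s * x * s⁻¹ ∈ (S : Subgroup G) := (hm h1).1
  have hsS : s ∈ (S : Subgroup G) := hs.1
  have e : x = s⁻¹ * (s * x * s⁻¹) * s := by group
  rw [e]
  exact Subgroup.mul_mem _ (Subgroup.mul_mem _ (Subgroup.inv_mem _ hsS) h2) hsS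

end SylowFusion

end Cfsg.Agent.Lib.H26
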