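import Mathlib
import Cfsg.Prelude.Def_FusionSystem
import Cfsg.Agent.Lib.H25.Fusion
import Cfsg.Agent.Lib.H26.Basic
import Cfsg.Agent.Lib.H26.GroupFusion

set_option autoImplicit false
set_option linter.unusedSectionVars false

/-!
The fusion system of a finite group on a Sylow `p`-subgroup is saturated (helper26).
-/

namespace Cfsg.Agent.Lib.H26

open Cfsg Cfsg.FusionSystem

variable {G : Type*} [Group G]

/-- `Aut_F(Q) = Aut_G(Q)` for the fusion system of `G` on `S ≥ Q`. -/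
theorem groupFusionSystem_autGroup_eq {S Q : Subgroup G} (hQ : Q ≤ S) :
    (groupFusionSystem S).autGroup Q = autInducedBy ⊤ Q := by
  ext α
  rw [Cfsg.Agent.Lib.H25.mem_autGroup_iff _ hQ, Cfsg.Agent.Lib.H25.mem_autInducedBy_iff]
  constructor
  · rintro ⟨-, -, g, hg⟩
    exact ⟨g, Subgroup.mem_top _, fun x => hg x⟩
  · rintro ⟨g, -, hg⟩
    exact ⟨hQ, fun x => hQ (α x).2, g, fun x => hg x⟩

variable [Finite G] {p : ℕ} [Fact p.Prime]

theorem groupFusionSystem_isFullyAutomized {S Q : Subgroup G} (hQ : Q ≤ S)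
    (h : IsSylowIn p (normalizerIn S Q) (Subgroup.normalizer (Q : Set G))) :
    (groupFusionSystem S).IsFullyAutomized p Q := by
  refine ⟨hQ, ?_⟩
  have := autInducedBy_sylow_of_normalizer_sylow h
  rw [← groupFusionSystem_autGroup_eq hQ] at this
  exact this

theorem groupFusionSystem_isReceptive (S : Sylow p G) {Q : Subgroup G} (hQ : Q ≤ S)
    (h : IsSylowIn p (normalizerIn (S : Subgroup G) Q) (Subgroup.normalizer (Q : Set G))) :
    (groupFusionSystem (S : Subgroup G)).IsReceptive Q := by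
  refine ⟨hQ, ?_⟩
  rintro P φ ⟨hPS, hφS, k, hk⟩ hr
  have hkP : cj k P = Q := by
    rw [← hr]
    ext y
    constructor
    · rintro ⟨x, hx, rfl⟩
      exact ⟨⟨x, hx⟩, hk ⟨x, hx⟩⟩
    · rintro ⟨x, rfl⟩
      exact ⟨x, x.2, (hk x).symm⟩
  obtain ⟨c, hc, hcle⟩ := exists_centralizer_conj_le S (P := P) k h
  have hext : extender (S : Subgroup G) P φ ≤ normalizerIn (S : Subgroup G) P ⊓
        (normalizerIn (S : Subgroup G) Q ⊔ Subgroup.centralizer (Q : Set G)).comap
          (MulAut.conj k).toMonoidHom := by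
    intro x hx
    refine Subgroup.mem_inf.2 ⟨Cfsg.Agent.Lib.H25.extender_le_normalizerIn _ _ _ hx, ?_⟩
    rw [Cfsg.Agent.Lib.H25.mem_extender_iff] at hx
    obtain ⟨hxS, hxN, s, hs, hxs⟩ := hx
    rw [Subgroup.mem_comap]
    show k * x * k⁻¹ ∈ _
    -- `s⁻¹ * (k x k⁻¹)` centralizes `Q`
    have hcent : s⁻¹ * (k * x * k⁻¹) ∈ Subgroup.centralizer (Q : Set G) := by
      rw [Subgroup.mem_centralizer_iff]
      intro z hz
      rw [← hkP] at hz
      obtain ⟨y, hy, rfl⟩ := hz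
      show (k * y * k⁻¹) * (s⁻¹ * (k * x * k⁻¹)) = s⁻¹ * (k * x * k⁻¹) * (k * y * k⁻¹)
      have hy' : x * y * x⁻¹ ∈ P := (Subgroup.mem_normalizer_iff.1 hxN y).1 hy
      have h1 := hxs ⟨y, hy⟩ hy'
      rw [hk, hk] at h1
      -- h1 : k * (x*y*x⁻¹) * k⁻¹ = s * (k*y*k⁻¹) * s⁻¹
      have h1' : k * (x * y * x⁻¹) * k⁻¹ = s * (k * y * k⁻¹) * s⁻¹ := h1
      have e : s⁻¹ * (k * x * k⁻¹) * (k * y * k⁻¹) =
          s⁻¹ * (k * (x * y * x⁻¹) * k⁻¹) * (k * x * k⁻¹) := by group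
      rw [e, h1']
      group
    have hxN' : k * x * k⁻¹ ∈ Subgroup.normalizer (Q : Set G) := by
      rw [← hkP, ← cj_normalizer]
      exact conj_mem_cj hxN
    have hsN : s ∈ Subgroup.normalizer (Q : Set G) := by
      have e : s = (k * x * k⁻¹) * (s⁻¹ * (k * x * k⁻¹))⁻¹ := by group
      rw [e]
      exact Subgroup.mul_mem _ hxN'
        (Subgroup.inv_mem _ (Subgroup.centralizer_le_normalizer _ hcent))
    have e : k * x * k⁻¹ = s * (s⁻¹ * (k * x * k⁻¹)) := by group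
    rw [e]
    exact Subgroup.mul_mem _ (Subgroup.mem_sup_left ⟨hs, hsN⟩) (Subgroup.mem_sup_right hcent)
  have hle : cj (c * k) (extender (S : Subgroup G) P φ) ≤ S := (cj_mono _ hext).trans hcle
  have hextS : extender (S : Subgroup G) P φ ≤ S :=
    (Cfsg.Agent.Lib.H25.extender_le_normalizerIn _ _ _).trans inf_le_left
  refine ⟨conjHom _ (c * k), conjHom_mem_groupFusionSystem hextS hle, ?_⟩
  intro x hxP hxN
  show c * k * x * (c * k)⁻¹ = φ ⟨x, hxP⟩
  rw [hk]
  show c * k * x * (c * k)⁻¹ = k * x * k⁻¹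
  have hQx : k * x * k⁻¹ ∈ Q := by
    rw [← hkP]
    exact conj_mem_cj hxP
  have := (Subgroup.mem_centralizer_iff.1 hc) _ hQx
  -- this : k x k⁻¹ * c = c * (k x k⁻¹)
  have e : c * k * x * (c * k)⁻¹ = (c * (k * x * k⁻¹)) * c⁻¹ := by group
  rw [e, ← this]
  group

/-- S5076: `F_S(G)` is saturated. -/
theorem groupFusionSystem_isSaturated (S : Sylow p G) :
    (groupFusionSystem (S : Subgroup G)).IsSaturated p := by
  intro P hP
  obtain ⟨g, hQS, hSyl⟩ := exists_cj_normalizer_sylow S hP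
  exact ⟨cj g P, isConj_groupFusionSystem_iff.2 ⟨hP, hQS, g, rfl⟩,
    groupFusionSystem_isFullyAutomized hQS hSyl, groupFusionSystem_isReceptive S hQS hSyl⟩

end Cfsg.Agent.Lib.H26
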