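import Mathlib
import Cfsg.Agent.Lib.H26.ModelFusion

set_option autoImplicit false
set_option linter.unusedSectionVars false
set_option linter.unusedVariables false

/-!
**Model theorem, existence** (helper26): a saturated fusion system over a finite `p`-group with a
normal centric subgroup `Q` has a model `G`, with `ι(Q)` normal in `G` and `G / ι(Z(Q)) ≅ Aut_F(Q)`.
-/

namespace Cfsg.Agent.Lib.H26.Model

open Cfsg Cfsg.FusionSystem Cfsg.Agent.Lib.H25

universe u

variable {Ω : Type u} [Group Ω] {S : Subgroup Ω}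

section

variable {p : ℕ} [Fact p.Prime] [Finite S] (hS : IsPGroup p S) {F : FusionSystem S}
  (hF : F.IsSaturated p) {Q : Subgroup Ω} (hQn : F.IsNormal Q) (hQc : F.IsCentric Q)

include hS hF hQc in
theorem ambOf_coprime :
    (Nat.card (Subgroup.center Q)).Coprime
      (Nat.card (F.autGroup Q ⧸ (ambOf hS hF hQn hQc).c.range)) := by
  have hQS := hQn.1
  have hQsc := isNormal_stronglyClosed hQn
  have hfinQ : Finite Q := finite_of_le S hQS
  have hfn : F.IsFullyNormalized Q := by
    refine ⟨hQS, fun Q' _ => ?_⟩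
    rw [stronglyClosed_normalizerIn_eq hQsc]
    exact Subgroup.card_le_of_le inf_le_left
  obtain ⟨-, R, hR⟩ := (fullyNormalized_props hS hF hfn).2
  have hfinA : Finite ↥(F.autGroup Q) := inferInstance
  have hidx : ¬ p ∣ (R : Subgroup ↥(F.autGroup Q)).index := R.not_dvd_index
  have hrange : (ambOf hS hF hQn hQc).c.range = (R : Subgroup ↥(F.autGroup Q)) := by
    rw [hR]
    ext α
    rw [Subgroup.mem_subgroupOf, mem_autInducedBy_iff]
    constructor
    · rintro ⟨s, rfl⟩
      exact ⟨s, s.2, fun x => rfl⟩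
    · rintro ⟨g, hg, hα⟩
      refine ⟨⟨g, hg⟩, ?_⟩
      apply Subtype.ext
      ext x
      exact (hα x).symm
  have hMp : IsPGroup p ↥(Subgroup.center ↥Q) := (hS.to_le hQS).to_subgroup _
  obtain ⟨k, hk⟩ := hMp.exists_card_eq
  rw [hk, hrange]
  apply Nat.Coprime.pow_left
  exact (Nat.Prime.coprime_iff_not_dvd (Fact.out : p.Prime)).2 hidx

include hS hF hQc in
/-- **Model theorem**, with the extra structure. -/
theorem exists_model_normal_centric :
    ∃ (G : Type u) (_ : Group G) (ι : S →* G) (π : G →* F.autGroup Q),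
      F.IsModel p G ι ∧ Function.Surjective π ∧
      (∀ (s : S) (x : Q), ((((π (ι s) : F.autGroup Q) : MulAut Q) x : Q) : Ω) = s * x * (s : Ω)⁻¹) ∧
      (∀ g, π g = 1 → ∃ s : S, (s : Ω) ∈ Q ∧ (s : Ω) ∈ Subgroup.centralizer (Q : Set Ω) ∧
        ι s = g) ∧
      (∀ (g : G) (q : Q), g * ι (Subgroup.inclusion hQn.1 q) * g⁻¹ =
        ι (Subgroup.inclusion hQn.1 (((π g : F.autGroup Q) : MulAut Q) q))) := by
  have hQS := hQn.1
  have hfinQ : Finite Q := finite_of_le S hQS
  have hfinA : Finite ↥(F.autGroup Q) := inferInstance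
  obtain ⟨G, hG, hfinG, ι, π, hι, hπ, hπι₀, hker₀, hconj₀, hP3, hP4⟩ :=
    exists_model_of_Amb (ambOf hS hF hQn hQc) (ambOf_coprime hS hF hQn hQc)
  have hπι : ∀ s : S, π (ι s) = cHom hQn s := hπι₀
  have hker : ∀ g, π g = 1 → ∃ s ∈ (cHom hQn).ker, ι s = g := hker₀
  have hconj : ∀ (g : G) (q : Q), g * ι (Subgroup.inclusion hQS q) * g⁻¹ =
      ι (Subgroup.inclusion hQS (((π g : F.autGroup Q) : MulAut Q) q)) := fun g q => hconj₀ g q
  have hc : (ambOf hS hF hQn hQc).c = cHom hQn := rfl
  have hj : (ambOf hS hF hQn hQc).j = Subgroup.inclusion hQn.1 := rfl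
  have hact : ∀ (a : F.autGroup Q) (q : Q), (ambOf hS hF hQn hQc).act a q = (a : MulAut Q) q :=
    fun a q => rfl
  have hFam : ∀ V φ, (ambOf hS hF hQn hQc).Fam V φ ↔ FamF F V φ := fun V φ => Iff.rfl
  refine ⟨G, hG, ι, π, ⟨hfinG, ⟨hι, ?_⟩, ?_, ?_⟩, hπ, ?_, ?_, ?_⟩
  · -- realization
    intro P hP φ hφ
    constructor
    · intro hφF
      obtain ⟨g, B, hg, hgφ, hgQ⟩ : ∃ (g : Ω → Ω) (B : Subgroup Ω), IsIso F (P ⊔ Q) B g ∧
          (∀ x ∈ P, g x = ext1 φ x) ∧ IsIso F Q Q g := by
        obtain ⟨g, hg, hgφ, hgQ⟩ := isNormal_exists_ext hQn (isIso_of_mem F hφF)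
        exact ⟨g, _, hg, hgφ, hgQ⟩
      have hPQS : P ⊔ Q ≤ S := sup_le hP hQS
      have hmap : ((P ⊔ Q).subgroupOf S).map S.subtype = P ⊔ Q := by
        rw [Subgroup.map_subgroupOf_eq_of_le hPQS]
      have hfam : FamF F ((P ⊔ Q).subgroupOf S) (restrFun g) := by
        refine ⟨B, ?_⟩
        rw [hmap]
        refine hg.congr (fun x hx => ?_)
        have hxS : x ∈ S := hPQS hx
        rw [liftFun_mem _ hxS]
        have : g x ∈ S := hg.le_right (hg.map_mem hx)
        exact (restrFun_coe (s := ⟨x, hxS⟩) this).symm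
      have hQV : (ambOf hS hF hQn hQc).j.range ≤ (P ⊔ Q).subgroupOf S := by
        rw [hj, inclusion_range_le_iff hQS, hmap]
        exact le_sup_right
      obtain ⟨γ, hγ⟩ := hP3 _ _ ((hFam _ _).2 hfam) hQV
      refine ⟨γ, fun x => ?_⟩
      have hxPQ : (⟨x, hP x.2⟩ : S) ∈ (P ⊔ Q).subgroupOf S :=
        Subgroup.mem_subgroupOf.2 ((le_sup_left : P ≤ P ⊔ Q) x.2)
      rw [hγ _ hxPQ]
      congr 1
      apply Subtype.ext
      have hgx : g x = φ x := by rw [hgφ x x.2, ext1_apply]
      have hmem : g ((⟨x, hP x.2⟩ : S) : Ω) ∈ S := by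
        show g (x : Ω) ∈ S
        rw [hgx]; exact hφ x
      rw [restrFun_coe hmem]
      exact hgx.symm
    · rintro ⟨γ, hγ⟩
      have hPQS : P ⊔ Q ≤ S := sup_le hP hQS
      have hmap : ((P ⊔ Q).subgroupOf S).map S.subtype = P ⊔ Q := by
        rw [Subgroup.map_subgroupOf_eq_of_le hPQS]
      have hQV : (ambOf hS hF hQn hQc).j.range ≤ (P ⊔ Q).subgroupOf S := by
        rw [hj, inclusion_range_le_iff hQS, hmap]
        exact le_sup_right
      -- the subgroup of elements conjugated into `ι(S)` by `γ`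
      let W : Subgroup S := ι.range.comap ((MulAut.conj γ).toMonoidHom.comp ι)
      have hWmem : ∀ v : S, v ∈ W ↔ ∃ s, γ * ι v * γ⁻¹ = ι s := by
        intro v
        constructor
        · rintro ⟨s, hs⟩
          exact ⟨s, hs.symm⟩
        · rintro ⟨s, hs⟩
          exact ⟨s, hs.symm⟩
      have hPW : P ≤ W.map S.subtype := by
        intro x hx
        refine ⟨⟨x, hP hx⟩, (hWmem _).2 ⟨⟨φ ⟨x, hx⟩, hφ ⟨x, hx⟩⟩, ?_⟩, rfl⟩
        exact (hγ ⟨x, hx⟩).symm
      have hQW : Q ≤ W.map S.subtype := by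
        intro x hx
        refine ⟨⟨x, hQS hx⟩, (hWmem _).2 ⟨_, hconj γ ⟨x, hx⟩⟩, rfl⟩
      have hVW : (P ⊔ Q).subgroupOf S ≤ W := by
        intro v hv
        have h1 : (v : Ω) ∈ W.map S.subtype := (sup_le hPW hQW) (Subgroup.mem_subgroupOf.1 hv)
        obtain ⟨w, hw, hwv⟩ := h1
        have : w = v := Subtype.ext hwv
        rwa [this] at hw
      obtain ⟨φ', hφ', hφ'γ⟩ := hP4 γ _ hQV (fun v hv => (hWmem v).1 (hVW hv))
      obtain ⟨B, hB⟩ := (hFam _ _).1 hφ'
      rw [hmap] at hB
      obtain ⟨P₀, -, hP₀, -⟩ := hB.restrict (le_sup_left : P ≤ P ⊔ Q)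
      refine mem_hom_of_isIso F hP₀ (fun x => ?_)
      have hxPQ : (⟨x, hP x.2⟩ : S) ∈ (P ⊔ Q).subgroupOf S :=
        Subgroup.mem_subgroupOf.2 ((le_sup_left : P ≤ P ⊔ Q) x.2)
      have h1 := hφ'γ _ hxPQ
      rw [← hγ x] at h1
      have h2 := hι h1
      rw [liftFun_mem _ (hP x.2), ← h2]
  · -- Sylow
    have hSp : IsPGroup p ι.range := by
      have : IsPGroup p S := hS
      exact IsPGroup.of_surjective hS ι.rangeRestrict ι.rangeRestrict_surjective
    have hidx : ¬ p ∣ ι.range.index := by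
      -- `|G : ι(S)| = |A : c(S)|`
      have hcardG : Nat.card G = Nat.card (F.autGroup Q) * Nat.card π.ker := by
        rw [← Subgroup.index_mul_card π.ker, Subgroup.index_ker,
          MonoidHom.range_eq_top.2 hπ, Subgroup.card_top]
      have hkereq : π.ker = (cHom hQn).ker.map ι := by
        ext g
        constructor
        · intro hg
          obtain ⟨s, hs, rfl⟩ := hker g hg
          exact ⟨s, hs, rfl⟩
        · rintro ⟨s, hs, rfl⟩
          rw [MonoidHom.mem_ker, hπι]
          exact hs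
      have hcardker : Nat.card π.ker = Nat.card (cHom hQn).ker := by
        rw [hkereq]
        exact Subgroup.card_map_of_injective hι
      have hcardS : Nat.card S = Nat.card (cHom hQn).range * Nat.card (cHom hQn).ker := by
        rw [← Subgroup.index_mul_card (cHom hQn).ker, Subgroup.index_ker]
      have hcardr : Nat.card ι.range = Nat.card S :=
        (Nat.card_congr (Equiv.ofInjective ι hι)).symm
      have h1 := Subgroup.index_mul_card ι.range
      have h2 := Subgroup.index_mul_card (cHom hQn).range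
      rw [hcardr, hcardS, hcardG, hcardker, ← h2] at h1
      have hpos : 0 < Nat.card (cHom hQn).range * Nat.card (cHom hQn).ker := by
        rw [← hcardS]; exact Nat.card_pos
      have h3 : ι.range.index = (cHom hQn).range.index := by
        have : ι.range.index * (Nat.card (cHom hQn).range * Nat.card (cHom hQn).ker) =
            (cHom hQn).range.index * (Nat.card (cHom hQn).range * Nat.card (cHom hQn).ker) := by
          rw [h1]; ring
        exact Nat.eq_of_mul_eq_mul_right hpos this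
      rw [h3]
      have := ambOf_coprime hS hF hQn hQc
      intro hdvd
      have hfinQ' : Finite (Subgroup.center Q) := inferInstance
      have hMp : IsPGroup p ↥(Subgroup.center ↥Q) := (hS.to_le hQS).to_subgroup _
      -- use the Sylow statement again
      have hQsc := isNormal_stronglyClosed hQn
      have hfn : F.IsFullyNormalized Q := by
        refine ⟨hQS, fun Q' _ => ?_⟩
        rw [stronglyClosed_normalizerIn_eq hQsc]
        exact Subgroup.card_le_of_le inf_le_left
      obtain ⟨-, R, hR⟩ := (fullyNormalized_props hS hF hfn).2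
      have hrange : (cHom hQn).range = (R : Subgroup ↥(F.autGroup Q)) := by
        rw [hR]
        ext α
        rw [Subgroup.mem_subgroupOf, mem_autInducedBy_iff]
        constructor
        · rintro ⟨s, rfl⟩
          exact ⟨s, s.2, fun x => rfl⟩
        · rintro ⟨g, hg, hα⟩
          refine ⟨⟨g, hg⟩, ?_⟩
          apply Subtype.ext
          ext x
          exact (hα x).symm
      rw [hrange] at hdvd
      exact R.not_dvd_index hdvd
    exact ⟨hSp.toSylow hidx, IsPGroup.toSylow_coe hSp hidx⟩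
  · -- `C_G(O_p(G)) ≤ O_p(G)`
    have hιQn : ((Subgroup.inclusion hQS).range.map ι).Normal := by
      constructor
      rintro _ ⟨_, ⟨q, rfl⟩, rfl⟩ g
      rw [hconj g q]
      exact ⟨_, ⟨_, rfl⟩, rfl⟩
    have hιQp : IsPGroup p ((Subgroup.inclusion hQS).range.map ι) :=
      ((hS.to_subgroup _).map ι)
    have hle := le_pCore hιQn hιQp
    intro g hg
    have hg' : ∀ q : Q, g * ι (Subgroup.inclusion hQS q) * g⁻¹ = ι (Subgroup.inclusion hQS q) := by
      intro q
      have := (Subgroup.mem_centralizer_iff.1 hg) _ (hle ⟨_, ⟨q, rfl⟩, rfl⟩)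
      rw [← this]; group
    have hπg : π g = 1 := by
      apply Subtype.ext
      ext q
      have h1 := hconj g q
      rw [hg' q] at h1
      have h2 := Subgroup.inclusion_injective hQS (hι h1)
      exact congrArg Subtype.val h2.symm
    obtain ⟨s, hs, rfl⟩ := hker g hπg
    obtain ⟨q, rfl⟩ := ker_cHom_le hQn hQc hs
    exact hle ⟨_, ⟨q, rfl⟩, rfl⟩
  · intro s x
    rw [hπι]
    rfl
  · intro g hg
    obtain ⟨s, hs, rfl⟩ := hker g hg
    obtain ⟨q, hq⟩ := ker_cHom_le hQn hQc hs
    refine ⟨s, ?_, ?_, rfl⟩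
    · rw [← hq]; exact q.2
    · rw [MonoidHom.mem_ker] at hs
      rw [Subgroup.mem_centralizer_iff]
      intro x hx
      have h1 := congrArg (fun α : F.autGroup Q => (((α : MulAut Q) ⟨x, hx⟩ : Q) : Ω)) hs
      have h2 : (s : Ω) * x * (s : Ω)⁻¹ = x := h1
      calc x * s = (s * x * (s : Ω)⁻¹) * s := by rw [h2]
        _ = s * x := by group
  · intro g q
    exact hconj g q

end

end Cfsg.Agent.Lib.H26.Model
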