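import Mathlib
import Cfsg.Prelude.Def_FusionSystem
import Cfsg.Agent.Lib.H25.Fusion
import Cfsg.Agent.Lib.H25.Basic
import Cfsg.Agent.Lib.H25.Alperin
import Cfsg.Agent.Lib.H26.FusionInner
import Cfsg.Agent.S5111

set_option autoImplicit false

/-!
Automorphisms of `p`-power order at function level, fusion systems all of whose automorphism
groups are `p`-groups, and Frobenius' theorem for saturated fusion systems: such a system is the
inner system (helper26).
-/

namespace Cfsg.Agent.Lib.H26.Nil

open Cfsg Cfsg.FusionSystem Cfsg.Agent.Lib.H25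

variable {Ω : Type*} [Group Ω] {S : Subgroup Ω}

/-- `f` permutes `P` with `p`-power order. -/
def IsPAut (p : ℕ) (P : Subgroup Ω) (f : Ω → Ω) : Prop := ∃ k : ℕ, ∀ x ∈ P, f^[p ^ k] x = x

theorem isIso_iterate {F : FusionSystem S} {P : Subgroup Ω} {f : Ω → Ω} (h : IsIso F P P f)
    (n : ℕ) : IsIso F P P (f^[n]) := by
  induction n with
  | zero => exact IsIso.refl h.le_left
  | succ n ih =>
    rw [Function.iterate_succ']
    exact ih.trans h

theorem iterate_mem {F : FusionSystem S} {P : Subgroup Ω} {f : Ω → Ω} (h : IsIso F P P f)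
    (n : ℕ) {x : Ω} (hx : x ∈ P) : f^[n] x ∈ P := (isIso_iterate h n).map_mem hx

theorem isPAut_congr {p : ℕ} {F : FusionSystem S} {P : Subgroup Ω} {f g : Ω → Ω}
    (hf : IsIso F P P f) (hfg : ∀ x ∈ P, f x = g x) (h : IsPAut p P f) : IsPAut p P g := by
  obtain ⟨k, hk⟩ := h
  refine ⟨k, fun x hx => ?_⟩
  have key : ∀ n : ℕ, ∀ x ∈ P, g^[n] x = f^[n] x := by
    intro n
    induction n with
    | zero => intro x _; rfl
    | succ n ih =>
      intro x hx
      rw [Function.iterate_succ_apply', Function.iterate_succ_apply', ih x hx,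
        hfg _ (iterate_mem hf n hx)]
  rw [key _ x hx, hk x hx]

/-- If some iterate of `f` has `p`-power order then so has `f`. -/
theorem isPAut_of_iterate {p : ℕ} {P : Subgroup Ω} {f : Ω → Ω} (j : ℕ)
    (h : IsPAut p P (f^[p ^ j])) : IsPAut p P f := by
  obtain ⟨k, hk⟩ := h
  refine ⟨j + k, fun x hx => ?_⟩
  rw [pow_add, Function.iterate_mul]
  exact hk x hx

/-- All automorphism groups of the system are `p`-groups (function level). -/
def AllP (p : ℕ) (F : FusionSystem S) : Prop :=
  ∀ (P : Subgroup Ω) (f : Ω → Ω), IsIso F P P f → IsPAut p P f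

theorem aut_pow_apply {F : FusionSystem S} {P : Subgroup Ω} {f : Ω → Ω} (hf : IsIso F P P f)
    {α : MulAut P} (hα : ∀ x : P, ((α x : P) : Ω) = f x) (n : ℕ) (x : P) :
    (((α ^ n) x : P) : Ω) = f^[n] x := by
  induction n generalizing x with
  | zero => rfl
  | succ n ih =>
    rw [pow_succ, MulAut.mul_apply, ih, Function.iterate_succ_apply, hα]

theorem isPGroup_autGroup_of_allP {p : ℕ} {F : FusionSystem S} (h : AllP p F) {P : Subgroup Ω}
    (hP : P ≤ S) : IsPGroup p (F.autGroup P) := by
  rintro ⟨α, hα⟩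
  have hf := isIso_of_mem_autGroup F hP hα
  obtain ⟨k, hk⟩ := h P _ hf
  refine ⟨k, Subtype.ext ?_⟩
  show α ^ (p ^ k) = 1
  ext x
  have hα' : ∀ x : P, ((α x : P) : Ω) = ext1 (P.subtype.comp α.toMonoidHom) x := fun x =>
    (ext1_apply (P.subtype.comp α.toMonoidHom) x).symm
  rw [aut_pow_apply hf hα' (p ^ k) x, hk x x.2]
  rfl

theorem allP_of_isPGroup_autGroup {p : ℕ} {F : FusionSystem S}
    (h : ∀ P : Subgroup Ω, P ≤ S → IsPGroup p (F.autGroup P)) : AllP p F := by
  intro P f hf
  obtain ⟨α, hα, hαf⟩ := exists_mem_autGroup_of_isIso F hf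
  obtain ⟨k, hk⟩ := h P hf.le_left ⟨α, hα⟩
  have hk' : α ^ (p ^ k) = 1 := by simpa using congrArg Subtype.val hk
  refine ⟨k, fun x hx => ?_⟩
  rw [← aut_pow_apply hf hαf (p ^ k) ⟨x, hx⟩, hk']
  rfl

/-- A subsystem of a system with `p`-group automizers has `p`-group automizers. -/
theorem AllP.mono {p : ℕ} {T : Subgroup Ω} {E : FusionSystem T} {F : FusionSystem S}
    (hEF : ∀ P : Subgroup Ω, E.Hom P ⊆ F.Hom P) (h : AllP p F) : AllP p E := by
  intro P f hf
  obtain ⟨φ, hφ, hφf, hr⟩ := hf
  exact h P f ⟨φ, hEF P hφ, hφf, hr⟩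

/-- The inner fusion system of a `p`-group has `p`-group automizers. -/
theorem allP_inner {p : ℕ} (hS : IsPGroup p S) : AllP p (innerFusionSystem S) := by
  apply allP_of_isPGroup_autGroup
  intro P hP
  rw [Cfsg.Agent.Lib.H26.inner_autGroup_eq hP]
  exact Cfsg.Agent.Lib.H26.autInducedBy_isPGroup hS P

theorem allP_of_eq_inner {p : ℕ} (hS : IsPGroup p S) {F : FusionSystem S}
    (h : ∀ P : Subgroup Ω, F.Hom P = (innerFusionSystem S).Hom P) : AllP p F :=
  AllP.mono (fun P => (h P).le) (allP_inner hS)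

/-- **Frobenius' theorem for fusion systems**: a saturated fusion system all of whose automizers
are `p`-groups is the inner system. -/
theorem eq_inner_of_allP [Finite S] {p : ℕ} [Fact p.Prime] (hS : IsPGroup p S)
    {F : FusionSystem S} (hF : F.IsSaturated p) (h : AllP p F) :
    ∀ P : Subgroup Ω, F.Hom P = (innerFusionSystem S).Hom P := by
  have hle : ∀ P : Subgroup Ω, F.Hom P ⊆ (innerFusionSystem S).Hom P := by
    apply alperin hS F hF
    rintro P (rfl | hess)
    · -- `P = S`
      rw [Cfsg.Agent.Lib.H26.inner_autGroup_eq le_rfl]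
      obtain ⟨-, R, hR⟩ := ((Cfsg.Agent.S5111.result p hS F).1 hF).1
      have hA : IsPGroup p (F.autGroup P) := isPGroup_autGroup_of_allP h le_rfl
      have hfin : Finite P := inferInstance
      have htop : (R : Subgroup (F.autGroup P)) = ⊤ := by
        have := R.3 (Q := ⊤) (IsPGroup.of_equiv hA Subgroup.topEquiv.symm) le_top
        exact this.symm
      intro α hα
      have : (⟨α, hα⟩ : F.autGroup P) ∈ (R : Subgroup (F.autGroup P)) := by
        rw [htop]; exact Subgroup.mem_top _
      rw [hR] at this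
      exact Subgroup.mem_subgroupOf.1 this
    · -- essential subgroups do not exist
      exfalso
      obtain ⟨hc, -, hn, E, hE⟩ := hess
      have hPS := hc.1
      have hfinP : Finite P := finite_of_le S hPS
      have hA : IsPGroup p (F.autGroup P) := isPGroup_autGroup_of_allP h hPS
      have hcore := pCore_eq_bot_of_stronglyPEmbedded hE
      have hX : IsPGroup p (F.autGroup P ⧸ (Inn P).subgroupOf (F.autGroup P)) :=
        hA.to_quotient _
      have htop : (⊤ : Subgroup (F.autGroup P ⧸ (Inn P).subgroupOf (F.autGroup P))) ≤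
          pCore p _ := le_pCore inferInstance (IsPGroup.of_equiv hX Subgroup.topEquiv.symm)
      rw [hcore] at htop
      have hcard : Nat.card (F.autGroup P ⧸ (Inn P).subgroupOf (F.autGroup P)) = 1 := by
        rw [← Subgroup.card_top, eq_bot_iff.2 htop, Subgroup.card_bot]
      have := hE.1
      rw [hcard] at this
      exact (Fact.out : p.Prime).one_lt.ne' (Nat.dvd_one.1 this)
  intro P
  apply Set.Subset.antisymm (hle P)
  rintro φ ⟨hP, g, hg, hφ⟩
  have : φ = conjHom P g := by
    ext x
    rw [hφ x]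
    rfl
  rw [this]
  exact F.conj_mem hP hg

end Cfsg.Agent.Lib.H26.Nil
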