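import Mathlib
import Cfsg.Agent.Lib.H26.PAut
import Cfsg.Agent.Lib.H25.Saturation
import Cfsg.Agent.Lib.H25.SatEquiv
import Cfsg.Agent.Lib.H25.Normal
import Cfsg.Agent.S5096

set_option autoImplicit false

/-!
The predicate `NT p F Q` ("the normalizer system of `Q` in `F` is not nilpotent", expressed
without normalizer systems) and its transport along isomorphisms of the system (helper26).
-/

namespace Cfsg.Agent.Lib.H26.Nil

open Cfsg Cfsg.FusionSystem Cfsg.Agent.Lib.H25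

variable {Ω : Type*} [Group Ω] {S : Subgroup Ω}

/-- Some automorphism in the system of a subgroup `P` with `Q ≤ P ≤ N_S(Q)`, leaving `Q`
invariant, is not a `p`-element. -/
def NT (p : ℕ) (F : FusionSystem S) (Q : Subgroup Ω) : Prop :=
  ∃ (P : Subgroup Ω) (f : Ω → Ω), Q ≤ P ∧ P ≤ normalizerIn S Q ∧ IsIso F P P f ∧
    (∀ x ∈ Q, f x ∈ Q) ∧ ¬ IsPAut p P f

theorem isPAut_congr' {p : ℕ} {F : FusionSystem S} {P : Subgroup Ω} {f g : Ω → Ω}
    (hg : IsIso F P P g) (hfg : ∀ x ∈ P, f x = g x) (h : IsPAut p P f) : IsPAut p P g := by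
  obtain ⟨k, hk⟩ := h
  refine ⟨k, fun x hx => ?_⟩
  have key : ∀ n : ℕ, ∀ x ∈ P, f^[n] x = g^[n] x := by
    intro n
    induction n with
    | zero => intro x _; rfl
    | succ n ih =>
      intro x hx
      rw [Function.iterate_succ_apply, Function.iterate_succ_apply, hfg x hx,
        ih _ (hg.map_mem hx)]
  rw [← key _ x hx, hk x hx]

theorem IsPAut.mono {p : ℕ} {P P' : Subgroup Ω} {f : Ω → Ω} (h : IsPAut p P f) (hP : P' ≤ P) :
    IsPAut p P' f := by
  obtain ⟨k, hk⟩ := h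
  exact ⟨k, fun x hx => hk x (hP hx)⟩

/-- Conjugating an automorphism by an isomorphism of the system. -/
theorem conj_aut {p : ℕ} {F : FusionSystem S} {A B P : Subgroup Ω} {χ f : Ω → Ω}
    (hχ : IsIso F A B χ) (hPA : P ≤ A) (hf : IsIso F P P f) :
    ∃ (P' : Subgroup Ω) (f' : Ω → Ω), P' ≤ B ∧ IsIso F P P' χ ∧ IsIso F P' P' f' ∧
      (∀ x ∈ P, f' (χ x) = χ (f x)) ∧ (IsPAut p P' f' → IsPAut p P f) := by
  obtain ⟨P', hP'B, hχP, -⟩ := hχ.restrict hPA
  obtain ⟨g, hg, hgχ, hχg⟩ := hχP.symm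
  have hf' : IsIso F P' P' (χ ∘ (f ∘ g)) := (hg.trans hf).trans hχP
  have hval : ∀ x ∈ P, (χ ∘ (f ∘ g)) (χ x) = χ (f x) := by
    intro x hx
    show χ (f (g (χ x))) = χ (f x)
    rw [hgχ x hx]
  refine ⟨P', χ ∘ (f ∘ g), hP'B, hχP, hf', hval, ?_⟩
  rintro ⟨k, hk⟩
  refine ⟨k, fun x hx => ?_⟩
  have key : ∀ n : ℕ, ∀ x ∈ P, (χ ∘ (f ∘ g))^[n] (χ x) = χ (f^[n] x) := by
    intro n
    induction n with
    | zero => intro x _; rfl
    | succ n ih =>
      intro x hx
      rw [Function.iterate_succ_apply, Function.iterate_succ_apply, hval x hx,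
        ih _ (hf.map_mem hx)]
  have h1 := hk (χ x) (hχP.map_mem hx)
  rw [key _ x hx] at h1
  exact hχP.injOn (iterate_mem hf _ hx) hx h1

/-- Transport of `NT` along an isomorphism defined on `N_S(U)`. -/
theorem NT.transport [Finite S] {p : ℕ} {F : FusionSystem S} {U U' X : Subgroup Ω} {χ : Ω → Ω}
    (h : NT p F U) (hχ : IsIso F (normalizerIn S U) X χ) (hχU : IsIso F U U' χ) : NT p F U' := by
  obtain ⟨P, f, hUP, hPN, hf, hfU, hnp⟩ := h
  obtain ⟨P', f', hP'X, hχP, hf', hval, himp⟩ := conj_aut (p := p) hχ hPN hf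
  have hU'P' : U' ≤ P' := by
    intro y hy
    obtain ⟨u, hu, rfl⟩ := hχU.surjOn hy
    exact hχP.map_mem (hUP hu)
  have hUN : U ≤ normalizerIn S U := hUP.trans hPN
  refine ⟨P', f', hU'P', ?_, hf', ?_, fun hp => hnp (himp hp)⟩
  · intro y hy
    obtain ⟨x, hx, rfl⟩ := hχP.surjOn hy
    refine ⟨hχP.le_right (hχP.map_mem hx), ?_⟩
    have hfinU' : Finite U' := finite_of_le S hχU.le_right
    apply Cfsg.Agent.Lib.H25.mem_normalizer_of_conj_mem
    intro z hz
    obtain ⟨u, hu, rfl⟩ := hχU.surjOn hz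
    have hxN := hPN hx
    have hconj : x * u * x⁻¹ ∈ U := (Subgroup.mem_normalizer_iff.1 hxN.2 u).1 hu
    have : χ (x * u * x⁻¹) = χ x * χ u * (χ x)⁻¹ := by
      rw [hχ.map_mul (Subgroup.mul_mem _ hxN (hUN hu)) (Subgroup.inv_mem _ hxN),
        hχ.map_mul hxN (hUN hu), hχ.map_inv hxN]
    rw [← this]
    exact hχU.map_mem hconj
  · intro y hy
    obtain ⟨u, hu, rfl⟩ := hχU.surjOn hy
    rw [hval u (hUP hu)]
    exact hχU.map_mem (hfU u hu)

/-- In a saturated system, every subgroup `U` has a fully normalized conjugate reached by a map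
defined on `N_S(U)`. -/
theorem exists_fn_map [Finite S] {p : ℕ} [Fact p.Prime] (hS : IsPGroup p S) {F : FusionSystem S}
    (hF : F.IsSaturated p) {U : Subgroup Ω} (hU : U ≤ S) :
    ∃ (U' X : Subgroup Ω) (χ : Ω → Ω), F.IsFullyNormalized U' ∧
      IsIso F (normalizerIn S U) X χ ∧ IsIso F U U' χ := by
  obtain ⟨U', hconj, hfn⟩ := exists_fullyNormalized_conj F hU
  obtain ⟨hfc, hfa⟩ := fullyNormalized_props hS hF hfn
  have hrec : F.IsReceptive U' := isReceptive_of_fullyCentralized hS hF hfc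
  obtain ⟨χ, X, hχ, -, hχU⟩ := exists_normalizer_map hS hfa hrec hconj
  exact ⟨U', X, χ, hfn, hχ, hχU⟩

/-- A system some automizer of which is not a `p`-group has a nontrivial fully normalized subgroup
with `NT`. -/
theorem exists_NT_of_not_allP [Finite S] {p : ℕ} [Fact p.Prime] (hS : IsPGroup p S)
    {F : FusionSystem S} (hF : F.IsSaturated p) (h : ¬ AllP p F) :
    ∃ Q : Subgroup Ω, Q ≠ ⊥ ∧ F.IsFullyNormalized Q ∧ NT p F Q := by
  unfold AllP at h
  push Not at h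
  obtain ⟨P, f, hf, hnp⟩ := h
  have hPS := hf.le_left
  have hNT : NT p F P := ⟨P, f, le_rfl, le_normalizerIn hPS, hf, fun x hx => hf.map_mem hx, hnp⟩
  obtain ⟨U', X, χ, hfn, hχ, hχU⟩ := exists_fn_map hS hF hPS
  refine ⟨U', ?_, hfn, hNT.transport hχ hχU⟩
  rintro rfl
  apply hnp
  refine ⟨0, fun x hx => ?_⟩
  have hx1 : x = 1 := by
    have := hχU.map_mem hx
    rw [Subgroup.mem_bot] at this
    have h1 := hχU.map_one
    exact hχU.injOn hx P.one_mem (this.trans h1.symm)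
  rw [hx1, pow_zero, Function.iterate_one]
  exact hf.map_one

/-- `NT` passes from a subsystem to the system. -/
theorem NT.mono {p : ℕ} {T : Subgroup Ω} {E : FusionSystem T} {F : FusionSystem S} (hTS : T ≤ S)
    (hEF : ∀ P : Subgroup Ω, E.Hom P ⊆ F.Hom P) {U : Subgroup Ω} (h : NT p E U) : NT p F U := by
  obtain ⟨P, f, hUP, hPN, ⟨φ, hφ, hφf, hr⟩, hfU, hnp⟩ := h
  exact ⟨P, f, hUP, hPN.trans (inf_le_inf_right _ hTS), ⟨φ, hEF P hφ, hφf, hr⟩, hfU, hnp⟩

/-- An injective self-map of a finite subgroup is onto. -/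
theorem surjOn_of_mapsTo {F : FusionSystem S} {P Q : Subgroup Ω} {f : Ω → Ω} [Finite Q]
    (hf : IsIso F P P f) (hQP : Q ≤ P) (hfQ : ∀ x ∈ Q, f x ∈ Q) :
    ∀ y ∈ Q, ∃ x ∈ Q, f x = y := by
  let g : Q → Q := fun x => ⟨f x, hfQ x x.2⟩
  have hinj : Function.Injective g := by
    intro a b hab
    apply Subtype.ext
    exact hf.injOn (hQP a.2) (hQP b.2) (congrArg Subtype.val hab)
  have hsurj := Finite.surjective_of_injective hinj
  intro y hy
  obtain ⟨x, hx⟩ := hsurj ⟨y, hy⟩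
  exact ⟨x, x.2, congrArg Subtype.val hx⟩

/-- If `NT p F Q` holds then the normalizer system of `Q` has an automizer which is not a
`p`-group. -/
theorem not_allP_of_NT [Finite S] {p : ℕ} {F : FusionSystem S} {Q : Subgroup Ω} (hQS : Q ≤ S)
    {T : Subgroup Ω} {N : FusionSystem T} (hN : ∀ P : Subgroup Ω, N.Hom P = F.normalizerHom Q P)
    (h : NT p F Q) : ¬ AllP p N := by
  obtain ⟨P, f, hQP, hPN, hf, hfQ, hnp⟩ := h
  intro hall
  apply hnp
  apply hall P f
  obtain ⟨φ, hφ, hφf, hr⟩ := hf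
  have hfinQ : Finite Q := finite_of_le S hQS
  have hf' : IsIso F P P f := ⟨φ, hφ, hφf, hr⟩
  refine ⟨φ, ?_, hφf, hr⟩
  rw [hN P, Cfsg.Agent.S5096.mem_normalizerHom_iff]
  refine ⟨hφ, hPN, fun x => ?_, f, P, ?_, fun x => (hφf x).symm, hfQ,
    surjOn_of_mapsTo hf' hQP hfQ⟩
  · apply hPN
    rw [hφf x]
    exact hf'.map_mem x.2
  · rw [sup_eq_left.2 hQP]
    exact hf'

/-- If `R` is normal in `F` and some automizer of `F` is not a `p`-group then `NT p F R`. -/
theorem NT_of_isNormal {p : ℕ} {F : FusionSystem S} {R : Subgroup Ω} (hR : F.IsNormal R)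
    (h : ¬ AllP p F) : NT p F R := by
  unfold AllP at h
  push Not at h
  obtain ⟨P, f, hf, hnp⟩ := h
  obtain ⟨g, hg, hgf, hgR⟩ := isNormal_exists_ext hR hf
  have hPS := hf.le_left
  refine ⟨P ⊔ R, g, le_sup_right, ?_, hg, fun x hx => hgR.map_mem hx, fun hp => hnp ?_⟩
  · rw [stronglyClosed_normalizerIn_eq (isNormal_stronglyClosed hR)]
    exact sup_le hPS hR.1
  · exact isPAut_congr' hf hgf (hp.mono le_sup_left)

end Cfsg.Agent.Lib.H26.Nil
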