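import Mathlib
import Cfsg.Agent.Lib.H26.NilTransport
import Cfsg.Agent.Lib.H25.NormalSeries
import Cfsg.Agent.S5080

set_option autoImplicit false

/-!
If `Q` is normal in a saturated fusion system `F` and every automorphism (in `F`) of a subgroup
containing `Q` which centralizes `Q` is a `p`-element, then `Q C_S(Q)` is normal in `F`
(helper26).
-/

namespace Cfsg.Agent.Lib.H26.Nil

open Cfsg Cfsg.FusionSystem Cfsg.Agent.Lib.H25

variable {Ω : Type*} [Group Ω] {S : Subgroup Ω}

/-- `S` normalizes `C_S(Q)` when it normalizes `Q`. -/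
theorem le_normalizer_centralizerIn [Finite S] {Q : Subgroup Ω}
    (hQn : S ≤ Subgroup.normalizer (Q : Set Ω)) :
    S ≤ Subgroup.normalizer (centralizerIn S Q : Set Ω) := by
  intro s hs
  have hfin : Finite (centralizerIn S Q) := finite_of_le S inf_le_left
  apply Cfsg.Agent.Lib.H25.mem_normalizer_of_conj_mem
  rintro c ⟨hcS, hcC⟩
  have hcS : c ∈ S := hcS
  have hcC : c ∈ Subgroup.centralizer (Q : Set Ω) := hcC
  refine ⟨S.mul_mem (S.mul_mem hs hcS) (S.inv_mem hs), ?_⟩
  show _ ∈ Subgroup.centralizer (Q : Set Ω)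
  rw [Subgroup.mem_centralizer_iff] at hcC ⊢
  intro q hq
  have hq' : s⁻¹ * q * s ∈ Q := by
    have := (Subgroup.mem_normalizer_iff.1 (hQn (S.inv_mem hs)) q).1 hq
    simpa using this
  have h1 := hcC _ hq'
  calc q * (s * c * s⁻¹) = s * ((s⁻¹ * q * s) * c) * s⁻¹ := by group
    _ = s * (c * (s⁻¹ * q * s)) * s⁻¹ := by rw [h1]
    _ = s * c * s⁻¹ * q := by group

/-- The automorphisms in the system of `T` which fix `Q` elementwise. -/
def fixAut (F : FusionSystem S) (Q T : Subgroup Ω) : Subgroup (MulAut T) where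
  carrier := {β | β ∈ F.autGroup T ∧ ∀ x : T, (x : Ω) ∈ Q → β x = x}
  one_mem' := ⟨Subgroup.one_mem _, fun _ _ => rfl⟩
  mul_mem' := by
    rintro a b ⟨ha, ha'⟩ ⟨hb, hb'⟩
    refine ⟨Subgroup.mul_mem _ ha hb, fun x hx => ?_⟩
    rw [MulAut.mul_apply, hb' x hx, ha' x hx]
  inv_mem' := by
    rintro a ⟨ha, ha'⟩
    refine ⟨Subgroup.inv_mem _ ha, fun x hx => ?_⟩
    have := ha' x hx
    calc a⁻¹ x = a⁻¹ (a x) := by rw [this]
      _ = x := by simp

theorem isNormal_sup_centralizer [Finite S] {p : ℕ} [Fact p.Prime] (hS : IsPGroup p S)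
    {F : FusionSystem S} (hF : F.IsSaturated p) {Q : Subgroup Ω} (hQ : F.IsNormal Q)
    (hstab : ∀ (P : Subgroup Ω) (f : Ω → Ω), IsIso F P P f → Q ≤ P → (∀ x ∈ Q, f x = x) →
      IsPAut p P f) :
    F.IsNormal (Q ⊔ centralizerIn S Q) := by
  have hQsc := isNormal_stronglyClosed hQ
  have hQS := hQ.1
  have hQn := stronglyClosed_le_normalizer hQsc
  apply isNormal_of_essential hS hF
  intro T hT
  have hTS : T ≤ S := le_of_eq_or_essential hT
  have hQT : Q ≤ T := by
    rcases hT with rfl | hess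
    · exact hQS
    · exact isNormal_le_of_centric_radical hS hQ hess.1 (Cfsg.Agent.S5080.result p hS F hF T hess)
  have hCT : centralizerIn S Q ≤ T := by
    rcases hT with rfl | hess
    · exact inf_le_left
    · have hc := hess.1
      have hr := Cfsg.Agent.S5080.result p hS F hF T hess
      refine le_of_centric_radical_of_normalizer hS inf_le_left
        (le_normalizer_centralizerIn hQn) hc hr (fixAut F Q T) (fun β hβ => hβ.1) ?_ ?_ ?_
      · -- normality of `fixAut`
        rintro α hα β ⟨hβ, hβ'⟩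
        refine ⟨Subgroup.mul_mem _ (Subgroup.mul_mem _ hα hβ) (Subgroup.inv_mem _ hα),
          fun x hx => ?_⟩
        have h1 : ((α⁻¹ x : T) : Ω) ∈ Q :=
          stronglyClosed_aut_mem hQsc hTS hQT (Subgroup.inv_mem _ hα) x hx
        show α (β (α⁻¹ x)) = x
        rw [hβ' _ h1]
        simp
      · -- `fixAut` is a `p`-group
        rintro ⟨β, hβ, hβ'⟩
        have hf := isIso_of_mem_autGroup F hTS hβ
        have hfix : ∀ x ∈ Q, ext1 (T.subtype.comp β.toMonoidHom) x = x := by
          intro x hx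
          rw [ext1_apply_mem _ (hQT hx)]
          show ((β ⟨x, hQT hx⟩ : T) : Ω) = x
          rw [hβ' ⟨x, hQT hx⟩ hx]
        obtain ⟨k, hk⟩ := hstab T _ hf hQT hfix
        refine ⟨k, Subtype.ext ?_⟩
        show β ^ (p ^ k) = 1
        ext x
        have hβ'' : ∀ x : T, ((β x : T) : Ω) = ext1 (T.subtype.comp β.toMonoidHom) x := fun x =>
          (ext1_apply (T.subtype.comp β.toMonoidHom) x).symm
        rw [aut_pow_apply hf hβ'' (p ^ k) x, hk x x.2]
        rfl
      · -- conjugations by elements of `N_{C_S(Q)}(T)`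
        rintro g ⟨hgS, hgC⟩ hgN
        have hgS : g ∈ S := hgS
        have hgC : g ∈ Subgroup.centralizer (Q : Set Ω) := hgC
        obtain ⟨β, hβ, hβg⟩ := exists_mem_autGroup_of_isIso F
          (isIso_conj_normalizer F hTS (⟨hgS, hgN⟩ : g ∈ normalizerIn S T))
        refine ⟨β, ⟨hβ, fun x hx => ?_⟩, hβg⟩
        apply Subtype.ext
        rw [hβg x]
        have := (Subgroup.mem_centralizer_iff.1 hgC) (x : Ω) hx
        rw [← this]
        group
  refine ⟨sup_le hQT hCT, fun α hα x hx => ?_⟩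
  have hf := isIso_of_mem_autGroup F hTS hα
  have hle : Q ⊔ centralizerIn S Q ≤ hf.pre (Q ⊔ centralizerIn S Q) := by
    apply sup_le
    · intro q hq
      refine ⟨hQT hq, (le_sup_left : Q ≤ Q ⊔ centralizerIn S Q) ?_⟩
      rw [ext1_apply_mem _ (hQT hq)]
      exact stronglyClosed_aut_mem hQsc hTS hQT hα ⟨q, hQT hq⟩ hq
    · rintro c ⟨hcS, hcC⟩
      have hcS : c ∈ S := hcS
      have hcC : c ∈ Subgroup.centralizer (Q : Set Ω) := hcC
      have hcT : c ∈ T := hCT ⟨hcS, hcC⟩
      refine ⟨hcT, (le_sup_right : centralizerIn S Q ≤ Q ⊔ centralizerIn S Q) ?_⟩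
      refine ⟨hTS (hf.map_mem hcT), ?_⟩
      show _ ∈ Subgroup.centralizer (Q : Set Ω)
      rw [Subgroup.mem_centralizer_iff]
      intro q hq
      -- `q = f q'` with `q' ∈ Q`
      have hfQ : IsIso F Q Q (ext1 (T.subtype.comp α.toMonoidHom)) :=
        stronglyClosed_isIso_self hQsc hf hQT
      obtain ⟨q', hq', rfl⟩ := hfQ.surjOn hq
      rw [← hf.map_mul (hQT hq') hcT, ← hf.map_mul hcT (hQT hq'),
        (Subgroup.mem_centralizer_iff.1 hcC) q' hq']
  have := (hle hx).2
  rwa [ext1_apply_mem _ x.2] at this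

/-- A subgroup normal in the system containing its centralizer in `S` is centric. -/
theorem isCentric_of_isNormal [Finite S] {F : FusionSystem S} {Q : Subgroup Ω}
    (hQ : F.IsNormal Q) (hC : centralizerIn S Q ≤ Q) : F.IsCentric Q := by
  refine ⟨hQ.1, fun Q' hQ' => ?_⟩
  obtain ⟨f, hf⟩ := (isConj_iff F).1 hQ'
  have := stronglyClosed_isIso_self (isNormal_stronglyClosed hQ) hf le_rfl
  have hQQ' : Q' = Q := by
    ext y
    constructor
    · intro hy
      obtain ⟨x, hx, rfl⟩ := hf.surjOn hy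
      exact this.map_mem hx
    · intro hy
      obtain ⟨x, hx, rfl⟩ := this.surjOn hy
      exact hf.map_mem hx
  rw [hQQ']
  exact hC

end Cfsg.Agent.Lib.H26.Nil
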