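import Mathlib
import Cfsg.Agent.Lib.H26.ModelMain

set_option autoImplicit false
set_option linter.unusedSectionVars false
set_option linter.unusedVariables false

/-!
Abstract models of an `Amb` and their uniqueness (helper26).
-/

namespace Cfsg.Agent.Lib.H26.Model

universe u v x w w'

variable {S : Type u} {A : Type v} {Q : Type x} [Group S] [Group A] [Group Q]

open scoped IsMulCommutative

/-- An abstract model of the ambient data. -/
structure AModel (𝔄 : Amb S A Q) (G : Type w) [Group G] where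
  ι : S →* G
  π : G →* A
  ι_inj : Function.Injective ι
  π_surj : Function.Surjective π
  πι : ∀ s, π (ι s) = 𝔄.c s
  ker : ∀ g, π g = 1 → ∃ s ∈ 𝔄.c.ker, ι s = g
  conj : ∀ g q, g * ι (𝔄.j q) * g⁻¹ = ι (𝔄.j (𝔄.act (π g) q))
  fam : ∀ (g : G) (V : Subgroup S) (φ : S → S), (∀ v ∈ V, g * ι v * g⁻¹ = ι (φ v)) → 𝔄.Fam V φ

namespace AModel

variable {𝔄 : Amb S A Q} {G : Type w} [Group G] (M : AModel 𝔄 G)

/-- The torsor biset of a model: the group itself. -/
abbrev toTB : TB.{u, v, w} 𝔄.c where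
  Y := G
  lm s g := M.ι s * g
  rm g s := g * M.ι s
  θ := M.π
  lm_one y := by rw [map_one, one_mul]
  lm_mul s t y := by rw [map_mul, mul_assoc]
  rm_one y := by rw [map_one, mul_one]
  rm_mul y s t := by rw [map_mul, mul_assoc]
  lm_rm s y t := by rw [mul_assoc]
  θ_lm s y := by rw [map_mul, M.πι]
  θ_rm y s := by rw [map_mul, M.πι]
  free y s h := by
    have h1 : M.ι s = 1 := mul_eq_left.1 h
    rw [← map_one M.ι] at h1
    exact M.ι_inj h1
  trans y y' h := by
    obtain ⟨s, hs⟩ := h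
    have h1 : M.π (y⁻¹ * y' * (M.ι s)⁻¹) = 1 := by
      rw [map_mul, map_mul, map_inv, map_inv, M.πι, hs]
      group
    obtain ⟨z, -, hz⟩ := M.ker _ h1
    refine ⟨z * s, ?_⟩
    rw [map_mul, hz]
    group
  surj := M.π_surj

@[simp] theorem toTB_lm (s : S) (g : G) : M.toTB.lm s g = M.ι s * g := rfl
@[simp] theorem toTB_rm (s : S) (g : G) : M.toTB.rm g s = g * M.ι s := rfl
@[simp] theorem toTB_θ (g : G) : M.toTB.θ g = M.π g := rfl

theorem toTB_Qcompat : M.toTB.Qcompat 𝔄 := by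
  intro q y
  show M.ι (𝔄.j q) * y = y * M.ι (𝔄.j (𝔄.act (M.π y)⁻¹ q))
  have := M.conj y⁻¹ q
  rw [map_inv, inv_inv] at this
  rw [← this]
  group

theorem toTB_Fcond : M.toTB.Fcond 𝔄 := by
  intro y
  apply M.fam y⁻¹
  intro v hv
  have := M.toTB.psi_spec hv
  rw [toTB_lm, toTB_rm] at this
  rw [inv_inv, mul_assoc, this]
  group

end AModel

end Cfsg.Agent.Lib.H26.Model
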