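import Mathlib
import Cfsg.Agent.Lib.H26.ModelAModel

set_option autoImplicit false
set_option linter.unusedSectionVars false
set_option linter.unusedVariables false

/-!
Uniqueness of abstract models of an `Amb` (helper26).
-/

namespace Cfsg.Agent.Lib.H26.Model

universe u v x w w'

variable {S : Type u} {A : Type v} {Q : Type x} [Group S] [Group A] [Group Q]

open scoped IsMulCommutative

section unique

variable {𝔄 : Amb S A Q} {G₁ : Type w} {G₂ : Type w'} [Group G₁] [Group G₂]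

/-- **Uniqueness of abstract models.** -/
theorem AModel.unique [Finite A] (M₁ : AModel 𝔄 G₁) (M₂ : AModel 𝔄 G₂)
    (hcop : (Nat.card (Subgroup.center Q)).Coprime (Nat.card (A ⧸ 𝔄.c.range)))
    (hid : 𝔄.Fam ⊤ id) :
    ∃ Φ : G₁ ≃* G₂, ∀ s, Φ (M₁.ι s) = M₂.ι s := by
  classical
  letI : Fintype (A ⧸ 𝔄.c.range) := Fintype.ofFinite _
  have hcop' : (Nat.card (Subgroup.center Q)).Coprime (Fintype.card (A ⧸ 𝔄.c.range)) := by
    rw [← Nat.card_eq_fintype_card]; exact hcop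
  have hida : ∀ q, id (𝔄.j q) = 𝔄.j (𝔄.act 1 q) := fun q => by rw [𝔄.act_one]; rfl
  obtain ⟨σ₀, hσr, hσθ, hσl⟩ := TB.exists_transport 𝔄 M₁.toTB_Qcompat M₁.toTB_Fcond
    M₂.toTB_Qcompat M₂.toTB_Fcond hid le_top hida
  obtain ⟨σ, hσ⟩ : ∃ σ : G₁ ≃ G₂, σ = σ₀ := ⟨σ₀, rfl⟩
  rw [← hσ] at hσr hσθ hσl
  have hσr' : ∀ (y : G₁) (s : S), σ (y * M₁.ι s) = σ y * M₂.ι s := hσr
  have hσθ' : ∀ y : G₁, M₂.π (σ y) = M₁.π y := fun y => by
    have := hσθ y
    rw [one_mul] at this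
    exact this
  have hσl' : ∀ (v : S) (y : G₁), σ (M₁.ι v * y) = M₂.ι v * σ y := fun v y =>
    hσl v (Subgroup.mem_top v) y
  -- `Λ : G₂ → Ĝ`
  let Λ : G₂ →* M₂.toTB.Ghat :=
    { toFun := fun g => ⟨(M₂.π g, Equiv.mulLeft g), fun y s => (mul_assoc g y (M₂.ι s)).symm,
        fun y => map_mul M₂.π g y⟩
      map_one' := by
        apply Subtype.ext
        apply Prod.ext
        · exact map_one M₂.π
        · apply Equiv.ext
          intro y
          exact one_mul y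
      map_mul' := fun g h => by
        apply Subtype.ext
        apply Prod.ext
        · exact map_mul M₂.π g h
        · apply Equiv.ext
          intro y
          exact mul_assoc g h y }
  -- `T : G₁ → Ĝ`
  let T : G₁ →* M₂.toTB.Ghat :=
    { toFun := fun g => ⟨(M₁.π g, (σ.symm.trans (Equiv.mulLeft g)).trans σ), by
        refine ⟨fun y s => ?_, fun y => ?_⟩
        · show σ (g * σ.symm (y * M₂.ι s)) = σ (g * σ.symm y) * M₂.ι s
          have h1 : σ.symm (y * M₂.ι s) = σ.symm y * M₁.ι s := by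
            apply σ.injective
            rw [Equiv.apply_symm_apply, hσr', Equiv.apply_symm_apply]
          rw [h1, ← mul_assoc, hσr']
        · show M₂.π (σ (g * σ.symm y)) = M₁.π g * M₂.π y
          rw [hσθ', map_mul, ← hσθ' (σ.symm y), Equiv.apply_symm_apply]⟩
      map_one' := by
        apply Subtype.ext
        apply Prod.ext
        · exact map_one M₁.π
        · apply Equiv.ext
          intro y
          show σ (1 * σ.symm y) = y
          rw [one_mul, Equiv.apply_symm_apply]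
      map_mul' := fun g h => by
        apply Subtype.ext
        apply Prod.ext
        · exact map_mul M₁.π g h
        · apply Equiv.ext
          intro y
          show σ (g * h * σ.symm y) = σ (g * σ.symm (σ (h * σ.symm y)))
          rw [Equiv.symm_apply_apply, mul_assoc] }
  have hΛι : ∀ s, Λ (M₂.ι s) = M₂.toTB.iotaHat s := by
    intro s
    apply Subtype.ext
    apply Prod.ext
    · exact M₂.πι s
    · apply Equiv.ext
      intro y
      rfl
  have hTι : ∀ s, T (M₁.ι s) = M₂.toTB.iotaHat s := by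
    intro s
    apply Subtype.ext
    apply Prod.ext
    · exact M₁.πι s
    · apply Equiv.ext
      intro y
      show σ (M₁.ι s * σ.symm y) = M₂.ι s * y
      rw [hσl', Equiv.apply_symm_apply]
  have hKle : TB.K 𝔄 M₂.toTB ≤ M₂.toTB.piHat.ker := fun k hk => hk.1
  haveI hKn : (TB.K 𝔄 M₂.toTB).Normal := TB.K_normal 𝔄 M₂.toTB
  let πbar : M₂.toTB.Ghat ⧸ TB.K 𝔄 M₂.toTB →* A := QuotientGroup.lift (TB.K 𝔄 M₂.toTB) M₂.toTB.piHat hKle
  let Ψ : G₂ →* M₂.toTB.Ghat ⧸ TB.K 𝔄 M₂.toTB := (QuotientGroup.mk' (TB.K 𝔄 M₂.toTB)).comp Λ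
  have hΨinj : Function.Injective Ψ := by
    rw [injective_iff_map_eq_one]
    intro g hg
    have hgK : Λ g ∈ TB.K 𝔄 M₂.toTB := (QuotientGroup.eq_one_iff _).1 hg
    have h1 : M₂.π g = 1 := hgK.1
    obtain ⟨s, hs, rfl⟩ := M₂.ker g h1
    rw [hΛι] at hgK
    rw [TB.eq_one_of_iotaHat_mem_K 𝔄 M₂.toTB M₂.toTB_Qcompat hcop' hgK, map_one]
  have hΨsurj : Function.Surjective Ψ := by
    intro x
    refine QuotientGroup.induction_on x (fun g' => ?_)
    obtain ⟨g, hg⟩ := M₂.π_surj g'.1.1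
    have h1 : (g' * (Λ g)⁻¹).1.1 = 1 := by
      show g'.1.1 * (M₂.π g)⁻¹ = 1
      rw [hg, mul_inv_cancel]
    obtain ⟨z, hz⟩ := TB.hat_ker 𝔄 M₂.toTB M₂.toTB_Qcompat hcop' _ h1
    refine ⟨(M₂.ι (𝔄.j z))⁻¹ * g, ?_⟩
    have hk : (QuotientGroup.mk (g' * (Λ g)⁻¹ * M₂.toTB.iotaHat (𝔄.j z)) :
        M₂.toTB.Ghat ⧸ TB.K 𝔄 M₂.toTB) = 1 := (QuotientGroup.eq_one_iff _).2 hz
    rw [QuotientGroup.mk_mul, QuotientGroup.mk_mul, QuotientGroup.mk_inv] at hk
    have h2 := eq_inv_of_mul_eq_one_left hk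
    show (QuotientGroup.mk (Λ ((M₂.ι (𝔄.j z))⁻¹ * g)) : M₂.toTB.Ghat ⧸ TB.K 𝔄 M₂.toTB) =
      QuotientGroup.mk g'
    rw [map_mul, map_inv, hΛι, QuotientGroup.mk_mul, QuotientGroup.mk_inv, ← h2]
    group
  let Ψe : G₂ ≃* M₂.toTB.Ghat ⧸ TB.K 𝔄 M₂.toTB := MulEquiv.ofBijective Ψ ⟨hΨinj, hΨsurj⟩
  let Φ₀ : G₁ →* G₂ := Ψe.symm.toMonoidHom.comp ((QuotientGroup.mk' (TB.K 𝔄 M₂.toTB)).comp T)
  have hΦΨ : ∀ g, Ψ (Φ₀ g) = QuotientGroup.mk (T g) := fun g => Ψe.apply_symm_apply _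
  have hΦι : ∀ s, Φ₀ (M₁.ι s) = M₂.ι s := by
    intro s
    apply hΨinj
    rw [hΦΨ, hTι, ← hΛι]
    rfl
  have hπΦ : ∀ g, M₂.π (Φ₀ g) = M₁.π g := by
    intro g
    have h1 : πbar (Ψ (Φ₀ g)) = M₂.π (Φ₀ g) := rfl
    have h2 : πbar (QuotientGroup.mk (T g)) = M₁.π g := rfl
    rw [← h1, hΦΨ, h2]
  have hinj : Function.Injective Φ₀ := by
    rw [injective_iff_map_eq_one]
    intro g hg
    have h1 : M₁.π g = 1 := by rw [← hπΦ, hg, map_one]
    obtain ⟨s, hs, rfl⟩ := M₁.ker g h1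
    rw [hΦι] at hg
    have : s = 1 := M₂.ι_inj (by rw [hg, map_one])
    rw [this, map_one]
  have hsurj : Function.Surjective Φ₀ := by
    intro g'
    obtain ⟨g, hg⟩ := M₁.π_surj (M₂.π g')
    have h1 : M₂.π ((Φ₀ g)⁻¹ * g') = 1 := by
      rw [map_mul, map_inv, hπΦ, hg, inv_mul_cancel]
    obtain ⟨s, hs, hs'⟩ := M₂.ker _ h1
    refine ⟨g * M₁.ι s, ?_⟩
    rw [map_mul, hΦι, hs', mul_inv_cancel_left]
  exact ⟨MulEquiv.ofBijective Φ₀ ⟨hinj, hsurj⟩, fun s => hΦι s⟩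

end unique

end Cfsg.Agent.Lib.H26.Model
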