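import Mathlib
import Cfsg.Agent.Lib.H26.ModelUnique
import Cfsg.Agent.Lib.H26.ModelExists
import Cfsg.Agent.Lib.H26.CentricExt
import Cfsg.Agent.Lib.H25.Basic

set_option autoImplicit false
set_option linter.unusedSectionVars false
set_option linter.unusedVariables false

/-!
Structure of an arbitrary model of a fusion system (helper26): `O_p(G)` is the image of `O_p(F)`,
and a model is an abstract model (`AModel`) of the ambient data of `O_p(F)`.
Consequence: **uniqueness of models**.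
-/

namespace Cfsg.Agent.Lib.H26.Model

open Cfsg Cfsg.FusionSystem Cfsg.Agent.Lib.H25

universe u w w'

variable {Ω : Type u} [Group Ω] {S : Subgroup Ω} {G : Type w} [Group G]

/-- The preimage in `Ω` of a subgroup `U` of `G` under `ι : S → G`. -/
def preSub (ι : S →* G) (U : Subgroup G) : Subgroup Ω := (U.comap ι).map S.subtype

theorem mem_preSub {ι : S →* G} {U : Subgroup G} {u : Ω} :
    u ∈ preSub ι U ↔ ∃ hu : u ∈ S, ι ⟨u, hu⟩ ∈ U := by
  constructor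
  · rintro ⟨x, hx, rfl⟩
    exact ⟨x.2, hx⟩
  · rintro ⟨hu, h⟩
    exact ⟨⟨u, hu⟩, h, rfl⟩

theorem preSub_le (ι : S →* G) (U : Subgroup G) : preSub ι U ≤ S := fun _ hu => (mem_preSub.1 hu).1

/-- Conjugation by `g`, read through `ι`, on a subgroup `P` whose image is conjugated into the
image of `S`. -/
theorem exists_conjMap {ι : S →* G} (hinj : Function.Injective ι) (g : G) {P : Subgroup Ω}
    (hP : P ≤ S) (hmem : ∀ x : P, g * ι ⟨x, hP x.2⟩ * g⁻¹ ∈ ι.range) :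
    ∃ φ : P →* Ω, ∀ x : P, ∃ h : φ x ∈ S, ι ⟨φ x, h⟩ = g * ι ⟨x, hP x.2⟩ * g⁻¹ := by
  obtain ⟨e, he⟩ : ∃ e : S ≃* ι.range, ∀ x, ((e x : ι.range) : G) = ι x :=
    ⟨MonoidHom.ofInjective hinj, fun x => MonoidHom.ofInjective_apply hinj⟩
  have hesymm : ∀ z : ι.range, ι (e.symm z) = z := by
    intro z
    rw [← he]
    simp
  refine ⟨S.subtype.comp (MonoidHom.mk'
    (fun x : P => e.symm ⟨g * ι ⟨x, hP x.2⟩ * g⁻¹, hmem x⟩) (fun a b => ?_)), fun x => ?_⟩
  · rw [← map_mul]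
    congr 1
    apply Subtype.ext
    show g * ι ⟨((a * b : P) : Ω), _⟩ * g⁻¹ =
      (g * ι ⟨a, hP a.2⟩ * g⁻¹) * (g * ι ⟨b, hP b.2⟩ * g⁻¹)
    have : (⟨((a * b : P) : Ω), hP (a * b).2⟩ : S) = ⟨a, hP a.2⟩ * ⟨b, hP b.2⟩ := rfl
    rw [this, map_mul]
    group
  · refine ⟨(e.symm ⟨g * ι ⟨x, hP x.2⟩ * g⁻¹, hmem x⟩).2, ?_⟩
    exact hesymm ⟨g * ι ⟨x, hP x.2⟩ * g⁻¹, hmem x⟩

section general

variable [Finite S] {p : ℕ} [Fact p.Prime] {F : FusionSystem S} {ι : S →* G}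

theorem pCore_normal' (p : ℕ) (G : Type*) [Group G] : (pCore p G).Normal :=
  Subgroup.sSup_normal _ (fun _ h => h.1)

theorem model_pCore_le_range (hM : F.IsModel p G ι) : pCore p G ≤ ι.range := by
  obtain ⟨hfinG, hreal, ⟨Tsyl, hTsyl⟩, hCU⟩ := hM
  rw [← hTsyl]
  exact (pCore_isPGroup p G).le_sylow_of_normal Tsyl

/-- The subgroup of `Ω` generated... the elements `x ∈ S` with `g ι(x) g⁻¹ ∈ ι(S)`. -/
def conjInSub (ι : S →* G) (g : G) : Subgroup Ω :=
  (ι.range.comap ((MulAut.conj g).toMonoidHom.comp ι)).map S.subtype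

theorem mem_conjInSub {g : G} {x : Ω} :
    x ∈ conjInSub ι g ↔ ∃ hx : x ∈ S, g * ι ⟨x, hx⟩ * g⁻¹ ∈ ι.range := by
  constructor
  · rintro ⟨x, hx, rfl⟩
    exact ⟨x.2, hx⟩
  · rintro ⟨hu, h⟩
    exact ⟨⟨x, hu⟩, h, rfl⟩

/-- The preimage of `O_p(G)` is normal in the system. -/
theorem model_preSub_isNormal (hM : F.IsModel p G ι) : F.IsNormal (preSub ι (pCore p G)) := by
  have hUT := model_pCore_le_range hM
  obtain ⟨hfinG, hreal, -, hCU⟩ := hM
  have hinj := hreal.1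
  have hUn : (pCore p G).Normal := pCore_normal' p G
  refine ⟨preSub_le _ _, fun P φ hφ => ?_⟩
  have hPS : P ≤ S := hom_le F hφ
  have hφS : ∀ x, φ x ∈ S := fun x => hom_mem_S F hφ x
  obtain ⟨g, hg⟩ := (hreal.2 P hPS φ hφS).1 hφ
  have hsupS : P ⊔ preSub ι (pCore p G) ≤ S := sup_le hPS (preSub_le _ _)
  have hsupK : P ⊔ preSub ι (pCore p G) ≤ conjInSub ι g := by
    apply sup_le
    · intro x hx
      exact mem_conjInSub.2 ⟨hPS hx, ⟨⟨φ ⟨x, hx⟩, hφS _⟩, hg ⟨x, hx⟩⟩⟩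
    · intro x hx
      obtain ⟨hxS, hxU⟩ := mem_preSub.1 hx
      exact mem_conjInSub.2 ⟨hxS, hUT (hUn.conj_mem _ hxU g)⟩
  have hmem : ∀ x : ↥(P ⊔ preSub ι (pCore p G)), g * ι ⟨x, hsupS x.2⟩ * g⁻¹ ∈ ι.range :=
    fun x => (mem_conjInSub.1 (hsupK x.2)).2
  obtain ⟨ψ, hψ⟩ := exists_conjMap hinj g hsupS hmem
  have hψS : ∀ x, ψ x ∈ S := fun x => (hψ x).1
  have hψι : ∀ x, ι ⟨ψ x, hψS x⟩ = g * ι ⟨x, hsupS x.2⟩ * g⁻¹ := fun x => (hψ x).2
  refine ⟨ψ, (hreal.2 _ hsupS ψ hψS).2 ⟨g, hψι⟩, fun x => ?_, ?_⟩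
  · have h1 := hψι (Subgroup.inclusion le_sup_left x)
    have h2 := hg x
    have h3 : (⟨ψ (Subgroup.inclusion le_sup_left x), hψS _⟩ : S) = ⟨φ x, hφS x⟩ := by
      apply hinj
      rw [h1, h2]
      rfl
    exact congrArg Subtype.val h3
  · ext y
    constructor
    · rintro ⟨x, hx, rfl⟩
      have hx' : (x : Ω) ∈ preSub ι (pCore p G) := Subgroup.mem_subgroupOf.1 hx
      obtain ⟨hxS, hxU⟩ := mem_preSub.1 hx'
      refine mem_preSub.2 ⟨hψS x, ?_⟩
      rw [hψι x]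
      exact hUn.conj_mem _ hxU g
    · intro hy
      obtain ⟨hyS, hyU⟩ := mem_preSub.1 hy
      have h1 : g⁻¹ * ι ⟨y, hyS⟩ * g⁻¹⁻¹ ∈ pCore p G := hUn.conj_mem _ hyU g⁻¹
      obtain ⟨x, hx⟩ := hUT h1
      have hxU : (x : Ω) ∈ preSub ι (pCore p G) := mem_preSub.2 ⟨x.2, by
        rw [show (⟨(x : Ω), x.2⟩ : S) = x from rfl, hx]; exact h1⟩
      have hxsup : (x : Ω) ∈ P ⊔ preSub ι (pCore p G) := (le_sup_right : _ ≤ P ⊔ _) hxU
      refine ⟨⟨x, hxsup⟩, Subgroup.mem_subgroupOf.2 hxU, ?_⟩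
      have h2 := hψι ⟨x, hxsup⟩
      have h3 : (⟨ψ ⟨x, hxsup⟩, hψS _⟩ : S) = ⟨y, hyS⟩ := by
        apply hinj
        rw [h2, show (⟨((⟨(x : Ω), hxsup⟩ : ↥(P ⊔ preSub ι (pCore p G))) : Ω), hsupS hxsup⟩ : S) = x
          from rfl, hx]
        group
      exact congrArg Subtype.val h3

/-- In a model, the image of a subgroup normal in the system is a normal subgroup. -/
theorem model_map_normal (hM : F.IsModel p G ι) {R : Subgroup Ω} (hRn : F.IsNormal R) :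
    ((R.subgroupOf S).map ι).Normal := by
  have hUT := model_pCore_le_range hM
  obtain ⟨hfinG, hreal, -, hCU⟩ := hM
  have hinj := hreal.1
  have hRS := hRn.1
  have hUn : (pCore p G).Normal := pCore_normal' p G
  have hU₀S : preSub ι (pCore p G) ≤ S := preSub_le _ _
  have hRnorm : S ≤ Subgroup.normalizer (R : Set Ω) :=
    stronglyClosed_le_normalizer (isNormal_stronglyClosed hRn)
  constructor
  rintro _ ⟨r, hr, rfl⟩ g
  have hrR : (r : Ω) ∈ R := Subgroup.mem_subgroupOf.1 hr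
  have hmemU : ∀ x : ↥(preSub ι (pCore p G)), g * ι ⟨x, hU₀S x.2⟩ * g⁻¹ ∈ ι.range := by
    intro x
    obtain ⟨hu, h⟩ := mem_preSub.1 x.2
    exact hUT (hUn.conj_mem _ h g)
  obtain ⟨φg, hφg⟩ := exists_conjMap hinj g hU₀S hmemU
  have hφgT : ∀ x, φg x ∈ S := fun x => (hφg x).1
  have hφgι : ∀ x, ι ⟨φg x, hφgT x⟩ = g * ι ⟨x, hU₀S x.2⟩ * g⁻¹ := fun x => (hφg x).2
  have hφgE : φg ∈ F.Hom (preSub ι (pCore p G)) := (hreal.2 _ hU₀S φg hφgT).2 ⟨g, hφgι⟩
  obtain ⟨ψ, hψ, hψφ, hψR⟩ := hRn.2 _ φg hφgE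
  have hψT : ∀ x, ψ x ∈ S := fun x => hom_mem_S F hψ x
  have hsupT : preSub ι (pCore p G) ⊔ R ≤ S := sup_le hU₀S hRS
  obtain ⟨h, hh⟩ := (hreal.2 _ hsupT ψ hψT).1 hψ
  have hcent : h⁻¹ * g ∈ Subgroup.centralizer ((pCore p G : Subgroup G) : Set G) := by
    rw [Subgroup.mem_centralizer_iff]
    intro y hy
    obtain ⟨s, rfl⟩ := hUT hy
    have hsU₀ : (s : Ω) ∈ preSub ι (pCore p G) := mem_preSub.2 ⟨s.2, hy⟩
    have h1 := hh ⟨s, (le_sup_left : _ ≤ preSub ι (pCore p G) ⊔ R) hsU₀⟩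
    have h2 := hψφ ⟨s, hsU₀⟩
    have h3 := hφgι ⟨s, hsU₀⟩
    have h4 : (⟨ψ ⟨s, (le_sup_left : _ ≤ preSub ι (pCore p G) ⊔ R) hsU₀⟩, hψT _⟩ : S) =
        ⟨φg ⟨s, hsU₀⟩, hφgT _⟩ := Subtype.ext h2
    rw [h4, h3] at h1
    have h5 : g * ι s * g⁻¹ = h * ι s * h⁻¹ := h1
    calc ι s * (h⁻¹ * g) = h⁻¹ * (h * ι s * h⁻¹) * g := by group
      _ = h⁻¹ * (g * ι s * g⁻¹) * g := by rw [h5]
      _ = h⁻¹ * g * ι s := by group
  obtain ⟨s, hs⟩ := hUT (hCU hcent)
  have hsr : (s : Ω) * r * (s : Ω)⁻¹ ∈ R := (Subgroup.mem_normalizer_iff.1 (hRnorm s.2) r).1 hrR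
  have hsrsup : (s : Ω) * r * (s : Ω)⁻¹ ∈ preSub ι (pCore p G) ⊔ R := (le_sup_right : R ≤ _) hsr
  have h6 := hh ⟨_, hsrsup⟩
  have hψR' : ψ ⟨_, hsrsup⟩ ∈ R := by
    have : ψ ⟨_, hsrsup⟩ ∈ (R.subgroupOf (preSub ι (pCore p G) ⊔ R)).map ψ :=
      ⟨_, Subgroup.mem_subgroupOf.2 hsr, rfl⟩
    exact hψR.le this
  refine ⟨⟨ψ ⟨_, hsrsup⟩, hψT _⟩, Subgroup.mem_subgroupOf.2 hψR', ?_⟩
  rw [h6]
  have h7 : (⟨(s : Ω) * r * (s : Ω)⁻¹, hsupT hsrsup⟩ : S) = s * r * s⁻¹ := rfl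
  rw [h7, map_mul, map_mul, map_inv, hs]
  group

/-- In a model, `O_p(F)` is the preimage of `O_p(G)`. -/
theorem model_core_eq (hS : IsPGroup p S) (hM : F.IsModel p G ι) :
    F.core = preSub ι (pCore p G) := by
  apply le_antisymm
  · apply sSup_le
    intro R hR
    have hn := model_map_normal hM hR
    have hp : IsPGroup p ↥((R.subgroupOf S).map ι) :=
      (hS.to_subgroup (R.subgroupOf S)).map ι
    have hle := le_pCore hn hp
    intro x hx
    exact mem_preSub.2 ⟨hR.1 hx, hle ⟨⟨x, hR.1 hx⟩, Subgroup.mem_subgroupOf.2 hx, rfl⟩⟩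
  · exact le_sSup (model_preSub_isNormal hM)

theorem model_core_isNormal (hS : IsPGroup p S) (hM : F.IsModel p G ι) : F.IsNormal F.core := by
  rw [model_core_eq hS hM]
  exact model_preSub_isNormal hM

end general

section amodel

variable {p : ℕ} [Fact p.Prime] [Finite S] (hS : IsPGroup p S) {F : FusionSystem S}
  (hF : F.IsSaturated p) {Q : Subgroup Ω} (hQn : F.IsNormal Q) (hQc : F.IsCentric Q)
  {ι : S →* G} (hreal : F.IsRealizedBy ι)

/-- `Q → G` -/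
def jι (ι : S →* G) (hQS : Q ≤ S) : Q →* G := ι.comp (Subgroup.inclusion hQS)

theorem jι_apply (hQS : Q ≤ S) (q : Q) : jι ι hQS q = ι (Subgroup.inclusion hQS q) := rfl

include hreal in
theorem jι_injective (hQS : Q ≤ S) : Function.Injective (jι ι hQS) :=
  hreal.1.comp (Subgroup.inclusion_injective hQS)

/-- The action of `G` on `Q` in a group where the image of `Q` is normal. -/
noncomputable def piAut (hQS : Q ≤ S) (hinj : Function.Injective (jι ι hQS))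
    [hN : (jι ι hQS).range.Normal] : G →* MulAut Q :=
  (MulAut.congr (MonoidHom.ofInjective hinj).symm).toMonoidHom.comp
    (MulAut.conjNormal (H := (jι ι hQS).range))

theorem piAut_spec (hQS : Q ≤ S) (hinj : Function.Injective (jι ι hQS))
    [hN : (jι ι hQS).range.Normal] (g : G) (q : Q) :
    ι (Subgroup.inclusion hQS (piAut hQS hinj g q)) = g * ι (Subgroup.inclusion hQS q) * g⁻¹ := by
  have h1 : piAut hQS hinj g q = (MonoidHom.ofInjective hinj).symm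
      (MulAut.conjNormal (H := (jι ι hQS).range) g (MonoidHom.ofInjective hinj q)) := rfl
  have h2 : ∀ z : (jι ι hQS).range, jι ι hQS ((MonoidHom.ofInjective hinj).symm z) = z := by
    intro z
    rw [← MonoidHom.ofInjective_apply hinj]
    simp
  rw [← jι_apply, h1, h2, MulAut.conjNormal_apply, MonoidHom.ofInjective_apply]
  rfl

include hreal in
theorem piAut_mem (hQS : Q ≤ S) (hinj : Function.Injective (jι ι hQS))
    [hN : (jι ι hQS).range.Normal] (g : G) : piAut hQS hinj g ∈ F.autGroup Q := by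
  rw [mem_autGroup_iff F hQS]
  exact (hreal.2 Q hQS _ (fun x => hQS (piAut hQS hinj g x).2)).2
    ⟨g, fun x => piAut_spec hQS hinj g x⟩

include hreal in
theorem famF_of_conj (g : G) (V : Subgroup S) (φ : S → S)
    (h : ∀ v ∈ V, g * ι v * g⁻¹ = ι (φ v)) : FamF F V φ := by
  have hVS := map_subtype_le V
  have hmem : ∀ x : V.map S.subtype, g * ι ⟨x, hVS x.2⟩ * g⁻¹ ∈ ι.range := by
    rintro ⟨_, v, hv, rfl⟩
    exact ⟨φ v, (h v hv).symm⟩
  obtain ⟨ψ, hψ⟩ := exists_conjMap hreal.1 g hVS hmem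
  have hψS := fun x => (hψ x).1
  have hψι := fun x => (hψ x).2
  have hψF : ψ ∈ F.Hom _ := (hreal.2 _ hVS ψ hψS).2 ⟨g, hψι⟩
  refine ⟨ψ.range, (isIso_of_mem F hψF).congr ?_⟩
  rintro _ ⟨v, hv, rfl⟩
  show ext1 ψ (v : Ω) = liftFun φ (v : Ω)
  rw [ext1_apply_mem ψ (mem_map_subtype hv), liftFun_coe]
  have h2 := hψι ⟨v, mem_map_subtype hv⟩
  have h3 : (⟨ψ ⟨v, mem_map_subtype hv⟩, hψS _⟩ : S) = φ v := by
    apply hreal.1
    rw [h2]
    exact h v hv
  exact congrArg Subtype.val h3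

/-- A group realizing `F` in which the image of the normal centric `Q` is normal and
self-centralizing is an abstract model of the ambient data of `Q`. -/
noncomputable def amodelOf (hN : (jι ι hQn.1).range.Normal)
    (hcent : ∀ g : G, (∀ q : Q, g * ι (Subgroup.inclusion hQn.1 q) * g⁻¹ =
      ι (Subgroup.inclusion hQn.1 q)) → ∃ q : Q, ι (Subgroup.inclusion hQn.1 q) = g) :
    AModel (ambOf hS hF hQn hQc) G where
  ι := ι
  π := (piAut hQn.1 (jι_injective hreal hQn.1)).codRestrict (F.autGroup Q)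
    (fun g => piAut_mem hreal hQn.1 (jι_injective hreal hQn.1) g)
  ι_inj := hreal.1
  π_surj := by
    intro α
    have hQS := hQn.1
    obtain ⟨g, hg⟩ := (hreal.2 Q hQS (Q.subtype.comp (α : MulAut Q).toMonoidHom)
      (fun x => hQS ((α : MulAut Q) x).2)).1 ((mem_autGroup_iff F hQS _).1 α.2)
    refine ⟨g, ?_⟩
    apply Subtype.ext
    ext q
    have h1 := piAut_spec hQS (jι_injective hreal hQS) g q
    have h2 := hg q
    have h3 : Subgroup.inclusion hQS (piAut hQS (jι_injective hreal hQS) g q) =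
        ⟨((α : MulAut Q) q : Q), hQS ((α : MulAut Q) q).2⟩ := by
      apply hreal.1
      rw [h1]
      exact h2.symm
    exact congrArg (fun z : S => (z : Ω)) h3
  πι := by
    intro s
    have hQS := hQn.1
    apply Subtype.ext
    ext q
    have h1 := piAut_spec hQS (jι_injective hreal hQS) (ι s) q
    have h3 : Subgroup.inclusion hQS (piAut hQS (jι_injective hreal hQS) (ι s) q) =
        s * Subgroup.inclusion hQS q * s⁻¹ := by
      apply hreal.1
      rw [h1, map_mul, map_mul, map_inv]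
    exact congrArg (fun z : S => (z : Ω)) h3
  ker := by
    intro g hg
    have hQS := hQn.1
    have h0 : piAut hQS (jι_injective hreal hQS) g = 1 := congrArg Subtype.val hg
    have h1 : ∀ q : Q, g * ι (Subgroup.inclusion hQS q) * g⁻¹ = ι (Subgroup.inclusion hQS q) := by
      intro q
      rw [← piAut_spec hQS (jι_injective hreal hQS) g q, h0]
      rfl
    obtain ⟨q₀, hq₀⟩ := hcent g h1
    refine ⟨Subgroup.inclusion hQS q₀, ?_, hq₀⟩
    rw [MonoidHom.mem_ker]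
    apply Subtype.ext
    ext x
    show ((q₀ : Ω)) * x * ((q₀ : Ω))⁻¹ = x
    have h2 := h1 x
    rw [← hq₀, ← map_inv, ← map_mul, ← map_mul] at h2
    exact congrArg Subtype.val (hreal.1 h2)
  conj := by
    intro g q
    exact (piAut_spec hQn.1 (jι_injective hreal hQn.1) g q).symm
  fam := fun g V φ h => famF_of_conj hreal g V φ h

end amodel

section uniq

variable {p : ℕ} [Fact p.Prime] [Finite S] {F : FusionSystem S} {ι : S →* G}

theorem model_jι_range (hS : IsPGroup p S) (hM : F.IsModel p G ι) (hQS : F.core ≤ S) :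
    (jι ι hQS).range = pCore p G := by
  have hcore := model_core_eq hS hM
  have hUT := model_pCore_le_range hM
  ext x
  constructor
  · rintro ⟨q, rfl⟩
    have hq : (q : Ω) ∈ preSub ι (pCore p G) := hcore ▸ q.2
    exact (mem_preSub.1 hq).2
  · intro hx
    obtain ⟨s, rfl⟩ := hUT hx
    have hs : (s : Ω) ∈ F.core := by
      rw [hcore]
      exact mem_preSub.2 ⟨s.2, hx⟩
    exact ⟨⟨s, hs⟩, rfl⟩

theorem model_core_struct (hS : IsPGroup p S) (hM : F.IsModel p G ι) (hQS : F.core ≤ S) :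
    (jι ι hQS).range.Normal ∧ ∀ g : G, (∀ q : F.core, g * ι (Subgroup.inclusion hQS q) * g⁻¹ =
      ι (Subgroup.inclusion hQS q)) → ∃ q : F.core, ι (Subgroup.inclusion hQS q) = g := by
  have hr := model_jι_range hS hM hQS
  refine ⟨hr ▸ pCore_normal' p G, fun g hg => ?_⟩
  have hgc : g ∈ Subgroup.centralizer ((pCore p G : Subgroup G) : Set G) := by
    rw [Subgroup.mem_centralizer_iff]
    intro y hy
    rw [← hr] at hy
    obtain ⟨q, rfl⟩ := hy
    have := hg q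
    rw [jι_apply]
    calc ι (Subgroup.inclusion hQS q) * g
        = (g * ι (Subgroup.inclusion hQS q) * g⁻¹) * g := by rw [this]
      _ = g * ι (Subgroup.inclusion hQS q) := by group
  have h3 := hM.2.2.2 hgc
  rw [← hr] at h3
  obtain ⟨q, hq⟩ := h3
  exact ⟨q, hq⟩

/-- **Model theorem, uniqueness.** -/
theorem model_unique (hS : IsPGroup p S) (hF : F.IsConstrained p)
    {G₁ : Type w} {G₂ : Type w'} [Group G₁] [Group G₂] {ι₁ : S →* G₁} {ι₂ : S →* G₂}
    (h₁ : F.IsModel p G₁ ι₁) (h₂ : F.IsModel p G₂ ι₂) :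
    ∃ φ : G₁ ≃* G₂, ∀ x : S, φ (ι₁ x) = ι₂ x := by
  obtain ⟨hsat, Q', hQ'n, hQ'c⟩ := hF
  have hQn : F.IsNormal F.core := model_core_isNormal hS h₁
  have hQS := hQn.1
  have hQc : F.IsCentric F.core := isCentric_of_le hQ'c (le_sSup hQ'n) hQS
  obtain ⟨hN₁, hc₁⟩ := model_core_struct hS h₁ hQS
  obtain ⟨hN₂, hc₂⟩ := model_core_struct hS h₂ hQS
  have hfinQ : Finite F.core := finite_of_le S hQS
  have hfinA : Finite ↥(F.autGroup F.core) := inferInstance
  have hid : (ambOf hS hsat hQn hQc).Fam ⊤ id :=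
    famF_congr (famF_conj F ⊤ 1) (fun v _ => by simp)
  exact AModel.unique (amodelOf hS hsat hQn hQc h₁.2.1 hN₁ hc₁)
    (amodelOf hS hsat hQn hQc h₂.2.1 hN₂ hc₂) (ambOf_coprime hS hsat hQn hQc) hid

end uniq

end Cfsg.Agent.Lib.H26.Model
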