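import Mathlib
import Cfsg.Agent.Lib.H26.ModelStruct

set_option autoImplicit false
set_option linter.unusedSectionVars false
set_option linter.unusedVariables false

/-!
Realization passes to the quotient by a normal `p'`-subgroup; a system with a model is constrained
(helper26).
-/

namespace Cfsg.Agent.Lib.H26.Model

open Cfsg Cfsg.FusionSystem Cfsg.Agent.Lib.H25

universe u w

variable {Ω : Type u} [Group Ω] {S : Subgroup Ω} {G : Type w} [Group G]

section quotient

variable {p : ℕ} [Fact p.Prime] [Finite S] {F : FusionSystem S} {ι : S →* G}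

/-- Realization passes to the quotient by a normal subgroup of order prime to `p`. -/
theorem realizedBy_quotient [Finite G] (hS : IsPGroup p S) (hreal : F.IsRealizedBy ι)
    (K : Subgroup G) [hK : K.Normal] (hKp : (Nat.card K).Coprime p) :
    F.IsRealizedBy ((QuotientGroup.mk' K).comp ι) := by
  have hp : p.Prime := Fact.out
  have hinj := hreal.1
  -- the image of `S` meets `K` trivially
  have hdisj : ∀ s : S, ι s ∈ K → s = 1 := by
    intro s hs
    obtain ⟨k, hk⟩ := hS s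
    have h1 : (ι s) ^ (p ^ k) = 1 := by rw [← map_pow, hk, map_one]
    have h2 : orderOf (ι s) ∣ p ^ k := orderOf_dvd_of_pow_eq_one h1
    have h3 : orderOf (ι s) ∣ Nat.card K := by
      have : orderOf (⟨ι s, hs⟩ : K) ∣ Nat.card K := orderOf_dvd_natCard _
      rwa [← Subgroup.orderOf_coe] at this
    have h4 : orderOf (ι s) = 1 := by
      exact Nat.eq_one_of_dvd_coprimes (Nat.Coprime.pow_right k hKp) h3 h2
    have h5 : ι s = 1 := orderOf_eq_one_iff.1 h4
    exact hinj (by rw [h5, map_one])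
  refine ⟨?_, fun P hP φ hφ => ?_⟩
  · intro a b hab
    have h1 : (QuotientGroup.mk' K) (ι a) = (QuotientGroup.mk' K) (ι b) := hab
    have h2 : (ι a)⁻¹ * ι b ∈ K := QuotientGroup.eq.1 h1
    rw [← map_inv, ← map_mul] at h2
    have := hdisj _ h2
    exact inv_mul_eq_one.1 this
  · constructor
    · intro h
      obtain ⟨g, hg⟩ := (hreal.2 P hP φ hφ).1 h
      refine ⟨QuotientGroup.mk' K g, fun x => ?_⟩
      show (QuotientGroup.mk' K) (ι ⟨φ x, hφ x⟩) = (QuotientGroup.mk' K) g *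
        (QuotientGroup.mk' K) (ι ⟨x, hP x.2⟩) * ((QuotientGroup.mk' K) g)⁻¹
      rw [hg x, map_mul, map_mul, map_inv]
    · rintro ⟨gbar, hgbar⟩
      obtain ⟨g, rfl⟩ := QuotientGroup.mk'_surjective K gbar
      -- `g ι(x) g⁻¹ ∈ ι(φ x) K`
      have hmod : ∀ x : P, (ι ⟨φ x, hφ x⟩)⁻¹ * (g * ι ⟨x, hP x.2⟩ * g⁻¹) ∈ K := by
        intro x
        apply QuotientGroup.eq.1
        have h := hgbar x
        have e : (QuotientGroup.mk' K) g * ((QuotientGroup.mk' K).comp ι) ⟨x, hP x.2⟩ *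
            ((QuotientGroup.mk' K) g)⁻¹ = (QuotientGroup.mk' K) (g * ι ⟨x, hP x.2⟩ * g⁻¹) := by
          rw [map_mul, map_mul, map_inv]; rfl
        exact h.trans e
      -- the two `p`-subgroups
      obtain ⟨P₁, hP₁⟩ : ∃ P₁ : Subgroup G, P₁ = ((P.subgroupOf S).map ι).map
        (MulAut.conj g).toMonoidHom := ⟨_, rfl⟩
      obtain ⟨P₂, hP₂⟩ : ∃ P₂ : Subgroup G, P₂ = ι.range := ⟨_, rfl⟩
      have hmemP₁ : ∀ x : P, g * ι ⟨x, hP x.2⟩ * g⁻¹ ∈ P₁ := by
        intro x
        rw [hP₁]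
        exact ⟨ι ⟨x, hP x.2⟩, ⟨⟨x, hP x.2⟩, Subgroup.mem_subgroupOf.2 x.2, rfl⟩, rfl⟩
      have hP₁p : IsPGroup p P₁ := by
        rw [hP₁]
        exact ((hS.to_subgroup _).map ι).map _
      have hP₂p : IsPGroup p P₂ := by
        rw [hP₂]
        exact hS.of_surjective ι.rangeRestrict ι.rangeRestrict_surjective
      have hP₁le : P₁ ≤ P₂ ⊔ K := by
        rw [hP₁]
        rintro _ ⟨_, ⟨x, hx, rfl⟩, rfl⟩
        have hxP : (x : Ω) ∈ P := Subgroup.mem_subgroupOf.1 hx
        have h1 := hmod ⟨x, hxP⟩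
        have h2 : (MulAut.conj g).toMonoidHom (ι x) =
            ι ⟨φ ⟨x, hxP⟩, hφ _⟩ * ((ι ⟨φ ⟨x, hxP⟩, hφ _⟩)⁻¹ * (g * ι x * g⁻¹)) := by
          show g * ι x * g⁻¹ = _
          group
        rw [h2]
        exact Subgroup.mul_mem _ (Subgroup.mem_sup_left (hP₂ ▸ ⟨_, rfl⟩))
          (Subgroup.mem_sup_right h1)
      -- Sylow's theorem inside `P₂ K`
      obtain ⟨M, hM⟩ : ∃ M : Subgroup G, M = P₂ ⊔ K := ⟨_, rfl⟩
      have hP₂M : P₂ ≤ M := hM ▸ le_sup_left
      have hKM : K ≤ M := hM ▸ le_sup_right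
      have hP₁M : P₁ ≤ M := hM ▸ hP₁le
      have hdis2 : Disjoint P₂ K := by
        rw [Subgroup.disjoint_def]
        intro y hy hyK
        rw [hP₂] at hy
        obtain ⟨s, rfl⟩ := hy
        rw [hdisj s hyK, map_one]
      -- `P₂` is a Sylow subgroup of `M`
      have hidx : ¬ p ∣ (P₂.subgroupOf M).index := by
        have h1 : (P₂.subgroupOf M).index = P₂.relIndex M := rfl
        have e1 : Nat.card P₂ * P₂.relIndex M = Nat.card M := by
          have := Subgroup.relIndex_mul_relIndex ⊥ P₂ M bot_le hP₂M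
          rwa [Subgroup.relIndex_bot_left, Subgroup.relIndex_bot_left] at this
        have e2 : Nat.card K * K.relIndex M = Nat.card M := by
          have := Subgroup.relIndex_mul_relIndex ⊥ K M bot_le hKM
          rwa [Subgroup.relIndex_bot_left, Subgroup.relIndex_bot_left] at this
        have e3 : K.relIndex M = Nat.card P₂ := by
          rw [hM, Subgroup.relIndex_sup_right]
          show (K.subgroupOf P₂).index = _
          rw [Subgroup.subgroupOf_eq_bot.2 hdis2.symm, Subgroup.index_bot]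
        have hpos : 0 < Nat.card P₂ := Nat.card_pos
        have e4 : P₂.relIndex M = Nat.card K := by
          rw [e3, ← e1, mul_comm] at e2
          exact (Nat.eq_of_mul_eq_mul_left hpos e2).symm
        rw [h1, e4]
        exact (Nat.Prime.coprime_iff_not_dvd hp).1 hKp.symm
      obtain ⟨T₂, hT₂⟩ : ∃ T₂ : Sylow p M, (T₂ : Subgroup M) = P₂.subgroupOf M :=
        ⟨(hP₂p.comap_subtype (K := M)).toSylow hidx, IsPGroup.toSylow_coe _ _⟩
      obtain ⟨T₁, hT₁⟩ := (hP₁p.comap_subtype (K := M)).exists_le_sylow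
      obtain ⟨m, hm⟩ := MulAction.exists_smul_eq M T₁ T₂
      -- write `m = y k` with `y ∈ P₂`, `k ∈ K`
      have hmem : (m : G) ∈ P₂ ⊔ K := hM ▸ m.2
      rw [Subgroup.mem_sup_of_normal_right] at hmem
      obtain ⟨y, hy, k, hk, hyk⟩ := hmem
      -- `k` conjugates `P₁` into `P₂`
      have hkP₁ : ∀ z ∈ P₁, k * z * k⁻¹ ∈ P₂ := by
        intro z hz
        have hz1 : (⟨z, hP₁M hz⟩ : M) ∈ (T₁ : Subgroup M) := hT₁ (Subgroup.mem_subgroupOf.2 hz)
        have hz2 : m * ⟨z, hP₁M hz⟩ * m⁻¹ ∈ (T₂ : Subgroup M) := by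
          rw [← hm, Sylow.coe_subgroup_smul]
          exact ⟨⟨z, hP₁M hz⟩, hz1, rfl⟩
        rw [hT₂, Subgroup.mem_subgroupOf] at hz2
        have hz3 : (m : G) * z * (m : G)⁻¹ ∈ P₂ := hz2
        rw [← hyk] at hz3
        have : k * z * k⁻¹ = y⁻¹ * (y * k * z * (y * k)⁻¹) * y := by group
        rw [this]
        exact P₂.mul_mem (P₂.mul_mem (P₂.inv_mem hy) hz3) hy
      -- `k g` realizes `φ`
      refine (hreal.2 P hP φ hφ).2 ⟨k * g, fun x => ?_⟩
      have h1 := hkP₁ _ (hmemP₁ x)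
      rw [hP₂] at h1
      obtain ⟨s, hs⟩ := h1
      have h2 : k * g * ι ⟨x, hP x.2⟩ * (k * g)⁻¹ = k * (g * ι ⟨x, hP x.2⟩ * g⁻¹) * k⁻¹ := by group
      rw [h2, ← hs]
      congr 1
      -- `s` and `φ x` agree modulo `K`, hence agree
      have h3 : (ι ⟨φ x, hφ x⟩)⁻¹ * ι s ∈ K := by
        rw [hs]
        have h4 := hmod x
        have h5 : (ι ⟨φ x, hφ x⟩)⁻¹ * (k * (g * ι ⟨x, hP x.2⟩ * g⁻¹) * k⁻¹) =
            ((ι ⟨φ x, hφ x⟩)⁻¹ * k * ι ⟨φ x, hφ x⟩) *
              ((ι ⟨φ x, hφ x⟩)⁻¹ * (g * ι ⟨x, hP x.2⟩ * g⁻¹)) *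
              (k⁻¹) := by group
        rw [h5]
        refine K.mul_mem (K.mul_mem ?_ h4) (K.inv_mem hk)
        have := hK.conj_mem k hk (ι ⟨φ x, hφ x⟩)⁻¹
        rwa [inv_inv] at this
      rw [← map_inv, ← map_mul] at h3
      have h6 := hdisj _ h3
      exact (inv_mul_eq_one.1 h6)

/-- The image of a Sylow subgroup in a quotient is a Sylow subgroup. -/
theorem sylow_quotient [Finite G] (hS : IsPGroup p S) (T : Sylow p G)
    (hT : (T : Subgroup G) = ι.range) (K : Subgroup G) [K.Normal] :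
    ∃ T' : Sylow p (G ⧸ K), (T' : Subgroup (G ⧸ K)) = ((QuotientGroup.mk' K).comp ι).range := by
  have hp' : IsPGroup p ↥(((QuotientGroup.mk' K).comp ι).range) :=
    hS.of_surjective ((QuotientGroup.mk' K).comp ι).rangeRestrict
      ((QuotientGroup.mk' K).comp ι).rangeRestrict_surjective
  have hr : ((QuotientGroup.mk' K).comp ι).range = (T : Subgroup G).map (QuotientGroup.mk' K) := by
    rw [hT, MonoidHom.range_comp]
  have hidx : ¬ p ∣ (((QuotientGroup.mk' K).comp ι).range).index := by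
    rw [hr]
    intro h
    exact T.not_dvd_index (h.trans (Subgroup.index_map_dvd _ (QuotientGroup.mk'_surjective K)))
  exact ⟨hp'.toSylow hidx, IsPGroup.toSylow_coe _ _⟩

end quotient

section constrained

variable {p : ℕ} [Fact p.Prime] [Finite S] {F : FusionSystem S} {ι : S →* G}

/-- In a model, the preimage of `O_p(G)` is centric. -/
theorem model_preSub_isCentric (hM : F.IsModel p G ι) : F.IsCentric (preSub ι (pCore p G)) := by
  have hn := model_preSub_isNormal hM
  have hsc := isNormal_stronglyClosed hn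
  have hUT := model_pCore_le_range hM
  obtain ⟨hfinG, hreal, -, hCU⟩ := hM
  refine ⟨hn.1, fun Q' hQ' => ?_⟩
  obtain ⟨f, hf⟩ := (isConj_iff F).1 hQ'
  have hle : Q' ≤ preSub ι (pCore p G) := stronglyClosed_image_le hsc hf le_rfl
  have hcard := hf.card_eq
  have hfin : Finite ↥(preSub ι (pCore p G)) := finite_of_le S hn.1
  have hQ'eq : Q' = preSub ι (pCore p G) := by
    apply le_antisymm hle
    intro x hx
    have h2 : (Q'.subgroupOf (preSub ι (pCore p G))) = ⊤ := by
      apply (Subgroup.card_eq_iff_eq_top _).1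
      rw [hcard]
      exact Nat.card_congr (Subgroup.subgroupOfEquivOfLe hle).toEquiv
    have : (⟨x, hx⟩ : ↥(preSub ι (pCore p G))) ∈ Q'.subgroupOf (preSub ι (pCore p G)) := by
      rw [h2]; trivial
    exact Subgroup.mem_subgroupOf.1 this
  rw [hQ'eq]
  rintro x ⟨hxS, hxC⟩
  refine mem_preSub.2 ⟨hxS, hCU ?_⟩
  rw [Subgroup.mem_centralizer_iff]
  intro y hy
  obtain ⟨s, rfl⟩ := hUT hy
  have hsq : (s : Ω) ∈ preSub ι (pCore p G) := mem_preSub.2 ⟨s.2, hy⟩
  have h1 : (s : Ω) * x = x * s := (Subgroup.mem_centralizer_iff.1 hxC) s hsq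
  have h2 : s * ⟨x, hxS⟩ = ⟨x, hxS⟩ * s := Subtype.ext h1
  rw [← map_mul, h2, map_mul]

theorem isConstrained_of_isModel (hF : F.IsSaturated p) (hM : F.IsModel p G ι) :
    F.IsConstrained p :=
  ⟨hF, _, model_preSub_isNormal hM, model_preSub_isCentric hM⟩

end constrained

end Cfsg.Agent.Lib.H26.Model
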