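import Mathlib
import Cfsg.Agent.Lib.H26.ModelQuotient
import Cfsg.Agent.Lib.H25.NormalizerSystem
import Cfsg.Agent.Lib.H25.KNormSpecial

set_option autoImplicit false
set_option linter.unusedSectionVars false
set_option linter.unusedVariables false

/-!
The canonical map `G → Aut_F(Q)` of an arbitrary model, and the radical criterion (helper26).
-/

namespace Cfsg.Agent.Lib.H26.Model

open Cfsg Cfsg.FusionSystem Cfsg.Agent.Lib.H25

universe u w

variable {Ω : Type u} [Group Ω] {S : Subgroup Ω} {G : Type w} [Group G]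

section pi

variable {p : ℕ} [Fact p.Prime] [Finite S] {F : FusionSystem S} {ι : S →* G} {Q : Subgroup Ω}

/-- Every model of a saturated system with a normal centric subgroup `Q` carries the canonical
surjection onto `Aut_F(Q)` with kernel `ι(Z(Q))`. -/
theorem model_pi (hS : IsPGroup p S) (hF : F.IsSaturated p) (hQn : F.IsNormal Q)
    (hQc : F.IsCentric Q) (hM : F.IsModel p G ι) :
    ∃ π : G →* F.autGroup Q, Function.Surjective π ∧
      (∀ (s : S) (x : Q), ((((π (ι s) : F.autGroup Q) : MulAut Q) x : Q) : Ω) = s * x * (s : Ω)⁻¹) ∧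
      (∀ g, π g = 1 → ∃ s : S, (s : Ω) ∈ Q ∧ (s : Ω) ∈ Subgroup.centralizer (Q : Set Ω) ∧
        ι s = g) ∧
      (∀ (g : G) (q : Q), g * ι (Subgroup.inclusion hQn.1 q) * g⁻¹ =
        ι (Subgroup.inclusion hQn.1 (((π g : F.autGroup Q) : MulAut Q) q))) := by
  obtain ⟨G₀, hG₀, ι₀, π₀, hM₀, hπ₀, hπι₀, hker₀, hconj₀⟩ :=
    exists_model_normal_centric hS hF hQn hQc
  obtain ⟨Φ, hΦ⟩ := model_unique hS ⟨hF, Q, hQn, hQc⟩ hM₀ hM
  refine ⟨π₀.comp Φ.symm.toMonoidHom, ?_, ?_, ?_, ?_⟩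
  · intro a
    obtain ⟨g₀, rfl⟩ := hπ₀ a
    exact ⟨Φ g₀, by simp⟩
  · intro s x
    have : Φ.symm (ι s) = ι₀ s := by rw [← hΦ s]; simp
    show ((((π₀ (Φ.symm (ι s)) : F.autGroup Q) : MulAut Q) x : Q) : Ω) = _
    rw [this]
    exact hπι₀ s x
  · intro g hg
    obtain ⟨s, hs1, hs2, hs3⟩ := hker₀ (Φ.symm g) hg
    refine ⟨s, hs1, hs2, ?_⟩
    rw [← hΦ s, hs3]
    simp
  · intro g q
    have h1 := hconj₀ (Φ.symm g) q
    have h2 := congrArg Φ h1
    rw [map_mul, map_mul, map_inv, hΦ, hΦ] at h2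
    simpa using h2

end pi

section radical

variable {p : ℕ} [Fact p.Prime] [Finite S] {F : FusionSystem S} {Q : Subgroup Ω}

/-- The normalizer system of `Q` induces on `Q` the full automizer. -/
theorem normalizerSystem_autGroup_eq (hQS : Q ≤ S) {N : FusionSystem (normalizerIn S Q)}
    (hN : F.IsNormalizerSystem Q N) : N.autGroup Q = F.autGroup Q := by
  have hQT : Q ≤ normalizerIn S Q := le_normalizerIn hQS
  ext α
  rw [mem_autGroup_iff N hQT, mem_autGroup_iff F hQS, hN Q]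
  constructor
  · intro h
    exact h.1
  · intro hαF
    have heq : Q = Q ⊔ Q := (sup_idem Q).symm
    refine ⟨hαF, hQT, fun x => hQT (α x).2, _, hom_cast F heq hαF, fun x => rfl, ?_⟩
    ext y
    constructor
    · rintro ⟨x, hx, rfl⟩
      exact (α ⟨x, Subgroup.mem_subgroupOf.1 hx⟩).2
    · intro hy
      refine ⟨⟨((α⁻¹ ⟨y, hy⟩ : Q) : Ω), (le_sup_left : Q ≤ Q ⊔ Q) (α⁻¹ ⟨y, hy⟩).2⟩,
        Subgroup.mem_subgroupOf.2 (α⁻¹ ⟨y, hy⟩).2, ?_⟩
      show ((α (α⁻¹ ⟨y, hy⟩) : Q) : Ω) = y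
      simp

/-- In a system with normal centric `Q` and a model in which `O_p` is the image of `Q`, the
subgroup `Q` is radical. -/
theorem isRadical_of_pCore_eq {G : Type w} [Group G] {ι : S →* G} (hS : IsPGroup p S)
    (hF : F.IsSaturated p) (hQn : F.IsNormal Q) (hQc : F.IsCentric Q) (hM : F.IsModel p G ι)
    (hcore : preSub ι (pCore p G) = Q) : F.IsRadical p Q := by
  have hQS := hQn.1
  refine ⟨hQS, ?_⟩
  obtain ⟨π, hπ, hπι, hker, hconj⟩ := model_pi hS hF hQn hQc hM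
  have hfinG : Finite G := hM.1
  have hUT := model_pCore_le_range hM
  have hInn : Inn Q ≤ F.autGroup Q := by
    rintro _ ⟨x, rfl⟩
    apply autInducedBy_le_autGroup F hQS
    rw [mem_autInducedBy_iff]
    exact ⟨x, hQS x.2, fun y => rfl⟩
  have hQp : IsPGroup p Q := hS.to_le hQS
  have hInnp : IsPGroup p (Inn Q) := by
    have : IsPGroup p (MulAut.conj : Q →* MulAut Q).range := hQp.to_quotient _ |>.of_equiv
      (QuotientGroup.quotientKerEquivRange (MulAut.conj : Q →* MulAut Q))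
    exact this
  have hIn : ((Inn Q).subgroupOf (F.autGroup Q)).Normal := by
    constructor
    rintro ⟨β, hβ⟩ hβI ⟨α, hα⟩
    rw [Subgroup.mem_subgroupOf] at hβI ⊢
    obtain ⟨x, hx⟩ := hβI
    refine ⟨α x, ?_⟩
    show MulAut.conj (α x) = α * β * α⁻¹
    have hx' : MulAut.conj x = β := hx
    rw [← hx']
    ext y
    simp [MulAut.conj_apply]
  apply le_antisymm
  · rintro _ ⟨b, hb, rfl⟩
    -- lift `b` to `G`
    obtain ⟨d, rfl⟩ := hπ b
    have hD : IsPGroup p ((pCore p (F.autGroup Q)).comap π) := by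
      apply IsPGroup.comap_of_ker_isPGroup (pCore_isPGroup p _)
      rintro ⟨g, hg⟩
      obtain ⟨s, -, -, rfl⟩ := hker g hg
      obtain ⟨k, hk⟩ := hS s
      refine ⟨k, Subtype.ext ?_⟩
      show (ι s) ^ (p ^ k) = 1
      rw [← map_pow, hk, map_one]
    have hDn : ((pCore p (F.autGroup Q)).comap π).Normal := by
      haveI := pCore_normal' p (F.autGroup Q)
      infer_instance
    have hdO : d ∈ pCore p G := le_pCore hDn hD hb
    obtain ⟨s, rfl⟩ := hUT hdO
    have hsQ : (s : Ω) ∈ Q := by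
      rw [← hcore]
      exact mem_preSub.2 ⟨s.2, hdO⟩
    refine ⟨⟨s, hsQ⟩, ?_⟩
    ext x
    exact (hπι s x).symm
  · have h1 : (Inn Q).subgroupOf (F.autGroup Q) ≤ pCore p (F.autGroup Q) :=
      le_pCore hIn hInnp.comap_subtype
    intro β hβ
    exact ⟨⟨β, hInn hβ⟩, h1 (Subgroup.mem_subgroupOf.2 hβ), rfl⟩

end radical

end Cfsg.Agent.Lib.H26.Model
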