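import Mathlib
import Cfsg.Agent.Lib.H26.ModelPi
import Cfsg.Agent.Lib.H26.EssentialOmit
import Cfsg.Agent.Lib.H26.GroupFusion

set_option autoImplicit false
set_option linter.unusedSectionVars false
set_option linter.unusedVariables false

/-!
Normalizers of fully normalized subgroups in a realizing group (helper26): if `F` is realized by
`ι : S → G` with Sylow image and `Q` is fully normalized then `ι(N_S(Q))` is a Sylow subgroup of
`N_G(ι Q)`.
-/

namespace Cfsg.Agent.Lib.H26.Model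

open Cfsg Cfsg.FusionSystem Cfsg.Agent.Lib.H25 Cfsg.Agent.Lib.H26

universe u w

variable {Ω : Type u} [Group Ω] {S : Subgroup Ω} {F : FusionSystem S}
  {G : Type w} [Group G] {ι : S →* G}

/-- the image in `G` of a subgroup of `Ω` -/
def imgOf (ι : S →* G) (Q : Subgroup Ω) : Subgroup G := (Q.subgroupOf S).map ι

theorem mem_imgOf {Q : Subgroup Ω} {y : G} :
    y ∈ imgOf ι Q ↔ ∃ (x : Ω) (hx : x ∈ S), x ∈ Q ∧ ι ⟨x, hx⟩ = y := by
  constructor
  · rintro ⟨x, hx, rfl⟩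
    exact ⟨x, x.2, Subgroup.mem_subgroupOf.1 hx, rfl⟩
  · rintro ⟨x, hx, hxQ, rfl⟩
    exact ⟨⟨x, hx⟩, Subgroup.mem_subgroupOf.2 hxQ, rfl⟩

theorem imgOf_mono {Q R : Subgroup Ω} (h : Q ≤ R) : imgOf ι Q ≤ imgOf ι R := by
  intro y hy
  obtain ⟨x, hx, hxQ, rfl⟩ := mem_imgOf.1 hy
  exact mem_imgOf.2 ⟨x, hx, h hxQ, rfl⟩

theorem imgOf_le_range (Q : Subgroup Ω) : imgOf ι Q ≤ ι.range := by
  rintro _ ⟨x, -, rfl⟩
  exact ⟨x, rfl⟩

theorem card_imgOf (hinj : Function.Injective ι) {Q : Subgroup Ω} (hQS : Q ≤ S) :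
    Nat.card (imgOf ι Q) = Nat.card Q := by
  unfold imgOf
  rw [Subgroup.card_map_of_injective hinj]
  exact Nat.card_congr (Subgroup.subgroupOfEquivOfLe hQS).toEquiv

theorem card_preSub (hinj : Function.Injective ι) {V : Subgroup G} (hV : V ≤ ι.range) :
    Nat.card (preSub ι V) = Nat.card V := by
  unfold preSub
  rw [Subgroup.card_map_of_injective S.subtype_injective]
  conv_rhs => rw [← Subgroup.map_comap_eq_self hV]
  rw [Subgroup.card_map_of_injective hinj]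

/-- the image of `N_S(Q)` normalizes the image of `Q` -/
theorem imgOf_normalizerIn_le {Q : Subgroup Ω} (hQS : Q ≤ S) :
    imgOf ι (normalizerIn S Q) ≤ Subgroup.normalizer ((imgOf ι Q : Subgroup G) : Set G) := by
  have key : ∀ t ∈ imgOf ι (normalizerIn S Q), ∀ y ∈ imgOf ι Q, t * y * t⁻¹ ∈ imgOf ι Q := by
    intro t ht y hy
    obtain ⟨s, hs, hsN, rfl⟩ := mem_imgOf.1 ht
    obtain ⟨x, hx, hxQ, rfl⟩ := mem_imgOf.1 hy
    have h1 : s * x * s⁻¹ ∈ Q := (Subgroup.mem_normalizer_iff.1 hsN.2 x).1 hxQ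
    refine mem_imgOf.2 ⟨s * x * s⁻¹, hQS h1, h1, ?_⟩
    rw [← map_inv, ← map_mul, ← map_mul]
    rfl
  intro t ht
  apply mem_normalizer_of_conj_mem (key t ht)
  intro y hy
  have := key t⁻¹ (Subgroup.inv_mem _ ht) y hy
  rwa [inv_inv] at this

section sylow

variable [Finite S] [Finite G] {p : ℕ} [Fact p.Prime]

theorem realized_normalizer_sylow (hS : IsPGroup p S) (hreal : F.IsRealizedBy ι)
    (hsyl : ∃ T : Sylow p G, (T : Subgroup G) = ι.range) {Q : Subgroup Ω}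
    (hQ : F.IsFullyNormalized Q) :
    IsSylowIn p (imgOf ι (normalizerIn S Q))
      (Subgroup.normalizer ((imgOf ι Q : Subgroup G) : Set G)) := by
  obtain ⟨Tsyl, hT⟩ := hsyl
  have hinj := hreal.1
  have hQS := hQ.1
  have hQT : Q ≤ normalizerIn S Q := le_normalizerIn hQS
  have hTS : normalizerIn S Q ≤ S := inf_le_left
  have hITp : IsPGroup p (imgOf ι (normalizerIn S Q)) := by
    have h1 : IsPGroup p ((normalizerIn S Q).subgroupOf S) := hS.to_subgroup _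
    exact h1.map ι
  apply isSylowIn_of_max (imgOf_normalizerIn_le hQS) hITp
  intro Y hXY hYN hY
  obtain ⟨c, hc⟩ := exists_conj_mem_sylow Tsyl Y hY
  have hcY : cj c Y ≤ ι.range := by
    rintro _ ⟨y, hy, rfl⟩
    rw [← hT]
    exact hc y hy
  have hQY : imgOf ι Q ≤ Y := (imgOf_mono hQT).trans hXY
  have hcQ : cj c (imgOf ι Q) ≤ ι.range := (cj_mono c hQY).trans hcY
  -- the conjugation map on `Q`
  have hmem : ∀ x : Q, c * ι ⟨x, hQS x.2⟩ * c⁻¹ ∈ ι.range := by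
    intro x
    apply hcQ
    exact conj_mem_cj (mem_imgOf.2 ⟨x, hQS x.2, x.2, rfl⟩)
  obtain ⟨κ, hκ⟩ := exists_conjMap hinj c hQS hmem
  have hκS : ∀ x : Q, κ x ∈ S := fun x => by obtain ⟨h, -⟩ := hκ x; exact h
  have hκc : ∀ x : Q, ι ⟨κ x, hκS x⟩ = c * ι ⟨x, hQS x.2⟩ * c⁻¹ := fun x => by
    obtain ⟨h, h'⟩ := hκ x; exact h'
  have hκF : κ ∈ F.Hom Q := (hreal.2 Q hQS κ hκS).2 ⟨c, hκc⟩
  have hrange : κ.range = preSub ι (cj c (imgOf ι Q)) := by
    ext y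
    constructor
    · rintro ⟨x, rfl⟩
      refine mem_preSub.2 ⟨hκS x, ?_⟩
      rw [hκc]
      exact conj_mem_cj (mem_imgOf.2 ⟨x, hQS x.2, x.2, rfl⟩)
    · intro hy
      obtain ⟨hyS, hyc⟩ := mem_preSub.1 hy
      obtain ⟨z, hz, hzy⟩ := hyc
      obtain ⟨q, hqS, hqQ, rfl⟩ := mem_imgOf.1 hz
      refine ⟨⟨q, hqQ⟩, ?_⟩
      have h1 : ι ⟨κ ⟨q, hqQ⟩, hκS ⟨q, hqQ⟩⟩ = ι ⟨y, hyS⟩ := by
        rw [hκc, ← hzy]
        rfl
      exact congrArg Subtype.val (hinj h1)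
  have hfn := hQ.2 _ ⟨κ, hκF, hrange⟩
  -- the preimage of the conjugate of `Y` normalizes the conjugate of `Q`
  have hXN : preSub ι (cj c Y) ≤ normalizerIn S (preSub ι (cj c (imgOf ι Q))) := by
    have key : ∀ x ∈ preSub ι (cj c Y), ∀ u ∈ preSub ι (cj c (imgOf ι Q)),
        x * u * x⁻¹ ∈ preSub ι (cj c (imgOf ι Q)) := by
      intro x hx u hu
      obtain ⟨hxS, hxY⟩ := mem_preSub.1 hx
      obtain ⟨huS, huQ⟩ := mem_preSub.1 hu
      have hxn : ι ⟨x, hxS⟩ ∈ Subgroup.normalizer ((cj c (imgOf ι Q) : Subgroup G) : Set G) := by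
        rw [← cj_normalizer]
        exact cj_mono c hYN hxY
      refine mem_preSub.2 ⟨S.mul_mem (S.mul_mem hxS huS) (S.inv_mem hxS), ?_⟩
      have h2 := (Subgroup.mem_normalizer_iff.1 hxn (ι ⟨u, huS⟩)).1 huQ
      have h3 : (⟨x * u * x⁻¹, S.mul_mem (S.mul_mem hxS huS) (S.inv_mem hxS)⟩ : S) =
          ⟨x, hxS⟩ * ⟨u, huS⟩ * ⟨x, hxS⟩⁻¹ := rfl
      rw [h3, map_mul, map_mul, map_inv]
      exact h2
    intro x hx
    refine ⟨preSub_le _ _ hx, mem_normalizer_of_conj_mem (key x hx) ?_⟩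
    intro u hu
    have := key x⁻¹ (Subgroup.inv_mem _ hx) u hu
    rwa [inv_inv] at this
  have hfinN : Finite ↥(normalizerIn S (preSub ι (cj c (imgOf ι Q)))) :=
    finite_of_le S inf_le_left
  calc Nat.card Y = Nat.card (cj c Y) := (card_cj c Y).symm
    _ = Nat.card (preSub ι (cj c Y)) := (card_preSub hinj hcY).symm
    _ ≤ Nat.card (normalizerIn S (preSub ι (cj c (imgOf ι Q)))) := Subgroup.card_le_of_le hXN
    _ ≤ Nat.card (normalizerIn S Q) := hfn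
    _ = Nat.card (imgOf ι (normalizerIn S Q)) := (card_imgOf hinj hTS).symm

end sylow

end Cfsg.Agent.Lib.H26.Model
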