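import Mathlib
import Cfsg.Agent.Lib.H26.NilTransport
import Cfsg.Agent.Lib.H26.ModelSylow
import Cfsg.Agent.Lib.H25.Morphism
import Cfsg.Agent.Lib.L0.NPCBasic
import Cfsg.Agent.Lib.L0.FrobeniusPC

set_option autoImplicit false

/-!
Group-theoretic side of the nilpotency criteria for fusion systems (helper26): for a fusion
system realized by a finite group, normal `p`-complements against `p`-group automizers.
-/

namespace Cfsg.Agent.Lib.H26.Nil

open Cfsg Cfsg.FusionSystem Cfsg.Agent.Lib.H25 Cfsg.Agent.Lib.H26 Cfsg.Agent.Lib.H26.Model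
open Cfsg.Agent.Lib.L0

universe u w

variable {Ω : Type u} [Group Ω] {S : Subgroup Ω} {F : FusionSystem S} {G : Type w} [Group G]
  {ι : S →* G}

theorem al_injOn (hinj : Function.Injective ι) {x y : Ω} (hx : x ∈ S) (hy : y ∈ S)
    (h : al ι x = al ι y) : x = y := by
  rw [al_apply ι hx, al_apply ι hy] at h
  exact congrArg Subtype.val (hinj h)

theorem al_mem_imgOf {P : Subgroup Ω} (hP : P ≤ S) {x : Ω} (hx : x ∈ P) : al ι x ∈ imgOf ι P := by
  rw [al_apply ι (hP hx)]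
  exact mem_imgOf.2 ⟨x, hP hx, hx, rfl⟩

theorem exists_al_of_mem_imgOf {P : Subgroup Ω} {y : G} (hy : y ∈ imgOf ι P) :
    ∃ x ∈ P, x ∈ S ∧ al ι x = y := by
  obtain ⟨x, hxS, hxP, rfl⟩ := mem_imgOf.1 hy
  exact ⟨x, hxP, hxS, al_apply ι hxS⟩

theorem imgOf_isPGroup {p : ℕ} (hS : IsPGroup p S) {P : Subgroup Ω} (hP : P ≤ S) :
    IsPGroup p (imgOf ι P) :=
  ((hS.to_le hP).comap_subtype (K := S)).map ι

/-- Every isomorphism of a realized system is induced by an element of the group. -/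
theorem exists_elt_of_isIso (hreal : F.IsRealizedBy ι) {P Q : Subgroup Ω} {f : Ω → Ω}
    (hf : IsIso F P Q f) : ∃ g : G, ∀ x ∈ P, al ι (f x) = g * al ι x * g⁻¹ := by
  have hPS := hf.le_left
  have hQS := hf.le_right
  obtain ⟨φ, hφ, hφf, hr⟩ := hf
  have hφS : ∀ x : P, φ x ∈ S := fun x => hom_mem_S F hφ x
  obtain ⟨g, hg⟩ := (hreal.2 P hPS φ hφS).1 hφ
  refine ⟨g, fun x hx => ?_⟩
  rw [← hφf ⟨x, hx⟩, al_apply ι (hφS ⟨x, hx⟩), al_apply ι (hPS hx)]
  exact hg ⟨x, hx⟩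

/-- An element of the group normalizing the image of `P` induces an automorphism of `P` in the
realized system. -/
theorem exists_isIso_of_elt [Finite S] (hreal : F.IsRealizedBy ι) {P : Subgroup Ω} (hP : P ≤ S)
    (g : G) (hg : ∀ x ∈ P, g * al ι x * g⁻¹ ∈ imgOf ι P) :
    ∃ f : Ω → Ω, IsIso F P P f ∧ ∀ x ∈ P, al ι (f x) = g * al ι x * g⁻¹ := by
  have hinj := hreal.1
  have hmem : ∀ x : P, g * ι ⟨x, hP x.2⟩ * g⁻¹ ∈ ι.range := by
    intro x
    have := hg x x.2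
    rw [al_apply ι (hP x.2)] at this
    exact imgOf_le_range P this
  obtain ⟨φ, hφ⟩ := exists_conjMap hinj g hP hmem
  have hφS : ∀ x : P, φ x ∈ S := fun x => (hφ x).1
  have hφF : φ ∈ F.Hom P := by
    rw [hreal.2 P hP φ hφS]
    exact ⟨g, fun x => (hφ x).2⟩
  have hval : ∀ x : P, al ι (φ x) = g * al ι x * g⁻¹ := by
    intro x
    rw [al_apply ι (hφS x), al_apply ι (hP x.2)]
    exact (hφ x).2
  have hφP : ∀ x : P, φ x ∈ P := by
    intro x
    have h1 := hg x x.2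
    rw [← hval x] at h1
    obtain ⟨x', hx'P, hx'S, hx'⟩ := exists_al_of_mem_imgOf h1
    rw [← al_injOn hinj hx'S (hφS x) hx']
    exact hx'P
  have hfinP : Finite P := finite_of_le S hP
  have hrange : φ.range = P := by
    apply Subgroup.eq_of_le_of_card_ge
    · rintro _ ⟨x, rfl⟩
      exact hφP x
    · rw [Nat.card_congr (MonoidHom.ofInjective (F.injective_of_mem hφF)).toEquiv.symm]
  refine ⟨ext1 φ, ⟨φ, hφF, fun x => (ext1_apply φ x).symm, hrange⟩, fun x hx => ?_⟩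
  rw [ext1_apply_mem φ hx]
  exact hval ⟨x, hx⟩

theorem al_iterate {P : Subgroup Ω} {f : Ω → Ω} (hf : IsIso F P P f) {g : G}
    (hg : ∀ x ∈ P, al ι (f x) = g * al ι x * g⁻¹) (n : ℕ) :
    ∀ x ∈ P, al ι (f^[n] x) = g ^ n * al ι x * (g ^ n)⁻¹ := by
  induction n with
  | zero => intro x _; simp
  | succ n ih =>
    intro x hx
    rw [Function.iterate_succ_apply, ih _ (hf.map_mem hx), hg x hx, pow_succ]
    group

/-- The `p'`-part of an element, as a power. -/
theorem exists_pow_coprime {p : ℕ} [hp : Fact p.Prime] [Finite G] (g : G) :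
    ∃ a : ℕ, Nat.Coprime (orderOf (g ^ p ^ a)) p := by
  obtain ⟨k, m, hm, hkm⟩ := Nat.exists_eq_pow_mul_and_not_dvd (orderOf_pos g).ne' p
    hp.out.ne_one
  refine ⟨k, ?_⟩
  have hord : orderOf (g ^ p ^ k) = m := by
    rw [orderOf_pow, hkm, Nat.gcd_eq_right (Dvd.intro _ rfl)]
    exact Nat.mul_div_cancel_left m (pow_pos hp.out.pos k)
  rw [hord]
  exact ((Nat.Prime.coprime_iff_not_dvd hp.out).mpr hm).symm

/-- A system realized by a group with a normal `p`-complement has `p`-group automizers. -/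
theorem allP_of_npc [Finite S] [Finite G] {p : ℕ} [Fact p.Prime] (hS : IsPGroup p S)
    (hreal : F.IsRealizedBy ι) (hnpc : Cfsg.HasNormalPComplement p G) : AllP p F := by
  intro P f hf
  have hinj := hreal.1
  have hPS := hf.le_left
  obtain ⟨g, hg⟩ := exists_elt_of_isIso hreal hf
  set Y := imgOf ι P with hY
  have hYp : IsPGroup p Y := imgOf_isPGroup hS hPS
  have hgN : ∀ n : ℕ, g ^ n ∈ Subgroup.normalizer (Y : Set G) := by
    intro n
    apply Subgroup.pow_mem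
    apply Cfsg.Agent.Lib.H25.mem_normalizer_of_conj_mem
    intro y hy
    obtain ⟨x, hxP, hxS, rfl⟩ := exists_al_of_mem_imgOf hy
    rw [← hg x hxP]
    exact al_mem_imgOf hPS (hf.map_mem hxP)
  obtain ⟨a, ha⟩ := exists_pow_coprime (p := p) g
  have hH : Cfsg.HasNormalPComplement p ↥(Subgroup.normalizer (Y : Set G)) :=
    HasNormalPComplement.subgroup hnpc _
  have hYn : (Y.subgroupOf (Subgroup.normalizer (Y : Set G))).Normal :=
    Subgroup.normal_in_normalizer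
  have hYp' : IsPGroup p (Y.subgroupOf (Subgroup.normalizer (Y : Set G))) := hYp.comap_subtype
  have hord : Nat.Coprime (orderOf (⟨g ^ p ^ a, hgN _⟩ : Subgroup.normalizer (Y : Set G))) p := by
    rwa [Subgroup.orderOf_mk]
  have hc := HasNormalPComplement.mem_centralizer hH _ hYp' ⟨g ^ p ^ a, hgN _⟩ hord
  rw [Subgroup.mem_centralizer_iff] at hc
  refine ⟨a, fun x hx => ?_⟩
  apply al_injOn hinj (hPS (iterate_mem hf _ hx)) (hPS hx)
  rw [al_iterate hf hg _ x hx]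
  have hxY : al ι x ∈ Y := al_mem_imgOf hPS hx
  have h1 := hc ⟨al ι x, Subgroup.le_normalizer hxY⟩ (Subgroup.mem_subgroupOf.2 hxY)
  have h2 : al ι x * g ^ p ^ a = g ^ p ^ a * al ι x := congrArg Subtype.val h1
  rw [← h2]
  group

/-- Key step: in a group realizing `F` with Sylow subgroup the image of `S`, if `U` is normal in
`S` and `NT p F U` fails, then in `N_G(U)` every `p'`-element normalizing a `p`-subgroup `Y`
centralizes it. -/
theorem frob_of_not_NT [Finite S] [Finite G] {p : ℕ} [Fact p.Prime] (hS : IsPGroup p S)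
    (hreal : F.IsRealizedBy ι) (hsyl : ∃ T : Sylow p G, (T : Subgroup G) = ι.range)
    {U : Subgroup Ω} (hUS : U ≤ S) (hUn : normalizerIn S U = S) (hnt : ¬ NT p F U)
    (Y : Subgroup G) (hY : IsPGroup p Y)
    (hYH : Y ≤ Subgroup.normalizer ((imgOf ι U : Subgroup G) : Set G)) (g : G)
    (hgH : g ∈ Subgroup.normalizer ((imgOf ι U : Subgroup G) : Set G))
    (hgY : g ∈ Subgroup.normalizer (Y : Set G)) (hcop : Nat.Coprime (orderOf g) p) :
    g ∈ Subgroup.centralizer (Y : Set G) := by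
  have hinj := hreal.1
  set V := imgOf ι U with hV
  set H := Subgroup.normalizer (V : Set G) with hH
  have hVp : IsPGroup p V := imgOf_isPGroup hS hUS
  have hVH : V ≤ H := Subgroup.le_normalizer
  -- `Y₁ = Y V`
  have hY₁p : IsPGroup p (Y ⊔ V : Subgroup G) := hY.to_sup_of_normal_right' hVp hYH
  have hY₁H : Y ⊔ V ≤ H := sup_le hYH hVH
  have hgY₁ : cj g (Y ⊔ V) = Y ⊔ V := by
    show (Y ⊔ V).map _ = _
    rw [Subgroup.map_sup]
    show cj g Y ⊔ cj g V = _
    rw [cj_eq_self_of_mem_normalizer hgY, cj_eq_self_of_mem_normalizer hgH]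
  -- the image of `S` is a Sylow subgroup of `H`
  obtain ⟨T, hT⟩ := hsyl
  have hTH : ι.range ≤ H := by
    have h1 := imgOf_normalizerIn_le (ι := ι) hUS
    rw [hUn] at h1
    intro y hy
    obtain ⟨s, rfl⟩ := hy
    exact h1 (mem_imgOf.2 ⟨s, s.2, s.2, rfl⟩)
  have hTsyl : IsSylowIn p ι.range H := by
    apply isSylowIn_of_max hTH (hT ▸ T.2)
    intro Y' hTY' _ hY'p
    have := T.3 hY'p (hT ▸ hTY')
    rw [← hT, this]
  obtain ⟨n, hnH, hn⟩ := hTsyl.exists_conj hY₁H hY₁p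
  -- conjugate everything by `n`
  set Y₂ := cj n (Y ⊔ V) with hY₂
  set g₂ := n * g * n⁻¹ with hg₂
  have hVY₂ : V ≤ Y₂ := by
    have h1 : cj n V ≤ Y₂ := cj_mono n le_sup_right
    rwa [cj_eq_self_of_mem_normalizer hnH] at h1
  have hg₂H : g₂ ∈ H := H.mul_mem (H.mul_mem hnH hgH) (H.inv_mem hnH)
  have hg₂Y₂ : ∀ y ∈ Y₂, g₂ * y * g₂⁻¹ ∈ Y₂ := by
    intro y hy
    rw [hY₂, mem_cj] at hy ⊢
    have h1 : g * (n⁻¹ * y * n) * g⁻¹ ∈ Y ⊔ V := by
      have : g * (n⁻¹ * y * n) * g⁻¹ ∈ cj g (Y ⊔ V) := conj_mem_cj hy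
      rwa [hgY₁] at this
    have : n⁻¹ * (g₂ * y * g₂⁻¹) * n = g * (n⁻¹ * y * n) * g⁻¹ := by
      rw [hg₂]; group
    rwa [this]
  -- the subgroup `P` of `S` with image `Y₂`
  set P := preSub ι Y₂ with hP
  have hPS : P ≤ S := preSub_le ι Y₂
  have himg : imgOf ι P = Y₂ := by
    ext y
    constructor
    · intro hy
      obtain ⟨x, hxS, hxP, rfl⟩ := mem_imgOf.1 hy
      obtain ⟨_, h⟩ := mem_preSub.1 hxP
      exact h
    · intro hy
      obtain ⟨s, rfl⟩ := hn hy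
      exact mem_imgOf.2 ⟨s, s.2, mem_preSub.2 ⟨s.2, hy⟩, rfl⟩
  have hUP : U ≤ P := by
    intro u hu
    exact mem_preSub.2 ⟨hUS hu, hVY₂ (mem_imgOf.2 ⟨u, hUS hu, hu, rfl⟩)⟩
  obtain ⟨f, hf, hfg⟩ := exists_isIso_of_elt hreal hPS g₂ (fun x hx => by
    rw [himg]
    exact hg₂Y₂ _ (himg ▸ al_mem_imgOf hPS hx))
  have hfU : ∀ x ∈ U, f x ∈ U := by
    intro x hx
    have h1 : al ι (f x) ∈ V := by
      rw [hfg x (hUP hx)]
      have hxV : al ι x ∈ V := al_mem_imgOf hUS hx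
      exact (Subgroup.mem_normalizer_iff.1 hg₂H _).1 hxV
    obtain ⟨x', hx'U, hx'S, hx'⟩ := exists_al_of_mem_imgOf h1
    rw [← al_injOn hinj hx'S (hPS (hf.map_mem (hUP hx))) hx']
    exact hx'U
  have hpa : IsPAut p P f := by
    by_contra hnp
    exact hnt ⟨P, f, hUP, by rw [hUn]; exact hPS, hf, hfU, hnp⟩
  obtain ⟨k, hk⟩ := hpa
  -- `g₂ ^ p ^ k` centralizes `Y₂`
  have hcent : ∀ y ∈ Y₂, g₂ ^ p ^ k * y = y * g₂ ^ p ^ k := by
    intro y hy
    rw [← himg] at hy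
    obtain ⟨x, hxP, hxS, rfl⟩ := exists_al_of_mem_imgOf hy
    have h1 := al_iterate hf hfg (p ^ k) x hxP
    rw [hk x hxP] at h1
    calc g₂ ^ p ^ k * al ι x = (g₂ ^ p ^ k * al ι x * (g₂ ^ p ^ k)⁻¹) * g₂ ^ p ^ k := by group
      _ = al ι x * g₂ ^ p ^ k := by rw [← h1]
  -- hence so does `g₂`
  have hord : orderOf g₂ = orderOf g := by
    rw [hg₂]
    exact orderOf_injective (MulAut.conj n).toMonoidHom (MulAut.conj n).injective g
  have hcop' : Nat.Coprime (p ^ k) (orderOf g₂) := by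
    rw [hord]
    exact (Nat.Coprime.pow_right k hcop).symm
  obtain ⟨m, hm⟩ := exists_pow_eq_self_of_coprime hcop'
  have hcent₂ : ∀ y ∈ Y₂, g₂ * y = y * g₂ := by
    intro y hy
    have h1 : Commute (g₂ ^ p ^ k) y := hcent y hy
    have h2 : Commute ((g₂ ^ p ^ k) ^ m) y := h1.pow_left m
    rw [hm] at h2
    exact h2
  -- back to `g` and `Y`
  rw [Subgroup.mem_centralizer_iff]
  intro y hy
  have hyY₂ : n * y * n⁻¹ ∈ Y₂ := conj_mem_cj ((le_sup_left : Y ≤ Y ⊔ V) hy)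
  have h1 := hcent₂ _ hyY₂
  have h2 : n * (g * y) * n⁻¹ = n * (y * g) * n⁻¹ := by
    calc n * (g * y) * n⁻¹ = g₂ * (n * y * n⁻¹) := by rw [hg₂]; group
      _ = (n * y * n⁻¹) * g₂ := h1
      _ = n * (y * g) * n⁻¹ := by rw [hg₂]; group
  have h3 := mul_left_cancel (mul_right_cancel h2)
  exact h3.symm

/-- If `NT p F U` fails for `U` normal in `S` then `N_G(U)` has a normal `p`-complement. -/
theorem npc_normalizer_of_not_NT [Finite S] [Finite G] {p : ℕ} [Fact p.Prime] (hS : IsPGroup p S)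
    (hreal : F.IsRealizedBy ι) (hsyl : ∃ T : Sylow p G, (T : Subgroup G) = ι.range)
    {U : Subgroup Ω} (hUS : U ≤ S) (hUn : normalizerIn S U = S) (hnt : ¬ NT p F U) :
    Cfsg.HasNormalPComplement p ↥(Subgroup.normalizer ((imgOf ι U : Subgroup G) : Set G)) := by
  set H := Subgroup.normalizer ((imgOf ι U : Subgroup G) : Set G) with hH
  apply hasNormalPComplement_of_frobHyp
  intro Y' hY' g' hg' hcop
  have hYp : IsPGroup p (Y'.map H.subtype) := hY'.map _
  have hYH : Y'.map H.subtype ≤ H := by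
    rintro _ ⟨y, -, rfl⟩
    exact y.2
  have hgN : (g' : G) ∈ Subgroup.normalizer ((Y'.map H.subtype : Subgroup G) : Set G) := by
    have hfin : Finite (Y'.map H.subtype) := inferInstance
    apply Cfsg.Agent.Lib.H25.mem_normalizer_of_conj_mem
    rintro _ ⟨y, hy, rfl⟩
    exact ⟨g' * y * g'⁻¹, (Subgroup.mem_normalizer_iff.1 hg' y).1 hy, rfl⟩
  have hcop' : Nat.Coprime (orderOf (g' : G)) p := by
    rwa [Subgroup.orderOf_coe]
  have hc := frob_of_not_NT hS hreal hsyl hUS hUn hnt _ hYp hYH g' g'.2 hgN hcop'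
  rw [Subgroup.mem_centralizer_iff] at hc ⊢
  intro y hy
  apply Subtype.ext
  exact hc y ⟨y, hy, rfl⟩

end Cfsg.Agent.Lib.H26.Nil
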