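import Mathlib
import Cfsg.Agent.Lib.H26.NilTransport
import Cfsg.Agent.Lib.H25.Morphism
import Cfsg.Agent.Lib.H25.MorphismSat
import Cfsg.Agent.Lib.H25.FactorSystem
import Cfsg.Agent.S5134

set_option autoImplicit false

/-!
Passage to factor systems for the nilpotency criteria (helper26): existence of the factor system
in the same universe, lifting of `NT`, and the stability lemma for automorphisms centralizing the
kernel.
-/

namespace Cfsg.Agent.Lib.H26.Nil

open Cfsg Cfsg.FusionSystem Cfsg.Agent.Lib.H25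

universe u v

variable {Ω : Type u} [Group Ω] {S : Subgroup Ω} {Ω' : Type v} [Group Ω'] {S' : Subgroup Ω'}
  {F : FusionSystem S} {F' : FusionSystem S'} {θ : S →* Ω'}

/-- `NT` lifts along a surjective morphism to the full preimage. -/
theorem lift_NT [Finite S] {p : ℕ} (hsm : F.IsSurjectiveMorphism F' θ)
    (hK : F.StronglyClosed (kerSub θ)) {U' : Subgroup Ω'} (h : NT p F' U') :
    NT p F (preimageAlong θ U') := by
  obtain ⟨P', f', hUP', hP'N, hf', hf'U, hnp⟩ := h
  have hrange := hsm.2.1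
  have hP'S' : P' ≤ S' := hf'.le_left
  have hU'S' : U' ≤ S' := hUP'.trans hP'S'
  obtain ⟨f, hf, hff'⟩ := lift_iso hsm hK hf'
  refine ⟨preimageAlong θ P', f, pre_mono θ hUP', ?_, hf, ?_, ?_⟩
  · rw [normalizerIn_pre hrange hU'S']
    exact pre_mono θ hP'N
  · intro x hx
    have hxP : x ∈ preimageAlong θ P' := pre_mono θ hUP' hx
    refine (mem_pre_iff θ U' _).2 ⟨hf.le_right (hf.map_mem hxP), ?_⟩
    rw [← hff' x hxP]
    exact hf'U _ ((mem_pre_iff θ U' x).1 hx).2
  · rintro ⟨k, hk⟩
    apply hnp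
    refine ⟨k, fun y hy => ?_⟩
    obtain ⟨x, hx, rfl⟩ := exists_al_eq_of_mem hrange hP'S' hy
    have key : ∀ n : ℕ, ∀ x ∈ preimageAlong θ P', f'^[n] (al θ x) = al θ (f^[n] x) := by
      intro n
      induction n with
      | zero => intro x _; rfl
      | succ n ih =>
        intro x hx
        rw [Function.iterate_succ_apply, Function.iterate_succ_apply, hff' x hx,
          ih _ (hf.map_mem hx)]
    rw [key _ x hx, hk x hx]

/-- An automorphism fixing `K` elementwise and acting trivially modulo `K` is a `p`-element when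
`K` is a `p`-group. -/
theorem isPAut_of_trivial_mod {Ω : Type*} [Group Ω] {S : Subgroup Ω} {F : FusionSystem S}
    {p : ℕ} {P K : Subgroup Ω} {g : Ω → Ω} (hg : IsIso F P P g) (hKP : K ≤ P)
    (hgfix : ∀ x ∈ K, g x = x) (hz : ∀ x ∈ P, x⁻¹ * g x ∈ K) {m : ℕ}
    (hKcard : Nat.card K = p ^ m) : IsPAut p P g := by
  have hpow : ∀ n : ℕ, ∀ x ∈ P, g^[n] x = x * (x⁻¹ * g x) ^ n := by
    intro n
    induction n with
    | zero => intro x _; simp
    | succ n ih =>
      intro x hx
      have hzK := hz x hx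
      have hznK : (x⁻¹ * g x) ^ n ∈ K := Subgroup.pow_mem _ hzK n
      rw [Function.iterate_succ_apply', ih x hx, hg.map_mul hx (hKP hznK), hgfix _ hznK,
        pow_succ', ← mul_assoc, mul_inv_cancel_left]
  refine ⟨m, fun x hx => ?_⟩
  rw [hpow _ x hx]
  have h1 : (⟨x⁻¹ * g x, hz x hx⟩ : K) ^ Nat.card K = 1 := pow_card_eq_one'
  have h2 : (x⁻¹ * g x) ^ (p ^ m) = 1 := by
    rw [← hKcard]
    have h3 := congrArg Subtype.val h1
    rwa [Subgroup.coe_pow, Subgroup.coe_one] at h3
  rw [h2, mul_one]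

/-- If the target of a morphism has `p`-group automizers, an automorphism of a subgroup
containing the kernel which centralizes the kernel is a `p`-element. -/
theorem push_isPAut {p : ℕ} (hmor : F.IsMorphism F' θ) (hall : AllP p F') {P : Subgroup Ω}
    {f : Ω → Ω} (hf : IsIso F P P f) (hKP : kerSub θ ≤ P) (hfix : ∀ x ∈ kerSub θ, f x = x)
    {m : ℕ} (hKcard : Nat.card (kerSub θ) = p ^ m) : IsPAut p P f := by
  have hPS := hf.le_left
  obtain ⟨f', hf', hff'⟩ := push_iso hmor hf
  obtain ⟨k, hk⟩ := hall _ _ hf'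
  apply isPAut_of_iterate k
  have hg : IsIso F P P (f^[p ^ k]) := isIso_iterate hf _
  have key : ∀ n : ℕ, ∀ x ∈ P, f'^[n] (al θ x) = al θ (f^[n] x) := by
    intro n
    induction n with
    | zero => intro x _; rfl
    | succ n ih =>
      intro x hx
      rw [Function.iterate_succ_apply, Function.iterate_succ_apply, hff' x hx,
        ih _ (hf.map_mem hx)]
  have hz : ∀ x ∈ P, x⁻¹ * f^[p ^ k] x ∈ kerSub θ := by
    intro x hx
    apply inv_mul_mem_kerSub θ (hPS hx) (hPS (hg.map_mem hx))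
    rw [← key _ x hx]
    exact (hk _ ((mem_image_iff θ P _).2 ⟨x, hx, hPS hx, rfl⟩)).symm
  have hgfix : ∀ x ∈ kerSub θ, f^[p ^ k] x = x := fun x hx =>
    Function.iterate_fixed (hfix x hx) _
  exact isPAut_of_trivial_mod hg hKP hgfix hz hKcard

/-- The factor system by a strongly closed subgroup, in the universe of the ambient group. -/
theorem exists_factor {Ω : Type u} [Group Ω] {S : Subgroup Ω} [Finite S] {p : ℕ} [Fact p.Prime]
    (hS : IsPGroup p S) {F : FusionSystem S} (hF : F.IsSaturated p) {Q : Subgroup Ω}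
    (hQ : F.StronglyClosed Q) :
    ∃ (Ω' : Type u) (_ : Group Ω') (S' : Subgroup Ω') (F' : FusionSystem S') (θ : S →* Ω'),
      F.IsSurjectiveMorphism F' θ ∧ kerSub θ = Q ∧ F.IsFactorSystem Q θ F' := by
  have hQS := hQ.1
  have hn : (Q.subgroupOf S).Normal := by
    constructor
    intro x hx g
    rw [Subgroup.mem_subgroupOf] at hx ⊢
    exact stronglyClosed_conj_mem hQ g.2 hx
  let θ : S →* S ⧸ Q.subgroupOf S := QuotientGroup.mk' (Q.subgroupOf S)
  have hsurj : Function.Surjective θ := QuotientGroup.mk'_surjective _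
  have hker : ∀ s : S, θ s = 1 ↔ (s : Ω) ∈ Q := by
    intro s
    show (QuotientGroup.mk s : S ⧸ Q.subgroupOf S) = 1 ↔ _
    rw [QuotientGroup.eq_one_iff, Subgroup.mem_subgroupOf]
  have hfac := factorSystem_isFactorSystem F hQ θ hsurj hker
  have hsm := Cfsg.Agent.S5134.result p hS F hF Q hQ θ _ hfac
  refine ⟨S ⧸ Q.subgroupOf S, inferInstance, ⊤, factorSystem F hQ θ hsurj hker, θ, hsm, ?_, hfac⟩
  rw [kerSub_eq]
  have : θ.ker = Q.subgroupOf S := QuotientGroup.ker_mk' _
  rw [this, Subgroup.map_subgroupOf_eq_of_le hQS]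

end Cfsg.Agent.Lib.H26.Nil
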