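import Mathlib
import Cfsg.Agent.Lib.H26.NilTransport
import Cfsg.Agent.Lib.H26.NilQuotient
import Cfsg.Agent.Lib.H26.NilConstrained
import Cfsg.Agent.Lib.H26.NilGroup
import Cfsg.Agent.Lib.H26.ModelExists
import Cfsg.Agent.Lib.H25.KNormSpecial
import Cfsg.Agent.Lib.H25.NormalizerSystem

set_option autoImplicit false

/-!
**Nilpotency criterion for saturated fusion systems via a positive characteristic functor**
(helper26; the Kessar--Linckelmann reduction).  Let `W` be a functor on finite `p`-groups, and
suppose that for every finite group `G` with `C_G(O_p(G)) ≤ O_p(G)` and Sylow `p`-subgroup `P`,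
`G` has a normal `p`-complement as soon as `N_G(W(P))` has one.  Then a saturated fusion system
`F` over `S` has all automizers `p`-groups as soon as `N_F(W(S))` has.
-/

namespace Cfsg.Agent.Lib.H26.Nil

open Cfsg Cfsg.FusionSystem Cfsg.Agent.Lib.H25 Cfsg.Agent.Lib.H26 Cfsg.Agent.Lib.H26.Model

universe u

/-- A positive characteristic `p`-functor, on subgroups of ambient groups. -/
structure PFun (p : ℕ) where
  W : ∀ {G : Type u} [Group G], Subgroup G → Subgroup G
  le : ∀ {G : Type u} [Group G] (Q : Subgroup G), W Q ≤ Q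
  map : ∀ {G H : Type u} [Group G] [Group H] (f : G →* H) (Q : Subgroup G), Finite Q →
    IsPGroup p Q → Set.InjOn f (Q : Set G) → W (Q.map f) = (W Q).map f
  ne_bot : ∀ {G : Type u} [Group G] (Q : Subgroup G), Finite Q → IsPGroup p Q → Q ≠ ⊥ → W Q ≠ ⊥

namespace PFun

variable {p : ℕ} (W : PFun.{u} p)

theorem normalizer_le {G : Type u} [Group G] (Q : Subgroup G) (hfin : Finite Q)
    (hQ : IsPGroup p Q) :
    Subgroup.normalizer (Q : Set G) ≤ Subgroup.normalizer ((W.W Q : Subgroup G) : Set G) := by
  have key : ∀ g ∈ Subgroup.normalizer (Q : Set G), ∀ x ∈ W.W Q, g * x * g⁻¹ ∈ W.W Q := by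
    intro g hg x hx
    have h1 : Q.map (MulAut.conj g).toMonoidHom = Q := cj_eq_self_of_mem_normalizer hg
    have h2 := W.map (MulAut.conj g).toMonoidHom Q hfin hQ ((MulAut.conj g).injective.injOn)
    rw [h1] at h2
    rw [h2]
    exact ⟨x, hx, rfl⟩
  intro g hg
  apply Cfsg.Agent.Lib.H26.mem_normalizer_of_conj_mem (key g hg)
  intro x hx
  have := key g⁻¹ (Subgroup.inv_mem _ hg) x hx
  rwa [inv_inv] at this

theorem normalizerIn_le {Ω : Type u} [Group Ω] (S R : Subgroup Ω) (hfin : Finite R)
    (hR : IsPGroup p R) : normalizerIn S R ≤ normalizerIn S (W.W R) :=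
  inf_le_inf_left S (W.normalizer_le R hfin hR)

/-- `W S` is normalized by `S`. -/
theorem normalizerIn_self {Ω : Type u} [Group Ω] (S : Subgroup Ω) [hfin : Finite S]
    (hS : IsPGroup p S) : normalizerIn S (W.W S) = S := by
  apply le_antisymm inf_le_left
  refine (le_inf le_rfl ?_ : S ≤ normalizerIn S S).trans (W.normalizerIn_le S S hfin hS)
  exact Subgroup.le_normalizer

theorem top_isPGroup {Ω : Type u} [Group Ω] {S : Subgroup Ω} (hS : IsPGroup p S) :
    IsPGroup p (⊤ : Subgroup S) := IsPGroup.of_equiv hS Subgroup.topEquiv.symm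

theorem eq_map_top {Ω : Type u} [Group Ω] (S : Subgroup Ω) [Finite S] (hS : IsPGroup p S) :
    W.W S = (W.W (⊤ : Subgroup S)).map S.subtype := by
  have := W.map S.subtype ⊤ inferInstance (top_isPGroup hS) (S.subtype_injective.injOn)
  rwa [← MonoidHom.range_eq_map, Subgroup.range_subtype] at this

theorem imgOf_eq {Ω : Type u} [Group Ω] {S : Subgroup Ω} [Finite S] (hS : IsPGroup p S)
    {G : Type u} [Group G] {ι : S →* G}
    (hinj : Function.Injective ι) : imgOf ι (W.W S) = W.W ι.range := by
  have h1 := W.eq_map_top S hS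
  have h2 : (W.W S).subgroupOf S = W.W (⊤ : Subgroup S) := by
    rw [h1, Subgroup.subgroupOf, Subgroup.comap_map_eq_self_of_injective S.subtype_injective]
  unfold imgOf
  rw [h2, ← W.map ι ⊤ inferInstance (top_isPGroup hS) hinj.injOn, ← MonoidHom.range_eq_map]

end PFun

variable {Ω : Type u} [Group Ω] {S : Subgroup Ω}

/-- The normalizer system of a fully normalized subgroup normal in `S`, as a system over `S`. -/
theorem exists_normalizer_on_top [Finite S] {p : ℕ} [Fact p.Prime] (hS : IsPGroup p S)
    {F : FusionSystem S} (hF : F.IsSaturated p) {Q : Subgroup Ω} (hQfn : F.IsFullyNormalized Q)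
    (hNS : normalizerIn S Q = S) :
    ∃ N : FusionSystem S, (∀ P : Subgroup Ω, N.Hom P = F.normalizerHom Q P) ∧
      N.IsSaturated p ∧ N.IsNormal Q := by
  have hQS := hQfn.1
  have key : ∀ (T : Subgroup Ω) (_ : T = S) (N : FusionSystem T),
      (∀ P : Subgroup Ω, N.Hom P = F.normalizerHom Q P) → N.IsSaturated p → N.IsNormal Q →
      ∃ N : FusionSystem S, (∀ P : Subgroup Ω, N.Hom P = F.normalizerHom Q P) ∧
        N.IsSaturated p ∧ N.IsNormal Q := by
    rintro T rfl N h1 h2 h3
    exact ⟨N, h1, h2, h3⟩
  have hN : F.IsNormalizerSystem Q (Cfsg.Agent.S5096.normSys F Q hQS) := fun _ => rfl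
  exact key _ hNS _ hN (normalizerSystem_isSaturated hS hF hQfn _ hN)
    (normalizerSystem_isNormal hQS hN)

/-- the trivial case: a system over the trivial group -/
theorem allP_of_eq_bot {p : ℕ} {F : FusionSystem S} (hS : S = ⊥) : AllP p F := by
  intro P f hf
  refine ⟨0, fun x hx => ?_⟩
  have : x = 1 := by
    have := hf.le_left hx
    rwa [hS, Subgroup.mem_bot] at this
  rw [this, pow_zero, Function.iterate_one]
  exact hf.map_one

section Main

variable {p : ℕ} [Fact p.Prime] (W : PFun.{u} p)

/-- The inductive statement. -/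
def Goal (n : ℕ) : Prop :=
  ∀ {Ω : Type u} [Group Ω] {S : Subgroup Ω} [Finite S], Nat.card S = n → IsPGroup p S →
    ∀ F : FusionSystem S, F.IsSaturated p → ¬ NT p F (W.W S) → AllP p F

variable (hG : ∀ (G : Type u) [Group G] [Finite G] (P : Sylow p G),
    Subgroup.centralizer ((pCore p G : Subgroup G) : Set G) ≤ pCore p G →
    Cfsg.HasNormalPComplement p
      ↥(Subgroup.normalizer ((W.W (P : Subgroup G) : Subgroup G) : Set G)) →
    Cfsg.HasNormalPComplement p G)

include hG in
/-- Second stage: a system with a nontrivial normal subgroup `Q`, maximal in the appropriate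
sense. -/
theorem stage2 {n : ℕ} (ih : ∀ m < n, Goal W m) [Finite S] (hcard : Nat.card S = n)
    (hS : IsPGroup p S) {F : FusionSystem S} (hF : F.IsSaturated p) {Q : Subgroup Ω}
    (hQ : F.IsNormal Q) (hQne : Q ≠ ⊥) (hW : ¬ NT p F (W.W S))
    (hmax : ∀ R : Subgroup Ω, Q < R → normalizerIn S R = S → ¬ NT p F R) : AllP p F := by
  have hQsc := isNormal_stronglyClosed hQ
  have hQS := hQ.1
  have hfinQ : Finite Q := finite_of_le S hQS
  obtain ⟨Ω', _, S', F', θ, hsm, hker, -⟩ := exists_factor hS hF hQsc
  have hrange := hsm.2.1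
  have hfinS' : Finite S' := finite_S' hrange
  have hS'p : IsPGroup p S' := isPGroup_S' hrange hS
  have hK : F.StronglyClosed (kerSub θ) := hker ▸ hQsc
  have hF'sat : F'.IsSaturated p := isSaturated_of_surjectiveMorphism hS hF hsm
  -- the quotient is smaller
  have hlt : Nat.card S' < n := by
    have h1 := card_pre hrange (le_rfl : S' ≤ S')
    rw [pre_top hrange, hker, hcard] at h1
    have h2 : 1 < Nat.card Q := by
      rw [Subgroup.one_lt_card_iff_ne_bot]
      exact hQne
    have h3 : 0 < Nat.card S' := Nat.card_pos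
    rw [h1]
    nlinarith
  -- the quotient system has `p`-group automizers
  have hallF' : AllP p F' := by
    by_cases hS'bot : S' = ⊥
    · exact allP_of_eq_bot hS'bot
    apply ih _ hlt rfl hS'p F' hF'sat
    intro hnt
    have h1 := lift_NT hsm hK hnt
    have hWS' : W.W S' ≤ S' := W.le S'
    refine hmax _ ?_ ?_ h1
    · -- `Q < R`
      rw [← hker]
      refine lt_of_le_of_ne (kerSub_le_pre θ _) ?_
      intro heq
      have h2 : (⊥ : Subgroup Ω') = W.W S' := pre_injective hrange bot_le hWS' heq
      exact W.ne_bot S' hfinS' hS'p hS'bot h2.symm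
    · -- `R` is normal in `S`
      rw [normalizerIn_pre hrange hWS']
      rw [W.normalizerIn_self S' hS'p, pre_top hrange]
  -- automorphisms centralizing `Q` are `p`-elements
  obtain ⟨m, hm⟩ := (hS.to_le hQS).exists_card_eq
  have hstab : ∀ (P : Subgroup Ω) (f : Ω → Ω), IsIso F P P f → Q ≤ P → (∀ x ∈ Q, f x = x) →
      IsPAut p P f := by
    intro P f hf hQP hfix
    exact push_isPAut hsm.1 hallF' hf (hker ▸ hQP) (hker ▸ hfix) (hker ▸ hm)
  have hRn := isNormal_sup_centralizer hS hF hQ hstab
  by_contra hnot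
  -- `Q` is centric
  have hC : centralizerIn S Q ≤ Q := by
    by_contra hC
    refine hmax (Q ⊔ centralizerIn S Q) ?_
      (stronglyClosed_normalizerIn_eq (isNormal_stronglyClosed hRn)) (NT_of_isNormal hRn hnot)
    refine lt_of_le_of_ne le_sup_left ?_
    intro heq
    exact hC ((le_sup_right : centralizerIn S Q ≤ Q ⊔ centralizerIn S Q).trans (le_of_eq heq.symm))
  have hQc : F.IsCentric Q := isCentric_of_isNormal hQ hC
  -- the model
  obtain ⟨G, _, ι, π, hM, -⟩ := exists_model_normal_centric hS hF hQ hQc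
  obtain ⟨hfinG, hreal, hsyl, hcent⟩ := hM
  have hWn : normalizerIn S (W.W S) = S := W.normalizerIn_self S hS
  have hnpcN := npc_normalizer_of_not_NT hS hreal hsyl (W.le S) hWn hW
  obtain ⟨T, hT⟩ := hsyl
  have himg : imgOf ι (W.W S) = W.W (T : Subgroup G) := by
    rw [hT]
    exact W.imgOf_eq hS hreal.1
  rw [himg] at hnpcN
  exact hnot (allP_of_npc hS hreal (hG G T hcent hnpcN))

include hG in
/-- **Main theorem**: if `N_F(W(S))` has `p`-group automizers (in the form `¬ NT p F (W S)`),
so has `F`. -/
theorem goal_all : ∀ n : ℕ, Goal W n := by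
  intro n
  induction n using Nat.strong_induction_on with
  | _ n ih =>
    intro Ω _ S _ hcard hS F hF hW
    by_contra hnot
    -- Stage 1: a maximal `Q`
    have h𝒬 := exists_NT_of_not_allP hS hF hnot
    have hfin : {Q : Subgroup Ω | Q ≠ ⊥ ∧ F.IsFullyNormalized Q ∧ NT p F Q}.Finite :=
      (finite_subgroups_le S).subset (fun Q hQ => hQ.2.1.1)
    obtain ⟨Q, ⟨hQne, hQfn, hQnt⟩, hQmax⟩ := Set.exists_max_image _
      (fun Q : Subgroup Ω => Nat.card (normalizerIn S Q) * (Nat.card S + 1) + Nat.card Q) hfin h𝒬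
    have hQS := hQfn.1
    have hfinQ : Finite Q := finite_of_le S hQS
    -- `Q` is normal in `S`
    have hNS : normalizerIn S Q = S := by
      by_contra hne
      have hRS : normalizerIn S Q ≤ S := inf_le_left
      have hfinR : Finite (normalizerIn S Q) := finite_of_le S hRS
      have hRp : IsPGroup p (normalizerIn S Q) := hS.to_le hRS
      have hRlt : Nat.card (normalizerIn S Q) < Nat.card S :=
        card_lt_of_lt' le_rfl (lt_of_le_of_ne hRS hne)
      have hNsys : F.IsNormalizerSystem Q (Cfsg.Agent.S5096.normSys F Q hQS) := fun _ => rfl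
      have hNsat := normalizerSystem_isSaturated hS hF hQfn _ hNsys
      have hNnot : ¬ AllP p (Cfsg.Agent.S5096.normSys F Q hQS) :=
        not_allP_of_NT hQS hNsys hQnt
      have hNW : NT p (Cfsg.Agent.S5096.normSys F Q hQS) (W.W (normalizerIn S Q)) := by
        by_contra h
        exact hNnot (ih _ (hcard ▸ hRlt) rfl hRp _ hNsat h)
      have hFW : NT p F (W.W (normalizerIn S Q)) :=
        hNW.mono hRS (fun P φ hφ => by rw [hNsys P] at hφ; exact hφ.1)
      have hWR : W.W (normalizerIn S Q) ≤ normalizerIn S Q := W.le _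
      have hWRS : W.W (normalizerIn S Q) ≤ S := hWR.trans hRS
      obtain ⟨U', X, χ, hfn', hχ, hχU⟩ := exists_fn_map hS hF hWRS
      have hU'nt := hFW.transport hχ hχU
      have hRne : normalizerIn S Q ≠ ⊥ := by
        intro h
        apply hQne
        rw [eq_bot_iff, ← h]
        exact le_normalizerIn hQS
      have hWne := W.ne_bot _ hfinR hRp hRne
      have hU'ne : U' ≠ ⊥ := by
        rintro rfl
        apply hWne
        rw [eq_bot_iff]
        intro x hx
        have h1 := hχU.map_mem hx
        rw [Subgroup.mem_bot] at h1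
        rw [Subgroup.mem_bot]
        exact hχU.injOn hx (Subgroup.one_mem _) (h1.trans hχU.map_one.symm)
      have hmax := hQmax U' ⟨hU'ne, hfn', hU'nt⟩
      have h1 : Nat.card (normalizerIn S (W.W (normalizerIn S Q))) ≤
          Nat.card (normalizerIn S U') := hfn'.2 _ (isConj_symm F hχU.isConj)
      have h2 : Nat.card (normalizerIn S Q) <
          Nat.card (normalizerIn S (W.W (normalizerIn S Q))) := by
        obtain ⟨g, hgN, hgR⟩ := exists_mem_normalizerIn_not_mem hS hRS hne
        have hle : normalizerIn S Q ≤ normalizerIn S (W.W (normalizerIn S Q)) :=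
          (le_normalizerIn hRS).trans (W.normalizerIn_le S _ hfinR hRp)
        apply card_lt_of_lt' inf_le_left
        refine lt_of_le_of_ne hle ?_
        intro heq
        apply hgR
        rw [heq]
        exact W.normalizerIn_le S _ hfinR hRp hgN
      have h3 : Nat.card Q ≤ Nat.card S := Subgroup.card_le_of_le hQS
      have h4 : (Nat.card (normalizerIn S Q) + 1) * (Nat.card S + 1) ≤
          Nat.card (normalizerIn S U') * (Nat.card S + 1) :=
        Nat.mul_le_mul_right _ (by omega)
      have hmax' : Nat.card (normalizerIn S U') * (Nat.card S + 1) + Nat.card U' ≤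
          Nat.card (normalizerIn S Q) * (Nat.card S + 1) + Nat.card Q := hmax
      nlinarith
    -- Stage 2
    obtain ⟨N, hNhom, hNsat, hNQ⟩ := exists_normalizer_on_top hS hF hQfn hNS
    have hNF : ∀ P : Subgroup Ω, N.Hom P ⊆ F.Hom P := fun P φ hφ => by
      rw [hNhom P] at hφ; exact hφ.1
    have hNnot : ¬ AllP p N := not_allP_of_NT hQS hNhom hQnt
    apply hNnot
    apply stage2 W hG ih hcard hS hNsat hNQ hQne
    · intro h
      exact hW (h.mono le_rfl hNF)
    · intro R hQR hRn hnt
      have hFnt : NT p F R := hnt.mono le_rfl hNF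
      have hRS : R ≤ S := by
        obtain ⟨P, f, hRP, hPN, -⟩ := hFnt
        exact hRP.trans (hPN.trans inf_le_left)
      have hRfn : F.IsFullyNormalized R := by
        refine ⟨hRS, fun Q' _ => ?_⟩
        rw [hRn]
        exact Subgroup.card_le_of_le inf_le_left
      have hRne : R ≠ ⊥ := by
        rintro rfl
        exact not_lt_bot hQR
      have hmax := hQmax R ⟨hRne, hRfn, hFnt⟩
      have hmax' : Nat.card (normalizerIn S R) * (Nat.card S + 1) + Nat.card R ≤
          Nat.card (normalizerIn S Q) * (Nat.card S + 1) + Nat.card Q := hmax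
      rw [hRn, hNS] at hmax'
      have := card_lt_of_lt' hRS hQR
      omega

end Main

end Cfsg.Agent.Lib.H26.Nil
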