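import Mathlib
import Cfsg.Agent.Lib.H25.Fusion
import Cfsg.Agent.Lib.H25.Saturation
import Cfsg.Agent.Lib.H25.SatEquiv

set_option autoImplicit false
set_option linter.unusedSectionVars false
set_option linter.unusedVariables false

/-!
Function-level maps of the normalizer system and their transport along an isomorphism of the
system (helper26).
-/

namespace Cfsg.Agent.Lib.H26

open Cfsg Cfsg.FusionSystem Cfsg.Agent.Lib.H25

variable {Ω : Type*} [Group Ω] {S : Subgroup Ω} {F : FusionSystem S}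

/-- `k`, restricted to `P`, is a map of the normalizer system `N_F(Q)`. -/
def IsNHom (F : FusionSystem S) (Q P : Subgroup Ω) (k : Ω → Ω) : Prop :=
  ∃ φ ∈ F.normalizerHom Q P, ∀ x : P, φ x = k x

theorem isNHom_iff {Q P : Subgroup Ω} {k : Ω → Ω} :
    IsNHom F Q P k ↔ P ≤ normalizerIn S Q ∧ (∀ x ∈ P, k x ∈ normalizerIn S Q) ∧
      ∃ (kb : Ω → Ω) (C : Subgroup Ω), IsIso F (P ⊔ Q) C kb ∧ (∀ x ∈ P, kb x = k x) ∧
        (∀ x ∈ Q, kb x ∈ Q) ∧ (∀ y ∈ Q, ∃ x ∈ Q, kb x = y) := by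
  constructor
  · rintro ⟨φ, ⟨hφF, hP, hval, ψ, hψ, hψφ, hmap⟩, hφk⟩
    refine ⟨hP, fun x hx => ?_, ext1 ψ, ψ.range, isIso_of_mem F hψ, fun x hx => ?_,
      fun x hx => ?_, fun y hy => ?_⟩
    · rw [← hφk ⟨x, hx⟩]
      exact hval ⟨x, hx⟩
    · rw [ext1_apply_mem ψ ((le_sup_left : P ≤ P ⊔ Q) hx), ← hφk ⟨x, hx⟩]
      exact hψφ ⟨x, hx⟩
    · rw [ext1_apply_mem ψ ((le_sup_right : Q ≤ P ⊔ Q) hx)]
      have : ψ ⟨x, (le_sup_right : Q ≤ P ⊔ Q) hx⟩ ∈ (Q.subgroupOf (P ⊔ Q)).map ψ :=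
        ⟨⟨x, (le_sup_right : Q ≤ P ⊔ Q) hx⟩, Subgroup.mem_subgroupOf.2 hx, rfl⟩
      exact hmap.le this
    · have hy' : y ∈ (Q.subgroupOf (P ⊔ Q)).map ψ := hmap.ge hy
      obtain ⟨x, hx, rfl⟩ := hy'
      refine ⟨x, Subgroup.mem_subgroupOf.1 hx, ?_⟩
      exact ext1_apply ψ x
  · rintro ⟨hP, hval, kb, C, hkb, hkbk, hQ1, hQ2⟩
    obtain ⟨ψ, hψ, hψkb, -⟩ := hkb
    refine ⟨ψ.comp (Subgroup.inclusion le_sup_left), ⟨restrict_mem F hψ le_sup_left, hP,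
      fun x => ?_, ψ, hψ, fun x => rfl, ?_⟩, fun x => ?_⟩
    · show ψ (Subgroup.inclusion le_sup_left x) ∈ _
      rw [hψkb]
      show kb (x : Ω) ∈ _
      rw [hkbk x x.2]
      exact hval x x.2
    · ext y
      constructor
      · rintro ⟨x, hx, rfl⟩
        rw [hψkb]
        exact hQ1 x (Subgroup.mem_subgroupOf.1 hx)
      · intro hy
        obtain ⟨x, hx, rfl⟩ := hQ2 y hy
        refine ⟨⟨x, (le_sup_right : Q ≤ P ⊔ Q) hx⟩, Subgroup.mem_subgroupOf.2 hx, ?_⟩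
        rw [hψkb]
    · show ψ (Subgroup.inclusion le_sup_left x) = k x
      rw [hψkb]
      exact hkbk x x.2

theorem isNHom_of_mem {Q P : Subgroup Ω} {φ : P →* Ω} (hφ : φ ∈ F.normalizerHom Q P) :
    IsNHom F Q P (ext1 φ) :=
  ⟨φ, hφ, fun x => (ext1_apply φ x).symm⟩

theorem mem_of_isNHom {Q P : Subgroup Ω} {k : Ω → Ω} (h : IsNHom F Q P k) {φ : P →* Ω}
    (hφ : ∀ x : P, φ x = k x) : φ ∈ F.normalizerHom Q P := by
  obtain ⟨φ', hφ', hφ'k⟩ := h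
  have : φ = φ' := MonoidHom.ext fun x => (hφ x).trans (hφ'k x).symm
  rwa [this]

/-- Transport of maps of the normalizer system along an isomorphism of the system carrying
`N_S(Q)` onto `N_S(Q')` and `Q` onto `Q'`. -/
theorem IsNHom.transport {Q Q' P P' : Subgroup Ω} {f g k : Ω → Ω}
    (hfT : IsIso F (normalizerIn S Q) (normalizerIn S Q') f)
    (hgf : ∀ x ∈ normalizerIn S Q, g (f x) = x)
    (hfQ : IsIso F Q Q' f) (hk : IsNHom F Q P k) (hP' : IsIso F P P' f) :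
    IsNHom F Q' P' (f ∘ k ∘ g) := by
  obtain ⟨hP, hval, kb, C, hkb, hkbk, hQ1, hQ2⟩ := isNHom_iff.1 hk
  have hQS : Q ≤ S := hfQ.le_left
  have hQT : Q ≤ normalizerIn S Q := le_normalizerIn hQS
  have hP'T : P' ≤ normalizerIn S Q' := by
    intro y hy
    obtain ⟨x, hx, rfl⟩ := hP'.surjOn hy
    exact hfT.map_mem (hP hx)
  have hgP' : ∀ y ∈ P', g y ∈ P ∧ f (g y) = y := by
    intro y hy
    obtain ⟨x, hx, rfl⟩ := hP'.surjOn hy
    rw [hgf x (hP hx)]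
    exact ⟨hx, rfl⟩
  have hgQ' : ∀ y ∈ Q', g y ∈ Q ∧ f (g y) = y := by
    intro y hy
    obtain ⟨x, hx, rfl⟩ := hfQ.surjOn hy
    rw [hgf x (hQT hx)]
    exact ⟨hx, rfl⟩
  -- the join
  have hsupT : P ⊔ Q ≤ normalizerIn S Q := sup_le hP hQT
  obtain ⟨C₁, -, hC₁, -⟩ := hfT.restrict hsupT
  have hC₁eq : C₁ = P' ⊔ Q' := hC₁.image_sup hP' hfQ
  rw [hC₁eq] at hC₁
  obtain ⟨g', hg', hg'f, hfg'⟩ := hC₁.symm
  have hgiso : IsIso F (P' ⊔ Q') (P ⊔ Q) g := by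
    refine hg'.congr (fun y hy => ?_)
    obtain ⟨x, hx, rfl⟩ := hC₁.surjOn hy
    rw [hg'f x hx, hgf x (hsupT hx)]
  -- `C ≤ N_S(Q)`
  have hCT : C ≤ normalizerIn S Q := by
    intro y hy
    obtain ⟨x, hx, rfl⟩ := hkb.surjOn hy
    have hpre : P ⊔ Q ≤ hkb.pre (normalizerIn S Q) := by
      apply sup_le
      · intro a ha
        refine ⟨(le_sup_left : P ≤ P ⊔ Q) ha, ?_⟩
        rw [hkbk a ha]
        exact hval a ha
      · intro b hb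
        exact ⟨(le_sup_right : Q ≤ P ⊔ Q) hb, hQT (hQ1 b hb)⟩
    exact (hpre hx).2
  obtain ⟨C₂, -, hC₂, -⟩ := hfT.restrict hCT
  have hcomp : IsIso F (P' ⊔ Q') C₂ (f ∘ kb ∘ g) := (hgiso.trans hkb).trans hC₂
  refine isNHom_iff.2 ⟨hP'T, fun y hy => ?_, f ∘ kb ∘ g, C₂, hcomp, fun y hy => ?_, fun y hy => ?_,
    fun y hy => ?_⟩
  · exact hfT.map_mem (hval _ (hgP' y hy).1)
  · show f (kb (g y)) = f (k (g y))
    rw [hkbk _ (hgP' y hy).1]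
  · show f (kb (g y)) ∈ Q'
    exact hfQ.map_mem (hQ1 _ (hgQ' y hy).1)
  · obtain ⟨x, hx, rfl⟩ := hfQ.surjOn hy
    obtain ⟨x₀, hx₀, rfl⟩ := hQ2 x hx
    refine ⟨f x₀, hfQ.map_mem hx₀, ?_⟩
    show f (kb (g (f x₀))) = _
    rw [hgf x₀ (hQT hx₀)]

end Cfsg.Agent.Lib.H26
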