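import Mathlib
import Cfsg.Agent.Lib.H26.NormalizerTransport
import Cfsg.Agent.Lib.H26.CentricExt
import Cfsg.Agent.Lib.H26.EssentialOmit
import Cfsg.Agent.Lib.H25.NormalizerSystem

set_option autoImplicit false
set_option linter.unusedSectionVars false
set_option linter.unusedVariables false

/-!
Subgroups of `N_S(Q)` containing `Q`, for `Q` fully normalized (helper26): their conjugates in the
system can be pulled back to conjugates in the normalizer system `N_F(Q)`.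
-/

namespace Cfsg.Agent.Lib.H26

open Cfsg Cfsg.FusionSystem Cfsg.Agent.Lib.H25

variable {Ω : Type*} [Group Ω] {S : Subgroup Ω} {F : FusionSystem S}

section pull

variable [Finite S] {p : ℕ} [Fact p.Prime] {Q : Subgroup Ω} {N : FusionSystem (normalizerIn S Q)}

/-- conjugation by an element normalizes the image of a normalized subgroup -/
theorem IsIso.map_mem_normalizer {A A' B B' : Subgroup Ω} {f : Ω → Ω} (hA : IsIso F A A' f)
    (hBA : B ≤ A) (hB : IsIso F B B' f) {a : Ω} (ha : a ∈ A)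
    (hn : a ∈ Subgroup.normalizer (B : Set Ω)) : f a ∈ Subgroup.normalizer (B' : Set Ω) := by
  have key : ∀ a ∈ A, a ∈ Subgroup.normalizer (B : Set Ω) → ∀ z ∈ B', f a * z * (f a)⁻¹ ∈ B' := by
    intro a ha hn z hz
    obtain ⟨b, hb, rfl⟩ := hB.surjOn hz
    have h1 : a * b * a⁻¹ ∈ B := (Subgroup.mem_normalizer_iff.1 hn b).1 hb
    have h2 : f (a * b * a⁻¹) = f a * f b * (f a)⁻¹ := by
      rw [hA.map_mul (Subgroup.mul_mem _ ha (hBA hb)) (Subgroup.inv_mem _ ha),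
        hA.map_mul ha (hBA hb), hA.map_inv ha]
    rw [← h2]
    exact hB.map_mem h1
  refine mem_normalizer_of_conj_mem (key a ha hn) ?_
  intro z hz
  have := key a⁻¹ (Subgroup.inv_mem _ ha) (Subgroup.inv_mem _ hn) z hz
  rwa [hA.map_inv ha, inv_inv] at this

/-- an isomorphism of the system between overgroups of `Q` inside `N_S(Q)` mapping `Q` onto `Q` is
a map of the normalizer system -/
theorem isConj_normalizerSystem (hN : F.IsNormalizerSystem Q N) {P P₂ : Subgroup Ω} (hQP : Q ≤ P)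
    (hPT : P ≤ normalizerIn S Q) (hP₂T : P₂ ≤ normalizerIn S Q) {k : Ω → Ω}
    (hk : IsIso F P P₂ k) (hkQ : IsIso F Q Q k) : N.IsConj P P₂ := by
  obtain ⟨φ, hφ, hφk, hr⟩ := hk
  refine ⟨φ, ?_, hr⟩
  rw [hN P]
  have heq : P ⊔ Q = P := sup_eq_left.2 hQP
  refine mem_of_isNHom (isNHom_iff.2 ⟨hPT, fun x hx => ?_, k, P₂, ?_, fun x hx => rfl,
    fun x hx => hkQ.map_mem hx, fun y hy => hkQ.surjOn hy⟩) hφk
  · apply hP₂T
    rw [← hr]
    exact ⟨⟨x, hx⟩, hφk ⟨x, hx⟩⟩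
  · rw [heq]
    exact ⟨φ, hφ, hφk, hr⟩

theorem exists_pullback (hS : IsPGroup p S) (hF : F.IsSaturated p)
    (hQfn : F.IsFullyNormalized Q) (hN : F.IsNormalizerSystem Q N) {P P₁ : Subgroup Ω}
    (hQP : Q ≤ P) (hPT : P ≤ normalizerIn S Q) {κ : Ω → Ω} (hκ : IsIso F P P₁ κ) :
    ∃ (U : Subgroup Ω) (ρ : Ω → Ω) (N₁ P₂ : Subgroup Ω), IsIso F Q U κ ∧ U ≤ P₁ ∧
      P₁ ≤ normalizerIn S U ∧ IsIso F (normalizerIn S U) N₁ ρ ∧ N₁ ≤ normalizerIn S Q ∧
      IsIso F U Q ρ ∧ IsIso F P₁ P₂ ρ ∧ N.IsConj P P₂ := by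
  obtain ⟨U, hUP₁, hκQ, hUmem⟩ := hκ.restrict hQP
  have hP₁S : P₁ ≤ S := hκ.le_right
  have hP₁U : P₁ ≤ normalizerIn S U := by
    intro y hy
    obtain ⟨a, ha, rfl⟩ := hκ.surjOn hy
    exact ⟨hP₁S (hκ.map_mem ha), IsIso.map_mem_normalizer hκ hQP hκQ ha (hPT ha).2⟩
  obtain ⟨hQfc, hQfa⟩ := fullyNormalized_props hS hF hQfn
  have hQrec := isReceptive_of_fullyCentralized hS hF hQfc
  obtain ⟨ρ, N₁, hρN, hN₁, hρU⟩ := exists_normalizer_map hS hQfa hQrec (isConj_symm F hκQ.isConj)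
  obtain ⟨P₂, hP₂N₁, hρP₁, hP₂mem⟩ := hρN.restrict hP₁U
  refine ⟨U, ρ, N₁, P₂, hκQ, hUP₁, hP₁U, hρN, hN₁, hρU, hρP₁, ?_⟩
  exact isConj_normalizerSystem hN hQP hPT (hP₂N₁.trans hN₁) (hκ.trans hρP₁) (hκQ.trans hρU)

/-- A subgroup of `N_S(Q)` containing `Q` which is centric in `N_F(Q)` is centric in `F`. -/
theorem isCentric_of_normalizerSystem (hS : IsPGroup p S) (hF : F.IsSaturated p)
    (hQfn : F.IsFullyNormalized Q) (hN : F.IsNormalizerSystem Q N) {P : Subgroup Ω}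
    (hQP : Q ≤ P) (hPc : N.IsCentric P) : F.IsCentric P := by
  have hPT : P ≤ normalizerIn S Q := hPc.1
  refine ⟨hPT.trans inf_le_left, fun P₁ hP₁ => ?_⟩
  obtain ⟨κ, hκ⟩ := (isConj_iff F).1 hP₁
  obtain ⟨U, ρ, N₁, P₂, hκQ, hUP₁, hP₁U, hρN, hN₁, hρU, hρP₁, hconj⟩ :=
    exists_pullback hS hF hQfn hN hQP hPT hκ
  have h1 := hPc.2 P₂ hconj
  intro c hc
  have hcU : c ∈ normalizerIn S U :=
    ⟨hc.1, Subgroup.centralizer_le_normalizer _ (Subgroup.centralizer_le (by exact_mod_cast hUP₁) hc.2)⟩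
  have h2 : ρ c ∈ centralizerIn (normalizerIn S Q) P₂ := by
    refine ⟨hN₁ (hρN.map_mem hcU), ?_⟩
    show ρ c ∈ Subgroup.centralizer (P₂ : Set Ω)
    rw [Subgroup.mem_centralizer_iff]
    intro y hy
    obtain ⟨x, hx, rfl⟩ := hρP₁.surjOn hy
    rw [← hρN.map_mul (hP₁U hx) hcU, ← hρN.map_mul hcU (hP₁U hx)]
    congr 1
    exact hc.2 x hx
  obtain ⟨x, hx, hxc⟩ := hρP₁.surjOn (h1 h2)
  have := hρN.injOn (hP₁U hx) hcU hxc
  rw [← this]
  exact hx

end pull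

end Cfsg.Agent.Lib.H26
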