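import Mathlib
import Cfsg.Agent.Lib.H26.ModelSylow
import Cfsg.Agent.Lib.H26.NormalizerTransport

set_option autoImplicit false
set_option linter.unusedSectionVars false
set_option linter.unusedVariables false

/-!
Local subgroups of models (helper26).  Let `Q` be fully normalized in `F`, `N = N_F(Q)`, and `R` a fully
normalized centric subgroup with `Q ≤ R ≤ N_S(Q)` and `R` normal in `N`.  If `L_R` is a model of
`N_F(R)` then `N_{L_R}(ι Q)` is a model of `N`.
-/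

namespace Cfsg.Agent.Lib.H26.Model

open Cfsg Cfsg.FusionSystem Cfsg.Agent.Lib.H25 Cfsg.Agent.Lib.H26

universe u w

variable {Ω : Type u} [Group Ω] {S : Subgroup Ω} {F : FusionSystem S}

section localmodel

variable [Finite S] {p : ℕ} [Fact p.Prime] {Q R : Subgroup Ω}
  {LR : Type w} [Group LR] {ιR : ↥(normalizerIn S R) →* LR}
  {N : FusionSystem (normalizerIn S Q)} {NR : FusionSystem (normalizerIn S R)}

/-- the local subgroup `N_{L_R}(ι Q)` -/
def locSub (ιR : ↥(normalizerIn S R) →* LR) (Q : Subgroup Ω) : Subgroup LR :=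
  Subgroup.normalizer ((imgOf ιR Q : Subgroup LR) : Set LR)

/-- the restriction of `ι_R` to `N_S(Q)`, with values in the local subgroup -/
def locHom (hTTR : normalizerIn S Q ≤ normalizerIn S R)
    (hmem : ∀ t : ↥(normalizerIn S Q), ιR (Subgroup.inclusion hTTR t) ∈ locSub ιR Q) :
    ↥(normalizerIn S Q) →* ↥(locSub ιR Q) :=
  (ιR.comp (Subgroup.inclusion hTTR)).codRestrict (locSub ιR Q) hmem

theorem locHom_coe (hTTR : normalizerIn S Q ≤ normalizerIn S R)
    (hmem : ∀ t : ↥(normalizerIn S Q), ιR (Subgroup.inclusion hTTR t) ∈ locSub ιR Q)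
    (t : ↥(normalizerIn S Q)) :
    ((locHom hTTR hmem t : ↥(locSub ιR Q)) : LR) = ιR (Subgroup.inclusion hTTR t) := rfl

/-- elements of `N_S(Q)` map into the local subgroup -/
theorem locHom_mem (hQS : Q ≤ S)
    (hTTR : normalizerIn S Q ≤ normalizerIn S R) (t : ↥(normalizerIn S Q)) :
    ιR (Subgroup.inclusion hTTR t) ∈ locSub ιR Q := by
  have hQT : Q ≤ normalizerIn S Q := le_normalizerIn hQS
  apply imgOf_normalizerIn_le (hQT.trans hTTR)
  exact mem_imgOf.2 ⟨t, hTTR t.2, ⟨hTTR t.2, t.2.2⟩, rfl⟩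

theorem le_of_isNormal (hRN : N.IsNormal R) : normalizerIn S Q ≤ normalizerIn S R := by
  intro t ht
  exact ⟨ht.1, stronglyClosed_le_normalizer (isNormal_stronglyClosed hRN) ht⟩

/-- the local subgroup realizes the normalizer system of `Q` -/
theorem loc_realizedBy (hQS : Q ≤ S) (hN : F.IsNormalizerSystem Q N)
    (hNR : F.IsNormalizerSystem R NR) (hQR : Q ≤ R) (hRN : N.IsNormal R)
    (hreal : NR.IsRealizedBy ιR) (hTTR : normalizerIn S Q ≤ normalizerIn S R)
    (hmem : ∀ t : ↥(normalizerIn S Q), ιR (Subgroup.inclusion hTTR t) ∈ locSub ιR Q) :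
    N.IsRealizedBy (locHom hTTR hmem) := by
  haveI hfinTR : Finite ↥(normalizerIn S R) := finite_of_le S inf_le_left
  have hinj := hreal.1
  have hQT : Q ≤ normalizerIn S Q := le_normalizerIn hQS
  have hRT : R ≤ normalizerIn S Q := hRN.1
  refine ⟨?_, ?_⟩
  · intro a b hab
    have h1 : ιR (Subgroup.inclusion hTTR a) = ιR (Subgroup.inclusion hTTR b) :=
      congrArg Subtype.val hab
    exact Subgroup.inclusion_injective hTTR (hinj h1)
  · intro P hP φ hφ
    constructor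
    · intro hφN
      obtain ⟨ψ, hψN, hψφ, hψR⟩ := hRN.2 P φ hφN
      have hψ' := hψN
      rw [hN (P ⊔ R)] at hψ'
      obtain ⟨hψF, hPRT, hval, ψ₂, hψ₂, hψ₂ψ, hmapQ⟩ := hψ'
      have hQPR : Q ≤ P ⊔ R := hQR.trans le_sup_right
      -- `ψ` maps `Q` onto `Q`
      have hψQ : ∀ q (hq : q ∈ Q), ψ ⟨q, hQPR hq⟩ ∈ Q := by
        intro q hq
        rw [← hψ₂ψ ⟨q, hQPR hq⟩]
        have : ψ₂ (Subgroup.inclusion le_sup_left ⟨q, hQPR hq⟩) ∈
            (Q.subgroupOf (P ⊔ R ⊔ Q)).map ψ₂ := ⟨_, Subgroup.mem_subgroupOf.2 hq, rfl⟩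
        exact hmapQ.le this
      have hψQ' : ∀ q' ∈ Q, ∃ q, ∃ hq : q ∈ Q, ψ ⟨q, hQPR hq⟩ = q' := by
        intro q' hq'
        obtain ⟨x, hx, hxq⟩ := hmapQ.ge hq'
        have hxQ : (x : Ω) ∈ Q := Subgroup.mem_subgroupOf.1 hx
        refine ⟨x, hxQ, ?_⟩
        rw [← hψ₂ψ]
        exact hxq
      -- `ψ` is a map of `N_F(R)`
      have hψNR : ψ ∈ NR.Hom (P ⊔ R) := by
        rw [hNR (P ⊔ R)]
        have heq : P ⊔ R ⊔ R = P ⊔ R := by rw [sup_assoc, sup_idem]
        refine mem_of_isNHom (isNHom_iff.2 ⟨hPRT.trans hTTR, fun x hx => ?_, ext1 ψ, ψ.range, ?_,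
          fun x hx => rfl, fun x hx => ?_, fun y hy => ?_⟩) (fun x => (ext1_apply ψ x).symm)
        · rw [ext1_apply_mem ψ hx]; exact hTTR (hval ⟨x, hx⟩)
        · rw [heq]; exact isIso_of_mem F hψF
        · rw [ext1_apply_mem ψ ((le_sup_right : R ≤ P ⊔ R) hx)]
          exact hψR.le ⟨⟨x, (le_sup_right : R ≤ P ⊔ R) hx⟩, Subgroup.mem_subgroupOf.2 hx, rfl⟩
        · obtain ⟨x, hx, rfl⟩ := hψR.ge hy
          exact ⟨x, Subgroup.mem_subgroupOf.1 hx, ext1_apply ψ x⟩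
      obtain ⟨l, hl⟩ := (hreal.2 (P ⊔ R) (hPRT.trans hTTR) ψ (fun x => hTTR (hval x))).1 hψNR
      have hlM : l ∈ locSub ιR Q := by
        apply mem_normalizer_of_conj_mem
        · intro y hy
          obtain ⟨q, hqT, hqQ, rfl⟩ := mem_imgOf.1 hy
          have h1 := hl ⟨q, hQPR hqQ⟩
          have h2 : l * ιR ⟨q, hqT⟩ * l⁻¹ = ιR ⟨ψ ⟨q, hQPR hqQ⟩, hTTR (hval _)⟩ := h1.symm
          rw [h2]
          exact mem_imgOf.2 ⟨_, _, hψQ q hqQ, rfl⟩
        · intro y hy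
          obtain ⟨q', hq'T, hq'Q, rfl⟩ := mem_imgOf.1 hy
          obtain ⟨q, hq, hqq'⟩ := hψQ' q' hq'Q
          have h1 := hl ⟨q, hQPR hq⟩
          have h2 : ιR ⟨q', hq'T⟩ = l * ιR ⟨q, hTTR (hQT hq)⟩ * l⁻¹ := by
            rw [← h1]
            congr 1
            exact Subtype.ext hqq'.symm
          rw [h2]
          have : l⁻¹ * (l * ιR ⟨q, hTTR (hQT hq)⟩ * l⁻¹) * l = ιR ⟨q, hTTR (hQT hq)⟩ := by group
          rw [this]
          exact mem_imgOf.2 ⟨q, _, hq, rfl⟩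
      refine ⟨⟨l, hlM⟩, fun x => Subtype.ext ?_⟩
      show ιR ⟨φ x, hTTR (hφ x)⟩ = l * ιR ⟨x, hTTR (hP x.2)⟩ * l⁻¹
      have h1 := hl (Subgroup.inclusion le_sup_left x)
      rw [← show ιR ⟨ψ (Subgroup.inclusion le_sup_left x), hTTR (hval _)⟩ =
        ιR ⟨φ x, hTTR (hφ x)⟩ from congrArg ιR (Subtype.ext (hψφ x))]
      exact h1
    · rintro ⟨⟨m, hmM⟩, hm⟩
      have hm' : ∀ x : P, ιR ⟨φ x, hTTR (hφ x)⟩ = m * ιR ⟨x, hTTR (hP x.2)⟩ * m⁻¹ :=
        fun x => congrArg Subtype.val (hm x)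
      have hPQT : P ⊔ Q ≤ normalizerIn S Q := sup_le hP hQT
      have hPQTR : P ⊔ Q ≤ normalizerIn S R := hPQT.trans hTTR
      have hle : P ⊔ Q ≤ conjInSub ιR m := by
        apply sup_le
        · intro x hx
          refine mem_conjInSub.2 ⟨hTTR (hP hx), ?_⟩
          rw [← hm' ⟨x, hx⟩]
          exact ⟨_, rfl⟩
        · intro x hx
          refine mem_conjInSub.2 ⟨hTTR (hQT hx), ?_⟩
          apply imgOf_le_range Q
          exact (Subgroup.mem_normalizer_iff.1 hmM _).1 (mem_imgOf.2 ⟨x, _, hx, rfl⟩)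
      have hmem' : ∀ x : ↥(P ⊔ Q), m * ιR ⟨x, hPQTR x.2⟩ * m⁻¹ ∈ ιR.range := by
        intro x
        obtain ⟨h, h'⟩ := mem_conjInSub.1 (hle x.2)
        exact h'
      obtain ⟨ψ, hψ⟩ := exists_conjMap hinj m hPQTR hmem'
      have hψS : ∀ x, ψ x ∈ normalizerIn S R := fun x => by obtain ⟨h, -⟩ := hψ x; exact h
      have hψc : ∀ x, ιR ⟨ψ x, hψS x⟩ = m * ιR ⟨x, hPQTR x.2⟩ * m⁻¹ := fun x => by
        obtain ⟨h, h'⟩ := hψ x; exact h'
      have hψNR : ψ ∈ NR.Hom (P ⊔ Q) := (hreal.2 (P ⊔ Q) hPQTR ψ hψS).2 ⟨m, hψc⟩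
      have hψF : ψ ∈ F.Hom (P ⊔ Q) := by
        rw [hNR (P ⊔ Q)] at hψNR; exact hψNR.1
      have hψφ : ∀ x : P, ψ (Subgroup.inclusion le_sup_left x) = φ x := by
        intro x
        have h1 : ιR ⟨ψ (Subgroup.inclusion le_sup_left x), hψS _⟩ = ιR ⟨φ x, hTTR (hφ x)⟩ := by
          rw [hψc, hm']; rfl
        exact congrArg Subtype.val (hinj h1)
      rw [hN P]
      refine ⟨?_, hP, hφ, ψ, hψF, hψφ, ?_⟩
      · have : φ = ψ.comp (Subgroup.inclusion le_sup_left) :=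
          MonoidHom.ext fun x => (hψφ x).symm
        rw [this]; exact restrict_mem F hψF le_sup_left
      · ext y
        constructor
        · rintro ⟨x, hx, rfl⟩
          have hxQ : (x : Ω) ∈ Q := Subgroup.mem_subgroupOf.1 hx
          have h1 : m * ιR ⟨x, hPQTR x.2⟩ * m⁻¹ ∈ imgOf ιR Q :=
            (Subgroup.mem_normalizer_iff.1 hmM _).1 (mem_imgOf.2 ⟨x, _, hxQ, rfl⟩)
          obtain ⟨q, hqT, hqQ, hq⟩ := mem_imgOf.1 h1
          rw [← hψc] at hq
          have h2 : q = ψ x := congrArg Subtype.val (hinj hq)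
          show ψ x ∈ Q
          rw [← h2]; exact hqQ
        · intro hy
          have h1 : m⁻¹ * ιR ⟨y, hTTR (hQT hy)⟩ * m ∈ imgOf ιR Q := by
            have := (Subgroup.mem_normalizer_iff.1 (Subgroup.inv_mem _ hmM) _).1
              (mem_imgOf.2 ⟨y, hTTR (hQT hy), hy, rfl⟩)
            rwa [inv_inv] at this
          obtain ⟨q, hqT, hqQ, hq⟩ := mem_imgOf.1 h1
          refine ⟨⟨q, (le_sup_right : Q ≤ P ⊔ Q) hqQ⟩, Subgroup.mem_subgroupOf.2 hqQ, ?_⟩
          have h2 : ιR ⟨ψ ⟨q, (le_sup_right : Q ≤ P ⊔ Q) hqQ⟩, hψS _⟩ =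
              ιR ⟨y, hTTR (hQT hy)⟩ := by
            rw [hψc]
            have : ιR ⟨q, hPQTR ((le_sup_right : Q ≤ P ⊔ Q) hqQ)⟩ = ιR ⟨q, hqT⟩ := rfl
            rw [this, hq]
            group
          exact congrArg Subtype.val (hinj h2)

/-- `Q` is fully normalized in `N_F(R)` and its normalizer there is `N_S(Q)`. -/
theorem loc_fullyNormalized (hQfn : F.IsFullyNormalized Q) (hNR : F.IsNormalizerSystem R NR)
    (hTTR : normalizerIn S Q ≤ normalizerIn S R) :
    NR.IsFullyNormalized Q ∧ normalizerIn (normalizerIn S R) Q = normalizerIn S Q := by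
  have hQT : Q ≤ normalizerIn S Q := le_normalizerIn hQfn.1
  have h3 : normalizerIn S Q ≤ normalizerIn (normalizerIn S R) Q := fun x hx => ⟨hTTR hx, hx.2⟩
  have h3' : normalizerIn (normalizerIn S R) Q ≤ normalizerIn S Q := fun x hx => ⟨hx.1.1, hx.2⟩
  refine ⟨⟨hQT.trans hTTR, fun U hU => ?_⟩, le_antisymm h3' h3⟩
  obtain ⟨φ, hφ, hr⟩ := hU
  rw [hNR Q] at hφ
  have hFU : F.IsConj Q U := ⟨φ, hφ.1, hr⟩
  have h1 := hQfn.2 U hFU
  have h2 : normalizerIn (normalizerIn S R) U ≤ normalizerIn S U := fun x hx => ⟨hx.1.1, hx.2⟩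
  haveI : Finite ↥(normalizerIn S U) := finite_of_le S inf_le_left
  haveI : Finite ↥(normalizerIn (normalizerIn S R) Q) := finite_of_le S (inf_le_left.trans inf_le_left)
  calc Nat.card (normalizerIn (normalizerIn S R) U) ≤ Nat.card (normalizerIn S U) :=
        Subgroup.card_le_of_le h2
    _ ≤ Nat.card (normalizerIn S Q) := h1
    _ ≤ Nat.card (normalizerIn (normalizerIn S R) Q) := Subgroup.card_le_of_le h3

/-- **Local subgroups of models.** -/
theorem local_model (hS : IsPGroup p S) (hF : F.IsSaturated p) (hQfn : F.IsFullyNormalized Q)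
    (hN : F.IsNormalizerSystem Q N) (hRfn : F.IsFullyNormalized R) (hRc : F.IsCentric R)
    (hQR : Q ≤ R) (hRN : N.IsNormal R) (hNR : F.IsNormalizerSystem R NR)
    (hMR : NR.IsModel p LR ιR) :
    ∃ (hTTR : normalizerIn S Q ≤ normalizerIn S R)
      (hmem : ∀ t : ↥(normalizerIn S Q), ιR (Subgroup.inclusion hTTR t) ∈ locSub ιR Q),
      N.IsModel p ↥(locSub ιR Q) (locHom hTTR hmem) := by
  have hTTR : normalizerIn S Q ≤ normalizerIn S R := le_of_isNormal hRN
  have hQS := hQfn.1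
  have hmem := locHom_mem (ιR := ιR) hQS hTTR
  refine ⟨hTTR, hmem, ?_⟩
  haveI hfinTR : Finite ↥(normalizerIn S R) := finite_of_le S inf_le_left
  have hSTR : IsPGroup p ↥(normalizerIn S R) := hS.to_le inf_le_left
  have hQT : Q ≤ normalizerIn S Q := le_normalizerIn hQS
  have hRT : R ≤ normalizerIn S Q := hRN.1
  have hMR' := hMR
  obtain ⟨hfin, hreal, hsyl, hC⟩ := hMR
  have hinj := hreal.1
  refine ⟨inferInstance, loc_realizedBy hQS hN hNR hQR hRN hreal hTTR hmem, ?_, ?_⟩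
  · -- Sylow
    obtain ⟨hQfnR, hNeq⟩ := loc_fullyNormalized hQfn hNR hTTR
    obtain ⟨X, hX⟩ := realized_normalizer_sylow hSTR hreal hsyl hQfnR
    refine ⟨X, ?_⟩
    rw [hX]
    ext y
    rw [Subgroup.mem_subgroupOf, mem_imgOf]
    constructor
    · rintro ⟨x, hx, hxN, hxy⟩
      rw [hNeq] at hxN
      exact ⟨⟨x, hxN⟩, Subtype.ext hxy⟩
    · rintro ⟨t, rfl⟩
      refine ⟨t, hTTR t.2, ?_, rfl⟩
      rw [hNeq]
      exact t.2
  · -- the centralizer of `O_p`
    have hRnR : NR.IsNormal R := normalizerSystem_isNormal hRfn.1 hNR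
    have hRcR : NR.IsCentric R := normalizerSystem_isCentric hRc hNR
    have hsatR : NR.IsSaturated p := normalizerSystem_isSaturated hS hF hRfn NR hNR
    have hAn : (imgOf ιR R).Normal := model_map_normal hMR' hRnR
    have hAM : imgOf ιR R ≤ locSub ιR Q := by
      intro y hy
      obtain ⟨r, hrT, hrR, rfl⟩ := mem_imgOf.1 hy
      exact hmem ⟨r, hRT hrR⟩
    have hAp : IsPGroup p (imgOf ιR R) := by
      have h1 : IsPGroup p (R.subgroupOf (normalizerIn S R)) := hSTR.to_subgroup _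
      exact h1.map ιR
    have hAO : (imgOf ιR R).subgroupOf (locSub ιR Q) ≤ pCore p ↥(locSub ιR Q) := by
      apply le_pCore
      · exact hAn.subgroupOf _
      · exact hAp.comap_subtype
    obtain ⟨π, hπ, hπι, hker, hconj⟩ := model_pi hSTR hsatR hRnR hRcR hMR'
    intro m hm
    have hcomm : ∀ a ∈ imgOf ιR R, a * (m : LR) = (m : LR) * a := by
      intro a ha
      have h1 : (⟨a, hAM ha⟩ : ↥(locSub ιR Q)) ∈ pCore p ↥(locSub ιR Q) :=
        hAO (Subgroup.mem_subgroupOf.2 ha)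
      have h2 := Subgroup.mem_centralizer_iff.1 hm _ h1
      exact congrArg Subtype.val h2
    have hπm : π (m : LR) = 1 := by
      apply Subtype.ext
      apply MulEquiv.ext
      intro q
      have h1 := hconj (m : LR) q
      have h2 : (m : LR) * ιR (Subgroup.inclusion hRnR.1 q) * (m : LR)⁻¹ =
          ιR (Subgroup.inclusion hRnR.1 q) := by
        have h5 := hcomm (ιR (Subgroup.inclusion hRnR.1 q))
          (mem_imgOf.2 ⟨q, hRnR.1 q.2, q.2, rfl⟩)
        rw [← h5]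
        group
      rw [h2] at h1
      have h3 := hinj h1
      have h4 : (q : Ω) = (((π (m : LR) : NR.autGroup R) : MulAut R) q : R) :=
        congrArg (fun z : ↥(normalizerIn S R) => (z : Ω)) h3
      exact Subtype.ext h4.symm
    obtain ⟨s, hsR, -, hsm⟩ := hker (m : LR) hπm
    apply hAO
    rw [Subgroup.mem_subgroupOf]
    exact mem_imgOf.2 ⟨s, s.2, hsR, hsm⟩

end localmodel

end Cfsg.Agent.Lib.H26.Model
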