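import Mathlib
import Cfsg.Agent.Lib.H26.NormalizerTransport
import Cfsg.Agent.Lib.H26.ModelPi

set_option autoImplicit false
set_option linter.unusedSectionVars false
set_option linter.unusedVariables false

/-!
Transport of a model of a normalizer system along an isomorphism of the system (helper26).
-/

namespace Cfsg.Agent.Lib.H26.Model

open Cfsg Cfsg.FusionSystem Cfsg.Agent.Lib.H25 Cfsg.Agent.Lib.H26

universe u w

variable {Ω : Type u} [Group Ω] {S : Subgroup Ω} {F : FusionSystem S}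

theorem model_transport [Finite S] {p : ℕ} [Fact p.Prime] {Q Q' : Subgroup Ω} {f g : Ω → Ω}
    (hfT : IsIso F (normalizerIn S Q) (normalizerIn S Q') f)
    (hgT : IsIso F (normalizerIn S Q') (normalizerIn S Q) g)
    (hgf : ∀ x ∈ normalizerIn S Q, g (f x) = x) (hfg : ∀ y ∈ normalizerIn S Q', f (g y) = y)
    (hfQ : IsIso F Q Q' f)
    {N : FusionSystem (normalizerIn S Q)} (hN : F.IsNormalizerSystem Q N)
    {N' : FusionSystem (normalizerIn S Q')} (hN' : F.IsNormalizerSystem Q' N')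
    {L : Type w} [Group L] {ι' : ↥(normalizerIn S Q') →* L} (hM' : N'.IsModel p L ι') :
    N.IsModel p L (ι'.comp hfT.toMulEquiv.toMonoidHom) := by
  obtain ⟨hfin, hreal', ⟨T₀, hT₀⟩, hC⟩ := hM'
  have hQS : Q ≤ S := hfQ.le_left
  have hQ'S : Q' ≤ S := hfQ.le_right
  have hQT : Q ≤ normalizerIn S Q := le_normalizerIn hQS
  have hQ'T : Q' ≤ normalizerIn S Q' := le_normalizerIn hQ'S
  have hgQ : IsIso F Q' Q g := by
    refine hgT.restrict' hQ'T (fun y hy => ?_) (fun x hx => ?_)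
    · obtain ⟨x, hx, rfl⟩ := hfQ.surjOn hy
      rw [hgf x (hQT hx)]
      exact hx
    · exact ⟨f x, hfQ.map_mem hx, hgf x (hQT hx)⟩
  have he : ∀ x : ↥(normalizerIn S Q), ((hfT.toMulEquiv x : ↥(normalizerIn S Q')) : Ω) = f x :=
    fun x => rfl
  refine ⟨hfin, ⟨?_, ?_⟩, ⟨T₀, ?_⟩, hC⟩
  · exact hreal'.1.comp hfT.toMulEquiv.injective
  · intro P hP ψ hψ
    obtain ⟨P', hP'T, hP'iso, hP'mem⟩ := hfT.restrict hP
    have hgP : IsIso F P' P g := by
      refine hgT.restrict' hP'T (fun y hy => ?_) (fun x hx => ?_)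
      · obtain ⟨x, hx, rfl⟩ := hP'iso.surjOn hy
        rw [hgf x (hP hx)]
        exact hx
      · exact ⟨f x, hP'iso.map_mem hx, hgf x (hP hx)⟩
    -- the transported homomorphism
    obtain ⟨ψ', hψ'⟩ : ∃ ψ' : P' →* Ω, ∀ y : P', ψ' y = f (ψ (hP'iso.toMulEquiv.symm y)) := by
      refine ⟨(normalizerIn S Q').subtype.comp (hfT.toMulEquiv.toMonoidHom.comp
        ((ψ.codRestrict (normalizerIn S Q) hψ).comp hP'iso.toMulEquiv.symm.toMonoidHom)),
        fun y => rfl⟩
    have hψ'f : ∀ x : P, ψ' ⟨f x, hP'iso.map_mem x.2⟩ = f (ψ x) := by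
      intro x
      rw [hψ']
      have : hP'iso.toMulEquiv.symm ⟨f x, hP'iso.map_mem x.2⟩ = x := by
        rw [MulEquiv.symm_apply_eq]
        rfl
      rw [this]
    have hψ'T : ∀ y : P', ψ' y ∈ normalizerIn S Q' := by
      intro y
      rw [hψ']
      exact hfT.map_mem (hψ _)
    have hgy : ∀ y : P', g (y : Ω) = ((hP'iso.toMulEquiv.symm y : P) : Ω) := by
      intro y
      have h1 := hP'iso.toMulEquiv_symm_apply y
      rw [← h1, hgf _ (hP (hP'iso.toMulEquiv.symm y).2)]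
    constructor
    · intro hψN
      rw [hN P] at hψN
      have h1 : IsNHom F Q' P' (f ∘ ext1 ψ ∘ g) :=
        (isNHom_of_mem hψN).transport hfT hgf hfQ hP'iso
      have h2 : ψ' ∈ F.normalizerHom Q' P' := by
        apply mem_of_isNHom h1
        intro y
        show ψ' y = f (ext1 ψ (g y))
        rw [hψ', hgy y, ext1_apply]
      rw [← hN' P'] at h2
      obtain ⟨l, hl⟩ := (hreal'.2 P' hP'T ψ' hψ'T).1 h2
      refine ⟨l, fun x => ?_⟩
      have h3 := hl ⟨f x, hP'iso.map_mem x.2⟩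
      have e1 : (⟨ψ' ⟨f x, hP'iso.map_mem x.2⟩, hψ'T _⟩ : ↥(normalizerIn S Q')) =
          hfT.toMulEquiv ⟨ψ x, hψ x⟩ := Subtype.ext (hψ'f x)
      have e2 : (⟨((⟨f x, hP'iso.map_mem x.2⟩ : P') : Ω), hP'T (hP'iso.map_mem x.2)⟩ :
          ↥(normalizerIn S Q')) = hfT.toMulEquiv ⟨x, hP x.2⟩ := Subtype.ext rfl
      rw [e1, e2] at h3
      exact h3
    · rintro ⟨l, hl⟩
      have h2 : ψ' ∈ N'.Hom P' := by
        refine (hreal'.2 P' hP'T ψ' hψ'T).2 ⟨l, fun y => ?_⟩
        have h3 := hl (hP'iso.toMulEquiv.symm y)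
        have e1 : (⟨ψ' y, hψ'T y⟩ : ↥(normalizerIn S Q')) =
            hfT.toMulEquiv ⟨ψ (hP'iso.toMulEquiv.symm y), hψ _⟩ := Subtype.ext (hψ' y)
        have e2 : (⟨(y : Ω), hP'T y.2⟩ : ↥(normalizerIn S Q')) =
            hfT.toMulEquiv ⟨(hP'iso.toMulEquiv.symm y : P), hP (hP'iso.toMulEquiv.symm y).2⟩ := by
          apply Subtype.ext
          show (y : Ω) = f ((hP'iso.toMulEquiv.symm y : P) : Ω)
          exact (hP'iso.toMulEquiv_symm_apply y).symm
        rw [e1, e2]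
        exact h3
      rw [hN' P'] at h2
      have h1 : IsNHom F Q P (g ∘ ext1 ψ' ∘ f) :=
        (isNHom_of_mem h2).transport hgT hfg hgQ hgP
      rw [hN P]
      apply mem_of_isNHom h1
      intro x
      show ψ x = g (ext1 ψ' (f x))
      rw [ext1_apply_mem ψ' (hP'iso.map_mem x.2), hψ'f x, hgf _ (hψ x)]
  · rw [hT₀, MonoidHom.range_comp]
    have : hfT.toMulEquiv.toMonoidHom.range = ⊤ :=
      MonoidHom.range_eq_top.2 hfT.toMulEquiv.surjective
    rw [this, ← MonoidHom.range_eq_map]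

end Cfsg.Agent.Lib.H26.Model
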