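import Mathlib
import Cfsg.Agent.Lib.H26.ModelLocal
import Cfsg.Agent.Lib.H26.ModelTransport
import Cfsg.Agent.Lib.H26.Involves
import Cfsg.Agent.Lib.H26.CentricExt
import Cfsg.Agent.S5096

set_option autoImplicit false
set_option linter.unusedSectionVars false
set_option linter.unusedVariables false

/-!
The induction step for passing from radical centric subgroups to all centric subgroups (helper26).
-/

namespace Cfsg.Agent.Lib.H26.Model

open Cfsg Cfsg.FusionSystem Cfsg.Agent.Lib.H25 Cfsg.Agent.Lib.H26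

universe u w w' v

variable {Ω : Type u} [Group Ω] {S : Subgroup Ω} {F : FusionSystem S}

section step

variable [Finite S] {p : ℕ} [Fact p.Prime] {Q R : Subgroup Ω}

/-- models of `N_F(Q)` embed in models of `N_F(R)` -/
theorem involves_local {N : FusionSystem (normalizerIn S Q)} {NR : FusionSystem (normalizerIn S R)}
    {LR : Type w} [Group LR] {ιR : ↥(normalizerIn S R) →* LR}
    (hS : IsPGroup p S) (hF : F.IsSaturated p) (hQfn : F.IsFullyNormalized Q)
    (hQc : F.IsCentric Q)
    (hN : F.IsNormalizerSystem Q N) (hRfn : F.IsFullyNormalized R) (hRc : F.IsCentric R)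
    (hQR : Q ≤ R) (hRN : N.IsNormal R) (hNR : F.IsNormalizerSystem R NR)
    (hMR : NR.IsModel p LR ιR) {L : Type w'} [Group L] {ι : ↥(normalizerIn S Q) →* L}
    (hM : N.IsModel p L ι) {H : Type v} [Group H] (hinv : Involves H L) : Involves H LR := by
  obtain ⟨hTTR, hmem, hloc⟩ := local_model hS hF hQfn hN hRfn hRc hQR hRN hNR hMR
  haveI hfinT : Finite ↥(normalizerIn S Q) := finite_of_le S inf_le_left
  have hST : IsPGroup p ↥(normalizerIn S Q) := hS.to_le inf_le_left
  have hcon : N.IsConstrained p := normalizerSystem_isConstrained hS hF hQfn hQc N hN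
  obtain ⟨Φ, -⟩ := model_unique hST hcon hM hloc
  refine involves_of_injective ((locSub ιR Q).subtype.comp Φ.toMonoidHom) ?_ hinv
  exact (Subgroup.subtype_injective _).comp Φ.injective

/-- radicality passes from the normalizer system to the system -/
theorem isRadical_of_normalizerSystem (hQS : Q ≤ S) {N : FusionSystem (normalizerIn S Q)}
    (hN : F.IsNormalizerSystem Q N) (h : N.IsRadical p Q) : F.IsRadical p Q := by
  have heqA := normalizerSystem_autGroup_eq hQS hN
  refine ⟨hQS, ?_⟩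
  rw [← heqA]
  exact h.2

/-- transport of the configuration `Q ≤ R ≤ N_S(Q) ≤ N_S(R)` along a map defined on `N_S(R)` -/
theorem transport_setup (hQfn : F.IsFullyNormalized Q) {R' N' : Subgroup Ω} (hQR : Q ≤ R)
    (hRT : R ≤ normalizerIn S Q) (hTTR : normalizerIn S Q ≤ normalizerIn S R) {f : Ω → Ω}
    (hfN : IsIso F (normalizerIn S R) N' f) (hfR : IsIso F R R' f) :
    ∃ Q' : Subgroup Ω, IsIso F (normalizerIn S Q) (normalizerIn S Q') f ∧ IsIso F Q Q' f ∧
      F.IsFullyNormalized Q' ∧ Q' ≤ R' ∧ R' ≤ normalizerIn S Q' := by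
  have hQS := hQfn.1
  have hQT : Q ≤ normalizerIn S Q := le_normalizerIn hQS
  obtain ⟨T', hT'N', hfT, hT'mem⟩ := hfN.restrict hTTR
  obtain ⟨Q', hQ'T', hfQ, hQ'mem⟩ := hfT.restrict hQT
  have hQ'S : Q' ≤ S := hfQ.le_right
  have hT'le : T' ≤ normalizerIn S Q' := by
    have key : ∀ y ∈ T', ∀ z ∈ Q', y * z * y⁻¹ ∈ Q' := by
      intro y hy z hz
      obtain ⟨t, ht, rfl⟩ := hfT.surjOn hy
      obtain ⟨q, hq, rfl⟩ := hfQ.surjOn hz
      have h1 : t * q * t⁻¹ ∈ Q := (Subgroup.mem_normalizer_iff.1 ht.2 q).1 hq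
      have h2 : f (t * q * t⁻¹) = f t * f q * (f t)⁻¹ := by
        rw [hfT.map_mul (Subgroup.mul_mem _ ht (hQT hq)) (Subgroup.inv_mem _ ht),
          hfT.map_mul ht (hQT hq), hfT.map_inv ht]
      rw [← h2]
      exact hfQ.map_mem h1
    intro y hy
    refine ⟨hfT.le_right hy, Cfsg.Agent.Lib.H26.mem_normalizer_of_conj_mem (key y hy) ?_⟩
    intro z hz
    have := key y⁻¹ (Subgroup.inv_mem _ hy) z hz
    rwa [inv_inv] at this
  haveI : Finite ↥(normalizerIn S Q') := finite_of_le S inf_le_left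
  have hcardT : Nat.card (normalizerIn S Q) = Nat.card T' := Nat.card_congr hfT.toMulEquiv.toEquiv
  have hcard : Nat.card (normalizerIn S Q') ≤ Nat.card T' := by
    rw [← hcardT]
    exact hQfn.2 Q' hfQ.isConj
  have heq : T' = normalizerIn S Q' := Subgroup.eq_of_le_of_card_ge hT'le hcard
  refine ⟨Q', heq ▸ hfT, hfQ, ⟨hQ'S, fun U hU => ?_⟩, ?_, ?_⟩
  · have h1 := hQfn.2 U (isConj_trans F hfQ.isConj hU)
    rw [hcardT, heq] at h1
    exact h1
  · intro y hy
    obtain ⟨q, hq, rfl⟩ := hfQ.surjOn hy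
    exact hfR.map_mem (hQR hq)
  · intro y hy
    obtain ⟨r, hr, rfl⟩ := hfR.surjOn hy
    rw [← heq]
    exact (hT'mem _).2 ⟨r, hRT hr, rfl⟩

/-- the induction step: a non-radical fully normalized centric subgroup has its local model
embedded in the local model of a strictly larger one -/
theorem exists_bigger {N : FusionSystem (normalizerIn S Q)} (hS : IsPGroup p S)
    (hF : F.IsSaturated p) (hQfn : F.IsFullyNormalized Q) (hQc : F.IsCentric Q)
    (hN : F.IsNormalizerSystem Q N) {L : Type w'} [Group L] {ι : ↥(normalizerIn S Q) →* L}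
    (hM : N.IsModel p L ι) (hrad : ¬ F.IsRadical p Q) :
    ∃ R' : Subgroup Ω, F.IsFullyNormalized R' ∧ F.IsCentric R' ∧ Nat.card Q < Nat.card R' ∧
      ∀ (NR' : FusionSystem (normalizerIn S R')), F.IsNormalizerSystem R' NR' →
        ∀ (LR : Type w) [Group LR] (ιR : ↥(normalizerIn S R') →* LR), NR'.IsModel p LR ιR →
          ∀ (H : Type v) [Group H], Involves H L → Involves H LR := by
  have hQS := hQfn.1
  have hQT : Q ≤ normalizerIn S Q := le_normalizerIn hQS
  haveI hfinT : Finite ↥(normalizerIn S Q) := finite_of_le S inf_le_left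
  have hST : IsPGroup p ↥(normalizerIn S Q) := hS.to_le inf_le_left
  have hNsat : N.IsSaturated p := normalizerSystem_isSaturated hS hF hQfn N hN
  have hQnN : N.IsNormal Q := normalizerSystem_isNormal hQS hN
  have hQcN : N.IsCentric Q := normalizerSystem_isCentric hQc hN
  have hRn : N.IsNormal N.core := model_core_isNormal hST hM
  have hcore : N.core = preSub ι (pCore p L) := model_core_eq hST hM
  have hQR : Q ≤ N.core := le_sSup hQnN
  have hRT : N.core ≤ normalizerIn S Q := hRn.1
  have hRS : N.core ≤ S := hRT.trans inf_le_left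
  have hne : N.core ≠ Q := by
    intro heq
    apply hrad
    apply isRadical_of_normalizerSystem hQS hN
    exact isRadical_of_pCore_eq hST hNsat hQnN hQcN hM (hcore ▸ heq)
  have hRc : F.IsCentric N.core := isCentric_of_le hQc hQR hRS
  obtain ⟨R', hRR', hR'fn⟩ := exists_fullyNormalized_conj F hRS
  obtain ⟨hR'fc, hR'fa⟩ := fullyNormalized_props hS hF hR'fn
  have hR'rec := isReceptive_of_fullyCentralized hS hF hR'fc
  obtain ⟨f, N', hfN, hN'le, hfR⟩ := exists_normalizer_map hS hR'fa hR'rec hRR'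
  have hTTR : normalizerIn S Q ≤ normalizerIn S N.core := le_of_isNormal hRn
  obtain ⟨Q', hfT, hfQ, hQ'fn, hQ'R', hR'T'⟩ := transport_setup hQfn hQR hRT hTTR hfN hfR
  have hR'c : F.IsCentric R' := isCentric_of_isConj hRc hRR'
  have hQ'c : F.IsCentric Q' := isCentric_of_isConj hQc hfQ.isConj
  have hQ'S := hQ'fn.1
  have hQ'T' : Q' ≤ normalizerIn S Q' := le_normalizerIn hQ'S
  refine ⟨R', hR'fn, hR'c, ?_, ?_⟩
  · have h1 : Nat.card N.core = Nat.card R' := Nat.card_congr hfR.toMulEquiv.toEquiv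
    rw [← h1]
    by_contra hcon
    push_neg at hcon
    haveI : Finite ↥N.core := finite_of_le S hRS
    exact hne (Subgroup.eq_of_le_of_card_ge hQR hcon).symm
  · intro NR' hNR' LR _ ιR hMR H _ hinv
    obtain ⟨g, hgT, hgf, hfg⟩ := hfT.symm
    obtain ⟨NQ', hNQ'⟩ := Cfsg.Agent.S5096.result F Q' hQ'S
    have hgQ : IsIso F Q' Q g := by
      refine hgT.restrict' hQ'T' (fun y hy => ?_) (fun x hx => ?_)
      · obtain ⟨x, hx, rfl⟩ := hfQ.surjOn hy
        rw [hgf x (hQT hx)]
        exact hx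
      · exact ⟨f x, hfQ.map_mem hx, hgf x (hQT hx)⟩
    have hM' : NQ'.IsModel p L (ι.comp hgT.toMulEquiv.toMonoidHom) :=
      model_transport hgT hfT hfg hgf hgQ hNQ' hN hM
    haveI hfinT' : Finite ↥(normalizerIn S Q') := finite_of_le S inf_le_left
    have hST' : IsPGroup p ↥(normalizerIn S Q') := hS.to_le inf_le_left
    have hcore' : NQ'.core = R' := by
      rw [model_core_eq hST' hM']
      ext y
      rw [mem_preSub]
      constructor
      · rintro ⟨hy, hyO⟩
        have h1 : g y ∈ N.core := by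
          rw [hcore]
          exact mem_preSub.2 ⟨hgT.map_mem hy, hyO⟩
        rw [← hfg y hy]
        exact hfR.map_mem h1
      · intro hy
        obtain ⟨r, hr, rfl⟩ := hfR.surjOn hy
        refine ⟨hfT.map_mem (hRT hr), ?_⟩
        have h1 : r ∈ preSub ι (pCore p L) := hcore ▸ hr
        obtain ⟨hrT, hrO⟩ := mem_preSub.1 h1
        have h2 : (hgT.toMulEquiv ⟨f r, hfT.map_mem (hRT hr)⟩ : ↥(normalizerIn S Q)) = ⟨r, hrT⟩ :=
          Subtype.ext (hgf r (hRT hr))
        show ι (hgT.toMulEquiv ⟨f r, hfT.map_mem (hRT hr)⟩) ∈ pCore p L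
        rw [h2]
        exact hrO
    have hR'N : NQ'.IsNormal R' := hcore' ▸ model_core_isNormal hST' hM'
    exact involves_local hS hF hQ'fn hQ'c hNQ' hR'fn hR'c hQ'R' hR'N hNR' hMR hM' hinv

end step

end Cfsg.Agent.Lib.H26.Model
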