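import Mathlib
import Cfsg.Agent.Lib.H26.ModelLocal
import Cfsg.Agent.Lib.H26.NormalizerLocal

set_option autoImplicit false
set_option linter.unusedSectionVars false
set_option linter.unusedVariables false

/-!
Local models of the normalizer system of a normalizer system (helper26).  Let `Q` be fully
normalized in `F`, `N = N_F(Q)`, `P ≥ Q` fully normalized and centric in `N`, and `χ` a map of `F`
from `N_S(P)` to `N_S(P')` with `P' = χ(P)` fully normalized in `F`.  If `L'` is a model of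
`N_F(P')` then `N_{L'}(ι' χ(Q))` is a model of `N_N(P)`.
-/

namespace Cfsg.Agent.Lib.H26.Model

open Cfsg Cfsg.FusionSystem Cfsg.Agent.Lib.H25 Cfsg.Agent.Lib.H26

universe u w

variable {Ω : Type u} [Group Ω] {S : Subgroup Ω} {F : FusionSystem S}

theorem IsIso.image_unique {A B B' : Subgroup Ω} {f : Ω → Ω} (h : IsIso F A B f)
    (h' : IsIso F A B' f) : B = B' := by
  ext y
  constructor
  · intro hy
    obtain ⟨x, hx, rfl⟩ := h.surjOn hy
    exact h'.map_mem hx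
  · intro hy
    obtain ⟨x, hx, rfl⟩ := h'.surjOn hy
    exact h.map_mem hx

section count

variable [Finite S] {p : ℕ} [Fact p.Prime] {Q P P' Q' : Subgroup Ω}
  {N : FusionSystem (normalizerIn S Q)} {N' : FusionSystem (normalizerIn S P')}

/-- the counting lemma -/
theorem card_normalizer_le (hS : IsPGroup p S) (hF : F.IsSaturated p)
    (hQfn : F.IsFullyNormalized Q) (hN : F.IsNormalizerSystem Q N) (hQP : Q ≤ P)
    (hPfnN : N.IsFullyNormalized P) (hN' : F.IsNormalizerSystem P' N') {χ : Ω → Ω}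
    (hχP : IsIso F P P' χ) (hχQ : IsIso F Q Q' χ) {U : Subgroup Ω} (hU : N'.IsConj Q' U) :
    Nat.card (normalizerIn (normalizerIn S P') U) ≤
      Nat.card (normalizerIn (normalizerIn S Q) P) := by
  have hPT : P ≤ normalizerIn S Q := hPfnN.1
  have hQ'P' : Q' ≤ P' := by
    intro y hy
    obtain ⟨x, hx, rfl⟩ := hχQ.surjOn hy
    exact hχP.map_mem (hQP hx)
  obtain ⟨ψ, hψ, hr⟩ := hU
  rw [hN' Q'] at hψ
  obtain ⟨hψF, hQ'T', hval, ψ₂, hψ₂, hext, hmapP'⟩ := hψ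
  have h1 : IsIso F (Q' ⊔ P') ψ₂.range (ext1 ψ₂) := isIso_of_mem F hψ₂
  have hkP' : IsIso F P' P' (ext1 ψ₂) := by
    refine h1.restrict' le_sup_right (fun x hx => ?_) (fun y hy => ?_)
    · rw [ext1_apply_mem ψ₂ ((le_sup_right : P' ≤ Q' ⊔ P') hx)]
      exact hmapP'.le ⟨⟨x, (le_sup_right : P' ≤ Q' ⊔ P') hx⟩, Subgroup.mem_subgroupOf.2 hx, rfl⟩
    · obtain ⟨x, hx, rfl⟩ := hmapP'.ge hy
      exact ⟨x, Subgroup.mem_subgroupOf.1 hx, ext1_apply ψ₂ x⟩
  have hkQ' : IsIso F Q' U (ext1 ψ₂) := by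
    refine h1.restrict' le_sup_left (fun x hx => ?_) (fun y hy => ?_)
    · rw [ext1_apply_mem ψ₂ ((le_sup_left : Q' ≤ Q' ⊔ P') hx)]
      have := hext ⟨x, hx⟩
      rw [show ψ₂ ⟨x, _⟩ = ψ ⟨x, hx⟩ from this, ← hr]
      exact ⟨_, rfl⟩
    · rw [← hr] at hy
      obtain ⟨x, rfl⟩ := hy
      refine ⟨x, x.2, ?_⟩
      rw [ext1_apply_mem ψ₂ ((le_sup_left : Q' ≤ Q' ⊔ P') x.2)]
      exact hext x
  obtain ⟨U₀, ρ, N₁, P₂, hκQ, hUP₁, hP'U, hρN, hN₁, hρU, hρP', hconj⟩ :=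
    exists_pullback hS hF hQfn hN hQP hPT (hχP.trans hkP')
  have hUeq : U₀ = U := IsIso.image_unique hκQ (hχQ.trans hkQ')
  subst hUeq
  have hfn := hPfnN.2 P₂ hconj
  have hle : normalizerIn (normalizerIn S P') U₀ ≤ normalizerIn S U₀ := fun x hx => ⟨hx.1.1, hx.2⟩
  obtain ⟨D₁, hD₁N₁, hρD, hD₁mem⟩ := hρN.restrict hle
  have hD₁le : D₁ ≤ normalizerIn (normalizerIn S Q) P₂ := by
    intro y hy
    obtain ⟨x, hx, rfl⟩ := hρD.surjOn hy
    exact ⟨hN₁ (hρN.map_mem (hle hx)),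
      IsIso.map_mem_normalizer hρN hP'U hρP' (hle hx) hx.1.2⟩
  haveI : Finite ↥(normalizerIn (normalizerIn S Q) P₂) :=
    finite_of_le S (inf_le_left.trans inf_le_left)
  calc Nat.card (normalizerIn (normalizerIn S P') U₀) = Nat.card D₁ :=
        Nat.card_congr hρD.toMulEquiv.toEquiv
    _ ≤ Nat.card (normalizerIn (normalizerIn S Q) P₂) := Subgroup.card_le_of_le hD₁le
    _ ≤ _ := hfn

end count

section two

variable [Finite S] {p : ℕ} [Fact p.Prime] {Q P P' Q' D' N'' : Subgroup Ω}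
  {N : FusionSystem (normalizerIn S Q)}
  {NP : FusionSystem (normalizerIn (normalizerIn S Q) P)}
  {N' : FusionSystem (normalizerIn S P')}
  {L' : Type w} [Group L'] {ι' : ↥(normalizerIn S P') →* L'} {χ : Ω → Ω}

/-- the comparison map `N_{N_S(Q)}(P) → L'` -/
noncomputable def twoHom (ι' : ↥(normalizerIn S P') →* L')
    (hχD : IsIso F (normalizerIn (normalizerIn S Q) P) D' χ) (hD'T' : D' ≤ normalizerIn S P') :
    ↥(normalizerIn (normalizerIn S Q) P) →* L' :=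
  ι'.comp ((Subgroup.inclusion hD'T').comp hχD.toMulEquiv.toMonoidHom)

theorem twoHom_apply (hχD : IsIso F (normalizerIn (normalizerIn S Q) P) D' χ)
    (hD'T' : D' ≤ normalizerIn S P') (t : ↥(normalizerIn (normalizerIn S Q) P)) :
    twoHom ι' hχD hD'T' t = ι' ⟨χ t, hD'T' (hχD.map_mem t.2)⟩ := rfl

theorem two_realizedBy (hN : F.IsNormalizerSystem Q N) (hQP : Q ≤ P)
    (hPT : P ≤ normalizerIn S Q) (hNP : N.IsNormalizerSystem P NP)
    (hN' : F.IsNormalizerSystem P' N') (hreal' : N'.IsRealizedBy ι')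
    (hP'n : (imgOf ι' P').Normal)
    (hχN : IsIso F (normalizerIn S P) N'' χ) (hN'' : N'' ≤ normalizerIn S P')
    (hχP : IsIso F P P' χ) (hχQ : IsIso F Q Q' χ)
    (hχD : IsIso F (normalizerIn (normalizerIn S Q) P) D' χ) (hD'T' : D' ≤ normalizerIn S P')
    (hmem : ∀ t, twoHom ι' hχD hD'T' t ∈ locSub ι' Q') :
    NP.IsRealizedBy ((twoHom ι' hχD hD'T').codRestrict (locSub ι' Q') hmem) := by
  haveI hfinT' : Finite ↥(normalizerIn S P') := finite_of_le S inf_le_left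
  have hinj := hreal'.1
  have hPS : P ≤ S := hPT.trans inf_le_left
  have hP'S : P' ≤ S := hχP.le_right
  have hPNP : P ≤ normalizerIn S P := le_normalizerIn hPS
  have hP'T' : P' ≤ normalizerIn S P' := le_normalizerIn hP'S
  have hTPle : normalizerIn (normalizerIn S Q) P ≤ normalizerIn S P := fun x hx => ⟨hx.1.1, hx.2⟩
  have hTPT : normalizerIn (normalizerIn S Q) P ≤ normalizerIn S Q := inf_le_left
  have hPTP : P ≤ normalizerIn (normalizerIn S Q) P := le_normalizerIn hPT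
  have hQ'P' : Q' ≤ P' := by
    intro y hy
    obtain ⟨x, hx, rfl⟩ := hχQ.surjOn hy
    exact hχP.map_mem (hQP hx)
  obtain ⟨g, hg, hgχ, hχg⟩ := hχN.symm
  refine ⟨?_, ?_⟩
  · intro a b hab
    have h1 : ι' ⟨χ a, hD'T' (hχD.map_mem a.2)⟩ = ι' ⟨χ b, hD'T' (hχD.map_mem b.2)⟩ :=
      congrArg Subtype.val hab
    have h2 : χ a = χ b := congrArg Subtype.val (hinj h1)
    exact Subtype.ext (hχD.injOn a.2 b.2 h2)
  · intro A hA φ hφ
    have hAP : A ⊔ P ≤ normalizerIn S P := sup_le (hA.trans hTPle) hPNP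
    have hφr : φ.range ≤ normalizerIn (normalizerIn S Q) P := by
      rintro _ ⟨x, rfl⟩
      exact hφ x
    have hφP : φ.range ⊔ P ≤ normalizerIn S P := sup_le (hφr.trans hTPle) hPNP
    constructor
    · intro hφNP
      rw [hNP A] at hφNP
      obtain ⟨hφN, -, -, ψ, hψN, hψφ, hψP⟩ := hφNP
      have hψN' := hψN
      rw [hN (A ⊔ P)] at hψN'
      obtain ⟨hψF, hAPT, hvalT, ψ₂, hψ₂, hψ₂ψ, hmapQ⟩ := hψN'
      have hQAP : Q ≤ A ⊔ P := hQP.trans le_sup_right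
      have hk : IsIso F (A ⊔ P) ψ.range (ext1 ψ) := isIso_of_mem F hψF
      have hkP : IsIso F P P (ext1 ψ) := by
        refine hk.restrict' le_sup_right (fun x hx => ?_) (fun y hy => ?_)
        · rw [ext1_apply_mem ψ ((le_sup_right : P ≤ A ⊔ P) hx)]
          exact hψP.le ⟨⟨x, (le_sup_right : P ≤ A ⊔ P) hx⟩, Subgroup.mem_subgroupOf.2 hx, rfl⟩
        · obtain ⟨x, hx, rfl⟩ := hψP.ge hy
          exact ⟨x, Subgroup.mem_subgroupOf.1 hx, ext1_apply ψ x⟩
      have hkQ : IsIso F Q Q (ext1 ψ) := by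
        refine hk.restrict' hQAP (fun q hq => ?_) (fun y hy => ?_)
        · rw [ext1_apply_mem ψ (hQAP hq), ← hψ₂ψ ⟨q, hQAP hq⟩]
          exact hmapQ.le ⟨_, Subgroup.mem_subgroupOf.2 hq, rfl⟩
        · obtain ⟨x, hx, hxq⟩ := hmapQ.ge hy
          have hxQ : (x : Ω) ∈ Q := Subgroup.mem_subgroupOf.1 hx
          refine ⟨x, hxQ, ?_⟩
          rw [ext1_apply_mem ψ (hQAP hxQ), ← hψ₂ψ]
          exact hxq
      have hkA : IsIso F A φ.range (ext1 ψ) := by
        refine hk.restrict' le_sup_left (fun x hx => ?_) (fun y hy => ?_)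
        · rw [ext1_apply_mem ψ ((le_sup_left : A ≤ A ⊔ P) hx)]
          exact ⟨⟨x, hx⟩, (hψφ ⟨x, hx⟩).symm⟩
        · obtain ⟨x, rfl⟩ := hy
          refine ⟨x, x.2, ?_⟩
          rw [ext1_apply_mem ψ ((le_sup_left : A ≤ A ⊔ P) x.2)]
          exact hψφ x
      have hreq : ψ.range = φ.range ⊔ P := hk.image_sup hkA hkP
      rw [hreq] at hk
      -- transport along `χ`
      obtain ⟨B', hB'N'', hχB, hB'mem⟩ := hχN.restrict hAP
      obtain ⟨C', hC'N'', hχC, hC'mem⟩ := hχN.restrict hφP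
      have hgB : IsIso F B' (A ⊔ P) g := by
        refine hg.restrict' hB'N'' (fun y hy => ?_) (fun x hx => ?_)
        · obtain ⟨x, hx, rfl⟩ := hχB.surjOn hy
          rw [hgχ x (hAP hx)]
          exact hx
        · exact ⟨χ x, hχB.map_mem hx, hgχ x (hAP hx)⟩
      have hk' : IsIso F B' C' (χ ∘ ext1 ψ ∘ g) := (hgB.trans hk).trans hχC
      have hP'B' : P' ≤ B' := by
        intro y hy
        obtain ⟨x, hx, rfl⟩ := hχP.surjOn hy
        exact hχB.map_mem ((le_sup_right : P ≤ A ⊔ P) hx)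
      have hk'val : ∀ x ∈ P, (χ ∘ ext1 ψ ∘ g) (χ x) = χ (ext1 ψ x) := by
        intro x hx
        show χ (ext1 ψ (g (χ x))) = _
        rw [hgχ x (hPNP hx)]
      have hk'val' : ∀ x ∈ A ⊔ P, (χ ∘ ext1 ψ ∘ g) (χ x) = χ (ext1 ψ x) := by
        intro x hx
        show χ (ext1 ψ (g (χ x))) = _
        rw [hgχ x (hAP hx)]
      obtain ⟨φ', hφ'F, hφ'k', hφ'r⟩ := hk'
      have hφ'N' : φ' ∈ N'.Hom B' := by
        rw [hN' B']
        have heq : B' ⊔ P' = B' := sup_eq_left.2 hP'B'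
        refine mem_of_isNHom (isNHom_iff.2 ⟨hB'N''.trans hN'', fun y hy => ?_,
          χ ∘ ext1 ψ ∘ g, C', ?_, fun x hx => rfl, fun y hy => ?_, fun y hy => ?_⟩) hφ'k'
        · apply hN''
          apply hC'N''
          rw [← hφ'r]
          exact ⟨⟨y, hy⟩, hφ'k' ⟨y, hy⟩⟩
        · rw [heq]
          exact ⟨φ', hφ'F, hφ'k', hφ'r⟩
        · obtain ⟨x, hx, rfl⟩ := hχP.surjOn hy
          rw [hk'val x hx]
          exact hχP.map_mem (hkP.map_mem hx)
        · obtain ⟨x, hx, rfl⟩ := hχP.surjOn hy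
          obtain ⟨x₀, hx₀, rfl⟩ := hkP.surjOn hx
          exact ⟨χ x₀, hχP.map_mem hx₀, hk'val x₀ hx₀⟩
      have hφ'val : ∀ y : B', φ' y ∈ normalizerIn S P' := by
        intro y
        apply hN''
        apply hC'N''
        rw [← hφ'r]
        exact ⟨y, rfl⟩
      obtain ⟨l, hl⟩ := (hreal'.2 B' (hB'N''.trans hN'') φ' hφ'val).1 hφ'N'
      have hlx : ∀ x (hx : x ∈ A ⊔ P), ι' ⟨χ (ext1 ψ x), hN'' (hC'N'' (hχC.map_mem (hk.map_mem hx)))⟩ =
          l * ι' ⟨χ x, hN'' (hB'N'' (hχB.map_mem hx))⟩ * l⁻¹ := by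
        intro x hx
        have h1 := hl ⟨χ x, hχB.map_mem hx⟩
        rw [← h1]
        congr 1
        apply Subtype.ext
        show χ (ext1 ψ x) = φ' ⟨χ x, _⟩
        rw [hφ'k' ⟨χ x, hχB.map_mem hx⟩]
        exact (hk'val' x hx).symm
      have hlM : l ∈ locSub ι' Q' := by
        apply Cfsg.Agent.Lib.H26.mem_normalizer_of_conj_mem
        · intro y hy
          obtain ⟨q', hq'T, hq'Q, rfl⟩ := mem_imgOf.1 hy
          obtain ⟨q, hq, rfl⟩ := hχQ.surjOn hq'Q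
          have h1 := hlx q (hQAP hq)
          have h2 : l * ι' ⟨χ q, hq'T⟩ * l⁻¹ =
            ι' ⟨χ (ext1 ψ q), hN'' (hC'N'' (hχC.map_mem (hk.map_mem (hQAP hq))))⟩ := h1.symm
          rw [h2]
          exact mem_imgOf.2 ⟨_, _, hχQ.map_mem (hkQ.map_mem hq), rfl⟩
        · intro y hy
          obtain ⟨q', hq'T, hq'Q, rfl⟩ := mem_imgOf.1 hy
          obtain ⟨q₁, hq₁, rfl⟩ := hχQ.surjOn hq'Q
          obtain ⟨q, hq, rfl⟩ := hkQ.surjOn hq₁
          have h1 := hlx q (hQAP hq)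
          have h2 : ι' ⟨χ (ext1 ψ q), hq'T⟩ =
            l * ι' ⟨χ q, hN'' (hB'N'' (hχB.map_mem (hQAP hq)))⟩ * l⁻¹ := h1
          rw [h2]
          have : l⁻¹ * (l * ι' ⟨χ q, hN'' (hB'N'' (hχB.map_mem (hQAP hq)))⟩ * l⁻¹) * l =
              ι' ⟨χ q, hN'' (hB'N'' (hχB.map_mem (hQAP hq)))⟩ := by group
          rw [this]
          exact mem_imgOf.2 ⟨_, _, hχQ.map_mem hq, rfl⟩
      refine ⟨⟨l, hlM⟩, fun x => Subtype.ext ?_⟩
      show ι' ⟨χ (φ x), _⟩ = l * ι' ⟨χ x, _⟩ * l⁻¹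
      have h1 := hlx x ((le_sup_left : A ≤ A ⊔ P) x.2)
      have h2 : ext1 ψ x = φ x := by
        rw [ext1_apply_mem ψ ((le_sup_left : A ≤ A ⊔ P) x.2)]
        exact hψφ x
      rw [← h1]
      congr 1
      apply Subtype.ext
      show χ (φ x) = χ (ext1 ψ x)
      rw [h2]
    · rintro ⟨⟨m, hmM⟩, hm⟩
      have hm' : ∀ x : A, ι' ⟨χ (φ x), hD'T' (hχD.map_mem (hφ x))⟩ =
          m * ι' ⟨χ x, hD'T' (hχD.map_mem (hA x.2))⟩ * m⁻¹ :=
        fun x => congrArg Subtype.val (hm x)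
      obtain ⟨A', hA'N'', hχA, hA'mem⟩ := hχN.restrict (hA.trans hTPle)
      obtain ⟨A₂', hA₂'N'', hχA₂, hA₂'mem⟩ := hχN.restrict (hφr.trans hTPle)
      have hB'T' : A' ⊔ P' ≤ normalizerIn S P' := sup_le (hA'N''.trans hN'') hP'T'
      have hle : A' ⊔ P' ≤ conjInSub ι' m := by
        apply sup_le
        · intro y hy
          obtain ⟨x, hx, rfl⟩ := hχA.surjOn hy
          refine mem_conjInSub.2 ⟨hN'' (hA'N'' (hχA.map_mem hx)), ?_⟩
          have := hm' ⟨x, hx⟩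
          have h2 : m * ι' ⟨χ x, hN'' (hA'N'' (hχA.map_mem hx))⟩ * m⁻¹ =
            ι' ⟨χ (φ ⟨x, hx⟩), hD'T' (hχD.map_mem (hφ ⟨x, hx⟩))⟩ := this.symm
          rw [h2]
          exact ⟨_, rfl⟩
        · intro y hy
          refine mem_conjInSub.2 ⟨hP'T' hy, ?_⟩
          apply imgOf_le_range P'
          exact hP'n.conj_mem _ (mem_imgOf.2 ⟨y, _, hy, rfl⟩) m
      have hmem' : ∀ y : ↥(A' ⊔ P'), m * ι' ⟨y, hB'T' y.2⟩ * m⁻¹ ∈ ι'.range := by
        intro y
        obtain ⟨h, h'⟩ := mem_conjInSub.1 (hle y.2)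
        exact h'
      obtain ⟨ψ', hψ'⟩ := exists_conjMap hinj m hB'T' hmem'
      have hψ'S : ∀ y, ψ' y ∈ normalizerIn S P' := fun y => by obtain ⟨h, -⟩ := hψ' y; exact h
      have hψ'c : ∀ y, ι' ⟨ψ' y, hψ'S y⟩ = m * ι' ⟨y, hB'T' y.2⟩ * m⁻¹ := fun y => by
        obtain ⟨h, h'⟩ := hψ' y; exact h'
      have hψ'N' : ψ' ∈ N'.Hom (A' ⊔ P') := (hreal'.2 (A' ⊔ P') hB'T' ψ' hψ'S).2 ⟨m, hψ'c⟩
      have hψ'F : ψ' ∈ F.Hom (A' ⊔ P') := by
        rw [hN' (A' ⊔ P')] at hψ'N'; exact hψ'N'.1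
      have hk' : IsIso F (A' ⊔ P') ψ'.range (ext1 ψ') := isIso_of_mem F hψ'F
      -- values of `ψ'`
      have hψ'A : ∀ x (hx : x ∈ A), ext1 ψ' (χ x) = χ (φ ⟨x, hx⟩) := by
        intro x hx
        have hxB : χ x ∈ A' ⊔ P' := (le_sup_left : A' ≤ A' ⊔ P') (hχA.map_mem hx)
        rw [ext1_apply_mem ψ' hxB]
        have h1 : ι' ⟨ψ' ⟨χ x, hxB⟩, hψ'S _⟩ =
            ι' ⟨χ (φ ⟨x, hx⟩), hD'T' (hχD.map_mem (hφ ⟨x, hx⟩))⟩ := by
          rw [hψ'c, hm' ⟨x, hx⟩]
        exact congrArg Subtype.val (hinj h1)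
      have hk'A : IsIso F A' A₂' (ext1 ψ') := by
        refine hk'.restrict' le_sup_left (fun y hy => ?_) (fun z hz => ?_)
        · obtain ⟨x, hx, rfl⟩ := hχA.surjOn hy
          rw [hψ'A x hx]
          exact hχA₂.map_mem ⟨⟨x, hx⟩, rfl⟩
        · obtain ⟨w, ⟨x, rfl⟩, rfl⟩ := hχA₂.surjOn hz
          exact ⟨χ x, hχA.map_mem x.2, hψ'A x x.2⟩
      have hconjmem : ∀ (V : Subgroup Ω) (hVT : V ≤ normalizerIn S P'), V ≤ A' ⊔ P' →
          m ∈ Subgroup.normalizer ((imgOf ι' V : Subgroup L') : Set L') →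
          IsIso F V V (ext1 ψ') := by
        intro V hVT hVB hmV
        refine hk'.restrict' hVB (fun y hy => ?_) (fun z hz => ?_)
        · rw [ext1_apply_mem ψ' (hVB hy)]
          have h1 : m * ι' ⟨y, hB'T' (hVB hy)⟩ * m⁻¹ ∈ imgOf ι' V :=
            (Subgroup.mem_normalizer_iff.1 hmV _).1 (mem_imgOf.2 ⟨y, _, hy, rfl⟩)
          obtain ⟨v, hvT, hvV, hv⟩ := mem_imgOf.1 h1
          have h2 : ι' ⟨v, hvT⟩ = ι' ⟨ψ' ⟨y, hVB hy⟩, hψ'S _⟩ := by rw [hψ'c]; exact hv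
          have h3 : v = ψ' ⟨y, hVB hy⟩ := congrArg Subtype.val (hinj h2)
          rw [← h3]; exact hvV
        · have h1 : m⁻¹ * ι' ⟨z, hVT hz⟩ * m ∈ imgOf ι' V := by
            have := (Subgroup.mem_normalizer_iff.1 (Subgroup.inv_mem _ hmV) _).1
              (mem_imgOf.2 ⟨z, hVT hz, hz, rfl⟩)
            rwa [inv_inv] at this
          obtain ⟨v, hvT, hvV, hv⟩ := mem_imgOf.1 h1
          refine ⟨v, hvV, ?_⟩
          rw [ext1_apply_mem ψ' (hVB hvV)]
          have h2 : ι' ⟨ψ' ⟨v, hVB hvV⟩, hψ'S _⟩ = ι' ⟨z, hVT hz⟩ := by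
            rw [hψ'c]
            have : ι' ⟨v, hB'T' (hVB hvV)⟩ = ι' ⟨v, hvT⟩ := rfl
            rw [this, hv]
            group
          exact congrArg Subtype.val (hinj h2)
      have hk'P : IsIso F P' P' (ext1 ψ') :=
        hconjmem P' hP'T' le_sup_right (by
          have : Subgroup.normalizer ((imgOf ι' P' : Subgroup L') : Set L') = ⊤ :=
            Subgroup.normalizer_eq_top_iff.2 hP'n
          rw [this]; trivial)
      have hk'Q : IsIso F Q' Q' (ext1 ψ') :=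
        hconjmem Q' (hQ'P'.trans hP'T') (hQ'P'.trans le_sup_right) hmM
      have hreq : ψ'.range = A₂' ⊔ P' := hk'.image_sup hk'A hk'P
      rw [hreq] at hk'
      -- pull back along `χ`
      obtain ⟨B'', hB''N'', hχB, hB''mem⟩ := hχN.restrict hAP
      have hB''eq : B'' = A' ⊔ P' := hχB.image_sup hχA hχP
      rw [hB''eq] at hχB
      obtain ⟨C'', hC''N'', hχC, hC''mem⟩ := hχN.restrict hφP
      have hC''eq : C'' = A₂' ⊔ P' := hχC.image_sup hχA₂ hχP
      rw [hC''eq] at hχC hC''N''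
      have hgC : IsIso F (A₂' ⊔ P') (φ.range ⊔ P) g := by
        refine hg.restrict' hC''N'' (fun y hy => ?_) (fun x hx => ?_)
        · obtain ⟨x, hx, rfl⟩ := hχC.surjOn hy
          rw [hgχ x (hφP hx)]
          exact hx
        · exact ⟨χ x, hχC.map_mem hx, hgχ x (hφP hx)⟩
      have hk : IsIso F (A ⊔ P) (φ.range ⊔ P) (g ∘ ext1 ψ' ∘ χ) := (hχB.trans hk').trans hgC
      have hkφ : ∀ x : A, (g ∘ ext1 ψ' ∘ χ) x = φ x := by
        intro x
        show g (ext1 ψ' (χ x)) = φ x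
        rw [hψ'A x x.2, hgχ _ (hTPle (hφ x))]
      have hkPP : IsIso F P P (g ∘ ext1 ψ' ∘ χ) := by
        refine hk.restrict' le_sup_right (fun x hx => ?_) (fun y hy => ?_)
        · show g (ext1 ψ' (χ x)) ∈ P
          obtain ⟨x₁, hx₁, hx₁e⟩ := hχP.surjOn (hk'P.map_mem (hχP.map_mem hx))
          rw [← hx₁e, hgχ x₁ (hPNP hx₁)]
          exact hx₁
        · obtain ⟨z, hz, hze⟩ := hk'P.surjOn (hχP.map_mem hy)
          obtain ⟨x, hx, rfl⟩ := hχP.surjOn hz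
          refine ⟨x, hx, ?_⟩
          show g (ext1 ψ' (χ x)) = y
          rw [hze, hgχ y (hPNP hy)]
      have hkQQ : IsIso F Q Q (g ∘ ext1 ψ' ∘ χ) := by
        have hQNP : Q ≤ normalizerIn S P := hQP.trans hPNP
        refine hk.restrict' (hQP.trans le_sup_right) (fun x hx => ?_) (fun y hy => ?_)
        · show g (ext1 ψ' (χ x)) ∈ Q
          obtain ⟨x₁, hx₁, hx₁e⟩ := hχQ.surjOn (hk'Q.map_mem (hχQ.map_mem hx))
          rw [← hx₁e, hgχ x₁ (hQNP hx₁)]
          exact hx₁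
        · obtain ⟨z, hz, hze⟩ := hk'Q.surjOn (hχQ.map_mem hy)
          obtain ⟨x, hx, rfl⟩ := hχQ.surjOn hz
          refine ⟨x, hx, ?_⟩
          show g (ext1 ψ' (χ x)) = y
          rw [hze, hgχ y (hQNP hy)]
      obtain ⟨ψ, hψF, hψk, hψr⟩ := hk
      have hAPT : A ⊔ P ≤ normalizerIn S Q := sup_le (hA.trans hTPT) hPT
      have hψN : ψ ∈ N.Hom (A ⊔ P) := by
        rw [hN (A ⊔ P)]
        have heq : A ⊔ P ⊔ Q = A ⊔ P := sup_eq_left.2 (hQP.trans le_sup_right)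
        refine mem_of_isNHom (isNHom_iff.2 ⟨hAPT, fun x hx => ?_, g ∘ ext1 ψ' ∘ χ, φ.range ⊔ P,
          ?_, fun x hx => rfl, fun x hx => hkQQ.map_mem hx, fun y hy => hkQQ.surjOn hy⟩) hψk
        · have h1 : (g ∘ ext1 ψ' ∘ χ) x ∈ φ.range ⊔ P := by
            rw [← hψr]
            exact ⟨⟨x, hx⟩, hψk ⟨x, hx⟩⟩
          exact (sup_le (hφr.trans hTPT) hPT) h1
        · rw [heq]
          exact ⟨ψ, hψF, hψk, hψr⟩
      have hψφ : ∀ x : A, ψ (Subgroup.inclusion le_sup_left x) = φ x := by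
        intro x
        rw [hψk]
        exact hkφ x
      rw [hNP A]
      refine ⟨?_, hA, hφ, ψ, hψN, hψφ, ?_⟩
      · have : φ = ψ.comp (Subgroup.inclusion le_sup_left) :=
          MonoidHom.ext fun x => (hψφ x).symm
        rw [this]; exact restrict_mem N hψN le_sup_left
      · ext y
        constructor
        · rintro ⟨x, hx, rfl⟩
          rw [hψk]
          exact hkPP.map_mem (Subgroup.mem_subgroupOf.1 hx)
        · intro hy
          obtain ⟨x, hx, rfl⟩ := hkPP.surjOn hy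
          exact ⟨⟨x, (le_sup_right : P ≤ A ⊔ P) hx⟩, Subgroup.mem_subgroupOf.2 hx, hψk _⟩

end two

section sub

variable [Finite S] {p : ℕ} [Fact p.Prime] {R : Subgroup Ω} {G : Type w} [Group G] {ι : S →* G}

/-- In a model with normal centric subgroup `R`, every subgroup containing the image of `R` has
the centralizer property. -/
theorem sub_centralizer_le (hS : IsPGroup p S) (hF : F.IsSaturated p) (hRn : F.IsNormal R)
    (hRc : F.IsCentric R) (hM : F.IsModel p G ι) (M : Subgroup G) (hAM : imgOf ι R ≤ M) :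
    Subgroup.centralizer ((pCore p ↥M : Subgroup ↥M) : Set ↥M) ≤ pCore p ↥M := by
  have hinj := hM.2.1.1
  have hAn : (imgOf ι R).Normal := model_map_normal hM hRn
  have hAp : IsPGroup p (imgOf ι R) := by
    have h1 : IsPGroup p (R.subgroupOf S) := hS.to_subgroup _
    exact h1.map ι
  have hAO : (imgOf ι R).subgroupOf M ≤ pCore p ↥M := by
    apply le_pCore
    · exact hAn.subgroupOf _
    · exact hAp.comap_subtype
  obtain ⟨π, hπ, hπι, hker, hconj⟩ := model_pi hS hF hRn hRc hM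
  intro m hm
  have hcomm : ∀ a ∈ imgOf ι R, a * (m : G) = (m : G) * a := by
    intro a ha
    have h1 : (⟨a, hAM ha⟩ : ↥M) ∈ pCore p ↥M := hAO (Subgroup.mem_subgroupOf.2 ha)
    have h2 := Subgroup.mem_centralizer_iff.1 hm _ h1
    exact congrArg Subtype.val h2
  have hπm : π (m : G) = 1 := by
    apply Subtype.ext
    apply MulEquiv.ext
    intro q
    have h1 := hconj (m : G) q
    have h2 : (m : G) * ι (Subgroup.inclusion hRn.1 q) * (m : G)⁻¹ =
        ι (Subgroup.inclusion hRn.1 q) := by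
      have h5 := hcomm (ι (Subgroup.inclusion hRn.1 q))
        (mem_imgOf.2 ⟨q, hRn.1 q.2, q.2, rfl⟩)
      rw [← h5]
      group
    rw [h2] at h1
    have h3 := hinj h1
    have h4 : (q : Ω) = (((π (m : G) : F.autGroup R) : MulAut R) q : R) :=
      congrArg (fun z : ↥S => (z : Ω)) h3
    exact Subtype.ext h4.symm
  obtain ⟨s, hsR, -, hsm⟩ := hker (m : G) hπm
  apply hAO
  rw [Subgroup.mem_subgroupOf]
  exact mem_imgOf.2 ⟨s, s.2, hsR, hsm⟩

end sub

section twomain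

variable [Finite S] {p : ℕ} [Fact p.Prime] {Q P P' N'' : Subgroup Ω}
  {N : FusionSystem (normalizerIn S Q)}
  {NP : FusionSystem (normalizerIn (normalizerIn S Q) P)}
  {N' : FusionSystem (normalizerIn S P')}
  {L' : Type w} [Group L'] {ι' : ↥(normalizerIn S P') →* L'} {χ : Ω → Ω}

/-- **Local models of iterated normalizer systems.** -/
theorem local_model_two (hS : IsPGroup p S) (hF : F.IsSaturated p)
    (hQfn : F.IsFullyNormalized Q) (hN : F.IsNormalizerSystem Q N) (hQP : Q ≤ P)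
    (hPfnN : N.IsFullyNormalized P) (hNP : N.IsNormalizerSystem P NP)
    (hP'fn : F.IsFullyNormalized P') (hP'c : F.IsCentric P')
    (hN' : F.IsNormalizerSystem P' N') (hM' : N'.IsModel p L' ι')
    (hχN : IsIso F (normalizerIn S P) N'' χ) (hN'' : N'' ≤ normalizerIn S P')
    (hχP : IsIso F P P' χ) :
    ∃ (M : Subgroup L') (e : ↥(normalizerIn (normalizerIn S Q) P) →* ↥M),
      NP.IsModel p ↥M e := by
  have hPT : P ≤ normalizerIn S Q := hPfnN.1
  have hPS : P ≤ S := hPT.trans inf_le_left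
  have hP'S : P' ≤ S := hP'fn.1
  have hPNP : P ≤ normalizerIn S P := le_normalizerIn hPS
  have hP'T' : P' ≤ normalizerIn S P' := le_normalizerIn hP'S
  have hTPle : normalizerIn (normalizerIn S Q) P ≤ normalizerIn S P := fun x hx => ⟨hx.1.1, hx.2⟩
  haveI hfinT' : Finite ↥(normalizerIn S P') := finite_of_le S inf_le_left
  have hST' : IsPGroup p ↥(normalizerIn S P') := hS.to_le inf_le_left
  obtain ⟨Q', hQ'P', hχQ, hQ'mem⟩ := hχP.restrict hQP
  obtain ⟨D', hD'N'', hχD, hD'mem⟩ := hχN.restrict hTPle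
  have hD'T' : D' ≤ normalizerIn S P' := hD'N''.trans hN''
  have hQ'T' : Q' ≤ normalizerIn S P' := hQ'P'.trans hP'T'
  have hQNP : Q ≤ normalizerIn S P := hQP.trans hPNP
  have hD'le : D' ≤ normalizerIn (normalizerIn S P') Q' := by
    intro y hy
    obtain ⟨t, ht, rfl⟩ := hχD.surjOn hy
    exact ⟨hD'T' (hχD.map_mem ht), IsIso.map_mem_normalizer hχN hQNP hχQ (hTPle ht) ht.1.2⟩
  have hcardD : Nat.card (normalizerIn (normalizerIn S Q) P) = Nat.card D' :=
    Nat.card_congr hχD.toMulEquiv.toEquiv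
  have hcount : ∀ U, N'.IsConj Q' U →
      Nat.card (normalizerIn (normalizerIn S P') U) ≤ Nat.card D' := fun U hU =>
    hcardD ▸ card_normalizer_le hS hF hQfn hN hQP hPfnN hN' hχP hχQ hU
  haveI : Finite ↥(normalizerIn (normalizerIn S P') Q') :=
    finite_of_le S (inf_le_left.trans inf_le_left)
  have hDeq : D' = normalizerIn (normalizerIn S P') Q' :=
    Subgroup.eq_of_le_of_card_ge hD'le (hcount Q' (isConj_refl N' hQ'T'))
  have hQ'fn : N'.IsFullyNormalized Q' :=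
    ⟨hQ'T', fun U hU => (hcount U hU).trans (le_of_eq (by rw [hDeq]))⟩
  have hmem : ∀ t, twoHom ι' hχD hD'T' t ∈ locSub ι' Q' := by
    intro t
    apply imgOf_normalizerIn_le hQ'T'
    exact mem_imgOf.2 ⟨χ t, hD'T' (hχD.map_mem t.2), hD'le (hχD.map_mem t.2), rfl⟩
  have hP'nN' : N'.IsNormal P' := normalizerSystem_isNormal hP'S hN'
  have hP'cN' : N'.IsCentric P' := normalizerSystem_isCentric hP'c hN'
  have hsat' : N'.IsSaturated p := normalizerSystem_isSaturated hS hF hP'fn N' hN'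
  have hP'n : (imgOf ι' P').Normal := model_map_normal hM' hP'nN'
  have hM'' := hM'
  obtain ⟨hfin, hreal', hsyl', hC'⟩ := hM'
  refine ⟨locSub ι' Q', (twoHom ι' hχD hD'T').codRestrict _ hmem, inferInstance,
    two_realizedBy hN hQP hPT hNP hN' hreal' hP'n hχN hN'' hχP hχQ hχD hD'T' hmem, ?_, ?_⟩
  · obtain ⟨X, hX⟩ := realized_normalizer_sylow hST' hreal' hsyl' hQ'fn
    refine ⟨X, ?_⟩
    rw [hX]
    ext y
    rw [Subgroup.mem_subgroupOf, mem_imgOf]
    constructor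
    · rintro ⟨x, hx, hxN, hxy⟩
      rw [← hDeq] at hxN
      obtain ⟨t, ht, rfl⟩ := hχD.surjOn hxN
      exact ⟨⟨t, ht⟩, Subtype.ext hxy⟩
    · rintro ⟨t, rfl⟩
      exact ⟨χ t, hD'T' (hχD.map_mem t.2), hD'le (hχD.map_mem t.2), rfl⟩
  · apply sub_centralizer_le hST' hsat' hP'nN' hP'cN' hM''
    intro y hy
    obtain ⟨x, hxT, hxP', rfl⟩ := mem_imgOf.1 hy
    apply imgOf_normalizerIn_le hQ'T'
    refine mem_imgOf.2 ⟨x, hxT, ⟨hxT, ?_⟩, rfl⟩
    obtain ⟨x₀, hx₀, rfl⟩ := hχP.surjOn hxP'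
    exact IsIso.map_mem_normalizer hχN hQNP hχQ (hPNP hx₀) (hPT hx₀).2

end twomain

end Cfsg.Agent.Lib.H26.Model
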