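import Mathlib
import Cfsg.Agent.Lib.H26.NilMain
import Cfsg.Agent.Lib.H26.NormalizerLocal
import Cfsg.Agent.S5240

set_option autoImplicit false

/-!
Normalizer systems over the whole of `S` and control of fusion by a subgroup `X` normalized
by `S` (helper26): the system `E` over `S` with maps `F.normalizerHom X`, criteria for an
isomorphism of `F` to be an isomorphism of `E`.
-/

namespace Cfsg.Agent.Lib.H26.ZJ

open Cfsg Cfsg.FusionSystem Cfsg.Agent.Lib.H25 Cfsg.Agent.Lib.H26 Cfsg.Agent.Lib.H26.Nil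

universe u

variable {Ω : Type u} [Group Ω] {S : Subgroup Ω}

/-- The maps of the normalizer system are maps of the system. -/
theorem hom_le_of_normalizer {T : Subgroup Ω} {F : FusionSystem S} {E : FusionSystem T}
    {X : Subgroup Ω} (hE : ∀ P : Subgroup Ω, E.Hom P = F.normalizerHom X P) (P : Subgroup Ω) :
    E.Hom P ⊆ F.Hom P := by
  intro φ hφ
  rw [hE P] at hφ
  exact hφ.1

/-- If the normalizer system of `X` contains all maps of `F`, then `X` is normal in `F`. -/
theorem isNormal_of_hom_le {T : Subgroup Ω} {F : FusionSystem S} {E : FusionSystem T}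
    {X : Subgroup Ω} (hXS : X ≤ S) (hE : ∀ P : Subgroup Ω, E.Hom P = F.normalizerHom X P)
    (h : ∀ P : Subgroup Ω, F.Hom P ⊆ E.Hom P) : F.IsNormal X := by
  refine ⟨hXS, fun P φ hφ => ?_⟩
  have h1 := h P hφ
  rw [hE P] at h1
  exact h1.2.2.2

/-- For `X` normal in `F`, the maps of the normalizer system of `X` are all the maps of `F`. -/
theorem normalizerHom_eq_of_isNormal {F : FusionSystem S} {X : Subgroup Ω} (hX : F.IsNormal X)
    (P : Subgroup Ω) : F.normalizerHom X P = F.Hom P := by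
  have hNS : normalizerIn S X = S := stronglyClosed_normalizerIn_eq (isNormal_stronglyClosed hX)
  apply Set.Subset.antisymm
  · intro φ hφ
    exact hφ.1
  · intro φ hφ
    refine ⟨hφ, ?_, fun x => ?_, hX.2 P φ hφ⟩
    · rw [hNS]; exact hom_le F hφ
    · rw [hNS]; exact hom_mem_S F hφ x

/-- An isomorphism of a subsystem `N` of `F` in which `X` is normal is an isomorphism of the
normalizer system of `X` in `F`. -/
theorem isIso_normalizer_of_sub {F E N : FusionSystem S} {X : Subgroup Ω}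
    (hE : ∀ P : Subgroup Ω, E.Hom P = F.normalizerHom X P) (hNS : normalizerIn S X = S)
    (hNF : ∀ P : Subgroup Ω, N.Hom P ⊆ F.Hom P) (hNX : N.IsNormal X) {A B : Subgroup Ω}
    {f : Ω → Ω} (h : IsIso N A B f) : IsIso E A B f := by
  obtain ⟨φ, hφ, hφf, hr⟩ := h
  refine ⟨φ, ?_, hφf, hr⟩
  rw [hE A]
  refine ⟨hNF A hφ, ?_, fun x => ?_, ?_⟩
  · rw [hNS]; exact hom_le N hφ
  · rw [hNS]; exact hom_mem_S N hφ x
  · obtain ⟨ψ, hψ, h1, h2⟩ := hNX.2 A φ hφ
    exact ⟨ψ, hNF _ hψ, h1, h2⟩

/-- The normalizer system of a fully normalized subgroup normal in `S`, as a system over `S`,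
with `Qd(p)`-freeness. -/
theorem exists_normalizer_on_top_free [Finite S] {p : ℕ} [Fact p.Prime] (hS : IsPGroup p S)
    {F : FusionSystem S} (hF : F.IsSaturated p) (hfree : F.IsSectionFree p ↥(Cfsg.qd p))
    {Q : Subgroup Ω} (hQfn : F.IsFullyNormalized Q) (hNS : normalizerIn S Q = S) :
    ∃ N : FusionSystem S, (∀ P : Subgroup Ω, N.Hom P = F.normalizerHom Q P) ∧
      N.IsSaturated p ∧ N.IsNormal Q ∧ N.IsSectionFree p ↥(Cfsg.qd p) := by
  have hQS := hQfn.1
  have key : ∀ (T : Subgroup Ω) (_ : T = S) (N : FusionSystem T),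
      (∀ P : Subgroup Ω, N.Hom P = F.normalizerHom Q P) → N.IsSaturated p → N.IsNormal Q →
      N.IsSectionFree p ↥(Cfsg.qd p) →
      ∃ N : FusionSystem S, (∀ P : Subgroup Ω, N.Hom P = F.normalizerHom Q P) ∧
        N.IsSaturated p ∧ N.IsNormal Q ∧ N.IsSectionFree p ↥(Cfsg.qd p) := by
    rintro T rfl N h1 h2 h3 h4
    exact ⟨N, h1, h2, h3, h4⟩
  have hN : F.IsNormalizerSystem Q (Cfsg.Agent.S5096.normSys F Q hQS) := fun _ => rfl
  exact key _ hNS _ hN (normalizerSystem_isSaturated hS hF hQfn _ hN)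
    (normalizerSystem_isNormal hQS hN) (Cfsg.Agent.S5240.result p hS F hF hfree Q hQfn _ hN)

/-- A subgroup of `S` normalized by `S` is fully normalized. -/
theorem isFullyNormalized_of_normalizerIn_eq [Finite S] {F : FusionSystem S} {Q : Subgroup Ω}
    (hQS : Q ≤ S) (hNS : normalizerIn S Q = S) : F.IsFullyNormalized Q := by
  refine ⟨hQS, fun Q' _ => ?_⟩
  rw [hNS]
  exact Subgroup.card_le_of_le inf_le_left

end Cfsg.Agent.Lib.H26.ZJ
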