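import Mathlib
import Cfsg.Prelude.Def_FusionSystem
import Cfsg.Agent.Lib.H25.Fusion
import Cfsg.Agent.Lib.H26.Basic
import Cfsg.Agent.Lib.H26.GroupFusion

set_option autoImplicit false
set_option linter.unusedSectionVars false

/-!
The fusion system `F_T(H)` of a subgroup `H` of `G` on a Sylow `p`-subgroup `T` of `H` is
saturated (helper26). This generalizes `GroupSaturated.lean` (the case `H = ⊤`).
-/

namespace Cfsg.Agent.Lib.H26

open Cfsg Cfsg.FusionSystem

variable {G : Type*} [Group G]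

theorem mem_fusionSystemOfSubgroup_hom {H T : Subgroup G} {hTH : T ≤ H} {P : Subgroup G}
    {φ : P →* G} : φ ∈ (fusionSystemOfSubgroup H T hTH).Hom P ↔
      P ≤ T ∧ (∀ x : P, φ x ∈ T) ∧ ∃ g ∈ H, ∀ x : P, φ x = g * (x : G) * g⁻¹ := Iff.rfl

theorem conjHom_mem_fusionSystemOfSubgroup {H T : Subgroup G} {hTH : T ≤ H} {P : Subgroup G}
    (hP : P ≤ T) {g : G} (hgH : g ∈ H) (hg : cj g P ≤ T) :
    conjHom P g ∈ (fusionSystemOfSubgroup H T hTH).Hom P :=
  ⟨hP, fun x => hg ⟨x, x.2, rfl⟩, g, hgH, fun _ => rfl⟩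

theorem isConj_fusionSystemOfSubgroup_iff {H T : Subgroup G} {hTH : T ≤ H} {P Q : Subgroup G} :
    (fusionSystemOfSubgroup H T hTH).IsConj P Q ↔ P ≤ T ∧ Q ≤ T ∧ ∃ g ∈ H, cj g P = Q := by
  constructor
  · rintro ⟨φ, ⟨hP, hφS, g, hgH, hg⟩, hr⟩
    refine ⟨hP, ?_, g, hgH, ?_⟩
    · rw [← hr]
      rintro _ ⟨x, rfl⟩
      exact hφS x
    · rw [← hr]
      ext y
      constructor
      · rintro ⟨x, hx, rfl⟩
        exact ⟨⟨x, hx⟩, hg ⟨x, hx⟩⟩
      · rintro ⟨x, rfl⟩
        exact ⟨x, x.2, (hg x).symm⟩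
  · rintro ⟨hP, hQ, g, hgH, rfl⟩
    exact ⟨conjHom P g, conjHom_mem_fusionSystemOfSubgroup hP hgH hQ, conjHom_range P g⟩

theorem fusionSystemOfSubgroup_autGroup_eq {H T : Subgroup G} {hTH : T ≤ H} {Q : Subgroup G}
    (hQ : Q ≤ T) : (fusionSystemOfSubgroup H T hTH).autGroup Q = autInducedBy H Q := by
  ext α
  rw [Cfsg.Agent.Lib.H25.mem_autGroup_iff _ hQ, Cfsg.Agent.Lib.H25.mem_autInducedBy_iff]
  constructor
  · rintro ⟨-, -, g, hgH, hg⟩
    exact ⟨g, hgH, fun x => hg x⟩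
  · rintro ⟨g, hgH, hg⟩
    exact ⟨hQ, fun x => hQ (α x).2, g, hgH, fun x => hg x⟩

theorem cj_eq_self_of_mem {g : G} {H : Subgroup G} (hg : g ∈ H) : cj g H = H :=
  cj_eq_self_of_mem_normalizer (Subgroup.le_normalizer hg)

theorem cj_normalizerIn {g : G} {H : Subgroup G} (hg : g ∈ H) (P : Subgroup G) :
    cj g (normalizerIn H P) = normalizerIn H (cj g P) := by
  unfold normalizerIn
  rw [cj_inf, cj_eq_self_of_mem hg, cj_normalizer]

theorem cj_centralizerIn {g : G} {H : Subgroup G} (hg : g ∈ H) (P : Subgroup G) :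
    cj g (centralizerIn H P) = centralizerIn H (cj g P) := by
  unfold centralizerIn
  rw [cj_inf, cj_eq_self_of_mem hg, cj_centralizer]

theorem normalizerIn_mono {T H : Subgroup G} (hTH : T ≤ H) (P : Subgroup G) :
    normalizerIn T P ≤ normalizerIn H P := inf_le_inf_right _ hTH

theorem centralizerIn_mono {T H : Subgroup G} (hTH : T ≤ H) (P : Subgroup G) :
    centralizerIn T P ≤ centralizerIn H P := inf_le_inf_right _ hTH

/-- conjugation by an element of the normalizer preserves the centralizer -/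
theorem conj_mem_centralizer {Q : Subgroup G} {m d : G}
    (hm : m ∈ Subgroup.normalizer (Q : Set G)) (hd : d ∈ Subgroup.centralizer (Q : Set G)) :
    m * d * m⁻¹ ∈ Subgroup.centralizer (Q : Set G) := by
  rw [Subgroup.mem_centralizer_iff]
  intro y hy
  have hy' : m⁻¹ * y * m ∈ Q := by
    have := (Subgroup.mem_normalizer_iff.1 (Subgroup.inv_mem _ hm) y).1 hy
    simpa using this
  have := (Subgroup.mem_centralizer_iff.1 hd) _ hy'
  have e : y * (m * d * m⁻¹) = m * ((m⁻¹ * y * m) * d) * m⁻¹ := by group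
  rw [e, this]
  group

theorem normalizerIn_le_normalizer_centralizerIn (H Q : Subgroup G) :
    normalizerIn H Q ≤ Subgroup.normalizer ((centralizerIn H Q : Subgroup G) : Set G) := by
  intro n hn
  have key : ∀ m ∈ normalizerIn H Q, ∀ d ∈ centralizerIn H Q, m * d * m⁻¹ ∈ centralizerIn H Q := by
    intro m hm d hd
    exact ⟨H.mul_mem (H.mul_mem hm.1 hd.1) (H.inv_mem hm.1), conj_mem_centralizer hm.2 hd.2⟩
  rw [Subgroup.mem_normalizer_iff]
  intro c
  constructor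
  · intro hc
    exact key n hn c hc
  · intro hc
    have := key n⁻¹ (Subgroup.inv_mem _ hn) _ hc
    have e : n⁻¹ * (n * c * n⁻¹) * n⁻¹⁻¹ = c := by group
    rwa [e] at this

section SylowFusion

variable [Finite G] {p : ℕ} [Fact p.Prime]

theorem IsSylowIn.isPGroup_of_le {X N : Subgroup G} (h : IsSylowIn p X N) (hXN : X ≤ N) :
    IsPGroup p X := by
  have := h.isPGroup
  rwa [inf_of_le_left hXN] at this

/-- Every subgroup of `T` has an `H`-conjugate `Q ≤ T` with `N_T(Q)` Sylow in `N_H(Q)`. -/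
theorem exists_cj_normalizerIn_sylow {H T : Subgroup G} (hTH : T ≤ H) (hT : IsSylowIn p T H)
    {P : Subgroup G} (hP : P ≤ T) :
    ∃ g ∈ H, cj g P ≤ T ∧ IsSylowIn p (normalizerIn T (cj g P)) (normalizerIn H (cj g P)) := by
  have hTp : IsPGroup p T := hT.isPGroup_of_le hTH
  have hPp : IsPGroup p (P.subgroupOf (normalizerIn H P)) := (hTp.to_le hP).comap_subtype
  obtain ⟨R, hR⟩ := hPp.exists_le_sylow
  have hT' := isSylowIn_of_sylow R
  obtain ⟨T', hT'def⟩ : ∃ T' : Subgroup G, T' = (R : Subgroup _).map (normalizerIn H P).subtype :=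
    ⟨_, rfl⟩
  rw [← hT'def] at hT'
  have hT'N : T' ≤ normalizerIn H P := by
    rw [hT'def]
    rintro _ ⟨y, -, rfl⟩
    exact y.2
  have hPT' : P ≤ T' := by
    intro x hx
    rw [hT'def]
    exact ⟨⟨x, ⟨hTH (hP hx), Subgroup.le_normalizer hx⟩⟩, hR (Subgroup.mem_subgroupOf.2 hx), rfl⟩
  have hT'p : IsPGroup p T' := by
    rw [hT'def]
    exact R.2.map _
  obtain ⟨g, hgH, hgT'⟩ := hT.exists_conj (hT'N.trans inf_le_left) hT'p
  have hQT : cj g P ≤ T := (cj_mono g hPT').trans hgT'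
  refine ⟨g, hgH, hQT, ?_⟩
  have hT'' := isSylowIn_cj hT' hT'N g
  rw [cj_normalizerIn hgH] at hT''
  apply isSylowIn_of_max (normalizerIn_mono hTH _) (hTp.to_le inf_le_left)
  intro Y _ hYN hY
  have h1 := hT''.card_le hYN hY
  have h2 : cj g T' ≤ normalizerIn T (cj g P) := by
    refine le_inf hgT' ?_
    have := cj_mono g hT'N
    rw [cj_normalizerIn hgH] at this
    exact this.trans inf_le_right
  exact h1.trans (Subgroup.card_le_of_le h2)

theorem centralizerIn_sylow_of_normalizerIn_sylow {H T Q : Subgroup G} (hTH : T ≤ H)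
    (h : IsSylowIn p (normalizerIn T Q) (normalizerIn H Q)) :
    IsSylowIn p (centralizerIn T Q) (centralizerIn H Q) := by
  have hle : centralizerIn H Q ≤ normalizerIn H Q :=
    inf_le_inf_left _ (Subgroup.centralizer_le_normalizer _)
  have h1 := h.of_normal hle (normalizerIn_le_normalizer_centralizerIn H Q)
  rw [← isSylowIn_inf_iff] at h1 ⊢
  have e : normalizerIn T Q ⊓ centralizerIn H Q = centralizerIn T Q ⊓ centralizerIn H Q := by
    unfold normalizerIn centralizerIn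
    ext x
    simp only [Subgroup.mem_inf]
    constructor
    · rintro ⟨⟨h1, -⟩, h3, h4⟩
      exact ⟨⟨h1, h4⟩, h3, h4⟩
    · rintro ⟨⟨h1, h2⟩, h3, -⟩
      exact ⟨⟨h1, Subgroup.centralizer_le_normalizer _ h2⟩, h3, h2⟩
  rwa [e] at h1

/-- `Aut_T(Q)` is Sylow in `Aut_H(Q)` when `N_T(Q)` is Sylow in `N_H(Q)`. -/
theorem autInducedBy_sylow_of_normalizerIn_sylow {H T Q : Subgroup G} (hTH : T ≤ H)
    (h : IsSylowIn p (normalizerIn T Q) (normalizerIn H Q)) :
    IsSylowIn p (autInducedBy T Q) (autInducedBy H Q) := by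
  obtain ⟨R, hR⟩ := h
  let f₀ : normalizerIn H Q →* MulAut Q :=
    (Subgroup.normalizerMonoidHom Q).comp (Subgroup.inclusion (inf_le_right))
  have hf₀ : ∀ (n : normalizerIn H Q) (x : Q), ((f₀ n x : Q) : G) = n * x * (n : G)⁻¹ :=
    fun n x => rfl
  have hmem : ∀ n : normalizerIn H Q, f₀ n ∈ autInducedBy H Q := by
    intro n
    rw [Cfsg.Agent.Lib.H25.mem_autInducedBy_iff]
    exact ⟨n, n.2.1, fun x => hf₀ n x⟩
  let f : normalizerIn H Q →* autInducedBy H Q := f₀.codRestrict _ hmem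
  have hf : Function.Surjective f := by
    rintro ⟨α, hα⟩
    obtain ⟨g, hgH, hg⟩ := (Cfsg.Agent.Lib.H25.mem_autInducedBy_iff H Q α).1 hα
    refine ⟨⟨g, hgH, mem_normalizer_of_aut hg⟩, ?_⟩
    apply Subtype.ext
    ext x
    exact (hg x).symm
  refine ⟨R.mapSurjective hf, ?_⟩
  rw [Sylow.coe_mapSurjective, hR]
  ext ⟨α, hα⟩
  rw [Subgroup.mem_subgroupOf]
  constructor
  · rintro ⟨n, hn, hnα⟩
    rw [SetLike.mem_coe, Subgroup.mem_subgroupOf] at hn
    have : α = f₀ n := by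
      have := congrArg Subtype.val hnα
      exact this.symm
    rw [Cfsg.Agent.Lib.H25.mem_autInducedBy_iff]
    refine ⟨n, hn.1, fun x => ?_⟩
    show ((α x : Q) : G) = _
    rw [this]
    rfl
  · intro hα'
    obtain ⟨g, hgT, hg⟩ := (Cfsg.Agent.Lib.H25.mem_autInducedBy_iff T Q α).1 hα'
    have hgN := mem_normalizer_of_aut hg
    refine ⟨⟨g, hTH hgT, hgN⟩, ?_, ?_⟩
    · rw [SetLike.mem_coe, Subgroup.mem_subgroupOf]
      exact ⟨hgT, hgN⟩
    · apply Subtype.ext
      ext x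
      exact (hg x).symm

/-- The Sylow argument behind receptivity, inside `H`. -/
theorem exists_centralizerIn_conj_le {H T : Subgroup G} (hTH : T ≤ H) (hTp : IsPGroup p T)
    {P Q : Subgroup G} (g : G)
    (hN : IsSylowIn p (normalizerIn T Q) (normalizerIn H Q)) :
    ∃ h ∈ centralizerIn H Q,
      cj (h * g) (normalizerIn T P ⊓
        (normalizerIn T Q ⊔ centralizerIn H Q).comap (MulAut.conj g).toMonoidHom) ≤ T := by
  have hTNp : IsPGroup p (normalizerIn T Q) := hTp.to_le inf_le_left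
  obtain ⟨Ng, hNg⟩ : ∃ Ng : Subgroup G, Ng = normalizerIn T P ⊓
        (normalizerIn T Q ⊔ centralizerIn H Q).comap (MulAut.conj g).toMonoidHom := ⟨_, rfl⟩
  rw [← hNg]
  obtain ⟨M, hM⟩ : ∃ M : Subgroup G, M = normalizerIn T Q ⊔ centralizerIn H Q := ⟨_, rfl⟩
  have hMN : M ≤ normalizerIn H Q := by
    rw [hM]
    exact sup_le (normalizerIn_mono hTH Q)
      (inf_le_inf_left _ (Subgroup.centralizer_le_normalizer _))
  have hXM : normalizerIn T Q ≤ M := by rw [hM]; exact le_sup_left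
  have hSylM : IsSylowIn p (normalizerIn T Q) M := by
    apply isSylowIn_of_max hXM hTNp
    intro Y _ hYM hY
    exact hN.card_le (hYM.trans hMN) hY
  have hgNg : cj g Ng ≤ M := by
    rintro _ ⟨x, hx, rfl⟩
    rw [hNg] at hx
    have hx2 := (Subgroup.mem_inf.1 hx).2
    rw [hM]
    exact Subgroup.mem_comap.1 hx2
  have hNgp : IsPGroup p Ng := by
    rw [hNg]
    exact hTp.to_le (inf_le_left.trans inf_le_left)
  obtain ⟨m, hmM, hm⟩ := hSylM.exists_conj hgNg (cj_isPGroup g hNgp)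
  have hnorm : normalizerIn T Q ≤
      Subgroup.normalizer ((centralizerIn H Q : Subgroup G) : Set G) :=
    (normalizerIn_mono hTH Q).trans (normalizerIn_le_normalizer_centralizerIn H Q)
  have hmem : m ∈ normalizerIn T Q ⊔ centralizerIn H Q := hM ▸ hmM
  rw [← SetLike.mem_coe, Subgroup.coe_mul_of_left_le_normalizer_right _ _ hnorm] at hmem
  obtain ⟨s, hs, c, hc, rfl⟩ := Set.mem_mul.1 hmem
  refine ⟨c, hc, ?_⟩
  rw [cj_mul]
  intro x hx
  have h1 : s * x * s⁻¹ ∈ cj (s * c) (cj g Ng) := by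
    rw [cj_mul]
    exact conj_mem_cj hx
  have h2 : s * x * s⁻¹ ∈ T := (hm h1).1
  have hsT : s ∈ T := hs.1
  have e : x = s⁻¹ * (s * x * s⁻¹) * s := by group
  rw [e]
  exact Subgroup.mul_mem _ (Subgroup.mul_mem _ (Subgroup.inv_mem _ hsT) h2) hsT

theorem fusionSystemOfSubgroup_isFullyAutomized {H T Q : Subgroup G} (hTH : T ≤ H) (hQ : Q ≤ T)
    (h : IsSylowIn p (normalizerIn T Q) (normalizerIn H Q)) :
    (fusionSystemOfSubgroup H T hTH).IsFullyAutomized p Q := by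
  refine ⟨hQ, ?_⟩
  have := autInducedBy_sylow_of_normalizerIn_sylow hTH h
  rw [← fusionSystemOfSubgroup_autGroup_eq (hTH := hTH) hQ] at this
  exact this

theorem fusionSystemOfSubgroup_isReceptive {H T Q : Subgroup G} (hTH : T ≤ H)
    (hTp : IsPGroup p T) (hQ : Q ≤ T)
    (h : IsSylowIn p (normalizerIn T Q) (normalizerIn H Q)) :
    (fusionSystemOfSubgroup H T hTH).IsReceptive Q := by
  refine ⟨hQ, ?_⟩
  rintro P φ ⟨hPT, hφT, k, hkH, hk⟩ hr
  have hkP : cj k P = Q := by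
    rw [← hr]
    ext y
    constructor
    · rintro ⟨x, hx, rfl⟩
      exact ⟨⟨x, hx⟩, hk ⟨x, hx⟩⟩
    · rintro ⟨x, rfl⟩
      exact ⟨x, x.2, (hk x).symm⟩
  obtain ⟨c, hc, hcle⟩ := exists_centralizerIn_conj_le hTH hTp (P := P) k h
  have hext : extender T P φ ≤ normalizerIn T P ⊓
        (normalizerIn T Q ⊔ centralizerIn H Q).comap (MulAut.conj k).toMonoidHom := by
    intro x hx
    refine Subgroup.mem_inf.2 ⟨Cfsg.Agent.Lib.H25.extender_le_normalizerIn _ _ _ hx, ?_⟩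
    rw [Cfsg.Agent.Lib.H25.mem_extender_iff] at hx
    obtain ⟨hxT, hxN, s, hs, hxs⟩ := hx
    rw [Subgroup.mem_comap]
    show k * x * k⁻¹ ∈ _
    have hcent : s⁻¹ * (k * x * k⁻¹) ∈ Subgroup.centralizer (Q : Set G) := by
      rw [Subgroup.mem_centralizer_iff]
      intro z hz
      rw [← hkP] at hz
      obtain ⟨y, hy, rfl⟩ := hz
      show (k * y * k⁻¹) * (s⁻¹ * (k * x * k⁻¹)) = s⁻¹ * (k * x * k⁻¹) * (k * y * k⁻¹)
      have hy' : x * y * x⁻¹ ∈ P := (Subgroup.mem_normalizer_iff.1 hxN y).1 hy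
      have h1 := hxs ⟨y, hy⟩ hy'
      rw [hk, hk] at h1
      have h1' : k * (x * y * x⁻¹) * k⁻¹ = s * (k * y * k⁻¹) * s⁻¹ := h1
      have e : s⁻¹ * (k * x * k⁻¹) * (k * y * k⁻¹) =
          s⁻¹ * (k * (x * y * x⁻¹) * k⁻¹) * (k * x * k⁻¹) := by group
      rw [e, h1']
      group
    have hcentH : s⁻¹ * (k * x * k⁻¹) ∈ centralizerIn H Q :=
      ⟨H.mul_mem (H.inv_mem (hTH hs)) (H.mul_mem (H.mul_mem hkH (hTH hxT)) (H.inv_mem hkH)), hcent⟩
    have hxN' : k * x * k⁻¹ ∈ Subgroup.normalizer (Q : Set G) := by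
      rw [← hkP, ← cj_normalizer]
      exact conj_mem_cj hxN
    have hsN : s ∈ Subgroup.normalizer (Q : Set G) := by
      have e : s = (k * x * k⁻¹) * (s⁻¹ * (k * x * k⁻¹))⁻¹ := by group
      rw [e]
      exact Subgroup.mul_mem _ hxN'
        (Subgroup.inv_mem _ (Subgroup.centralizer_le_normalizer _ hcent))
    have e : k * x * k⁻¹ = s * (s⁻¹ * (k * x * k⁻¹)) := by group
    rw [e]
    exact Subgroup.mul_mem _ (Subgroup.mem_sup_left ⟨hs, hsN⟩) (Subgroup.mem_sup_right hcentH)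
  have hle : cj (c * k) (extender T P φ) ≤ T := (cj_mono _ hext).trans hcle
  have hextT : extender T P φ ≤ T :=
    (Cfsg.Agent.Lib.H25.extender_le_normalizerIn _ _ _).trans inf_le_left
  refine ⟨conjHom _ (c * k),
    conjHom_mem_fusionSystemOfSubgroup hextT (H.mul_mem hc.1 hkH) hle, ?_⟩
  intro x hxP hxN
  show c * k * x * (c * k)⁻¹ = φ ⟨x, hxP⟩
  rw [hk]
  show c * k * x * (c * k)⁻¹ = k * x * k⁻¹
  have hQx : k * x * k⁻¹ ∈ Q := by
    rw [← hkP]
    exact conj_mem_cj hxP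
  have := (Subgroup.mem_centralizer_iff.1 hc.2) _ hQx
  have e : c * k * x * (c * k)⁻¹ = (c * (k * x * k⁻¹)) * c⁻¹ := by group
  rw [e, ← this]
  group

/-- `F_T(H)` is saturated when `T` is a Sylow `p`-subgroup of `H`. -/
theorem fusionSystemOfSubgroup_isSaturated {H T : Subgroup G} (hTH : T ≤ H)
    (hT : IsSylowIn p T H) : (fusionSystemOfSubgroup H T hTH).IsSaturated p := by
  have hTp : IsPGroup p T := hT.isPGroup_of_le hTH
  intro P hP
  obtain ⟨g, hgH, hQT, hSyl⟩ := exists_cj_normalizerIn_sylow hTH hT hP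
  exact ⟨cj g P, isConj_fusionSystemOfSubgroup_iff.2 ⟨hP, hQT, g, hgH, rfl⟩,
    fusionSystemOfSubgroup_isFullyAutomized hTH hQT hSyl,
    fusionSystemOfSubgroup_isReceptive hTH hTp hQT hSyl⟩

end SylowFusion

end Cfsg.Agent.Lib.H26
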