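import Mathlib
import Cfsg.Prelude.Def_FusionSystem
import Cfsg.Agent.Lib.H25.Fusion
import Cfsg.Agent.Lib.H25.SatEquiv
import Cfsg.Agent.Lib.H26.Basic
import Cfsg.Agent.Lib.H26.GroupFusion
import Cfsg.Agent.Lib.H26.GroupSaturated
import Cfsg.Agent.Lib.H26.SubgroupFusion

set_option autoImplicit false
set_option linter.unusedSectionVars false

/-!
For `H ⊴ G` and `S` a Sylow `p`-subgroup of `G`, the system `F_{S ∩ H}(H)` is normal in `F_S(G)`
(helper26).
-/

namespace Cfsg.Agent.Lib.H26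

open Cfsg Cfsg.FusionSystem

variable {G : Type*} [Group G] [Finite G] {p : ℕ} [Fact p.Prime]

theorem sylow_isSylowIn_top (S : Sylow p G) : IsSylowIn p (S : Subgroup G) ⊤ := by
  apply isSylowIn_of_max le_top S.2
  intro Y _ _ hY
  obtain ⟨g, hg⟩ := exists_conj_mem_sylow S Y hY
  have hgY : cj g Y ≤ S := by
    rintro _ ⟨y, hy, rfl⟩
    exact hg y hy
  rw [← card_cj g Y]
  exact Subgroup.card_le_of_le hgY

theorem sylow_inf_normal_isSylowIn (S : Sylow p G) (H : Subgroup G) [H.Normal] :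
    IsSylowIn p ((S : Subgroup G) ⊓ H) H := by
  rw [isSylowIn_inf_iff]
  exact (sylow_isSylowIn_top S).of_normal le_top (by rw [Subgroup.normalizer_eq_top])

/-- Frattini argument in terms of `IsSylowIn`. -/
theorem frattini_decomp {T H : Subgroup G} [H.Normal] (hTH : T ≤ H) (hT : IsSylowIn p T H)
    (g : G) : ∃ n ∈ Subgroup.normalizer (T : Set G), ∃ h ∈ H, g = n * h := by
  obtain ⟨R, hR⟩ := hT
  have h1 := Sylow.normalizer_sup_eq_top R
  have h2 : (R : Subgroup H).map H.subtype = T := by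
    rw [hR, Subgroup.subgroupOf_map_subtype, inf_of_le_left hTH]
  rw [h2] at h1
  have hg : g ∈ Subgroup.normalizer (T : Set G) ⊔ H := by rw [h1]; trivial
  obtain ⟨n, hn, h, hh, rfl⟩ := Subgroup.mem_sup_of_normal_right.1 hg
  exact ⟨n, hn, h, hh, rfl⟩

theorem isIso_conj_groupFusionSystem {S P : Subgroup G} (hP : P ≤ S) {g : G}
    (hg : cj g P ≤ S) :
    Cfsg.Agent.Lib.H25.IsIso (groupFusionSystem S) P (cj g P) (fun x => g * x * g⁻¹) :=
  ⟨conjHom P g, conjHom_mem_groupFusionSystem hP hg, fun _ => rfl, conjHom_range P g⟩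

/-- An automorphism in `Aut_F(P)` induced by conjugation by a normalizing element. -/
theorem exists_aut_of_normalizer {S P : Subgroup G} (hP : P ≤ S) {g : G}
    (hg : g ∈ Subgroup.normalizer (P : Set G)) :
    ∃ α ∈ (groupFusionSystem S).autGroup P, ∀ x : P, ((α x : P) : G) = g * x * g⁻¹ := by
  have h := isIso_conj_groupFusionSystem hP (g := g)
    (by rw [cj_eq_self_of_mem_normalizer hg]; exact hP)
  rw [cj_eq_self_of_mem_normalizer hg] at h
  exact Cfsg.Agent.Lib.H25.exists_mem_autGroup_of_isIso _ h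

theorem fusionSystemOfSubgroup_isInvariantIn (S : Sylow p G) (H : Subgroup G) [hH : H.Normal] :
    (fusionSystemOfSubgroup H ((S : Subgroup G) ⊓ H) inf_le_right).IsInvariantIn
      (groupFusionSystem (S : Subgroup G)) := by
  obtain ⟨T, hTdef⟩ : ∃ T : Subgroup G, T = (S : Subgroup G) ⊓ H := ⟨_, rfl⟩
  have hTS : T ≤ S := hTdef ▸ inf_le_left
  have hTH : T ≤ H := hTdef ▸ inf_le_right
  have hTsyl : IsSylowIn p T H := hTdef ▸ sylow_inf_normal_isSylowIn S H
  have hgoal : (fusionSystemOfSubgroup H T hTH).IsInvariantIn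
      (groupFusionSystem (S : Subgroup G)) := by
    refine ⟨?_, ?_, ?_, ?_⟩
    · -- subsystem
      rintro P φ ⟨hP, hφT, g, -, hg⟩
      exact ⟨hP.trans hTS, fun x => hTS (hφT x), g, hg⟩
    · -- strongly closed
      refine ⟨hTS, ?_⟩
      rintro R hR φ ⟨-, hφS, g, hg⟩ x
      rw [hTdef]
      refine ⟨hφS x, ?_⟩
      rw [hg]
      exact hH.conj_mem _ (hTH (hR x.2)) g
    · -- invariance
      rintro P hPT φ ⟨-, hφT, h, hhH, hh⟩ α hα
      rw [Cfsg.Agent.Lib.H25.mem_autGroup_iff _ hTS] at hα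
      obtain ⟨-, -, g, hg⟩ := hα
      have hg' : ∀ t : T, ((α t : T) : G) = g * t * g⁻¹ := hg
      obtain ⟨P', hP'def⟩ : ∃ P' : Subgroup G,
          P' = (P.subgroupOf T).map (T.subtype.comp α.toMonoidHom) := ⟨_, rfl⟩
      rw [← hP'def]
      have hP'mem : ∀ y ∈ P', ∃ t ∈ P, y = g * t * g⁻¹ := by
        intro y hy
        rw [hP'def] at hy
        obtain ⟨t, ht, rfl⟩ := hy
        exact ⟨t, Subgroup.mem_subgroupOf.1 ht, hg' t⟩
      have hP'T : P' ≤ T := by
        intro y hy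
        rw [hP'def] at hy
        obtain ⟨t, -, rfl⟩ := hy
        exact (α t).2
      have hval : ∀ t ∈ P, g * h * g⁻¹ * (g * t * g⁻¹) * (g * h * g⁻¹)⁻¹ =
          g * (h * t * h⁻¹) * g⁻¹ := by
        intro t _
        group
      have hφT' : ∀ t (ht : t ∈ P), g * (h * t * h⁻¹) * g⁻¹ ∈ T := by
        intro t ht
        have h1 : h * t * h⁻¹ ∈ T := by
          rw [← hh ⟨t, ht⟩]
          exact hφT _
        rw [← hg' ⟨_, h1⟩]
        exact (α _).2
      refine ⟨conjHom P' (g * h * g⁻¹), ⟨hP'T, ?_, g * h * g⁻¹, hH.conj_mem h hhH g, fun _ => rfl⟩, ?_⟩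
      · intro y
        obtain ⟨t, ht, hy⟩ := hP'mem y y.2
        show g * h * g⁻¹ * (y : G) * (g * h * g⁻¹)⁻¹ ∈ T
        rw [hy, hval t ht]
        exact hφT' t ht
      · intro x hφx hαx
        show g * h * g⁻¹ * ((α ⟨x, hPT x.2⟩ : T) : G) * (g * h * g⁻¹)⁻¹ = _
        rw [hg', hg']
        show g * h * g⁻¹ * (g * (x : G) * g⁻¹) * (g * h * g⁻¹)⁻¹ = g * (φ x) * g⁻¹
        rw [hval x x.2, hh]
    · -- Frattini
      rintro P hPT φ ⟨hPS, hφS, g, hg⟩
      obtain ⟨n, hn, h, hhH, rfl⟩ := frattini_decomp hTH hTsyl g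
      obtain ⟨α, hα, hαn⟩ := exists_aut_of_normalizer hTS hn
      have hn' : n⁻¹ ∈ Subgroup.normalizer (T : Set G) := Subgroup.inv_mem _ hn
      have hcjT : ∀ x : P, h * (x : G) * h⁻¹ ∈ T := by
        intro x
        have h1 : n * h * (x : G) * (n * h)⁻¹ ∈ T := by
          rw [hTdef]
          refine ⟨?_, hH.conj_mem _ (hTH (hPT x.2)) _⟩
          rw [← hg]
          exact hφS x
        have h2 := (Subgroup.mem_normalizer_iff.1 hn' _).1 h1
        have e : n⁻¹ * (n * h * (x : G) * (n * h)⁻¹) * n⁻¹⁻¹ = h * (x : G) * h⁻¹ := by group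
        rwa [e] at h2
      refine ⟨α, hα, conjHom P h, ⟨hPT, hcjT, h, hhH, fun _ => rfl⟩, ?_⟩
      intro x hx
      rw [hαn, hg]
      show n * h * (x : G) * (n * h)⁻¹ = n * (h * (x : G) * h⁻¹) * n⁻¹
      group
  subst hTdef
  exact hgoal

/-- The extension condition: for `h ∈ N_H(T)` there is `g ∈ H` acting as `h` on `T` and
normalizing `C_S(T)`. -/
theorem exists_extension_elt (S : Sylow p G) (H : Subgroup G) [hH : H.Normal] {T : Subgroup G}
    (hTdef : T = (S : Subgroup G) ⊓ H) {h : G} (hhH : h ∈ H)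
    (hhN : h ∈ Subgroup.normalizer (T : Set G)) :
    ∃ g ∈ H, g ∈ Subgroup.normalizer ((centralizerIn (S : Subgroup G) T : Subgroup G) : Set G) ∧
      ∀ t ∈ T, g * t * g⁻¹ = h * t * h⁻¹ := by
  have hTS : T ≤ S := hTdef ▸ inf_le_left
  have hTH : T ≤ H := hTdef ▸ inf_le_right
  have hSp : IsPGroup p (S : Subgroup G) := S.2
  -- `S ≤ N_G(T)`
  have hSN : (S : Subgroup G) ≤ Subgroup.normalizer (T : Set G) := by
    intro s hs
    apply Cfsg.Agent.Lib.H25.mem_normalizer_of_conj_mem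
    intro x hx
    rw [hTdef]
    exact ⟨Subgroup.mul_mem _ (Subgroup.mul_mem _ hs (hTS hx)) (Subgroup.inv_mem _ hs),
      hH.conj_mem _ (hTH hx) s⟩
  have hNsyl : IsSylowIn p (normalizerIn (S : Subgroup G) T) (Subgroup.normalizer (T : Set G)) := by
    apply isSylowIn_of_max inf_le_right (hSp.to_le inf_le_left)
    intro Y _ _ hY
    have h1 := (sylow_isSylowIn_top S).card_le le_top hY
    have h2 : normalizerIn (S : Subgroup G) T = S := inf_of_le_left hSN
    change Nat.card Y ≤ Nat.card (normalizerIn (S : Subgroup G) T)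
    rwa [h2]
  have hCsyl := centralizer_sylow_of_normalizer_sylow hNsyl
  obtain ⟨CS, hCSdef⟩ : ∃ CS : Subgroup G, CS = centralizerIn (S : Subgroup G) T := ⟨_, rfl⟩
  obtain ⟨CH, hCHdef⟩ : ∃ CH : Subgroup G, CH = centralizerIn H T := ⟨_, rfl⟩
  rw [← hCSdef] at hCsyl ⊢
  have hCSp : IsPGroup p CS := hCSdef ▸ hSp.to_le inf_le_left
  have hCSc : CS ≤ Subgroup.centralizer (T : Set G) := hCSdef ▸ inf_le_right
  have hCHc : CH ≤ Subgroup.centralizer (T : Set G) := hCHdef ▸ inf_le_right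
  have hCHH : CH ≤ H := hCHdef ▸ inf_le_left
  have : Finite CS := inferInstance
  -- `CS` normalizes `CH`
  have hnorm : CS ≤ Subgroup.normalizer ((CH : Subgroup G) : Set G) := by
    rw [Subgroup.le_normalizer_iff]
    intro s hs d hd
    rw [hCHdef]
    refine ⟨hH.conj_mem _ (hCHH hd) s, ?_⟩
    exact Subgroup.mul_mem _ (Subgroup.mul_mem _ (hCSc hs) (hCHc hd)) (Subgroup.inv_mem _ (hCSc hs))
  have hMle : CS ⊔ CH ≤ Subgroup.centralizer (T : Set G) := sup_le hCSc hCHc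
  have hSylM : IsSylowIn p CS (CS ⊔ CH) := by
    apply isSylowIn_of_max le_sup_left hCSp
    intro Y _ hYM hY
    exact hCsyl.card_le (hYM.trans hMle) hY
  -- `h CS h⁻¹ ≤ CS ⊔ CH`
  have hhCS : cj h CS ≤ CS ⊔ CH := by
    rintro _ ⟨c, hc, rfl⟩
    show h * c * h⁻¹ ∈ _
    have e : h * c * h⁻¹ = c * (c⁻¹ * h * c * h⁻¹) := by group
    rw [e]
    refine Subgroup.mul_mem _ (Subgroup.mem_sup_left hc) (Subgroup.mem_sup_right ?_)
    rw [hCHdef]
    refine ⟨?_, ?_⟩
    · have h1 : c⁻¹ * h * c ∈ H := by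
        have := hH.conj_mem h hhH c⁻¹
        simpa using this
      exact H.mul_mem h1 (H.inv_mem hhH)
    · have h1 : h * c * h⁻¹ ∈ Subgroup.centralizer (T : Set G) := conj_mem_centralizer hhN (hCSc hc)
      have e2 : c⁻¹ * h * c * h⁻¹ = c⁻¹ * (h * c * h⁻¹) := by group
      rw [e2]
      exact Subgroup.mul_mem _ (Subgroup.inv_mem _ (hCSc hc)) h1
  obtain ⟨m, hmM, hm⟩ := hSylM.exists_conj hhCS (cj_isPGroup h hCSp)
  rw [← SetLike.mem_coe, Subgroup.coe_mul_of_left_le_normalizer_right _ _ hnorm] at hmM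
  obtain ⟨s, hs, a, ha, rfl⟩ := Set.mem_mul.1 hmM
  -- `g = a * h`
  refine ⟨a * h, H.mul_mem (hCHH ha) hhH, ?_, ?_⟩
  · apply Cfsg.Agent.Lib.H25.mem_normalizer_of_conj_mem
    intro c hc
    have h1 : s * a * (h * c * h⁻¹) * (s * a)⁻¹ ∈ CS := hm (conj_mem_cj (conj_mem_cj hc))
    have e : a * h * c * (a * h)⁻¹ = s⁻¹ * (s * a * (h * c * h⁻¹) * (s * a)⁻¹) * s := by group
    rw [e]
    exact CS.mul_mem (CS.mul_mem (CS.inv_mem hs) h1) hs
  · intro t ht
    have ht' : h * t * h⁻¹ ∈ T := (Subgroup.mem_normalizer_iff.1 hhN t).1 ht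
    have := (Subgroup.mem_centralizer_iff.1 (hCHc ha)) _ ht'
    have e : a * h * t * (a * h)⁻¹ = a * (h * t * h⁻¹) * a⁻¹ := by group
    rw [e, ← this]
    group

/-- S5118. -/
theorem fusionSystemOfSubgroup_isNormalIn (S : Sylow p G) (H : Subgroup G) [hH : H.Normal] :
    (fusionSystemOfSubgroup H ((S : Subgroup G) ⊓ H) inf_le_right).IsNormalIn
      (groupFusionSystem (S : Subgroup G)) p := by
  refine ⟨⟨fusionSystemOfSubgroup_isSaturated _ (sylow_inf_normal_isSylowIn S H),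
    groupFusionSystem_isSaturated S, fusionSystemOfSubgroup_isInvariantIn S H⟩, ?_⟩
  obtain ⟨T, hTdef⟩ : ∃ T : Subgroup G, T = (S : Subgroup G) ⊓ H := ⟨_, rfl⟩
  have hgoal : ∀ (hTH : T ≤ H), ∀ α ∈ (fusionSystemOfSubgroup H T hTH).autGroup T,
      ∃ β ∈ (groupFusionSystem (S : Subgroup G)).autGroup (T ⊔ centralizerIn (S : Subgroup G) T),
      (∀ x : T, ((β (Subgroup.inclusion le_sup_left x) :
          ↥(T ⊔ centralizerIn (S : Subgroup G) T)) : G) = ((α x : T) : G)) ∧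
      ∀ c : ↥(T ⊔ centralizerIn (S : Subgroup G) T), (c : G) ∈ centralizerIn (S : Subgroup G) T →
        (c : G)⁻¹ * ((β c : ↥(T ⊔ centralizerIn (S : Subgroup G) T)) : G) ∈
          T ⊓ Subgroup.centralizer (T : Set G) := by
    intro hTH α hα
    have hTS : T ≤ S := hTdef ▸ inf_le_left
    have hmemT : ∀ y : G, y ∈ (S : Subgroup G) → y ∈ H → y ∈ T := by
      intro y h1 h2
      rw [hTdef]
      exact ⟨h1, h2⟩
    rw [fusionSystemOfSubgroup_autGroup_eq le_rfl, Cfsg.Agent.Lib.H25.mem_autInducedBy_iff] at hα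
    obtain ⟨h, hhH, hh⟩ := hα
    have hhN : h ∈ Subgroup.normalizer (T : Set G) := mem_normalizer_of_aut hh
    obtain ⟨g, hgH, hgN, hgT⟩ := exists_extension_elt S H hTdef hhH hhN
    have hgNT : g ∈ Subgroup.normalizer (T : Set G) := by
      have : Finite T := Cfsg.Agent.Lib.H25.finite_of_le _ hTS
      apply Cfsg.Agent.Lib.H25.mem_normalizer_of_conj_mem
      intro t ht
      rw [hgT t ht]
      exact (Subgroup.mem_normalizer_iff.1 hhN t).1 ht
    have hUS : T ⊔ centralizerIn (S : Subgroup G) T ≤ S := sup_le hTS inf_le_left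
    have hgU : g ∈ Subgroup.normalizer
        ((T ⊔ centralizerIn (S : Subgroup G) T : Subgroup G) : Set G) := by
      have : Finite ↥(T ⊔ centralizerIn (S : Subgroup G) T) :=
        Cfsg.Agent.Lib.H25.finite_of_le _ hUS
      apply Cfsg.Agent.Lib.H25.mem_normalizer_of_conj_mem
      intro x hx
      have h1 : g * x * g⁻¹ ∈ cj g (T ⊔ centralizerIn (S : Subgroup G) T) := conj_mem_cj hx
      rw [cj, Subgroup.map_sup] at h1
      change g * x * g⁻¹ ∈ cj g T ⊔ cj g (centralizerIn (S : Subgroup G) T) at h1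
      rwa [cj_eq_self_of_mem_normalizer hgNT, cj_eq_self_of_mem_normalizer hgN] at h1
    obtain ⟨β, hβ, hβg⟩ := exists_aut_of_normalizer hUS hgU
    refine ⟨β, hβ, fun x => ?_, fun c hc => ?_⟩
    · rw [hβg, hh]
      exact hgT x x.2
    · rw [hβg]
      have h1 : g * (c : G) * g⁻¹ ∈ centralizerIn (S : Subgroup G) T :=
        (Subgroup.mem_normalizer_iff.1 hgN _).1 hc
      have h2 : (c : G)⁻¹ * (g * (c : G) * g⁻¹) ∈ centralizerIn (S : Subgroup G) T :=
        Subgroup.mul_mem _ (Subgroup.inv_mem _ hc) h1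
      have h3 : (c : G)⁻¹ * (g * (c : G) * g⁻¹) ∈ H := by
        have h4 : (c : G)⁻¹ * g * (c : G) ∈ H := by
          have := hH.conj_mem g hgH (c : G)⁻¹
          simpa using this
        have e : (c : G)⁻¹ * (g * (c : G) * g⁻¹) = (c : G)⁻¹ * g * (c : G) * g⁻¹ := by group
        rw [e]
        exact H.mul_mem h4 (H.inv_mem hgH)
      exact Subgroup.mem_inf.2 ⟨hmemT _ h2.1 h3, h2.2⟩
  subst hTdef
  exact hgoal inf_le_right

end Cfsg.Agent.Lib.H26
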