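import Mathlib
import Cfsg.Agent.Lib.H12.OPMinDefs

/-!
# S2345 piece ARITH-1 (helper12 blueprint): `2 r₂ ≥ B_n`
-/

set_option autoImplicit false

namespace Cfsg.Agent.Lib.H26.OPMin

open Matrix Cfsg.Agent.Lib.H12.OPMin

/-- `2 r₂ ≥ B_n` -/
theorem arith_two_r2 (q n r : ℕ) (hq : 2 ≤ q) (hn : 3 ≤ n)
    (hr : r * (q ^ 2 - 1) = (q ^ n - 1) * (q ^ (n - 1) - 1)) :
    (q ^ n - 1) * (q ^ (n - 1) + q) / (q ^ 2 - 1) ≤ 2 * r := by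
  apply Nat.div_le_of_le_mul
  have h1 : (q ^ 2 - 1) * (2 * r) = 2 * ((q ^ n - 1) * (q ^ (n - 1) - 1)) := by
    rw [← hr]; ring
  rw [h1]
  have h2 : q ^ (n - 1) + q ≤ 2 * (q ^ (n - 1) - 1) := by
    have h3 : q ^ 2 ≤ q ^ (n - 1) := Nat.pow_le_pow_right (by omega) (by omega)
    have h4 : 2 * q ≤ q ^ 2 := by nlinarith
    omega
  calc (q ^ n - 1) * (q ^ (n - 1) + q) ≤ (q ^ n - 1) * (2 * (q ^ (n - 1) - 1)) :=
        Nat.mul_le_mul_left _ h2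
    _ = 2 * ((q ^ n - 1) * (q ^ (n - 1) - 1)) := by ring

end Cfsg.Agent.Lib.H26.OPMin
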