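import Mathlib
import Cfsg.Agent.Lib.H12.OPMinDefs

/-!
# S2345 piece ARITH-2 (helper12 blueprint): `2 (q^(n-1) - 1) q^(n-2) ≥ B_n`
-/

set_option autoImplicit false

namespace Cfsg.Agent.Lib.H26.OPMin

open Matrix Cfsg.Agent.Lib.H12.OPMin

theorem arith_orb4_aux (q a : ℕ) (hq : 4 ≤ q) (ha2 : q ^ 2 ≤ a) :
    (q ^ 2 * a - 1) * (q * a + q) ≤ (q ^ 2 - 1) * (2 * (q * a - 1) * a) := by
  have hq2 : 16 ≤ q ^ 2 := by nlinarith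
  have h1 : 1 ≤ q ^ 2 * a := by nlinarith
  have h2 : 1 ≤ q * a := by nlinarith
  have h3 : 1 ≤ q ^ 2 := by omega
  zify [h1, h2, h3]
  have hq' : (4 : ℤ) ≤ q := by exact_mod_cast hq
  have ha' : ((q : ℤ)) ^ 2 ≤ a := by exact_mod_cast ha2
  have hq3 : (16 : ℤ) ≤ (q : ℤ) ^ 2 := by nlinarith
  -- RHS - LHS = a (a (q³ - 2q) - (q³ + 2q² - q - 2)) + q
  have key : ((q : ℤ) ^ 2 - 1) * (2 * ((q : ℤ) * a - 1) * a) -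
      ((q : ℤ) ^ 2 * a - 1) * ((q : ℤ) * a + q) =
      (a : ℤ) * ((a : ℤ) * ((q : ℤ) ^ 3 - 2 * q) - ((q : ℤ) ^ 3 + 2 * (q : ℤ) ^ 2 - q - 2)) + q := by
    ring
  have hpos : (0 : ℤ) ≤ (a : ℤ) * ((q : ℤ) ^ 3 - 2 * q) - ((q : ℤ) ^ 3 + 2 * (q : ℤ) ^ 2 - q - 2) := by
    have h5 : (0 : ℤ) ≤ (q : ℤ) ^ 3 - 2 * q := by nlinarith
    have h6 : (q : ℤ) ^ 2 * ((q : ℤ) ^ 3 - 2 * q) ≤ (a : ℤ) * ((q : ℤ) ^ 3 - 2 * q) :=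
      mul_le_mul_of_nonneg_right ha' h5
    have h7 : (q : ℤ) ^ 3 + 2 * (q : ℤ) ^ 2 - q - 2 ≤ (q : ℤ) ^ 2 * ((q : ℤ) ^ 3 - 2 * q) := by
      have : (q : ℤ) ^ 2 * ((q : ℤ) ^ 3 - 2 * q) = (q : ℤ) ^ 3 * ((q : ℤ) ^ 2 - 2) := by ring
      rw [this]
      have h8 : (0 : ℤ) ≤ (q : ℤ) ^ 3 := by positivity
      have h9 : (q : ℤ) ^ 3 * 14 ≤ (q : ℤ) ^ 3 * ((q : ℤ) ^ 2 - 2) :=
        mul_le_mul_of_nonneg_left (by linarith) h8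
      have h10 : 2 * (q : ℤ) ^ 2 ≤ (q : ℤ) ^ 3 := by nlinarith
      nlinarith
    linarith
  have ha0 : (0 : ℤ) ≤ a := by positivity
  have hq0 : (0 : ℤ) ≤ q := by positivity
  have := mul_nonneg ha0 hpos
  linarith

/-- `2 (q^(n-1) - 1) q^(n-2) ≥ B_n` -/
theorem arith_orb4 (q n : ℕ) (hq : 4 ≤ q) (hn : 4 ≤ n) :
    (q ^ n - 1) * (q ^ (n - 1) + q) / (q ^ 2 - 1) ≤ 2 * (q ^ (n - 1) - 1) * q ^ (n - 2) := by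
  apply Nat.div_le_of_le_mul
  obtain ⟨k, rfl⟩ : ∃ k, n = k + 4 := ⟨n - 4, by omega⟩
  have e1 : q ^ (k + 4 - 1) = q * q ^ (k + 2) := by
    rw [show k + 4 - 1 = k + 2 + 1 by omega]; ring
  have e2 : q ^ (k + 4 - 2) = q ^ (k + 2) := by
    rw [show k + 4 - 2 = k + 2 by omega]
  have e3 : q ^ (k + 4) = q ^ 2 * q ^ (k + 2) := by ring
  rw [e1, e2, e3]
  exact arith_orb4_aux q (q ^ (k + 2)) hq (Nat.pow_le_pow_right (by omega) (by omega))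

end Cfsg.Agent.Lib.H26.OPMin
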