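import Mathlib

/-!
# S2332 piece ARITH-BASE (helper26): the arithmetic of the base case `n = 3`
-/

set_option autoImplicit false

namespace Cfsg.Agent.Lib.H26.SLMin

theorem not_isPrimePow_ten : ¬ IsPrimePow 10 := by
  intro h
  rw [isPrimePow_nat_iff] at h
  obtain ⟨p, k, hp, hk, h10⟩ := h
  have h2 : 2 ∣ p ^ k := by rw [h10]; norm_num
  have h5 : 5 ∣ p ^ k := by rw [h10]; norm_num
  have h2' := (Nat.prime_dvd_prime_iff_eq Nat.prime_two hp).mp (Nat.prime_two.dvd_of_dvd_pow h2)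
  have h5' := (Nat.prime_dvd_prime_iff_eq Nat.prime_five hp).mp (Nat.prime_five.dvd_of_dvd_pow h5)
  omega

theorem arith_base_div (q : ℕ) (hq : 1 ≤ q) : (q ^ 3 - q) / (q - 1) = q ^ 2 + q ∨ q = 1 := by
  rcases Nat.lt_or_ge 1 q with h | h
  · left
    obtain ⟨k, rfl⟩ : ∃ k, q = k + 2 := ⟨q - 2, by omega⟩
    have h1 : k + 2 - 1 = k + 1 := by omega
    rw [h1]
    apply Nat.div_eq_of_eq_mul_left (by omega)
    have : (k + 2) ^ 3 = ((k + 2) ^ 2 + (k + 2)) * (k + 1) + (k + 2) := by ring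
    rw [this]; omega
  · right; omega

theorem arith_base (q D c₀ T : ℕ) (hq : IsPrimePow q) (h2 : q ≠ 2) (h4 : q ≠ 4)
    (hD : D + 2 = c₀ + q ^ 2 + q)
    (hT : T * (q - 1) = (q ^ 3 - 1) * (q ^ 2 - 1))
    (hdiv : (D : ℤ) ∣ (T : ℤ) * ((D : ℤ) - (q : ℤ) ^ 2)) :
    (q ^ 3 - q) / (q - 1) ≤ D := by
  have hq1 : 1 < q := hq.one_lt
  have hq3 : 3 ≤ q := by omega
  have hq10 : q ≠ 10 := by
    rintro rfl; exact not_isPrimePow_ten hq
  rcases arith_base_div q (by omega) with hdivq | h1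
  swap
  · omega
  rw [hdivq]
  by_contra hlt
  push Not at hlt
  -- c₀ ≤ 1
  have hc : c₀ ≤ 1 := by omega
  -- T in ℤ
  have hTz : (T : ℤ) = ((q : ℤ) ^ 2 + q + 1) * ((q : ℤ) - 1) * ((q : ℤ) + 1) := by
    have h1 : ((T * (q - 1) : ℕ) : ℤ) = (((q ^ 3 - 1) * (q ^ 2 - 1) : ℕ) : ℤ) := by rw [hT]
    have hq3' : 1 ≤ q ^ 3 := Nat.one_le_pow _ _ (by omega)
    have hq2' : 1 ≤ q ^ 2 := Nat.one_le_pow _ _ (by omega)
    push_cast [Nat.cast_sub (show 1 ≤ q by omega), Nat.cast_sub hq3', Nat.cast_sub hq2'] at h1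
    have hne : ((q : ℤ) - 1) ≠ 0 := by
      have : (3 : ℤ) ≤ q := by exact_mod_cast hq3
      omega
    apply mul_right_cancel₀ hne
    rw [h1]; ring
  have hqz : (3 : ℤ) ≤ q := by exact_mod_cast hq3
  rcases Nat.eq_zero_or_pos c₀ with h0 | hpos
  · -- c₀ = 0, D = (q+2)(q-1)
    subst h0
    have hDz : (D : ℤ) = ((q : ℤ) + 2) * ((q : ℤ) - 1) := by
      have : ((D + 2 : ℕ) : ℤ) = ((0 + q ^ 2 + q : ℕ) : ℤ) := by rw [hD]
      push_cast at this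
      linarith [this]
    -- (q+2) ∣ 12
    have h12 : ((q : ℤ) + 2) ∣ 12 := by
      rw [hDz, hTz] at hdiv
      have e : ((q : ℤ) ^ 2 + q + 1) * ((q : ℤ) - 1) * ((q : ℤ) + 1) *
          (((q : ℤ) + 2) * ((q : ℤ) - 1) - (q : ℤ) ^ 2) =
          ((q : ℤ) - 1) * (((q : ℤ) ^ 2 + q + 1) * ((q : ℤ) + 1) * ((q : ℤ) - 2)) := by ring
      rw [e, mul_comm ((q : ℤ) + 2) ((q : ℤ) - 1)] at hdiv
      have hne : ((q : ℤ) - 1) ≠ 0 := by omega
      have h' := (mul_dvd_mul_iff_left hne).mp hdiv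
      have e3 : ((q : ℤ) ^ 2 + q + 1) * ((q : ℤ) + 1) * ((q : ℤ) - 2) =
          ((q : ℤ) + 2) * ((q : ℤ) ^ 3 - 2 * (q : ℤ) ^ 2 + 2 * q - 7) + 12 := by ring
      rw [e3] at h'
      exact (Int.dvd_add_right (Dvd.intro _ rfl)).mp h'
    have hle : (q : ℤ) + 2 ≤ 12 := Int.le_of_dvd (by norm_num) h12
    have hq' : q ≤ 10 := by omega
    interval_cases q <;> simp_all <;> omega
  · -- c₀ = 1
    have hc1 : c₀ = 1 := by omega
    subst hc1
    have hDz : (D : ℤ) = (q : ℤ) ^ 2 + q - 1 := by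
      have : ((D + 2 : ℕ) : ℤ) = ((1 + q ^ 2 + q : ℕ) : ℤ) := by rw [hD]
      push_cast at this
      linarith [this]
    have h4q : (D : ℤ) ∣ 4 * (q : ℤ) - 2 := by
      have e : (T : ℤ) * ((D : ℤ) - (q : ℤ) ^ 2) =
          (D : ℤ) * ((q : ℤ) ^ 3 - (q : ℤ) ^ 2 + q - 3) + (4 * (q : ℤ) - 2) := by
        rw [hTz, hDz]; ring
      rw [e] at hdiv
      exact (Int.dvd_add_right (Dvd.intro _ rfl)).mp hdiv
    have hpos : (0 : ℤ) < 4 * (q : ℤ) - 2 := by omega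
    have hle := Int.le_of_dvd hpos h4q
    rw [hDz] at hle
    nlinarith [hle, hqz]

end Cfsg.Agent.Lib.H26.SLMin
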