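import Mathlib
import Cfsg.Agent.Lib.H14.ThetaDefs

/-!
# S1632 piece SUMM1 (architect helper14; helper26): summability of the real Gaussian lattice sum
-/

set_option autoImplicit false

namespace Cfsg.Agent.Lib.H26.Theta

open Cfsg.Agent.Lib.H14.Theta

/-- the one-dimensional Gaussian sum -/
theorem summ1_one (T : ℝ) (hT : 0 < T) (b : ℝ) :
    Summable (fun k : ℤ => Real.exp (-Real.pi * T * (k : ℝ) ^ 2 + 2 * Real.pi * b * (k : ℝ))) := by
  have h := (summable_jacobiTheta₂_term_iff (((-b : ℝ) : ℂ) * Complex.I) ((T : ℂ) * Complex.I)).2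
    (by simpa using hT)
  have h2 := h.norm
  refine h2.congr ?_
  intro k
  rw [norm_jacobiTheta₂_term]
  congr 1
  simp
  ring

/-- products of summable nonnegative families -/
theorem summ1_pi {n : ℕ} (g : Fin n → ℤ → ℝ) (hg0 : ∀ i k, 0 ≤ g i k) (hg : ∀ i, Summable (g i)) :
    Summable (fun x : Fin n → ℤ => ∏ i, g i (x i)) := by
  classical
  apply summable_of_sum_le (c := ∏ i, ∑' k, g i k)
  · intro x; exact Finset.prod_nonneg (fun i _ => hg0 i (x i))
  · intro u
    set s : Finset ℤ := u.biUnion (fun x => Finset.univ.image x) with hs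
    have hsub : u ⊆ Fintype.piFinset (fun _ : Fin n => s) := by
      intro x hx
      rw [Fintype.mem_piFinset]
      intro i
      rw [hs, Finset.mem_biUnion]
      exact ⟨x, hx, Finset.mem_image_of_mem x (Finset.mem_univ i)⟩
    calc ∑ x ∈ u, ∏ i, g i (x i)
        ≤ ∑ x ∈ Fintype.piFinset (fun _ : Fin n => s), ∏ i, g i (x i) :=
          Finset.sum_le_sum_of_subset_of_nonneg hsub
            (fun x _ _ => Finset.prod_nonneg (fun i _ => hg0 i (x i)))
      _ = ∏ i, ∑ k ∈ s, g i k := (Finset.prod_univ_sum (fun _ => s) g).symm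
      _ ≤ ∏ i, ∑' k, g i k := by
          apply Finset.prod_le_prod
          · intro i _; exact Finset.sum_nonneg (fun k _ => hg0 i k)
          · intro i _; exact (hg i).sum_le_tsum s (fun k _ => hg0 i k)

theorem summ1_qfR_smul {n : ℕ} (A : Matrix (Fin n) (Fin n) ℝ) (r : ℝ) (y : Fin n → ℝ) :
    qfR A (fun i => r * y i) = r ^ 2 * qfR A y := by
  unfold qfR
  rw [Finset.mul_sum]
  refine Finset.sum_congr rfl (fun i _ => ?_)
  rw [Finset.mul_sum]
  refine Finset.sum_congr rfl (fun j _ => ?_)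
  ring

/-- a positive definite form dominates a multiple of the sum of squares -/
theorem summ1_lower {n : ℕ} (A : Matrix (Fin n) (Fin n) ℝ) (hA : IsPD A) :
    ∃ c : ℝ, 0 < c ∧ ∀ x : Fin n → ℝ, c * ∑ i, x i ^ 2 ≤ qfR A x := by
  classical
  set S : Set (Fin n → ℝ) := {x | ∑ i, x i ^ 2 = 1} with hS
  have hcont : Continuous (fun x : Fin n → ℝ => qfR A x) := by
    unfold qfR
    fun_prop
  have hclosed : IsClosed S := by
    have : Continuous (fun x : Fin n → ℝ => ∑ i, x i ^ 2) := by fun_prop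
    exact isClosed_eq this continuous_const
  have hbdd : Bornology.IsBounded S := by
    refine (Metric.isBounded_closedBall (x := (0 : Fin n → ℝ)) (r := 1)).subset ?_
    intro x hx
    rw [mem_closedBall_zero_iff, pi_norm_le_iff_of_nonneg zero_le_one]
    intro i
    have h1 : x i ^ 2 ≤ ∑ j, x j ^ 2 :=
      Finset.single_le_sum (f := fun j => x j ^ 2) (fun j _ => sq_nonneg _) (Finset.mem_univ i)
    rw [show (∑ j, x j ^ 2) = 1 from hx] at h1
    rw [Real.norm_eq_abs]
    exact abs_le_one_iff_mul_self_le_one.2 (by nlinarith)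
  have hcomp : IsCompact S := Metric.isCompact_of_isClosed_isBounded hclosed hbdd
  rcases S.eq_empty_or_nonempty with hemp | hne
  · refine ⟨1, one_pos, fun x => ?_⟩
    have h0 : ∑ i, x i ^ 2 = 0 := by
      by_contra hne0
      have hpos : 0 < ∑ i, x i ^ 2 :=
        lt_of_le_of_ne (Finset.sum_nonneg (fun i _ => sq_nonneg _)) (Ne.symm hne0)
      set r := Real.sqrt (∑ i, x i ^ 2) with hr
      have hr0 : 0 < r := Real.sqrt_pos.2 hpos
      have : (fun i => r⁻¹ * x i) ∈ S := by
        show ∑ i, (r⁻¹ * x i) ^ 2 = 1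
        simp_rw [mul_pow]
        rw [← Finset.mul_sum, inv_pow, hr, Real.sq_sqrt hpos.le, inv_mul_cancel₀ hne0]
      rw [hemp] at this
      exact this
    have hx0 : x = 0 := by
      funext i
      have := (Finset.sum_eq_zero_iff_of_nonneg (fun i _ => sq_nonneg (x i))).1 h0 i (Finset.mem_univ i)
      simpa using this
    rw [h0, hx0]
    simp [qfR]
  · obtain ⟨x₀, hx₀, hmin⟩ := hcomp.exists_isMinOn hne hcont.continuousOn
    have hx₀ne : x₀ ≠ 0 := by
      rintro rfl
      have : ∑ i : Fin n, ((0 : Fin n → ℝ) i) ^ 2 = 1 := hx₀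
      simp at this
    refine ⟨qfR A x₀, hA.2 x₀ hx₀ne, fun x => ?_⟩
    by_cases h0 : ∑ i, x i ^ 2 = 0
    · have hx0 : x = 0 := by
        funext i
        have := (Finset.sum_eq_zero_iff_of_nonneg (fun i _ => sq_nonneg (x i))).1 h0 i (Finset.mem_univ i)
        simpa using this
      rw [h0, hx0]
      simp [qfR]
    · have hpos : 0 < ∑ i, x i ^ 2 :=
        lt_of_le_of_ne (Finset.sum_nonneg (fun i _ => sq_nonneg _)) (Ne.symm h0)
      set r := Real.sqrt (∑ i, x i ^ 2) with hr
      have hr0 : 0 < r := Real.sqrt_pos.2 hpos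
      have hy : (fun i => r⁻¹ * x i) ∈ S := by
        show ∑ i, (r⁻¹ * x i) ^ 2 = 1
        simp_rw [mul_pow]
        rw [← Finset.mul_sum, inv_pow, hr, Real.sq_sqrt hpos.le, inv_mul_cancel₀ h0]
      have h1 : qfR A x₀ ≤ qfR A (fun i => r⁻¹ * x i) := hmin hy
      have h2 : qfR A x = r ^ 2 * qfR A (fun i => r⁻¹ * x i) := by
        rw [← summ1_qfR_smul]
        congr 1
        funext i
        field_simp
      rw [h2, hr, Real.sq_sqrt hpos.le, mul_comm]
      exact mul_le_mul_of_nonneg_left h1 hpos.le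

/-- **SUMM1**. -/
theorem summable_real_gauss {n : ℕ} (A : Matrix (Fin n) (Fin n) ℝ) (hA : IsPD A) (σ : ℝ) (hσ : 0 < σ)
    (β : Fin n → ℝ) :
    Summable (fun x : Fin n → ℤ =>
      Real.exp (-Real.pi * σ * qfR A (zr x) + 2 * Real.pi * ∑ i, β i * (x i : ℝ))) := by
  obtain ⟨c, hc, hlow⟩ := summ1_lower A hA
  have hprod := summ1_pi (n := n)
    (fun i k => Real.exp (-Real.pi * (σ * c) * (k : ℝ) ^ 2 + 2 * Real.pi * β i * (k : ℝ)))
    (fun i k => (Real.exp_pos _).le) (fun i => summ1_one (σ * c) (mul_pos hσ hc) (β i))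
  refine Summable.of_nonneg_of_le (fun x => (Real.exp_pos _).le) (fun x => ?_) hprod
  rw [← Real.exp_sum]
  apply Real.exp_le_exp.2
  have h1 := hlow (zr x)
  have h2 : ∑ i, (-Real.pi * (σ * c) * ((x i : ℤ) : ℝ) ^ 2 + 2 * Real.pi * β i * ((x i : ℤ) : ℝ)) =
      -Real.pi * σ * (c * ∑ i, (zr x i) ^ 2) + 2 * Real.pi * ∑ i, β i * (x i : ℝ) := by
    rw [Finset.sum_add_distrib, Finset.mul_sum, Finset.mul_sum, Finset.mul_sum]
    congr 1
    · refine Finset.sum_congr rfl (fun i _ => ?_)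
      simp only [zr]; ring
    · refine Finset.sum_congr rfl (fun i _ => ?_)
      ring
  rw [h2]
  have hπσ : 0 ≤ Real.pi * σ := (mul_pos Real.pi_pos hσ).le
  nlinarith [mul_le_mul_of_nonneg_left h1 hπσ]

end Cfsg.Agent.Lib.H26.Theta
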