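/-
EO project, module EM7 (exact signature of tools/blueprints/EO_sigs.lean): the minimal normal subgroup modulo scalars has
scalar commutators ⇒ class 6.  Wrapper of helper1's `exists_sympCore` + `em7_core`.  (helper26)
-/
import Cfsg.Agent.Lib.H26.AschEDefs
import Cfsg.Agent.Lib.H1.AschM7
import Cfsg.Agent.Lib.H1.AschEM7d
import Cfsg.Agent.Lib.H24.AschOBasic

set_option autoImplicit false

namespace Cfsg.Agent.Lib.H26.AschE

open Cfsg Cfsg.Geo Cfsg.Agent.Lib.Lead.Asch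
open scoped MatrixGroups Matrix Kronecker

variable {F : Type*} [Field F] [Fintype F] {n : ℕ}

/-- **EM7**. -/
theorem ec6_of_abelian_minimal (Q : (Fin n → F) → F) (hQ : IsNondegenerateQuadraticForm Q) (hn : 5 ≤ n)
    (H N : Subgroup (GL (Fin n) F)) (hH : H ≤ isometryGroup F Q) (hgood : Good H)
    (hmin : MinimalModScalars H N)
    (hab : ∀ x ∈ N, ∀ y ∈ N, x * y * x⁻¹ * y⁻¹ ∈ scalars (Fin n) F) : EC6 Q H := by
  obtain ⟨r, R, hc⟩ := Cfsg.Agent.Lib.H1.Asch.exists_sympCore (by omega) H N hgood hmin hab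
  have hfix : ∀ x ∈ H, ∀ v, Q ((x : Matrix (Fin n) (Fin n) F) *ᵥ v) = Q v := by
    intro x hx v
    exact (Cfsg.Agent.Lib.H24.Asch.mem_isometryGroup_iff Q x).1 (hH hx) v
  obtain ⟨hodd, -, -, -, ⟨k, hk, -⟩, hplus, -⟩ :=
    Cfsg.Agent.Lib.H1.AschE.em7_core Q hQ (by omega) H R hfix r hc
  refine ⟨⟨k, by simpa using hk⟩, hodd, hplus, R, hc.le.trans hH, hc.absIrr, hc.comm, hc.norm⟩

end Cfsg.Agent.Lib.H26.AschE
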