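/-
EO project, module EM2 (exact signature of tools/blueprints/EO_sigs.lean): Clifford theory with the quadratic form.
Wrapper of helper8's definition-independent `Cfsg.Agent.Lib.H8.AschE.clifford_quad`.  (helper26)
-/
import Cfsg.Agent.Lib.H26.AschEDefs
import Cfsg.Agent.Lib.H8.AschEM2

set_option autoImplicit false

namespace Cfsg.Agent.Lib.H26.AschE

open Cfsg Cfsg.Geo Cfsg.Agent.Lib.Lead.Asch
open scoped MatrixGroups Matrix Kronecker

variable {F : Type*} [Field F] [Fintype F] {n : ℕ}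

/-- **EM2**. -/
theorem exists_homogData_eorth (Q : (Fin n → F) → F) (hQ : IsNondegenerateQuadraticForm Q) (hn : 5 ≤ n)
    (H N : Subgroup (GL (Fin n) F)) (hH : H ≤ isometryGroup F Q)
    (hirr : ActsIrreducibly (matrixSet H)) (hnt2 : ¬ EC2 Q H) (hNH : N ≤ H)
    (hnorm : NormalizedBy H N) : Nonempty (HomogData N) := by
  rcases Cfsg.Agent.Lib.H8.AschE.clifford_quad Q hQ (by omega) H N hH hirr hNH hnorm with h | h | h
  · exact h
  · exact absurd (Or.inl h) hnt2
  · obtain ⟨k, D, -, h1, h2, h3⟩ := h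
    exact absurd (Or.inr ⟨k, D, h1, h2, h3⟩) hnt2

end Cfsg.Agent.Lib.H26.AschE
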