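/-
EO project (helper26): the assembly `emain` of tools/blueprints/EO_sigs.lean, with the modules that are not landed yet
(EM4 tensor, EM7 class 6, EM8.2 one component) as HYPOTHESES, so that phase 2 can already be written against it.
`Cfsg/Agent/Lib/H26/AschEMain.lean` will discharge them.
-/
import Cfsg.Agent.Lib.H26.AschEDefs
import Cfsg.Agent.Lib.H26.AschEM2
import Cfsg.Agent.Lib.H26.AschM8A3
import Cfsg.Agent.Lib.H17.AschEM1
import Cfsg.Agent.Lib.H22.AschEEM3
import Cfsg.Agent.Lib.H11.AschEEM83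
import Cfsg.Agent.Lib.H8.AschM5
import Cfsg.Agent.Lib.H17.AschM1
import Cfsg.Agent.Lib.H17.AschM6

set_option autoImplicit false

namespace Cfsg.Agent.Lib.H26.AschE

open Cfsg Cfsg.Geo Cfsg.Agent.Lib.Lead.Asch
open scoped MatrixGroups Matrix Kronecker

variable {F : Type*} [Field F] [Fintype F] {n : ℕ}

/-- The statement of module EM4 (tensor case) for one `Q`, `H`. -/
def EM4Stmt (Q : (Fin n → F) → F) (H : Subgroup (GL (Fin n) F)) : Prop :=
  ∀ N : Subgroup (GL (Fin n) F), ActsIrreducibly (matrixSet H) → N ≤ H → NormalizedBy H N →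
    ∀ D : HomogData N, ActsAbsolutelyIrreducibly (repSet D.ρ) → 2 ≤ D.d → 2 ≤ D.k →
      EC4 Q H ∨ EC7 Q H ∨ EC2b Q H ∨ EC3b Q H

/-- The statement of module EM7 (abelian minimal normal subgroup modulo scalars) for one `Q`, `H`. -/
def EM7Stmt (Q : (Fin n → F) → F) (H : Subgroup (GL (Fin n) F)) : Prop :=
  ∀ N : Subgroup (GL (Fin n) F), Good H → MinimalModScalars H N →
    (∀ x ∈ N, ∀ y ∈ N, x * y * x⁻¹ * y⁻¹ ∈ scalars (Fin n) F) → EC6 Q H

/-- The statement of module EM8.2 (one component) for one `Q`, `H`. -/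
def EM82Stmt (Q : (Fin n → F) → F) (H : Subgroup (GL (Fin n) F)) : Prop :=
  Good H → ∀ L : Fin 1 → Subgroup (GL (Fin n) F), Cfsg.Agent.Lib.H26.Asch.Components H 1 L →
    EC5 Q H ∨ InOrthogonalResidualClass H

theorem ec1_of_reducible (Q : (Fin n → F) → F) (hQ : IsNondegenerateQuadraticForm Q)
    (H : Subgroup (GL (Fin n) F)) (hH : H ≤ isometryGroup F Q)
    (h : ¬ ActsIrreducibly (matrixSet H)) : EC1 Q H :=
  Cfsg.Agent.Lib.H17.AschE.reducible_cases Q hQ H hH h

theorem good_of_not_etame_of (Q : (Fin n → F) → F) (hQ : IsNondegenerateQuadraticForm Q) (hn : 5 ≤ n)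
    (H : Subgroup (GL (Fin n) F)) (hH : H ≤ isometryGroup F Q) (h4 : EM4Stmt Q H)
    (hnt : ¬ ETame Q H) : Good H := by
  have hirr : ActsIrreducibly (matrixSet H) := by
    by_contra h
    exact hnt (ETame.of1 (ec1_of_reducible Q hQ H hH h))
  have hnt2 : ¬ EC2 Q H := fun h => hnt (ETame.of2 h)
  refine ⟨hirr, fun N hNH hnorm => ?_⟩
  obtain ⟨D⟩ := exists_homogData_eorth Q hQ hn H N hH hirr hnt2 hNH hnorm
  by_cases habs : ActsAbsolutelyIrreducibly (repSet D.ρ)
  · by_cases hd : D.d ≤ 1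
    · exact Or.inl (Cfsg.Agent.Lib.H8.Asch.le_scalars_of_homog_d_le_one N D hd)
    · by_cases hk : D.k ≤ 1
      · exact Or.inr (Cfsg.Agent.Lib.H8.Asch.absIrr_of_homog_k_le_one (by omega) N D habs hk)
      · refine absurd ?_ hnt
        rcases h4 N hirr hNH hnorm D habs (by omega) (by omega) with h | h | h | h
        · exact ETame.of4 h
        · exact ETame.of7 h
        · exact ETame.of2 (Or.inr h)
        · exact ETame.of3 (Or.inr h)
  · exact absurd (ETame.of3 (Cfsg.Agent.Lib.H22.AschE.ec3_of_homog_not_absIrr Q hQ hn H N hH hirr hNH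
      hnorm D habs)) hnt

/-- **EO-main**, modulo the three modules EM4, EM7, EM8.2 for this `Q`, `H`. -/
theorem emain_of (Q : (Fin n → F) → F) (hQ : IsNondegenerateQuadraticForm Q) (hn : 5 ≤ n)
    (H : Subgroup (GL (Fin n) F)) (hH : H ≤ isometryGroup F Q)
    (h4 : EM4Stmt Q H) (h7 : EM7Stmt Q H) (h82 : EM82Stmt Q H) :
    ETame Q H ∨ InOrthogonalResidualClass H := by
  by_cases hnt : ETame Q H
  · exact Or.inl hnt
  have hgood : Good H := good_of_not_etame_of Q hQ hn H hH h4 hnt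
  have hns : ¬ H ≤ scalars (Fin n) F :=
    Cfsg.Agent.Lib.H17.Asch.not_le_scalars_of_irreducible (by omega) H hgood.irr
  obtain ⟨N, hmin⟩ := Cfsg.Agent.Lib.H17.Asch.exists_minimalModScalars H hns
  by_cases hab : ∀ x ∈ N, ∀ y ∈ N, x * y * x⁻¹ * y⁻¹ ∈ scalars (Fin n) F
  · exact Or.inl (ETame.of6 (h7 N hgood hmin hab))
  · obtain ⟨t, L, hL⟩ := Cfsg.Agent.Lib.H26.Asch.exists_components H N hmin hab
    by_cases ht : 2 ≤ t
    · exact Or.inl (ETame.of7 (Cfsg.Agent.Lib.H11.AschE.ec7_of_components Q hQ hn H hH hgood t L hL ht))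
    · have h1 : t = 1 := by have := hL.pos; omega
      subst h1
      rcases h82 hgood L hL with h | h
      · exact Or.inl (ETame.of5 h)
      · exact Or.inr h

end Cfsg.Agent.Lib.H26.AschE
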