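/-
EO project (helper26): EO-main modulo the single module EM4 (tensor case), which is the last open one.
-/
import Cfsg.Agent.Lib.H26.AschEMainOf
import Cfsg.Agent.Lib.H26.AschEEM7
import Cfsg.Agent.Lib.H22.AschEEM82

set_option autoImplicit false

namespace Cfsg.Agent.Lib.H26.AschE

open Cfsg Cfsg.Geo Cfsg.Agent.Lib.Lead.Asch
open scoped MatrixGroups Matrix Kronecker

variable {F : Type*} [Field F] [Fintype F] {n : ℕ}

/-- **EO-main**, modulo EM4 for this `Q`, `H`. -/
theorem emain_of_em4 (Q : (Fin n → F) → F) (hQ : IsNondegenerateQuadraticForm Q) (hn : 5 ≤ n)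
    (H : Subgroup (GL (Fin n) F)) (hH : H ≤ isometryGroup F Q) (h4 : EM4Stmt Q H) :
    ETame Q H ∨ InOrthogonalResidualClass H :=
  emain_of Q hQ hn H hH h4
    (fun N hgood hmin hab => ec6_of_abelian_minimal Q hQ hn H N hH hgood hmin hab)
    (fun hgood L hL => Cfsg.Agent.Lib.H22.AschE.eres_of_components_one Q hQ hn H hH hgood L hL)

end Cfsg.Agent.Lib.H26.AschE
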