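/-
EO project, phase 2, piece EO2-E7 (helper26): an orthogonal frame of isometric non-degenerate LINES gives a class-5 structure
over EVERY subfield `F₀`: in the frame basis (rescaled to constant norm `c`) the form is `c · Σ u_i²` and every isometry
permuting the lines is a signed permutation matrix.  Adaptation of helper3's `oc5_of_frame` (Lib/H3/AschOM2F) without the
discriminant argument (the scalar `ζ = c⁻¹` is allowed in the rows).
-/
import Mathlib
import Cfsg.Agent.Lib.H3.AschOM2F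

set_option autoImplicit false

namespace Cfsg.Agent.Lib.H26.EOP2

open Cfsg Cfsg.Geo Cfsg.Agent.Lib.H3.Asch Cfsg.Agent.Lib.H28
open scoped MatrixGroups Matrix

variable {F : Type*} [Field F] [Fintype F] {n : ℕ}

/-- **EO2-E7**. -/
theorem lines_le_subfieldSubgroup (Q : (Fin n → F) → F) (hQ : IsNondegenerateQuadraticForm Q) {t : ℕ}
    (D : Fin t → Submodule F (Fin n → F)) (hD : IsOrthogonalMDecomposition Q 1 D) (F₀ : Subfield F) :
    ∃ (P : GL (Fin n) F) (ζ : F), ζ ≠ 0 ∧
      IsQuadFormRationalStructure (fun v : Fin n → F => ζ * Q v) F₀ P ∧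
      decompositionStabilizer D ⊓ isometryGroup F Q ≤ subfieldSubgroup F₀ P := by
  classical
  have hbil := hQ.polar_bilinear
  obtain ⟨b₀, hb₀D, -⟩ := Cfsg.Agent.Lib.H20.AschP2.exists_basis_of_lines D hD.decomp.decomp
  have htn : n = t := by
    have := Module.finrank_eq_card_basis b₀
    simpa using this
  subst htn
  have hQ0 : Q 0 = 0 := OM2F_Q_zero hQ
  have hself : ∀ v, QuadraticMap.polar Q v v = 2 * Q v := OM2F_polar_self hQ
  have hline : ∀ i, ∀ x ∈ D i, ∃ a : F, x = a • b₀ i := by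
    intro i x hx
    have hfin := hD.decomp.decomp.finrank_eq i
    have hne : (⟨b₀ i, hb₀D i⟩ : D i) ≠ 0 := by
      intro h
      exact b₀.ne_zero i (congrArg Subtype.val h)
    obtain ⟨a, ha⟩ := (finrank_eq_one_iff_of_nonzero' (⟨b₀ i, hb₀D i⟩ : D i) hne).mp hfin ⟨x, hx⟩
    refine ⟨a, ?_⟩
    have := congrArg Subtype.val ha
    simpa using this.symm
  have hQne : ∀ i, Q (b₀ i) ≠ 0 := by
    intro i hi
    obtain ⟨⟨x, hx, hxw⟩, -⟩ := hD.decomp.nondegenerate i (b₀ i) (hb₀D i) (b₀.ne_zero i)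
    obtain ⟨a, rfl⟩ := hline i x hx
    apply hxw
    rw [hbil.smul_left, hself, hi]
    ring
  have ht2 := hD.decomp.decomp.two_le
  let i₀ : Fin n := ⟨0, by omega⟩
  set c := Q (b₀ i₀) with hc
  have hc0 : c ≠ 0 := hQne i₀
  have hscale : ∀ i, ∃ a : F, a ≠ 0 ∧ Q (a • b₀ i) = c := by
    intro i
    obtain ⟨e, he⟩ := hD.isometric i₀ i
    obtain ⟨a, ha⟩ := hline i ((e ⟨b₀ i₀, hb₀D i₀⟩ : D i) : Fin n → F) (e ⟨b₀ i₀, hb₀D i₀⟩).2
    have h1 := he ⟨b₀ i₀, hb₀D i₀⟩
    rw [ha] at h1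
    refine ⟨a, ?_, h1⟩
    rintro rfl
    rw [zero_smul, hQ0] at h1
    exact hc0 h1.symm
  choose a ha0 haQ using hscale
  let v : Module.Basis (Fin n) F (Fin n → F) := b₀.unitsSMul (fun i => Units.mk0 (a i) (ha0 i))
  have hv : ∀ i, v i = a i • b₀ i := by
    intro i
    simp [v, Module.Basis.unitsSMul_apply, Units.smul_def]
  have hvD : ∀ i, v i ∈ D i := fun i => by rw [hv]; exact (D i).smul_mem _ (hb₀D i)
  have hvQ : ∀ i, Q (v i) = c := fun i => by rw [hv]; exact haQ i
  have hvorth : ∀ i j, i ≠ j → QuadraticMap.polar Q (v i) (v j) = 0 := fun i j hij =>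
    hD.decomp.orthogonal i j hij (v i) (hvD i) (v j) (hvD j)
  have hlinev : ∀ i, ∀ x ∈ D i, ∃ ε : F, x = ε • v i := by
    intro i x hx
    obtain ⟨a', rfl⟩ := hline i x hx
    refine ⟨a' * (a i)⁻¹, ?_⟩
    rw [hv, smul_smul]
    congr 1
    have := ha0 i
    field_simp
  -- `2 ≠ 0` because a line is non-degenerate
  have h2 : (2 : F) ≠ 0 := by
    intro h2
    obtain ⟨⟨x, hx, hxw⟩, -⟩ := hD.decomp.nondegenerate i₀ (b₀ i₀) (hb₀D i₀) (b₀.ne_zero i₀)
    obtain ⟨a', rfl⟩ := hline i₀ x hx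
    apply hxw
    rw [hbil.smul_left, hself, h2]
    ring
  let P : GL (Fin n) F := glOfEquiv v.equivFun.symm
  have hPmul : ∀ u : Fin n → F, (P : Matrix (Fin n) (Fin n) F) *ᵥ u = ∑ i, u i • v i := by
    intro u
    rw [glOfEquiv_mulVec, Module.Basis.equivFun_symm_apply]
  have hPsingle : ∀ i, (P : Matrix (Fin n) (Fin n) F) *ᵥ Pi.single i 1 = v i := by
    intro i
    rw [hPmul]
    simp [Pi.single_apply]
  have hPinv : ∀ x : Fin n → F,
      ((P⁻¹ : GL (Fin n) F) : Matrix (Fin n) (Fin n) F) *ᵥ x = v.equivFun x := by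
    intro x
    have h1 : (P : Matrix (Fin n) (Fin n) F) *ᵥ (v.equivFun x) = x := by
      rw [glOfEquiv_mulVec, LinearEquiv.symm_apply_apply]
    have h3 : ((P⁻¹ : GL (Fin n) F) : Matrix (Fin n) (Fin n) F) *ᵥ
        ((P : Matrix (Fin n) (Fin n) F) *ᵥ (v.equivFun x)) = v.equivFun x := by
      rw [Matrix.mulVec_mulVec, ← Units.val_mul, inv_mul_cancel, Units.val_one, Matrix.one_mulVec]
    rw [h1] at h3
    exact h3
  refine ⟨P, c⁻¹, inv_ne_zero hc0, ?_, ?_⟩
  · -- rational structure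
    intro u hu
    show c⁻¹ * Q ((P : Matrix (Fin n) (Fin n) F) *ᵥ u) ∈ F₀
    rw [hPmul]
    have hform : Q (∑ i, u i • v i) = c * ∑ i, u i ^ 2 := by
      have h1 := hself (∑ i, u i • v i)
      have h3 : QuadraticMap.polar Q (∑ i, u i • v i) (∑ i, u i • v i) = 2 * c * ∑ i, u i ^ 2 := by
        rw [← OM2F_B_apply hQ]
        simp only [LinearMap.BilinForm.sum_left, LinearMap.BilinForm.sum_right,
          LinearMap.BilinForm.smul_left, LinearMap.BilinForm.smul_right, OM2F_B_apply]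
        rw [Finset.mul_sum]
        apply Finset.sum_congr rfl
        intro i _
        rw [Finset.sum_eq_single i]
        · rw [hself, hvQ]
          ring
        · intro j _ hji
          rw [hvorth j i hji]
          ring
        · intro h
          exact absurd (Finset.mem_univ i) h
      rw [h3] at h1
      have h4 : (2 : F) * (c * ∑ i, u i ^ 2) = 2 * Q (∑ i, u i • v i) := by
        rw [← h1]; ring
      exact (mul_left_cancel₀ h2 h4).symm
    rw [hform, ← mul_assoc, inv_mul_cancel₀ hc0, one_mul]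
    apply F₀.sum_mem
    intro i _
    exact F₀.pow_mem (hu i) 2
  · -- signed permutation matrices
    have hmono : ∀ h ∈ decompositionStabilizer D ⊓ isometryGroup F Q, ∀ i, ∃ (j : Fin n) (ε : F),
        (ε = 1 ∨ ε = -1) ∧ (h : Matrix (Fin n) (Fin n) F) *ᵥ v i = ε • v j := by
      intro h hh i
      obtain ⟨σ, hσ⟩ := hh.1
      have hmem : (h : Matrix (Fin n) (Fin n) F) *ᵥ v i ∈ D (σ i) := by
        rw [← hσ i]
        exact ⟨v i, hvD i, by rw [Matrix.toLin'_apply]⟩
      obtain ⟨ε, hε⟩ := hlinev (σ i) _ hmem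
      refine ⟨σ i, ε, ?_, hε⟩
      have hiso : Q ((h : Matrix (Fin n) (Fin n) F) *ᵥ v i) = Q (v i) := hh.2 (v i) (v i)
      rw [hε, hQ.smul, hvQ, hvQ] at hiso
      have h1 : ε ^ 2 = 1 := by
        have := mul_right_cancel₀ hc0 (hiso.trans (one_mul _).symm)
        exact this
      rw [pow_two] at h1
      exact mul_self_eq_one_iff.mp h1
    have hentry : ∀ h ∈ decompositionStabilizer D ⊓ isometryGroup F Q, ∀ j' i,
        (((P⁻¹ : GL (Fin n) F) : Matrix (Fin n) (Fin n) F) * (h : Matrix (Fin n) (Fin n) F) *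
          (P : Matrix (Fin n) (Fin n) F)) j' i ∈ F₀ := by
      intro h hh j' i
      rw [OM2F_entry, hPsingle, hPinv]
      obtain ⟨j, ε, hε, hhv⟩ := hmono h hh i
      rw [hhv, map_smul]
      simp only [Pi.smul_apply, Module.Basis.equivFun_self, smul_eq_mul]
      have hεF : ε ∈ F₀ := by
        rcases hε with rfl | rfl
        · exact F₀.one_mem
        · exact F₀.neg_mem F₀.one_mem
      split_ifs
      · rw [mul_one]; exact hεF
      · rw [mul_zero]; exact F₀.zero_mem
    intro h hh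
    unfold subfieldSubgroup
    refine Subgroup.mem_map.mpr ⟨P⁻¹ * h * P, Subgroup.mem_sup_left ?_, ?_⟩
    · apply OM2F_mem_range
      · intro i j
        rw [Units.val_mul, Units.val_mul]
        exact hentry h hh i j
      · intro i j
        have : (P⁻¹ * h * P)⁻¹ = P⁻¹ * h⁻¹ * P := by group
        rw [this, Units.val_mul, Units.val_mul]
        exact hentry h⁻¹ (Subgroup.inv_mem _ hh) i j
    · show P * (P⁻¹ * h * P) * P⁻¹ = h
      group

end Cfsg.Agent.Lib.H26.EOP2
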