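import Mathlib
import Cfsg.Agent.Lib.H3.DF0
import Cfsg.Agent.Lib.H15.DFD9

/-!
# S4316 pieces D10a / D10b, core form (helper26)

Wielandt ratio step: `|C_G(c) : C_G(c) ∩ C(T)| ≤ J^(q+1)` and `|G : C_G(T)| ≤ (J^(q+1))^(q+1)`,
with the conclusions of the pieces D2, D3, D3', D6a, D8 as hypotheses (D9 is imported).
-/

set_option autoImplicit false

universe u

namespace Cfsg.Agent.Lib.H26.DF

open Subgroup Cfsg.Agent.Lib.H3.DF
open scoped commutatorElement

variable {Γ : Type u} [Group Γ] [Finite Γ]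

/-- An element normalizing `T` normalizes its centralizer. -/
theorem d10_mem_normalizer_centralizer {T : Subgroup Γ} {a : Γ}
    (ha : a ∈ normalizer (T : Set Γ)) : a ∈ normalizer ((centralizer (T : Set Γ) : Subgroup Γ) : Set Γ) := by
  have key : ∀ a : Γ, a ∈ normalizer (T : Set Γ) → ∀ z ∈ centralizer (T : Set Γ),
      a * z * a⁻¹ ∈ centralizer (T : Set Γ) := by
    intro a ha z hz
    rw [mem_centralizer_iff] at hz ⊢
    intro t ht
    have ht' : a⁻¹ * t * a⁻¹⁻¹ ∈ T := by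
      have := (mem_normalizer_iff.1 (inv_mem ha) t).1 ht
      exact this
    have hc := hz (a⁻¹ * t * a⁻¹⁻¹) ht'
    have e1 : t * (a * z * a⁻¹) = a * ((a⁻¹ * t * a⁻¹⁻¹) * z) * a⁻¹ := by group
    have e2 : a * z * a⁻¹ * t = a * (z * (a⁻¹ * t * a⁻¹⁻¹)) * a⁻¹ := by group
    rw [e1, e2, hc]
  rw [mem_normalizer_iff]
  intro z
  constructor
  · intro hz
    exact key a ha z hz
  · intro hz
    have := key a⁻¹ (inv_mem ha) _ hz
    have e : a⁻¹ * (a * z * a⁻¹) * a⁻¹⁻¹ = z := by group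
    rwa [e] at this

/-- A subgroup normalizing `X` and `T` normalizes `X ⊓ C(T)`. -/
theorem d10_le_normalizer_inf_centralizer {B X T : Subgroup Γ}
    (hBX : B ≤ normalizer (X : Set Γ)) (hBT : B ≤ normalizer (T : Set Γ)) :
    B ≤ normalizer ((X ⊓ centralizer (T : Set Γ) : Subgroup Γ) : Set Γ) := by
  intro a ha
  exact Cfsg.Agent.Lib.H16.mem_normalizer_inf (hBX ha) (d10_mem_normalizer_centralizer (hBT ha))

/-- `C_G(c) ∩ C(b) = C_G(⟨b, c⟩)`. -/
theorem d10_Gc_inf_centralizer (G : Subgroup Γ) (b c : Γ) :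
    Gc G c ⊓ centralizer {b} = HB G (zpowers b ⊔ zpowers c) := by
  ext g
  simp only [Gc, HB, mem_inf, mem_centralizer_iff, Set.mem_singleton_iff, forall_eq]
  constructor
  · rintro ⟨⟨hG, hc⟩, hb⟩
    refine ⟨hG, ?_⟩
    intro z hz
    have hz' : z ∈ zpowers b ⊔ zpowers c := hz
    have hcl : zpowers b ⊔ zpowers c ≤ centralizer {g} := by
      refine sup_le ?_ ?_
      · rw [zpowers_le]
        rw [mem_centralizer_iff]
        intro y hy
        rw [Set.mem_singleton_iff] at hy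
        subst hy
        exact hb.symm
      · rw [zpowers_le]
        rw [mem_centralizer_iff]
        intro y hy
        rw [Set.mem_singleton_iff] at hy
        subst hy
        exact hc.symm
    have := hcl hz'
    rw [mem_centralizer_iff] at this
    exact (this g rfl).symm
  · rintro ⟨hG, h⟩
    refine ⟨⟨hG, ?_⟩, ?_⟩
    · exact h c ((le_sup_right : zpowers c ≤ zpowers b ⊔ zpowers c) (mem_zpowers c))
    · exact h b ((le_sup_left : zpowers b ≤ zpowers b ⊔ zpowers c) (mem_zpowers b))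

/-- D10a, core form: the conclusions of D2, D3, D3', D6a, D8 are hypotheses. -/
theorem card_Gc_le_of {q m : ℕ} [Fact q.Prime] {G A : Subgroup Γ} (h : DHyp q m G A)
    (hD2 : ∀ b c : Γ, b ∈ A → c ∈ A → c ≠ 1 → b ∉ zpowers c →
      IsPlane q A (zpowers b ⊔ zpowers c))
    (hD3 : ∀ c : Γ, c ∈ A → c ≠ 1 →
      ∃ x ∈ A, ∃ y ∈ A, x ≠ 1 ∧ y ∉ zpowers x ∧ IsPlane q A (zpowers x ⊔ zpowers y) ∧
        ∀ b ∈ zpowers x ⊔ zpowers y, b ≠ 1 → b ∉ zpowers c)
    (hD3' : ∀ B : Subgroup Γ, IsPlane q A B → Cfsg.Agent.Lib.H16.IsEpp q B)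
    (hAGc : ∀ c ∈ A, A ≤ normalizer (Gc G c : Set Γ))
    (hAT : A ≤ normalizer (TT G A : Set Γ))
    (hD8 : ∀ B : Subgroup Γ, IsPlane q A B →
      Nat.card ↥(HB G B) ≤ dJ q m * Nat.card ↥(HB G B ⊓ centralizer (TT G A : Set Γ)))
    {c : Γ} (hc : c ∈ A) (hc1 : c ≠ 1) :
    Nat.card ↥(Gc G c) ≤
      dJ q m ^ (q + 1) * Nat.card ↥(Gc G c ⊓ centralizer (TT G A : Set Γ)) := by
  obtain ⟨x, hx, y, hy, hx1, hyx, hP, hav⟩ := hD3 c hc hc1
  have hEpp := hD3' _ hP
  have hB1A : zpowers x ⊔ zpowers y ≤ A := hP.1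
  have hGcG : Gc G c ≤ G := inf_le_left
  have hcop : ¬ q ∣ Nat.card ↥(Gc G c) := by
    intro hdvd
    exact h.cop (dvd_trans hdvd (Subgroup.card_dvd_of_le hGcG))
  refine Cfsg.Agent.Lib.H15.DF.card_le_of_centralizer_ratio hEpp inf_le_left hcop
    (le_trans hB1A (hAGc c hc))
    (d10_le_normalizer_inf_centralizer (le_trans hB1A (hAGc c hc)) (le_trans hB1A hAT))
    (dJ q m) ?_
  intro b hb hb1
  have hbA : b ∈ A := hB1A hb
  have hbc : b ∉ zpowers c := hav b hb hb1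
  have hPl : IsPlane q A (zpowers b ⊔ zpowers c) := hD2 b c hbA hc hc1 hbc
  have h8 := hD8 _ hPl
  have e1 : Gc G c ⊓ centralizer {b} = HB G (zpowers b ⊔ zpowers c) := d10_Gc_inf_centralizer G b c
  have e2 : Gc G c ⊓ centralizer (TT G A : Set Γ) ⊓ centralizer {b}
      = HB G (zpowers b ⊔ zpowers c) ⊓ centralizer (TT G A : Set Γ) := by
    rw [← e1, inf_right_comm]
  rw [e1, e2]
  exact h8

/-- D10b, core form: D10a (for all `c`) and the conclusions of D3, D3', D6a are hypotheses. -/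
theorem card_le_dN_mul_of {q m : ℕ} [Fact q.Prime] {G A : Subgroup Γ} (h : DHyp q m G A)
    (hD3 : ∀ c : Γ, c ∈ A → c ≠ 1 →
      ∃ x ∈ A, ∃ y ∈ A, x ≠ 1 ∧ y ∉ zpowers x ∧ IsPlane q A (zpowers x ⊔ zpowers y) ∧
        ∀ b ∈ zpowers x ⊔ zpowers y, b ≠ 1 → b ∉ zpowers c)
    (hD3' : ∀ B : Subgroup Γ, IsPlane q A B → Cfsg.Agent.Lib.H16.IsEpp q B)
    (hAT : A ≤ normalizer (TT G A : Set Γ))
    (hD10a : ∀ c : Γ, c ∈ A → c ≠ 1 → Nat.card ↥(Gc G c) ≤
      dJ q m ^ (q + 1) * Nat.card ↥(Gc G c ⊓ centralizer (TT G A : Set Γ))) :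
    Nat.card G ≤ dN q m * Nat.card ↥(G ⊓ centralizer (TT G A : Set Γ)) := by
  have hq : q.Prime := Fact.out
  -- a nontrivial element of `A`
  have hAcard : 1 < Nat.card A := by
    rw [h.e3.card]
    exact Nat.one_lt_pow (by norm_num) hq.one_lt
  obtain ⟨c, hc, hc1⟩ : ∃ c ∈ A, c ≠ 1 := by
    by_contra hcon
    push_neg at hcon
    have hbot : A = ⊥ := by
      rw [eq_bot_iff]
      intro a ha
      rw [mem_bot]
      exact hcon a ha
    rw [hbot, Subgroup.card_bot] at hAcard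
    exact lt_irrefl _ hAcard
  obtain ⟨x, hx, y, hy, hx1, hyx, hP, hav⟩ := hD3 c hc hc1
  have hEpp := hD3' _ hP
  have hB1A : zpowers x ⊔ zpowers y ≤ A := hP.1
  unfold dN
  refine Cfsg.Agent.Lib.H15.DF.card_le_of_centralizer_ratio hEpp inf_le_left h.cop
    (le_trans hB1A h.norm)
    (d10_le_normalizer_inf_centralizer (le_trans hB1A h.norm) (le_trans hB1A hAT))
    (dJ q m ^ (q + 1)) ?_
  intro b hb hb1
  have hbA : b ∈ A := hB1A hb
  have h10 := hD10a b hbA hb1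
  have e1 : G ⊓ centralizer {b} = Gc G b := rfl
  have e2 : G ⊓ centralizer (TT G A : Set Γ) ⊓ centralizer {b}
      = Gc G b ⊓ centralizer (TT G A : Set Γ) := by
    rw [← e1, inf_right_comm]
  rw [e1, e2]
  exact h10

end Cfsg.Agent.Lib.H26.DF
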