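import Mathlib

/-!
# Piece (R1) of S3685/S3385: a group of order six with a non-normal subgroup of order two is `S₃`
-/

set_option autoImplicit false
open scoped Pointwise

namespace Cfsg.Agent.Lib.H26.Sims

/-- (R1) order 6, a non-normal subgroup of order 2 -/
theorem s3_of_card_six {K : Type*} [Group K] [Finite K] (hK : Nat.card K = 6) (T : Subgroup K)
    (hT : Nat.card T = 2) (hn : ¬ T.Normal) : Nonempty (K ≃* Equiv.Perm (Fin 3)) := by
  classical
  -- the core of `T` is trivial
  have hcore : T.normalCore = ⊥ := by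
    have hle : T.normalCore ≤ T := T.normalCore_le
    have hdvd : Nat.card T.normalCore ∣ 2 := hT ▸ Subgroup.card_dvd_of_le hle
    rcases (Nat.dvd_prime Nat.prime_two).mp hdvd with h1 | h2
    · exact Subgroup.card_eq_one.mp h1
    · exfalso
      apply hn
      have : T.normalCore = T := by
        apply Subgroup.eq_of_le_of_card_ge hle
        rw [h2, hT]
      rw [← this]
      infer_instance
  have hidx : T.index = 3 := by
    have := T.card_mul_index
    rw [hT, hK] at this
    omega
  have hinj : Function.Injective (MulAction.toPermHom K (K ⧸ T)) := by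
    rw [← MonoidHom.ker_eq_bot_iff, ← Subgroup.normalCore_eq_ker, hcore]
  have hcardq : Nat.card (K ⧸ T) = 3 := hidx
  haveI : Finite (K ⧸ T) := Nat.finite_of_card_ne_zero (by rw [hcardq]; norm_num)
  haveI : Fintype (K ⧸ T) := Fintype.ofFinite _
  have hcardq' : Fintype.card (K ⧸ T) = 3 := by rw [← Nat.card_eq_fintype_card, hcardq]
  have hperm : Nat.card (Equiv.Perm (K ⧸ T)) = 6 := by
    rw [Nat.card_eq_fintype_card, Fintype.card_perm, hcardq']
    rfl
  have hbij : Function.Bijective (MulAction.toPermHom K (K ⧸ T)) :=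
    (Nat.bijective_iff_injective_and_card _).mpr ⟨hinj, by rw [hK, hperm]⟩
  have e : (K ⧸ T) ≃ Fin 3 := Fintype.equivFinOfCardEq hcardq'
  exact ⟨(MulEquiv.ofBijective _ hbij).trans e.permCongrHom⟩

end Cfsg.Agent.Lib.H26.Sims
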