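import Mathlib
import Cfsg.Agent.Lib.H22.DihQuatRecog

/-!
# Piece (R2) of S3685/S3385: a group of order twelve with a non-normal four-group is `D₁₂`
-/

set_option autoImplicit false
open scoped Pointwise

namespace Cfsg.Agent.Lib.H26.Sims

/-- (R2) order 12, a non-normal subgroup of order 4 and exponent 2 -/
theorem d12_of_card_twelve {K : Type*} [Group K] [Finite K] (hK : Nat.card K = 12) (T : Subgroup K)
    (hT : Nat.card T = 4) (hexp : ∀ x ∈ T, x ^ 2 = 1) (hn : ¬ T.Normal) :
    Nonempty (K ≃* DihedralGroup 6) := by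
  classical
  -- the core `Q` of `T` has order two
  set Q := T.normalCore with hQdef
  have hle : Q ≤ T := T.normalCore_le
  have hQne : Q ≠ T := by
    intro h
    apply hn
    rw [← h]
    infer_instance
  have hidx : T.index = 3 := by
    have := T.card_mul_index
    rw [hT, hK] at this
    omega
  have hcardq : Nat.card (K ⧸ T) = 3 := hidx
  haveI : Finite (K ⧸ T) := Nat.finite_of_card_ne_zero (by rw [hcardq]; norm_num)
  haveI : Fintype (K ⧸ T) := Fintype.ofFinite _
  have hcardq' : Fintype.card (K ⧸ T) = 3 := by rw [← Nat.card_eq_fintype_card, hcardq]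
  have hperm : Nat.card (Equiv.Perm (K ⧸ T)) = 6 := by
    rw [Nat.card_eq_fintype_card, Fintype.card_perm, hcardq']
    rfl
  have hQidx : Q.index ∣ 6 := by
    rw [hQdef, Subgroup.normalCore_eq_ker, Subgroup.index_ker, ← hperm]
    exact Subgroup.card_subgroup_dvd_card _
  have hQcard : Nat.card Q = 2 := by
    have h1 : Nat.card Q ∣ 4 := hT ▸ Subgroup.card_dvd_of_le hle
    have h2 := Q.card_mul_index
    rw [hK] at h2
    have h3 : Nat.card Q ≠ 4 := by
      intro h
      apply hQne
      apply Subgroup.eq_of_le_of_card_ge hle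
      rw [h, hT]
    have h4 : Nat.card Q ≤ 4 := Nat.le_of_dvd (by norm_num) h1
    have h5 : Q.index ≤ 6 := Nat.le_of_dvd (by norm_num) hQidx
    interval_cases hc : Nat.card Q
    · omega
    · omega
    · rfl
    · omega
    · omega
  -- the central involution
  obtain ⟨z, hz1, hzu⟩ := (Nat.card_eq_two_iff' (1 : Q)).mp hQcard
  have hz1' : (z : K) ≠ 1 := fun h => hz1 (Subtype.ext h)
  have hzQ : (z : K) ∈ Q := z.2
  have hQz : ∀ y ∈ Q, y = 1 ∨ y = (z : K) := by
    intro y hy
    by_cases h : y = 1
    · exact Or.inl h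
    · right
      have := hzu ⟨y, hy⟩ (fun h' => h (congrArg Subtype.val h'))
      exact congrArg Subtype.val this
  have hzc : ∀ g : K, g * (z : K) = (z : K) * g := by
    intro g
    have hmem : g * (z : K) * g⁻¹ ∈ Q := (inferInstance : Q.Normal).conj_mem _ hzQ g
    rcases hQz _ hmem with h | h
    · exfalso
      apply hz1'
      have : (z : K) = g⁻¹ * (g * (z : K) * g⁻¹) * g := by group
      rw [this, h]; group
    · calc g * (z : K) = (g * (z : K) * g⁻¹) * g := by group
        _ = (z : K) * g := by rw [h]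
  have hz2 : (z : K) ^ 2 = 1 := hexp _ (hle hzQ)
  have hzord : orderOf (z : K) = 2 := orderOf_eq_prime hz2 hz1'
  -- an element of order three
  haveI : Fact (Nat.Prime 3) := ⟨Nat.prime_three⟩
  obtain ⟨t, ht⟩ := exists_prime_orderOf_dvd_card' (G := K) 3 (by rw [hK]; norm_num)
  have ht3 : t ^ 3 = 1 := by rw [← ht]; exact pow_orderOf_eq_one t
  set r : K := (z : K) * t with hr
  have hcomm : Commute (z : K) t := (hzc t).symm
  have hrord : orderOf r = 6 := by
    rw [hr, hcomm.orderOf_mul_eq_mul_orderOf_of_coprime (by rw [hzord, ht]; norm_num), hzord, ht]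
  have hr6 : r ^ 6 = 1 := by rw [← hrord]; exact pow_orderOf_eq_one r
  have hr3 : r ^ 3 = (z : K) := by
    rw [hr, hcomm.mul_pow, ht3, mul_one, pow_succ, hz2, one_mul]
  -- the cyclic subgroup of index two
  set R := Subgroup.zpowers r with hR
  have hRcard : Nat.card R = 6 := by rw [hR, Nat.card_zpowers, hrord]
  have hRidx : R.index = 2 := by
    have := R.card_mul_index
    rw [hRcard, hK] at this
    omega
  haveI hRn : R.Normal := Subgroup.normal_of_index_eq_two hRidx
  -- an involution of `T` outside `Q`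
  obtain ⟨s, hsT, hsQ⟩ := SetLike.exists_of_lt (lt_of_le_of_ne hle hQne)
  have hs2 : s ^ 2 = 1 := hexp s hsT
  have hss : s * s = 1 := by rw [← pow_two]; exact hs2
  have hsR : s ∉ R := by
    intro hs
    obtain ⟨k, hk⟩ := Subgroup.mem_zpowers_iff.mp hs
    have h1 : r ^ (k * 2) = 1 := by
      rw [zpow_mul, hk]
      exact_mod_cast hs2
    have h2 : ((orderOf r : ℕ) : ℤ) ∣ k * 2 := orderOf_dvd_iff_zpow_eq_one.mpr h1
    rw [hrord] at h2
    have h3 : (3 : ℤ) ∣ k := by
      have : ((6 : ℕ) : ℤ) ∣ k * 2 := h2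
      omega
    obtain ⟨j, rfl⟩ := h3
    apply hsQ
    rw [← hk, zpow_mul]
    have : r ^ (3 : ℤ) = (z : K) := by
      have := hr3
      exact_mod_cast this
    rw [this]
    exact Q.zpow_mem hzQ j
  -- generation
  have hgen : Subgroup.closure ({r, s} : Set K) = ⊤ := by
    have hRle : R ≤ Subgroup.closure ({r, s} : Set K) := by
      rw [hR, Subgroup.zpowers_le]
      exact Subgroup.subset_closure (by simp)
    have hsC : s ∈ Subgroup.closure ({r, s} : Set K) := Subgroup.subset_closure (by simp)
    have h1 : Nat.card R ∣ Nat.card (Subgroup.closure ({r, s} : Set K)) :=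
      Subgroup.card_dvd_of_le hRle
    have h2 : Nat.card (Subgroup.closure ({r, s} : Set K)) ∣ Nat.card K :=
      Subgroup.card_subgroup_dvd_card _
    have h3 : Nat.card (Subgroup.closure ({r, s} : Set K)) ≠ 6 := by
      intro h
      apply hsR
      have : R = Subgroup.closure ({r, s} : Set K) := by
        apply Subgroup.eq_of_le_of_card_ge hRle
        rw [h, hRcard]
      rw [this]
      exact hsC
    apply Subgroup.eq_top_of_card_eq
    rw [hRcard] at h1
    rw [hK] at h2 ⊢
    have h4 : Nat.card (Subgroup.closure ({r, s} : Set K)) ≤ 12 := Nat.le_of_dvd (by norm_num) h2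
    obtain ⟨a, ha⟩ := h1
    rw [ha] at h3 h4 ⊢
    have : a = 2 := by
      have ha0 : a ≠ 0 := by
        rintro rfl
        have : Nat.card (Subgroup.closure ({r, s} : Set K)) = 0 := by rw [ha]
        have hpos : 0 < Nat.card (Subgroup.closure ({r, s} : Set K)) := Nat.card_pos
        omega
      omega
    rw [this]
  -- the action of `s` on `r`
  have hconj : s * r * s⁻¹ ∈ R := hRn.conj_mem r (Subgroup.mem_zpowers r) s
  rw [hR, mem_zpowers_iff_mem_range_orderOf, hrord] at hconj
  obtain ⟨j, hj, hjr⟩ := Finset.mem_image.mp hconj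
  have hj6 : j < 6 := Finset.mem_range.mp hj
  have hjr' : r ^ j = s * r * s⁻¹ := hjr
  have hpow : ∀ n : ℕ, r ^ (j * n) = 1 → r ^ n = 1 := by
    intro n hn
    have h1 : (s * r * s⁻¹) ^ n = 1 := by rw [← hjr', ← pow_mul]; exact hn
    rw [conj_pow] at h1
    have : r ^ n = s⁻¹ * (s * r ^ n * s⁻¹) * s := by group
    rw [this, h1]; group
  have hnot : ∀ n : ℕ, 0 < n → n < 6 → r ^ n ≠ 1 := by
    intro n hn0 hn6 h
    have := orderOf_dvd_of_pow_eq_one h
    rw [hrord] at this
    have := Nat.le_of_dvd hn0 this
    omega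
  have hinv : s * r * s⁻¹ = r⁻¹ := by
    interval_cases j
    · exfalso
      exact hnot 1 (by norm_num) (by norm_num) (hpow 1 (by simp))
    · -- the commuting case: `K` is abelian
      exfalso
      apply hn
      have hsr : s * r = r * s := by
        have : s * r = (s * r * s⁻¹) * s := by group
        rw [this, ← hjr', pow_one]
      have hcen : ∀ x ∈ ({r, s} : Set K), ∀ y ∈ ({r, s} : Set K), x * y = y * x := by
        rintro x (rfl | rfl) y (rfl | rfl)
        · rfl
        · exact hsr.symm
        · exact hsr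
        · rfl
      have hab : ∀ a b : K, a * b = b * a := by
        intro a b
        have ha : a ∈ Subgroup.closure ({r, s} : Set K) := by rw [hgen]; trivial
        have hb : b ∈ Subgroup.closure ({r, s} : Set K) := by rw [hgen]; trivial
        letI := Subgroup.closureCommGroupOfComm hcen
        have := mul_comm (⟨a, ha⟩ : Subgroup.closure ({r, s} : Set K)) ⟨b, hb⟩
        exact congrArg Subtype.val this
      refine ⟨fun n hnT g => ?_⟩
      have : g * n * g⁻¹ = n := by rw [hab g n]; group
      rw [this]; exact hnT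
    · exfalso
      exact hnot 3 (by norm_num) (by norm_num) (hpow 3 (by simpa using hr6))
    · exfalso
      exact hnot 2 (by norm_num) (by norm_num) (hpow 2 (by simpa using hr6))
    · exfalso
      refine hnot 3 (by norm_num) (by norm_num) (hpow 3 ?_)
      have : r ^ (4 * 3) = (r ^ 6) ^ 2 := by rw [← pow_mul]
      rw [this, hr6, one_pow]
    · rw [← hjr']
      apply eq_inv_of_mul_eq_one_left
      rw [← pow_succ]
      exact hr6
  exact Cfsg.Agent.Lib.H22.dihedral_equiv_of_gens 6 r s hr6 hss hinv hgen (by rw [hK])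

end Cfsg.Agent.Lib.H26.Sims
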