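import Mathlib
import Cfsg.Agent.Lib.H5.Sims.Defs
import Cfsg.Agent.Lib.H26.SimsR1
import Cfsg.Agent.Lib.H26.SimsR2

/-!
# Pieces (SM2), (SM4) of S3685/S3385: the small cases `|T| = 2` and `|T| = 4`
-/

set_option autoImplicit false
open scoped Pointwise
open Cfsg.Agent.Lib.H5.Sims

namespace Cfsg.Agent.Lib.H26.Sims

/-- a group of order four with two distinct subgroups of order two has exponent two -/
theorem sq_eq_one_of_two_subgroups {H : Type*} [Group H] [Finite H] (hH : Nat.card H = 4)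
    (A B : Subgroup H) (hA : Nat.card A = 2) (hB : Nat.card B = 2) (hAB : A ≠ B) (x : H) :
    x ^ 2 = 1 := by
  classical
  by_contra hx
  have hdvd : orderOf x ∣ 2 ^ 2 := by
    have := orderOf_dvd_natCard x
    rw [hH] at this
    exact this
  obtain ⟨k, hk, hk'⟩ := (Nat.dvd_prime_pow Nat.prime_two).mp hdvd
  have hord : orderOf x = 4 := by
    interval_cases k
    · exfalso; apply hx
      rw [pow_zero, orderOf_eq_one_iff] at hk'
      rw [hk', one_pow]
    · exfalso; apply hx
      rw [pow_one] at hk'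
      rw [← hk']; exact pow_orderOf_eq_one x
    · rw [hk']; norm_num
  haveI : IsCyclic H := isCyclic_of_orderOf_eq_card x (by rw [hord, hH])
  haveI : Fintype H := Fintype.ofFinite H
  have hle := IsCyclic.card_pow_eq_one_le (α := H) (n := 2) (by norm_num)
  -- two distinct involutions
  have hnAB : ¬ A ≤ B := by
    intro h
    apply hAB
    apply Subgroup.eq_of_le_of_card_ge h
    rw [hA, hB]
  have hnBA : ¬ B ≤ A := by
    intro h
    apply hAB
    symm
    apply Subgroup.eq_of_le_of_card_ge h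
    rw [hA, hB]
  obtain ⟨a, haA, haB⟩ := SetLike.not_le_iff_exists.mp hnAB
  obtain ⟨b, hbB, hbA⟩ := SetLike.not_le_iff_exists.mp hnBA
  have ha1 : a ≠ 1 := fun h => haB (h ▸ B.one_mem)
  have hb1 : b ≠ 1 := fun h => hbA (h ▸ A.one_mem)
  have hab : a ≠ b := fun h => haB (h ▸ hbB)
  have ha2 : a ^ 2 = 1 := by
    have := pow_card_eq_one' (G := A) (x := ⟨a, haA⟩)
    rw [hA] at this
    exact congrArg Subtype.val this
  have hb2 : b ^ 2 = 1 := by
    have := pow_card_eq_one' (G := B) (x := ⟨b, hbB⟩)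
    rw [hB] at this
    exact congrArg Subtype.val this
  have hsub : ({1, a, b} : Finset H) ⊆ Finset.univ.filter (fun y : H => y ^ 2 = 1) := by
    intro y hy
    simp only [Finset.mem_insert, Finset.mem_singleton] at hy
    simp only [Finset.mem_filter, Finset.mem_univ, true_and]
    rcases hy with rfl | rfl | rfl
    · exact one_pow 2
    · exact ha2
    · exact hb2
  have hcard : ({1, a, b} : Finset H).card = 3 := by
    rw [Finset.card_insert_of_notMem, Finset.card_insert_of_notMem, Finset.card_singleton]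
    · simpa using hab
    · simp only [Finset.mem_insert, Finset.mem_singleton, not_or]
      exact ⟨fun h => ha1 h.symm, fun h => hb1 h.symm⟩
  have := Finset.card_le_card hsub
  rw [hcard] at this
  omega

variable {G : Type*} [Group G] [Finite G]

/-- `T_0` is not normal in `P_0` -/
theorem not_normal_T (S : Setup G) (hL : S.Loc) (hT : Nat.card (S.Tj 0) ≠ 0) :
    ¬ ((S.Tj 0).subgroupOf S.P).Normal := by
  intro hN
  have hP0 : S.Pj 0 = S.P := S.Pj_zero
  have hTP : S.Tj 0 ≤ S.P := by
    have := S.Tj_le_left 0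
    rwa [hP0] at this
  -- every element of `P` normalizes `T_0`
  have hconj : ∀ x ∈ S.P, MulAut.conj x • S.Tj 0 = S.Tj 0 := by
    intro x hx
    have hle : MulAut.conj x • S.Tj 0 ≤ S.Tj 0 := by
      intro y hy
      rw [mem_conj_smul] at hy
      have hyP : x⁻¹ * y * x ∈ S.P := hTP hy
      have h1 : (⟨x⁻¹ * y * x, hyP⟩ : S.P) ∈ (S.Tj 0).subgroupOf S.P := by
        rw [Subgroup.mem_subgroupOf]; exact hy
      have h2 := hN.conj_mem _ h1 ⟨x, hx⟩
      rw [Subgroup.mem_subgroupOf] at h2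
      have h3 : x * (x⁻¹ * y * x) * x⁻¹ = y := by group
      simpa [h3] using h2
    apply Subgroup.eq_of_le_of_card_ge hle
    rw [Setup.card_conj_smul]
  have hPT : S.P ≤ S.Tj 0 := by
    intro x hx
    exact hL.syl_selfnorm 0 (S.Tj 0) (S.isSyl_Tj 0) x (by rw [hP0]; exact hx) (hconj x hx)
  have h1 := Subgroup.card_le_of_le hPT
  have h2 := S.card_Pj_eq 0
  rw [hP0] at h2
  omega

theorem card_subgroupOf_T (S : Setup G) : Nat.card ((S.Tj 0).subgroupOf S.P) = Nat.card (S.Tj 0) := by
  have hTP : S.Tj 0 ≤ S.P := by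
    have := S.Tj_le_left 0
    rwa [S.Pj_zero] at this
  exact Nat.card_congr (Subgroup.subgroupOfEquivOfLe hTP).toEquiv

/-- (SM2) -/
theorem small2 (S : Setup G) (hb : S.Bent) (hL : S.Loc) (h : Nat.card (S.Tj 0) = 2) :
    Nonempty (S.P ≃* Equiv.Perm (Fin 3)) := by
  have hP : Nat.card S.P = 6 := by
    have := S.card_Pj_eq 0
    rw [S.Pj_zero, h] at this
    exact this
  exact s3_of_card_six hP ((S.Tj 0).subgroupOf S.P) (by rw [card_subgroupOf_T, h])
    (not_normal_T S hL (by rw [h]; norm_num))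

/-- (SM4) -/
theorem small4 (S : Setup G) (hb : S.Bent) (hL : S.Loc) (h : Nat.card (S.Tj 0) = 4) :
    Nonempty (S.P ≃* DihedralGroup 6) := by
  have hP : Nat.card S.P = 12 := by
    have := S.card_Pj_eq 0
    rw [S.Pj_zero, h] at this
    exact this
  have hQ0 : Nat.card (S.Qj 0) = 2 := by
    have := hL.cardQ 0
    rw [h] at this
    omega
  have hQ1 : Nat.card (S.Qj 1) = 2 := by
    have := hL.cardQ 1
    rw [h] at this
    omega
  have hQ0ne : S.Qj 0 ≠ ⊥ := by
    intro h0
    rw [h0, Subgroup.card_bot] at hQ0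
    omega
  have hQne : S.Qj 0 ≠ S.Qj 1 := by
    have := hL.Q_ne 0 hQ0ne
    simpa using this
  have hQ0T : S.Qj 0 ≤ S.Tj 0 := S.Qj_le_right 0
  have hQ1T : S.Qj 1 ≤ S.Tj 0 := by
    have := S.Qj_le_left 1
    simpa using this
  have hexpT : ∀ x ∈ S.Tj 0, x ^ 2 = 1 := by
    intro x hx
    have hne : (S.Qj 0).subgroupOf (S.Tj 0) ≠ (S.Qj 1).subgroupOf (S.Tj 0) := by
      intro he
      apply hQne
      have := congrArg (Subgroup.map (S.Tj 0).subtype) he
      rwa [Subgroup.map_subgroupOf_eq_of_le hQ0T, Subgroup.map_subgroupOf_eq_of_le hQ1T] at this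
    have := sq_eq_one_of_two_subgroups (H := S.Tj 0) h ((S.Qj 0).subgroupOf (S.Tj 0))
      ((S.Qj 1).subgroupOf (S.Tj 0))
      (by rw [Nat.card_congr (Subgroup.subgroupOfEquivOfLe hQ0T).toEquiv, hQ0])
      (by rw [Nat.card_congr (Subgroup.subgroupOfEquivOfLe hQ1T).toEquiv, hQ1]) hne ⟨x, hx⟩
    exact congrArg Subtype.val this
  refine d12_of_card_twelve hP ((S.Tj 0).subgroupOf S.P) (by rw [card_subgroupOf_T, h]) ?_
    (not_normal_T S hL (by rw [h]; norm_num))
  intro x hx
  rw [Subgroup.mem_subgroupOf] at hx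
  have := hexpT _ hx
  apply Subtype.ext
  simpa using this

end Cfsg.Agent.Lib.H26.Sims
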