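import Mathlib
import Cfsg.Agent.S0713

/-!
# S4150 piece CERT (architect helper16): `alt_le_of_small_cycle`

In prime degree `n`, a subgroup of `Perm (Fin n)` containing an `n`-cycle and an element `w`
with `w ^ r = 1` and exactly `r` moved points (`r` prime, `r + 3 ≤ n`) contains `A_n`.
-/

set_option autoImplicit false

namespace Cfsg.Agent.Lib.H26.AG

open Equiv Equiv.Perm Subgroup

/-- A subgroup of `Perm (Fin n)` containing a full cycle is transitive. -/
theorem isPretransitive_of_full_cycle {n : ℕ} (G : Subgroup (Perm (Fin n)))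
    (y : Perm (Fin n)) (hy : y.cycleType = {n}) (hyG : y ∈ G) :
    MulAction.IsPretransitive G (Fin n) := by
  have hcyc : y.IsCycle := by
    rw [← card_cycleType_eq_one, hy]; simp
  have hcard : y.support.card = n := by
    rw [← sum_cycleType, hy]; simp
  have hsupp : y.support = Finset.univ := by
    apply Finset.eq_univ_of_card
    rw [hcard, Fintype.card_fin]
  refine ⟨fun a b => ?_⟩
  have ha : y a ≠ a := by
    have : a ∈ y.support := by rw [hsupp]; exact Finset.mem_univ a
    exact mem_support.mp this
  have hb : y b ≠ b := by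
    have : b ∈ y.support := by rw [hsupp]; exact Finset.mem_univ b
    exact mem_support.mp this
  obtain ⟨i, hi⟩ := hcyc.exists_zpow_eq ha hb
  exact ⟨⟨y ^ i, G.zpow_mem hyG i⟩, hi⟩

/-- (CERT) in prime degree `n`, a subgroup containing an `n`-cycle and an element `w ≠ 1` with
`w ^ r = 1` and exactly `r` moved points (`r` prime, `r + 3 ≤ n`) contains `A_n`
(primitive because of prime degree; `w` is an `r`-cycle; landed `S0713.result`). -/
theorem alt_le_of_small_cycle {n r : ℕ} (hn : n.Prime) (G : Subgroup (Perm (Fin n)))
    (y : Perm (Fin n)) (hy : y.cycleType = {n}) (hyG : y ∈ G) (w : Perm (Fin n)) (hw : w ∈ G)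
    (hr : r.Prime) (hr3 : r + 3 ≤ n) (hwr : w ^ r = 1) (hsupp : w.support.card = r) :
    alternatingGroup (Fin n) ≤ G := by
  haveI : MulAction.IsPretransitive G (Fin n) := isPretransitive_of_full_cycle G y hy hyG
  have hprim : MulAction.IsPreprimitive G (Fin n) := by
    apply MulAction.IsPreprimitive.of_prime_card
    rw [Nat.card_eq_fintype_card, Fintype.card_fin]; exact hn
  have hw1 : w ≠ 1 := by
    intro h
    rw [h, support_one, Finset.card_empty] at hsupp
    exact hr.ne_zero hsupp.symm
  have hord : orderOf w = r := by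
    have hdvd : orderOf w ∣ r := orderOf_dvd_of_pow_eq_one hwr
    rcases (Nat.dvd_prime hr).mp hdvd with h | h
    · exact absurd (orderOf_eq_one_iff.mp h) hw1
    · exact h
  have hcyc : w.IsCycle := by
    apply isCycle_of_prime_order (hord ▸ hr)
    rw [hord, hsupp]
    have := hr.two_le
    omega
  have h2 := hr.two_le
  exact Cfsg.Agent.S0713.result G hprim hr (by rw [Fintype.card_fin]; omega)
    (by rw [Fintype.card_fin]; exact hr3) hcyc hsupp hw

end Cfsg.Agent.Lib.H26.AG
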