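import Mathlib
import Cfsg.Agent.Lib.H26.MC3Defs
import Cfsg.Agent.Lib.H19.MetaKey

/-!
helper26: algebra of the ordered norm `Nm σ k y = y · σ(y) ⋯ σ^{k-1}(y)` (S4079 blueprint, piece A4).
-/

set_option autoImplicit false

namespace Cfsg.Agent.Lib.H26.MC3

open Cfsg.Agent.Lib.H19.MC

universe u

variable {L : Type u} [Group L]

@[simp] theorem Nm_zero (σ : MulAut L) (y : L) : Nm σ 0 y = 1 := rfl

theorem Nm_succ (σ : MulAut L) (k : ℕ) (y : L) : Nm σ (k + 1) y = Nm σ k y * (σ ^ k) y := rfl

/-- A4a: `σ^k x = x · Nm σ k (x⁻¹ σ(x))`. -/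
theorem pow_apply_eq (σ : MulAut L) (k : ℕ) (x : L) : (σ ^ k) x = x * Nm σ k (x⁻¹ * σ x) := by
  induction k with
  | zero => simp
  | succ k ih =>
    have h1 : (σ ^ (k + 1)) x = (σ ^ k) (σ x) := by
      rw [pow_succ, MulAut.mul_apply]
    have h2 : σ x = x * (x⁻¹ * σ x) := by group
    rw [h1, Nm_succ]
    conv_lhs => rw [h2]
    rw [map_mul, ih]
    group

/-- if `σ^p = 1` then the norm of `x⁻¹ σ(x)` is trivial. -/
theorem Nm_eq_one_of_pow {p : ℕ} (σ : MulAut L) (hσ : σ ^ p = 1) (x : L) :
    Nm σ p (x⁻¹ * σ x) = 1 := by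
  have h := pow_apply_eq σ p x
  rw [hσ, MulAut.one_apply] at h
  exact (mul_eq_left.mp h.symm)

/-- the norm is multiplicative on commuting families -/
theorem Nm_mul (σ : MulAut L) {a b : L}
    (hcomm : ∀ i j : ℕ, (σ ^ i) a * (σ ^ j) b = (σ ^ j) b * (σ ^ i) a) (k : ℕ) :
    Nm σ k (a * b) = Nm σ k a * Nm σ k b := by
  -- first: Nm σ k b commutes with (σ^i) a
  have hcb : ∀ (k i : ℕ), (σ ^ i) a * Nm σ k b = Nm σ k b * (σ ^ i) a := by
    intro k
    induction k with
    | zero => intro i; simp
    | succ k ih =>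
      intro i
      rw [Nm_succ, ← mul_assoc, ih i, mul_assoc, hcomm i k, ← mul_assoc]
  induction k with
  | zero => simp
  | succ k ih =>
    rw [Nm_succ, Nm_succ, Nm_succ, ih, map_mul]
    calc Nm σ k a * Nm σ k b * ((σ ^ k) a * (σ ^ k) b)
        = Nm σ k a * (Nm σ k b * (σ ^ k) a) * (σ ^ k) b := by group
      _ = Nm σ k a * ((σ ^ k) a * Nm σ k b) * (σ ^ k) b := by rw [hcb k k]
      _ = Nm σ k a * (σ ^ k) a * (Nm σ k b * (σ ^ k) b) := by group

/-- the norm of an element on which `σ` acts as the `l`-th power map -/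
theorem Nm_pow_map (σ : MulAut L) {c : L} {l : ℕ} (h : ∀ t : ℕ, σ (c ^ t) = (c ^ t) ^ l) (k : ℕ) :
    Nm σ k c = c ^ geomSum l k := by
  have hpow : ∀ i : ℕ, (σ ^ i) c = c ^ l ^ i := by
    intro i
    induction i with
    | zero => simp
    | succ i ih =>
      rw [pow_succ', MulAut.mul_apply, ih, h, ← pow_mul, ← pow_succ]
  induction k with
  | zero => simp [geomSum]
  | succ k ih =>
    rw [Nm_succ, ih, hpow, geomSum_succ, pow_add]

/-- A4b: the norm formula in a class-3 situation. -/
theorem Nm_formula (σ : MulAut L) {y w u c : L} (hy : σ y = y * w) (hw : σ w = w * u) (hu : σ u = u)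
    (hwu : w * u = u * w) (hcw : c * w = w * c) (hcu : c * u = u * c)
    (hcy : c * y = y * c) (huy : u * y = y * u) (hwy : w * y = y * w * c) (k : ℕ) :
    Nm σ k y = y ^ k * w ^ (k.choose 2) * u ^ (k.choose 3) * c ^ (k.choose 3) := by
  have hWU : Commute w u := hwu
  have hCW : Commute c w := hcw
  have hCU : Commute c u := hcu
  have hCY : Commute c y := hcy
  have hUY : Commute u y := huy
  -- σ^i u = u, σ^i w = w u^i, σ^i y = y w^i u^(i choose 2)
  have hpu : ∀ i : ℕ, (σ ^ i) u = u := by
    intro i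
    induction i with
    | zero => simp
    | succ i ih => rw [pow_succ', MulAut.mul_apply, ih, hu]
  have hpw : ∀ i : ℕ, (σ ^ i) w = w * u ^ i := by
    intro i
    induction i with
    | zero => simp
    | succ i ih =>
      rw [pow_succ', MulAut.mul_apply, ih, map_mul, map_pow, hw, hu, pow_succ]
      group
  have hpy : ∀ i : ℕ, (σ ^ i) y = y * w ^ i * u ^ (i.choose 2) := by
    intro i
    induction i with
    | zero => simp
    | succ i ih =>
      rw [pow_succ', MulAut.mul_apply, ih, map_mul, map_mul, map_pow, map_pow, hy, hw, hu]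
      have h1 : (w * u) ^ i = w ^ i * u ^ i := hWU.mul_pow i
      have h2 : (i + 1).choose 2 = i + i.choose 2 := by
        rw [Nat.choose_succ_succ', Nat.choose_one_right]
      rw [h1, h2, pow_succ, pow_add]
      have h3 : Commute (w ^ i) w := (Commute.refl w).pow_left i
      calc y * w * (w ^ i * u ^ i) * u ^ i.choose 2
          = y * (w * w ^ i) * (u ^ i * u ^ i.choose 2) := by group
        _ = y * (w ^ i * w) * (u ^ i * u ^ i.choose 2) := by rw [h3.eq]
  -- w^j y = y w^j c^j
  have hwjy : ∀ j : ℕ, w ^ j * y = y * w ^ j * c ^ j := by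
    intro j
    induction j with
    | zero => simp
    | succ j ih =>
      have hcwj : Commute c (w ^ j) := hCW.pow_right j
      calc w ^ (j + 1) * y = w ^ j * (w * y) := by rw [pow_succ]; group
        _ = w ^ j * (y * w * c) := by rw [hwy]
        _ = (w ^ j * y) * w * c := by group
        _ = (y * w ^ j * c ^ j) * w * c := by rw [ih]
        _ = y * w ^ j * (c ^ j * w) * c := by group
        _ = y * w ^ j * (w * c ^ j) * c := by rw [(hCW.pow_left j).eq]
        _ = y * w ^ (j + 1) * c ^ (j + 1) := by rw [pow_succ, pow_succ]; group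
  induction k with
  | zero => simp
  | succ k ih =>
    rw [Nm_succ, ih, hpy]
    have e2 : (k + 1).choose 2 = k.choose 2 + k := by
      rw [Nat.choose_succ_succ', Nat.choose_one_right, add_comm]
    have e3 : (k + 1).choose 3 = k.choose 3 + k.choose 2 := by
      rw [Nat.choose_succ_succ', add_comm]
    rw [e2, e3, pow_succ y k, pow_add w, pow_add u, pow_add c]
    -- abbreviations
    set A := w ^ k.choose 2 with hA
    set B := u ^ k.choose 3 with hB
    set C := c ^ k.choose 3 with hC
    set D := u ^ k.choose 2 with hD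
    set C' := c ^ k.choose 2 with hC'
    have hAy : A * y = y * A * C' := hwjy (k.choose 2)
    have hBy : Commute B y := hUY.pow_left _
    have hCy : Commute C y := hCY.pow_left _
    have hBw : Commute B (w ^ k) := (hWU.symm.pow_left _).pow_right _
    have hCw : Commute C (w ^ k) := (hCW.pow_left _).pow_right _
    have hC'w : Commute C' (w ^ k) := (hCW.pow_left _).pow_right _
    have hCD : Commute C D := (hCU.pow_left _).pow_right _
    have hC'B : Commute C' B := (hCU.pow_left _).pow_right _
    have hC'C : Commute C' C := ((Commute.refl c).pow_left _).pow_right _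
    have hC'D : Commute C' D := (hCU.pow_left _).pow_right _
    have hBD : Commute B D := ((Commute.refl u).pow_left _).pow_right _
    calc y ^ k * A * B * C * (y * w ^ k * D)
        = y ^ k * A * B * (C * y) * w ^ k * D := by group
      _ = y ^ k * A * B * (y * C) * w ^ k * D := by rw [hCy.eq]
      _ = y ^ k * A * (B * y) * C * w ^ k * D := by group
      _ = y ^ k * A * (y * B) * C * w ^ k * D := by rw [hBy.eq]
      _ = y ^ k * (A * y) * B * C * w ^ k * D := by group
      _ = y ^ k * (y * A * C') * B * C * w ^ k * D := by rw [hAy]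
      _ = y ^ k * y * A * (C' * B) * C * w ^ k * D := by group
      _ = y ^ k * y * A * (B * C') * C * w ^ k * D := by rw [hC'B.eq]
      _ = y ^ k * y * A * B * (C' * C) * w ^ k * D := by group
      _ = y ^ k * y * A * B * (C * C') * w ^ k * D := by rw [hC'C.eq]
      _ = y ^ k * y * A * B * C * (C' * w ^ k) * D := by group
      _ = y ^ k * y * A * B * C * (w ^ k * C') * D := by rw [hC'w.eq]
      _ = y ^ k * y * A * B * (C * w ^ k) * C' * D := by group
      _ = y ^ k * y * A * B * (w ^ k * C) * C' * D := by rw [hCw.eq]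
      _ = y ^ k * y * A * (B * w ^ k) * C * C' * D := by group
      _ = y ^ k * y * A * (w ^ k * B) * C * C' * D := by rw [hBw.eq]
      _ = y ^ k * y * (A * w ^ k) * B * C * (C' * D) := by group
      _ = y ^ k * y * (A * w ^ k) * B * C * (D * C') := by rw [hC'D.eq]
      _ = y ^ k * y * (A * w ^ k) * B * (C * D) * C' := by group
      _ = y ^ k * y * (A * w ^ k) * B * (D * C) * C' := by rw [hCD.eq]
      _ = y ^ k * y * (A * w ^ k) * (B * D) * (C * C') := by group

end Cfsg.Agent.Lib.H26.MC3
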