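import Cfsg.Agent.Lib.H15.S3814C2Defs
import Cfsg.Agent.Lib.H21.S3814FactA

/-!
# S3814, Case 2', pieces (3) NPGood and (4) NPMixed (helper26)

Both are helper21's landed FACT A bricks (`Lib/H21/S3814FactA`) in the shape of helper15's sub-cut.
-/

set_option autoImplicit false

namespace Cfsg.Agent.Lib.H26.S3814C2NP

open Cfsg.Agent.H7.S3814Defs Cfsg.Agent.H15.S3814C2

universe u

/-- `NormalPrime K c m` gives `K ≤ N(⟨m⟩)` -/
theorem normalizer_of_normalPrime {G : Type u} [Group G] {K : Subgroup G} {c : ℕ} {m : G}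
    (h : NormalPrime K c m) :
    K ≤ Subgroup.normalizer ((Subgroup.zpowers m : Subgroup G) : Set G) := by
  obtain ⟨-, -, -, hn⟩ := h
  have key : ∀ k ∈ K, ∀ x ∈ Subgroup.zpowers m, k * x * k⁻¹ ∈ Subgroup.zpowers m := by
    intro k hk x hx
    obtain ⟨i, rfl⟩ := Subgroup.mem_zpowers_iff.mp hx
    have h1 : k * m * k⁻¹ ∈ Subgroup.zpowers m := by
      have := hn k⁻¹ (K.inv_mem hk)
      simpa using this
    have h2 : k * m ^ i * k⁻¹ = (k * m * k⁻¹) ^ i := conj_zpow.symm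
    rw [h2]
    exact Subgroup.zpow_mem _ h1 i
  intro k hk
  rw [Subgroup.mem_normalizer_iff]
  intro x
  constructor
  · exact key k hk x
  · intro hx
    have := key k⁻¹ (K.inv_mem hk) _ hx
    have e : k⁻¹ * (k * x * k⁻¹) * k⁻¹⁻¹ = x := by group
    rwa [e] at this

theorem npGood : NPGoodStmt.{u} := by
  intro G _ σ p V K hctx c m hnp y hyK hyp hym
  have := hctx.cex.fin
  have hmn := normalizer_of_normalPrime hnp
  obtain ⟨hc, hmK, hm, -⟩ := hnp
  have hcσ := hctx.facts.primes c hc (hm ▸ Cfsg.Agent.Lib.H21.S3814FactA.orderOf_dvd_card hmK)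
  exact Cfsg.Agent.Lib.H21.S3814FactA.good_of_not_comm hctx.shape
    (hctx.cex.prime p hctx.shape.hp) hc hcσ.2 hmK hm hmn hyp hyK rfl (fun h => hym h)

theorem npMixed : NPMixedStmt.{u} := by
  intro G _ σ p V K hctx c m hnp a b haσ hbσ _ _ hac hbc hab u huK w hwK hu hw huw
  have := hctx.cex.fin
  have hmn := normalizer_of_normalPrime hnp
  obtain ⟨hc, hmK, hm, -⟩ := hnp
  have ha : a.Prime := hctx.cex.prime a haσ
  have hb : b.Prime := hctx.cex.prime b hbσ
  rcases Cfsg.Agent.Lib.H21.S3814FactA.fact_a hctx.cex hctx.shape hctx.facts hc hmK hm hmn ha hb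
    hab hac hbc huK hwK hu hw huw.eq with ⟨h1, h2, h3⟩ | ⟨h1, h2, h3⟩
  · exact Or.inl ⟨h1, fun h => h2 h.eq, h3⟩
  · exact Or.inr ⟨fun h => h1 h.eq, h2, h3⟩

example : NPGoodStmt.{0} := npGood
example : NPMixedStmt.{0} := npMixed

end Cfsg.Agent.Lib.H26.S3814C2NP
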