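/-
S5663 project (Aschbacher, unitary case), module UM8 (helper16), piece UM83-B (helper26):
a non-zero hermitian matrix on the `t`-fold tensor power that is invariant under `S` acting in one slot
gives a non-zero hermitian `S`-invariant matrix on that slot.
-/
import Cfsg.Agent.Lib.H16.AschM83Defs
import Cfsg.Agent.Lib.H21.AschM83C

set_option autoImplicit false

namespace Cfsg.Agent.Lib.H26.Asch

open Cfsg.Agent.Lib.H16.Asch Cfsg.Agent.Lib.H21.Asch
open scoped Matrix

/-- matrix product with the `Matrix` instance pinned (non-square products otherwise elaborate to the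
`CStarMatrix` default instance) -/
local notation:70 A:70 " ⬝ₘ " B:71 =>
  @HMul.hMul (Matrix _ _ _) (Matrix _ _ _) (Matrix _ _ _) Matrix.instHMulOfFintypeOfMulOfAddCommMonoid A B

variable {F : Type*} [Field F] {m t : ℕ}

/-- the embedding of slot `i0` at the point `r` (columns `a ↦ e_{r[i0 := a]}`) -/
def slotE (i0 : Fin t) (r : Fin t → Fin m) : Matrix (Fin t → Fin m) (Fin m) F :=
  fun x a => if x = Function.update r i0 a then 1 else 0

theorem slotE_map (τ : F →+* F) (i0 : Fin t) (r : Fin t → Fin m) :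
    (slotE (F := F) i0 r).map τ = slotE i0 r := by
  ext x a
  simp only [Matrix.map_apply, slotE]
  split_ifs <;> simp

theorem posEmb_mul_slotE (i0 : Fin t) (r : Fin t → Fin m) (s : Matrix (Fin m) (Fin m) F) :
    posEmb i0 s ⬝ₘ slotE i0 r = slotE i0 r ⬝ₘ s := by
  ext x a
  rw [Matrix.mul_apply, Matrix.mul_apply]
  have hL : ∑ y, posEmb i0 s x y * slotE (F := F) i0 r y a = posEmb i0 s x (Function.update r i0 a) := by
    simp only [slotE, mul_ite, mul_one, mul_zero]
    rw [Finset.sum_ite_eq']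
    simp
  rw [hL, posEmb_def, pureT_update_apply, Function.update_self]
  by_cases h : ∀ j, j ≠ i0 → x j = r j
  · have hx : x = Function.update r i0 (x i0) := by
      funext j
      by_cases hj : j = i0
      · subst hj; simp
      · rw [Function.update_of_ne hj]; exact h j hj
    have hprod : ∏ j ∈ Finset.univ.erase i0,
        (1 : Matrix (Fin m) (Fin m) F) (x j) (Function.update r i0 a j) = 1 := by
      refine Finset.prod_eq_one fun j hj => ?_
      have hj' := Finset.ne_of_mem_erase hj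
      rw [Function.update_of_ne hj', h j hj', Matrix.one_apply_eq]
    rw [hprod, mul_one]
    rw [Finset.sum_eq_single (x i0)]
    · simp only [slotE]
      rw [if_pos hx, one_mul]
    · intro c _ hc
      simp only [slotE]
      rw [if_neg, zero_mul]
      intro hxc
      apply hc
      have := congrFun hxc i0
      rw [Function.update_self] at this
      exact this.symm
    · intro hnm; exact absurd (Finset.mem_univ _) hnm
  · push Not at h
    obtain ⟨j, hj, hne⟩ := h
    have hprod : ∏ j ∈ Finset.univ.erase i0,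
        (1 : Matrix (Fin m) (Fin m) F) (x j) (Function.update r i0 a j) = 0 := by
      refine Finset.prod_eq_zero (Finset.mem_erase.mpr ⟨hj, Finset.mem_univ j⟩) ?_
      rw [Function.update_of_ne hj]
      exact Matrix.one_apply_ne hne
    rw [hprod, mul_zero]
    symm
    refine Finset.sum_eq_zero fun c _ => ?_
    simp only [slotE]
    rw [if_neg, zero_mul]
    intro hxc
    apply hne
    have := congrFun hxc j
    rw [Function.update_of_ne hj] at this
    exact this

theorem slotE_block_apply (i0 : Fin t) (r r' : Fin t → Fin m)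
    (M : Matrix (Fin t → Fin m) (Fin t → Fin m) F) (a b : Fin m) :
    (((slotE i0 r)ᵀ ⬝ₘ M) ⬝ₘ slotE i0 r') a b =
      M (Function.update r i0 a) (Function.update r' i0 b) := by
  rw [Matrix.mul_apply]
  simp only [slotE, mul_ite, mul_one, mul_zero]
  rw [Finset.sum_ite_eq']
  simp only [Finset.mem_univ, if_true]
  rw [Matrix.mul_apply]
  simp only [Matrix.transpose_apply, slotE, ite_mul, one_mul, zero_mul]
  rw [Finset.sum_ite_eq']
  simp

/-- the block of `M` at `(r, r')` in slot `i0` -/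
def slotBlock (i0 : Fin t) (r r' : Fin t → Fin m) (M : Matrix (Fin t → Fin m) (Fin t → Fin m) F) :
    Matrix (Fin m) (Fin m) F :=
  ((slotE i0 r)ᵀ ⬝ₘ M) ⬝ₘ slotE i0 r'

theorem slotBlock_apply (i0 : Fin t) (r r' : Fin t → Fin m)
    (M : Matrix (Fin t → Fin m) (Fin t → Fin m) F) (a b : Fin m) :
    slotBlock i0 r r' M a b = M (Function.update r i0 a) (Function.update r' i0 b) :=
  slotE_block_apply i0 r r' M a b

theorem slotBlock_invariant (τ : F →+* F) (i0 : Fin t) (r r' : Fin t → Fin m)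
    (M : Matrix (Fin t → Fin m) (Fin t → Fin m) F) (s : Matrix (Fin m) (Fin m) F)
    (hinv : (posEmb i0 s)ᵀ * M * (posEmb i0 s).map τ = M) :
    sᵀ * slotBlock i0 r r' M * s.map τ = slotBlock i0 r r' M := by
  have h1 : sᵀ ⬝ₘ (slotE (F := F) i0 r)ᵀ = (slotE i0 r)ᵀ ⬝ₘ (posEmb i0 s)ᵀ := by
    rw [← Matrix.transpose_mul, ← Matrix.transpose_mul, posEmb_mul_slotE]
  have h2 : slotE (F := F) i0 r' ⬝ₘ s.map τ = (posEmb i0 s).map τ ⬝ₘ slotE i0 r' := by
    have := congrArg (fun X => X.map τ) (posEmb_mul_slotE (F := F) i0 r' s)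
    simp only [Matrix.map_mul, slotE_map] at this
    exact this.symm
  unfold slotBlock
  calc sᵀ ⬝ₘ (((slotE i0 r)ᵀ ⬝ₘ M) ⬝ₘ slotE i0 r') ⬝ₘ s.map τ
      = ((sᵀ ⬝ₘ (slotE i0 r)ᵀ) ⬝ₘ M) ⬝ₘ (slotE i0 r' ⬝ₘ s.map τ) := by
        simp only [Matrix.mul_assoc]
    _ = ((slotE i0 r)ᵀ ⬝ₘ (((posEmb i0 s)ᵀ ⬝ₘ M) ⬝ₘ (posEmb i0 s).map τ)) ⬝ₘ slotE i0 r' := by
        rw [h1, h2]; simp only [Matrix.mul_assoc]
    _ = ((slotE i0 r)ᵀ ⬝ₘ M) ⬝ₘ slotE i0 r' := by rw [hinv]

theorem slotBlock_herm (τ : F →+* F) (hτ2 : ∀ a, τ (τ a) = a) (i0 : Fin t) (r r' : Fin t → Fin m)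
    (M : Matrix (Fin t → Fin m) (Fin t → Fin m) F) (hherm : (M.map τ)ᵀ = M) :
    ((slotBlock i0 r r' M).map τ)ᵀ = slotBlock i0 r' r M := by
  ext a b
  rw [Matrix.transpose_apply, Matrix.map_apply, slotBlock_apply, slotBlock_apply]
  have h := congrFun (congrFun hherm (Function.update r i0 b)) (Function.update r' i0 a)
  rw [Matrix.transpose_apply, Matrix.map_apply] at h
  rw [← h, hτ2]

/-- **UM83-B**. -/
theorem exists_herm_block (τ : F →+* F) (hτ2 : ∀ a, τ (τ a) = a)
    (hτne : ∃ a, τ a ≠ a) (i0 : Fin t) (S : Set (Matrix (Fin m) (Fin m) F))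
    (M : Matrix (Fin t → Fin m) (Fin t → Fin m) F) (hM : M ≠ 0) (hherm : (M.map τ)ᵀ = M)
    (hinv : ∀ s ∈ S, (posEmb i0 s)ᵀ * M * (posEmb i0 s).map τ = M) :
    ∃ B : Matrix (Fin m) (Fin m) F, B ≠ 0 ∧ (B.map τ)ᵀ = B ∧ ∀ s ∈ S, sᵀ * B * s.map τ = B := by
  obtain ⟨x, y, hxy⟩ : ∃ x y, M x y ≠ 0 := by
    by_contra hcon
    push Not at hcon
    exact hM (Matrix.ext hcon)
  obtain ⟨lam, hlam⟩ := hτne
  set B1 := slotBlock i0 x y M with hB1
  set B2 := slotBlock i0 y x M with hB2
  have hB1ne : B1 ≠ 0 := by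
    intro h0
    apply hxy
    have := congrFun (congrFun h0 (x i0)) (y i0)
    rw [hB1, slotBlock_apply, Function.update_eq_self, Function.update_eq_self] at this
    exact this
  have h12 : (B1.map τ)ᵀ = B2 := slotBlock_herm τ hτ2 i0 x y M hherm
  have h21 : (B2.map τ)ᵀ = B1 := slotBlock_herm τ hτ2 i0 y x M hherm
  have hi1 : ∀ s ∈ S, sᵀ * B1 * s.map τ = B1 := fun s hs =>
    slotBlock_invariant τ i0 x y M s (hinv s hs)
  have hi2 : ∀ s ∈ S, sᵀ * B2 * s.map τ = B2 := fun s hs =>
    slotBlock_invariant τ i0 y x M s (hinv s hs)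
  by_cases hC1 : B1 + B2 = 0
  · -- use `C₂ = λ • B1 + τ λ • B2`
    refine ⟨lam • B1 + τ lam • B2, ?_, ?_, ?_⟩
    · intro h0
      have hB2 : B2 = -B1 := by
        rw [eq_neg_iff_add_eq_zero, add_comm]; exact hC1
      rw [hB2, smul_neg, ← sub_eq_add_neg, ← sub_smul] at h0
      rcases smul_eq_zero.mp h0 with h | h
      · exact hlam (sub_eq_zero.mp h).symm
      · exact hB1ne h
    · ext a b
      have e1 := congrFun (congrFun h12 a) b
      have e2 := congrFun (congrFun h21 a) b
      simp only [Matrix.transpose_apply, Matrix.map_apply] at e1 e2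
      simp only [Matrix.transpose_apply, Matrix.map_apply, Matrix.add_apply, Matrix.smul_apply,
        smul_eq_mul, map_add, map_mul, hτ2, e1, e2]
      ring
    · intro s hs
      rw [Matrix.mul_add, Matrix.add_mul, Matrix.mul_smul, Matrix.smul_mul, Matrix.mul_smul,
        Matrix.smul_mul, hi1 s hs, hi2 s hs]
  · refine ⟨B1 + B2, hC1, ?_, ?_⟩
    · ext a b
      have e1 := congrFun (congrFun h12 a) b
      have e2 := congrFun (congrFun h21 a) b
      simp only [Matrix.transpose_apply, Matrix.map_apply] at e1 e2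
      simp only [Matrix.transpose_apply, Matrix.map_apply, Matrix.add_apply, map_add, e1, e2]
      ring
    · intro s hs
      rw [Matrix.mul_add, Matrix.add_mul, hi1 s hs, hi2 s hs]

end Cfsg.Agent.Lib.H26.Asch
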