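/-
S5663 project (Aschbacher, unitary case), module UM8 (helper16), piece UM8.2 (helper26):
the case of one component (t = 1): class 5 or the unitary residual class.
Adapted from the linear M8.2 of helper22 (Lib/H22/AschM82.lean).
-/
import Cfsg.Agent.Lib.H22.AschM82
import Cfsg.Agent.Lib.Lead.AschUDefs
import Cfsg.Agent.Lib.H25.AschUT5
import Cfsg.Agent.Lib.H25.AschUT5p

set_option autoImplicit false

namespace Cfsg.Agent.Lib.H26.Asch

open Cfsg Cfsg.Geo Cfsg.Agent.Lib.Lead.Asch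
open scoped MatrixGroups Matrix Kronecker

variable {F : Type*} [Field F] [Fintype F] {n q : ℕ}

/-- a non-degenerate bilinear form fixed by a set of matrices gives a non-zero matrix `B` with
`gᵀ B g = B`. -/
theorem exists_bilin_matrix_of_fixes (hn : 0 < n) (S : Set (Matrix (Fin n) (Fin n) F))
    (f : (Fin n → F) → (Fin n → F) → F) (hf : IsBilinearForm f) (hnd : IsNondegenerateForm f)
    (hfix : FixesForm S f) :
    ∃ B : Matrix (Fin n) (Fin n) F, B ≠ 0 ∧ ∀ g ∈ S, gᵀ * B * g = B := by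
  obtain ⟨B, hB⟩ := Cfsg.Agent.Lib.H6.Asch.exists_rep_of_bilinear f hf
  refine ⟨B, ?_, ?_⟩
  · intro h0
    have hdet := Cfsg.Agent.Lib.H6.Asch.Rep.isUnit_det hB hnd
    haveI : Nonempty (Fin n) := ⟨⟨0, hn⟩⟩
    rw [h0, Matrix.det_zero] at hdet
    exact not_isUnit_zero hdet
  · intro g hg
    have h1 := Cfsg.Agent.Lib.H6.Asch.Rep.matrix_eq hB g 1 (fun u v => by rw [hfix g hg, one_mul])
    rw [one_smul] at h1
    have h2 : g.map (RingHom.id F) = g := by
      ext i j; simp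
    rwa [h2] at h1

/-- **UM8.2** (t = 1: residual class or class 5). -/
theorem uresidual_of_components_one (hF : Fintype.card F = q ^ 2) (hn : 3 ≤ n)
    (H : Subgroup (GL (Fin n) F)) (hH : H ≤ GU n F q) (hgood : Good H)
    (L : Fin 1 → Subgroup (GL (Fin n) F)) (hL : Components H 1 L) :
    UC5 q H ∨ InUnitaryResidualClass H := by
  have hnorm : NormalizedBy H (L 0) := by
    intro h hh x hx
    obtain ⟨σ, hσ⟩ := hL.perm h hh
    have h0 : σ 0 = 0 := Subsingleton.elim _ _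
    have h1 := hσ 0
    rw [h0] at h1
    rw [← h1]
    exact ⟨x, hx, by simp [MulAut.conj_apply]⟩
  have habs : ActsAbsolutelyIrreducibly (matrixSet (L 0)) := by
    rcases hgood.star (L 0) (hL.le 0) hnorm with h | h
    · exact absurd h (hL.not_scal 0)
    · exact h
  by_cases hreal : ∃ F₀ : Subfield F, F₀ ≠ ⊤ ∧ RealisableOver F₀ (matrixSet (L 0))
  · obtain ⟨F₀, hne, hr⟩ := hreal
    exact Or.inl (Cfsg.Agent.Lib.H25.Asch.uc5_of_realisable hF (by omega) H (L 0) hH (hL.le 0)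
      hnorm habs F₀ hne hr)
  by_cases hq : ∃ Q : (Fin n → F) → F, IsNondegenerateQuadraticForm Q ∧
      FixesQuadForm (matrixSet (L 0)) Q
  · obtain ⟨Q, hQ, hfix⟩ := hq
    obtain ⟨B, hB0, hB⟩ := exists_bilin_matrix_of_fixes (by omega) (matrixSet (L 0))
      (QuadraticMap.polar Q) hQ.polar_bilinear hQ.nondegenerate
      (Cfsg.Agent.Lib.H6.Asch.fixesForm_polar _ Q hfix)
    exact Or.inl (Or.inr (Cfsg.Agent.Lib.H25.Asch.uc5_of_fixes_bilin hF (by omega) H (L 0) hH
      (hL.le 0) hnorm habs B hB0 hB))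
  by_cases hs : ∃ f : (Fin n → F) → (Fin n → F) → F, IsSymplecticForm f ∧
      FixesForm (matrixSet (L 0)) f
  · obtain ⟨f, hf, hfix⟩ := hs
    obtain ⟨B, hB0, hB⟩ := exists_bilin_matrix_of_fixes (by omega) (matrixSet (L 0))
      f hf.bilinear hf.nondegenerate hfix
    exact Or.inl (Or.inr (Cfsg.Agent.Lib.H25.Asch.uc5_of_fixes_bilin hF (by omega) H (L 0) hH
      (hL.le 0) hnorm habs B hB0 hB))
  refine Or.inr ⟨L 0, ⟨hL.le 0, hnorm, hL.perfect 0, hL.simple 0, hL.nonab 0, ?_, habs, ?_⟩,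
    hq, hs⟩
  · intro h _ hcomm
    apply Cfsg.Agent.Lib.H3.Asch.mem_scalars_of_absIrr_of_commute (L 0) habs h
    exact Cfsg.Agent.Lib.H22.Asch.m82_commute_of_perfect (L 0) (scalars (Fin n) F)
      (fun z hz g => Cfsg.Agent.Lib.H22.Asch.m82_scalars_comm z g hz) (hL.perfect 0) h hcomm
  · intro F₀ hne hr
    exact hreal ⟨F₀, hne, hr⟩

end Cfsg.Agent.Lib.H26.Asch
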