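import Mathlib
import Cfsg.Prelude.Def_FusionSystem
import Cfsg.Agent.Lib.H25.Fusion
import Cfsg.Agent.Lib.H26.FusionInner

set_option autoImplicit false

/-!
Saturated fusion systems over an abelian group `S` (helper26): every map of the system is the
restriction of an element of `Aut_F(S)`, and `Aut_F(S)` has order prime to `p`.
-/

namespace Cfsg.Agent.Lib.H26

open Cfsg Cfsg.FusionSystem Cfsg.Agent.Lib.H25

variable {Ω : Type*} [Group Ω] {S : Subgroup Ω}

/-- In function-level form: a receptive target lets us extend to the extender. -/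
theorem receptive_isIso {F : FusionSystem S} {Q : Subgroup Ω} (hQ : F.IsReceptive Q)
    {P : Subgroup Ω} {φ : P →* Ω} (hφ : φ ∈ F.Hom P) (hr : φ.range = Q) :
    ∃ (R : Subgroup Ω) (f' : Ω → Ω), IsIso F (extender S P φ) R f' ∧ ∀ x : P, f' x = φ x := by
  obtain ⟨ψ, hψ, hψφ⟩ := hQ.2 P φ hφ hr
  refine ⟨ψ.range, ext1 ψ, isIso_of_mem F hψ, fun x => ?_⟩
  have hxN : (x : Ω) ∈ extender S P φ := le_extender F hφ x.2
  rw [ext1_apply_mem ψ hxN]
  exact hψφ x x.2 hxN

/-- An isomorphism of the system from a finite `S` into `S` is onto `S`. -/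
theorem isIso_top_range [Finite S] {F : FusionSystem S} {R : Subgroup Ω} {f : Ω → Ω}
    (h : IsIso F S R f) : R = S := by
  have hRS : R ≤ S := h.le_right
  obtain ⟨φ, hφ, -, rfl⟩ := h
  apply Subgroup.eq_of_le_of_card_ge hRS
  have hinj := F.injective_of_mem hφ
  exact le_of_eq (Nat.card_congr (MonoidHom.ofInjective hinj).toEquiv)

/-- For abelian `S` the extender of any map defined on a subgroup of `S` is all of `S`. -/
theorem extender_eq_of_comm (hab : ∀ x ∈ S, ∀ y ∈ S, x * y = y * x) {P : Subgroup Ω}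
    (hP : P ≤ S) (φ : P →* Ω) : extender S P φ = S := by
  apply le_antisymm
  · intro g hg
    exact ((mem_extender_iff S P φ g).1 hg).1
  · intro g hg
    rw [mem_extender_iff]
    have hconj : ∀ x ∈ S, g * x * g⁻¹ = x := by
      intro x hx
      rw [hab g hg x hx]; group
    refine ⟨hg, ?_, 1, S.one_mem, ?_⟩
    · rw [Subgroup.mem_normalizer_iff]
      intro x
      constructor
      · intro hx
        rw [hconj x (hP hx)]; exact hx
      · intro hx
        have h1 := hconj _ (hP hx)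
        have h3 : g * x * g⁻¹ = x := mul_left_cancel (mul_right_cancel h1)
        rw [← h3]; exact hx
    · intro x hx
      have : (⟨g * (x : Ω) * g⁻¹, hx⟩ : P) = x := Subtype.ext (hconj x (hP x.2))
      rw [this]; simp

/-- **Theorem A.** In a saturated fusion system over a finite abelian `S`, every map is the
restriction of an `F`-automorphism of `S` (function-level form). -/
theorem exists_isIso_top_of_comm [Finite S] (F : FusionSystem S) (p : ℕ)
    (hF : F.IsSaturated p) (hab : ∀ x ∈ S, ∀ y ∈ S, x * y = y * x) {P : Subgroup Ω}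
    {φ : P →* Ω} (hφ : φ ∈ F.Hom P) :
    ∃ f : Ω → Ω, IsIso F S S f ∧ ∀ x : P, f x = φ x := by
  have hP : P ≤ S := hom_le F hφ
  obtain ⟨Q, ⟨χ, hχ, hχr⟩, -, hQrec⟩ := hF P hP
  -- extend χ to S
  obtain ⟨R₁, f₁, hf₁, hf₁χ⟩ := receptive_isIso hQrec hχ hχr
  rw [extender_eq_of_comm hab hP χ] at hf₁
  have hR₁ := isIso_top_range hf₁
  rw [hR₁] at hf₁
  -- θ = χ ∘ φ⁻¹ : φ(P) → Q
  have hφiso : IsIso F P φ.range (ext1 φ) := isIso_of_mem F hφ
  obtain ⟨g, hg, hgφ, -⟩ := hφiso.symm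
  have hχiso : IsIso F P Q (ext1 χ) := ⟨χ, hχ, fun x => (ext1_apply χ x).symm, hχr⟩
  obtain ⟨θ, hθ, hθf, hθr⟩ := (hg.trans hχiso).exists_hom
  obtain ⟨R₂, f₂, hf₂, hf₂θ⟩ := receptive_isIso hQrec hθ hθr
  rw [extender_eq_of_comm hab (range_le_S F hφ) θ] at hf₂
  have hR₂ := isIso_top_range hf₂
  rw [hR₂] at hf₂
  obtain ⟨g₂, hg₂, hg₂f₂, -⟩ := hf₂.symm
  refine ⟨g₂ ∘ f₁, hf₁.trans hg₂, fun x => ?_⟩
  show g₂ (f₁ x) = φ x
  have h1 : f₁ x = χ x := hf₁χ x
  have h2 : f₂ (φ x) = χ x := by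
    have := hf₂θ ⟨φ x, ⟨x, rfl⟩⟩
    rw [this, hθf]
    show ext1 χ (g (φ x)) = χ x
    have h3 : g (φ x) = x := by
      have := hgφ x x.2
      rwa [ext1_apply φ x] at this
    rw [h3, ext1_apply]
  rw [h1, ← h2]
  exact hg₂f₂ _ (hom_mem_S F hφ x)

/-- **Theorem A**, automorphism form. -/
theorem exists_aut_extension_of_comm [Finite S] (F : FusionSystem S) (p : ℕ)
    (hF : F.IsSaturated p) (hab : ∀ x ∈ S, ∀ y ∈ S, x * y = y * x) {P : Subgroup Ω}
    {φ : P →* Ω} (hφ : φ ∈ F.Hom P) :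
    ∃ α ∈ F.autGroup S, ∀ x : P, ((α ⟨x, hom_le F hφ x.2⟩ : S) : Ω) = φ x := by
  obtain ⟨f, hf, hfφ⟩ := exists_isIso_top_of_comm F p hF hab hφ
  obtain ⟨α, hα, hαf⟩ := exists_mem_autGroup_of_isIso F hf
  exact ⟨α, hα, fun x => (hαf ⟨x, hom_le F hφ x.2⟩).trans (hfφ x)⟩

/-- For abelian `S`, `Aut_S(P)` is trivial. -/
theorem autInducedBy_eq_bot_of_comm (hab : ∀ x ∈ S, ∀ y ∈ S, x * y = y * x) {P : Subgroup Ω}
    (hP : P ≤ S) : autInducedBy S P = ⊥ := by
  rw [eq_bot_iff]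
  intro α hα
  obtain ⟨g, hg, hα⟩ := (mem_autInducedBy_iff S P α).1 hα
  rw [Subgroup.mem_bot]
  ext x
  rw [hα x, hab g hg x (hP x.2)]
  simp

/-- In a saturated fusion system over a finite abelian `S`, `Aut_F(S)` has order prime to `p`. -/
theorem card_autGroup_top_coprime_of_comm [Finite S] (F : FusionSystem S) (p : ℕ) [Fact p.Prime]
    (hF : F.IsSaturated p) (hab : ∀ x ∈ S, ∀ y ∈ S, x * y = y * x) :
    (Nat.card (F.autGroup S)).Coprime p := by
  obtain ⟨Q, ⟨χ, hχ, hχr⟩, ⟨hQS, R, hR⟩, -⟩ := hF S le_rfl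
  have hQ : Q = S := isIso_top_range ⟨χ, hχ, fun x => (ext1_apply χ x).symm, hχr⟩
  subst hQ
  rw [autInducedBy_eq_bot_of_comm hab le_rfl] at hR
  have hRbot : (R : Subgroup (F.autGroup Q)) = ⊥ := by
    rw [hR]; exact Subgroup.bot_subgroupOf _
  have hfin : Finite (F.autGroup Q) := inferInstance
  have hcard : Nat.card (R : Subgroup (F.autGroup Q)) = 1 := by
    rw [hRbot]; exact Subgroup.card_bot
  have hidx := R.card_coprime_index
  have hp : p.Prime := Fact.out
  rw [Nat.coprime_comm, Nat.Prime.coprime_iff_not_dvd hp]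
  intro hdvd
  have h1 := R.dvd_card_of_dvd_card hdvd
  rw [hcard] at h1
  exact hp.one_lt.ne' (Nat.dvd_one.mp h1)

end Cfsg.Agent.Lib.H26

namespace Cfsg.Agent.Lib.H26

open Cfsg Cfsg.FusionSystem Cfsg.Agent.Lib.H25

variable {Ω : Type*} [Group Ω] {S : Subgroup Ω}

/-- An isomorphism of the system restricts to an automorphism of a finite strongly closed
subgroup of its source. -/
theorem isIso_restrict_stronglyClosed {F : FusionSystem S} {P Q T : Subgroup Ω} {f : Ω → Ω}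
    (h : IsIso F P Q f) (hTP : T ≤ P) (hT : F.StronglyClosed T) [Finite T] : IsIso F T T f := by
  obtain ⟨Q', -, hiso, -⟩ := h.restrict hTP
  have hQ'T : Q' ≤ T := by
    obtain ⟨ψ, hψ, hψf, rfl⟩ := hiso
    rintro _ ⟨x, rfl⟩
    exact hT.2 T le_rfl ψ hψ x
  have : Q' = T := by
    apply Subgroup.eq_of_le_of_card_ge hQ'T
    obtain ⟨ψ, hψ, hψf, rfl⟩ := hiso
    exact le_of_eq (Nat.card_congr (MonoidHom.ofInjective (F.injective_of_mem hψ)).toEquiv)
  rwa [this] at hiso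

/-- Over an abelian `S`, the inner system of a strongly closed subgroup is a normal subsystem. -/
theorem inner_isNormalIn_of_comm [Finite S] (F : FusionSystem S) (p : ℕ) (hS : IsPGroup p S)
    (hF : F.IsSaturated p) (hab : ∀ x ∈ S, ∀ y ∈ S, x * y = y * x) (T : Subgroup Ω)
    (hT : F.StronglyClosed T) : (innerFusionSystem T).IsNormalIn F p := by
  have hTS : T ≤ S := hT.1
  have habT : ∀ x ∈ T, ∀ y ∈ T, x * y = y * x := fun x hx y hy => hab x (hTS hx) y (hTS hy)
  have hTfin : Finite T := Finite.of_injective (Subgroup.inclusion hTS) (Subgroup.inclusion_injective _)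
  refine ⟨⟨?_, hF, ?_, hT, ?_, ?_⟩, ?_⟩
  · exact inner_isSaturated (hS.to_le hTS)
  · intro P φ hφ
    obtain ⟨hPT, hφx⟩ := (mem_inner_hom_iff_of_comm habT φ).1 hφ
    have : φ = P.subtype := MonoidHom.ext hφx
    rw [this]
    exact subtype_mem F (hPT.trans hTS)
  · intro P hPT φ hφ α _
    obtain ⟨-, hφx⟩ := (mem_inner_hom_iff_of_comm habT φ).1 hφ
    have hP'T : (P.subgroupOf T).map (T.subtype.comp α.toMonoidHom) ≤ T := by
      rintro _ ⟨y, -, rfl⟩
      exact (α y).2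
    refine ⟨Subgroup.subtype _, subtype_mem _ hP'T, ?_⟩
    intro x hφx' hαx
    show ((α ⟨x, hPT x.2⟩ : T) : Ω) = ((α ⟨φ x, hφx'⟩ : T) : Ω)
    have : (⟨φ x, hφx'⟩ : T) = ⟨x, hPT x.2⟩ := Subtype.ext (hφx x)
    rw [this]
  · intro P hPT φ hφ
    obtain ⟨f, hf, hfφ⟩ := exists_isIso_top_of_comm F p hF hab hφ
    have hfT : IsIso F T T f := isIso_restrict_stronglyClosed hf hTS hT
    obtain ⟨α, hα, hαf⟩ := exists_mem_autGroup_of_isIso F hfT
    refine ⟨α, hα, P.subtype, subtype_mem _ hPT, ?_⟩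
    intro x hx
    rw [hαf]
    exact (hfφ x).symm
  · intro α hα
    have hα' := (mem_autGroup_iff (innerFusionSystem T) le_rfl α).1 hα
    obtain ⟨-, hαx⟩ := (mem_inner_hom_iff_of_comm habT _).1 hα'
    refine ⟨1, Subgroup.one_mem _, fun x => ?_, fun c _ => ?_⟩
    · exact (hαx x).symm
    · show (c : Ω)⁻¹ * (c : Ω) ∈ _
      rw [inv_mul_cancel]
      exact Subgroup.one_mem _

end Cfsg.Agent.Lib.H26
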