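import Cfsg.Agent.Lib.H24.GlaubAmb1

/-!
# S4581 (real characters of odd degree of a solvable group and the Sylow 2-normalizer): definitions

Architect: helper26.  Blueprint: `tools/blueprints/S4581.md`, exact signatures of the pieces:
`tools/blueprints/S4581_sigs.lean`.

Ambient style (as in helper24's `Glaub` library): the groups that vary in the induction are
subgroups `H, P, N, V, T, ...` of one finite group `Γ`; quotients are reached through surjective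
homomorphisms.
-/

set_option autoImplicit false

universe u

namespace Cfsg.Agent.Lib.H26.RO

open Cfsg Cfsg.Agent.Lib.H24.Glaub

/-- The irreducible characters `χ` of `A` of odd degree (real-valued if `ρ` holds) with
`χ (a ^ k) = ζ ^ k * χ 1` for all `k` (`a` acts as the scalar `ζ`). -/
def CC (ρ : Prop) (A : Type u) [Group A] (a : A) (ζ : ℂ) : Set (IrrCharacter A) :=
  {χ | Odd (charDegree (χ : A → ℂ)) ∧ (ρ → ∀ x : A, ((χ : A → ℂ) x).im = 0) ∧
    ∀ k : ℕ, (χ : A → ℂ) (a ^ k) = ζ ^ k * (χ : A → ℂ) 1}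

/-- `N = N_H(P)` for subgroups of an ambient group. -/
def IsNormIn {Γ : Type u} [Group Γ] (H P N : Subgroup Γ) : Prop :=
  ∀ g : Γ, g ∈ N ↔ g ∈ H ∧ ∀ x : Γ, x ∈ P ↔ g * x * g⁻¹ ∈ P

/-- The main statement for solvable `H` of order at most `n`: `P` a Sylow 2-subgroup of `H`,
`N = N_H(P)`, `ρ` or `N = P`, `z` a central 2-element of `H`.  Then `H` and `N` have the same number
of irreducible characters of odd degree (real-valued if `ρ`) on which `z` acts as the scalar `ζ`. -/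
def MainAt (ρ : Prop) (n : ℕ) : Prop :=
  ∀ (Γ : Type u) [Group Γ] [Finite Γ] (H P N : Subgroup Γ), Nat.card H ≤ n →
    Group.IsSolvable H → P ≤ H → IsPGroup 2 P → ¬ 2 ∣ P.relIndex H → IsNormIn H P N →
    (ρ ∨ N = P) →
    ∀ (z : Γ) (hzH : z ∈ H) (hzN : z ∈ N), (∀ h ∈ H, h * z = z * h) → (∃ k : ℕ, z ^ 2 ^ k = 1) →
    ∀ ζ : ℂ, Nat.card (CC ρ ↥H ⟨z, hzH⟩ ζ) = Nat.card (CC ρ ↥N ⟨z, hzN⟩ ζ)

/-- `μ` is a constituent of the restriction of `χ` to `V ≤ Y`. -/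
def Over {Γ : Type u} [Group Γ] [Finite Γ] {Y V : Subgroup Γ} (h : V ≤ Y) (χ : ↥Y → ℂ)
    (μ : ↥V → ℂ) : Prop :=
  haveI := Fintype.ofFinite ↥V
  classInner (res h χ) μ ≠ 0

/-- The irreducible characters `η` of `T` of odd degree (real-valued if `ρ`) whose restriction to
`V ≤ T` is `η 1 • μ`. -/
def RH (ρ : Prop) {Γ : Type u} [Group Γ] {T V : Subgroup Γ} (h : V ≤ T) (μ : ↥V → ℂ) :
    Set (IrrCharacter ↥T) :=
  {η | Odd (charDegree (η : ↥T → ℂ)) ∧ (ρ → ∀ x : ↥T, ((η : ↥T → ℂ) x).im = 0) ∧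
    ∀ v : ↥V, (η : ↥T → ℂ) ⟨v, h v.2⟩ = (η : ↥T → ℂ) 1 * μ v}

/-- Conjugacy of functions on `V` under the elements of `N`: `μ' (n v n⁻¹) = μ v` for some
`n ∈ N`. -/
def NConj {Γ : Type u} [Group Γ] (V N : Subgroup Γ) (μ μ' : ↥V → ℂ) : Prop :=
  ∃ n ∈ N, ∀ v v' : ↥V, (v' : Γ) = n * v * n⁻¹ → μ' v' = μ v

end Cfsg.Agent.Lib.H26.RO
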