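import Mathlib

/-!
# S4383 definitions (helper26): groups with two conjugacy classes of maximal subgroups

`Cover M₁ M₂`: every proper subgroup lies in a conjugate of `M₁` or of `M₂`.
-/

set_option autoImplicit false
open Pointwise

namespace Cfsg.Agent.Lib.H26.TMX

universe u
variable {G : Type u} [Group G]

/-- Every proper subgroup lies in a conjugate of `M₁` or of `M₂`. -/
def Cover (M₁ M₂ : Subgroup G) : Prop :=
  ∀ H : Subgroup G, H ≠ ⊤ → ∃ g : G, H ≤ MulAut.conj g • M₁ ∨ H ≤ MulAut.conj g • M₂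

theorem Cover.symm {M₁ M₂ : Subgroup G} (h : Cover M₁ M₂) : Cover M₂ M₁ := by
  intro H hH
  obtain ⟨g, hg⟩ := h H hH
  exact ⟨g, hg.symm⟩

theorem cover_of_hall [Finite G] (M₁ M₂ : Subgroup G)
    (hall : ∀ M : Subgroup G, IsCoatom M →
      ∃ g : G, M = MulAut.conj g • M₁ ∨ M = MulAut.conj g • M₂) : Cover M₁ M₂ := by
  intro H hH
  obtain ⟨M, hM, hHM⟩ := (eq_top_or_exists_le_coatom H).resolve_left hH
  obtain ⟨g, hg | hg⟩ := hall M hM
  · exact ⟨g, Or.inl (hg ▸ hHM)⟩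
  · exact ⟨g, Or.inr (hg ▸ hHM)⟩

end Cfsg.Agent.Lib.H26.TMX
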