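import Mathlib
import Cfsg.Agent.Lib.H26.NGPDefs

set_option autoImplicit false

/-! # S1904 piece F1 (helper26) -/

namespace Cfsg.Agent.Lib.H26.NGP

universe u

variable {X : Type u} [Group X] [Finite X]

theorem eq_top_of_twist_mem {A : Subgroup (MulAut X)} (hgen : Gen A) (N : Subgroup X)
    (h : ∀ a ∈ A, ∀ x : X, x⁻¹ * a x ∈ N) : N = ⊤ := by
  rw [eq_top_iff, ← hgen, Subgroup.closure_le]
  rintro g ⟨φ, hφ, x, rfl⟩
  exact h φ hφ x

theorem eq_top_of_index_le_two {A : Subgroup (MulAut X)} (hgen : Gen A) (N : Subgroup X)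
    (hN : N.Normal) (hA : AInv A N) (hidx : N.index ≤ 2) : N = ⊤ := by
  have hpos : N.index ≠ 0 := Subgroup.index_ne_zero_of_finite
  have h12 : N.index = 1 ∨ N.index = 2 := by omega
  rcases h12 with h1 | h2
  · exact Subgroup.index_eq_one.mp h1
  · apply eq_top_of_twist_mem hgen N
    intro a ha x
    by_cases hx : x ∈ N
    · exact N.mul_mem (N.inv_mem hx) (hA a ha x hx)
    · have hax : a x ∉ N := by
        intro hax
        apply hx
        have := hA a⁻¹ (A.inv_mem ha) (a x) hax
        rwa [MulAut.inv_apply_self] at this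
      have hxi : x⁻¹ ∉ N := fun h => hx (by simpa using N.inv_mem h)
      exact (Subgroup.mul_mem_iff_of_index_two h2).mpr ⟨fun h => (hxi h).elim, fun h => (hax h).elim⟩

end Cfsg.Agent.Lib.H26.NGP
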