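import Mathlib
import Cfsg.Prelude.Def_Transfer
import Cfsg.Agent.Lib.H26.NGPDefs
import Cfsg.Agent.S0094
import Cfsg.Agent.Lib.H26.NGPNU

set_option autoImplicit false

/-! # S1904 pieces C1Z, C1INV, C1CNT (helper26) -/

namespace Cfsg.Agent.Lib.H26.NGP

open scoped commutatorElement

universe u

variable {X : Type u} [Group X] [Finite X]

theorem center_sq_of_special (hsp : Cfsg.IsSpecial 2 X) :
    ∀ c ∈ Subgroup.center X, c * c = 1 := by
  have : Fact (Nat.Prime 2) := ⟨Nat.prime_two⟩
  intro c hc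
  have := Cfsg.Agent.S0094.result (p := 2) hsp c hc
  rwa [pow_two] at this

theorem center_ab : Ab (Subgroup.center X) := fun a ha b _ =>
  (Subgroup.mem_center_iff.mp ha b).symm

theorem c1_center_card (hX : IsPGroup 2 X) (hna : ¬ IsMulCommutative X) (hne : NE X)
    (hsp : Cfsg.IsSpecial 2 X) :
    Nat.card (Subgroup.center X) = 2 ∨ Nat.card (Subgroup.center X) = 4 := by
  classical
  have : Fact (Nat.Prime 2) := ⟨Nat.prime_two⟩
  have hZ2 := center_sq_of_special hsp
  have hnt : Nontrivial X := by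
    by_contra hcon
    rw [not_nontrivial_iff_subsingleton] at hcon
    exact hna ⟨⟨fun a b => Subsingleton.elim _ _⟩⟩
  have hcnt : Nontrivial (Subgroup.center X) := hX.center_nontrivial
  obtain ⟨k, hk⟩ := IsPGroup.iff_card.mp (hX.to_subgroup (Subgroup.center X))
  -- at most four elements
  have hle : Nat.card (Subgroup.center X) ≤ 4 := by
    have hfin : Fintype (Subgroup.center X) := Fintype.ofFinite _
    let S : Finset X := (Finset.univ : Finset (Subgroup.center X)).map
      ⟨Subtype.val, Subtype.val_injective⟩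
    have hS : ∀ s ∈ S, s ∈ Subgroup.center X ∧ s * s = 1 := by
      intro s hs
      simp only [S, Finset.mem_map, Finset.mem_univ, true_and, Function.Embedding.coeFn_mk] at hs
      obtain ⟨c, rfl⟩ := hs
      exact ⟨c.2, hZ2 c c.2⟩
    have := hne (Subgroup.center X) inferInstance center_ab S hS
    rw [Finset.card_map, Finset.card_univ, ← Nat.card_eq_fintype_card] at this
    exact this
  have h1 : 1 < Nat.card (Subgroup.center X) := Finite.one_lt_card
  rw [hk] at hle h1 ⊢
  have hk3 : k < 3 := by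
    by_contra hcon
    push Not at hcon
    have : 2 ^ 3 ≤ 2 ^ k := Nat.pow_le_pow_right (by norm_num) hcon
    omega
  interval_cases k
  · omega
  · left; norm_num
  · right; norm_num

theorem c1_count3 (hZ : Nat.card (Subgroup.center X) = 4)
    (hZ2 : ∀ c ∈ Subgroup.center X, c * c = 1)
    (hinv : ∀ t : X, t * t = 1 → t ∈ Subgroup.center X) :
    Nat.card {x : X // orderOf x = 2} = 3 := by
  classical
  have : Fact (Nat.Prime 2) := ⟨Nat.prime_two⟩
  have hiff : ∀ x : X, orderOf x = 2 ↔ x ∈ Subgroup.center X ∧ x ≠ 1 := by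
    intro x
    rw [orderOf_eq_prime_iff, pow_two]
    constructor
    · rintro ⟨h1, h2⟩
      exact ⟨hinv x h1, h2⟩
    · rintro ⟨h1, h2⟩
      exact ⟨hZ2 x h1, h2⟩
  have e : {x : X // orderOf x = 2} ≃ {c : Subgroup.center X // c ≠ 1} :=
    { toFun := fun x => ⟨⟨x.1, ((hiff x.1).mp x.2).1⟩, fun h =>
        ((hiff x.1).mp x.2).2 (congrArg Subtype.val h)⟩
      invFun := fun c => ⟨c.1.1, (hiff c.1.1).mpr ⟨c.1.2, fun h => c.2 (Subtype.ext h)⟩⟩
      left_inv := fun x => rfl
      right_inv := fun c => rfl }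
  rw [Nat.card_congr e]
  have hfin : Fintype (Subgroup.center X) := Fintype.ofFinite _
  rw [Nat.card_eq_fintype_card, Fintype.card_subtype_compl, Fintype.card_subtype_eq,
    ← Nat.card_eq_fintype_card, hZ]

theorem ab_sup_central {H Z : Subgroup X} (hH : Ab H) (hZ : Z ≤ Subgroup.center X) :
    Ab (H ⊔ Z) := by
  have hZn : Z.Normal := by
    constructor
    intro u hu g
    have := Subgroup.mem_center_iff.mp (hZ hu) g
    rw [this, mul_inv_cancel_right]
    exact hu
  intro a ha b hb
  obtain ⟨a1, ha1, a2, ha2, rfl⟩ := mem_sup_normal hZn ha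
  obtain ⟨b1, hb1, b2, hb2, rfl⟩ := mem_sup_normal hZn hb
  have ca : ∀ g : X, g * a2 = a2 * g := fun g => Subgroup.mem_center_iff.mp (hZ ha2) g
  have cb : ∀ g : X, g * b2 = b2 * g := fun g => Subgroup.mem_center_iff.mp (hZ hb2) g
  have h12 := hH a1 ha1 b1 hb1
  calc a1 * a2 * (b1 * b2) = a1 * (a2 * b1) * b2 := by group
    _ = a1 * (b1 * a2) * b2 := by rw [← ca b1]
    _ = (a1 * b1) * (a2 * b2) := by group
    _ = (b1 * a1) * (b2 * a2) := by rw [h12, ← cb a2]
    _ = b1 * (a1 * b2) * a2 := by group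
    _ = b1 * (b2 * a1) * a2 := by rw [cb a1]
    _ = b1 * b2 * (a1 * a2) := by group

/-- a subgroup containing the commutator subgroup is normal -/
theorem normal_of_commutator_le {T : Subgroup X} (h : commutator X ≤ T) : T.Normal := by
  constructor
  intro n hn g
  have h1 : g * n * g⁻¹ = ⁅g, n⁆ * n := by rw [commutatorElement_def]; group
  rw [h1]
  exact T.mul_mem (h (Subgroup.commutator_mem_commutator (Subgroup.mem_top g) (Subgroup.mem_top n))) hn

theorem c1_four_invol (hne : NE X) (hsp : Cfsg.IsSpecial 2 X)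
    (hZ : Nat.card (Subgroup.center X) = 4) (t : X) (ht : t * t = 1) : t ∈ Subgroup.center X := by
  classical
  by_contra htZ
  have hZ2 := center_sq_of_special hsp
  have hTn : (Subgroup.zpowers t ⊔ Subgroup.center X).Normal := by
    apply normal_of_commutator_le
    rw [hsp.2.2]
    exact le_sup_right
  have hTab : Ab (Subgroup.zpowers t ⊔ Subgroup.center X) := by
    apply ab_sup_central _ le_rfl
    intro a ha b hb
    obtain ⟨k, rfl⟩ := Subgroup.mem_zpowers_iff.mp ha
    obtain ⟨l, rfl⟩ := Subgroup.mem_zpowers_iff.mp hb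
    rw [← zpow_add, ← zpow_add, add_comm]
  have hfin : Fintype (Subgroup.center X) := Fintype.ofFinite _
  let S0 : Finset X := (Finset.univ : Finset (Subgroup.center X)).map
    ⟨Subtype.val, Subtype.val_injective⟩
  have hS0 : ∀ s ∈ S0, s ∈ Subgroup.center X := by
    intro s hs
    simp only [S0, Finset.mem_map, Finset.mem_univ, true_and, Function.Embedding.coeFn_mk] at hs
    obtain ⟨c, rfl⟩ := hs
    exact c.2
  have hS0card : S0.card = 4 := by
    rw [Finset.card_map, Finset.card_univ, ← Nat.card_eq_fintype_card, hZ]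
  have htS0 : t ∉ S0 := fun h => htZ (hS0 t h)
  have hS : ∀ s ∈ insert t S0, s ∈ Subgroup.zpowers t ⊔ Subgroup.center X ∧ s * s = 1 := by
    intro s hs
    rcases Finset.mem_insert.mp hs with rfl | hs
    · exact ⟨(le_sup_left : Subgroup.zpowers s ≤ _) (Subgroup.mem_zpowers s), ht⟩
    · exact ⟨(le_sup_right : Subgroup.center X ≤ _) (hS0 s hs), hZ2 s (hS0 s hs)⟩
  have := hne _ hTn hTab (insert t S0) hS
  rw [Finset.card_insert_of_notMem htS0, hS0card] at this
  omega

end Cfsg.Agent.Lib.H26.NGP
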