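import Mathlib
import Cfsg.Agent.Lib.H26.TMXDefs

/-!
# S4383 piece UNIQ (helper26): a large `p`-subgroup lies in at most one conjugate of `M₂`
-/

set_option autoImplicit false
open Pointwise

namespace Cfsg.Agent.Lib.H26.TMX

universe u
variable {G : Type u} [Group G] [Finite G]

theorem card_conj_smul (g : G) (H : Subgroup G) :
    Nat.card (MulAut.conj g • H : Subgroup G) = Nat.card H :=
  Nat.card_congr (Subgroup.equivSMul (MulAut.conj g) H).toEquiv.symm

theorem index_conj_smul (g : G) (H : Subgroup G) : (MulAut.conj g • H).index = H.index := by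
  rw [Subgroup.pointwise_smul_def]
  exact Subgroup.index_map_of_bijective (MulAut.conj g).bijective H

theorem conj_smul_conj_smul (a b : G) (H : Subgroup G) :
    MulAut.conj a • (MulAut.conj b • H) = MulAut.conj (a * b) • H := by
  rw [map_mul, mul_smul]

/-- A `p`-subgroup of `K` has order at most the `p`-part of `|K|`. -/
theorem card_le_of_isPGroup_le (p : ℕ) [Fact p.Prime] (A K : Subgroup G) (hA : IsPGroup p A)
    (h : A ≤ K) : Nat.card A ≤ p ^ ((Nat.card K).factorization p) := by
  have hp : p.Prime := Fact.out
  obtain ⟨k, hk⟩ := IsPGroup.iff_card.mp hA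
  have hdvd : Nat.card A ∣ Nat.card K := Subgroup.card_dvd_of_le h
  rw [hk] at hdvd ⊢
  have hK0 : Nat.card K ≠ 0 := Nat.card_pos.ne'
  exact Nat.pow_le_pow_right hp.pos ((hp.pow_dvd_iff_le_factorization hK0).mp hdvd)

theorem unique_conj_aux (p : ℕ) [Fact p.Prime] (M₁ M₂ : Subgroup G) (hcov : Cover M₁ M₂)
    (hloc : ∀ A : Subgroup G, IsPGroup p A → A ≠ ⊥ → Subgroup.normalizer (A : Set G) ≠ ⊤)
    (hp2 : ¬ p ∣ M₂.index) :
    ∀ (d : ℕ) (A : Subgroup G), IsPGroup p A →
      p ^ ((Nat.card M₁).factorization p) < Nat.card A → Nat.card G - Nat.card A = d →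
      ∀ x y : G, A ≤ MulAut.conj x • M₂ → A ≤ MulAut.conj y • M₂ →
        MulAut.conj x • M₂ = MulAut.conj y • M₂ := by
  have hp : p.Prime := Fact.out
  intro d
  induction d using Nat.strong_induction_on with
  | _ d ih =>
    intro A hA hcard hd x y hx hy
    have hA1 : 1 < Nat.card A := lt_of_le_of_lt (Nat.one_le_pow _ _ hp.pos) hcard
    have hAbot : A ≠ ⊥ := by
      intro h
      rw [h, Subgroup.card_bot] at hA1
      exact lt_irrefl _ hA1
    have hAN : A ≤ Subgroup.normalizer (A : Set G) := Subgroup.le_normalizer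
    -- the normalizer of `A` lies in a conjugate of `M₂`
    obtain ⟨g, hg⟩ : ∃ g : G, Subgroup.normalizer (A : Set G) ≤ MulAut.conj g • M₂ := by
      obtain ⟨g, hg | hg⟩ := hcov _ (hloc A hA hAbot)
      · exfalso
        have h1 := card_le_of_isPGroup_le p A _ hA (hAN.trans hg)
        rw [card_conj_smul] at h1
        exact absurd hcard (not_lt.mpr h1)
      · exact ⟨g, hg⟩
    -- key claim
    have hkey : ∀ z : G, A ≤ MulAut.conj z • M₂ → MulAut.conj z • M₂ = MulAut.conj g • M₂ := by
      intro z hz
      set M : Subgroup G := MulAut.conj z • M₂ with hM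
      have hpM : ¬ p ∣ M.index := by rw [hM, index_conj_smul]; exact hp2
      -- a Sylow `p`-subgroup of `M` containing `A`
      obtain ⟨Q, hQ⟩ := (hA.comap_subtype (K := M)).exists_le_sylow
      set Q' : Subgroup G := (Q : Subgroup M).map M.subtype with hQ'
      have hQ'M : Q' ≤ M := Subgroup.map_subtype_le _
      have hAQ' : A ≤ Q' := by
        intro a ha
        exact ⟨⟨a, hz ha⟩, hQ (show (⟨a, hz ha⟩ : M) ∈ A.subgroupOf M from ha), rfl⟩
      have hQ'p : IsPGroup p Q' := Q.isPGroup'.map _
      by_cases hAQ : A = Q'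
      · -- `A` is a Sylow `p`-subgroup of `G`
        have hidx : ¬ p ∣ A.index := by
          have h1 : (A.subgroupOf M).index * M.index = A.index :=
            Subgroup.relIndex_mul_index hz
          have h2 : A.subgroupOf M = (Q : Subgroup M) := by
            rw [hAQ, hQ']
            ext b
            rw [Subgroup.mem_subgroupOf]
            constructor
            · rintro ⟨c, hc, hcb⟩
              have : c = b := Subtype.ext hcb
              rw [← this]; exact hc
            · intro hb
              exact ⟨b, hb, rfl⟩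
          rw [← h1, h2]
          intro h
          rcases hp.dvd_mul.mp h with h | h
          · exact Q.not_dvd_index h
          · exact hpM h
        set S₁ : Sylow p G := hA.toSylow hidx with hS₁
        have hS₁A : (S₁ : Subgroup G) = A := IsPGroup.toSylow_coe hA hidx
        set M'' : Subgroup G := MulAut.conj g • M₂ with hM''
        have hAM'' : A ≤ M'' := hAN.trans hg
        set t : G := g * z⁻¹ with ht
        have htM : MulAut.conj t • M = M'' := by
          rw [hM, hM'', conj_smul_conj_smul, ht, inv_mul_cancel_right]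
        have h₁ : (S₁ : Subgroup G) ≤ M'' := hS₁A ▸ hAM''
        have h₂ : ((t • S₁ : Sylow p G) : Subgroup G) ≤ M'' := by
          rw [Sylow.coe_subgroup_smul, hS₁A, ← htM]
          exact Subgroup.pointwise_smul_le_pointwise_smul_iff.mpr hz
        obtain ⟨m, hm⟩ := MulAction.exists_smul_eq M'' ((t • S₁).subtype h₂) (S₁.subtype h₁)
        rw [Sylow.smul_subtype h₂ m] at hm
        have hm' : m • (t • S₁) = S₁ := Sylow.subtype_injective hm
        have hm'' : ((m : G) * t) • S₁ = S₁ := by
          rw [mul_smul]; exact hm'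
        have hmt : (m : G) * t ∈ Subgroup.normalizer ((S₁ : Subgroup G) : Set G) :=
          Sylow.smul_eq_iff_mem_normalizer.mp hm''
        rw [hS₁A] at hmt
        have hmtM : (m : G) * t ∈ M'' := hg hmt
        have htM'' : t ∈ M'' := by
          have := M''.mul_mem (M''.inv_mem m.2) hmtM
          rwa [inv_mul_cancel_left] at this
        have h3 : MulAut.conj t⁻¹ • M'' = M'' :=
          Subgroup.conj_smul_eq_self_of_mem (M''.inv_mem htM'')
        calc M = MulAut.conj t⁻¹ • (MulAut.conj t • M) := by
              rw [conj_smul_conj_smul, inv_mul_cancel, map_one, one_smul]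
          _ = M'' := by rw [htM, h3]
      · -- `A < Q'`: use the normalizer condition in `Q'`
        set A₁ : Subgroup G := Subgroup.normalizer (A : Set G) ⊓ Q' with hA₁
        have hAA₁ : A ≤ A₁ := le_inf hAN hAQ'
        have hne : A ≠ A₁ := by
          intro hEq
          have : Group.IsNilpotent Q' := hQ'p.isNilpotent
          have hlt : A.subgroupOf Q' < ⊤ := by
            rw [lt_top_iff_ne_top]
            intro h
            rw [Subgroup.subgroupOf_eq_top] at h
            exact hAQ (le_antisymm hAQ' h)
          have hnc := Group.normalizerCondition_of_isNilpotent (G := Q') _ hlt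
          rw [← Subgroup.subgroupOf_normalizer_eq hAQ'] at hnc
          have h4 : (Subgroup.normalizer (A : Set G)).subgroupOf Q' ≤ A.subgroupOf Q' := by
            intro b hb
            have hb' : (b : G) ∈ A₁ := ⟨hb, b.2⟩
            rw [← hEq] at hb'
            exact hb'
          exact not_lt_of_ge h4 hnc
        have hcardlt : Nat.card A < Nat.card A₁ := by
          by_contra hge
          rw [not_lt] at hge
          exact hne (Subgroup.eq_of_le_of_card_ge hAA₁ hge)
        have hA₁p : IsPGroup p A₁ := hQ'p.to_le inf_le_right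
        have hA₁G : Nat.card A₁ ≤ Nat.card G := Subgroup.card_le_card_group A₁
        have hd' : Nat.card G - Nat.card A₁ < d := by
          rw [← hd]
          have hAG : Nat.card A ≤ Nat.card G := Subgroup.card_le_card_group A
          omega
        exact ih _ hd' A₁ hA₁p (lt_trans hcard hcardlt) rfl z g
          (inf_le_right.trans hQ'M) (inf_le_left.trans hg)
    rw [hkey x hx, hkey y hy]

/-- UNIQ: a `p`-subgroup `A` with `|A| > |M₁|_p` lies in at most one conjugate of `M₂`. -/
theorem unique_conj (p : ℕ) [Fact p.Prime] (M₁ M₂ : Subgroup G) (hcov : Cover M₁ M₂)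
    (hloc : ∀ A : Subgroup G, IsPGroup p A → A ≠ ⊥ → Subgroup.normalizer (A : Set G) ≠ ⊤)
    (hp2 : ¬ p ∣ M₂.index)
    (A : Subgroup G) (hA : IsPGroup p A)
    (hcard : p ^ ((Nat.card M₁).factorization p) < Nat.card A)
    (x y : G) (hx : A ≤ MulAut.conj x • M₂) (hy : A ≤ MulAut.conj y • M₂) :
    MulAut.conj x • M₂ = MulAut.conj y • M₂ :=
  unique_conj_aux p M₁ M₂ hcov hloc hp2 _ A hA hcard rfl x y hx hy

end Cfsg.Agent.Lib.H26.TMX
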