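import Cfsg.Agent.Lib.H26.CopFix

/-!
# S4886 piece SLGLAUB (helper26), exact signature of `tools/blueprints/S4886_sigs.lean`.
-/

set_option autoImplicit false

universe u

namespace Cfsg.Agent.Lib.H26.PQ2

open Cfsg

/-- SLGLAUB.  `S` a `p`-group and `Q` a `q`-group normalizing the `{p,q}'`-group `M`, `[Q,S] = 1`;
if every `S`-invariant `φ ∈ Irr(M)` is `Q`-invariant then `Q` centralizes `C_M(S)`. -/
theorem centralizes_fixed_of_fixes_invariant {Γ : Type u} [Group Γ] [Finite Γ] (p q : ℕ)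
    [Fact p.Prime] [Fact q.Prime] (hpq : p ≠ q) (M S Q : Subgroup Γ)
    (hSM : ∀ s ∈ S, ∀ g ∈ M, s * g * s⁻¹ ∈ M) (hQM : ∀ x ∈ Q, ∀ g ∈ M, x * g * x⁻¹ ∈ M)
    (hS : IsPGroup p S) (hQ : IsPGroup q Q) (hMp : (Nat.card M).Coprime p)
    (hMq : (Nat.card M).Coprime q) (hQS : ∀ x ∈ Q, ∀ s ∈ S, x * s = s * x)
    (hfix : ∀ φ : IrrCharacter M,
      (∀ s ∈ S, ∀ g g' : M, (g' : Γ) = s * g * s⁻¹ → (φ : M → ℂ) g' = (φ : M → ℂ) g) →
      ∀ x ∈ Q, ∀ g g' : M, (g' : Γ) = x * g * x⁻¹ → (φ : M → ℂ) g' = (φ : M → ℂ) g) :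
    ∀ x ∈ Q, ∀ m ∈ M ⊓ Subgroup.centralizer (S : Set Γ), x * m = m * x := by
  classical
  haveI := Fintype.ofFinite Γ
  have hpp : p.Prime := Fact.out
  have hqp : q.Prime := Fact.out
  have hpM : ¬ p ∣ Nat.card M := fun h =>
    hpp.one_lt.ne' (Nat.Coprime.eq_one_of_dvd hMp.symm h)
  have hqM : ¬ q ∣ Nat.card M := fun h =>
    hqp.one_lt.ne' (Nat.Coprime.eq_one_of_dvd hMq.symm h)
  have key := Cfsg.Agent.Lib.H26.CopFix.centralizes_fixed_of_fixes_invariant p q M S Q hS hQ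
    hSM hQM (fun s hs t ht => (hQS t ht s hs).symm) hpM hqM
    (fun θ h t ht => hfix θ h t ht)
  intro x hx m hm
  have := key x hx m hm
  calc x * m = (x * m * x⁻¹) * x := by group
    _ = m * x := by rw [this]

end Cfsg.Agent.Lib.H26.PQ2
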