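/-
EO project, phase 2, piece EO2-F2 (helper26), part (a): a self-adjoint field subalgebra `K` of degree `r` in dimension `n = 2 r`
makes `V = F^n` a 2-dimensional `K`-space; NORMAL FORM of the quadratic form in `K`-coordinates:
`Q (k₁ v₁ + k₂ v₂) = γ (α k₁² + k₁ k₂ + β k₂²)` with `γ : K → F` a non-zero `F`-linear functional and `α β ∈ K`
(so `Q = γ ∘ Q_K` for the binary quadratic form `Q_K = α X² + X Y + β Y²` over the field `K`).  All `q`.
-/
import Mathlib
import Cfsg.Agent.Lib.H17.AschEM1
import Cfsg.Agent.Lib.H5.AschO2F2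

set_option autoImplicit false

namespace Cfsg.Agent.Lib.H26.EOP2

open Cfsg Cfsg.Geo
open scoped MatrixGroups Matrix

variable {F : Type*} [Field F] [Fintype F] {n : ℕ}

section field

variable (r : ℕ) (K : Subalgebra F (Matrix (Fin n) (Fin n) F)) (hK : IsFieldSubalgebra r K)

include hK

theorem f2_comm (a b : ↥K) : a * b = b * a := Subtype.ext (hK.comm a a.2 b b.2)

theorem f2_exists_inv (a : ↥K) (ha : a ≠ 0) : ∃ b : ↥K, a * b = 1 := by
  obtain ⟨y, hy, h⟩ := hK.inv a a.2 (fun h0 => ha (Subtype.ext h0))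
  exact ⟨⟨y, hy⟩, Subtype.ext h⟩

/-- **(D1)** every functional on `K` is `γ (· * c)` for a non-zero functional `γ`. -/
theorem f2_exists_repr (γ : ↥K →ₗ[F] F) (hγ : γ ≠ 0) (φ : ↥K →ₗ[F] F) :
    ∃ c : ↥K, ∀ x : ↥K, φ x = γ (x * c) := by
  classical
  let L : ↥K →ₗ[F] Module.Dual F ↥K :=
    { toFun := fun c => γ.comp (LinearMap.mulRight F c)
      map_add' := fun c c' => by
        ext x
        simp [mul_add]
      map_smul' := fun a c => by
        ext x
        simp }
  have hL : ∀ c x, L c x = γ (x * c) := fun c x => rfl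
  have hinj : Function.Injective L := by
    rw [← LinearMap.ker_eq_bot, LinearMap.ker_eq_bot']
    intro c hc
    by_contra hc0
    obtain ⟨b, hb⟩ := f2_exists_inv r K hK c hc0
    apply hγ
    ext y
    have h1 : L c (y * b) = 0 := by rw [hc]; rfl
    rw [hL, mul_assoc, f2_comm r K hK b c, hb, mul_one] at h1
    rw [h1]; rfl
  have hfin : Module.finrank F ↥K = Module.finrank F (Module.Dual F ↥K) :=
    (Subspace.dual_finrank_eq).symm
  have hsurj : Function.Surjective L :=
    (LinearMap.injective_iff_surjective_of_finrank_eq_finrank hfin).1 hinj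
  obtain ⟨c, hc⟩ := hsurj φ
  exact ⟨c, fun x => by rw [← hc, hL]⟩

/-- squares: if `γ (k² z) = 0` for all `k ∈ K` then `z = 0`. -/
theorem f2_eq_zero_of_sq [Nonempty (Fin n)] (γ : ↥K →ₗ[F] F) (hγ : γ ≠ 0) (z : ↥K)
    (h : ∀ k : ↥K, γ (k * k * z) = 0) : z = 0 := by
  classical
  letI : Field ↥K := (Cfsg.Agent.Lib.H5.OP2.isField_of_isFieldSubalgebra r K hK).toField
  have hall : ∀ x : ↥K, γ (x * z) = 0 := by
    by_cases h2 : (2 : F) = 0
    · -- squaring is surjective on the finite field `K` of characteristic 2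
      have h2K : (2 : ↥K) = 0 := by
        have : (2 : ↥K) = algebraMap F ↥K 2 := (map_ofNat (algebraMap F ↥K) 2).symm
        rw [this, h2, map_zero]
      have hinj : Function.Injective (fun k : ↥K => k * k) := by
        intro a b hab
        have h3 : (a - b) * (a - b) = 0 := by
          have : (a - b) * (a - b) = a * a - 2 * (a * b) + b * b := by ring
          rw [this, h2K, zero_mul, sub_zero]
          simp only at hab
          rw [hab]
          have : b * b + b * b = 2 * (b * b) := by ring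
          rw [this, h2K, zero_mul]
        have h4 : a - b = 0 := mul_self_eq_zero.mp h3
        exact sub_eq_zero.mp h4
      have : Finite ↥K := Module.finite_of_finite F
      have hsurj : Function.Surjective (fun k : ↥K => k * k) := Finite.injective_iff_surjective.1 hinj
      intro x
      obtain ⟨k, hk⟩ := hsurj x
      simp only at hk
      rw [← hk]
      exact h k
    · have h2K : (2 : ↥K) ≠ 0 := by
        have h3 : (2 : ↥K) = algebraMap F ↥K 2 := (map_ofNat (algebraMap F ↥K) 2).symm
        rw [h3]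
        intro h4
        apply h2
        exact (algebraMap F ↥K).injective (by rw [h4, map_zero])
      intro x
      have hx : x = ((x + 1) / 2) * ((x + 1) / 2) - ((x - 1) / 2) * ((x - 1) / 2) := by
        field_simp
        ring
      have h5 : x * z = ((x + 1) / 2) * ((x + 1) / 2) * z - ((x - 1) / 2) * ((x - 1) / 2) * z := by
        rw [← sub_mul, ← hx]
      rw [h5, map_sub, h, h, sub_zero]
  by_contra hz
  apply hγ
  ext y
  have h6 := hall (y / z)
  rw [div_mul_cancel₀ y hz] at h6
  rw [h6]; rfl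

end field

/-- squaring is bijective on a finite field of characteristic 2 -/
theorem f2_sq_bijective {E : Type*} [Field E] [Finite E] (h2 : (2 : E) = 0) :
    Function.Bijective (fun k : E => k * k) := by
  have hinj : Function.Injective (fun k : E => k * k) := by
    intro a b hab
    have h3 : (a - b) * (a - b) = 0 := by
      have : (a - b) * (a - b) = a * a - 2 * (a * b) + b * b := by ring
      rw [this, h2, zero_mul, sub_zero]
      simp only at hab
      rw [hab]
      have : b * b + b * b = 2 * (b * b) := by ring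
      rw [this, h2, zero_mul]
    exact sub_eq_zero.mp (mul_self_eq_zero.mp h3)
  exact ⟨hinj, Finite.injective_iff_surjective.1 hinj⟩

section quad

variable (r : ℕ) (K : Subalgebra F (Matrix (Fin n) (Fin n) F)) (hK : IsFieldSubalgebra r K)
  (Q : (Fin n → F) → F) (hQ : IsNondegenerateQuadraticForm Q)
  (hsa : IsSelfAdjointFor (QuadraticMap.polar Q) K)
  (halt : (2 : F) = 0 → ∀ k ∈ K, ∀ v : Fin n → F, QuadraticMap.polar Q (k *ᵥ v) v = 0)

include hK hQ hsa

theorem f2_polar_mul (k l : ↥K) (u w : Fin n → F) :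
    QuadraticMap.polar Q ((k : Matrix (Fin n) (Fin n) F) *ᵥ u) ((l : Matrix (Fin n) (Fin n) F) *ᵥ w) =
      QuadraticMap.polar Q (((l * k : ↥K) : Matrix (Fin n) (Fin n) F) *ᵥ u) w := by
  rw [← hsa l l.2, Matrix.mulVec_mulVec]
  rfl

theorem f2_polar_self (v : Fin n → F) : QuadraticMap.polar Q v v = 2 * Q v := by
  unfold QuadraticMap.polar
  have h1 : v + v = (2 : F) • v := (two_smul F v).symm
  rw [h1, hQ.smul]
  ring

include halt

/-- **(R)** the quadratic map `k ↦ Q (k v)` on `K` is `k ↦ γ (a k²)`. -/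
theorem f2_exists_quad_repr [Nonempty (Fin n)] (γ : ↥K →ₗ[F] F) (hγ : γ ≠ 0) (v : Fin n → F) :
    ∃ a : ↥K, ∀ k : ↥K, Q ((k : Matrix (Fin n) (Fin n) F) *ᵥ v) = γ (a * k * k) := by
  classical
  have hb := hQ.polar_bilinear
  by_cases h2 : (2 : F) = 0
  · -- characteristic 2
    letI : Field ↥K := (Cfsg.Agent.Lib.H5.OP2.isField_of_isFieldSubalgebra r K hK).toField
    have : Finite ↥K := Module.finite_of_finite F
    have h2K : (2 : ↥K) = 0 := by
      have : (2 : ↥K) = algebraMap F ↥K 2 := (map_ofNat (algebraMap F ↥K) 2).symm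
      rw [this, h2, map_zero]
    let sq : ↥K ≃ ↥K := Equiv.ofBijective _ (f2_sq_bijective h2K)
    have hsq : ∀ k : ↥K, sq k = k * k := fun k => rfl
    have hsqF := f2_sq_bijective (E := F) h2
    have hQ0 : Q 0 = 0 := Cfsg.Agent.Lib.H17.AschE.em1_Q_zero hQ
    have hadd : ∀ a b : ↥K, Q (((a + b : ↥K) : Matrix (Fin n) (Fin n) F) *ᵥ v) =
        Q ((a : Matrix (Fin n) (Fin n) F) *ᵥ v) + Q ((b : Matrix (Fin n) (Fin n) F) *ᵥ v) := by
      intro a b
      have h1 : ((a + b : ↥K) : Matrix (Fin n) (Fin n) F) *ᵥ v =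
          (a : Matrix (Fin n) (Fin n) F) *ᵥ v + (b : Matrix (Fin n) (Fin n) F) *ᵥ v := by
        rw [← Matrix.add_mulVec]; rfl
      rw [h1, Cfsg.Agent.Lib.H17.AschE.em1_Q_add Q _ _, f2_polar_mul r K hK Q hQ hsa]
      have h5 : QuadraticMap.polar Q (((b * a : ↥K) : Matrix (Fin n) (Fin n) F) *ᵥ v) v = 0 :=
        halt h2 _ (b * a).2 v
      rw [h5, add_zero]
    let φ : ↥K →ₗ[F] F :=
      { toFun := fun x => Q ((sq.symm x : Matrix (Fin n) (Fin n) F) *ᵥ v)
        map_add' := fun x y => by
          have h1 : sq.symm (x + y) = sq.symm x + sq.symm y := by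
            apply sq.injective
            rw [Equiv.apply_symm_apply, hsq]
            have : (sq.symm x + sq.symm y) * (sq.symm x + sq.symm y) =
                sq.symm x * sq.symm x + sq.symm y * sq.symm y + 2 * (sq.symm x * sq.symm y) := by ring
            rw [this, h2K, zero_mul, add_zero, ← hsq, ← hsq, Equiv.apply_symm_apply,
              Equiv.apply_symm_apply]
          rw [h1]
          exact hadd _ _
        map_smul' := fun c x => by
          obtain ⟨d, hd⟩ := hsqF.2 c
          simp only at hd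
          have h1 : sq.symm (c • x) = d • sq.symm x := by
            apply sq.injective
            rw [Equiv.apply_symm_apply, hsq, smul_mul_smul_comm, ← hsq, Equiv.apply_symm_apply, hd]
          rw [h1]
          have h3 : ((d • sq.symm x : ↥K) : Matrix (Fin n) (Fin n) F) *ᵥ v =
              d • ((sq.symm x : Matrix (Fin n) (Fin n) F) *ᵥ v) := by
            rw [← Matrix.smul_mulVec]; rfl
          rw [h3, hQ.smul, ← hd]
          simp only [RingHom.id_apply, smul_eq_mul]
          ring }
    have hφ : ∀ x, φ x = Q ((sq.symm x : Matrix (Fin n) (Fin n) F) *ᵥ v) := fun x => rfl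
    obtain ⟨c, hc⟩ := f2_exists_repr r K hK γ hγ φ
    refine ⟨c, fun k => ?_⟩
    have h4 := hc (k * k)
    rw [hφ, ← hsq, Equiv.symm_apply_apply] at h4
    rw [h4, hsq, f2_comm r K hK (k * k) c, mul_assoc]
  · -- odd characteristic
    let φ : ↥K →ₗ[F] F :=
      { toFun := fun x => QuadraticMap.polar Q ((x : Matrix (Fin n) (Fin n) F) *ᵥ v) v
        map_add' := fun x y => by
          have h1 : ((x + y : ↥K) : Matrix (Fin n) (Fin n) F) *ᵥ v =
              (x : Matrix (Fin n) (Fin n) F) *ᵥ v + (y : Matrix (Fin n) (Fin n) F) *ᵥ v := by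
            rw [← Matrix.add_mulVec]; rfl
          rw [h1, hb.add_left]
        map_smul' := fun c x => by
          have h3 : ((c • x : ↥K) : Matrix (Fin n) (Fin n) F) *ᵥ v =
              c • ((x : Matrix (Fin n) (Fin n) F) *ᵥ v) := by
            rw [← Matrix.smul_mulVec]; rfl
          rw [h3, hb.smul_left]
          rfl }
    have hφ : ∀ x, φ x = QuadraticMap.polar Q ((x : Matrix (Fin n) (Fin n) F) *ᵥ v) v := fun x => rfl
    obtain ⟨c, hc⟩ := f2_exists_repr r K hK γ hγ φ
    refine ⟨(2⁻¹ : F) • c, fun k => ?_⟩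
    have h4 := hc (k * k)
    rw [hφ] at h4
    have h5 : QuadraticMap.polar Q ((k : Matrix (Fin n) (Fin n) F) *ᵥ v)
        ((k : Matrix (Fin n) (Fin n) F) *ᵥ v) =
        QuadraticMap.polar Q (((k * k : ↥K) : Matrix (Fin n) (Fin n) F) *ᵥ v) v := by
      have := f2_polar_mul r K hK Q hQ hsa k k v v
      rw [this]
    rw [f2_polar_self r K hK Q hQ hsa, h4] at h5
    rw [smul_mul_assoc, smul_mul_assoc, map_smul, smul_eq_mul, f2_comm r K hK (k * k) c,
      mul_assoc] at *
    field_simp
    linear_combination h5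

end quad


/-! ## The `K`-valued forms -/

/-- `K`-valued quadratic form data: `Q (k v) = γ (QK v * k * k)`, `polar Q (k u) w = γ (k * fK u w)` for a non-zero functional `γ`. -/
structure KForm (K : Subalgebra F (Matrix (Fin n) (Fin n) F)) (Q : (Fin n → F) → F) where
  γ : ↥K →ₗ[F] F
  hγ : γ ≠ 0
  QK : (Fin n → F) → ↥K
  fK : (Fin n → F) → (Fin n → F) → ↥K
  hQK : ∀ (k : ↥K) (v : Fin n → F), Q ((k : Matrix (Fin n) (Fin n) F) *ᵥ v) = γ (QK v * k * k)
  hfK : ∀ (k : ↥K) (u w : Fin n → F),
    QuadraticMap.polar Q ((k : Matrix (Fin n) (Fin n) F) *ᵥ u) w = γ (k * fK u w)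

section kform

variable (r : ℕ) (K : Subalgebra F (Matrix (Fin n) (Fin n) F)) (hK : IsFieldSubalgebra r K)
  (Q : (Fin n → F) → F) (hQ : IsNondegenerateQuadraticForm Q)
  (hsa : IsSelfAdjointFor (QuadraticMap.polar Q) K)
  (halt : (2 : F) = 0 → ∀ k ∈ K, ∀ v : Fin n → F, QuadraticMap.polar Q (k *ᵥ v) v = 0)

include hK hQ hsa halt in
/-- the `K`-valued forms exist. -/
theorem f2_exists_kform [Nonempty (Fin n)] : Nonempty (KForm K Q) := by
  classical
  have hb := hQ.polar_bilinear
  have h1 : (1 : ↥K) ≠ 0 := by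
    intro h
    have h2 : ((1 : ↥K) : Matrix (Fin n) (Fin n) F) = 0 := by rw [h]; rfl
    exact one_ne_zero h2
  obtain ⟨γ, hγ1⟩ : ∃ γ : ↥K →ₗ[F] F, γ 1 ≠ 0 := by
    by_contra hcon
    push_neg at hcon
    exact h1 ((Module.forall_dual_apply_eq_zero_iff F (1 : ↥K)).1 hcon)
  have hγ : γ ≠ 0 := by
    intro h
    apply hγ1
    rw [h]; rfl
  have hq := fun v => f2_exists_quad_repr r K hK Q hQ hsa halt γ hγ v
  have hf : ∀ u w : Fin n → F, ∃ c : ↥K, ∀ k : ↥K,
      QuadraticMap.polar Q ((k : Matrix (Fin n) (Fin n) F) *ᵥ u) w = γ (k * c) := by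
    intro u w
    let φ : ↥K →ₗ[F] F :=
      { toFun := fun x => QuadraticMap.polar Q ((x : Matrix (Fin n) (Fin n) F) *ᵥ u) w
        map_add' := fun x y => by
          have h1 : ((x + y : ↥K) : Matrix (Fin n) (Fin n) F) *ᵥ u =
              (x : Matrix (Fin n) (Fin n) F) *ᵥ u + (y : Matrix (Fin n) (Fin n) F) *ᵥ u := by
            rw [← Matrix.add_mulVec]; rfl
          rw [h1, hb.add_left]
        map_smul' := fun c x => by
          have h3 : ((c • x : ↥K) : Matrix (Fin n) (Fin n) F) *ᵥ u =
              c • ((x : Matrix (Fin n) (Fin n) F) *ᵥ u) := by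
            rw [← Matrix.smul_mulVec]; rfl
          rw [h3, hb.smul_left]
          rfl }
    obtain ⟨c, hc⟩ := f2_exists_repr r K hK γ hγ φ
    exact ⟨c, fun k => hc k⟩
  choose QK hQK using hq
  choose fK hfK using hf
  exact ⟨{ γ := γ, hγ := hγ, QK := QK, fK := fK
           hQK := fun k v => by rw [hQK v k, f2_comm r K hK (QK v) k, mul_assoc, f2_comm r K hK k (QK v * k), mul_assoc]
           hfK := fun k u w => hfK u w k }⟩

end kform

end Cfsg.Agent.Lib.H26.EOP2
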