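/-
EO project, phase 2, piece EO2-F2 (helper26), part (b): API of the `K`-valued quadratic form `QK` and its polar form `fK`
(`KForm`), and the action of `N(K) ∩ I(Q)` on them by semilinear semi-similarities.
-/
import Cfsg.Agent.Lib.H26.AschEO2F2a
import Cfsg.Agent.Lib.H24.AschOBasic

set_option autoImplicit false

namespace Cfsg.Agent.Lib.H26.EOP2

open Cfsg Cfsg.Geo
open scoped MatrixGroups Matrix

variable {F : Type*} [Field F] [Fintype F] {n : ℕ}

section act

variable {K : Subalgebra F (Matrix (Fin n) (Fin n) F)}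

theorem f2_act_mul (k l : ↥K) (v : Fin n → F) :
    ((k * l : ↥K) : Matrix (Fin n) (Fin n) F) *ᵥ v =
      (k : Matrix (Fin n) (Fin n) F) *ᵥ ((l : Matrix (Fin n) (Fin n) F) *ᵥ v) := by
  rw [Matrix.mulVec_mulVec]; rfl

theorem f2_act_add (k l : ↥K) (v : Fin n → F) :
    ((k + l : ↥K) : Matrix (Fin n) (Fin n) F) *ᵥ v =
      (k : Matrix (Fin n) (Fin n) F) *ᵥ v + (l : Matrix (Fin n) (Fin n) F) *ᵥ v := by
  rw [← Matrix.add_mulVec]; rfl

theorem f2_act_neg (k : ↥K) (v : Fin n → F) :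
    ((-k : ↥K) : Matrix (Fin n) (Fin n) F) *ᵥ v = -((k : Matrix (Fin n) (Fin n) F) *ᵥ v) := by
  rw [← Matrix.neg_mulVec]; rfl

theorem f2_act_sub (k l : ↥K) (v : Fin n → F) :
    ((k - l : ↥K) : Matrix (Fin n) (Fin n) F) *ᵥ v =
      (k : Matrix (Fin n) (Fin n) F) *ᵥ v - (l : Matrix (Fin n) (Fin n) F) *ᵥ v := by
  rw [← Matrix.sub_mulVec]; rfl

theorem f2_act_one (v : Fin n → F) : ((1 : ↥K) : Matrix (Fin n) (Fin n) F) *ᵥ v = v := by
  have : ((1 : ↥K) : Matrix (Fin n) (Fin n) F) = 1 := rfl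
  rw [this, Matrix.one_mulVec]

theorem f2_act_zero (v : Fin n → F) : ((0 : ↥K) : Matrix (Fin n) (Fin n) F) *ᵥ v = 0 := by
  have : ((0 : ↥K) : Matrix (Fin n) (Fin n) F) = 0 := rfl
  rw [this, Matrix.zero_mulVec]

theorem f2_act_smul (c : F) (k : ↥K) (v : Fin n → F) :
    ((c • k : ↥K) : Matrix (Fin n) (Fin n) F) *ᵥ v = c • ((k : Matrix (Fin n) (Fin n) F) *ᵥ v) := by
  rw [← Matrix.smul_mulVec]; rfl

end act

section field

variable (r : ℕ) (K : Subalgebra F (Matrix (Fin n) (Fin n) F)) (hK : IsFieldSubalgebra r K)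

include hK

/-- if `γ (k z) = 0` for all `k ∈ K` then `z = 0`. -/
theorem f2_eq_zero_of_forall (γ : ↥K →ₗ[F] F) (hγ : γ ≠ 0) (z : ↥K)
    (h : ∀ k : ↥K, γ (k * z) = 0) : z = 0 := by
  by_contra hz
  obtain ⟨b, hb⟩ := f2_exists_inv r K hK z hz
  apply hγ
  ext y
  have h1 := h (y * b)
  rw [mul_assoc, f2_comm r K hK b z, hb, mul_one] at h1
  rw [h1]; rfl

theorem f2_eq_of_forall (γ : ↥K →ₗ[F] F) (hγ : γ ≠ 0) (a b : ↥K)
    (h : ∀ k : ↥K, γ (k * a) = γ (k * b)) : a = b := by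
  have := f2_eq_zero_of_forall r K hK γ hγ (a - b) (fun k => by rw [mul_sub, map_sub, h k, sub_self])
  exact sub_eq_zero.mp this

theorem f2_eq_of_sq [Nonempty (Fin n)] (γ : ↥K →ₗ[F] F) (hγ : γ ≠ 0) (a b : ↥K)
    (h : ∀ k : ↥K, γ (a * k * k) = γ (b * k * k)) : a = b := by
  have := f2_eq_zero_of_sq r K hK γ hγ (a - b) (fun k => by
    have h1 : k * k * (a - b) = a * k * k - b * k * k := by
      rw [mul_sub, f2_comm r K hK (k * k) a, f2_comm r K hK (k * k) b, mul_assoc, mul_assoc]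
    rw [h1, map_sub, h k, sub_self])
  exact sub_eq_zero.mp this

end field

namespace KForm

variable {r : ℕ} {K : Subalgebra F (Matrix (Fin n) (Fin n) F)} {Q : (Fin n → F) → F}
  (S : KForm K Q)

theorem Q_eq (v : Fin n → F) : Q v = S.γ (S.QK v) := by
  have := S.hQK 1 v
  rwa [f2_act_one, mul_one, mul_one] at this

theorem polar_eq (u w : Fin n → F) : QuadraticMap.polar Q u w = S.γ (S.fK u w) := by
  have := S.hfK 1 u w
  rwa [f2_act_one, one_mul] at this

variable (hK : IsFieldSubalgebra r K) (hQ : IsNondegenerateQuadraticForm Q)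
  (hsa : IsSelfAdjointFor (QuadraticMap.polar Q) K)

include hK in
theorem QK_smul [Nonempty (Fin n)] (k : ↥K) (v : Fin n → F) :
    S.QK ((k : Matrix (Fin n) (Fin n) F) *ᵥ v) = k * k * S.QK v := by
  apply f2_eq_of_sq r K hK S.γ S.hγ
  intro l
  rw [← S.hQK, ← f2_act_mul, S.hQK]
  congr 1
  let _ : Field ↥K := (Cfsg.Agent.Lib.H5.OP2.isField_of_isFieldSubalgebra r K hK).toField
  ring

include hK in
theorem QK_zero [Nonempty (Fin n)] : S.QK 0 = 0 := by
  have := S.QK_smul hK 0 0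
  rwa [f2_act_zero, zero_mul, zero_mul] at this

include hK in
theorem QK_eq_zero_iff [Nonempty (Fin n)] (v : Fin n → F) :
    S.QK v = 0 ↔ ∀ k : ↥K, Q ((k : Matrix (Fin n) (Fin n) F) *ᵥ v) = 0 := by
  constructor
  · intro h k
    rw [S.hQK, h, zero_mul, zero_mul, map_zero]
  · intro h
    apply f2_eq_of_sq r K hK S.γ S.hγ
    intro k
    rw [← S.hQK, h k, zero_mul, zero_mul, map_zero]

include hK in
theorem fK_smul_left (k : ↥K) (u w : Fin n → F) :
    S.fK ((k : Matrix (Fin n) (Fin n) F) *ᵥ u) w = k * S.fK u w := by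
  apply f2_eq_of_forall r K hK S.γ S.hγ
  intro l
  rw [← S.hfK, ← f2_act_mul, S.hfK, mul_assoc]

include hK hQ in
theorem fK_add_left (u u' w : Fin n → F) : S.fK (u + u') w = S.fK u w + S.fK u' w := by
  apply f2_eq_of_forall r K hK S.γ S.hγ
  intro l
  rw [← S.hfK, Matrix.mulVec_add, hQ.polar_bilinear.add_left, S.hfK, S.hfK, mul_add, map_add]

include hK hsa in
theorem fK_symm (u w : Fin n → F) : S.fK u w = S.fK w u := by
  apply f2_eq_of_forall r K hK S.γ S.hγ
  intro l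
  rw [← S.hfK, ← S.hfK, hsa l l.2, QuadraticMap.polar_comm]

include hK hsa in
theorem fK_smul_right (k : ↥K) (u w : Fin n → F) :
    S.fK u ((k : Matrix (Fin n) (Fin n) F) *ᵥ w) = k * S.fK u w := by
  rw [S.fK_symm hK hsa, S.fK_smul_left hK, S.fK_symm hK hsa]

include hK hQ hsa in
theorem fK_add_right (u w w' : Fin n → F) : S.fK u (w + w') = S.fK u w + S.fK u w' := by
  rw [S.fK_symm hK hsa, S.fK_add_left hK hQ, S.fK_symm hK hsa w, S.fK_symm hK hsa w']

include hK hQ hsa in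
theorem QK_add [Nonempty (Fin n)] (u w : Fin n → F) :
    S.QK (u + w) = S.QK u + S.QK w + S.fK u w := by
  apply f2_eq_of_sq r K hK S.γ S.hγ
  intro k
  rw [← S.hQK, Matrix.mulVec_add, Cfsg.Agent.Lib.H17.AschE.em1_Q_add Q _ _, S.hQK, S.hQK,
    f2_polar_mul r K hK Q hQ hsa, S.hfK, ← map_add, ← map_add]
  congr 1
  let _ : Field ↥K := (Cfsg.Agent.Lib.H5.OP2.isField_of_isFieldSubalgebra r K hK).toField
  ring

include hK hQ hsa in
theorem fK_self [Nonempty (Fin n)] (v : Fin n → F) : S.fK v v = 2 * S.QK v := by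
  have h1 := S.QK_add hK hQ hsa v v
  have h2 := S.QK_smul hK (1 + 1) v
  rw [f2_act_add, f2_act_one] at h2
  rw [h2] at h1
  let _ : Field ↥K := (Cfsg.Agent.Lib.H5.OP2.isField_of_isFieldSubalgebra r K hK).toField
  linear_combination -h1

include hQ in
theorem fK_nondeg (u : Fin n → F) (h : ∀ w, S.fK u w = 0) : u = 0 := by
  by_contra hu
  obtain ⟨_, ⟨x, hx⟩⟩ := hQ.nondegenerate u hu
  apply hx
  rw [S.polar_eq, h, map_zero]

include hK hQ in
theorem fK_zero_left (w : Fin n → F) : S.fK 0 w = 0 := by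
  have := S.fK_add_left hK hQ 0 0 w
  rw [add_zero] at this
  exact left_eq_add.mp this

include hK hQ in
theorem fK_neg_left (u w : Fin n → F) : S.fK (-u) w = -S.fK u w := by
  have := S.fK_add_left hK hQ u (-u) w
  rw [add_neg_cancel, S.fK_zero_left hK hQ] at this
  exact eq_neg_of_add_eq_zero_right this.symm


/-- conjugation by an element of the normaliser, as a ring automorphism of `K`. -/
noncomputable def conjEquiv (g : GL (Fin n) F) (hg : g ∈ subalgebraNormalizer K) : ↥K ≃+* ↥K where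
  toFun k := ⟨(g : Matrix (Fin n) (Fin n) F) * k * ((g⁻¹ : GL (Fin n) F) : Matrix (Fin n) (Fin n) F),
    (hg k).1 k.2⟩
  invFun k := ⟨((g⁻¹ : GL (Fin n) F) : Matrix (Fin n) (Fin n) F) * k * (g : Matrix (Fin n) (Fin n) F), by
    have h := (Subgroup.inv_mem _ hg) (k : Matrix (Fin n) (Fin n) F)
    rw [inv_inv] at h
    exact h.1 k.2⟩
  left_inv k := by
    apply Subtype.ext
    show ((g⁻¹ : GL (Fin n) F) : Matrix (Fin n) (Fin n) F) * ((g : Matrix (Fin n) (Fin n) F) * k *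
      ((g⁻¹ : GL (Fin n) F) : Matrix (Fin n) (Fin n) F)) * (g : Matrix (Fin n) (Fin n) F) = k
    have h1 : ((g⁻¹ : GL (Fin n) F) : Matrix (Fin n) (Fin n) F) * (g : Matrix (Fin n) (Fin n) F) = 1 := by
      rw [← Units.val_mul, inv_mul_cancel, Units.val_one]
    calc _ = (((g⁻¹ : GL (Fin n) F) : Matrix (Fin n) (Fin n) F) * (g : Matrix (Fin n) (Fin n) F)) * k *
          (((g⁻¹ : GL (Fin n) F) : Matrix (Fin n) (Fin n) F) * (g : Matrix (Fin n) (Fin n) F)) := by
            simp only [mul_assoc]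
      _ = k := by rw [h1, one_mul, mul_one]
  right_inv k := by
    apply Subtype.ext
    show (g : Matrix (Fin n) (Fin n) F) * (((g⁻¹ : GL (Fin n) F) : Matrix (Fin n) (Fin n) F) * k *
      (g : Matrix (Fin n) (Fin n) F)) * ((g⁻¹ : GL (Fin n) F) : Matrix (Fin n) (Fin n) F) = k
    have h1 : (g : Matrix (Fin n) (Fin n) F) * ((g⁻¹ : GL (Fin n) F) : Matrix (Fin n) (Fin n) F) = 1 := by
      rw [← Units.val_mul, mul_inv_cancel, Units.val_one]
    calc _ = ((g : Matrix (Fin n) (Fin n) F) * ((g⁻¹ : GL (Fin n) F) : Matrix (Fin n) (Fin n) F)) * k *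
          ((g : Matrix (Fin n) (Fin n) F) * ((g⁻¹ : GL (Fin n) F) : Matrix (Fin n) (Fin n) F)) := by
            simp only [mul_assoc]
      _ = k := by rw [h1, one_mul, mul_one]
  map_mul' k l := by
    apply Subtype.ext
    show (g : Matrix (Fin n) (Fin n) F) * ((k : Matrix (Fin n) (Fin n) F) * l) *
        ((g⁻¹ : GL (Fin n) F) : Matrix (Fin n) (Fin n) F) =
      ((g : Matrix (Fin n) (Fin n) F) * k * ((g⁻¹ : GL (Fin n) F) : Matrix (Fin n) (Fin n) F)) *
        ((g : Matrix (Fin n) (Fin n) F) * l * ((g⁻¹ : GL (Fin n) F) : Matrix (Fin n) (Fin n) F))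
    have h1 : ((g⁻¹ : GL (Fin n) F) : Matrix (Fin n) (Fin n) F) * (g : Matrix (Fin n) (Fin n) F) = 1 := by
      rw [← Units.val_mul, inv_mul_cancel, Units.val_one]
    calc _ = (g : Matrix (Fin n) (Fin n) F) * k * 1 * l * ((g⁻¹ : GL (Fin n) F) : Matrix (Fin n) (Fin n) F) := by
            simp only [mul_assoc, one_mul]
      _ = _ := by rw [← h1]; simp only [mul_assoc]
  map_add' k l := by
    apply Subtype.ext
    show (g : Matrix (Fin n) (Fin n) F) * ((k : Matrix (Fin n) (Fin n) F) + l) *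
        ((g⁻¹ : GL (Fin n) F) : Matrix (Fin n) (Fin n) F) =
      ((g : Matrix (Fin n) (Fin n) F) * k * ((g⁻¹ : GL (Fin n) F) : Matrix (Fin n) (Fin n) F)) +
        ((g : Matrix (Fin n) (Fin n) F) * l * ((g⁻¹ : GL (Fin n) F) : Matrix (Fin n) (Fin n) F))
    rw [mul_add, add_mul]

theorem conjEquiv_coe (g : GL (Fin n) F) (hg : g ∈ subalgebraNormalizer K) (k : ↥K) :
    ((conjEquiv g hg k : ↥K) : Matrix (Fin n) (Fin n) F) =
      (g : Matrix (Fin n) (Fin n) F) * k * ((g⁻¹ : GL (Fin n) F) : Matrix (Fin n) (Fin n) F) := rfl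

theorem conjEquiv_smul (g : GL (Fin n) F) (hg : g ∈ subalgebraNormalizer K) (a : F) (k : ↥K) :
    conjEquiv g hg (a • k) = a • conjEquiv g hg k := by
  apply Subtype.ext
  show (g : Matrix (Fin n) (Fin n) F) * (a • (k : Matrix (Fin n) (Fin n) F)) *
        ((g⁻¹ : GL (Fin n) F) : Matrix (Fin n) (Fin n) F) =
      a • ((g : Matrix (Fin n) (Fin n) F) * k * ((g⁻¹ : GL (Fin n) F) : Matrix (Fin n) (Fin n) F))
  rw [mul_smul_comm, smul_mul_assoc]

/-- `g (k v) = σ(k) (g v)`. -/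
theorem conjEquiv_act (g : GL (Fin n) F) (hg : g ∈ subalgebraNormalizer K) (k : ↥K) (v : Fin n → F) :
    (g : Matrix (Fin n) (Fin n) F) *ᵥ ((k : Matrix (Fin n) (Fin n) F) *ᵥ v) =
      ((conjEquiv g hg k : ↥K) : Matrix (Fin n) (Fin n) F) *ᵥ ((g : Matrix (Fin n) (Fin n) F) *ᵥ v) := by
  rw [conjEquiv_coe, Matrix.mulVec_mulVec, Matrix.mulVec_mulVec]
  congr 1
  have h1 : ((g⁻¹ : GL (Fin n) F) : Matrix (Fin n) (Fin n) F) * (g : Matrix (Fin n) (Fin n) F) = 1 := by
    rw [← Units.val_mul, inv_mul_cancel, Units.val_one]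
  rw [mul_assoc, h1, mul_one]

/-- `k (g v) = g (σ⁻¹(k) v)`. -/
theorem conjEquiv_symm_act (g : GL (Fin n) F) (hg : g ∈ subalgebraNormalizer K) (k : ↥K) (v : Fin n → F) :
    (k : Matrix (Fin n) (Fin n) F) *ᵥ ((g : Matrix (Fin n) (Fin n) F) *ᵥ v) =
      (g : Matrix (Fin n) (Fin n) F) *ᵥ
        ((((conjEquiv g hg).symm k : ↥K) : Matrix (Fin n) (Fin n) F) *ᵥ v) := by
  rw [conjEquiv_act g hg, RingEquiv.apply_symm_apply]

include hK hQ hsa in
/-- elements of `N(K) ∩ I(Q)` are semilinear semi-similarities of the `K`-valued forms. -/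
theorem exists_semilinear [Nonempty (Fin n)] (g : GL (Fin n) F) (hg : g ∈ subalgebraNormalizer K)
    (hgQ : g ∈ isometryGroup F Q) :
    ∃ c : ↥K, c ≠ 0 ∧
      (∀ v : Fin n → F, S.QK ((g : Matrix (Fin n) (Fin n) F) *ᵥ v) = c * conjEquiv g hg (S.QK v)) ∧
      (∀ u w : Fin n → F, S.fK ((g : Matrix (Fin n) (Fin n) F) *ᵥ u) ((g : Matrix (Fin n) (Fin n) F) *ᵥ w) =
        c * conjEquiv g hg (S.fK u w)) := by
  classical
  set σ := conjEquiv g hg with hσ
  let τ : ↥K →ₗ[F] F :=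
    { toFun := fun x => S.γ (σ.symm x)
      map_add' := fun x y => by rw [map_add, map_add]
      map_smul' := fun a x => by
        have h1 : σ.symm (a • x) = a • σ.symm x := by
          apply σ.injective
          rw [RingEquiv.apply_symm_apply, hσ, conjEquiv_smul, ← hσ, RingEquiv.apply_symm_apply]
        rw [h1, map_smul]
        rfl }
  have hτ : ∀ x, τ x = S.γ (σ.symm x) := fun x => rfl
  obtain ⟨c, hc⟩ := f2_exists_repr r K hK S.γ S.hγ τ
  have hgQ' := (Cfsg.Agent.Lib.H24.Asch.mem_isometryGroup_iff Q g).1 hgQ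
  have hgf := Cfsg.Agent.Lib.H24.Asch.polar_isometry Q g hgQ
  refine ⟨c, ?_, ?_, ?_⟩
  · intro h0
    apply S.hγ
    ext y
    have h1 := hc (σ y)
    rw [hτ, RingEquiv.symm_apply_apply, h0, mul_zero, map_zero] at h1
    rw [h1]; rfl
  · intro v
    apply f2_eq_of_sq r K hK S.γ S.hγ
    intro k
    rw [← S.hQK, conjEquiv_symm_act g hg, hgQ', S.hQK]
    have h2 := hc (σ (S.QK v) * k * k)
    have h3 : σ.symm (σ (S.QK v) * k * k) = S.QK v * σ.symm k * σ.symm k := by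
      rw [map_mul σ.symm, map_mul σ.symm, RingEquiv.symm_apply_apply]
    rw [hτ, h3] at h2
    rw [h2]
    congr 1
    let _ : Field ↥K := (Cfsg.Agent.Lib.H5.OP2.isField_of_isFieldSubalgebra r K hK).toField
    ring
  · intro u w
    apply f2_eq_of_forall r K hK S.γ S.hγ
    intro k
    rw [← S.hfK, conjEquiv_symm_act g hg, hgf, S.hfK]
    have h2 := hc (k * σ (S.fK u w))
    have h3 : σ.symm (k * σ (S.fK u w)) = σ.symm k * S.fK u w := by
      rw [map_mul σ.symm, RingEquiv.symm_apply_apply]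
    rw [hτ, h3] at h2
    rw [h2]
    congr 1
    let _ : Field ↥K := (Cfsg.Agent.Lib.H5.OP2.isField_of_isFieldSubalgebra r K hK).toField
    ring

end KForm

end Cfsg.Agent.Lib.H26.EOP2
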