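/-
EO project, phase 2, piece EO2-F2 (helper26), part (c): when `n = 2 r` the space `F^n` is 2-dimensional over `K`:
`K`-bases `v₁, v₂` with `fK v₁ v₂ = 1`, and the normal form `QK (k₁ v₁ + k₂ v₂) = α k₁² + k₁ k₂ + β k₂²`.
-/
import Cfsg.Agent.Lib.H26.AschEO2F2b

set_option autoImplicit false

namespace Cfsg.Agent.Lib.H26.EOP2

open Cfsg Cfsg.Geo
open scoped MatrixGroups Matrix

variable {F : Type*} [Field F] [Fintype F] {n : ℕ}

/-- `k ↦ k v`, as an `F`-linear map `K → F^n`. -/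
def lineMap (K : Subalgebra F (Matrix (Fin n) (Fin n) F)) (v : Fin n → F) : ↥K →ₗ[F] (Fin n → F) where
  toFun k := (k : Matrix (Fin n) (Fin n) F) *ᵥ v
  map_add' k l := f2_act_add k l v
  map_smul' c k := f2_act_smul c k v

theorem lineMap_apply (K : Subalgebra F (Matrix (Fin n) (Fin n) F)) (v : Fin n → F) (k : ↥K) :
    lineMap K v k = (k : Matrix (Fin n) (Fin n) F) *ᵥ v := rfl

/-- `v₁, v₂` is a `K`-basis of `F^n`. -/
structure IsKBasis (K : Subalgebra F (Matrix (Fin n) (Fin n) F)) (v₁ v₂ : Fin n → F) : Prop where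
  span : ∀ v : Fin n → F, ∃ k₁ k₂ : ↥K,
    v = (k₁ : Matrix (Fin n) (Fin n) F) *ᵥ v₁ + (k₂ : Matrix (Fin n) (Fin n) F) *ᵥ v₂
  inj : ∀ k₁ k₂ : ↥K,
    (k₁ : Matrix (Fin n) (Fin n) F) *ᵥ v₁ + (k₂ : Matrix (Fin n) (Fin n) F) *ᵥ v₂ = 0 → k₁ = 0 ∧ k₂ = 0

section basis

variable (r : ℕ) (K : Subalgebra F (Matrix (Fin n) (Fin n) F)) (hK : IsFieldSubalgebra r K)

include hK

theorem f2_act_eq_zero (k : ↥K) (v : Fin n → F) (hv : v ≠ 0)
    (h : (k : Matrix (Fin n) (Fin n) F) *ᵥ v = 0) : k = 0 := by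
  by_contra hk
  obtain ⟨b, hb⟩ := f2_exists_inv r K hK k hk
  apply hv
  have h1 : ((b * k : ↥K) : Matrix (Fin n) (Fin n) F) *ᵥ v = 0 := by
    rw [f2_act_mul, h, Matrix.mulVec_zero]
  rwa [f2_comm r K hK b k, hb, f2_act_one] at h1

theorem lineMap_injective (v : Fin n → F) (hv : v ≠ 0) : Function.Injective (lineMap K v) := by
  rw [← LinearMap.ker_eq_bot, LinearMap.ker_eq_bot']
  intro k hk
  exact f2_act_eq_zero r K hK k v hv hk

theorem finrank_range_lineMap (v : Fin n → F) (hv : v ≠ 0) :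
    Module.finrank F (LinearMap.range (lineMap K v)) = r := by
  rw [LinearMap.finrank_range_of_inj (lineMap_injective r K hK v hv), hK.finrank_eq]

/-- two vectors, the second not on the `K`-line of the first, form a `K`-basis when `n = 2 r`. -/
theorem isKBasis_of_not_mem (hn : n = 2 * r) (v₁ v₂ : Fin n → F) (hv₁ : v₁ ≠ 0)
    (hv₂ : ∀ k : ↥K, v₂ ≠ (k : Matrix (Fin n) (Fin n) F) *ᵥ v₁) : IsKBasis K v₁ v₂ := by
  classical
  have hinj : ∀ k₁ k₂ : ↥K,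
      (k₁ : Matrix (Fin n) (Fin n) F) *ᵥ v₁ + (k₂ : Matrix (Fin n) (Fin n) F) *ᵥ v₂ = 0 →
        k₁ = 0 ∧ k₂ = 0 := by
    intro k₁ k₂ h
    have h2 : k₂ = 0 := by
      by_contra hk
      obtain ⟨b, hb⟩ := f2_exists_inv r K hK k₂ hk
      apply hv₂ (-(b * k₁))
      have h1 : (b : Matrix (Fin n) (Fin n) F) *ᵥ
          ((k₁ : Matrix (Fin n) (Fin n) F) *ᵥ v₁ + (k₂ : Matrix (Fin n) (Fin n) F) *ᵥ v₂) = 0 := by
        rw [h, Matrix.mulVec_zero]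
      rw [Matrix.mulVec_add, ← f2_act_mul, ← f2_act_mul, f2_comm r K hK b k₂, hb, f2_act_one] at h1
      rw [f2_act_neg]
      exact eq_neg_of_add_eq_zero_right h1
    refine ⟨?_, h2⟩
    rw [h2, f2_act_zero, add_zero] at h
    exact f2_act_eq_zero r K hK k₁ v₁ hv₁ h
  refine ⟨?_, hinj⟩
  let φ : (↥K × ↥K) →ₗ[F] (Fin n → F) := (lineMap K v₁).coprod (lineMap K v₂)
  have hφ : ∀ x, φ x = (x.1 : Matrix (Fin n) (Fin n) F) *ᵥ v₁ + (x.2 : Matrix (Fin n) (Fin n) F) *ᵥ v₂ :=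
    fun x => by rw [LinearMap.coprod_apply]; rfl
  have hφinj : Function.Injective φ := by
    rw [← LinearMap.ker_eq_bot, LinearMap.ker_eq_bot']
    intro x hx
    rw [hφ] at hx
    obtain ⟨h1, h2⟩ := hinj x.1 x.2 hx
    exact Prod.ext h1 h2
  have hfin : Module.finrank F (↥K × ↥K) = Module.finrank F (Fin n → F) := by
    rw [Module.finrank_prod, hK.finrank_eq, Module.finrank_fin_fun, hn]
    ring
  have hsurj : Function.Surjective φ :=
    (LinearMap.injective_iff_surjective_of_finrank_eq_finrank hfin).1 hφinj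
  intro v
  obtain ⟨x, hx⟩ := hsurj v
  exact ⟨x.1, x.2, by rw [← hx, hφ]⟩

/-- there is a vector off any `K`-line when `n = 2 r`. -/
theorem exists_not_mem_line [Nonempty (Fin n)] (hn : n = 2 * r) (v₁ : Fin n → F) (hv₁ : v₁ ≠ 0) :
    ∃ u : Fin n → F, ∀ k : ↥K, u ≠ (k : Matrix (Fin n) (Fin n) F) *ᵥ v₁ := by
  classical
  by_contra hcon
  push_neg at hcon
  have htop : LinearMap.range (lineMap K v₁) = ⊤ := by
    rw [eq_top_iff]
    intro u _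
    obtain ⟨k, hk⟩ := hcon u
    exact ⟨k, hk.symm⟩
  have h1 := finrank_range_lineMap r K hK v₁ hv₁
  rw [htop, finrank_top, Module.finrank_fin_fun] at h1
  have hn0 : 0 < n := Fin.pos_iff_nonempty.mpr inferInstance
  omega

end basis

namespace KForm

variable {r : ℕ} {K : Subalgebra F (Matrix (Fin n) (Fin n) F)} {Q : (Fin n → F) → F}
  (S : KForm K Q) (hK : IsFieldSubalgebra r K) (hQ : IsNondegenerateQuadraticForm Q)
  (hsa : IsSelfAdjointFor (QuadraticMap.polar Q) K)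

include hK hQ hsa

/-- **K-basis** with `fK v₁ v₂ = 1`, for any non-zero `v₁`. -/
theorem exists_kbasis [Nonempty (Fin n)] (hn : n = 2 * r) (v₁ : Fin n → F) (hv₁ : v₁ ≠ 0) :
    ∃ v₂ : Fin n → F, IsKBasis K v₁ v₂ ∧ S.fK v₁ v₂ = 1 := by
  classical
  -- a vector `w` off the line with `fK v₁ w ≠ 0`
  obtain ⟨w, hw1, hw2⟩ : ∃ w : Fin n → F, (∀ k : ↥K, w ≠ (k : Matrix (Fin n) (Fin n) F) *ᵥ v₁) ∧
      S.fK v₁ w ≠ 0 := by
    obtain ⟨u, hu⟩ := exists_not_mem_line r K hK hn v₁ hv₁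
    by_cases h1 : S.fK v₁ u = 0
    · obtain ⟨w, hw⟩ : ∃ w, S.fK v₁ w ≠ 0 := by
        by_contra hcon
        push_neg at hcon
        exact hv₁ (S.fK_nondeg hQ v₁ hcon)
      by_cases h2 : ∀ k : ↥K, w ≠ (k : Matrix (Fin n) (Fin n) F) *ᵥ v₁
      · exact ⟨w, h2, hw⟩
      · push_neg at h2
        obtain ⟨k, hk⟩ := h2
        refine ⟨u + w, ?_, ?_⟩
        · intro l hl
          apply hu (l - k)
          rw [f2_act_sub, ← hl, ← hk, add_sub_cancel_right]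
        · rw [S.fK_add_right hK hQ hsa, h1, zero_add]
          exact hw
    · exact ⟨u, hu, h1⟩
  obtain ⟨b, hb⟩ := f2_exists_inv r K hK _ hw2
  refine ⟨(b : Matrix (Fin n) (Fin n) F) *ᵥ w, ?_, ?_⟩
  · apply isKBasis_of_not_mem r K hK hn v₁ _ hv₁
    intro k hk
    have hb0 : b ≠ 0 := by
      intro h0
      rw [h0, mul_zero] at hb
      have h1 : ((0 : ↥K) : Matrix (Fin n) (Fin n) F) = ((1 : ↥K) : Matrix (Fin n) (Fin n) F) := by rw [hb]
      exact zero_ne_one h1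
    apply hw1 (S.fK v₁ w * k)
    rw [f2_act_mul, ← hk, ← f2_act_mul, hb, f2_act_one]
  · rw [S.fK_smul_right hK hsa, f2_comm r K hK, hb]

/-- the normal form of `QK` in a `K`-basis. -/
theorem QK_basis [Nonempty (Fin n)] (v₁ v₂ : Fin n → F) (k₁ k₂ : ↥K) :
    S.QK ((k₁ : Matrix (Fin n) (Fin n) F) *ᵥ v₁ + (k₂ : Matrix (Fin n) (Fin n) F) *ᵥ v₂) =
      S.QK v₁ * k₁ * k₁ + S.fK v₁ v₂ * k₁ * k₂ + S.QK v₂ * k₂ * k₂ := by
  rw [S.QK_add hK hQ hsa, S.QK_smul hK, S.QK_smul hK, S.fK_smul_left hK, S.fK_smul_right hK hsa]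
  let _ : Field ↥K := (Cfsg.Agent.Lib.H5.OP2.isField_of_isFieldSubalgebra r K hK).toField
  ring

/-- `fK` in a `K`-basis. -/
theorem fK_basis [Nonempty (Fin n)] (v₁ v₂ : Fin n → F) (k₁ k₂ l₁ l₂ : ↥K) :
    S.fK ((k₁ : Matrix (Fin n) (Fin n) F) *ᵥ v₁ + (k₂ : Matrix (Fin n) (Fin n) F) *ᵥ v₂)
        ((l₁ : Matrix (Fin n) (Fin n) F) *ᵥ v₁ + (l₂ : Matrix (Fin n) (Fin n) F) *ᵥ v₂) =
      2 * S.QK v₁ * k₁ * l₁ + S.fK v₁ v₂ * (k₁ * l₂ + k₂ * l₁) + 2 * S.QK v₂ * k₂ * l₂ := by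
  rw [S.fK_add_left hK hQ, S.fK_add_right hK hQ hsa, S.fK_add_right hK hQ hsa,
    S.fK_smul_left hK, S.fK_smul_left hK, S.fK_smul_left hK, S.fK_smul_left hK,
    S.fK_smul_right hK hsa, S.fK_smul_right hK hsa, S.fK_smul_right hK hsa, S.fK_smul_right hK hsa,
    S.fK_self hK hQ hsa, S.fK_self hK hQ hsa, S.fK_symm hK hsa v₂ v₁]
  let _ : Field ↥K := (Cfsg.Agent.Lib.H5.OP2.isField_of_isFieldSubalgebra r K hK).toField
  ring

end KForm

end Cfsg.Agent.Lib.H26.EOP2
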