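/-
EO project, phase 2, piece EO2-F2 (helper26), part (d): `K`-linear maps in a `K`-basis (the centraliser of `K` is `M₂(K)`).
-/
import Cfsg.Agent.Lib.H26.AschEO2F2c

set_option autoImplicit false

namespace Cfsg.Agent.Lib.H26.EOP2

open Cfsg Cfsg.Geo
open scoped MatrixGroups Matrix

variable {F : Type*} [Field F] [Fintype F] {n : ℕ}

section klin

variable {K : Subalgebra F (Matrix (Fin n) (Fin n) F)}

/-- a matrix commuting with `K` is `K`-linear. -/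
theorem f2_comm_act (x : Matrix (Fin n) (Fin n) F) (hx : ∀ k ∈ K, x * k = k * x) (k : ↥K) (v : Fin n → F) :
    x *ᵥ ((k : Matrix (Fin n) (Fin n) F) *ᵥ v) = (k : Matrix (Fin n) (Fin n) F) *ᵥ (x *ᵥ v) := by
  rw [Matrix.mulVec_mulVec, Matrix.mulVec_mulVec, hx k k.2]

/-- a `K`-linear matrix commutes with `K`. -/
theorem f2_comm_of_act (x : Matrix (Fin n) (Fin n) F)
    (hx : ∀ (k : ↥K) (v : Fin n → F),
      x *ᵥ ((k : Matrix (Fin n) (Fin n) F) *ᵥ v) = (k : Matrix (Fin n) (Fin n) F) *ᵥ (x *ᵥ v)) :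
    ∀ k ∈ K, x * k = k * x := by
  intro k hk
  rw [Matrix.ext_iff_mulVec]
  intro v
  rw [← Matrix.mulVec_mulVec, ← Matrix.mulVec_mulVec]
  exact hx ⟨k, hk⟩ v

variable {v₁ v₂ : Fin n → F}

/-- a `K`-linear matrix is determined by its values on a `K`-basis. -/
theorem IsKBasis.ext_mat (hB : IsKBasis K v₁ v₂) (x y : Matrix (Fin n) (Fin n) F)
    (hx : ∀ k ∈ K, x * k = k * x) (hy : ∀ k ∈ K, y * k = k * y)
    (h1 : x *ᵥ v₁ = y *ᵥ v₁) (h2 : x *ᵥ v₂ = y *ᵥ v₂) : x = y := by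
  rw [Matrix.ext_iff_mulVec]
  intro v
  obtain ⟨k₁, k₂, rfl⟩ := hB.span v
  rw [Matrix.mulVec_add, Matrix.mulVec_add, f2_comm_act x hx, f2_comm_act x hx, f2_comm_act y hy,
    f2_comm_act y hy, h1, h2]

/-- `K`-linear maps with prescribed values on a `K`-basis exist. -/
theorem IsKBasis.exists_klinear (hB : IsKBasis K v₁ v₂) (p₁ p₂ : Fin n → F) :
    ∃ x : Matrix (Fin n) (Fin n) F, (∀ k ∈ K, x * k = k * x) ∧ x *ᵥ v₁ = p₁ ∧ x *ᵥ v₂ = p₂ := by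
  classical
  let φ : (↥K × ↥K) →ₗ[F] (Fin n → F) := (lineMap K v₁).coprod (lineMap K v₂)
  have hφ : ∀ x, φ x = (x.1 : Matrix (Fin n) (Fin n) F) *ᵥ v₁ + (x.2 : Matrix (Fin n) (Fin n) F) *ᵥ v₂ :=
    fun x => by rw [LinearMap.coprod_apply]; rfl
  have hφbij : Function.Bijective φ := by
    constructor
    · rw [← LinearMap.ker_eq_bot, LinearMap.ker_eq_bot']
      intro x hx
      rw [hφ] at hx
      obtain ⟨h1, h2⟩ := hB.inj x.1 x.2 hx
      exact Prod.ext h1 h2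
    · intro v
      obtain ⟨k₁, k₂, hv⟩ := hB.span v
      exact ⟨(k₁, k₂), by rw [hφ, hv]⟩
  let e : (↥K × ↥K) ≃ₗ[F] (Fin n → F) := LinearEquiv.ofBijective φ hφbij
  have he : ∀ x, e x = (x.1 : Matrix (Fin n) (Fin n) F) *ᵥ v₁ + (x.2 : Matrix (Fin n) (Fin n) F) *ᵥ v₂ :=
    fun x => hφ x
  let ψ : (↥K × ↥K) →ₗ[F] (Fin n → F) := (lineMap K p₁).coprod (lineMap K p₂)
  have hψ : ∀ x, ψ x = (x.1 : Matrix (Fin n) (Fin n) F) *ᵥ p₁ + (x.2 : Matrix (Fin n) (Fin n) F) *ᵥ p₂ :=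
    fun x => by rw [LinearMap.coprod_apply]; rfl
  let L : (Fin n → F) →ₗ[F] (Fin n → F) := ψ ∘ₗ e.symm.toLinearMap
  have hL : ∀ k₁ k₂ : ↥K, L ((k₁ : Matrix (Fin n) (Fin n) F) *ᵥ v₁ + (k₂ : Matrix (Fin n) (Fin n) F) *ᵥ v₂) =
      (k₁ : Matrix (Fin n) (Fin n) F) *ᵥ p₁ + (k₂ : Matrix (Fin n) (Fin n) F) *ᵥ p₂ := by
    intro k₁ k₂
    have h1 : e.symm ((k₁ : Matrix (Fin n) (Fin n) F) *ᵥ v₁ + (k₂ : Matrix (Fin n) (Fin n) F) *ᵥ v₂) =
        (k₁, k₂) := by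
      rw [LinearEquiv.symm_apply_eq, he]
    show ψ (e.symm _) = _
    rw [h1, hψ]
  have hx : ∀ v, (LinearMap.toMatrix' L) *ᵥ v = L v := fun v => by
    rw [← Matrix.toLin'_apply, Matrix.toLin'_toMatrix']
  refine ⟨LinearMap.toMatrix' L, ?_, ?_, ?_⟩
  · apply f2_comm_of_act
    intro k v
    obtain ⟨k₁, k₂, rfl⟩ := hB.span v
    rw [hx, hx, Matrix.mulVec_add, ← f2_act_mul, ← f2_act_mul, hL, hL, Matrix.mulVec_add, ← f2_act_mul,
      ← f2_act_mul]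
  · have := hL 1 0
    rw [f2_act_one, f2_act_zero, add_zero, f2_act_one, f2_act_zero, add_zero] at this
    rw [hx, this]
  · have := hL 0 1
    rw [f2_act_one, f2_act_zero, zero_add, f2_act_one, f2_act_zero, zero_add] at this
    rw [hx, this]

end klin

end Cfsg.Agent.Lib.H26.EOP2
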