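/-
EO project, phase 2, piece EO2-F2 (helper26), part (e): the anisotropic case, coordinates.  Existence of the generator `δ` of
the even Clifford algebra of the binary `K`-form `QK`: `δ v₁ = α v₂`, `δ v₂ = -β v₁ + v₂` in a `K`-basis with `fK v₁ v₂ = 1`,
`α = QK v₁`, `β = QK v₂`.
-/
import Cfsg.Agent.Lib.H26.AschEO2F2d

set_option autoImplicit false

namespace Cfsg.Agent.Lib.H26.EOP2

open Cfsg Cfsg.Geo
open scoped MatrixGroups Matrix

variable {F : Type*} [Field F] [Fintype F] {n : ℕ}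

namespace KForm

variable {r : ℕ} {K : Subalgebra F (Matrix (Fin n) (Fin n) F)} {Q : (Fin n → F) → F}
  (S : KForm K Q) (hK : IsFieldSubalgebra r K) (hQ : IsNondegenerateQuadraticForm Q)
  (hsa : IsSelfAdjointFor (QuadraticMap.polar Q) K)

include hK hQ in
/-- polarisation of `fK (x v) v = 0`. -/
theorem alt_polar (x : Matrix (Fin n) (Fin n) F) (hx : ∀ v : Fin n → F, S.fK (x *ᵥ v) v = 0)
    (u w : Fin n → F) : S.fK (x *ᵥ u) w + S.fK (x *ᵥ w) u = 0 := by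
  have h := hx (u + w)
  rw [Matrix.mulVec_add, S.fK_add_left hK hQ] at h
  have h1 : S.fK (x *ᵥ u) (u + w) = S.fK (x *ᵥ u) u + S.fK (x *ᵥ u) w := by
    apply f2_eq_of_forall r K hK S.γ S.hγ
    intro l
    rw [← S.hfK, hQ.polar_bilinear.add_right, S.hfK, S.hfK, mul_add, map_add]
  have h2 : S.fK (x *ᵥ w) (u + w) = S.fK (x *ᵥ w) u + S.fK (x *ᵥ w) w := by
    apply f2_eq_of_forall r K hK S.γ S.hγ
    intro l
    rw [← S.hfK, hQ.polar_bilinear.add_right, S.hfK, S.hfK, mul_add, map_add]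
  rw [h1, h2, hx u, hx w, zero_add, add_zero] at h
  exact h

include hK hQ hsa in
/-- two `K`-linear "alternating" matrices agreeing on `v₁` agree. -/
theorem alt_ext {v₁ v₂ : Fin n → F} (hB : IsKBasis K v₁ v₂) (x y : Matrix (Fin n) (Fin n) F)
    (hxc : ∀ k ∈ K, x * k = k * x) (hyc : ∀ k ∈ K, y * k = k * y)
    (hx : ∀ v : Fin n → F, S.fK (x *ᵥ v) v = 0) (hy : ∀ v : Fin n → F, S.fK (y *ᵥ v) v = 0)
    (h1 : x *ᵥ v₁ = y *ᵥ v₁) : x = y := by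
  apply hB.ext_mat x y hxc hyc h1
  have hp1 : S.fK (x *ᵥ v₂ - y *ᵥ v₂) v₁ = 0 := by
    have e1 := S.alt_polar hK hQ x hx v₂ v₁
    have e2 := S.alt_polar hK hQ y hy v₂ v₁
    rw [sub_eq_add_neg, S.fK_add_left hK hQ, S.fK_neg_left hK hQ]
    rw [h1] at e1
    have e3 : S.fK (x *ᵥ v₂) v₁ = S.fK (y *ᵥ v₂) v₁ := by
      have := e1.trans e2.symm
      exact add_right_cancel this
    rw [e3, add_neg_cancel]
  have hp2 : S.fK (x *ᵥ v₂ - y *ᵥ v₂) v₂ = 0 := by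
    rw [sub_eq_add_neg, S.fK_add_left hK hQ, S.fK_neg_left hK hQ, hx, hy, neg_zero, add_zero]
  have hp : x *ᵥ v₂ - y *ᵥ v₂ = 0 := by
    apply S.fK_nondeg hQ
    intro w
    obtain ⟨l₁, l₂, rfl⟩ := hB.span w
    rw [S.fK_add_right hK hQ hsa, S.fK_smul_right hK hsa, S.fK_smul_right hK hsa, hp1, hp2, mul_zero,
      mul_zero, add_zero]
  exact sub_eq_zero.mp hp


include hK hQ hsa in
/-- **the generator `δ`** of the even Clifford algebra of `QK` (anisotropic case). -/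
theorem exists_delta [Nonempty (Fin n)] (hn : n = 2 * r)
    (han : ∀ v : Fin n → F, S.QK v = 0 → v = 0) :
    ∃ (δ : Matrix (Fin n) (Fin n) F) (m : ↥K), (∀ k ∈ K, δ * k = k * δ) ∧
      (∀ v : Fin n → F, S.fK (δ *ᵥ v) v = S.QK v) ∧
      (∀ v : Fin n → F, S.QK (δ *ᵥ v) = m * S.QK v) ∧
      δ * δ = δ - (m : Matrix (Fin n) (Fin n) F) ∧
      (∀ a b : ↥K, (a : Matrix (Fin n) (Fin n) F) + (b : Matrix (Fin n) (Fin n) F) * δ = 0 → a = 0 ∧ b = 0) ∧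
      (∀ x : Matrix (Fin n) (Fin n) F, (∀ k ∈ K, x * k = k * x) → (∀ v : Fin n → F, S.fK (x *ᵥ v) v = 0) →
        ∃ a b : ↥K, x = (a : Matrix (Fin n) (Fin n) F) + (b : Matrix (Fin n) (Fin n) F) * δ) := by
  classical
  let _ : Field ↥K := (Cfsg.Agent.Lib.H5.OP2.isField_of_isFieldSubalgebra r K hK).toField
  let φ : ↥K →+* Module.End F (Fin n → F) :=
    ((Matrix.toLinAlgEquiv' (R := F) (n := Fin n)).toAlgHom.comp K.val).toRingHom
  let _ : Module ↥K (Fin n → F) := Module.compHom (Fin n → F) φ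
  have hsmul : ∀ (k : ↥K) (v : Fin n → F), (k : Matrix (Fin n) (Fin n) F) *ᵥ v = k • v := fun k v => rfl
  obtain ⟨i⟩ := ‹Nonempty (Fin n)›
  obtain ⟨v₁, hv₁⟩ : ∃ v₁ : Fin n → F, v₁ ≠ 0 := ⟨Pi.single i 1, fun h => by
    have := congrFun h i
    rw [Pi.single_eq_same, Pi.zero_apply] at this
    exact one_ne_zero this⟩
  haveI : Nonempty (Fin n) := ⟨i⟩
  obtain ⟨v₂, hB, h12⟩ := S.exists_kbasis hK hQ hsa hn v₁ hv₁
  set α := S.QK v₁ with hα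
  set β := S.QK v₂ with hβ
  have hα0 : α ≠ 0 := fun h => hv₁ (han v₁ h)
  obtain ⟨δ, hδc, hδ1, hδ2⟩ := hB.exists_klinear ((α : Matrix (Fin n) (Fin n) F) *ᵥ v₂)
    (((-β : ↥K) : Matrix (Fin n) (Fin n) F) *ᵥ v₁ + v₂)
  have hδ : ∀ k₁ k₂ : ↥K,
      δ *ᵥ ((k₁ : Matrix (Fin n) (Fin n) F) *ᵥ v₁ + (k₂ : Matrix (Fin n) (Fin n) F) *ᵥ v₂) =
        ((-(β * k₂) : ↥K) : Matrix (Fin n) (Fin n) F) *ᵥ v₁ +
          ((α * k₁ + k₂ : ↥K) : Matrix (Fin n) (Fin n) F) *ᵥ v₂ := by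
    intro k₁ k₂
    rw [Matrix.mulVec_add, f2_comm_act δ hδc, f2_comm_act δ hδc, hδ1, hδ2]
    simp only [hsmul]
    module
  have hf3 : ∀ v : Fin n → F, S.fK (δ *ᵥ v) v = S.QK v := by
    intro v
    obtain ⟨k₁, k₂, rfl⟩ := hB.span v
    rw [hδ, S.fK_basis hK hQ hsa, S.QK_basis hK hQ hsa, h12, ← hα, ← hβ]
    ring
  have hf4 : ∀ v : Fin n → F, S.QK (δ *ᵥ v) = (α * β) * S.QK v := by
    intro v
    obtain ⟨k₁, k₂, rfl⟩ := hB.span v
    rw [hδ, S.QK_basis hK hQ hsa, S.QK_basis hK hQ hsa, h12, ← hα, ← hβ]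
    ring
  refine ⟨δ, α * β, hδc, hf3, hf4, ?_, ?_, ?_⟩
  · rw [Matrix.ext_iff_mulVec]
    intro v
    obtain ⟨k₁, k₂, rfl⟩ := hB.span v
    rw [← Matrix.mulVec_mulVec, hδ, hδ, Matrix.sub_mulVec, hδ]
    simp only [hsmul]
    module
  · intro a b hab
    have h1 : ((a : Matrix (Fin n) (Fin n) F) + (b : Matrix (Fin n) (Fin n) F) * δ) *ᵥ v₁ = 0 := by
      rw [hab, Matrix.zero_mulVec]
    rw [Matrix.add_mulVec, ← Matrix.mulVec_mulVec, hδ1, ← f2_act_mul] at h1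
    obtain ⟨ha, hb⟩ := hB.inj _ _ h1
    refine ⟨ha, ?_⟩
    rcases mul_eq_zero.mp hb with h | h
    · exact h
    · exact absurd h hα0
  · intro x hxc hx
    obtain ⟨a, b, hab⟩ := hB.span (x *ᵥ v₁)
    have h0 := hx v₁
    have hv1 : v₁ = ((1 : ↥K) : Matrix (Fin n) (Fin n) F) *ᵥ v₁ + ((0 : ↥K) : Matrix (Fin n) (Fin n) F) *ᵥ v₂ := by
      rw [f2_act_one, f2_act_zero, add_zero]
    rw [hab] at h0
    have h0' : S.fK ((a : Matrix (Fin n) (Fin n) F) *ᵥ v₁ + (b : Matrix (Fin n) (Fin n) F) *ᵥ v₂)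
        (((1 : ↥K) : Matrix (Fin n) (Fin n) F) *ᵥ v₁ + ((0 : ↥K) : Matrix (Fin n) (Fin n) F) *ᵥ v₂) = 0 := by
      rw [← hv1]; exact h0
    rw [S.fK_basis hK hQ hsa, h12, ← hα, ← hβ] at h0'
    have hb : b = -(2 * α * a) := by linear_combination h0'
    refine ⟨a, -(2 * a), ?_⟩
    have hyc : ∀ k ∈ K, ((a : Matrix (Fin n) (Fin n) F) +
        ((-(2 * a) : ↥K) : Matrix (Fin n) (Fin n) F) * δ) * k =
        k * ((a : Matrix (Fin n) (Fin n) F) + ((-(2 * a) : ↥K) : Matrix (Fin n) (Fin n) F) * δ) := by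
      intro k hk
      rw [add_mul, mul_add, mul_assoc, hδc k hk, ← mul_assoc, ← mul_assoc, hK.comm _ a.2 k hk,
        hK.comm _ (-(2 * a)).2 k hk]
    apply S.alt_ext hK hQ hsa hB x _ hxc hyc hx
    · intro v
      rw [Matrix.add_mulVec, ← Matrix.mulVec_mulVec, S.fK_add_left hK hQ, S.fK_smul_left hK,
        S.fK_smul_left hK, hf3, S.fK_self hK hQ hsa]
      ring
    · rw [Matrix.add_mulVec, ← Matrix.mulVec_mulVec, hδ1, hab, hb]
      simp only [hsmul]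
      module

end KForm

end Cfsg.Agent.Lib.H26.EOP2
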