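/-
EO project, phase 2, piece EO2-F2 (helper26), part (f): the anisotropic case.  `A = K + K δ` (the even Clifford algebra of the
binary `K`-form `QK`) is a field subalgebra of degree `2 r`, stable under the adjoint, normalised by `N(K) ∩ I(Q)`.
-/
import Cfsg.Agent.Lib.H26.AschEO2F2e

set_option autoImplicit false

namespace Cfsg.Agent.Lib.H26.EOP2

open Cfsg Cfsg.Geo
open scoped MatrixGroups Matrix

variable {F : Type*} [Field F] [Fintype F] {n : ℕ}

section cliff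

variable {K : Subalgebra F (Matrix (Fin n) (Fin n) F)} {δ : Matrix (Fin n) (Fin n) F} {m : ↥K}

theorem f2_cliff_mul (hδc : ∀ k ∈ K, δ * k = k * δ)
    (hsq : δ * δ = δ - (m : Matrix (Fin n) (Fin n) F)) (a b a' b' : ↥K) :
    ((a : Matrix (Fin n) (Fin n) F) + (b : Matrix (Fin n) (Fin n) F) * δ) *
      ((a' : Matrix (Fin n) (Fin n) F) + (b' : Matrix (Fin n) (Fin n) F) * δ) =
    ((a * a' - b * b' * m : ↥K) : Matrix (Fin n) (Fin n) F) +
      ((a * b' + b * a' + b * b' : ↥K) : Matrix (Fin n) (Fin n) F) * δ := by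
  have e1 : δ * (a' : Matrix (Fin n) (Fin n) F) = (a' : Matrix (Fin n) (Fin n) F) * δ := hδc _ a'.2
  have e2 : δ * (b' : Matrix (Fin n) (Fin n) F) = (b' : Matrix (Fin n) (Fin n) F) * δ := hδc _ b'.2
  have h1 : ((a : Matrix (Fin n) (Fin n) F) + (b : Matrix (Fin n) (Fin n) F) * δ) *
      ((a' : Matrix (Fin n) (Fin n) F) + (b' : Matrix (Fin n) (Fin n) F) * δ) =
      (a : Matrix (Fin n) (Fin n) F) * a' + (a : Matrix (Fin n) (Fin n) F) * b' * δ +
        (b : Matrix (Fin n) (Fin n) F) * (δ * a') + (b : Matrix (Fin n) (Fin n) F) * (δ * b') * δ := by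
    noncomm_ring
  rw [h1, e1, e2]
  have h2 : (b : Matrix (Fin n) (Fin n) F) * ((b' : Matrix (Fin n) (Fin n) F) * δ) * δ =
      (b : Matrix (Fin n) (Fin n) F) * b' * (δ * δ) := by noncomm_ring
  rw [h2, hsq]
  simp only [Subalgebra.coe_add, Subalgebra.coe_sub, Subalgebra.coe_mul]
  noncomm_ring

/-- the subalgebra `K + K δ`. -/
def cliffAlg (K : Subalgebra F (Matrix (Fin n) (Fin n) F)) (δ : Matrix (Fin n) (Fin n) F) (m : ↥K)
    (hδc : ∀ k ∈ K, δ * k = k * δ) (hsq : δ * δ = δ - (m : Matrix (Fin n) (Fin n) F)) :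
    Subalgebra F (Matrix (Fin n) (Fin n) F) where
  carrier := {x | ∃ a b : ↥K, x = (a : Matrix (Fin n) (Fin n) F) + (b : Matrix (Fin n) (Fin n) F) * δ}
  mul_mem' := by
    rintro _ _ ⟨a, b, rfl⟩ ⟨a', b', rfl⟩
    exact ⟨_, _, f2_cliff_mul hδc hsq a b a' b'⟩
  add_mem' := by
    rintro _ _ ⟨a, b, rfl⟩ ⟨a', b', rfl⟩
    refine ⟨a + a', b + b', ?_⟩
    simp only [Subalgebra.coe_add]
    noncomm_ring
  algebraMap_mem' c := by
    refine ⟨algebraMap F ↥K c, 0, ?_⟩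
    simp only [Subalgebra.coe_algebraMap, Subalgebra.coe_zero, zero_mul, add_zero]

theorem mem_cliffAlg (hδc : ∀ k ∈ K, δ * k = k * δ) (hsq : δ * δ = δ - (m : Matrix (Fin n) (Fin n) F))
    (x : Matrix (Fin n) (Fin n) F) :
    x ∈ cliffAlg K δ m hδc hsq ↔
      ∃ a b : ↥K, x = (a : Matrix (Fin n) (Fin n) F) + (b : Matrix (Fin n) (Fin n) F) * δ := Iff.rfl

end cliff


namespace KForm

variable {r : ℕ} {K : Subalgebra F (Matrix (Fin n) (Fin n) F)} {Q : (Fin n → F) → F}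
  (S : KForm K Q) (hK : IsFieldSubalgebra r K) (hQ : IsNondegenerateQuadraticForm Q)
  (hsa : IsSelfAdjointFor (QuadraticMap.polar Q) K)
  {δ : Matrix (Fin n) (Fin n) F} {m : ↥K}
  (hδc : ∀ k ∈ K, δ * k = k * δ)
  (hf3 : ∀ v : Fin n → F, S.fK (δ *ᵥ v) v = S.QK v)
  (hf4 : ∀ v : Fin n → F, S.QK (δ *ᵥ v) = m * S.QK v)

include hK hQ hsa hf3 in
theorem delta_polar [Nonempty (Fin n)] (u w : Fin n → F) :
    S.fK (δ *ᵥ u) w + S.fK (δ *ᵥ w) u = S.fK u w := by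
  have h := hf3 (u + w)
  rw [Matrix.mulVec_add, S.fK_add_left hK hQ, S.fK_add_right hK hQ hsa, S.fK_add_right hK hQ hsa,
    hf3, hf3, S.QK_add hK hQ hsa] at h
  let _ : Field ↥K := (Cfsg.Agent.Lib.H5.OP2.isField_of_isFieldSubalgebra r K hK).toField
  linear_combination h

theorem cliff_act (a b : ↥K) (v : Fin n → F) :
    ((a : Matrix (Fin n) (Fin n) F) + (b : Matrix (Fin n) (Fin n) F) * δ) *ᵥ v =
      (a : Matrix (Fin n) (Fin n) F) *ᵥ v + (b : Matrix (Fin n) (Fin n) F) *ᵥ (δ *ᵥ v) := by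
  rw [Matrix.add_mulVec, Matrix.mulVec_mulVec]

include hK hQ hsa hf3 hf4 in
theorem cliff_QK [Nonempty (Fin n)] (a b : ↥K) (v : Fin n → F) :
    S.QK (((a : Matrix (Fin n) (Fin n) F) + (b : Matrix (Fin n) (Fin n) F) * δ) *ᵥ v) =
      (a * a + a * b + m * b * b) * S.QK v := by
  rw [cliff_act, S.QK_add hK hQ hsa, S.QK_smul hK, S.QK_smul hK, S.fK_smul_left hK,
    S.fK_smul_right hK hsa, hf4, S.fK_symm hK hsa v, hf3]
  let _ : Field ↥K := (Cfsg.Agent.Lib.H5.OP2.isField_of_isFieldSubalgebra r K hK).toField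
  ring

include hK hQ hsa hf3 in
theorem cliff_fK_self [Nonempty (Fin n)] (a b : ↥K) (v : Fin n → F) :
    S.fK (((a : Matrix (Fin n) (Fin n) F) + (b : Matrix (Fin n) (Fin n) F) * δ) *ᵥ v) v =
      (2 * a + b) * S.QK v := by
  rw [cliff_act, S.fK_add_left hK hQ, S.fK_smul_left hK, S.fK_smul_left hK, hf3, S.fK_self hK hQ hsa]
  let _ : Field ↥K := (Cfsg.Agent.Lib.H5.OP2.isField_of_isFieldSubalgebra r K hK).toField
  ring

include hK hQ hsa hf3 in
theorem cliff_adj [Nonempty (Fin n)] (a b : ↥K) (u w : Fin n → F) :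
    S.fK (((a : Matrix (Fin n) (Fin n) F) + (b : Matrix (Fin n) (Fin n) F) * δ) *ᵥ u) w =
      S.fK u ((((a + b : ↥K) : Matrix (Fin n) (Fin n) F) +
        ((-b : ↥K) : Matrix (Fin n) (Fin n) F) * δ) *ᵥ w) := by
  rw [cliff_act, cliff_act, S.fK_add_left hK hQ, S.fK_add_right hK hQ hsa, S.fK_smul_left hK,
    S.fK_smul_left hK, S.fK_smul_right hK hsa, S.fK_smul_right hK hsa]
  have h := S.delta_polar hK hQ hsa hf3 u w
  rw [S.fK_symm hK hsa (δ *ᵥ w) u] at h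
  let _ : Field ↥K := (Cfsg.Agent.Lib.H5.OP2.isField_of_isFieldSubalgebra r K hK).toField
  linear_combination b * h

include hK hδc in
theorem cliff_comm_K (a b : ↥K) : ∀ k ∈ K,
    ((a : Matrix (Fin n) (Fin n) F) + (b : Matrix (Fin n) (Fin n) F) * δ) * k =
      k * ((a : Matrix (Fin n) (Fin n) F) + (b : Matrix (Fin n) (Fin n) F) * δ) := by
  intro k hk
  rw [add_mul, mul_add, mul_assoc, hδc k hk, ← mul_assoc, ← mul_assoc, hK.comm _ a.2 k hk,
    hK.comm _ b.2 k hk]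

end KForm

end Cfsg.Agent.Lib.H26.EOP2
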