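/-
EO project, phase 2, piece EO2-F2 (helper26), part (g): **F2-AN**, the anisotropic case (exact signature of
tools/blueprints/EO2F2_sigs.lean).
-/
import Cfsg.Agent.Lib.H26.AschEO2F2f

set_option autoImplicit false

namespace Cfsg.Agent.Lib.H26.EOP2

open Cfsg Cfsg.Geo
open scoped MatrixGroups Matrix

variable {F : Type*} [Field F] [Fintype F] {n : ℕ}

/-- **F2-AN** (anisotropic case: the even Clifford algebra `A = K + K δ`). -/
theorem f2_anisotropic [Nonempty (Fin n)] (r : ℕ) (K : Subalgebra F (Matrix (Fin n) (Fin n) F))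
    (hK : IsFieldSubalgebra r K) (Q : (Fin n → F) → F) (hQ : IsNondegenerateQuadraticForm Q)
    (hsa : IsSelfAdjointFor (QuadraticMap.polar Q) K) (S : KForm K Q) (hn : n = 2 * r)
    (han : ∀ v : Fin n → F, S.QK v = 0 → v = 0) :
    ∃ A : Subalgebra F (Matrix (Fin n) (Fin n) F), IsFieldSubalgebra (2 * r) A ∧
      subalgebraNormalizer K ⊓ isometryGroup F Q ≤ subalgebraNormalizer A ∧
      ∀ x ∈ A, ∃ x' ∈ A, (∀ u w : Fin n → F,
        QuadraticMap.polar Q (x *ᵥ u) w = QuadraticMap.polar Q u (x' *ᵥ w)) ∧ x + x' ∈ K ∧ x * x' ∈ K ∧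
        ∀ c : F, x * x' = c • (1 : Matrix (Fin n) (Fin n) F) → ∀ v : Fin n → F, Q (x *ᵥ v) = c * Q v := by
  classical
  let _ : Field ↥K := (Cfsg.Agent.Lib.H5.OP2.isField_of_isFieldSubalgebra r K hK).toField
  obtain ⟨δ, m, hδc, hf3, hf4, hsq, hinj, halt⟩ := S.exists_delta hK hQ hsa hn han
  -- the norm
  have hN : ∀ a b : ↥K, (a : Matrix (Fin n) (Fin n) F) + (b : Matrix (Fin n) (Fin n) F) * δ ≠ 0 →
      a * a + a * b + m * b * b ≠ 0 := by
    intro a b hx hN0
    apply hx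
    rw [Matrix.ext_iff_mulVec]
    intro v
    rw [Matrix.zero_mulVec]
    apply han
    rw [S.cliff_QK hK hQ hsa hf3 hf4, hN0, zero_mul]
  have hxx' : ∀ a b : ↥K, ((a : Matrix (Fin n) (Fin n) F) + (b : Matrix (Fin n) (Fin n) F) * δ) *
      (((a + b : ↥K) : Matrix (Fin n) (Fin n) F) + ((-b : ↥K) : Matrix (Fin n) (Fin n) F) * δ) =
      ((a * a + a * b + m * b * b : ↥K) : Matrix (Fin n) (Fin n) F) := by
    intro a b
    have e1 : a * (a + b) - b * (-b) * m = a * a + a * b + m * b * b := by ring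
    have e2 : a * (-b) + b * (a + b) + b * (-b) = 0 := by ring
    rw [f2_cliff_mul hδc hsq, e1, e2, Subalgebra.coe_zero, zero_mul, add_zero]
  -- characterisation of `A`
  have hchar : ∀ x : Matrix (Fin n) (Fin n) F, x ∈ cliffAlg K δ m hδc hsq ↔
      (∀ k ∈ K, x * k = k * x) ∧ ∃ t : ↥K, ∀ v : Fin n → F, S.fK (x *ᵥ v) v = t * S.QK v := by
    intro x
    constructor
    · rintro ⟨a, b, rfl⟩
      exact ⟨KForm.cliff_comm_K hK hδc a b, 2 * a + b, S.cliff_fK_self hK hQ hsa hf3 a b⟩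
    · rintro ⟨hxc, t, ht⟩
      have hyc : ∀ k ∈ K, (x + ((-t : ↥K) : Matrix (Fin n) (Fin n) F) * δ) * k =
          k * (x + ((-t : ↥K) : Matrix (Fin n) (Fin n) F) * δ) := by
        intro k hk
        rw [add_mul, mul_add, hxc k hk, mul_assoc, hδc k hk, ← mul_assoc, ← mul_assoc,
          hK.comm _ (-t).2 k hk]
      have hy : ∀ v : Fin n → F, S.fK ((x + ((-t : ↥K) : Matrix (Fin n) (Fin n) F) * δ) *ᵥ v) v = 0 := by
        intro v
        rw [Matrix.add_mulVec, ← Matrix.mulVec_mulVec, S.fK_add_left hK hQ, S.fK_smul_left hK, hf3, ht]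
        ring
      obtain ⟨a, b, hab⟩ := halt _ hyc hy
      refine ⟨a, b + t, ?_⟩
      have h1 : x = (x + ((-t : ↥K) : Matrix (Fin n) (Fin n) F) * δ) + (t : Matrix (Fin n) (Fin n) F) * δ := by
        rw [Subalgebra.coe_neg]
        noncomm_ring
      rw [h1, hab, Subalgebra.coe_add]
      noncomm_ring
  -- conjugation invariance
  have hconj : ∀ g : GL (Fin n) F, g ∈ subalgebraNormalizer K → g ∈ isometryGroup F Q →
      ∀ x ∈ cliffAlg K δ m hδc hsq,
        (g : Matrix (Fin n) (Fin n) F) * x * ((g⁻¹ : GL (Fin n) F) : Matrix (Fin n) (Fin n) F) ∈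
          cliffAlg K δ m hδc hsq := by
    intro g hgK hgQ x hx
    obtain ⟨hxc, t, ht⟩ := (hchar x).1 hx
    rw [hchar]
    have h1 : ((g⁻¹ : GL (Fin n) F) : Matrix (Fin n) (Fin n) F) * (g : Matrix (Fin n) (Fin n) F) = 1 := by
      rw [← Units.val_mul, inv_mul_cancel, Units.val_one]
    have h2 : (g : Matrix (Fin n) (Fin n) F) * ((g⁻¹ : GL (Fin n) F) : Matrix (Fin n) (Fin n) F) = 1 := by
      rw [← Units.val_mul, mul_inv_cancel, Units.val_one]
    obtain ⟨c, hc0, hcQ, hcf⟩ := S.exists_semilinear hK hQ hsa g hgK hgQ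
    refine ⟨?_, KForm.conjEquiv g hgK t, ?_⟩
    · intro k hk
      have hk' : ((g⁻¹ : GL (Fin n) F) : Matrix (Fin n) (Fin n) F) * k * (g : Matrix (Fin n) (Fin n) F) ∈ K := by
        have h := (Subgroup.inv_mem _ hgK) k
        rw [inv_inv] at h
        exact h.1 hk
      have h3 := hxc _ hk'
      calc (g : Matrix (Fin n) (Fin n) F) * x * ((g⁻¹ : GL (Fin n) F) : Matrix (Fin n) (Fin n) F) * k
          = (g : Matrix (Fin n) (Fin n) F) * x * ((g⁻¹ : GL (Fin n) F) : Matrix (Fin n) (Fin n) F) * k *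
              ((g : Matrix (Fin n) (Fin n) F) * ((g⁻¹ : GL (Fin n) F) : Matrix (Fin n) (Fin n) F)) := by
            rw [h2, mul_one]
        _ = (g : Matrix (Fin n) (Fin n) F) * (x * (((g⁻¹ : GL (Fin n) F) : Matrix (Fin n) (Fin n) F) * k *
              (g : Matrix (Fin n) (Fin n) F))) * ((g⁻¹ : GL (Fin n) F) : Matrix (Fin n) (Fin n) F) := by
            noncomm_ring
        _ = (g : Matrix (Fin n) (Fin n) F) * ((((g⁻¹ : GL (Fin n) F) : Matrix (Fin n) (Fin n) F) * k *
              (g : Matrix (Fin n) (Fin n) F)) * x) * ((g⁻¹ : GL (Fin n) F) : Matrix (Fin n) (Fin n) F) := by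
            rw [h3]
        _ = ((g : Matrix (Fin n) (Fin n) F) * ((g⁻¹ : GL (Fin n) F) : Matrix (Fin n) (Fin n) F)) * k *
              ((g : Matrix (Fin n) (Fin n) F) * x * ((g⁻¹ : GL (Fin n) F) : Matrix (Fin n) (Fin n) F)) := by
            noncomm_ring
        _ = k * ((g : Matrix (Fin n) (Fin n) F) * x * ((g⁻¹ : GL (Fin n) F) : Matrix (Fin n) (Fin n) F)) := by
            rw [h2, one_mul]
    · intro v
      have hv : v = (g : Matrix (Fin n) (Fin n) F) *ᵥ
          (((g⁻¹ : GL (Fin n) F) : Matrix (Fin n) (Fin n) F) *ᵥ v) := by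
        rw [Matrix.mulVec_mulVec, h2, Matrix.one_mulVec]
      set u := ((g⁻¹ : GL (Fin n) F) : Matrix (Fin n) (Fin n) F) *ᵥ v with hu
      have h4 : ((g : Matrix (Fin n) (Fin n) F) * x * ((g⁻¹ : GL (Fin n) F) : Matrix (Fin n) (Fin n) F)) *ᵥ v =
          (g : Matrix (Fin n) (Fin n) F) *ᵥ (x *ᵥ u) := by
        rw [hu, Matrix.mulVec_mulVec, Matrix.mulVec_mulVec, mul_assoc]
      rw [h4]
      have key : S.fK ((g : Matrix (Fin n) (Fin n) F) *ᵥ (x *ᵥ u)) ((g : Matrix (Fin n) (Fin n) F) *ᵥ u) =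
          KForm.conjEquiv g hgK t * S.QK ((g : Matrix (Fin n) (Fin n) F) *ᵥ u) := by
        rw [hcf, hcQ, ht, map_mul]
        ring
      rw [← hv] at key
      exact key
  let A := cliffAlg K δ m hδc hsq
  refine ⟨A, ⟨?_, ?_, ?_⟩, ?_, ?_⟩
  · -- commutative
    rintro _ ⟨a, b, rfl⟩ _ ⟨a', b', rfl⟩
    rw [f2_cliff_mul hδc hsq, f2_cliff_mul hδc hsq]
    have e1 : a * a' - b * b' * m = a' * a - b' * b * m := by ring
    have e2 : a * b' + b * a' + b * b' = a' * b + b' * a + b' * b := by ring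
    rw [e1, e2]
  · -- inverses
    rintro _ ⟨a, b, rfl⟩ hx
    obtain ⟨c, hc⟩ := f2_exists_inv r K hK _ (hN a b hx)
    refine ⟨((c * (a + b) : ↥K) : Matrix (Fin n) (Fin n) F) +
      ((c * (-b) : ↥K) : Matrix (Fin n) (Fin n) F) * δ, ⟨_, _, rfl⟩, ?_⟩
    have e1 : a * (c * (a + b)) - b * (c * (-b)) * m = 1 := by linear_combination hc
    have e2 : a * (c * (-b)) + b * (c * (a + b)) + b * (c * (-b)) = 0 := by ring
    rw [f2_cliff_mul hδc hsq, e1, e2, Subalgebra.coe_zero, zero_mul, add_zero, Subalgebra.coe_one]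
  · -- dimension
    let φ : (↥K × ↥K) →ₗ[F] ↥A :=
      { toFun := fun p => ⟨(p.1 : Matrix (Fin n) (Fin n) F) + (p.2 : Matrix (Fin n) (Fin n) F) * δ,
          ⟨p.1, p.2, rfl⟩⟩
        map_add' := fun p q => by
          apply Subtype.ext
          show ((p.1 + q.1 : ↥K) : Matrix (Fin n) (Fin n) F) + ((p.2 + q.2 : ↥K) : Matrix (Fin n) (Fin n) F) * δ =
            ((p.1 : Matrix (Fin n) (Fin n) F) + (p.2 : Matrix (Fin n) (Fin n) F) * δ) +
              ((q.1 : Matrix (Fin n) (Fin n) F) + (q.2 : Matrix (Fin n) (Fin n) F) * δ)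
          rw [Subalgebra.coe_add, Subalgebra.coe_add]
          noncomm_ring
        map_smul' := fun c p => by
          apply Subtype.ext
          show ((c • p.1 : ↥K) : Matrix (Fin n) (Fin n) F) + ((c • p.2 : ↥K) : Matrix (Fin n) (Fin n) F) * δ =
            c • ((p.1 : Matrix (Fin n) (Fin n) F) + (p.2 : Matrix (Fin n) (Fin n) F) * δ)
          rw [Subalgebra.coe_smul, Subalgebra.coe_smul, smul_add, smul_mul_assoc] }
    have hφ : ∀ p, ((φ p : ↥A) : Matrix (Fin n) (Fin n) F) =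
        (p.1 : Matrix (Fin n) (Fin n) F) + (p.2 : Matrix (Fin n) (Fin n) F) * δ := fun p => rfl
    have hbij : Function.Bijective φ := by
      constructor
      · rw [← LinearMap.ker_eq_bot, LinearMap.ker_eq_bot']
        intro p hp
        have h1 : ((φ p : ↥A) : Matrix (Fin n) (Fin n) F) = 0 := by rw [hp]; rfl
        rw [hφ] at h1
        obtain ⟨h2, h3⟩ := hinj _ _ h1
        exact Prod.ext h2 h3
      · rintro ⟨x, a, b, rfl⟩
        exact ⟨(a, b), rfl⟩
    have e := LinearEquiv.ofBijective φ hbij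
    rw [← e.finrank_eq, Module.finrank_prod, hK.finrank_eq]
    ring
  · -- normalised
    rintro g ⟨hgK, hgQ⟩
    intro x
    constructor
    · exact hconj g hgK hgQ x
    · intro hx
      have h := hconj g⁻¹ (Subgroup.inv_mem _ hgK) (Subgroup.inv_mem _ hgQ) _ hx
      rw [inv_inv] at h
      have h1 : ((g⁻¹ : GL (Fin n) F) : Matrix (Fin n) (Fin n) F) * (g : Matrix (Fin n) (Fin n) F) = 1 := by
        rw [← Units.val_mul, inv_mul_cancel, Units.val_one]
      have h5 : ((g⁻¹ : GL (Fin n) F) : Matrix (Fin n) (Fin n) F) * ((g : Matrix (Fin n) (Fin n) F) * x *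
          ((g⁻¹ : GL (Fin n) F) : Matrix (Fin n) (Fin n) F)) * (g : Matrix (Fin n) (Fin n) F) = x := by
        calc _ = (((g⁻¹ : GL (Fin n) F) : Matrix (Fin n) (Fin n) F) * (g : Matrix (Fin n) (Fin n) F)) * x *
            (((g⁻¹ : GL (Fin n) F) : Matrix (Fin n) (Fin n) F) * (g : Matrix (Fin n) (Fin n) F)) := by
              noncomm_ring
          _ = x := by rw [h1, one_mul, mul_one]
      rwa [h5] at h
  · -- adjoints
    rintro _ ⟨a, b, rfl⟩
    refine ⟨((a + b : ↥K) : Matrix (Fin n) (Fin n) F) + ((-b : ↥K) : Matrix (Fin n) (Fin n) F) * δ,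
      ⟨_, _, rfl⟩, ?_, ?_, ?_, ?_⟩
    · intro u w
      rw [S.polar_eq, S.polar_eq, S.cliff_adj hK hQ hsa hf3]
    · have h1 : ((a : Matrix (Fin n) (Fin n) F) + (b : Matrix (Fin n) (Fin n) F) * δ) +
          (((a + b : ↥K) : Matrix (Fin n) (Fin n) F) + ((-b : ↥K) : Matrix (Fin n) (Fin n) F) * δ) =
          ((a + (a + b) : ↥K) : Matrix (Fin n) (Fin n) F) := by
        simp only [Subalgebra.coe_add, Subalgebra.coe_neg]
        noncomm_ring
      rw [h1]
      exact (a + (a + b)).2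
    · rw [hxx']
      exact (a * a + a * b + m * b * b).2
    · intro c hc v
      rw [hxx'] at hc
      have hN1 : a * a + a * b + m * b * b = c • (1 : ↥K) := by
        apply Subtype.ext
        rw [hc, Subalgebra.coe_smul, Subalgebra.coe_one]
      rw [S.Q_eq, S.cliff_QK hK hQ hsa hf3 hf4, hN1, smul_mul_assoc, one_mul, map_smul, smul_eq_mul,
        ← S.Q_eq]

end Cfsg.Agent.Lib.H26.EOP2
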