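/-
EO project, phase 2, piece **EO2-F2** (helper26; pieces: F2-ISO helper18, F2-K2 helper3, F2-AN helper26).
Class 3, self-adjoint field subalgebra `K` of odd degree `r` in dimension `n = 2 r` (rows Ω10±: r = 5):
`X := subalgebraNormalizer K ⊓ isometryGroup F Q` lies in the stabiliser of a pair of totally singular `r`-spaces (isotropic case)
or in the normaliser of a degree-2 field subalgebra of unitary kind (anisotropic case).  All `q`; for `q` even the clause
`halt` is the `q`-even clause of the class-3a predicate `EC3a`.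
-/
import Cfsg.Agent.Lib.H26.AschEO2F2g
import Cfsg.Agent.Lib.H18.AschEO2F2ISO
import Cfsg.Agent.Lib.H3.AschEO2F2K2

set_option autoImplicit false

namespace Cfsg.Agent.Lib.H26.EOP2

open Cfsg Cfsg.Geo
open scoped MatrixGroups Matrix

variable {F : Type*} [Field F] [Fintype F] {n : ℕ}

/-- **EO2-F2**. -/
theorem selfAdjoint_half_cases (r : ℕ) (hr : Odd r) (K : Subalgebra F (Matrix (Fin n) (Fin n) F))
    (hK : IsFieldSubalgebra r K) (Q : (Fin n → F) → F) (hQ : IsNondegenerateQuadraticForm Q)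
    (hsa : IsSelfAdjointFor (QuadraticMap.polar Q) K)
    (halt : (2 : F) = 0 → ∀ k ∈ K, ∀ v : Fin n → F, QuadraticMap.polar Q (k *ᵥ v) v = 0)
    (hn : n = 2 * r) :
    (∃ D : Fin 2 → Submodule F (Fin n → F), IsMDecomposition r D ∧ (∀ i, IsTotallySingularQuad Q (D i)) ∧
      subalgebraNormalizer K ⊓ isometryGroup F Q ≤ decompositionStabilizer D) ∨
    (∃ K₂ : Subalgebra F (Matrix (Fin n) (Fin n) F), IsFieldSubalgebra 2 K₂ ∧
      IsAdjointClosedFor (QuadraticMap.polar Q) K₂ ∧ ¬ IsSelfAdjointFor (QuadraticMap.polar Q) K₂ ∧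
      (∀ k ∈ K₂, ∃ c : F, ∀ v : Fin n → F, Q (k *ᵥ v) = c * Q v) ∧
      subalgebraNormalizer K ⊓ isometryGroup F Q ≤ subalgebraNormalizer K₂) := by
  classical
  have hr0 : 0 < r := hr.pos
  have : Nonempty (Fin n) := ⟨⟨0, by omega⟩⟩
  obtain ⟨S⟩ := f2_exists_kform r K hK Q hQ hsa halt
  by_cases han : ∀ v : Fin n → F, S.QK v = 0 → v = 0
  · right
    obtain ⟨A, hA, hXA, hadj⟩ := f2_anisotropic r K hK Q hQ hsa S hn han
    obtain ⟨K₂, h1, h2, h3, h4, h5⟩ :=
      Cfsg.Agent.Lib.H3.EOP2.f2_exists_quadratic_subfield r hr K A hK hA Q hQ hadj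
    exact ⟨K₂, h1, h2, h3, h4, hXA.trans h5⟩
  · left
    push Not at han
    obtain ⟨v₁, h0, hv₁⟩ := han
    exact Cfsg.Agent.Lib.H18.EOP2.f2_isotropic r K hK Q hQ hsa S hn v₁ hv₁ h0

end Cfsg.Agent.Lib.H26.EOP2
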