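import Mathlib
import Cfsg.Agent.Lib.H9.PolySeq
import Cfsg.Agent.Lib.H26.PPearlDefs

/-!
# S5238 piece COLLECT (helper26): the exact collection formula

`(d e)^p ≡ d^p · d_{p-1} · e^p (mod K p)` for a filtration `K 0 ≥ K 1 ≥ …` with `[K a, K b] ≤ K (a+b+2)`,
`[K a, e] ≤ K (a+1)` and `x^p ∈ K p` for `x ∈ K 1`.  Polynomial sequences (helper9's `PolySeq`) with respect to
a pair of filtrations `Γ`, `Γ⁺` with `[Γ i, Γ j] ≤ Γ⁺ (i+j)`.
-/

set_option autoImplicit false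

namespace Cfsg.Agent.Lib.H26.PPearl

open Cfsg.Agent.Lib.H9.PolySeq
open scoped commutatorElement

variable {G : Type*} [Group G]

/-- polynomial of all orders -/
def PolA (Γ : ℕ → Subgroup G) (d : ℕ) (f : ℕ → G) : Prop := ∀ k, Pol Γ k d f

variable {Γ Γp : ℕ → Subgroup G}

theorem polA_iff {d : ℕ} {f : ℕ → G} :
    PolA Γ d f ↔ (∀ n, f n ∈ Γ d) ∧ PolA Γ (d + 1) (D f) := by
  constructor
  · intro h
    exact ⟨h 0, fun k => (h (k + 1)).2⟩
  · rintro ⟨h1, h2⟩ k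
    cases k with
    | zero => exact h1
    | succ k => exact ⟨h1, h2 k⟩

theorem PolA.mem {d : ℕ} {f : ℕ → G} (h : PolA Γ d f) (n : ℕ) : f n ∈ Γ d := (polA_iff.1 h).1 n

theorem PolA.diff {d : ℕ} {f : ℕ → G} (h : PolA Γ d f) : PolA Γ (d + 1) (D f) := (polA_iff.1 h).2

theorem PolA.one (hΓ : IsNSeries Γ) (d : ℕ) : PolA Γ d (1 : ℕ → G) := fun k => (Q_all hΓ k).one d

theorem PolA.mul (hΓ : IsNSeries Γ) {d : ℕ} {f g : ℕ → G} (hf : PolA Γ d f) (hg : PolA Γ d g) :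
    PolA Γ d (f * g) := fun k => (Q_all hΓ k).mul d f g (hf k) (hg k)

theorem PolA.inv (hΓ : IsNSeries Γ) {d : ℕ} {f : ℕ → G} (hf : PolA Γ d f) :
    PolA Γ d f⁻¹ := fun k => (Q_all hΓ k).inv d f (hf k)

theorem PolA.mono (hΓ : IsNSeries Γ) {d d' : ℕ} {f : ℕ → G} (hle : d ≤ d') (hf : PolA Γ d' f) :
    PolA Γ d f := fun k => Pol.mono_le hΓ hle (hf k)

theorem PolA.B (hΓ : IsNSeries Γ) {d m : ℕ} {g : G} (hg : g ∈ Γ (d + m)) : PolA Γ d (B g m) :=
  fun k => pol_B hΓ k d m g hg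

/-- A pair of filtrations with `[Γ i, Γ j] ≤ Γ⁺ (i + j)`. -/
structure IsPair (Γ Γp : ℕ → Subgroup G) : Prop where
  h : IsNSeries Γ
  hp : IsNSeries Γp
  le : ∀ k, Γp k ≤ Γ k
  comm : ∀ i j, ⁅Γ i, Γ j⁆ ≤ Γp (i + j)

theorem pol_sub (hP : IsPair Γ Γp) (k : ℕ) : ∀ (d : ℕ) (f : ℕ → G), Pol Γp k d f → Pol Γ k d f := by
  induction k with
  | zero => intro d f h n; exact hP.le d (h n)
  | succ k ih => intro d f h; exact ⟨fun n => hP.le d (h.1 n), ih _ _ h.2⟩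

theorem PolA.sub (hP : IsPair Γ Γp) {d : ℕ} {f : ℕ → G} (h : PolA Γp d f) : PolA Γ d f :=
  fun k => pol_sub hP k d f (h k)

/-- mixed commutator: `[Pol Γ i, Pol Γ j] ⊆ Pol Γ⁺ (i+j)` -/
theorem pol_mixed_comm (hP : IsPair Γ Γp) (k : ℕ) :
    ∀ (i j : ℕ) (f g : ℕ → G), Pol Γ k i f → Pol Γ k j g → Pol Γp k (i + j) ⁅f, g⁆ := by
  induction k with
  | zero =>
    intro i j f g hf hg n
    exact hP.comm i j (Subgroup.commutator_mem_commutator (hf n) (hg n))
  | succ k ih =>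
    intro i j f g hf hg
    refine ⟨fun n => hP.comm i j (Subgroup.commutator_mem_commutator (hf.1 n) (hg.1 n)), ?_⟩
    rw [D_comm]
    have hQ := Q_all hP.h k
    have hQp := Q_all hP.hp k
    -- mixed conjugation at level k
    have conj : ∀ {e e' : ℕ} {h u : ℕ → G}, Pol Γ k e' h → Pol Γp k e u → Pol Γp k e (h * u * h⁻¹) := by
      intro e e' h u hh hu
      have : h * u * h⁻¹ = ⁅h, u⁆ * u := by rw [commutatorElement_def]; group
      rw [this]
      exact hQp.mul e _ _ (Pol.mono_le hP.hp (by omega) (ih e' e h u hh (pol_sub hP k _ _ hu))) hu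
    have conj' : ∀ {e e' : ℕ} {h u : ℕ → G}, Pol Γ k e' h → Pol Γp k e u → Pol Γp k e (h⁻¹ * u * h) := by
      intro e e' h u hh hu
      have := conj (hQ.inv e' h hh) hu
      rwa [inv_inv] at this
    have hf0 := hf.of_succ
    have hg0 := hg.of_succ
    have hc : Pol Γ k (i + j) ⁅f, g⁆ := hQ.comm i j f g hf0 hg0
    have h1 : Pol Γp k (i + j + 1) ⁅D f, g⁆ :=
      Pol.mono_le hP.hp (by omega) (ih (i + 1) j _ _ hf.2 hg0)
    have h2 : Pol Γp k (i + j + 1) ⁅D f, D g⁆ :=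
      Pol.mono_le hP.hp (by omega) (ih (i + 1) (j + 1) _ _ hf.2 hg.2)
    have h3 : Pol Γp k (i + j + 1) ⁅f, D g⁆ :=
      Pol.mono_le hP.hp (by omega) (ih i (j + 1) _ _ hf0 hg.2)
    have h4 : Pol Γp k (i + j + 1) (g * ⁅D f, D g⁆ * g⁻¹) := conj hg0 h2
    have h5 : Pol Γp k (i + j + 1) (f * (⁅D f, g⁆ * (g * ⁅D f, D g⁆ * g⁻¹)) * f⁻¹) :=
      conj hf0 (hQp.mul _ _ _ h1 h4)
    have h6 := conj' hc h5
    have h7 : Pol Γp k (i + j + 1) (g * ⁅f, D g⁆ * g⁻¹) := conj hg0 h3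
    exact hQp.mul _ _ _ h6 h7

theorem PolA.mixed_comm (hP : IsPair Γ Γp) {i j : ℕ} {f g : ℕ → G} (hf : PolA Γ i f) (hg : PolA Γ j g) :
    PolA Γp (i + j) ⁅f, g⁆ := fun k => pol_mixed_comm hP k i j f g (hf k) (hg k)

theorem PolA.mixed_conj (hP : IsPair Γ Γp) {e e' : ℕ} {h u : ℕ → G} (hh : PolA Γ e' h) (hu : PolA Γp e u) :
    PolA Γp e (h * u * h⁻¹) := by
  have : h * u * h⁻¹ = ⁅h, u⁆ * u := by rw [commutatorElement_def]; group
  rw [this]
  exact PolA.mul hP.hp (PolA.mono hP.hp (by omega) (PolA.mixed_comm hP hh (PolA.sub hP hu))) hu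

theorem PolA.mixed_conj' (hP : IsPair Γ Γp) {e e' : ℕ} {h u : ℕ → G} (hh : PolA Γ e' h) (hu : PolA Γp e u) :
    PolA Γp e (h⁻¹ * u * h) := by
  have := PolA.mixed_conj hP (PolA.inv hP.h hh) hu
  rwa [inv_inv] at this


/-- values from the initial value and the differences -/
theorem mem_of_D_mem {f : ℕ → G} {H : Subgroup G} (h0 : f 0 ∈ H) (hD : ∀ n, D f n ∈ H) : ∀ n, f n ∈ H := by
  intro n
  induction n with
  | zero => exact h0
  | succ n ih =>
    have : f (n + 1) = f n * D f n := by simp [D]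
    rw [this]
    exact mul_mem ih (hD n)

/-- **L6**: `X, Y ∈ P_j`, `X 0 = Y 0`, `(DX)⁻¹ DY ∈ P⁺_{j+1}` ⇒ `X⁻¹ Y ∈ P⁺_j`. -/
theorem PolA.cong (hP : IsPair Γ Γp) {j : ℕ} {X Y : ℕ → G} (hX : PolA Γ j X) (hY : PolA Γ j Y)
    (h0 : X 0 = Y 0) (hD : PolA Γp (j + 1) ((D X)⁻¹ * D Y)) : PolA Γp j (X⁻¹ * Y) := by
  have hDX := hX.diff
  have hDu : PolA Γp (j + 1) (D (X⁻¹ * Y)) := by
    rw [D_mul, D_inv]
    -- ⁅X, (DX)⁻¹⁆ * (DX)⁻¹ * ⁅(⁅X, (DX)⁻¹⁆ * (DX)⁻¹)⁻¹, Y⁻¹⁆ * DY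
    have c1 : PolA Γp (j + 1) ⁅X, (D X)⁻¹⁆ :=
      PolA.mono hP.hp (by omega) (PolA.mixed_comm hP hX (PolA.inv hP.h hDX))
    have hA : PolA Γ (j + 1) (⁅X, (D X)⁻¹⁆ * (D X)⁻¹) :=
      PolA.mul hP.h (PolA.sub hP c1) (PolA.inv hP.h hDX)
    have c2 : PolA Γp (j + 1) ⁅(⁅X, (D X)⁻¹⁆ * (D X)⁻¹)⁻¹, Y⁻¹⁆ :=
      PolA.mono hP.hp (by omega) (PolA.mixed_comm hP (PolA.inv hP.h hA) (PolA.inv hP.h hY))
    have e1 : ⁅X, (D X)⁻¹⁆ * (D X)⁻¹ * ⁅(⁅X, (D X)⁻¹⁆ * (D X)⁻¹)⁻¹, Y⁻¹⁆ * D Y =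
        ⁅X, (D X)⁻¹⁆ * ((D X)⁻¹ * ⁅(⁅X, (D X)⁻¹⁆ * (D X)⁻¹)⁻¹, Y⁻¹⁆ * (D X)⁻¹⁻¹) * ((D X)⁻¹ * D Y) := by
      group
    rw [e1]
    exact PolA.mul hP.hp (PolA.mul hP.hp c1 (PolA.mixed_conj hP (PolA.inv hP.h hDX) c2)) hD
  rw [polA_iff]
  refine ⟨?_, hDu⟩
  apply mem_of_D_mem
  · simp [h0]
  · intro n
    exact hP.hp.anti j (hDu.mem n)

/-- the Taylor product `∏_{i<N} B (a (j+i)) i` -/
def TP (a : ℕ → G) (j : ℕ) : ℕ → (ℕ → G)
  | 0 => 1
  | (N + 1) => TP a j N * B (a (j + N)) N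

theorem TP_polA (hΓ : IsNSeries Γ) (a : ℕ → G) (ha : ∀ i, a i ∈ Γ i) (j : ℕ) :
    ∀ N, PolA Γ j (TP a j N) := by
  intro N
  induction N with
  | zero => exact PolA.one hΓ j
  | succ N ih => exact PolA.mul hΓ ih (PolA.B hΓ (ha _))

theorem D_const_mul_B_zero (g : G) : D ((1 : ℕ → G) * B g 0) = 1 := by
  funext n; simp [D, B]

/-- `D (TP a j (N+1)) ≈ TP a (j+1) N` modulo `P⁺_{j+1}`. -/
theorem TP_diff (hP : IsPair Γ Γp) (a : ℕ → G) (ha : ∀ i, a i ∈ Γ i) (j : ℕ) :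
    ∀ N, PolA Γp (j + 1) ((TP a (j + 1) N)⁻¹ * D (TP a j (N + 1))) := by
  intro N
  induction N with
  | zero =>
    have : (TP a (j + 1) 0)⁻¹ * D (TP a j (0 + 1)) = 1 := by
      show (1 : ℕ → G)⁻¹ * D ((1 : ℕ → G) * B (a (j + 0)) 0) = 1
      rw [D_const_mul_B_zero]; simp
    rw [this]
    exact PolA.one hP.hp _
  | succ N ih =>
    -- X' = TP a j (N+1), Z = TP a (j+1) N, b = B (a (j+N+1)) N
    set X' := TP a j (N + 1) with hX'
    set Z := TP a (j + 1) N with hZ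
    have hXP : PolA Γ j X' := TP_polA hP.h a ha j (N + 1)
    have e1 : TP a j (N + 1 + 1) = X' * B (a (j + (N + 1))) (N + 1) := rfl
    have e2 : TP a (j + 1) (N + 1) = Z * B (a (j + 1 + N)) N := rfl
    rw [e1, e2, D_mul, D_B_succ]
    have hidx : j + 1 + N = j + (N + 1) := by omega
    rw [hidx]
    set b := B (a (j + (N + 1))) N with hb
    set b' := B (a (j + (N + 1))) (N + 1) with hb'
    have hbP : PolA Γ (j + 1) b := PolA.B hP.h (by rw [show j + 1 + N = j + (N + 1) by omega]; exact ha _)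
    have hb'P : PolA Γ j b' := PolA.B hP.h (ha _)
    have c : PolA Γp (j + 1) ⁅(D X')⁻¹, b'⁻¹⁆ :=
      PolA.mono hP.hp (by omega) (PolA.mixed_comm hP (PolA.inv hP.h hXP.diff) (PolA.inv hP.h hb'P))
    have e3 : (Z * b)⁻¹ * (D X' * ⁅(D X')⁻¹, b'⁻¹⁆ * b) =
        b⁻¹ * ((Z⁻¹ * D X') * ⁅(D X')⁻¹, b'⁻¹⁆) * b := by group
    rw [e3]
    exact PolA.mixed_conj' hP hbP (PolA.mul hP.hp ih c)

/-- iterated differences -/
def Dn : ℕ → (ℕ → G) → (ℕ → G)
  | 0, f => f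
  | (i + 1), f => D (Dn i f)

theorem Dn_polA {f : ℕ → G} (hf : PolA Γ 0 f) : ∀ i, PolA Γ i (Dn i f) := by
  intro i
  induction i with
  | zero => exact hf
  | succ i ih => exact ih.diff

theorem TP_zero_apply (a : ℕ → G) (j : ℕ) : ∀ N, TP a j (N + 1) 0 = a j := by
  intro N
  induction N with
  | zero => simp [TP, B]
  | succ N ih =>
    show (TP a j (N + 1) * B (a (j + (N + 1))) (N + 1)) 0 = a j
    rw [Pi.mul_apply, ih]
    simp [B]

/-- **Main lemma**: `f ∈ P_0`, `Γ (c+1) = ⊥` ⇒ `f = ∏_{i ≤ c} B (D^i f 0) i · r` with `r ∈ P⁺_0`. -/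
theorem taylor_cong (hP : IsPair Γ Γp) {c : ℕ} (hc : Γ (c + 1) = ⊥) {f : ℕ → G} (hf : PolA Γ 0 f) :
    ∀ t j, j + t = c + 1 →
      PolA Γp j ((TP (fun i => Dn i f 0) j t)⁻¹ * Dn j f) := by
  have ha : ∀ i, (fun i => Dn i f 0) i ∈ Γ i := fun i => (Dn_polA hf i).mem 0
  intro t
  induction t with
  | zero =>
    intro j hj
    have h1 : Dn j f = 1 := by
      funext n
      have := (Dn_polA hf j).mem n
      rw [show j = c + 1 by omega, hc] at this
      have h2 := Subgroup.mem_bot.1 this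
      rw [show j = c + 1 by omega]
      exact h2
    rw [h1]
    show PolA Γp j ((1 : ℕ → G)⁻¹ * 1)
    simp only [inv_one, mul_one]
    exact PolA.one hP.hp j
  | succ t ih =>
    intro j hj
    have ih' := ih (j + 1) (by omega)
    apply PolA.cong hP (TP_polA hP.h _ ha j (t + 1)) (Dn_polA hf j)
    · rw [TP_zero_apply]
    · have h1 := TP_diff hP _ ha j t
      -- (DX)⁻¹ DY = ((Z⁻¹ DX)⁻¹) * (Z⁻¹ DY)
      have e : (D (TP (fun i => Dn i f 0) j (t + 1)))⁻¹ * D (Dn j f) =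
          ((TP (fun i => Dn i f 0) (j + 1) t)⁻¹ * D (TP (fun i => Dn i f 0) j (t + 1)))⁻¹ *
            ((TP (fun i => Dn i f 0) (j + 1) t)⁻¹ * Dn (j + 1) f) := by
        show _ = _ * (_ * D (Dn j f))
        group
      rw [e]
      exact PolA.mul hP.hp (PolA.inv hP.hp h1) ih'


/-! ### Application -/

section Apply

variable {T : Type*} [Group T]

/-- the conjugation sequence `m ↦ e^m x e^{-m}` -/
def cs (e x : T) : ℕ → T := fun m => e ^ m * x * (e ^ m)⁻¹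

theorem D_cs (e x : T) : D (cs e x) = cs e (x⁻¹ * e * x * e⁻¹) := by
  funext m
  simp only [D, cs, pow_succ]
  group

/-- `f m = (d e)^m e^{-m}` -/
def cf (e d : T) : ℕ → T := fun m => (d * e) ^ m * (e ^ m)⁻¹

theorem D_cf (e d : T) : D (cf e d) = cs e d := by
  funext m
  simp only [D, cf, cs, pow_succ]
  group

theorem Dn_cf (e d : T) : ∀ i, Dn (i + 1) (cf e d) = cs e (itc e d i) := by
  intro i
  induction i with
  | zero => show D (cf e d) = _; rw [D_cf]; rfl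
  | succ i ih =>
    show D (Dn (i + 1) (cf e d)) = _
    rw [ih, D_cs]; rfl

theorem TP_succ_apply (a : ℕ → T) (j N n : ℕ) :
    TP a j (N + 1) n = TP a j N n * a (j + N) ^ (n.choose N) := rfl

theorem collect_bot {p : ℕ} (hp : p.Prime) (K : ℕ → Subgroup T) (e : T)
    (hnorm : ∀ a, (K a).Normal) (hanti : ∀ a, K (a + 1) ≤ K a)
    (hcomm : ∀ a b, ∀ x ∈ K a, ∀ y ∈ K b, x * y * x⁻¹ * y⁻¹ ∈ K (a + b + 2))
    (hKe : ∀ a, ∀ x ∈ K a, x * e * x⁻¹ * e⁻¹ ∈ K (a + 1))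
    (hbot : K p = ⊥)
    (hexp : ∀ x ∈ K 1, x ^ p = 1)
    (d : T) (hd : d ∈ K 0) :
    (d * e) ^ p = d ^ p * itc e d (p - 1) * e ^ p := by
  have hmono : ∀ {a b : ℕ}, a ≤ b → K b ≤ K a := by
    intro a b hab
    induction b, hab using Nat.le_induction with
    | base => exact le_rfl
    | succ b _ ih => exact (hanti b).trans ih
  have hcommS : ∀ a b, ⁅K a, K b⁆ ≤ K (a + b + 2) := by
    intro a b
    rw [Subgroup.commutator_le]
    intro x hx y hy
    rw [commutatorElement_def]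
    exact hcomm a b x hx y hy
  -- the pair of filtrations
  have hP : IsPair (fun k => K (k - 1)) K := by
    refine ⟨⟨fun i => hnorm _, fun i => hmono (by omega), ?_⟩, ⟨hnorm, hanti, ?_⟩, fun k => hmono (by omega), ?_⟩
    · intro i j
      exact (hcommS (i - 1) (j - 1)).trans (hmono (by omega))
    · intro i j
      exact (hcommS i j).trans (hmono (by omega))
    · intro i j
      exact (hcommS (i - 1) (j - 1)).trans (hmono (by omega))
  -- conjugation by powers of e preserves K a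
  have hconj : ∀ (a : ℕ) (x : T), x ∈ K a → ∀ m, cs e x m ∈ K a := by
    intro a x hx m
    exact (hnorm a).conj_mem x hx (e ^ m)
  have hstep : ∀ (a : ℕ) (x : T), x ∈ K a → x⁻¹ * e * x * e⁻¹ ∈ K (a + 1) := by
    intro a x hx
    have := hKe a x⁻¹ (inv_mem hx)
    rwa [inv_inv] at this
  have hitc : ∀ i, itc e d i ∈ K i := by
    intro i
    induction i with
    | zero => exact hd
    | succ i ih => exact hstep i _ ih
  -- `cs e x` is polynomial
  have hcsP : ∀ k (a : ℕ) (x : T), x ∈ K a → Pol (fun k => K (k - 1)) k (a + 1) (cs e x) := by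
    intro k
    induction k with
    | zero => intro a x hx n; exact hconj a x hx n
    | succ k ih =>
      intro a x hx
      refine ⟨fun n => hconj a x hx n, ?_⟩
      rw [D_cs]
      exact ih (a + 1) _ (hstep a x hx)
  have hfP : PolA (fun k => K (k - 1)) 0 (cf e d) := by
    rw [polA_iff]
    refine ⟨?_, ?_⟩
    · apply mem_of_D_mem
      · simp [cf]
      · intro n; rw [D_cf]; exact hconj 0 d hd n
    · rw [D_cf]
      exact fun k => hcsP k 0 d hd
  -- Taylor coefficients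
  set a : ℕ → T := fun i => Dn i (cf e d) 0 with ha
  have ha0 : a 0 = 1 := by simp [ha, Dn, cf]
  have hasucc : ∀ i, a (i + 1) = itc e d i := by
    intro i
    simp only [ha]
    rw [Dn_cf]
    simp [cs]
  have hr := taylor_cong hP (c := p) (by simpa using hbot) hfP (p + 1) 0 (by omega)
  change PolA K 0 ((TP a 0 (p + 1))⁻¹ * cf e d) at hr
  set r := (TP a 0 (p + 1))⁻¹ * cf e d with hrdef
  have hp2 : 2 ≤ p := hp.two_le
  have hv : Vanish 2 r := by
    intro n hn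
    have hN : p + 1 = (p - 1) + 1 + 1 := by omega
    interval_cases n
    · simp only [hrdef, Pi.mul_apply, Pi.inv_apply]
      rw [TP_zero_apply]
      simp [ha0, cf]
    · simp only [hrdef, Pi.mul_apply, Pi.inv_apply]
      have h1 : ∀ N, TP a 0 (N + 2) 1 = a 0 * a 1 := by
        intro N
        induction N with
        | zero => simp [TP, B]
        | succ N ih =>
          rw [TP_succ_apply, ih, Nat.choose_eq_zero_of_lt (by omega), pow_zero, mul_one]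
      rw [show p + 1 = (p - 1) + 2 by omega, h1, ha0, hasucc]
      simp [cf]
  have hrp : r p = 1 := by
    have hW := expansion hP.hp (c := p - 1) (by rw [show p - 1 + 1 = p by omega]; exact hbot) p 2 r
      (by omega) hr hv p
    have hWbot : W K 2 p ≤ ⊥ := by
      unfold W
      rw [Subgroup.closure_le]
      rintro y ⟨i, hi, g, hg, rfl⟩
      show g ^ p.choose i ∈ (⊥ : Subgroup T)
      rw [Subgroup.mem_bot]
      by_cases hip : i < p
      · obtain ⟨q, hq⟩ := hp.dvd_choose_self (by omega) hip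
        rw [hq, pow_mul, hexp g (hmono (by omega) hg), one_pow]
      · have : g ∈ K p := hmono (by omega) hg
        rw [hbot, Subgroup.mem_bot] at this
        rw [this, one_pow]
    exact Subgroup.mem_bot.1 (hWbot hW)
  -- evaluate the Taylor product at p
  have hev : ∀ N, 1 ≤ N → N ≤ p - 1 → TP a 0 (N + 1) p = d ^ p := by
    intro N hN1
    induction N, hN1 using Nat.le_induction with
    | base =>
      intro _
      show (TP a 0 0 p * a (0 + 0) ^ p.choose 0) * a (0 + 1) ^ p.choose 1 = d ^ p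
      simp [TP, ha0, hasucc]
    | succ N hN ih =>
      intro hle
      rw [TP_succ_apply, ih (by omega)]
      have h1 : a (0 + (N + 1)) = itc e d N := by rw [zero_add, hasucc]
      obtain ⟨q, hq⟩ := hp.dvd_choose_self (show N + 1 ≠ 0 by omega) (show N + 1 < p by omega)
      rw [h1, hq, pow_mul, hexp _ (hmono (by omega) (hitc N)), one_pow, mul_one]
  have hfp : cf e d p = d ^ p * itc e d (p - 1) := by
    have h1 : cf e d p = TP a 0 (p + 1) p * r p := by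
      simp only [hrdef, Pi.mul_apply, Pi.inv_apply]; group
    have h2 : TP a 0 p p = d ^ p := by
      have := hev (p - 1) (by omega) le_rfl
      rwa [show p - 1 + 1 = p by omega] at this
    have h3 : a p = itc e d (p - 1) := by
      have := hasucc (p - 1)
      rwa [show p - 1 + 1 = p by omega] at this
    rw [h1, hrp, mul_one, TP_succ_apply, h2, zero_add, Nat.choose_self, pow_one, h3]
  have : (d * e) ^ p = cf e d p * e ^ p := by simp [cf]
  rw [this, hfp]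

theorem map_itc {T' : Type*} [Group T'] (φ : T →* T') (e d : T) : ∀ j, φ (itc e d j) = itc (φ e) (φ d) j := by
  intro j
  induction j with
  | zero => rfl
  | succ j ih => simp only [itc_succ, map_mul, map_inv, ih]

/-- **COLLECT**. -/
theorem collect {p : ℕ} (hp : p.Prime) (K : ℕ → Subgroup T) (e : T)
    (hnorm : ∀ a, (K a).Normal) (hanti : ∀ a, K (a + 1) ≤ K a)
    (hcomm : ∀ a b, ∀ x ∈ K a, ∀ y ∈ K b, x * y * x⁻¹ * y⁻¹ ∈ K (a + b + 2))
    (hKe : ∀ a, ∀ x ∈ K a, x * e * x⁻¹ * e⁻¹ ∈ K (a + 1))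
    (hexp : ∀ x ∈ K 1, x ^ p ∈ K p)
    (d : T) (hd : d ∈ K 0) :
    ((d * e) ^ p)⁻¹ * (d ^ p * itc e d (p - 1) * e ^ p) ∈ K p := by
  haveI := hnorm p
  set π := QuotientGroup.mk' (K p) with hπ
  have hsurj : Function.Surjective π := QuotientGroup.mk'_surjective _
  have key := collect_bot hp (fun a => (K a).map π) (π e)
    (fun a => (hnorm a).map π hsurj) (fun a => Subgroup.map_mono (hanti a))
    (by
      rintro a b _ ⟨x, hx, rfl⟩ _ ⟨y, hy, rfl⟩
      exact ⟨_, hcomm a b x hx y hy, by simp⟩)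
    (by
      rintro a _ ⟨x, hx, rfl⟩
      exact ⟨_, hKe a x hx, by simp⟩)
    (by
      rw [Subgroup.map_eq_bot_iff, QuotientGroup.ker_mk'])
    (by
      rintro _ ⟨x, hx, rfl⟩
      rw [← map_pow]
      exact (QuotientGroup.eq_one_iff _).2 (hexp x hx))
    (π d) ⟨d, hd, rfl⟩
  rw [← map_itc, ← map_mul, ← map_pow, ← map_pow, ← map_pow, ← map_mul, ← map_mul] at key
  have h2 : π (((d * e) ^ p)⁻¹ * (d ^ p * itc e d (p - 1) * e ^ p)) = 1 := by
    rw [map_mul, map_inv, key, inv_mul_cancel]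
  exact (QuotientGroup.eq_one_iff _).1 h2

end Apply

end Cfsg.Agent.Lib.H26.PPearl
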