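import Mathlib
import Cfsg.Prelude.Def_CaseTheorems
import Cfsg.Agent.Lib.H5.Metacyclic2b
import Cfsg.Agent.Lib.H16.Metacyclic

set_option autoImplicit false

/-!
Automorphism groups of dihedral, semidihedral and generalized quaternion `2`-groups are
`2`-groups (via helper5's `MC2.main`); helper26, for S5287.
-/

namespace Cfsg.Agent.Lib.H26.MetaSup

open Cfsg

theorem isMetacyclic_of_index_two {X : Type*} [Group X] (H : Subgroup X) (hc : IsCyclic H)
    (hi : H.index = 2) : Cfsg.IsMetacyclic X := by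
  haveI : H.Normal := Subgroup.normal_of_index_eq_two hi
  refine ⟨H, inferInstance, hc, ?_⟩
  haveI : Fact (Nat.Prime 2) := ⟨Nat.prime_two⟩
  apply isCyclic_of_prime_card (p := 2)
  rw [← Subgroup.index_eq_card, hi]

theorem aut_isPGroup_of {X : Type*} [Group X] [Finite X] (hX : IsPGroup 2 X)
    (hm : Cfsg.IsMetacyclic X) (hnc : ∃ a b : X, a * b ≠ b * a)
    (hq : ¬ Nonempty (X ≃* QuaternionGroup 2)) : IsPGroup 2 (MulAut X) := by
  by_contra hA
  rcases Cfsg.Agent.Lib.H5.MC2.main hX hm hA with h | ⟨n, ⟨e⟩⟩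
  · exact hq h
  · obtain ⟨a, b, hab⟩ := hnc
    apply hab
    apply e.injective
    rw [map_mul, map_mul, mul_comm]

theorem quat_two_involutions_commute :
    ∀ x y : QuaternionGroup 2, x * x = 1 → y * y = 1 → x * y = y * x := by
  decide

theorem isMetacyclic_dihedral (n : ℕ) (hn : n ≠ 0) : Cfsg.IsMetacyclic (DihedralGroup n) := by
  haveI : NeZero n := ⟨hn⟩
  apply isMetacyclic_of_index_two (Subgroup.zpowers (DihedralGroup.r 1 : DihedralGroup n))
  · infer_instance
  · have h1 := (Subgroup.zpowers (DihedralGroup.r 1 : DihedralGroup n)).card_mul_index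
    rw [Nat.card_zpowers, DihedralGroup.orderOf_r_one, DihedralGroup.nat_card] at h1
    have hpos : 0 < n := Nat.pos_of_ne_zero hn
    nlinarith

theorem isMetacyclic_quaternion (n : ℕ) (hn : n ≠ 0) :
    Cfsg.IsMetacyclic (QuaternionGroup n) := by
  haveI : NeZero n := ⟨hn⟩
  apply isMetacyclic_of_index_two (Subgroup.zpowers (QuaternionGroup.a 1 : QuaternionGroup n))
  · infer_instance
  · have h1 := (Subgroup.zpowers (QuaternionGroup.a 1 : QuaternionGroup n)).card_mul_index
    rw [Nat.card_zpowers, QuaternionGroup.orderOf_a_one, Nat.card_eq_fintype_card,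
      QuaternionGroup.card] at h1
    have hpos : 0 < n := Nat.pos_of_ne_zero hn
    nlinarith

theorem isMetacyclic_qd {X : Type*} [Group X] (h : Cfsg.IsQuasiDihedral X) :
    Cfsg.IsMetacyclic X := by
  obtain ⟨n, hn, hcard, x, y, hx, hy, hxy⟩ := h
  apply isMetacyclic_of_index_two (Subgroup.zpowers x)
  · infer_instance
  · have h1 := (Subgroup.zpowers x).card_mul_index
    rw [Nat.card_zpowers, hx, hcard, pow_succ] at h1
    have hpos : 0 < 2 ^ n := by positivity
    exact Nat.eq_of_mul_eq_mul_left hpos h1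

theorem one_ne_neg_one_zmod {n : ℕ} (hn : 3 ≤ n) : (1 : ZMod n) ≠ -1 := by
  intro h
  have h2 : ((2 : ℕ) : ZMod n) = 0 := by
    have : (1 : ZMod n) + 1 = 0 := by
      nth_rewrite 1 [h]
      exact neg_add_cancel 1
    push_cast
    rw [← this]; ring
  rw [ZMod.natCast_eq_zero_iff] at h2
  have := Nat.le_of_dvd (by norm_num) h2
  omega

theorem aut_dihedral {X : Type*} [Group X] [Finite X] (hX : IsPGroup 2 X) (n : ℕ) (hn : 3 ≤ n)
    (e : X ≃* DihedralGroup n) : IsPGroup 2 (MulAut X) := by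
  have hne := one_ne_neg_one_zmod hn
  have hnc : (DihedralGroup.sr 0 : DihedralGroup n) * DihedralGroup.sr 1 ≠
      DihedralGroup.sr 1 * DihedralGroup.sr 0 := by
    rw [DihedralGroup.sr_mul_sr, DihedralGroup.sr_mul_sr]
    intro h
    have h1 : (1 : ZMod n) - 0 = 0 - 1 := DihedralGroup.r.inj h
    apply hne
    rw [sub_zero, zero_sub] at h1
    exact h1
  apply aut_isPGroup_of hX
  · exact Cfsg.Agent.Lib.H16.Meta.isMetacyclic_of_mulEquiv
      (isMetacyclic_dihedral n (by omega)) e.symm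
  · refine ⟨e.symm (DihedralGroup.sr 0), e.symm (DihedralGroup.sr 1), ?_⟩
    rw [← map_mul, ← map_mul]
    exact fun h => hnc (e.symm.injective h)
  · rintro ⟨ε⟩
    let f : DihedralGroup n ≃* QuaternionGroup 2 := e.symm.trans ε
    have := quat_two_involutions_commute (f (DihedralGroup.sr 0)) (f (DihedralGroup.sr 1))
      (by rw [← map_mul, DihedralGroup.sr_mul_self, map_one])
      (by rw [← map_mul, DihedralGroup.sr_mul_self, map_one])
    rw [← map_mul, ← map_mul] at this
    exact hnc (f.injective this)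

theorem aut_quaternion {X : Type*} [Group X] [Finite X] (hX : IsPGroup 2 X) (n : ℕ)
    (hn : 3 ≤ n) (e : X ≃* QuaternionGroup n) : IsPGroup 2 (MulAut X) := by
  haveI : NeZero n := ⟨by omega⟩
  have hne : (1 : ZMod (2 * n)) ≠ -1 := one_ne_neg_one_zmod (by omega)
  have hnc : (QuaternionGroup.a 1 : QuaternionGroup n) * QuaternionGroup.xa 0 ≠
      QuaternionGroup.xa 0 * QuaternionGroup.a 1 := by
    rw [QuaternionGroup.a_mul_xa, QuaternionGroup.xa_mul_a]
    intro h
    have h1 : (0 : ZMod (2 * n)) - 1 = 0 + 1 := QuaternionGroup.xa.inj h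
    apply hne
    rw [zero_sub, zero_add] at h1
    exact h1.symm
  apply aut_isPGroup_of hX
  · exact Cfsg.Agent.Lib.H16.Meta.isMetacyclic_of_mulEquiv
      (isMetacyclic_quaternion n (by omega)) e.symm
  · refine ⟨e.symm (QuaternionGroup.a 1), e.symm (QuaternionGroup.xa 0), ?_⟩
    rw [← map_mul, ← map_mul]
    exact fun h => hnc (e.symm.injective h)
  · rintro ⟨ε⟩
    have h1 : Nat.card X = 4 * n := by
      rw [Nat.card_congr e.toEquiv, Nat.card_eq_fintype_card, QuaternionGroup.card]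
    have h2 : Nat.card X = 4 * 2 := by
      rw [Nat.card_congr ε.toEquiv, Nat.card_eq_fintype_card, QuaternionGroup.card]
    omega

theorem aut_qd {X : Type*} [Group X] [Finite X] (hX : IsPGroup 2 X)
    (h : Cfsg.IsQuasiDihedral X) : IsPGroup 2 (MulAut X) := by
  have hm := isMetacyclic_qd h
  obtain ⟨n, hn, hcard, x, y, hx, hy, hxy⟩ := h
  apply aut_isPGroup_of hX hm
  · refine ⟨y, x, ?_⟩
    intro hc
    have h1 : y * x * y⁻¹ = x := by rw [hc]; group
    rw [hxy] at h1
    have h2 : x ^ (2 ^ (n - 1) - 1) = x ^ 1 := by rw [h1, pow_one]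
    rw [pow_eq_pow_iff_modEq, hx] at h2
    have h3 : 2 ^ n = 2 * 2 ^ (n - 1) := by
      rw [← pow_succ']; congr 1; omega
    have h4 : 4 ≤ 2 ^ (n - 1) := by
      calc 4 = 2 ^ 2 := by norm_num
        _ ≤ 2 ^ (n - 1) := Nat.pow_le_pow_right (by norm_num) (by omega)
    have h5 : (2 ^ (n - 1) - 1) % 2 ^ n = 2 ^ (n - 1) - 1 := Nat.mod_eq_of_lt (by omega)
    have h6 : 1 % 2 ^ n = 1 := Nat.mod_eq_of_lt (by omega)
    unfold Nat.ModEq at h2
    rw [h5, h6] at h2
    omega
  · rintro ⟨ε⟩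
    have h2 : Nat.card X = 4 * 2 := by
      rw [Nat.card_congr ε.toEquiv, Nat.card_eq_fintype_card, QuaternionGroup.card]
    rw [hcard] at h2
    have h3 : 2 ^ (3 + 1) ≤ 2 ^ (n + 1) := Nat.pow_le_pow_right (by norm_num) (by omega)
    omega

end Cfsg.Agent.Lib.H26.MetaSup
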