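import Mathlib

set_option autoImplicit false

/-!
# A Thompson-order-formula style count (sub-lemma L1 for S0978)

`u`, `s` non-conjugate involutions such that every involution is conjugate to `u` or to `s`.
For `p ~ u`, `q ~ s` the product `p q` has even order `2k`, and `z = (p q)^k` is an involution
commuting with `p` and `q`, different from both.  Counting the pairs `(p, q)` by `z` gives
`|u^G| |s^G| ≤ |u^G| a b + |s^G| c d`.
-/

namespace Cfsg.Agent.Lib.H26.O5040

variable {G : Type*} [Group G]

/-- `(pq)^i p (pq)^{-i} = (pq)^{2i} p` for involutions `p`, `q`. -/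
theorem conj_pow_mul_inv {p q : G} (hp : p * p = 1) (hq : q * q = 1) (i : ℕ) :
    (p * q) ^ i * p * ((p * q) ^ i)⁻¹ = (p * q) ^ (2 * i) * p := by
  have hpi : p⁻¹ = p := inv_eq_of_mul_eq_one_left hp
  have hqi : q⁻¹ = q := inv_eq_of_mul_eq_one_left hq
  induction i with
  | zero => simp
  | succ i ih =>
    have e1 : (p * q) ^ (i + 1) * p * ((p * q) ^ (i + 1))⁻¹ =
        (p * q) * ((p * q) ^ i * p * ((p * q) ^ i)⁻¹) * (p * q)⁻¹ := by
      rw [pow_succ', mul_inv_rev]
      simp only [mul_assoc]
    rw [e1, ih, mul_inv_rev, hpi, hqi, ← mul_assoc (p * q), ← pow_succ']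
    have e2 : 2 * (i + 1) = (2 * i + 1) + 1 := by ring
    rw [e2, pow_succ _ (2 * i + 1)]
    simp only [mul_assoc]

/-- Two involutions whose product has odd order are conjugate. -/
theorem isConj_of_pow_odd {p q : G} (hp : p * p = 1) (hq : q * q = 1) {j : ℕ}
    (hj : (p * q) ^ (2 * j + 1) = 1) : IsConj p q := by
  have hpi : p⁻¹ = p := inv_eq_of_mul_eq_one_left hp
  have hqi : q⁻¹ = q := inv_eq_of_mul_eq_one_left hq
  rw [isConj_iff]
  refine ⟨(p * q) ^ j, ?_⟩
  rw [conj_pow_mul_inv hp hq j]
  have h1 : (p * q) ^ (2 * j) = (p * q)⁻¹ := by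
    rw [eq_inv_iff_mul_eq_one, ← pow_succ]
    exact hj
  rw [h1, mul_inv_rev, hpi, hqi, mul_assoc, hp, mul_one]

/-- Non-conjugate involutions `p`, `q` commute with a common involution `z ≠ p, q`. -/
theorem exists_common_involution [Finite G] {p q : G} (hp : orderOf p = 2) (hq : orderOf q = 2)
    (hpq : ¬ IsConj p q) :
    ∃ z : G, orderOf z = 2 ∧ Commute p z ∧ Commute q z ∧ z ≠ p ∧ z ≠ q := by
  have hpp : p * p = 1 := by
    have := pow_orderOf_eq_one p
    rwa [hp, pow_two] at this
  have hqq : q * q = 1 := by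
    have := pow_orderOf_eq_one q
    rwa [hq, pow_two] at this
  have hpi : p⁻¹ = p := inv_eq_of_mul_eq_one_left hpp
  have hqi : q⁻¹ = q := inv_eq_of_mul_eq_one_left hqq
  have hp1 : p ≠ 1 := by
    rintro rfl
    rw [orderOf_one] at hp
    omega
  have hq1 : q ≠ 1 := by
    rintro rfl
    rw [orderOf_one] at hq
    omega
  set x := p * q with hx
  have hNpos : 0 < orderOf x := orderOf_pos x
  -- the order of `x` is even
  obtain ⟨k, hk⟩ : ∃ k, orderOf x = 2 * k := by
    rcases Nat.even_or_odd' (orderOf x) with ⟨j, hj | hj⟩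
    · exact ⟨j, hj⟩
    · exfalso
      apply hpq
      apply isConj_of_pow_odd hpp hqq (j := j)
      rw [← hj]
      exact pow_orderOf_eq_one x
  have hk0 : k ≠ 0 := by
    rintro rfl
    omega
  have hpx : p * x * p⁻¹ = x⁻¹ := by
    rw [hx, mul_inv_rev, hpi, hqi]
    calc p * (p * q) * p = (p * p) * q * p := by group
      _ = q * p := by rw [hpp, one_mul]
  have hqx : q * x * q⁻¹ = x⁻¹ := by
    rw [hx, mul_inv_rev, hpi, hqi]
    calc q * (p * q) * q = q * p * (q * q) := by group
      _ = q * p := by rw [hqq, mul_one]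
  have hz2 : orderOf (x ^ k) = 2 := by
    rw [orderOf_pow_of_dvd hk0 ⟨2, by rw [hk, mul_comm]⟩, hk]
    exact Nat.mul_div_cancel _ (Nat.pos_of_ne_zero hk0)
  have hzz : x ^ k * x ^ k = 1 := by
    have := pow_orderOf_eq_one (x ^ k)
    rwa [hz2, pow_two] at this
  have hzi : (x ^ k)⁻¹ = x ^ k := inv_eq_of_mul_eq_one_left hzz
  have hcp : Commute p (x ^ k) := by
    have h1 : p * x ^ k * p⁻¹ = x ^ k := by
      have := map_pow (MulAut.conj p) x k
      simp only [MulAut.conj_apply] at this
      rw [this, hpx, inv_pow, hzi]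
    have h2 : p * x ^ k = x ^ k * p := by
      calc p * x ^ k = p * x ^ k * p⁻¹ * p := by group
        _ = x ^ k * p := by rw [h1]
    exact h2
  have hcq : Commute q (x ^ k) := by
    have h1 : q * x ^ k * q⁻¹ = x ^ k := by
      have := map_pow (MulAut.conj q) x k
      simp only [MulAut.conj_apply] at this
      rw [this, hqx, inv_pow, hzi]
    have h2 : q * x ^ k = x ^ k * q := by
      calc q * x ^ k = q * x ^ k * q⁻¹ * q := by group
        _ = x ^ k * q := by rw [h1]
    exact h2
  -- if `p`, `q` commute then `z = p q`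
  have key : Commute p q → x ^ k = p * q := by
    intro hc
    have hx2 : x ^ 2 = 1 := by
      rw [hx, hc.mul_pow, pow_two, pow_two, hpp, hqq, one_mul]
    have hd : orderOf x ∣ 2 := orderOf_dvd_of_pow_eq_one hx2
    have hle := Nat.le_of_dvd two_pos hd
    have hk1 : k = 1 := by omega
    rw [hk1, pow_one]
  refine ⟨x ^ k, hz2, hcp, hcq, ?_, ?_⟩
  · intro h
    have hc : Commute p q := by
      rw [h] at hcq
      exact hcq.symm
    have h2 := key hc
    rw [h] at h2
    exact hq1 (by simpa using h2.symm)
  · intro h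
    have hc : Commute p q := by
      rw [h] at hcp
      exact hcp
    have h2 := key hc
    rw [h] at h2
    exact hp1 (by simpa using h2.symm)

/-- Cardinalities of conjugation-invariant fibres are constant on conjugacy classes. -/
theorem card_conj_invariant (R : G → G → Prop)
    (hR : ∀ g a z : G, R (g * a * g⁻¹) (g * z * g⁻¹) ↔ R a z) {z z' : G} (h : IsConj z z') :
    Nat.card {a // R a z'} = Nat.card {a // R a z} := by
  obtain ⟨g, rfl⟩ := isConj_iff.1 h
  refine (Nat.card_congr ((MulAut.conj g).toEquiv.subtypeEquiv (fun a => ?_))).symm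
  simp only [MulEquiv.toEquiv_eq_coe, EquivLike.coe_coe, MulAut.conj_apply]
  exact (hR g a z).symm

theorem isConj_conj_iff (w g a : G) : IsConj w (g * a * g⁻¹) ↔ IsConj w a := by
  have h : IsConj a (g * a * g⁻¹) := isConj_iff.2 ⟨g, rfl⟩
  exact ⟨fun h1 => h1.trans h.symm, fun h1 => h1.trans h⟩

omit [Group G] in
theorem card_filter_eq_natCard [Fintype G] (P : G → Prop) [DecidablePred P] :
    (Finset.univ.filter P).card = Nat.card {x // P x} := by
  rw [Nat.card_eq_fintype_card, Fintype.card_subtype]

/-- L1: Thompson-order-formula style count for two classes of involutions. -/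
theorem thompson_count [Finite G] (u s : G) (hu : orderOf u = 2) (hs : orderOf s = 2)
    (hus : ¬ IsConj u s) (hall : ∀ z : G, orderOf z = 2 → IsConj u z ∨ IsConj s z) :
    Nat.card {p : G // IsConj u p} * Nat.card {q : G // IsConj s q} ≤
      Nat.card {p : G // IsConj u p} *
        (Nat.card {p : G // IsConj u p ∧ p ≠ u ∧ Commute p u} *
          Nat.card {q : G // IsConj s q ∧ Commute q u}) +
      Nat.card {q : G // IsConj s q} *
        (Nat.card {p : G // IsConj u p ∧ Commute p s} *
          Nat.card {q : G // IsConj s q ∧ q ≠ s ∧ Commute q s}) := by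
  classical
  have : Fintype G := Fintype.ofFinite G
  -- conjugation invariance of the four fibre sizes
  have invA : ∀ z, IsConj u z → Nat.card {p : G // IsConj u p ∧ p ≠ z ∧ Commute p z} =
      Nat.card {p : G // IsConj u p ∧ p ≠ u ∧ Commute p u} := fun z hz =>
    card_conj_invariant (fun p z => IsConj u p ∧ p ≠ z ∧ Commute p z) (fun g a z => by
      rw [isConj_conj_iff, Commute.conj_iff]; simp) hz
  have invB : ∀ z, IsConj u z → Nat.card {q : G // IsConj s q ∧ Commute q z} =
      Nat.card {q : G // IsConj s q ∧ Commute q u} := fun z hz =>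
    card_conj_invariant (fun q z => IsConj s q ∧ Commute q z) (fun g a z => by
      rw [isConj_conj_iff, Commute.conj_iff]) hz
  have invC : ∀ z, IsConj s z → Nat.card {p : G // IsConj u p ∧ Commute p z} =
      Nat.card {p : G // IsConj u p ∧ Commute p s} := fun z hz =>
    card_conj_invariant (fun p z => IsConj u p ∧ Commute p z) (fun g a z => by
      rw [isConj_conj_iff, Commute.conj_iff]) hz
  have invE : ∀ z, IsConj s z → Nat.card {q : G // IsConj s q ∧ q ≠ z ∧ Commute q z} =
      Nat.card {q : G // IsConj s q ∧ q ≠ s ∧ Commute q s} := fun z hz =>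
    card_conj_invariant (fun q z => IsConj s q ∧ q ≠ z ∧ Commute q z) (fun g a z => by
      rw [isConj_conj_iff, Commute.conj_iff]; simp) hz
  -- the finsets
  set D : Finset G := Finset.univ.filter (fun p => IsConj u p) with hD
  set I : Finset G := Finset.univ.filter (fun q => IsConj s q) with hI
  set A : G → Finset G := fun z =>
    Finset.univ.filter (fun p => IsConj u p ∧ p ≠ z ∧ Commute p z) with hA
  set B : G → Finset G := fun z => Finset.univ.filter (fun q => IsConj s q ∧ Commute q z) with hB
  set C : G → Finset G := fun z => Finset.univ.filter (fun p => IsConj u p ∧ Commute p z) with hC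
  set E : G → Finset G := fun z =>
    Finset.univ.filter (fun q => IsConj s q ∧ q ≠ z ∧ Commute q z) with hE
  have hsub : D ×ˢ I ⊆ (D.biUnion fun z => A z ×ˢ B z) ∪ (I.biUnion fun z => C z ×ˢ E z) := by
    rintro ⟨p, q⟩ hpq
    rw [Finset.mem_product] at hpq
    have hp : IsConj u p := (Finset.mem_filter.1 hpq.1).2
    have hq : IsConj s q := (Finset.mem_filter.1 hpq.2).2
    have hop : orderOf p = 2 := by
      obtain ⟨g, rfl⟩ := isConj_iff.1 hp
      rw [← MulAut.conj_apply, MulEquiv.orderOf_eq, hu]
    have hoq : orderOf q = 2 := by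
      obtain ⟨g, rfl⟩ := isConj_iff.1 hq
      rw [← MulAut.conj_apply, MulEquiv.orderOf_eq, hs]
    have hnc : ¬ IsConj p q := fun h => hus ((hp.trans h).trans hq.symm)
    obtain ⟨z, hz2, hcp, hcq, hzp, hzq⟩ := exists_common_involution hop hoq hnc
    rw [Finset.mem_union]
    rcases hall z hz2 with hz | hz
    · left
      rw [Finset.mem_biUnion]
      refine ⟨z, Finset.mem_filter.2 ⟨Finset.mem_univ _, hz⟩, ?_⟩
      rw [Finset.mem_product]
      exact ⟨Finset.mem_filter.2 ⟨Finset.mem_univ _, hp, hzp.symm, hcp⟩,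
        Finset.mem_filter.2 ⟨Finset.mem_univ _, hq, hcq⟩⟩
    · right
      rw [Finset.mem_biUnion]
      refine ⟨z, Finset.mem_filter.2 ⟨Finset.mem_univ _, hz⟩, ?_⟩
      rw [Finset.mem_product]
      exact ⟨Finset.mem_filter.2 ⟨Finset.mem_univ _, hp, hcp⟩,
        Finset.mem_filter.2 ⟨Finset.mem_univ _, hq, hzq.symm, hcq⟩⟩
  have h1 := Finset.card_le_card hsub
  rw [Finset.card_product] at h1
  have h2 : ((D.biUnion fun z => A z ×ˢ B z) ∪ (I.biUnion fun z => C z ×ˢ E z)).card ≤
      (D.biUnion fun z => A z ×ˢ B z).card + (I.biUnion fun z => C z ×ˢ E z).card :=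
    Finset.card_union_le _ _
  have h3 : (D.biUnion fun z => A z ×ˢ B z).card ≤
      D.card * (Nat.card {p : G // IsConj u p ∧ p ≠ u ∧ Commute p u} *
          Nat.card {q : G // IsConj s q ∧ Commute q u}) := by
    refine Finset.card_biUnion_le.trans ?_
    rw [← smul_eq_mul, ← Finset.sum_const]
    apply le_of_eq
    apply Finset.sum_congr rfl
    intro z hz
    have hz' : IsConj u z := (Finset.mem_filter.1 hz).2
    rw [Finset.card_product, hA, hB, card_filter_eq_natCard, card_filter_eq_natCard, invA z hz',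
      invB z hz']
  have h4 : (I.biUnion fun z => C z ×ˢ E z).card ≤
      I.card * (Nat.card {p : G // IsConj u p ∧ Commute p s} *
          Nat.card {q : G // IsConj s q ∧ q ≠ s ∧ Commute q s}) := by
    refine Finset.card_biUnion_le.trans ?_
    rw [← smul_eq_mul, ← Finset.sum_const]
    apply le_of_eq
    apply Finset.sum_congr rfl
    intro z hz
    have hz' : IsConj s z := (Finset.mem_filter.1 hz).2
    rw [Finset.card_product, hC, hE, card_filter_eq_natCard, card_filter_eq_natCard, invC z hz',
      invE z hz']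
  have hDc : D.card = Nat.card {p : G // IsConj u p} := card_filter_eq_natCard _
  have hIc : I.card = Nat.card {q : G // IsConj s q} := card_filter_eq_natCard _
  rw [hDc] at h1 h3
  rw [hIc] at h1 h4
  omega

end Cfsg.Agent.Lib.H26.O5040
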