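import Mathlib

/-!
# S4959 piece CRIT, group-theoretic part: conjugacy of `(v h)^t` in `X = V ⋊ G`, `h ∈ C_G(v)`
-/

set_option autoImplicit false

universe u

namespace Cfsg.Agent.Lib.H26.RV

variable {X : Type u} [Group X] [Finite X]

/-- If `x` conjugates `(v h)^t` to `(v h')^t` (with `t` invertible on exponents), `h, h' ∈ C_G(v)`,
then `x = k w₀` with `k ∈ C_G(v)`, `w₀ ∈ C_V(h)` and `k h k⁻¹ = h'`. -/
theorem conj_decomp (p : ℕ) [Fact p.Prime] (V : Subgroup X) [V.Normal]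
    (hidx : ¬ p ∣ V.index) (hself : Subgroup.centralizer (V : Set X) = V) (G : Subgroup X)
    (hGV : Subgroup.IsComplement' V G) (v : X) (hv : v ∈ V) (hvp : v ^ p = 1)
    (t s : ℕ) (hts : ∀ x : X, (x ^ t) ^ s = x)
    (h h' : X) (hh : h ∈ G ⊓ Subgroup.centralizer ({v} : Set X))
    (hh' : h' ∈ G ⊓ Subgroup.centralizer ({v} : Set X))
    (x : X) (hx : x * (v * h) ^ t * x⁻¹ = (v * h') ^ t) :
    ∃ k w₀ : X, k ∈ G ⊓ Subgroup.centralizer ({v} : Set X) ∧ w₀ ∈ V ∧ h * w₀ = w₀ * h ∧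
      x = k * w₀ ∧ k * h * k⁻¹ = h' := by
  have hp : p.Prime := Fact.out
  -- step 1: x (v h) x⁻¹ = v h'
  have h1 : x * (v * h) * x⁻¹ = v * h' := by
    have := congrArg (fun a => a ^ s) hx
    simp only [conj_pow, hts] at this
    exact this
  -- the order of H is prime to p
  set n := Nat.card ↥(G ⊓ Subgroup.centralizer ({v} : Set X)) with hn
  have hnG : n ∣ Nat.card G := Subgroup.card_dvd_of_le inf_le_left
  have hGc : Nat.card G = V.index := by
    rw [← hGV.symm.index_eq_card]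
  have hcop : n.Coprime p := by
    rw [Nat.coprime_comm, hp.coprime_iff_not_dvd]
    intro hd
    exact hidx (hGc ▸ hd.trans hnG)
  have hvh : Commute v h := by
    have := (Subgroup.mem_inf.mp hh).2
    rw [Subgroup.mem_centralizer_singleton_iff] at this
    exact this.symm
  have hvh' : Commute v h' := by
    have := (Subgroup.mem_inf.mp hh').2
    rw [Subgroup.mem_centralizer_singleton_iff] at this
    exact this.symm
  set e := n ^ (p - 1) with he
  have he1 : e ≡ 1 [MOD p] := Nat.ModEq.pow_card_sub_one_eq_one hp hcop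
  have hve : v ^ e = v := by
    have h2 : v ^ e = v ^ 1 := by
      rw [pow_eq_pow_iff_modEq]
      exact he1.of_dvd (orderOf_dvd_of_pow_eq_one hvp)
    rw [h2, pow_one]
  have hne : n ∣ e := dvd_pow_self n (Nat.sub_ne_zero_of_lt hp.one_lt)
  have hpow1 : ∀ a : X, a ∈ G ⊓ Subgroup.centralizer ({v} : Set X) → a ^ e = 1 := by
    intro a ha
    have h3 : (⟨a, ha⟩ : ↥(G ⊓ Subgroup.centralizer ({v} : Set X))) ^ n = 1 := pow_card_eq_one'
    have h4 : a ^ n = 1 := by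
      have := congrArg Subtype.val h3
      simpa using this
    obtain ⟨c, hc⟩ := hne
    rw [hc, pow_mul, h4, one_pow]
  have h2 : (v * h) ^ e = v := by rw [hvh.mul_pow, hve, hpow1 h hh, mul_one]
  have h2' : (v * h') ^ e = v := by rw [hvh'.mul_pow, hve, hpow1 h' hh', mul_one]
  -- step 2: x v x⁻¹ = v, x h x⁻¹ = h'
  have h3 : x * v * x⁻¹ = v := by
    have := congrArg (fun a => a ^ e) h1
    simp only [conj_pow, h2, h2'] at this
    exact this
  have h4 : x * h * x⁻¹ = h' := by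
    have h5 : x * (v * h) * x⁻¹ = (x * v * x⁻¹) * (x * h * x⁻¹) := by group
    rw [h5, h3] at h1
    exact mul_left_cancel h1
  -- step 3: decomposition x = k w₀
  obtain ⟨⟨⟨k, hk⟩, ⟨w₀, hw₀⟩⟩, hkw, -⟩ := hGV.symm.existsUnique x
  simp only at hkw
  have hw₀c : ∀ a ∈ V, w₀ * a = a * w₀ := by
    intro a ha
    have : w₀ ∈ Subgroup.centralizer (V : Set X) := by rw [hself]; exact hw₀
    exact (Subgroup.mem_centralizer_iff.mp this a ha).symm
  have hkv : k * v * k⁻¹ = v := by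
    rw [← hkw] at h3
    have h5 : k * w₀ * v * (k * w₀)⁻¹ = k * (w₀ * v * w₀⁻¹) * k⁻¹ := by group
    rw [h5, hw₀c v hv, mul_inv_cancel_right] at h3
    exact h3
  have hkH : k ∈ G ⊓ Subgroup.centralizer ({v} : Set X) := by
    refine Subgroup.mem_inf.mpr ⟨hk, ?_⟩
    rw [Subgroup.mem_centralizer_singleton_iff]
    have := congrArg (fun a => a * k) hkv
    simpa using this
  -- step 4
  have h6 : w₀ * h * w₀⁻¹ = k⁻¹ * h' * k := by
    rw [← h4, ← hkw]; group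
  have h7 : w₀ * (h * w₀⁻¹ * h⁻¹) = k⁻¹ * h' * k * h⁻¹ := by
    rw [← h6]; group
  have h8 : w₀ * (h * w₀⁻¹ * h⁻¹) ∈ V :=
    V.mul_mem hw₀ (Subgroup.Normal.conj_mem inferInstance _ (V.inv_mem hw₀) h)
  have h9 : k⁻¹ * h' * k * h⁻¹ ∈ G :=
    G.mul_mem (G.mul_mem (G.mul_mem (G.inv_mem hk) (Subgroup.mem_inf.mp hh').1) hk)
      (G.inv_mem (Subgroup.mem_inf.mp hh).1)
  have h10 : w₀ * (h * w₀⁻¹ * h⁻¹) = 1 := by
    have := hGV.disjoint
    rw [Subgroup.disjoint_def] at this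
    exact this h8 (h7 ▸ h9)
  refine ⟨k, w₀, hkH, hw₀, ?_, hkw.symm, ?_⟩
  · have := congrArg (fun a => a * h * w₀) h10
    simp only [one_mul] at this
    rw [← this]; group
  · rw [h10] at h7
    have := congrArg (fun a => k * a * h * k⁻¹) h7
    rw [mul_one] at this
    rw [this]; group

/-- `H`-conjugacy of `h`, `h'` from `X`-conjugacy of `(v h)^t`, `(v h')^t`. -/
theorem conj_sub (p : ℕ) [Fact p.Prime] (V : Subgroup X) [V.Normal]
    (hidx : ¬ p ∣ V.index) (hself : Subgroup.centralizer (V : Set X) = V) (G : Subgroup X)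
    (hGV : Subgroup.IsComplement' V G) (v : X) (hv : v ∈ V) (hvp : v ^ p = 1)
    (t s : ℕ) (hts : ∀ x : X, (x ^ t) ^ s = x)
    (h h' : ↥(G ⊓ Subgroup.centralizer ({v} : Set X)))
    (x : X) (hx : x * (v * (h : X)) ^ t * x⁻¹ = (v * (h' : X)) ^ t) :
    ∃ k : ↥(G ⊓ Subgroup.centralizer ({v} : Set X)), k * h * k⁻¹ = h' := by
  obtain ⟨k, w₀, hk, -, -, -, hkh⟩ :=
    conj_decomp p V hidx hself G hGV v hv hvp t s hts h h' h.2 h'.2 x hx
  refine ⟨⟨k, hk⟩, ?_⟩
  apply Subtype.ext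
  simpa using hkh

/-- The number of pairs `(x, h')` with `x (v h)^t x⁻¹ = (v h')^t` is at most `|H| |C_V(h)|`. -/
theorem card_conj_pairs_le (p : ℕ) [Fact p.Prime] (V : Subgroup X) [V.Normal]
    (hidx : ¬ p ∣ V.index) (hself : Subgroup.centralizer (V : Set X) = V) (G : Subgroup X)
    (hGV : Subgroup.IsComplement' V G) (v : X) (hv : v ∈ V) (hvp : v ^ p = 1)
    (t s : ℕ) (hts : ∀ x : X, (x ^ t) ^ s = x)
    (h : ↥(G ⊓ Subgroup.centralizer ({v} : Set X))) :
    Nat.card {q : X × ↥(G ⊓ Subgroup.centralizer ({v} : Set X)) //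
        q.1 * (v * (h : X)) ^ t * q.1⁻¹ = (v * (q.2 : X)) ^ t} ≤
      Nat.card ↥(G ⊓ Subgroup.centralizer ({v} : Set X)) *
        Nat.card {w : X // w ∈ V ∧ (h : X) * w = w * (h : X)} := by
  rw [← Nat.card_prod]
  have key : ∀ q : {q : X × ↥(G ⊓ Subgroup.centralizer ({v} : Set X)) //
        q.1 * (v * (h : X)) ^ t * q.1⁻¹ = (v * (q.2 : X)) ^ t},
      ∃ a : ↥(G ⊓ Subgroup.centralizer ({v} : Set X)) ×
        {w : X // w ∈ V ∧ (h : X) * w = w * (h : X)},
        q.1.1 = (a.1 : X) * (a.2 : X) ∧ a.1 * h * a.1⁻¹ = q.1.2 := by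
    rintro ⟨⟨x, h'⟩, hx⟩
    obtain ⟨k, w₀, hk, hw₀, hcomm, hxkw, hkh⟩ :=
      conj_decomp p V hidx hself G hGV v hv hvp t s hts h h' h.2 h'.2 x hx
    refine ⟨⟨⟨k, hk⟩, ⟨w₀, hw₀, hcomm⟩⟩, hxkw, ?_⟩
    apply Subtype.ext
    simpa using hkh
  choose f hf using key
  apply Nat.card_le_card_of_injective f
  intro q₁ q₂ h12
  apply Subtype.ext
  apply Prod.ext
  · rw [(hf q₁).1, (hf q₂).1, h12]
  · rw [← (hf q₁).2, ← (hf q₂).2, h12]

end Cfsg.Agent.Lib.H26.RV
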