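import Cfsg.Agent.Lib.H24.CharOrth

/-!
# S4959 piece CRIT, analytic part: second orthogonality as a count, and the weighted bound
-/

set_option autoImplicit false

universe u

namespace Cfsg.Agent.Lib.H26.RV

open Cfsg Cfsg.Agent.Lib.H24
open scoped ComplexConjugate

variable {X : Type u} [Group X] [Finite X]

/-- Second orthogonality as a count of conjugating elements. -/
theorem sum_irr_mul_conj_eq_card [Fintype (IrrCharacter X)] (g g' : X) :
    ∑ χ : IrrCharacter X, (χ : X → ℂ) g * conj ((χ : X → ℂ) g') =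
      (Nat.card {x : X // x * g * x⁻¹ = g'} : ℂ) := by
  classical
  have hX := Fintype.ofFinite X
  rw [second_orthogonality]
  split_ifs with hc
  · obtain ⟨x₀, hx₀⟩ := isConj_iff.mp hc
    congr 1
    apply Nat.card_congr
    refine
      { toFun := fun c => ⟨x₀ * c, ?_⟩
        invFun := fun x => ⟨x₀⁻¹ * x, ?_⟩
        left_inv := fun c => by apply Subtype.ext; simp
        right_inv := fun x => by apply Subtype.ext; simp }
    · have h1 := Subgroup.mem_centralizer_singleton_iff.mp c.2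
      rw [← hx₀]
      have h2 : x₀ * (c : X) * g * (x₀ * (c : X))⁻¹ = x₀ * ((c : X) * g * (c : X)⁻¹) * x₀⁻¹ := by
        group
      rw [h2, h1, mul_inv_cancel_right]
    · rw [Subgroup.mem_centralizer_singleton_iff]
      have h1 : (x : X) * g * (x : X)⁻¹ = x₀ * g * x₀⁻¹ := x.2.trans hx₀.symm
      have h2 : x₀⁻¹ * (x : X) * g = x₀⁻¹ * ((x : X) * g * (x : X)⁻¹) * (x : X) := by group
      rw [h2, h1]
      group
  · have : IsEmpty {x : X // x * g * x⁻¹ = g'} := ⟨fun x => hc (isConj_iff.mpr ⟨x.1, x.2⟩)⟩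
    simp

theorem sum_irr_normSq_le [Fintype (IrrCharacter X)] {H : Type*} [Fintype H] (g : H → X)
    (c : H → ℂ) (hc : ∀ h h' x, x * g h * x⁻¹ = g h' → c h' = c h) (B : ℝ)
    (hB : ∀ h, ‖c h‖ ^ 2 * (Nat.card {q : X × H // q.1 * g h * q.1⁻¹ = g q.2} : ℝ) ≤ B) :
    ∑ χ : IrrCharacter X, ‖∑ h, c h * (χ : X → ℂ) (g h)‖ ^ 2 ≤ Fintype.card H * B := by
  classical
  have hX := Fintype.ofFinite X
  set n : H → H → ℕ := fun h h' => Nat.card {x : X // x * g h * x⁻¹ = g h'} with hn
  set N : H → ℕ := fun h => Nat.card {q : X × H // q.1 * g h * q.1⁻¹ = g q.2} with hN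
  have hNn : ∀ h, N h = ∑ h', n h h' := by
    intro h
    simp only [hN, hn]
    rw [← Nat.card_sigma]
    apply Nat.card_congr
    exact
      { toFun := fun q => ⟨q.1.2, ⟨q.1.1, q.2⟩⟩
        invFun := fun a => ⟨(a.2.1, a.1), a.2.2⟩
        left_inv := fun q => rfl
        right_inv := fun a => rfl }
  have key : ((∑ χ : IrrCharacter X, ‖∑ h, c h * (χ : X → ℂ) (g h)‖ ^ 2 : ℝ) : ℂ) =
      ((∑ h, ‖c h‖ ^ 2 * (N h : ℝ) : ℝ) : ℂ) := by
    push_cast
    have h1 : ∀ χ : IrrCharacter X, ((‖∑ h, c h * (χ : X → ℂ) (g h)‖ : ℂ)) ^ 2 =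
        ∑ h, ∑ h', c h * conj (c h') *
          ((χ : X → ℂ) (g h) * conj ((χ : X → ℂ) (g h'))) := by
      intro χ
      rw [← Complex.mul_conj', map_sum, Finset.sum_mul_sum]
      refine Finset.sum_congr rfl fun h _ => Finset.sum_congr rfl fun h' _ => ?_
      rw [map_mul]
      ring
    simp_rw [h1]
    rw [Finset.sum_comm]
    refine Finset.sum_congr rfl fun h _ => ?_
    rw [Finset.sum_comm]
    simp_rw [← Finset.mul_sum, sum_irr_mul_conj_eq_card]
    rw [hNn h]
    push_cast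
    rw [Finset.mul_sum]
    refine Finset.sum_congr rfl fun h' _ => ?_
    by_cases h0 : n h h' = 0
    · have : Nat.card {x : X // x * g h * x⁻¹ = g h'} = 0 := h0
      rw [this]
      simp [h0]
    · have hne : Nonempty {x : X // x * g h * x⁻¹ = g h'} := by
        by_contra hcon
        rw [not_nonempty_iff] at hcon
        exact h0 (by simp only [hn]; exact Nat.card_of_isEmpty)
      obtain ⟨x, hx⟩ := hne
      rw [hc h h' x hx, Complex.mul_conj']
  have key2 : ∑ χ : IrrCharacter X, ‖∑ h, c h * (χ : X → ℂ) (g h)‖ ^ 2 =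
      ∑ h, ‖c h‖ ^ 2 * (N h : ℝ) := by exact_mod_cast key
  rw [key2]
  calc ∑ h, ‖c h‖ ^ 2 * (N h : ℝ) ≤ ∑ _h : H, B := Finset.sum_le_sum fun h _ => hB h
    _ = Fintype.card H * B := by rw [Finset.sum_const, Finset.card_univ, nsmul_eq_mul]

end Cfsg.Agent.Lib.H26.RV
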