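import Mathlib
import Cfsg.Agent.Lib.H23.RVDefs
import Cfsg.Agent.Lib.H23.CharGalois
import Cfsg.Agent.Lib.H24.CharOrth
import Cfsg.Agent.Lib.H26.RVCRITGrp
import Cfsg.Agent.Lib.H26.RVCRITSum

/-!
# S4959 piece CRIT: `class_number_le` (the Robinson–Thompson criterion)
-/

set_option autoImplicit false

universe u

namespace Cfsg.Agent.Lib.H26.RV

open Cfsg Cfsg.Agent.Lib.H23 Cfsg.Agent.Lib.H23.RV
open scoped ComplexConjugate

theorem cycPow_mul_inv (m : ℕ) [NeZero m] (σ : Gal(CyclotomicField m ℚ/ℚ)) :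
    cycPow m σ * cycPow m σ⁻¹ = 1 := by
  unfold cycPow
  rw [map_inv, ← Units.val_mul, mul_inv_cancel, Units.val_one]

theorem pow_pow_cycPow (m : ℕ) [NeZero m] (σ : Gal(CyclotomicField m ℚ/ℚ)) {X : Type*} [Group X]
    (x : X) (hx : x ^ m = 1) : (x ^ (cycPow m σ).val) ^ (cycPow m σ⁻¹).val = x := by
  rw [← pow_mul]
  have h1 : x ^ ((cycPow m σ).val * (cycPow m σ⁻¹).val) = x ^ 1 := by
    rw [pow_eq_pow_iff_modEq]
    have h2 : ((cycPow m σ).val * (cycPow m σ⁻¹).val) ≡ 1 [MOD m] := by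
      rw [← ZMod.natCast_eq_natCast_iff]
      push_cast
      rw [ZMod.natCast_zmod_val, ZMod.natCast_zmod_val, cycPow_mul_inv]
    exact h2.of_dvd (orderOf_dvd_of_pow_eq_one hx)
  rw [h1, pow_one]

theorem cycPow_one (m : ℕ) [NeZero m] : cycPow m (1 : Gal(CyclotomicField m ℚ/ℚ)) = 1 := by
  simp [cycPow]

section crit

variable {X : Type u} [Group X] [Finite X] (p : ℕ) [Fact p.Prime]

/-- CRIT. -/
theorem class_number_le (V : Subgroup X) [V.Normal] (hVexp : ∀ v ∈ V, v ^ p = 1)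
    (hidx : ¬ p ∣ V.index) (hself : Subgroup.centralizer (V : Set X) = V) (G : Subgroup X)
    (hGV : Subgroup.IsComplement' V G) (v : X) (hv : v ∈ V)
    (m : ℕ) [NeZero m] (hm : ∀ x : X, x ^ m = 1)
    (y : ↥(G ⊓ Subgroup.centralizer ({v} : Set X)) → CyclotomicField m ℚ)
    (hy : ∀ h g : ↥(G ⊓ Subgroup.centralizer ({v} : Set X)), y (g * h * g⁻¹) = y h)
    (hnorm : ∀ (σ : Gal(CyclotomicField m ℚ/ℚ)) (h : ↥(G ⊓ Subgroup.centralizer ({v} : Set X))),
      ‖cycEmb m (σ (y h))‖ ^ 2 * (Nat.card {w : X // w ∈ V ∧ (h : X) * w = w * (h : X)} : ℝ) ≤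
        (Nat.card V : ℝ))
    (hint : ∀ χ : X → ℂ, IsIrrCharacter X χ →
      (∑ᶠ h : ↥(G ⊓ Subgroup.centralizer ({v} : Set X)), cycEmb m (y h) * χ (v * (h : X))) ≠ 0 ∧
      IsIntegral ℤ ((Nat.card ↥(G ⊓ Subgroup.centralizer ({v} : Set X)) : ℂ)⁻¹ *
        ∑ᶠ h : ↥(G ⊓ Subgroup.centralizer ({v} : Set X)), cycEmb m (y h) * χ (v * (h : X)))) :
    Nat.card (ConjClasses X) ≤ Nat.card V := by
  classical
  have hXf := Fintype.ofFinite X
  have hIf := Fintype.ofFinite (IrrCharacter X)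
  have hHf : Fintype ↥(G ⊓ Subgroup.centralizer ({v} : Set X)) := Fintype.ofFinite _
  rw [← Cfsg.Agent.Lib.H24.card_irr_eq_card_conjClasses]
  have hvp : v ^ p = 1 := hVexp v hv
  have hHpos : (0 : ℝ) < Nat.card ↥(G ⊓ Subgroup.centralizer ({v} : Set X)) := by
    exact_mod_cast Nat.card_pos
  have hHne : (Nat.card ↥(G ⊓ Subgroup.centralizer ({v} : Set X)) : ℂ) ≠ 0 := by
    exact_mod_cast Nat.card_pos.ne'
  -- the cyclotomic preimages of the character values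
  have hz : ∀ (χ : IrrCharacter X) (h : ↥(G ⊓ Subgroup.centralizer ({v} : Set X))),
      ∃ z : CyclotomicField m ℚ, ∀ σ : Gal(CyclotomicField m ℚ/ℚ),
        cycEmb m (σ z) = (χ : X → ℂ) ((v * (h : X)) ^ (cycPow m σ).val) := by
    intro χ h
    obtain ⟨n, ρ, -, hρ⟩ := χ.2
    obtain ⟨z, hz⟩ := exists_cyc_char m ρ (v * (h : X)) (hm _)
    exact ⟨z, fun σ => by rw [hz σ, hρ]⟩
  choose z hz using hz
  set xχ : IrrCharacter X → CyclotomicField m ℚ := fun χ =>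
    (Nat.card ↥(G ⊓ Subgroup.centralizer ({v} : Set X)) : CyclotomicField m ℚ)⁻¹ *
      ∑ h, y h * z χ h with hxχ
  have hemb : ∀ (χ : IrrCharacter X) (σ : Gal(CyclotomicField m ℚ/ℚ)),
      cycEmb m (σ (xχ χ)) = (Nat.card ↥(G ⊓ Subgroup.centralizer ({v} : Set X)) : ℂ)⁻¹ *
        ∑ h, cycEmb m (σ (y h)) * (χ : X → ℂ) ((v * (h : X)) ^ (cycPow m σ).val) := by
    intro χ σ
    simp only [hxχ, map_mul, map_inv₀, map_natCast, map_sum, hz]
  have hemb1 : ∀ χ : IrrCharacter X,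
      cycEmb m (xχ χ) = (Nat.card ↥(G ⊓ Subgroup.centralizer ({v} : Set X)) : ℂ)⁻¹ *
        ∑ᶠ h : ↥(G ⊓ Subgroup.centralizer ({v} : Set X)),
          cycEmb m (y h) * (χ : X → ℂ) (v * (h : X)) := by
    intro χ
    have := hemb χ 1
    rw [AlgEquiv.one_apply] at this
    rw [this, finsum_eq_sum_of_fintype]
    congr 1
    refine Finset.sum_congr rfl fun h _ => ?_
    rw [AlgEquiv.one_apply, cycPow_one, pow_val_one_eq m _ (hm _)]
  -- AM-GM over the Galois group for each χ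
  have hgal : ∀ χ : IrrCharacter X, (Fintype.card Gal(CyclotomicField m ℚ/ℚ) : ℝ) ≤
      ∑ σ : Gal(CyclotomicField m ℚ/ℚ), ‖cycEmb m (σ (xχ χ))‖ ^ 2 := by
    intro χ
    obtain ⟨hne, hintg⟩ := hint χ χ.2
    have h1 : IsIntegral ℤ (cycEmb m (xχ χ)) := by rw [hemb1]; exact hintg
    have h2 : cycEmb m (xχ χ) ≠ 0 := by
      rw [hemb1]
      exact mul_ne_zero (inv_ne_zero hHne) hne
    obtain ⟨N, hN0, hN⟩ := exists_int_prod_galois m (xχ χ) h1 h2
    apply card_le_sum_of_one_le_prod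
    · intro σ; positivity
    · rw [Finset.prod_pow, ← norm_prod, hN]
      have h3 : (1 : ℝ) ≤ ‖(N : ℂ)‖ := by
        rw [Complex.norm_intCast]
        exact_mod_cast Int.one_le_abs hN0
      nlinarith
  -- the bound for each σ
  have hsig : ∀ σ : Gal(CyclotomicField m ℚ/ℚ),
      ∑ χ : IrrCharacter X, ‖cycEmb m (σ (xχ χ))‖ ^ 2 ≤ (Nat.card V : ℝ) := by
    intro σ
    have hts : ∀ x : X, (x ^ (cycPow m σ).val) ^ (cycPow m σ⁻¹).val = x :=
      fun x => pow_pow_cycPow m σ x (hm x)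
    have hb := sum_irr_normSq_le (X := X)
      (g := fun h : ↥(G ⊓ Subgroup.centralizer ({v} : Set X)) =>
        (v * (h : X)) ^ (cycPow m σ).val)
      (c := fun h => cycEmb m (σ (y h)))
      (by
        intro h h' x hx
        obtain ⟨k, hk⟩ := conj_sub p V hidx hself G hGV v hv hvp _ _ hts h h' x hx
        rw [← hk, hy])
      ((Nat.card ↥(G ⊓ Subgroup.centralizer ({v} : Set X)) : ℝ) * (Nat.card V : ℝ))
      (by
        intro h
        have h1 := card_conj_pairs_le p V hidx hself G hGV v hv hvp _ _ hts h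
        have h2 : (Nat.card {q : X × ↥(G ⊓ Subgroup.centralizer ({v} : Set X)) //
            q.1 * (v * (h : X)) ^ (cycPow m σ).val * q.1⁻¹ =
              (v * (q.2 : X)) ^ (cycPow m σ).val} : ℝ) ≤
            (Nat.card ↥(G ⊓ Subgroup.centralizer ({v} : Set X)) : ℝ) *
              (Nat.card {w : X // w ∈ V ∧ (h : X) * w = w * (h : X)} : ℝ) := by
          exact_mod_cast h1
        have h3 := hnorm σ h
        have h4 : (0 : ℝ) ≤ ‖cycEmb m (σ (y h))‖ ^ 2 := by positivity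
        calc ‖cycEmb m (σ (y h))‖ ^ 2 * _ ≤ ‖cycEmb m (σ (y h))‖ ^ 2 *
              ((Nat.card ↥(G ⊓ Subgroup.centralizer ({v} : Set X)) : ℝ) *
              (Nat.card {w : X // w ∈ V ∧ (h : X) * w = w * (h : X)} : ℝ)) :=
              mul_le_mul_of_nonneg_left h2 h4
          _ = (Nat.card ↥(G ⊓ Subgroup.centralizer ({v} : Set X)) : ℝ) *
              (‖cycEmb m (σ (y h))‖ ^ 2 *
                (Nat.card {w : X // w ∈ V ∧ (h : X) * w = w * (h : X)} : ℝ)) := by ring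
          _ ≤ _ := mul_le_mul_of_nonneg_left h3 hHpos.le)
    have h5 : ∀ χ : IrrCharacter X, ‖cycEmb m (σ (xχ χ))‖ ^ 2 =
        ((Nat.card ↥(G ⊓ Subgroup.centralizer ({v} : Set X)) : ℝ)⁻¹) ^ 2 *
          ‖∑ h, cycEmb m (σ (y h)) * (χ : X → ℂ) ((v * (h : X)) ^ (cycPow m σ).val)‖ ^ 2 := by
      intro χ
      rw [hemb, norm_mul, norm_inv, Complex.norm_natCast, mul_pow]
    simp_rw [h5]
    rw [← Finset.mul_sum]
    have h6 : (Fintype.card ↥(G ⊓ Subgroup.centralizer ({v} : Set X)) : ℝ) =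
        (Nat.card ↥(G ⊓ Subgroup.centralizer ({v} : Set X)) : ℝ) := by
      rw [Nat.card_eq_fintype_card]
    rw [h6] at hb
    calc ((Nat.card ↥(G ⊓ Subgroup.centralizer ({v} : Set X)) : ℝ)⁻¹) ^ 2 * _ ≤
          ((Nat.card ↥(G ⊓ Subgroup.centralizer ({v} : Set X)) : ℝ)⁻¹) ^ 2 *
          ((Nat.card ↥(G ⊓ Subgroup.centralizer ({v} : Set X)) : ℝ) *
            ((Nat.card ↥(G ⊓ Subgroup.centralizer ({v} : Set X)) : ℝ) * (Nat.card V : ℝ))) :=
          mul_le_mul_of_nonneg_left hb (by positivity)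
      _ = (Nat.card V : ℝ) := by
          field_simp
  -- sum up
  have hGalpos : (0 : ℝ) < Fintype.card Gal(CyclotomicField m ℚ/ℚ) := by
    exact_mod_cast Fintype.card_pos
  have htot : (Nat.card (IrrCharacter X) : ℝ) * (Fintype.card Gal(CyclotomicField m ℚ/ℚ) : ℝ) ≤
      (Fintype.card Gal(CyclotomicField m ℚ/ℚ) : ℝ) * (Nat.card V : ℝ) := by
    calc (Nat.card (IrrCharacter X) : ℝ) * (Fintype.card Gal(CyclotomicField m ℚ/ℚ) : ℝ)
        = ∑ _χ : IrrCharacter X, (Fintype.card Gal(CyclotomicField m ℚ/ℚ) : ℝ) := by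
          rw [Finset.sum_const, Finset.card_univ, nsmul_eq_mul, Nat.card_eq_fintype_card]
      _ ≤ ∑ χ : IrrCharacter X, ∑ σ : Gal(CyclotomicField m ℚ/ℚ),
            ‖cycEmb m (σ (xχ χ))‖ ^ 2 := Finset.sum_le_sum fun χ _ => hgal χ
      _ = ∑ σ : Gal(CyclotomicField m ℚ/ℚ), ∑ χ : IrrCharacter X,
            ‖cycEmb m (σ (xχ χ))‖ ^ 2 := Finset.sum_comm
      _ ≤ ∑ _σ : Gal(CyclotomicField m ℚ/ℚ), (Nat.card V : ℝ) :=
          Finset.sum_le_sum fun σ _ => hsig σ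
      _ = (Fintype.card Gal(CyclotomicField m ℚ/ℚ) : ℝ) * (Nat.card V : ℝ) := by
          rw [Finset.sum_const, Finset.card_univ, nsmul_eq_mul]
  have hfin : (Nat.card (IrrCharacter X) : ℝ) ≤ (Nat.card V : ℝ) := by
    rw [mul_comm] at htot
    exact le_of_mul_le_mul_left htot hGalpos
  exact_mod_cast hfin

end crit

end Cfsg.Agent.Lib.H26.RV
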