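import Mathlib
import Cfsg.Prelude.Def_FusionSystem

/-!
# S5188 (essential subgroups of order `p⁴`): shared definitions

`EssAut p A` packages, quotient-free, what `F.IsEssential p H` says about `A = Aut_F(H) ≤ Aut(H)`:
`O_p(A / (A ⊓ Inn H)) = 1` and `p ∣ |A / (A ⊓ Inn H)|`.
`HasCharChain p G` : a chain `H1 ≤ H2 ≤ H3` of subgroups of orders `p, p², p³` invariant under all automorphisms.
-/

set_option autoImplicit false

namespace Cfsg.Agent.Lib.H26.Ess

/-- `A ≤ Aut(G)` behaves like the automizer of an essential subgroup: every `p`-subgroup of `A` that is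
normalized by `A` consists of inner automorphisms, and `A` has a `p`-element which is not inner. -/
structure EssAut (p : ℕ) {G : Type*} [Group G] (A : Subgroup (MulAut G)) : Prop where
  core_le : ∀ B : Subgroup (MulAut G), B ≤ A → (∀ a ∈ A, ∀ b ∈ B, a * b * a⁻¹ ∈ B) → IsPGroup p B →
    B ≤ Cfsg.Inn G
  exists_pElt : ∃ α ∈ A, (∃ k : ℕ, α ^ (p ^ k) = 1) ∧ α ∉ Cfsg.Inn G

/-- A chain of subgroups of orders `p, p², p³`, each invariant under every automorphism of `G`. -/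
def HasCharChain (p : ℕ) (G : Type*) [Group G] : Prop :=
  ∃ H1 H2 H3 : Subgroup G, H1 ≤ H2 ∧ H2 ≤ H3 ∧
    Nat.card H1 = p ∧ Nat.card H2 = p ^ 2 ∧ Nat.card H3 = p ^ 3 ∧
    (∀ (α : MulAut G), ∀ x ∈ H1, α x ∈ H1) ∧ (∀ (α : MulAut G), ∀ x ∈ H2, α x ∈ H2) ∧
    (∀ (α : MulAut G), ∀ x ∈ H3, α x ∈ H3)

end Cfsg.Agent.Lib.H26.Ess
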