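import Mathlib
import Cfsg.Agent.Lib.H22.HigQFPF

/-!
# S3050 piece QUOT: passing to `G ⧸ Z` for a normal subgroup `Z ≤ ker π`
-/

set_option autoImplicit false

namespace Cfsg.Agent.Lib.H26.Hig

open Matrix

theorem quot_data {K : Type*} [Field K] {G : Type*} [Group G] [Finite G]
    (π : G →* SpecialLinearGroup (Fin 2) K) (hπ : Function.Surjective π)
    (hQ : IsPGroup 2 ↥π.ker) (x : G) (hx3 : x ^ 3 = 1) (hx1 : π x ≠ 1)
    (hfpf : ∀ q ∈ π.ker, x * q * x⁻¹ = q → q = 1)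
    (Z : Subgroup G) [Z.Normal] (hZker : Z ≤ π.ker) :
    Function.Surjective (QuotientGroup.lift Z π hZker) ∧
    (∀ g : G, (g : G ⧸ Z) ∈ (QuotientGroup.lift Z π hZker).ker ↔ g ∈ π.ker) ∧
    IsPGroup 2 ↥(QuotientGroup.lift Z π hZker).ker ∧
    (x : G ⧸ Z) ^ 3 = 1 ∧ (QuotientGroup.lift Z π hZker) (x : G ⧸ Z) ≠ 1 ∧
    (∀ u ∈ (QuotientGroup.lift Z π hZker).ker, (x : G ⧸ Z) * u * (x : G ⧸ Z)⁻¹ = u → u = 1) ∧
    Nat.card ↥(QuotientGroup.lift Z π hZker).ker * Nat.card ↥Z = Nat.card ↥π.ker := by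
  have hmem : ∀ g : G, (g : G ⧸ Z) ∈ (QuotientGroup.lift Z π hZker).ker ↔ g ∈ π.ker := by
    intro g
    rw [MonoidHom.mem_ker, MonoidHom.mem_ker, QuotientGroup.lift_mk]
  refine ⟨?_, hmem, ?_, ?_, ?_, ?_, ?_⟩
  · intro s
    obtain ⟨g, rfl⟩ := hπ s
    exact ⟨(g : G ⧸ Z), QuotientGroup.lift_mk _ _ _⟩
  · rintro ⟨u, hu⟩
    obtain ⟨g, rfl⟩ := QuotientGroup.mk_surjective u
    have hg : g ∈ π.ker := (hmem g).mp hu
    obtain ⟨k, hk⟩ := hQ ⟨g, hg⟩
    refine ⟨k, ?_⟩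
    apply Subtype.ext
    have h1 : g ^ 2 ^ k = 1 := by
      have := congrArg Subtype.val hk
      simpa using this
    simp only [SubmonoidClass.mk_pow, OneMemClass.coe_one]
    rw [← QuotientGroup.mk_pow, h1, QuotientGroup.mk_one]
  · rw [← QuotientGroup.mk_pow, hx3, QuotientGroup.mk_one]
  · rw [QuotientGroup.lift_mk]; exact hx1
  · intro u hu hfix
    obtain ⟨q, rfl⟩ := QuotientGroup.mk_surjective u
    have hq : q ∈ π.ker := (hmem q).mp hu
    have h1 : ((x * q * x⁻¹ * q⁻¹ : G) : G ⧸ Z) = 1 := by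
      rw [QuotientGroup.mk_mul, QuotientGroup.mk_mul, QuotientGroup.mk_mul, QuotientGroup.mk_inv,
        QuotientGroup.mk_inv, hfix, mul_inv_cancel]
    rw [QuotientGroup.eq_one_iff] at h1
    have h2 := Cfsg.Agent.Lib.H22.Hig.fpf_quot Z π.ker hZker (hQ.to_le hZker) x hx3 hfpf q hq h1
    exact (QuotientGroup.eq_one_iff q).mpr h2
  · have hcomap : π.ker = (QuotientGroup.lift Z π hZker).ker.comap (QuotientGroup.mk' Z) := by
      ext g
      rw [Subgroup.mem_comap]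
      exact (hmem g).symm
    have hidx : π.ker.index = (QuotientGroup.lift Z π hZker).ker.index := by
      rw [hcomap]
      exact Subgroup.index_comap_of_surjective _ (QuotientGroup.mk'_surjective Z)
    have h1 := Subgroup.index_mul_card π.ker
    have h2 := Subgroup.index_mul_card (QuotientGroup.lift Z π hZker).ker
    have h3 := Subgroup.card_eq_card_quotient_mul_card_subgroup Z
    have hpos : 0 < π.ker.index := Nat.pos_of_ne_zero (Subgroup.index_ne_zero_of_finite)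
    have h4 : π.ker.index * (Nat.card ↥(QuotientGroup.lift Z π hZker).ker * Nat.card ↥Z) =
        π.ker.index * Nat.card ↥π.ker := by
      rw [h1, h3, ← h2, hidx, mul_assoc]
    exact Nat.eq_of_mul_eq_mul_left hpos h4

end Cfsg.Agent.Lib.H26.Hig
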