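import Mathlib
import Cfsg.Agent.Lib.H26.TwoMinDefs
import Cfsg.Agent.Lib.H1.CoprimeAction
import Cfsg.Agent.Lib.H1.Complement

set_option autoImplicit false
open scoped commutatorElement

/-!
# S4409, piece MBV: `[X, H]` cannot be a four-group when `X` is not abelian.
-/

namespace Cfsg.Agent.Lib.H26.TwoMin

variable {G : Type*} [Group G]

theorem relIndex_sup_of_le_normalizer (H K : Subgroup G)
    (hLE : H ≤ Subgroup.normalizer (K : Set G)) : K.relIndex (H ⊔ K) = K.relIndex H := by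
  have := Subgroup.normal_subgroupOf_of_le_normalizer hLE
  have := Subgroup.normal_subgroupOf_sup_of_le_normalizer hLE
  exact Nat.card_congr (QuotientGroup.quotientInfEquivProdNormalizerQuotient H K hLE).toEquiv.symm

theorem card_sup_of_le_normalizer (H K : Subgroup G)
    (hLE : H ≤ Subgroup.normalizer (K : Set G)) :
    Nat.card (H ⊔ K : Subgroup G) = Nat.card K * K.relIndex H := by
  have h1 : Nat.card K * K.relIndex (H ⊔ K) = Nat.card (H ⊔ K : Subgroup G) := by
    have := Subgroup.relIndex_mul_relIndex ⊥ K (H ⊔ K) bot_le le_sup_right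
    rwa [Subgroup.relIndex_bot_left, Subgroup.relIndex_bot_left] at this
  rw [← h1, relIndex_sup_of_le_normalizer H K hLE]

theorem setup_le_normalizer {X H : Subgroup G} (h : Setup X H) :
    H ≤ Subgroup.normalizer (X : Set G) := by
  intro g _
  rw [Subgroup.mem_normalizer_iff]
  intro x
  constructor
  · intro hx
    exact h.normal.conj_mem x hx g
  · intro hx
    have := h.normal.conj_mem _ hx g⁻¹
    simpa [mul_assoc] using this

theorem setup_coprime [Finite G] {X H : Subgroup G} (h : Setup X H) :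
    (Nat.card ↥H).Coprime (Nat.card ↥X) := by
  haveI : Fact (Nat.Prime 2) := ⟨Nat.prime_two⟩
  obtain ⟨k, hk⟩ := h.two.exists_card_eq
  rw [hk]
  exact Nat.Coprime.pow_right k (Nat.coprime_two_right.mpr h.odd)

theorem setup_coprimeAction [Finite G] {X H : Subgroup G} (h : Setup X H) :
    Cfsg.Agent.Lib.H1.CoprimeAction H X where
  normalizes := setup_le_normalizer h
  coprime := setup_coprime h
  solvable := by
    right
    haveI : Fact (Nat.Prime 2) := ⟨Nat.prime_two⟩
    haveI := h.two.isNilpotent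
    infer_instance

theorem setup_odd_orderOf [Finite G] {X H : Subgroup G} (h : Setup X H) {g : G} (hg : g ∈ H) :
    Odd (orderOf g) := by
  have h1 : orderOf (⟨g, hg⟩ : H) = orderOf g := Subgroup.orderOf_mk g hg
  have h2 : orderOf (⟨g, hg⟩ : H) ∣ Nat.card ↥H := orderOf_dvd_natCard _
  rw [h1] at h2
  exact Odd.of_dvd_nat h.odd h2

theorem exists_not_mem_centralizer' {H Y : Subgroup G} (hnc : ¬ H ≤ Subgroup.centralizer (Y : Set G)) :
    ∃ g ∈ H, g ∉ Subgroup.centralizer (Y : Set G) := by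
  by_contra hcon
  push_neg at hcon
  exact hnc hcon

/-- `H` does not centralize `[X,H]` unless `[X,H] = ⊥`. -/
theorem not_le_centralizer_commutator [Finite G] {X H : Subgroup G} (h : Setup X H)
    (hne : ⁅X, H⁆ ≠ ⊥) : ¬ H ≤ Subgroup.centralizer ((⁅X, H⁆ : Subgroup G) : Set G) := by
  intro hc
  have h1 : ⁅⁅X, H⁆, H⁆ = ⊥ := by
    rw [Subgroup.commutator_eq_bot_iff_le_centralizer]
    intro w hw
    rw [Subgroup.mem_centralizer_iff]
    intro a ha
    exact (Subgroup.mem_centralizer_iff.mp (hc ha) w hw).symm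
  rw [Cfsg.Agent.Lib.H1.coprime_commutator_commutator (setup_coprimeAction h)] at h1
  exact hne h1

theorem mem_normalizer_sup {A B : Subgroup G} {a : G} (hA : a ∈ Subgroup.normalizer (A : Set G))
    (hB : a ∈ Subgroup.normalizer (B : Set G)) : a ∈ Subgroup.normalizer ((A ⊔ B : Subgroup G) : Set G) := by
  have key : ∀ (k : G), k ∈ Subgroup.normalizer (A : Set G) → k ∈ Subgroup.normalizer (B : Set G) →
      A ⊔ B ≤ (A ⊔ B).comap (MulAut.conj k).toMonoidHom := by
    intro k hkA hkB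
    apply sup_le
    · intro x hx
      rw [Subgroup.mem_comap]
      exact Subgroup.mem_sup_left ((Subgroup.mem_normalizer_iff.mp hkA x).mp hx)
    · intro x hx
      rw [Subgroup.mem_comap]
      exact Subgroup.mem_sup_right ((Subgroup.mem_normalizer_iff.mp hkB x).mp hx)
  rw [Subgroup.mem_normalizer_iff]
  intro x
  constructor
  · intro hx
    exact key a hA hB hx
  · intro hx
    have := key a⁻¹ (Subgroup.inv_mem _ hA) (Subgroup.inv_mem _ hB) hx
    rw [Subgroup.mem_comap] at this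
    simpa [mul_assoc] using this

/-- **MBV**. -/
theorem caseB_v4_false [Finite G] (L : Layer1 G) {X H : Subgroup G} (h : Setup X H) (hV : V4Type ⁅X, H⁆)
    (hnab : ¬ ∀ a ∈ X, ∀ b ∈ X, a * b = b * a) : False := by
  haveI : Fact (Nat.Prime 2) := ⟨Nat.prime_two⟩
  have hca := setup_coprimeAction h
  have hHN := setup_le_normalizer h
  have hWX : ⁅X, H⁆ ≤ X := hca.commutator_le
  have hXW : X ≤ Subgroup.normalizer ((⁅X, H⁆ : Subgroup G) : Set G) :=
    Subgroup.normalizer_commutator_ge_left X H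
  have hHW : H ≤ Subgroup.normalizer ((⁅X, H⁆ : Subgroup G) : Set G) :=
    Subgroup.normalizer_commutator_ge_right X H
  have hWne : ⁅X, H⁆ ≠ ⊥ := by
    intro hb
    have := hV.1
    rw [hb, Subgroup.card_bot] at this
    omega
  obtain ⟨g, hgH, hgC⟩ := exists_not_mem_centralizer' (not_le_centralizer_commutator h hWne)
  have hgo := setup_odd_orderOf h hgH
  have hWc : ⁅X, H⁆ ≤ Subgroup.centralizer (X : Set G) :=
    L.v4_central X _ g h.two hWX hV hXW hgo (hHN hgH) (hHW hgH) hgC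
  -- w ∈ W commutes with every x ∈ X
  have hwx : ∀ w ∈ ⁅X, H⁆, ∀ x ∈ X, x * w = w * x := fun w hw x hx =>
    Subgroup.mem_centralizer_iff.mp (hWc hw) x hx
  have hdec := Cfsg.Agent.Lib.H1.coprime_commutator_sup_centralizer hca
  have hCW : X ⊓ Subgroup.centralizer (H : Set G) ≤ Subgroup.normalizer ((⁅X, H⁆ : Subgroup G) : Set G) :=
    inf_le_left.trans hXW
  -- `C` is not abelian
  have hCnab : ¬ ∀ a ∈ X ⊓ Subgroup.centralizer (H : Set G), ∀ b ∈ X ⊓ Subgroup.centralizer (H : Set G),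
      a * b = b * a := by
    intro hC
    apply hnab
    intro a ha b hb
    rw [← hdec] at ha hb
    obtain ⟨w, hw, c, hc, rfl⟩ := Cfsg.Agent.Lib.H1.mem_sup_of_le_normalizer hCW ha
    obtain ⟨w', hw', c', hc', rfl⟩ := Cfsg.Agent.Lib.H1.mem_sup_of_le_normalizer hCW hb
    have e1 : c * w' = w' * c := hwx w' hw' c hc.1
    have e2 : c' * w = w * c' := hwx w hw c' hc'.1
    have e3 : w' * w = w * w' := hwx w hw w' (hWX hw')
    have e4 : c * c' = c' * c := hC c hc c' hc'
    calc w * c * (w' * c') = w * (c * w') * c' := by group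
      _ = w * (w' * c) * c' := by rw [e1]
      _ = (w * w') * (c * c') := by group
      _ = (w' * w) * (c' * c) := by rw [e3, e4]
      _ = w' * (w * c') * c := by group
      _ = w' * (c' * w) * c := by rw [e2]
      _ = w' * c' * (w * c) := by group
  -- an involution `c ∈ C`
  have hCne : X ⊓ Subgroup.centralizer (H : Set G) ≠ ⊥ := by
    intro hb
    apply hCnab
    intro a ha b hb'
    rw [hb] at ha hb'
    rw [Subgroup.mem_bot.mp ha, Subgroup.mem_bot.mp hb']
  have hC2 : IsPGroup 2 ↥(X ⊓ Subgroup.centralizer (H : Set G)) := h.two.to_le inf_le_left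
  obtain ⟨c, hcC, hco⟩ : ∃ c ∈ X ⊓ Subgroup.centralizer (H : Set G), orderOf c = 2 := by
    obtain ⟨k, hk⟩ := hC2.exists_card_eq
    have hk0 : k ≠ 0 := by
      intro h0
      rw [h0, pow_zero] at hk
      exact hCne (Subgroup.card_eq_one.mp hk)
    have h2dvd : 2 ∣ Nat.card ↥(X ⊓ Subgroup.centralizer (H : Set G)) := by
      rw [hk]; exact dvd_pow_self 2 hk0
    obtain ⟨c, hc⟩ := exists_prime_orderOf_dvd_card' 2 h2dvd
    exact ⟨c.1, c.2, by rw [← hc]; exact Subgroup.orderOf_coe c⟩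
  -- `W ∩ C = 1`
  have hWC : ∀ w ∈ ⁅X, H⁆, w ∈ Subgroup.centralizer (H : Set G) → w = 1 := by
    intro w hw hwc
    apply L.v4_no_fixed _ g hV hgo (hHW hgH) hgC w hw
    have := Subgroup.mem_centralizer_iff.mp hwc g hgH
    rw [this]; group
  have hc1 : c ≠ 1 := by
    intro h1; rw [h1, orderOf_one] at hco; omega
  have hcW : c ∉ ⁅X, H⁆ := fun hcw => hc1 (hWC c hcw hcC.2)
  have hc2 : c ^ 2 = 1 := by rw [← hco]; exact pow_orderOf_eq_one c
  -- `E = ⟨c⟩ W`
  have hzN : Subgroup.zpowers c ≤ Subgroup.normalizer ((⁅X, H⁆ : Subgroup G) : Set G) :=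
    Subgroup.zpowers_le.mpr (hXW hcC.1)
  have hzcard : Nat.card ↥(Subgroup.zpowers c) = 2 := by rw [Nat.card_zpowers, hco]
  have hzW : Subgroup.zpowers c ⊓ ⁅X, H⁆ = ⊥ := by
    rw [eq_bot_iff]
    rintro y ⟨hyz, hyW⟩
    rw [Subgroup.mem_bot]
    obtain ⟨n, rfl⟩ := Subgroup.mem_zpowers_iff.mp hyz
    rcases Int.even_or_odd' n with ⟨m, hm | hm⟩
    · rw [hm, zpow_mul, zpow_ofNat, hc2, one_zpow]
    · exfalso
      apply hcW
      have : c ^ n = c := by
        rw [hm, zpow_add, zpow_mul, zpow_ofNat, hc2, one_zpow, one_mul, zpow_one]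
      rw [this] at hyW; exact hyW
  have hEcard : Nat.card ↥(Subgroup.zpowers c ⊔ ⁅X, H⁆ : Subgroup G) = 8 := by
    rw [card_sup_of_le_normalizer _ _ hzN, hV.1]
    have : (⁅X, H⁆ : Subgroup G).relIndex (Subgroup.zpowers c) = 2 := by
      rw [← Subgroup.inf_relIndex_left, hzW, Subgroup.relIndex_bot_left, hzcard]
    rw [this]
  have hEX : Subgroup.zpowers c ⊔ ⁅X, H⁆ ≤ X := sup_le (Subgroup.zpowers_le.mpr hcC.1) hWX
  -- `E` is abelian
  have hEc : ∀ a ∈ Subgroup.zpowers c ⊔ ⁅X, H⁆, ∀ b ∈ Subgroup.zpowers c ⊔ ⁅X, H⁆, a * b = b * a := by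
    intro a ha b hb
    rw [sup_comm] at ha hb
    obtain ⟨w, hw, u, hu, rfl⟩ := Cfsg.Agent.Lib.H1.mem_sup_of_le_normalizer hzN ha
    obtain ⟨w', hw', u', hu', rfl⟩ := Cfsg.Agent.Lib.H1.mem_sup_of_le_normalizer hzN hb
    have huX : u ∈ X := (Subgroup.zpowers_le.mpr hcC.1) hu
    have hu'X : u' ∈ X := (Subgroup.zpowers_le.mpr hcC.1) hu'
    have e1 : u * w' = w' * u := hwx w' hw' u huX
    have e2 : u' * w = w * u' := hwx w hw u' hu'X
    have e3 : w' * w = w * w' := hwx w hw w' (hWX hw')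
    have e4 : u * u' = u' * u := by
      obtain ⟨n, rfl⟩ := Subgroup.mem_zpowers_iff.mp hu
      obtain ⟨m, rfl⟩ := Subgroup.mem_zpowers_iff.mp hu'
      rw [← zpow_add, ← zpow_add, add_comm]
    calc w * u * (w' * u') = w * (u * w') * u' := by group
      _ = w * (w' * u) * u' := by rw [e1]
      _ = (w * w') * (u * u') := by group
      _ = (w' * w) * (u' * u) := by rw [e3, e4]
      _ = w' * (w * u') * u := by group
      _ = w' * (u' * w) * u := by rw [e2]
      _ = w' * u' * (w * u) := by group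
  -- `E` is not cyclic: exponent 2
  have hEexp : ∀ a ∈ Subgroup.zpowers c ⊔ ⁅X, H⁆, a ^ 2 = 1 := by
    intro a ha
    rw [sup_comm] at ha
    obtain ⟨w, hw, u, hu, rfl⟩ := Cfsg.Agent.Lib.H1.mem_sup_of_le_normalizer hzN ha
    have huX : u ∈ X := (Subgroup.zpowers_le.mpr hcC.1) hu
    have e1 : u * w = w * u := hwx w hw u huX
    have hu2 : u ^ 2 = 1 := by
      obtain ⟨n, rfl⟩ := Subgroup.mem_zpowers_iff.mp hu
      rw [← zpow_ofNat, ← zpow_mul, mul_comm, zpow_mul, zpow_ofNat, hc2, one_zpow]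
    have hw2 : w ^ 2 = 1 := hV.2 w hw
    calc (w * u) ^ 2 = w * (u * w) * u := by rw [pow_two]; group
      _ = w * (w * u) * u := by rw [e1]
      _ = w ^ 2 * u ^ 2 := by rw [pow_two, pow_two]; group
      _ = 1 := by rw [hw2, hu2, one_mul]
  have hEn : ¬ IsCyclic ↥(Subgroup.zpowers c ⊔ ⁅X, H⁆ : Subgroup G) := by
    intro hcyc
    obtain ⟨e, he⟩ := hcyc.exists_generator
    have hord : orderOf e = 8 := by
      rw [orderOf_eq_card_of_forall_mem_zpowers he, hEcard]
    have he2 : e ^ 2 = 1 := by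
      apply Subtype.ext
      rw [Subgroup.coe_pow, Subgroup.coe_one]
      exact hEexp e.1 e.2
    have := orderOf_dvd_of_pow_eq_one he2
    rw [hord] at this
    omega
  -- `E` is `H`-invariant and proper
  have hHE : H ≤ Subgroup.normalizer ((Subgroup.zpowers c ⊔ ⁅X, H⁆ : Subgroup G) : Set G) := by
    intro a ha
    refine mem_normalizer_sup ?_ (hHW ha)
    rw [Subgroup.mem_normalizer_iff]
    intro x
    have hac : ∀ y ∈ Subgroup.zpowers c, a * y * a⁻¹ = y := by
      intro y hy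
      obtain ⟨n, rfl⟩ := Subgroup.mem_zpowers_iff.mp hy
      have hcomm : Commute a c := (Subgroup.mem_centralizer_iff.mp hcC.2 a ha)
      have := (hcomm.zpow_right n).eq
      rw [this]; group
    constructor
    · intro hx; rw [hac x hx]; exact hx
    · intro hx
      have h2 : a * (a * x * a⁻¹) * a⁻¹ = a * x * a⁻¹ := hac _ hx
      have h3 : a * x * a⁻¹ = x := by
        have e2 : a⁻¹ * (a * (a * x * a⁻¹) * a⁻¹) * a = a * x * a⁻¹ := by group
        have e3 : a⁻¹ * (a * x * a⁻¹) * a = x := by group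
        rw [h2, e3] at e2
        exact e2.symm
      rw [← h3]; exact hx
  have hlt : Subgroup.zpowers c ⊔ ⁅X, H⁆ < X :=
    lt_of_le_of_ne hEX (fun heq => hnab (heq ▸ hEc))
  exact hEn (h.inv _ hlt hHE _ le_rfl hEc hEcard)

end Cfsg.Agent.Lib.H26.TwoMin
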