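import Mathlib
import Cfsg.Agent.Lib.H25.Fusion
import Cfsg.Agent.Lib.H25.Saturation
import Cfsg.Agent.Lib.H25.KNormSat
import Cfsg.Agent.Lib.H25.Normal

set_option autoImplicit false

/-!
The subsystem `S C_F(Q)` of a fusion system `F` over `S`, for `Q` normalized by `S`: the maps
of `F` which extend to a map on the join with `Q` inducing on `Q` conjugation by an element of
`S` (helper26).  It is the `K`-normalizer system `N_F^K(Q)` for `K = Aut_S(Q)`, hence saturated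
when `F` is.
-/

namespace Cfsg.Agent.Lib.H26.ZJ

open Cfsg Cfsg.FusionSystem Cfsg.Agent.Lib.H25

variable {Ω : Type*} [Group Ω] {S : Subgroup Ω}

/-- The maps of `S C_F(Q)` with source `P`. -/
def scHom (F : FusionSystem S) (Q P : Subgroup Ω) : Set (P →* Ω) :=
  {φ | φ ∈ F.Hom P ∧ ∃ ψ ∈ F.Hom (P ⊔ Q),
    (∀ x : P, ψ (Subgroup.inclusion le_sup_left x) = φ x) ∧
      ∃ k ∈ autInducedBy S Q, ∀ q : Q, ψ (Subgroup.inclusion le_sup_right q) = ((k q : Q) : Ω)}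

theorem exists_conj_aut (F : FusionSystem S) {Q : Subgroup Ω} (hQS : Q ≤ S)
    (hQn : S ≤ Subgroup.normalizer (Q : Set Ω)) {s : Ω} (hs : s ∈ S) :
    ∃ k ∈ autInducedBy S Q, ∀ q : Q, ((k q : Q) : Ω) = s * q * s⁻¹ := by
  obtain ⟨k, -, hk⟩ := exists_mem_autGroup_of_isIso F
    (isIso_conj_normalizer F hQS (⟨hs, hQn hs⟩ : s ∈ normalizerIn S Q))
  exact ⟨k, (mem_autInducedBy_iff S Q k).2 ⟨s, hs, hk⟩, hk⟩

/-- Function-level description of the maps of `S C_F(Q)`. -/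
theorem mem_scHom_iff (F : FusionSystem S) {Q : Subgroup Ω} (hQS : Q ≤ S)
    (hQn : S ≤ Subgroup.normalizer (Q : Set Ω)) (P : Subgroup Ω) (φ : P →* Ω) :
    φ ∈ scHom F Q P ↔ φ ∈ F.Hom P ∧ ∃ (f : Ω → Ω) (B : Subgroup Ω) (s : Ω), s ∈ S ∧
      IsIso F (P ⊔ Q) B f ∧ (∀ x : P, f x = φ x) ∧ ∀ q ∈ Q, f q = s * q * s⁻¹ := by
  constructor
  · rintro ⟨h1, ψ, hψ, hψφ, k, hk, hkψ⟩
    obtain ⟨s, hs, hks⟩ := (mem_autInducedBy_iff S Q k).1 hk
    refine ⟨h1, ext1 ψ, ψ.range, s, hs, isIso_of_mem F hψ, fun x => ?_, fun q hq => ?_⟩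
    · rw [← hψφ x]
      exact ext1_apply_mem ψ _
    · rw [ext1_apply_mem ψ ((le_sup_right : Q ≤ P ⊔ Q) hq)]
      have := hkψ ⟨q, hq⟩
      rw [hks] at this
      exact this
  · rintro ⟨h1, f, B, s, hs, hf, hfφ, hfQ⟩
    obtain ⟨ψ, hψ, hψf, -⟩ := hf
    obtain ⟨k, hk, hks⟩ := exists_conj_aut F hQS hQn hs
    refine ⟨h1, ψ, hψ, fun x => ?_, k, hk, fun q => ?_⟩
    · rw [hψf]; exact hfφ x
    · rw [hψf, hks]
      exact hfQ q q.2

/-- `S C_F(Q)` as a fusion system over `S`. -/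
def scSys (F : FusionSystem S) (Q : Subgroup Ω) (hQS : Q ≤ S)
    (hQn : S ≤ Subgroup.normalizer (Q : Set Ω)) : FusionSystem S where
  Hom P := scHom F Q P
  le_of_mem h := F.le_of_mem h.1
  injective_of_mem h := F.injective_of_mem h.1
  conj_mem := by
    intro P g hP hg
    have hPQ : P ⊔ Q ≤ S := sup_le hP hQS
    rw [mem_scHom_iff F hQS hQn]
    exact ⟨F.conj_mem hP hg, fun x => g * x * g⁻¹, _, g, hg, IsIso.conj hPQ hg, fun x => rfl,
      fun q _ => rfl⟩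
  comp_mem := by
    intro P R φ ψ hφ hψ h
    rw [mem_scHom_iff F hQS hQn] at hφ hψ ⊢
    obtain ⟨hφ1, f, B, s, hs, hf, hfφ, hfQ⟩ := hφ
    obtain ⟨hψ1, k, C, t, ht, hk, hkψ, hkQ⟩ := hψ
    refine ⟨F.comp_mem hφ1 hψ1 h, ?_⟩
    have hsQ : ∀ q ∈ Q, s * q * s⁻¹ ∈ Q := fun q hq =>
      (Subgroup.mem_normalizer_iff.1 (hQn hs) q).1 hq
    have hB : B ≤ R ⊔ Q := by
      intro y hy
      obtain ⟨x, hx, rfl⟩ := hf.surjOn hy
      have : P ⊔ Q ≤ hf.pre (R ⊔ Q) := by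
        apply sup_le
        · intro a ha
          refine ⟨(le_sup_left : P ≤ P ⊔ Q) ha, (le_sup_left : R ≤ R ⊔ Q) ?_⟩
          rw [hfφ ⟨a, ha⟩]
          exact h ⟨a, ha⟩
        · intro a ha
          refine ⟨(le_sup_right : Q ≤ P ⊔ Q) ha, (le_sup_right : Q ≤ R ⊔ Q) ?_⟩
          rw [hfQ a ha]
          exact hsQ a ha
      exact (this hx).2
    obtain ⟨C', -, hk', -⟩ := hk.restrict hB
    refine ⟨k ∘ f, C', t * s, S.mul_mem ht hs, hf.trans hk', fun x => ?_, fun q hq => ?_⟩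
    · show k (f x) = ψ ⟨φ x, h x⟩
      rw [hfφ x]
      exact hkψ ⟨φ x, h x⟩
    · show k (f q) = _
      rw [hfQ q hq, hkQ _ (hsQ q hq)]
      group
  inv_mem := by
    intro P φ hφ
    rw [mem_scHom_iff F hQS hQn] at hφ
    obtain ⟨hφ1, f, B, s, hs, hf, hfφ, hfQ⟩ := hφ
    obtain ⟨g, hg, hgf, hfg⟩ := hf.symm
    have hsQ : ∀ q ∈ Q, s * q * s⁻¹ ∈ Q := fun q hq =>
      (Subgroup.mem_normalizer_iff.1 (hQn hs) q).1 hq
    have hsQ' : ∀ q ∈ Q, s⁻¹ * q * s ∈ Q := fun q hq => by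
      have := (Subgroup.mem_normalizer_iff.1 (hQn (S.inv_mem hs)) q).1 hq
      simpa using this
    have hfP : IsIso F P φ.range f := by
      refine hf.restrict' le_sup_left (fun x hx => ⟨⟨x, hx⟩, (hfφ ⟨x, hx⟩).symm⟩) ?_
      rintro _ ⟨x, rfl⟩
      exact ⟨x, x.2, hfφ x⟩
    have hfQQ : IsIso F Q Q f := by
      refine hf.restrict' le_sup_right (fun q hq => ?_) (fun y hy => ?_)
      · rw [hfQ q hq]; exact hsQ q hq
      · refine ⟨s⁻¹ * y * s, hsQ' y hy, ?_⟩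
        rw [hfQ _ (hsQ' y hy)]
        group
    have hB : B = φ.range ⊔ Q := hf.image_sup hfP hfQQ
    subst hB
    have hgP : IsIso F φ.range P g := by
      refine hg.restrict' le_sup_left ?_ ?_
      · rintro _ ⟨x, rfl⟩
        rw [← hfφ x, hgf _ ((le_sup_left : P ≤ P ⊔ Q) x.2)]
        exact x.2
      · intro x hx
        exact ⟨f x, ⟨⟨x, hx⟩, (hfφ ⟨x, hx⟩).symm⟩, hgf _ ((le_sup_left : P ≤ P ⊔ Q) hx)⟩
    obtain ⟨ψ, hψ, hψg, -⟩ := hgP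
    refine ⟨ψ, ?_, fun x => ?_⟩
    · rw [mem_scHom_iff F hQS hQn]
      refine ⟨hψ, g, _, s⁻¹, S.inv_mem hs, hg, fun y => (hψg y).symm, fun q hq => ?_⟩
      have h1 : f (s⁻¹ * q * s) = q := by
        rw [hfQ _ (hsQ' q hq)]
        group
      rw [← h1, hgf _ ((le_sup_right : Q ≤ P ⊔ Q) (hsQ' q hq)), h1, inv_inv]
    · rw [hψg]
      show g (φ x) = x
      rw [← hfφ x, hgf _ ((le_sup_left : P ≤ P ⊔ Q) x.2)]

section props

variable {F : FusionSystem S} {Q : Subgroup Ω} (hQS : Q ≤ S)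
  (hQn : S ≤ Subgroup.normalizer (Q : Set Ω))

theorem scSys_le (P : Subgroup Ω) : (scSys F Q hQS hQn).Hom P ⊆ F.Hom P := fun _ h => h.1

/-- Isomorphisms of `F` between overgroups of `Q` fixing `Q` elementwise belong to `S C_F(Q)`. -/
theorem isIso_scSys_of_fix {P P' : Subgroup Ω} {f : Ω → Ω} (hf : IsIso F P P' f) (hQP : Q ≤ P)
    (hfix : ∀ q ∈ Q, f q = q) : IsIso (scSys F Q hQS hQn) P P' f := by
  obtain ⟨φ, hφ, hφf, hr⟩ := hf
  refine ⟨φ, ?_, hφf, hr⟩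
  show φ ∈ scHom F Q P
  rw [mem_scHom_iff F hQS hQn]
  refine ⟨hφ, f, P', 1, S.one_mem, ?_, fun x => (hφf x).symm, fun q hq => ?_⟩
  · rw [sup_eq_left.2 hQP]
    exact ⟨φ, hφ, hφf, hr⟩
  · rw [hfix q hq]; group

/-- Isomorphisms of `S C_F(Q)` with source containing `Q` induce on `Q` conjugation by an element
of `S`. -/
theorem scSys_res {P P' : Subgroup Ω} {f : Ω → Ω} (hf : IsIso (scSys F Q hQS hQn) P P' f)
    (hQP : Q ≤ P) : ∃ s ∈ S, ∀ q ∈ Q, f q = s * q * s⁻¹ := by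
  obtain ⟨φ, hφ, hφf, hr⟩ := hf
  have hφ' : φ ∈ scHom F Q P := hφ
  rw [mem_scHom_iff F hQS hQn] at hφ'
  obtain ⟨-, g, B, s, hs, -, hgφ, hgQ⟩ := hφ'
  refine ⟨s, hs, fun q hq => ?_⟩
  rw [← hgQ q hq, ← hφf ⟨q, hQP hq⟩]
  exact (hgφ ⟨q, hQP hq⟩).symm

include hQS hQn in
/-- `S C_F(Q)` is saturated. -/
theorem scSys_isSaturated [Finite S] {p : ℕ} [Fact p.Prime] (hS : IsPGroup p S)
    (hF : F.IsSaturated p) : (scSys F Q hQS hQn).IsSaturated p := by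
  have hT : S = NK S (autInducedBy S Q) (id : Ω → Ω) := by
    apply le_antisymm
    · intro y hy
      obtain ⟨k, hk, hks⟩ := exists_conj_aut F hQS hQn hy
      exact mem_NK.2 ⟨hy, k, hk, fun x => hks x⟩
    · exact NK_le _ _
  have hmax : IsKMax F (autInducedBy S Q) (id : Ω → Ω) := by
    intro Z g _
    rw [← hT]
    exact Subgroup.card_le_of_le (NK_le _ _)
  refine KNorm_saturated' hS hF hQS hmax hT (scSys F Q hQS hQn) (fun P φ => ?_)
  constructor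
  · rintro ⟨h1, h2⟩
    exact ⟨h1, hom_le F h1, fun x => hom_mem_S F h1 x, h2⟩
  · rintro ⟨h1, -, -, h2⟩
    exact ⟨h1, h2⟩

end props

end Cfsg.Agent.Lib.H26.ZJ
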