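import Mathlib
import Cfsg.Agent.Lib.H26.NormCtl
import Cfsg.Agent.Lib.H26.ScSys

set_option autoImplicit false

/-!
For `Q` normal in a saturated fusion system `F` over `S`: every isomorphism of `F` whose source
contains `Q` is the composite of an isomorphism in `N_F(Q C_S(Q))` followed by an isomorphism
fixing `Q` elementwise, that is `F = ⟨N_F(Q C_S(Q)), S C_F(Q)⟩` (helper26).
-/

namespace Cfsg.Agent.Lib.H26.ZJ

open Cfsg Cfsg.FusionSystem Cfsg.Agent.Lib.H25 Cfsg.Agent.Lib.H26 Cfsg.Agent.Lib.H26.Nil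

variable {Ω : Type*} [Group Ω] {S : Subgroup Ω}

/-- An isomorphism of `F` which is a map of the normalizer system is an isomorphism of any system
whose maps are those of the normalizer system. -/
theorem isIso_of_isNHom {T : Subgroup Ω} {F : FusionSystem S} {N₁ : FusionSystem T}
    {R : Subgroup Ω} (hN₁ : ∀ P : Subgroup Ω, N₁.Hom P = F.normalizerHom R P)
    {P P'' : Subgroup Ω} {β : Ω → Ω} (h1 : IsIso F P P'' β) (h2 : IsNHom F R P β) :
    IsIso N₁ P P'' β := by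
  obtain ⟨φ', hφ', hφ'β, hr'⟩ := h1
  refine ⟨φ', ?_, hφ'β, hr'⟩
  rw [hN₁]
  exact mem_of_isNHom h2 hφ'β

/-- the join of two subgroups normalized by `S` is normalized by `S` -/
theorem le_normalizer_sup {A B : Subgroup Ω} (hA : S ≤ Subgroup.normalizer (A : Set Ω))
    (hB : S ≤ Subgroup.normalizer (B : Set Ω)) : S ≤ Subgroup.normalizer ((A ⊔ B : Subgroup Ω) : Set Ω) := by
  intro s hs
  have h1 : ∀ s ∈ S, (A ⊔ B).map (MulAut.conj s).toMonoidHom ≤ A ⊔ B := by
    intro s hs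
    rw [Subgroup.map_sup]
    apply sup_le_sup
    · rintro _ ⟨a, ha, rfl⟩
      exact (Subgroup.mem_normalizer_iff.1 (hA hs) a).1 ha
    · rintro _ ⟨b, hb, rfl⟩
      exact (Subgroup.mem_normalizer_iff.1 (hB hs) b).1 hb
  rw [Subgroup.mem_normalizer_iff]
  intro x
  constructor
  · intro hx
    exact h1 s hs ⟨x, hx, rfl⟩
  · intro hx
    have := h1 s⁻¹ (S.inv_mem hs) ⟨_, hx, rfl⟩
    simpa [mul_assoc] using this

theorem decompose [Finite S] {p : ℕ} [Fact p.Prime] (hS : IsPGroup p S) {F : FusionSystem S}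
    (hF : F.IsSaturated p) {Q : Subgroup Ω} (hQ : F.IsNormal Q) {P P' : Subgroup Ω} {f : Ω → Ω}
    (hf : IsIso F P P' f) (hQP : Q ≤ P) :
    ∃ (β γ : Ω → Ω) (P'' : Subgroup Ω), IsIso F P P'' β ∧
      IsNHom F (Q ⊔ centralizerIn S Q) P β ∧ Q ≤ P'' ∧ IsIso F P'' P' γ ∧ (∀ q ∈ Q, γ q = q) ∧
      ∀ x ∈ P, f x = γ (β x) := by
  have hQS := hQ.1
  have hQsc := isNormal_stronglyClosed hQ
  have hQn : S ≤ Subgroup.normalizer (Q : Set Ω) := stronglyClosed_le_normalizer hQsc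
  have hNSQ : normalizerIn S Q = S := stronglyClosed_normalizerIn_eq hQsc
  have hPS := hf.le_left
  have hP'S := hf.le_right
  set C := centralizerIn S Q with hC
  have hCS : C ≤ S := inf_le_left
  have hCn : S ≤ Subgroup.normalizer (C : Set Ω) := le_normalizer_centralizerIn hQn
  have hRn : S ≤ Subgroup.normalizer ((Q ⊔ C : Subgroup Ω) : Set Ω) := le_normalizer_sup hQn hCn
  have hfQ : IsIso F Q Q f := stronglyClosed_isIso_self hQsc hf hQP
  -- `Q` is receptive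
  have hQfn : F.IsFullyNormalized Q := isFullyNormalized_of_normalizerIn_eq hQS hNSQ
  have hQrec : F.IsReceptive Q :=
    isReceptive_of_fullyCentralized hS hF (fullyNormalized_props hS hF hQfn).1
  -- extend to `P C_S(Q)`
  have hext : ∃ (b : Ω → Ω) (N' : Subgroup Ω), IsIso F (P ⊔ C) N' b ∧
      ∀ x ∈ Q, x ∈ P ⊔ C → b x = f x := by
    obtain ⟨φ, hφ, hφf, hr⟩ := hfQ
    have hle : P ⊔ C ≤ extender S Q φ := by
      apply sup_le
      · intro g hg
        rw [mem_extender_iff' hφf]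
        refine ⟨hPS hg, hQn (hPS hg), f g, hP'S (hf.map_mem hg), fun x hx => ?_⟩
        rw [hf.map_mul (P.mul_mem hg (hQP hx)) (P.inv_mem hg), hf.map_mul hg (hQP hx),
          hf.map_inv hg]
      · exact centralizerIn_le_extender S Q φ
    exact IsReceptive_extend hQrec ⟨φ, hφ, hφf, hr⟩ (P ⊔ C)
      (fun g hg => (mem_extender_iff' hφf g).1 (hle hg))
  obtain ⟨b, N', hb, hbf⟩ := hext
  have hPN : P ≤ P ⊔ C := le_sup_left
  have hCN : C ≤ P ⊔ C := le_sup_right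
  have hQN : Q ≤ P ⊔ C := hQP.trans hPN
  have hbQ : IsIso F Q Q b := hfQ.congr (fun x hx => (hbf x hx (hQN hx)).symm)
  -- `b` maps `C` onto `C`
  have hbC : IsIso F C C b := by
    obtain ⟨C', -, hC', -⟩ := hb.restrict hCN
    have hle : C' ≤ C := by
      intro y hy
      obtain ⟨c, hc, rfl⟩ := hC'.surjOn hy
      exact hb.map_centralizerIn hQN hbQ (hCN hc) hc
    have hfinC : Finite C := finite_of_le S hCS
    have : C' = C := Subgroup.eq_of_le_of_card_ge hle (le_of_eq hC'.card_eq)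
    rwa [this] at hC'
  obtain ⟨P'', -, hbP, -⟩ := hb.restrict hPN
  have hQP'' : Q ≤ P'' := by
    intro q hq
    obtain ⟨q₀, hq₀, rfl⟩ := hbQ.surjOn hq
    exact hbP.map_mem (hQP hq₀)
  -- `b` on `P ⊔ (Q ⊔ C)`
  have hsup_le : P ⊔ (Q ⊔ C) ≤ P ⊔ C := sup_le hPN (sup_le hQN hCN)
  obtain ⟨C₁, -, hbsup, -⟩ := hb.restrict hsup_le
  have hRiso : IsIso F (Q ⊔ C) (Q ⊔ C) b := by
    obtain ⟨R', -, hR', -⟩ := hb.restrict (sup_le hQN hCN : Q ⊔ C ≤ P ⊔ C)
    have := hR'.image_sup hbQ hbC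
    rwa [this] at hR'
  have hNHom : IsNHom F (Q ⊔ C) P b := by
    rw [isNHom_iff]
    have hnorm : normalizerIn S (Q ⊔ C) = S := inf_eq_left.2 hRn
    refine ⟨by rw [hnorm]; exact hPS, fun x hx => ?_, b, C₁, hbsup, fun x _ => rfl,
      fun x hx => hRiso.map_mem hx, fun y hy => hRiso.surjOn hy⟩
    rw [hnorm]
    exact hb.le_right (hb.map_mem (hPN hx))
  -- the second factor
  obtain ⟨b', hb', hb'b, hbb'⟩ := hbP.symm
  refine ⟨b, f ∘ b', P'', hbP, hNHom, hQP'', hb'.trans hf, fun q hq => ?_, fun x hx => ?_⟩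
  · obtain ⟨q₀, hq₀, rfl⟩ := hbQ.surjOn hq
    show f (b' (b q₀)) = b q₀
    rw [hb'b q₀ (hQP hq₀), hbf q₀ hq₀ (hQN hq₀)]
  · show f x = f (b' (b x))
    rw [hb'b x hx]

end Cfsg.Agent.Lib.H26.ZJ
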