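import Mathlib
import Cfsg.Agent.Lib.H25.Normal
import Cfsg.Agent.Lib.H25.NormalSeries
import Cfsg.Agent.S5080

set_option autoImplicit false

/-!
A subgroup normal in a fusion system `F` over `S` is normal in every saturated subsystem of `F`
over the same `S` (helper26).
-/

namespace Cfsg.Agent.Lib.H26.ZJ

open Cfsg Cfsg.FusionSystem Cfsg.Agent.Lib.H25

variable {Ω : Type*} [Group Ω] {S : Subgroup Ω}

theorem isIso_mono {F D : FusionSystem S} (hDF : ∀ P : Subgroup Ω, D.Hom P ⊆ F.Hom P)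
    {P P' : Subgroup Ω} {f : Ω → Ω} (h : IsIso D P P' f) : IsIso F P P' f := by
  obtain ⟨φ, hφ, hφf, hr⟩ := h
  exact ⟨φ, hDF P hφ, hφf, hr⟩

theorem stronglyClosed_mono {F D : FusionSystem S} (hDF : ∀ P : Subgroup Ω, D.Hom P ⊆ F.Hom P)
    {Q : Subgroup Ω} (hQ : F.StronglyClosed Q) : D.StronglyClosed Q :=
  ⟨hQ.1, fun R hRQ φ hφ x => hQ.2 R hRQ φ (hDF R hφ) x⟩

/-- A subgroup normal in `F` lies in every centric radical subgroup of a subsystem `D`. -/
theorem le_of_centric_radical_sub [Finite S] {p : ℕ} [Fact p.Prime] (hS : IsPGroup p S)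
    {F D : FusionSystem S} (hDF : ∀ P : Subgroup Ω, D.Hom P ⊆ F.Hom P) {Q P : Subgroup Ω}
    (hQ : F.IsNormal Q) (hc : D.IsCentric P) (hr : D.IsRadical p P) : Q ≤ P := by
  have hPS := hc.1
  have hQS := hQ.1
  set T := P ⊔ Q with hT
  have hTS : T ≤ S := sup_le hPS hQS
  have hfinT : Finite T := finite_of_le S hTS
  have hTp : IsPGroup p T := hS.to_le hTS
  by_contra hne
  have hPT : P ≠ T := by
    intro h
    apply hne
    rw [h]
    exact le_sup_right
  obtain ⟨g, hgN, hgP⟩ := exists_mem_normalizerIn_not_mem hTp (le_sup_left : P ≤ T) hPT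
  apply hgP
  have hNS : normalizerIn T P ≤ normalizerIn S P := fun y hy => ⟨hTS hy.1, hy.2⟩
  obtain ⟨β, hβA, hβg⟩ := exists_mem_autGroup_of_isIso D (isIso_conj_normalizer D hPS (hNS hgN))
  refine mem_of_centric_radical hc hr (autInducedBy (normalizerIn T P) P)
    ((autInducedBy_mono (hNS.trans inf_le_left) P).trans (autInducedBy_le_autGroup D hPS)) ?_
    (Cfsg.Agent.Lib.H25.autInducedBy_isPGroup (hTp.to_le (inf_le_left : normalizerIn T P ≤ T)) P)
    (hTS hgN.1) ((mem_autInducedBy_iff _ P β).2 ⟨g, hgN, hβg⟩) hβg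
  intro α hα γ hγ
  obtain ⟨k, hkN, hγk⟩ := (mem_autInducedBy_iff _ P γ).1 hγ
  have ha := isIso_mono hDF (isIso_of_mem_autGroup D hPS hα)
  obtain ⟨a', ha', ha'a, -⟩ := isNormal_exists_ext hQ ha
  have hval : ∀ x : P, (((α * γ * α⁻¹) x : P) : Ω) = a' k * (x : Ω) * (a' k)⁻¹ := by
    intro x
    have hy : ((α⁻¹ x : P) : Ω) ∈ T := (le_sup_left : P ≤ T) (α⁻¹ x).2
    have hkT : k ∈ T := hkN.1
    show ((α (γ (α⁻¹ x)) : P) : Ω) = _
    have h1 : ((α (γ (α⁻¹ x)) : P) : Ω) = a' ((γ (α⁻¹ x) : P) : Ω) := by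
      rw [ha'a _ (γ (α⁻¹ x)).2, ext1_apply_mem _ (γ (α⁻¹ x)).2]
      rfl
    rw [h1, hγk, ha'.map_mul (T.mul_mem hkT hy) (T.inv_mem hkT), ha'.map_mul hkT hy,
      ha'.map_inv hkT, ha'a _ (α⁻¹ x).2, ext1_apply_mem _ (α⁻¹ x).2]
    show a' k * ((α (α⁻¹ x) : P) : Ω) * _ = _
    simp
  rw [mem_autInducedBy_iff]
  exact ⟨a' k, ⟨ha'.map_mem hkN.1, mem_normalizer_of_induces hval⟩, hval⟩

/-- A subgroup normal in `F` is normal in every saturated subsystem over the same `S`. -/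
theorem isNormal_of_le_sys [Finite S] {p : ℕ} [Fact p.Prime] (hS : IsPGroup p S)
    {F D : FusionSystem S} (hD : D.IsSaturated p) (hDF : ∀ P : Subgroup Ω, D.Hom P ⊆ F.Hom P)
    {Q : Subgroup Ω} (hQ : F.IsNormal Q) : D.IsNormal Q := by
  apply isNormal_of_stronglyClosed_of_le hS hD
    (stronglyClosed_mono hDF (isNormal_stronglyClosed hQ))
  intro T hT
  exact le_of_centric_radical_sub hS hDF hQ hT.1 (Cfsg.Agent.S5080.result p hS D hD T hT)

end Cfsg.Agent.Lib.H26.ZJ
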