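import Mathlib
import Cfsg.Agent.Lib.H25.Morphism
import Cfsg.Agent.Lib.H25.MorphismClosed
import Cfsg.Agent.Lib.H25.NormalSeries
import Cfsg.Agent.Lib.H26.SubNormal
import Cfsg.Agent.Lib.H26.NilQuotient
import Cfsg.Agent.Lib.H26.PAut

set_option autoImplicit false

/-!
Lifting normal subgroups from a factor system `F/Q` to a saturated subsystem `D` of `F` whose
maps induce on `Q` conjugations by elements of `S` (for instance `D = S C_F(Q)`): the full
preimage of a subgroup normal in `F/Q` is normal in `D` (helper26).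
-/

namespace Cfsg.Agent.Lib.H26.ZJ

open Cfsg Cfsg.FusionSystem Cfsg.Agent.Lib.H25 Cfsg.Agent.Lib.H26.Nil

variable {Ω : Type*} [Group Ω] {S : Subgroup Ω} {Ω' : Type*} [Group Ω'] {S' : Subgroup Ω'}

/-- The automorphisms in `Aut_D(T)` inducing, read through `θ`, conjugation by an element of
`V'`. -/
def liftB (D : FusionSystem S) (θ : S →* Ω') (V' : Subgroup Ω') (T : Subgroup Ω) :
    Subgroup (MulAut T) where
  carrier := {β | β ∈ D.autGroup T ∧ ∃ y' ∈ V', ∀ x : T,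
    al θ ((β x : T) : Ω) = y' * al θ (x : Ω) * y'⁻¹}
  mul_mem' := by
    rintro a b ⟨ha, ya, hya, hya'⟩ ⟨hb, yb, hyb, hyb'⟩
    refine ⟨Subgroup.mul_mem _ ha hb, ya * yb, V'.mul_mem hya hyb, fun x => ?_⟩
    rw [MulAut.mul_apply, hya', hyb']
    group
  one_mem' := ⟨Subgroup.one_mem _, 1, V'.one_mem, fun x => by simp⟩
  inv_mem' := by
    rintro a ⟨ha, ya, hya, hya'⟩
    refine ⟨Subgroup.inv_mem _ ha, ya⁻¹, V'.inv_mem hya, fun x => ?_⟩
    have h := hya' (a⁻¹ x)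
    have h2 : a (a⁻¹ x) = x := by simp
    rw [h2] at h
    rw [h]
    group

theorem mem_liftB {D : FusionSystem S} {θ : S →* Ω'} {V' : Subgroup Ω'} {T : Subgroup Ω}
    {β : MulAut T} : β ∈ liftB D θ V' T ↔ β ∈ D.autGroup T ∧ ∃ y' ∈ V', ∀ x : T,
      al θ ((β x : T) : Ω) = y' * al θ (x : Ω) * y'⁻¹ := Iff.rfl

section main

variable [Finite S] {p : ℕ} [Fact p.Prime] {F D : FusionSystem S} {F' : FusionSystem S'}
  {θ : S →* Ω'} {Q : Subgroup Ω}

/-- `liftB` is a `p`-group. -/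
theorem liftB_isPGroup (hS : IsPGroup p S) (hQS : Q ≤ S)
    (hQn : S ≤ Subgroup.normalizer (Q : Set Ω))
    (hDres : ∀ (T : Subgroup Ω) (f : Ω → Ω), Q ≤ T → IsIso D T T f →
      ∃ s ∈ S, ∀ q ∈ Q, f q = s * q * s⁻¹)
    (hrange : θ.range = S') (hker : kerSub θ = Q) {V' : Subgroup Ω'} (hV'S : V' ≤ S')
    {T : Subgroup Ω} (hTS : T ≤ S) (hQT : Q ≤ T) : IsPGroup p (liftB D θ V' T) := by
  rintro ⟨β, hβA, y', hy', hβy⟩
  have hf := isIso_of_mem_autGroup D hTS hβA
  set f := ext1 (T.subtype.comp β.toMonoidHom) with hfdef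
  have hβf : ∀ x : T, ((β x : T) : Ω) = f x := fun x => by
    rw [hfdef, ext1_apply]; rfl
  have hfy : ∀ x ∈ T, al θ (f x) = y' * al θ x * y'⁻¹ := by
    intro x hx
    rw [← hβf ⟨x, hx⟩]
    exact hβy ⟨x, hx⟩
  -- Step 1: iterate
  have h1 : ∀ n : ℕ, ∀ x ∈ T, al θ (f^[n] x) = y' ^ n * al θ x * (y' ^ n)⁻¹ := by
    intro n
    induction n with
    | zero => intro x _; simp
    | succ n ih =>
      intro x hx
      rw [Function.iterate_succ_apply', hfy _ (iterate_mem hf n hx), ih x hx, pow_succ']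
      group
  -- Step 2
  have hS'p : IsPGroup p S' := isPGroup_S' hrange hS
  obtain ⟨k, hk⟩ := hS'p ⟨y', hV'S hy'⟩
  have hk' : y' ^ (p ^ k) = 1 := by
    have := congrArg Subtype.val hk
    simpa using this
  set g := f^[p ^ k] with hgdef
  have hg : IsIso D T T g := isIso_iterate hf _
  have hgθ : ∀ x ∈ T, al θ (g x) = al θ x := by
    intro x hx
    rw [hgdef, h1 _ x hx, hk']
    simp
  -- Step 3
  obtain ⟨s, hs, hgs⟩ := hDres T g hQT hg
  have hQconj : ∀ n : ℕ, ∀ q ∈ Q, s ^ n * q * (s ^ n)⁻¹ ∈ Q := by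
    intro n q hq
    exact (Subgroup.mem_normalizer_iff.1 (hQn (S.pow_mem hs n)) q).1 hq
  have h3 : ∀ n : ℕ, ∀ q ∈ Q, g^[n] q = s ^ n * q * (s ^ n)⁻¹ := by
    intro n
    induction n with
    | zero => intro q _; simp
    | succ n ih =>
      intro q hq
      rw [Function.iterate_succ_apply', ih q hq, hgs _ (hQconj n q hq), pow_succ']
      group
  obtain ⟨m, hm⟩ := hS ⟨s, hs⟩
  have hm' : s ^ (p ^ m) = 1 := by
    have := congrArg Subtype.val hm
    simpa using this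
  set h := g^[p ^ m] with hhdef
  have hh : IsIso D T T h := isIso_iterate hg _
  have hhfix : ∀ q ∈ Q, h q = q := by
    intro q hq
    rw [hhdef, h3 _ q hq, hm']
    simp
  -- Step 4
  have h4 : ∀ n : ℕ, ∀ x ∈ T, al θ (g^[n] x) = al θ x := by
    intro n
    induction n with
    | zero => intro x _; rfl
    | succ n ih =>
      intro x hx
      rw [Function.iterate_succ_apply', hgθ _ (iterate_mem hg n hx), ih x hx]
  have hhz : ∀ x ∈ T, x⁻¹ * h x ∈ Q := by
    intro x hx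
    rw [← hker]
    exact inv_mul_mem_kerSub θ (hTS hx) (hTS (hh.map_mem hx)) (h4 _ x hx).symm
  -- Step 5
  have hfinQ : Finite Q := finite_of_le S hQS
  obtain ⟨c, hc⟩ := (hS.to_le hQS).exists_card_eq
  have hP5 : IsPAut p T h := isPAut_of_trivial_mod hh hQT hhfix hhz hc
  have hP6 : IsPAut p T g := isPAut_of_iterate m hP5
  have hP7 : IsPAut p T f := isPAut_of_iterate k hP6
  obtain ⟨j, hj⟩ := hP7
  refine ⟨j, Subtype.ext ?_⟩
  show β ^ (p ^ j) = 1
  ext x
  rw [aut_pow_apply hf hβf (p ^ j) x, hj x x.2]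
  rfl

/-- `liftB` is normalized by `Aut_D(T)`. -/
theorem liftB_normal (hDF : ∀ P : Subgroup Ω, D.Hom P ⊆ F.Hom P) (hmor : F.IsMorphism F' θ)
    {V' : Subgroup Ω'} (hV' : F'.IsNormal V') {T : Subgroup Ω} (hTS : T ≤ S) :
    ∀ α ∈ D.autGroup T, ∀ β ∈ liftB D θ V' T, α * β * α⁻¹ ∈ liftB D θ V' T := by
  rintro α hα β ⟨hβA, y', hy', hβy⟩
  refine ⟨Subgroup.mul_mem _ (Subgroup.mul_mem _ hα hβA) (Subgroup.inv_mem _ hα), ?_⟩
  have ha := isIso_mono hDF (isIso_of_mem_autGroup D hTS hα)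
  set a := ext1 (T.subtype.comp α.toMonoidHom) with hadef
  have hαa : ∀ x : T, ((α x : T) : Ω) = a x := fun x => by
    rw [hadef, ext1_apply]; rfl
  obtain ⟨a', ha', ha'a⟩ := push_iso hmor ha
  obtain ⟨â, hâ, hâa', hâV⟩ := isNormal_exists_ext hV' ha'
  have hmemI : ∀ x ∈ T, al θ x ∈ imageAlong θ T := fun x hx =>
    (mem_image_iff θ T _).2 ⟨x, hx, hTS hx, rfl⟩
  refine ⟨â y', hâV.map_mem hy', fun x => ?_⟩
  show al θ ((α (β (α⁻¹ x)) : T) : Ω) = _
  set z := α⁻¹ x with hz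
  have hzx : α z = x := by simp [hz]
  rw [hαa, ← ha'a _ (β z).2, hβy z]
  have hy'sup : y' ∈ imageAlong θ T ⊔ V' := (le_sup_right : V' ≤ _) hy'
  have hzsup : al θ (z : Ω) ∈ imageAlong θ T ⊔ V' := (le_sup_left : _ ≤ _ ⊔ V') (hmemI _ z.2)
  have hconj_mem : y' * al θ (z : Ω) * y'⁻¹ ∈ imageAlong θ T := by
    rw [← hβy z]
    exact hmemI _ (β z).2
  rw [← hâa' _ hconj_mem, hâ.map_mul (Subgroup.mul_mem _ hy'sup hzsup) (Subgroup.inv_mem _ hy'sup),
    hâ.map_mul hy'sup hzsup, hâ.map_inv hy'sup, hâa' _ (hmemI _ z.2), ha'a _ z.2, ← hαa, hzx]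

/-- **Lifting normal subgroups**: the full preimage of a subgroup normal in the factor system is
normal in a saturated subsystem all of whose maps induce on the kernel `Q` conjugations by
elements of `S`. -/
theorem lift_isNormal (hS : IsPGroup p S) (hD : D.IsSaturated p)
    (hDF : ∀ P : Subgroup Ω, D.Hom P ⊆ F.Hom P) (hQ : F.IsNormal Q)
    (hDres : ∀ (T : Subgroup Ω) (f : Ω → Ω), Q ≤ T → IsIso D T T f →
      ∃ s ∈ S, ∀ q ∈ Q, f q = s * q * s⁻¹)
    (hsm : F.IsSurjectiveMorphism F' θ) (hker : kerSub θ = Q) {V' : Subgroup Ω'}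
    (hV' : F'.IsNormal V') : D.IsNormal (preimageAlong θ V') := by
  have hrange := hsm.2.1
  have hmor := hsm.1
  have hQS := hQ.1
  have hQsc := isNormal_stronglyClosed hQ
  have hQn : S ≤ Subgroup.normalizer (Q : Set Ω) := stronglyClosed_le_normalizer hQsc
  have hV'sc := isNormal_stronglyClosed hV'
  have hVscF : F.StronglyClosed (preimageAlong θ V') := pre_stronglyClosed hmor hV'sc
  have hVsc : D.StronglyClosed (preimageAlong θ V') := stronglyClosed_mono hDF hVscF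
  have hQD : D.IsNormal Q := isNormal_of_le_sys hS hD hDF hQ
  apply isNormal_of_stronglyClosed_of_le hS hD hVsc
  intro T hT
  have hc := hT.1
  have hr := Cfsg.Agent.S5080.result p hS D hD T hT
  have hTS := hc.1
  have hQT : Q ≤ T := isNormal_le_of_centric_radical hS hQD hc hr
  refine le_of_centric_radical_of_normalizer hS hVsc.1 (stronglyClosed_le_normalizer hVsc) hc hr
    (liftB D θ V' T) (fun β hβ => hβ.1) (liftB_normal hDF hmor hV' hTS)
    (liftB_isPGroup hS hQS hQn hDres hrange hker hV'.1 hTS hQT) ?_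
  intro g hgV hgN
  have hgS : g ∈ S := hVsc.1 hgV
  obtain ⟨β, hβA, hβg⟩ := exists_mem_autGroup_of_isIso D
    (isIso_conj_normalizer D hTS (⟨hgS, hgN⟩ : g ∈ normalizerIn S T))
  refine ⟨β, ⟨hβA, al θ g, ((mem_pre_iff θ V' g).1 hgV).2, fun x => ?_⟩, hβg⟩
  rw [hβg, al_conj θ hgS (hTS x.2)]

end main

end Cfsg.Agent.Lib.H26.ZJ
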