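import Mathlib
import Cfsg.Agent.Lib.H26.NormCtl
import Cfsg.Agent.Lib.H26.NilConstrained
import Cfsg.Agent.Lib.H26.ModelStruct
import Cfsg.Agent.S5090

set_option autoImplicit false

/-!
A saturated `Qd(p)`-free fusion system `F` over `S` with a normal centric subgroup: `W(S)` is
normal in `F` for every Glauberman functor `W`, through the model of `F` (helper26).
-/

namespace Cfsg.Agent.Lib.H26.ZJ

open Cfsg Cfsg.FusionSystem Cfsg.Agent.Lib.H25 Cfsg.Agent.Lib.H26 Cfsg.Agent.Lib.H26.Nil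
  Cfsg.Agent.Lib.H26.Model

universe u

variable {Ω : Type u} [Group Ω] {S : Subgroup Ω}

/-- The preimage of a normal subgroup of `G` contained in the image of `S` is normal in a system
realized by `G`. -/
theorem preSub_isNormal_of_normal [Finite S] {G : Type u} [Group G] {F : FusionSystem S}
    {ι : S →* G}
    (hreal : F.IsRealizedBy ι) {U : Subgroup G} (hUn : U.Normal) (hUT : U ≤ ι.range) :
    F.IsNormal (preSub ι U) := by
  have hinj := hreal.1
  refine ⟨preSub_le _ _, fun P φ hφ => ?_⟩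
  have hPS : P ≤ S := hom_le F hφ
  have hφS : ∀ x, φ x ∈ S := fun x => hom_mem_S F hφ x
  obtain ⟨g, hg⟩ := (hreal.2 P hPS φ hφS).1 hφ
  have hsupS : P ⊔ preSub ι U ≤ S := sup_le hPS (preSub_le _ _)
  have hsupK : P ⊔ preSub ι U ≤ conjInSub ι g := by
    apply sup_le
    · intro x hx
      exact mem_conjInSub.2 ⟨hPS hx, ⟨⟨φ ⟨x, hx⟩, hφS _⟩, hg ⟨x, hx⟩⟩⟩
    · intro x hx
      obtain ⟨hxS, hxU⟩ := mem_preSub.1 hx
      exact mem_conjInSub.2 ⟨hxS, hUT (hUn.conj_mem _ hxU g)⟩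
  have hmem : ∀ x : ↥(P ⊔ preSub ι U), g * ι ⟨x, hsupS x.2⟩ * g⁻¹ ∈ ι.range :=
    fun x => (mem_conjInSub.1 (hsupK x.2)).2
  obtain ⟨ψ, hψ⟩ := exists_conjMap hinj g hsupS hmem
  have hψS : ∀ x, ψ x ∈ S := fun x => (hψ x).1
  have hψι : ∀ x, ι ⟨ψ x, hψS x⟩ = g * ι ⟨x, hsupS x.2⟩ * g⁻¹ := fun x => (hψ x).2
  refine ⟨ψ, (hreal.2 _ hsupS ψ hψS).2 ⟨g, hψι⟩, fun x => ?_, ?_⟩
  · have h1 := hψι (Subgroup.inclusion le_sup_left x)
    have h2 := hg x
    have h3 : (⟨ψ (Subgroup.inclusion le_sup_left x), hψS _⟩ : S) = ⟨φ x, hφS x⟩ := by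
      apply hinj
      rw [h1, h2]
      rfl
    exact congrArg Subtype.val h3
  · ext y
    constructor
    · rintro ⟨x, hx, rfl⟩
      have hx' : (x : Ω) ∈ preSub ι U := Subgroup.mem_subgroupOf.1 hx
      obtain ⟨hxS, hxU⟩ := mem_preSub.1 hx'
      refine mem_preSub.2 ⟨hψS x, ?_⟩
      rw [hψι x]
      exact hUn.conj_mem _ hxU g
    · intro hy
      obtain ⟨hyS, hyU⟩ := mem_preSub.1 hy
      have h1 : g⁻¹ * ι ⟨y, hyS⟩ * g⁻¹⁻¹ ∈ U := hUn.conj_mem _ hyU g⁻¹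
      obtain ⟨x, hx⟩ := hUT h1
      have hxU : (x : Ω) ∈ preSub ι U := mem_preSub.2 ⟨x.2, by
        rw [show (⟨(x : Ω), x.2⟩ : S) = x from rfl, hx]; exact h1⟩
      have hxsup : (x : Ω) ∈ P ⊔ preSub ι U := (le_sup_right : _ ≤ P ⊔ _) hxU
      refine ⟨⟨x, hxsup⟩, Subgroup.mem_subgroupOf.2 hxU, ?_⟩
      have h2 := hψι ⟨x, hxsup⟩
      have h3 : (⟨ψ ⟨x, hxsup⟩, hψS _⟩ : S) = ⟨y, hyS⟩ := by
        apply hinj
        rw [h2, show (⟨((⟨(x : Ω), hxsup⟩ : ↥(P ⊔ preSub ι U)) : Ω), hsupS hxsup⟩ : S) = x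
          from rfl, hx]
        group
      exact congrArg Subtype.val h3

/-- the preimage of the image of a subgroup of `S` under an injective map -/
theorem preSub_imgOf {G : Type u} [Group G] {ι : S →* G} (hinj : Function.Injective ι)
    {X : Subgroup Ω} (hXS : X ≤ S) : preSub ι (imgOf ι X) = X := by
  ext x
  rw [mem_preSub]
  constructor
  · rintro ⟨hxS, hx⟩
    obtain ⟨y, hyS, hyX, hy⟩ := mem_imgOf.1 hx
    have : (⟨y, hyS⟩ : S) = ⟨x, hxS⟩ := hinj hy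
    have h2 : y = x := congrArg Subtype.val this
    rwa [← h2]
  · intro hx
    exact ⟨hXS hx, mem_imgOf.2 ⟨x, hXS hx, hx, rfl⟩⟩

/-- A model of `F` gives a model of any system over a subgroup `T = S` with the same maps. -/
theorem exists_model_cast {G : Type u} [Group G] {p : ℕ} {F : FusionSystem S} {ι : S →* G}
    (hM : F.IsModel p G ι) :
    ∀ (T : Subgroup Ω) (_ : T = S) (N : FusionSystem T), (∀ P : Subgroup Ω, N.Hom P = F.Hom P) →
      ∃ ι' : T →* G, N.IsModel p G ι' := by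
  rintro T rfl N hN
  obtain ⟨hfinG, hreal, hSyl, hCU⟩ := hM
  exact ⟨ι, hfinG, ⟨hreal.1, fun P hP φ hφ => by rw [hN P]; exact hreal.2 P hP φ hφ⟩, hSyl, hCU⟩

variable {p : ℕ} [Fact p.Prime] (W : PFun.{u} p)

/-- **Lemma M**: in a saturated `Qd(p)`-free system with a normal centric subgroup, `W(S)` is
normal, for any Glauberman functor `W`. -/
theorem isNormal_of_normal_centric
    (hW3 : ∀ (L : Type u) [Group L] [Finite L] (P : Sylow p L),
      Subgroup.centralizer ((pCore p L : Subgroup L) : Set L) ≤ pCore p L →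
      ¬ Involves ↥(qd p) L → (W.W (P : Subgroup L)).Normal)
    [Finite S] (hS : IsPGroup p S) {F : FusionSystem S} (hF : F.IsSaturated p)
    (hfree : F.IsSectionFree p ↥(qd p)) {Q : Subgroup Ω} (hQ : F.IsNormal Q)
    (hC : centralizerIn S Q ≤ Q) : F.IsNormal (W.W S) := by
  have hQS := hQ.1
  have hQc : F.IsCentric Q := isCentric_of_isNormal hQ hC
  have hcon : F.IsConstrained p := ⟨hF, Q, hQ, hQc⟩
  obtain ⟨G, hG, ι, hM⟩ := Cfsg.Agent.S5090.result p hS F hcon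
  have hNSQ : normalizerIn S Q = S := stronglyClosed_normalizerIn_eq (isNormal_stronglyClosed hQ)
  have hQfn : F.IsFullyNormalized Q := isFullyNormalized_of_normalizerIn_eq hQS hNSQ
  have hN : F.IsNormalizerSystem Q (Cfsg.Agent.S5096.normSys F Q hQS) := fun _ => rfl
  obtain ⟨ι', hM'⟩ := exists_model_cast hM _ hNSQ (Cfsg.Agent.S5096.normSys F Q hQS)
    (fun P => (hN P).trans (normalizerHom_eq_of_isNormal hQ P))
  have hninv := hfree Q hQfn hQc _ hN G ι' hM'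
  obtain ⟨hfinG, hreal, ⟨T, hT⟩, hCU⟩ := hM
  have hWn := hW3 G T hCU hninv
  rw [hT] at hWn
  have h1 := preSub_isNormal_of_normal hreal hWn (W.le _)
  rwa [← W.imgOf_eq hS hreal.1, preSub_imgOf hreal.1 (W.le S)] at h1

end Cfsg.Agent.Lib.H26.ZJ
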