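import Mathlib
import Cfsg.Agent.Lib.H26.ModelSylow
import Cfsg.Agent.Lib.H26.NormalizerTransport
import Cfsg.Agent.Lib.H25.Morphism
import Cfsg.Agent.Lib.H25.Alperin

set_option autoImplicit false
set_option linter.unusedSectionVars false
set_option linter.unusedVariables false

/-!
Normalizer systems in a factor system are realized by quotients of realizing groups (helper26).
-/

namespace Cfsg.Agent.Lib.H26.Model

open Cfsg Cfsg.FusionSystem Cfsg.Agent.Lib.H25 Cfsg.Agent.Lib.H26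

universe u v w

variable {Ω : Type u} [Group Ω] {S : Subgroup Ω} {F : FusionSystem S}
  {Ω' : Type v} [Group Ω'] {S' : Subgroup Ω'} {E : FusionSystem S'} {θ : S →* Ω'}

section factor

variable [Finite S] {p : ℕ} [Fact p.Prime] {P' : Subgroup Ω'}
  {N : FusionSystem (normalizerIn S (preimageAlong θ P'))}
  {Nb : FusionSystem (normalizerIn S' P')}
  {L : Type w} [Group L] {ι : ↥(normalizerIn S (preimageAlong θ P')) →* L}

/-- the restriction of `θ` to the normalizer of the preimage of `P'` -/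
noncomputable def thetaT (hrange : θ.range = S') (hP' : P' ≤ S') :
    ↥(normalizerIn S (preimageAlong θ P')) →* ↥(normalizerIn S' P') :=
  MonoidHom.mk' (fun t => ⟨al θ t, by
    have h1 : (t : Ω) ∈ preimageAlong θ (normalizerIn S' P') := by
      rw [← normalizerIn_pre hrange hP']; exact t.2
    exact ((mem_pre_iff θ _ _).1 h1).2⟩)
    (fun a b => Subtype.ext (al_mul θ a.2.1 b.2.1))

theorem thetaT_apply (hrange : θ.range = S') (hP' : P' ≤ S')
    (t : ↥(normalizerIn S (preimageAlong θ P'))) :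
    ((thetaT hrange hP' t : ↥(normalizerIn S' P')) : Ω') = al θ t := rfl

theorem thetaT_surjective (hrange : θ.range = S') (hP' : P' ≤ S') :
    Function.Surjective (thetaT (θ := θ) hrange hP') := by
  intro y
  have hle : normalizerIn S' P' ≤ S' := inf_le_left
  obtain ⟨x, hx, hxy⟩ := exists_al_eq_of_mem hrange hle y.2
  rw [← normalizerIn_pre hrange hP'] at hx
  exact ⟨⟨x, hx⟩, Subtype.ext hxy⟩

theorem thetaT_ker_le (hrange : θ.range = S') (hP' : P' ≤ S') (K : Subgroup L) [K.Normal]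
    (hK : imgOf ι (kerSub θ) ≤ K) :
    (thetaT (θ := θ) hrange hP').ker ≤ ((QuotientGroup.mk' K).comp ι).ker := by
  intro t ht
  rw [MonoidHom.mem_ker] at ht ⊢
  have h1 : al θ (t : Ω) = 1 := congrArg Subtype.val ht
  have h2 : (t : Ω) ∈ kerSub θ := (mem_kerSub_iff θ _).2 ⟨t.2.1, h1⟩
  show (QuotientGroup.mk' K) (ι t) = 1
  exact (QuotientGroup.eq_one_iff _).2 (hK (mem_imgOf.2 ⟨t, t.2, h2, rfl⟩))

/-- the induced map to the quotient group -/
noncomputable def iotaBar (hrange : θ.range = S') (hP' : P' ≤ S')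
    (ι : ↥(normalizerIn S (preimageAlong θ P')) →* L) (K : Subgroup L) [K.Normal]
    (hK : imgOf ι (kerSub θ) ≤ K) : ↥(normalizerIn S' P') →* L ⧸ K :=
  (thetaT (θ := θ) hrange hP').liftOfRightInverse
    (Function.surjInv (thetaT_surjective hrange hP'))
    (Function.rightInverse_surjInv (thetaT_surjective hrange hP'))
    ⟨(QuotientGroup.mk' K).comp ι, thetaT_ker_le hrange hP' K hK⟩

theorem iotaBar_apply (hrange : θ.range = S') (hP' : P' ≤ S') (K : Subgroup L) [K.Normal]
    (hK : imgOf ι (kerSub θ) ≤ K) (t : ↥(normalizerIn S (preimageAlong θ P'))) :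
    iotaBar hrange hP' ι K hK (thetaT hrange hP' t) = QuotientGroup.mk' K (ι t) :=
  MonoidHom.liftOfRightInverse_comp_apply _ _ _ _ t

theorem iotaBar_range (hrange : θ.range = S') (hP' : P' ≤ S') (K : Subgroup L) [K.Normal]
    (hK : imgOf ι (kerSub θ) ≤ K) :
    (iotaBar hrange hP' ι K hK).range = ((QuotientGroup.mk' K).comp ι).range := by
  ext y
  constructor
  · rintro ⟨tb, rfl⟩
    obtain ⟨t, rfl⟩ := thetaT_surjective hrange hP' tb
    exact ⟨t, (iotaBar_apply hrange hP' K hK t).symm⟩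
  · rintro ⟨t, rfl⟩
    exact ⟨thetaT hrange hP' t, iotaBar_apply hrange hP' K hK t⟩

theorem factor_realizedBy (hsm : F.IsSurjectiveMorphism E θ)
    (hKsc : F.StronglyClosed (kerSub θ)) (hP' : P' ≤ S')
    (hN : F.IsNormalizerSystem (preimageAlong θ P') N) (hNb : E.IsNormalizerSystem P' Nb)
    (hreal : N.IsRealizedBy ι) (hPn : (imgOf ι (preimageAlong θ P')).Normal)
    [hKn : (imgOf ι (kerSub θ)).Normal] :
    Nb.IsRealizedBy (iotaBar hsm.2.1 hP' ι (imgOf ι (kerSub θ)) le_rfl) := by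
  have hrange := hsm.2.1
  have hinj := hreal.1
  haveI hfinS' : Finite S' := finite_S' hrange
  haveI hfinT : Finite ↥(normalizerIn S (preimageAlong θ P')) := finite_of_le S inf_le_left
  have hPS : preimageAlong θ P' ≤ S := preimageAlong_le θ P'
  have hPT : preimageAlong θ P' ≤ normalizerIn S (preimageAlong θ P') := le_normalizerIn hPS
  have hP'T' : P' ≤ normalizerIn S' P' := le_normalizerIn hP'
  have hT'S' : normalizerIn S' P' ≤ S' := inf_le_left
  have hTeq : normalizerIn S (preimageAlong θ P') = preimageAlong θ (normalizerIn S' P') :=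
    normalizerIn_pre hrange hP'
  have hKP : kerSub θ ≤ preimageAlong θ P' := kerSub_le_pre θ P'
  -- equality in the quotient
  have hmk : ∀ t₁ t₂ : ↥(normalizerIn S (preimageAlong θ P')),
      QuotientGroup.mk' (imgOf ι (kerSub θ)) (ι t₁) = QuotientGroup.mk' (imgOf ι (kerSub θ)) (ι t₂) →
      ∃ q ∈ kerSub θ, (t₂ : Ω) = t₁ * q := by
    intro t₁ t₂ h
    have h1 : (ι t₁)⁻¹ * ι t₂ ∈ imgOf ι (kerSub θ) := QuotientGroup.eq.1 h
    obtain ⟨q, hqT, hq, hqe⟩ := mem_imgOf.1 h1
    refine ⟨q, hq, ?_⟩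
    have h2 : ι t₂ = ι (t₁ * ⟨q, hqT⟩) := by
      rw [map_mul, hqe]; group
    exact congrArg Subtype.val (hinj h2)
  refine ⟨?_, ?_⟩
  · -- injectivity
    intro a b hab
    obtain ⟨ta, rfl⟩ := thetaT_surjective hrange hP' a
    obtain ⟨tb, rfl⟩ := thetaT_surjective hrange hP' b
    rw [iotaBar_apply, iotaBar_apply] at hab
    obtain ⟨q, hq, hqe⟩ := hmk ta tb hab
    apply Subtype.ext
    show al θ (ta : Ω) = al θ (tb : Ω)
    rw [hqe, al_mul θ ta.2.1 (kerSub_le θ hq), ((mem_kerSub_iff θ q).1 hq).2, mul_one]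
  · intro A hA φb hφb
    have hpreA : preimageAlong θ A ≤ normalizerIn S (preimageAlong θ P') := by
      rw [hTeq]; exact pre_mono θ hA
    have hAS' : A ≤ S' := hA.trans hT'S'
    constructor
    · intro hφN
      rw [hNb A] at hφN
      obtain ⟨-, hvalb, kb, Cb, hkb, hagree, hP1, hP2⟩ := isNHom_iff.1 (isNHom_of_mem hφN)
      obtain ⟨f, hf, hfθ⟩ := lift_iso hsm hKsc hkb
      have hAPT' : A ⊔ P' ≤ normalizerIn S' P' := sup_le hA hP'T'
      have hBT : preimageAlong θ (A ⊔ P') ≤ normalizerIn S (preimageAlong θ P') := by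
        rw [hTeq]; exact pre_mono θ hAPT'
      have hPB : preimageAlong θ P' ≤ preimageAlong θ (A ⊔ P') := pre_mono θ le_sup_right
      have hAB : preimageAlong θ A ≤ preimageAlong θ (A ⊔ P') := pre_mono θ le_sup_left
      -- `f` maps `P` onto `P`
      have hfP : IsIso F (preimageAlong θ P') (preimageAlong θ P') f := by
        obtain ⟨P₂, hP₂le, hfP₂, hP₂mem⟩ := hf.restrict hPB
        have hle : P₂ ≤ preimageAlong θ P' := by
          intro y hy
          obtain ⟨x, hx, rfl⟩ := hfP₂.surjOn hy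
          refine (mem_pre_iff θ P' _).2 ⟨hf.le_right (hf.map_mem (hPB hx)), ?_⟩
          rw [← hfθ x (hPB hx)]
          exact hP1 _ ((mem_pre_iff θ P' x).1 hx).2
        haveI : Finite ↥(preimageAlong θ P') := finite_of_le S hPS
        have : P₂ = preimageAlong θ P' :=
          Subgroup.eq_of_le_of_card_ge hle (le_of_eq hfP₂.card_eq)
        rwa [this] at hfP₂
      -- the image of `kb` lies in `T'`
      have hCb : ∀ z ∈ A ⊔ P', kb z ∈ normalizerIn S' P' := by
        have hle : A ⊔ P' ≤ hkb.pre (normalizerIn S' P') := by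
          apply sup_le
          · intro z hz
            refine ⟨(le_sup_left : A ≤ A ⊔ P') hz, ?_⟩
            rw [hagree z hz]
            exact hvalb z hz
          · intro z hz
            exact ⟨(le_sup_right : P' ≤ A ⊔ P') hz, hP'T' (hP1 z hz)⟩
        intro z hz
        exact (hle hz).2
      have hfval : ∀ x ∈ preimageAlong θ (A ⊔ P'), f x ∈ normalizerIn S (preimageAlong θ P') := by
        intro x hx
        rw [hTeq]
        refine (mem_pre_iff θ _ _).2 ⟨hf.le_right (hf.map_mem hx), ?_⟩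
        rw [← hfθ x hx]
        exact hCb _ ((mem_pre_iff θ _ x).1 hx).2
      have hNH : IsNHom F (preimageAlong θ P') (preimageAlong θ (A ⊔ P')) f := by
        have heq : preimageAlong θ (A ⊔ P') ⊔ preimageAlong θ P' = preimageAlong θ (A ⊔ P') :=
          sup_eq_left.2 hPB
        refine isNHom_iff.2 ⟨hBT, hfval, f, preimageAlong θ Cb, ?_, fun x hx => rfl,
          fun x hx => hfP.map_mem hx, fun y hy => hfP.surjOn hy⟩
        rw [heq]; exact hf
      obtain ⟨φ, hφ, hφf⟩ := hNH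
      rw [← hN] at hφ
      have hφval : ∀ x : ↥(preimageAlong θ (A ⊔ P')), φ x ∈ normalizerIn S (preimageAlong θ P') := by
        intro x
        rw [hφf]; exact hfval x x.2
      obtain ⟨g, hg⟩ := (hreal.2 _ hBT φ hφval).1 hφ
      refine ⟨QuotientGroup.mk' _ g, fun xb => ?_⟩
      obtain ⟨x, hx, hxe⟩ := exists_al_eq_of_mem hrange hAS' xb.2
      have h1 : (⟨φb xb, hφb xb⟩ : ↥(normalizerIn S' P')) =
          thetaT hrange hP' ⟨f x, hfval x (hAB hx)⟩ := by
        apply Subtype.ext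
        show φb xb = al θ (f x)
        rw [← hfθ x (hAB hx), hxe, hagree _ xb.2, ext1_apply]
      have h2 : (⟨(xb : Ω'), hA xb.2⟩ : ↥(normalizerIn S' P')) =
          thetaT hrange hP' ⟨x, hpreA hx⟩ := Subtype.ext hxe.symm
      rw [h1, h2, iotaBar_apply, iotaBar_apply]
      have h3 := hg ⟨x, hAB hx⟩
      have h4 : ι ⟨f x, hfval x (hAB hx)⟩ = ι ⟨φ ⟨x, hAB hx⟩, hφval _⟩ := by
        congr 1
        exact Subtype.ext (hφf ⟨x, hAB hx⟩).symm
      rw [h4, h3, map_mul, map_mul, map_inv]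
    · rintro ⟨gb, hgb⟩
      obtain ⟨g, rfl⟩ := QuotientGroup.mk'_surjective _ gb
      have hBT : preimageAlong θ A ⊔ preimageAlong θ P' ≤ normalizerIn S (preimageAlong θ P') :=
        sup_le hpreA hPT
      -- the key fact
      have KF : ∀ x (hx : x ∈ preimageAlong θ A), ∃ w : ↥(normalizerIn S (preimageAlong θ P')),
          ι w = g * ι ⟨x, hpreA hx⟩ * g⁻¹ ∧
          al θ (w : Ω) = φb ⟨al θ x, ((mem_pre_iff θ A x).1 hx).2⟩ := by
        intro x hx
        have hxA := ((mem_pre_iff θ A x).1 hx).2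
        obtain ⟨y, hy⟩ := thetaT_surjective hrange hP' ⟨φb ⟨al θ x, hxA⟩, hφb _⟩
        have h1 := hgb ⟨al θ x, hxA⟩
        have h2 : (⟨((⟨al θ x, hxA⟩ : A) : Ω'), hA hxA⟩ : ↥(normalizerIn S' P')) =
            thetaT hrange hP' ⟨x, hpreA hx⟩ := rfl
        rw [h2, ← hy, iotaBar_apply, iotaBar_apply] at h1
        have h3 : QuotientGroup.mk' (imgOf ι (kerSub θ)) (ι y) =
            QuotientGroup.mk' (imgOf ι (kerSub θ)) (g * ι ⟨x, hpreA hx⟩ * g⁻¹) := by
          rw [h1, map_mul, map_mul, map_inv]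
        have h4 : (ι y)⁻¹ * (g * ι ⟨x, hpreA hx⟩ * g⁻¹) ∈ imgOf ι (kerSub θ) :=
          QuotientGroup.eq.1 h3
        obtain ⟨q, hqT, hq, hqe⟩ := mem_imgOf.1 h4
        refine ⟨y * ⟨q, hqT⟩, ?_, ?_⟩
        · rw [map_mul, hqe]; group
        · show al θ ((y : Ω) * q) = _
          rw [al_mul θ y.2.1 (kerSub_le θ hq), ((mem_kerSub_iff θ q).1 hq).2, mul_one]
          exact congrArg Subtype.val hy
      have hle : preimageAlong θ A ⊔ preimageAlong θ P' ≤ conjInSub ι g := by
        apply sup_le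
        · intro x hx
          obtain ⟨w, hw, -⟩ := KF x hx
          exact mem_conjInSub.2 ⟨hpreA hx, ⟨w, hw⟩⟩
        · intro x hx
          refine mem_conjInSub.2 ⟨hPT hx, ?_⟩
          apply imgOf_le_range (preimageAlong θ P')
          exact hPn.conj_mem _ (mem_imgOf.2 ⟨x, _, hx, rfl⟩) g
      have hmem' : ∀ x : ↥(preimageAlong θ A ⊔ preimageAlong θ P'),
          g * ι ⟨x, hBT x.2⟩ * g⁻¹ ∈ ι.range := by
        intro x
        obtain ⟨h, h'⟩ := mem_conjInSub.1 (hle x.2)
        exact h'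
      obtain ⟨ψ, hψ⟩ := exists_conjMap hinj g hBT hmem'
      have hψS : ∀ x, ψ x ∈ normalizerIn S (preimageAlong θ P') := fun x => by
        obtain ⟨h, -⟩ := hψ x; exact h
      have hψc : ∀ x, ι ⟨ψ x, hψS x⟩ = g * ι ⟨x, hBT x.2⟩ * g⁻¹ := fun x => by
        obtain ⟨h, h'⟩ := hψ x; exact h'
      have hψN : ψ ∈ N.Hom _ := (hreal.2 _ hBT ψ hψS).2 ⟨g, hψc⟩
      have hψF : ψ ∈ F.Hom (preimageAlong θ A ⊔ preimageAlong θ P') := by
        rw [hN] at hψN; exact hψN.1
      have hk : IsIso F (preimageAlong θ A ⊔ preimageAlong θ P') ψ.range (ext1 ψ) :=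
        isIso_of_mem F hψF
      have hkA : ∀ x (hx : x ∈ preimageAlong θ A),
          al θ (ext1 ψ x) = φb ⟨al θ x, ((mem_pre_iff θ A x).1 hx).2⟩ := by
        intro x hx
        obtain ⟨w, hw, hwθ⟩ := KF x hx
        have hxB : x ∈ preimageAlong θ A ⊔ preimageAlong θ P' :=
          (le_sup_left : preimageAlong θ A ≤ _) hx
        rw [ext1_apply_mem ψ hxB, ← hwθ]
        have h1 : ι ⟨ψ ⟨x, hxB⟩, hψS _⟩ = ι w := by rw [hψc, hw]
        have h2 := hinj h1
        rw [← h2]
      have hkP : IsIso F (preimageAlong θ P') (preimageAlong θ P') (ext1 ψ) := by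
        have hPB : preimageAlong θ P' ≤ preimageAlong θ A ⊔ preimageAlong θ P' := le_sup_right
        refine hk.restrict' hPB (fun y hy => ?_) (fun z hz => ?_)
        · rw [ext1_apply_mem ψ (hPB hy)]
          have h1 : g * ι ⟨y, hBT (hPB hy)⟩ * g⁻¹ ∈ imgOf ι (preimageAlong θ P') :=
            hPn.conj_mem _ (mem_imgOf.2 ⟨y, _, hy, rfl⟩) g
          obtain ⟨v, hvT, hvV, hv⟩ := mem_imgOf.1 h1
          have h2 : ι ⟨v, hvT⟩ = ι ⟨ψ ⟨y, hPB hy⟩, hψS _⟩ := by rw [hψc]; exact hv
          have h3 : v = ψ ⟨y, hPB hy⟩ := congrArg Subtype.val (hinj h2)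
          rw [← h3]; exact hvV
        · have h1 : g⁻¹ * ι ⟨z, hPT hz⟩ * g ∈ imgOf ι (preimageAlong θ P') := by
            have := hPn.conj_mem _ (mem_imgOf.2 ⟨z, hPT hz, hz, rfl⟩) g⁻¹
            rwa [inv_inv] at this
          obtain ⟨v, hvT, hvV, hv⟩ := mem_imgOf.1 h1
          refine ⟨v, hvV, ?_⟩
          rw [ext1_apply_mem ψ (hPB hvV)]
          have h2 : ι ⟨ψ ⟨v, hPB hvV⟩, hψS _⟩ = ι ⟨z, hPT hz⟩ := by
            rw [hψc]
            have : ι ⟨v, hBT (hPB hvV)⟩ = ι ⟨v, hvT⟩ := rfl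
            rw [this, hv]
            group
          exact congrArg Subtype.val (hinj h2)
      obtain ⟨kb, hkb, hkbθ⟩ := push_iso hsm.1 hk
      have himage : imageAlong θ (preimageAlong θ A ⊔ preimageAlong θ P') = A ⊔ P' := by
        apply le_antisymm
        · intro y hy
          obtain ⟨x, hx, hxS, rfl⟩ := (mem_image_iff θ _ y).1 hy
          have hle2 : preimageAlong θ A ⊔ preimageAlong θ P' ≤ preimageAlong θ (A ⊔ P') :=
            sup_le (pre_mono θ le_sup_left) (pre_mono θ le_sup_right)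
          exact ((mem_pre_iff θ _ x).1 (hle2 hx)).2
        · apply sup_le
          · intro y hy
            obtain ⟨x, hx, rfl⟩ := exists_al_eq_of_mem hrange hAS' hy
            exact (mem_image_iff θ _ _).2 ⟨x, (le_sup_left : preimageAlong θ A ≤ _) hx,
              ((mem_pre_iff θ A x).1 hx).1, rfl⟩
          · intro y hy
            obtain ⟨x, hx, rfl⟩ := exists_al_eq_of_mem hrange hP' hy
            exact (mem_image_iff θ _ _).2 ⟨x, (le_sup_right : preimageAlong θ P' ≤ _) hx,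
              ((mem_pre_iff θ P' x).1 hx).1, rfl⟩
      rw [himage] at hkb
      have hkbA : ∀ xb : A, kb xb = φb xb := by
        intro xb
        obtain ⟨x, hx, hxe⟩ := exists_al_eq_of_mem hrange hAS' xb.2
        rw [← hxe, hkbθ x ((le_sup_left : preimageAlong θ A ≤ _) hx), hkA x hx]
        congr 1
        exact Subtype.ext hxe
      rw [hNb A]
      refine mem_of_isNHom (isNHom_iff.2 ⟨hA, fun xb hxb => ?_, kb, _, hkb, fun x hx => rfl,
        fun xb hxb => ?_, fun yb hyb => ?_⟩) (fun xb => (hkbA xb).symm)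
      · rw [hkbA ⟨xb, hxb⟩]; exact hφb _
      · obtain ⟨x, hx, rfl⟩ := exists_al_eq_of_mem hrange hP' hxb
        rw [hkbθ x ((le_sup_right : preimageAlong θ P' ≤ _) hx)]
        exact ((mem_pre_iff θ P' _).1 (hkP.map_mem hx)).2
      · obtain ⟨y, hy, rfl⟩ := exists_al_eq_of_mem hrange hP' hyb
        obtain ⟨x, hx, rfl⟩ := hkP.surjOn hy
        exact ⟨al θ x, ((mem_pre_iff θ P' x).1 hx).2,
          hkbθ x ((le_sup_right : preimageAlong θ P' ≤ _) hx)⟩

end factor

end Cfsg.Agent.Lib.H26.Model
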