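import Mathlib
import Cfsg.Agent.Lib.H26.ModelSylow
import Cfsg.Agent.Lib.L0.HallCentral

set_option autoImplicit false
set_option linter.unusedSectionVars false
set_option linter.unusedVariables false

/-!
Reduction of a realizing group to a model (helper26): if `F` is realized by `ι : S → G` with Sylow
image, and `R ≤ S` has normal image in `G` and `C_S(R) ≤ R`, then the quotient of `G` by the normal
`p`-complement of `C_G(ι R)` is a model of `F`.
-/

namespace Cfsg.Agent.Lib.H26.Model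

open Cfsg Cfsg.FusionSystem Cfsg.Agent.Lib.H25 Cfsg.Agent.Lib.H26

universe u w

variable {Ω : Type u} [Group Ω] {S : Subgroup Ω} {F : FusionSystem S}
  {G : Type w} [Group G] {ι : S →* G}

section reduce

variable [Finite S] [Finite G] {p : ℕ} [Fact p.Prime]

theorem exists_reduction_subgroup (hS : IsPGroup p S) (hinj : Function.Injective ι)
    (hsyl : ∃ T : Sylow p G, (T : Subgroup G) = ι.range) {R : Subgroup Ω} (hRS : R ≤ S)
    (hRn : (imgOf ι R).Normal) (hRc : centralizerIn S R ≤ R) :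
    ∃ K : Subgroup G, K.Normal ∧ (Nat.card K).Coprime p ∧
      ∀ g : G, (∀ a ∈ imgOf ι R, g * a * g⁻¹ * a⁻¹ ∈ K) →
        ∃ z ∈ imgOf ι R, ∃ k ∈ K, g = k * z := by
  have hp : p.Prime := Fact.out
  obtain ⟨T, hT⟩ := hsyl
  set A : Subgroup G := imgOf ι R with hA
  haveI : A.Normal := hRn
  set C : Subgroup G := Subgroup.centralizer (A : Set G) with hC
  haveI hCn : C.Normal := Subgroup.normal_centralizer
  have hAp : IsPGroup p A := by
    have h1 : IsPGroup p (R.subgroupOf S) := hS.to_subgroup _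
    exact h1.map ι
  -- `T ∩ C ≤ A`
  have hTC : ∀ x ∈ (T : Subgroup G), x ∈ C → x ∈ A := by
    intro x hxT hxC
    rw [hT] at hxT
    obtain ⟨s, rfl⟩ := hxT
    have hs : (s : Ω) ∈ centralizerIn S R := by
      refine ⟨s.2, ?_⟩
      show (s : Ω) ∈ Subgroup.centralizer (R : Set Ω)
      rw [Subgroup.mem_centralizer_iff]
      intro r hr
      have h1 := Subgroup.mem_centralizer_iff.1 hxC (ι ⟨r, hRS hr⟩)
        (mem_imgOf.2 ⟨r, hRS hr, hr, rfl⟩)
      rw [← map_mul, ← map_mul] at h1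
      exact congrArg Subtype.val (hinj h1)
    exact mem_imgOf.2 ⟨s, s.2, hRc hs, rfl⟩
  -- the Sylow subgroup of `C`
  have hTtop : IsSylowIn p (T : Subgroup G) ⊤ := by
    apply isSylowIn_of_max le_top T.2
    intro Y hTY _ hY
    have := T.is_maximal' hY hTY
    rw [this]
  have hTCs : IsSylowIn p (T : Subgroup G) C :=
    hTtop.of_normal le_top (by rw [Subgroup.normalizer_eq_top_iff.2 hCn])
  obtain ⟨RC, hRC⟩ := hTCs
  have hRCA : ∀ c : C, c ∈ RC → (c : G) ∈ A := by
    intro c hc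
    have h1 : c ∈ (T : Subgroup G).subgroupOf C := hRC ▸ hc
    exact hTC c (Subgroup.mem_subgroupOf.1 h1) c.2
  have hP : Subgroup.normalizer ((RC : Subgroup C) : Set C) ≤
      Subgroup.centralizer ((RC : Subgroup C) : Set C) := by
    intro n _
    rw [Subgroup.mem_centralizer_iff]
    intro c hc
    apply Subtype.ext
    show (c : G) * (n : G) = (n : G) * (c : G)
    exact Subgroup.mem_centralizer_iff.1 n.2 (c : G) (hRCA c hc)
  have hcompl := MonoidHom.ker_transferSylow_isComplement' RC hP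
  set K₀ : Subgroup C := (MonoidHom.transferSylow RC hP).ker with hK₀
  have hcard : Nat.card K₀ = (RC : Subgroup C).index := (hcompl.index_eq_card).symm
  have hidx : K₀.index = Nat.card (RC : Subgroup C) := hcompl.symm.index_eq_card
  have hcopK₀ : (Nat.card K₀).Coprime p := by
    rw [hcard]
    exact ((Nat.Prime.coprime_iff_not_dvd hp).2 RC.not_dvd_index).symm
  have hcop2 : Nat.Coprime (Nat.card K₀) K₀.index := by
    rw [hidx]
    obtain ⟨n, hn⟩ := IsPGroup.iff_card.1 RC.2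
    rw [hn]
    exact Nat.Coprime.pow_right n hcopK₀
  have hKn : (K₀.map C.subtype).Normal := Cfsg.Agent.Lib.L0.normal_map_subtype_of_coprime C K₀ hcop2
  have hKcard : Nat.card (K₀.map C.subtype) = Nat.card K₀ :=
    Subgroup.card_map_of_injective C.subtype_injective
  refine ⟨K₀.map C.subtype, hKn, by rw [hKcard]; exact hcopK₀, ?_⟩
  intro g hg
  -- `A ∩ K = 1`
  have hAK : A ⊓ K₀.map C.subtype = ⊥ := by
    apply Subgroup.inf_eq_bot_of_coprime
    obtain ⟨n, hn⟩ := IsPGroup.iff_card.1 hAp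
    rw [hn, hKcard]
    exact (Nat.Coprime.pow_right n hcopK₀).symm
  have hgC : g ∈ C := by
    rw [hC, Subgroup.mem_centralizer_iff]
    intro a ha
    have h1 : g * a * g⁻¹ * a⁻¹ ∈ A := A.mul_mem (hRn.conj_mem a ha g) (A.inv_mem ha)
    have h2 : g * a * g⁻¹ * a⁻¹ ∈ A ⊓ K₀.map C.subtype := ⟨h1, hg a ha⟩
    rw [hAK, Subgroup.mem_bot] at h2
    have : g * a = (g * a * g⁻¹ * a⁻¹) * (a * g) := by group
    rw [this, h2, one_mul]
  obtain ⟨⟨k, z⟩, hkz, -⟩ := (Subgroup.isComplement'_def.1 hcompl).existsUnique ⟨g, hgC⟩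
  refine ⟨(z : C), hRCA _ z.2, (k : C), ⟨_, k.2, rfl⟩, ?_⟩
  have := congrArg Subtype.val hkz
  exact this.symm

/-- **Reduction to a model.** -/
theorem exists_model_quotient (hS : IsPGroup p S) (hreal : F.IsRealizedBy ι)
    (hsyl : ∃ T : Sylow p G, (T : Subgroup G) = ι.range) {R : Subgroup Ω} (hRS : R ≤ S)
    (hRn : (imgOf ι R).Normal) (hRc : centralizerIn S R ≤ R) :
    ∃ (K : Subgroup G) (_ : K.Normal), F.IsModel p (G ⧸ K) ((QuotientGroup.mk' K).comp ι) := by
  obtain ⟨K, hKn, hKcop, hK⟩ := exists_reduction_subgroup hS hreal.1 hsyl hRS hRn hRc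
  haveI := hKn
  obtain ⟨T, hT⟩ := hsyl
  refine ⟨K, hKn, inferInstance, realizedBy_quotient hS hreal K hKcop, sylow_quotient hS T hT K, ?_⟩
  -- the image of `A`
  have hAp : IsPGroup p (imgOf ι R) := by
    have h1 : IsPGroup p (R.subgroupOf S) := hS.to_subgroup _
    exact h1.map ι
  have hAbar : (imgOf ι R).map (QuotientGroup.mk' K) ≤ pCore p (G ⧸ K) := by
    apply le_pCore
    · haveI := hRn
      exact Subgroup.Normal.map hRn _ (QuotientGroup.mk'_surjective K)
    · exact hAp.map _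
  intro gbar hgbar
  obtain ⟨g, rfl⟩ := QuotientGroup.mk'_surjective K gbar
  have h1 : ∀ a ∈ imgOf ι R, g * a * g⁻¹ * a⁻¹ ∈ K := by
    intro a ha
    have h2 := Subgroup.mem_centralizer_iff.1 hgbar _ (hAbar ⟨a, ha, rfl⟩)
    rw [← QuotientGroup.eq_one_iff]
    have h3 : ((g * a * g⁻¹ * a⁻¹ : G) : G ⧸ K) =
        (QuotientGroup.mk' K g) * (QuotientGroup.mk' K a) * (QuotientGroup.mk' K g)⁻¹ *
          (QuotientGroup.mk' K a)⁻¹ := rfl
    rw [h3, ← h2]
    group
  obtain ⟨z, hz, k, hk, rfl⟩ := hK g h1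
  apply hAbar
  refine ⟨z, hz, ?_⟩
  show (QuotientGroup.mk' K) z = (QuotientGroup.mk' K) (k * z)
  have hk1 : (QuotientGroup.mk' K) k = 1 := (QuotientGroup.eq_one_iff k).2 hk
  rw [map_mul, hk1, one_mul]

end reduce

end Cfsg.Agent.Lib.H26.Model
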