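import Mathlib
import Cfsg.Agent.Lib.H26.ModelFactor
import Cfsg.Agent.Lib.H26.ModelReduce
import Cfsg.Agent.Lib.H26.Involves
import Cfsg.Agent.Lib.H25.NormalizerSystem

set_option autoImplicit false
set_option linter.unusedSectionVars false
set_option linter.unusedVariables false

/-!
Auxiliary lemmas for local models in factor systems (helper26).
-/

namespace Cfsg.Agent.Lib.H26.Model

open Cfsg Cfsg.FusionSystem Cfsg.Agent.Lib.H25 Cfsg.Agent.Lib.H26

universe u v w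

variable {Ω : Type u} [Group Ω] {S : Subgroup Ω} {F : FusionSystem S}
  {Ω' : Type v} [Group Ω'] {S' : Subgroup Ω'} {E : FusionSystem S'} {θ : S →* Ω'}

/-- sections of a quotient are sections -/
theorem involves_of_surjective {H : Type u} [Group H] {G₁ : Type v} [Group G₁] {G₂ : Type w}
    [Group G₂] (ψ : G₁ →* G₂) (hψ : Function.Surjective ψ) (h : Involves H G₂) :
    Involves H G₁ := by
  obtain ⟨K₂, f, hf⟩ := involves_iff.1 h
  refine involves_of_le_range ψ K₂ ?_ f hf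
  intro y _
  exact hψ y

/-- the full preimage of a centric subgroup is centric -/
theorem isCentric_pre [Finite S] (hsm : F.IsSurjectiveMorphism E θ)
    (hK : F.StronglyClosed (kerSub θ)) {P' : Subgroup Ω'} (hP' : E.IsCentric P') :
    F.IsCentric (preimageAlong θ P') := by
  have hrange := hsm.2.1
  have hPS : preimageAlong θ P' ≤ S := preimageAlong_le θ P'
  have hKP : kerSub θ ≤ preimageAlong θ P' := kerSub_le_pre θ P'
  refine ⟨hPS, fun P₁ hP₁ => ?_⟩
  obtain ⟨f, hf⟩ := (isConj_iff F).1 hP₁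
  have hP₁S := hf.le_right
  have hKP₁ : kerSub θ ≤ P₁ := by
    intro k hk
    obtain ⟨x, hx, rfl⟩ := (stronglyClosed_isIso_self hK hf hKP).surjOn hk
    exact hf.map_mem (hKP hx)
  obtain ⟨fb, hfb, -⟩ := push_iso hsm.1 hf
  rw [image_pre hrange hP'.1] at hfb
  have h1 := hP'.2 _ hfb.isConj
  intro c hc
  rw [← pre_image hP₁S hKP₁, mem_pre_iff]
  refine ⟨hc.1, h1 ⟨al_mem_S' hrange hc.1, ?_⟩⟩
  show al θ c ∈ Subgroup.centralizer ((imageAlong θ P₁ : Subgroup Ω') : Set Ω')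
  rw [Subgroup.mem_centralizer_iff]
  intro y hy
  obtain ⟨x, hx, hxS, rfl⟩ := (mem_image_iff θ P₁ y).1 hy
  rw [← al_mul θ hxS hc.1, ← al_mul θ hc.1 hxS, hc.2 x hx]

/-- a subgroup normal in `F` and contained in `P` is normal in `N_F(P)` -/
theorem isNormal_normalizerSystem [Finite S] {Q P : Subgroup Ω} (hQ : F.IsNormal Q) (hQP : Q ≤ P)
    (hPS : P ≤ S) {N : FusionSystem (normalizerIn S P)} (hN : F.IsNormalizerSystem P N) :
    N.IsNormal Q := by
  have hQsc := isNormal_stronglyClosed hQ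
  have hPT : P ≤ normalizerIn S P := le_normalizerIn hPS
  apply isNormal_of_ext (hQP.trans hPT)
  intro A φ hφ
  have hφ' := hφ
  rw [hN A] at hφ'
  obtain ⟨hAT, hval, kb, C, hkb, hagree, hP1, hP2⟩ := isNHom_iff.1 (isNHom_of_mem hφ')
  have hQAP : Q ≤ A ⊔ P := hQP.trans le_sup_right
  have hkbQ : IsIso F Q Q kb := stronglyClosed_isIso_self hQsc hkb hQAP
  have hAQle : A ⊔ Q ≤ A ⊔ P := sup_le le_sup_left hQAP
  obtain ⟨C₂, hC₂C, hkb₂, hC₂mem⟩ := hkb.restrict hAQle
  -- values in `T`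
  have hCT : ∀ z ∈ A ⊔ P, kb z ∈ normalizerIn S P := by
    have hle : A ⊔ P ≤ hkb.pre (normalizerIn S P) := by
      apply sup_le
      · intro z hz
        refine ⟨(le_sup_left : A ≤ A ⊔ P) hz, ?_⟩
        rw [hagree z hz]
        exact hval z hz
      · intro z hz
        exact ⟨(le_sup_right : P ≤ A ⊔ P) hz, hPT (hP1 z hz)⟩
    intro z hz
    exact (hle hz).2
  have hNH : IsNHom F P (A ⊔ Q) kb := by
    have heq : A ⊔ Q ⊔ P = A ⊔ P := by
      rw [sup_assoc, sup_eq_right.2 hQP]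
    refine isNHom_iff.2 ⟨sup_le hAT (hQP.trans hPT), fun x hx => hCT x (hAQle hx), kb, C, ?_,
      fun x hx => rfl, hP1, hP2⟩
    rw [heq]; exact hkb
  obtain ⟨ψ, hψ, hψkb⟩ := hNH
  rw [← hN] at hψ
  refine ⟨kb, ψ.range, ⟨ψ, hψ, hψkb, rfl⟩, fun x => ?_, fun x hx => hkbQ.map_mem hx,
    fun y hy => hkbQ.surjOn hy⟩
  rw [hagree x x.2, ext1_apply]

end Cfsg.Agent.Lib.H26.Model
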