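import Mathlib
import Cfsg.Agent.Lib.H26.ModelNormal
import Cfsg.Agent.Lib.H26.Decompose
import Cfsg.Agent.Lib.H26.LiftNormal
import Cfsg.Agent.S5241

set_option autoImplicit false

/-!
Glauberman's ZJ-theorem for fusion systems, the case of a system with a nontrivial normal
subgroup (helper26).
-/

namespace Cfsg.Agent.Lib.H26.ZJ

open Cfsg Cfsg.FusionSystem Cfsg.Agent.Lib.H25 Cfsg.Agent.Lib.H26 Cfsg.Agent.Lib.H26.Nil
  Cfsg.Agent.Lib.H26.Model

universe u

variable {p : ℕ} [Fact p.Prime] (W : PFun.{u} p)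

/-- The inductive statement: `W(S)` is normal in every saturated `Qd(p)`-free system over a group
`S` of order `n`. -/
def Main (n : ℕ) : Prop :=
  ∀ {Ω : Type u} [Group Ω] {S : Subgroup Ω} [Finite S], Nat.card S = n → IsPGroup p S →
    ∀ F : FusionSystem S, F.IsSaturated p → F.IsSectionFree p ↥(qd p) → F.IsNormal (W.W S)

variable {Ω : Type u} [Group Ω] {S : Subgroup Ω}

/-- a nontrivial subgroup has more than one element -/
theorem one_lt_card_of_ne_bot {Q : Subgroup Ω} [Finite Q] (hQ : Q ≠ ⊥) : 1 < Nat.card Q := by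
  rw [Subgroup.one_lt_card_iff_ne_bot]
  exact hQ

/-- **Case B**: a saturated `Qd(p)`-free system with a nontrivial normal subgroup. -/
theorem caseB
    (hW3 : ∀ (L : Type u) [Group L] [Finite L] (P : Sylow p L),
      Subgroup.centralizer ((pCore p L : Subgroup L) : Set L) ≤ pCore p L →
      ¬ Involves ↥(qd p) L → (W.W (P : Subgroup L)).Normal)
    {n : ℕ} (ih : ∀ m < n, Main W m) [Finite S] (hcard : Nat.card S = n) (hS : IsPGroup p S) :
    ∀ k : ℕ, ∀ (F : FusionSystem S) (Q : Subgroup Ω), F.IsSaturated p →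
      F.IsSectionFree p ↥(qd p) → F.IsNormal Q → Q ≠ ⊥ → Nat.card S - Nat.card Q = k →
      F.IsNormal (W.W S) := by
  intro k
  induction k using Nat.strong_induction_on with
  | _ k IH =>
    intro F Q hF hfree hQ hQne hk
    by_cases hC : centralizerIn S Q ≤ Q
    · exact isNormal_of_normal_centric W hW3 hS hF hfree hQ hC
    have hQS := hQ.1
    have hQsc := isNormal_stronglyClosed hQ
    have hQn : S ≤ Subgroup.normalizer (Q : Set Ω) := stronglyClosed_le_normalizer hQsc
    have hfinQ : Finite Q := finite_of_le S hQS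
    -- the receptacle `E = N_F(W(S))`
    have hW₀S : W.W S ≤ S := W.le S
    have hW₀N : normalizerIn S (W.W S) = S := W.normalizerIn_self S hS
    have hW₀fn : F.IsFullyNormalized (W.W S) := isFullyNormalized_of_normalizerIn_eq hW₀S hW₀N
    obtain ⟨E, hE, -, -⟩ := exists_normalizer_on_top hS hF hW₀fn hW₀N
    -- `R = Q C_S(Q)`
    set C := centralizerIn S Q with hCdef
    have hCS : C ≤ S := inf_le_left
    have hCn : S ≤ Subgroup.normalizer (C : Set Ω) := le_normalizer_centralizerIn hQn
    have hRS : Q ⊔ C ≤ S := sup_le hQS hCS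
    have hRn : S ≤ Subgroup.normalizer ((Q ⊔ C : Subgroup Ω) : Set Ω) :=
      le_normalizer_sup hQn hCn
    have hNSR : normalizerIn S (Q ⊔ C) = S := inf_eq_left.2 hRn
    have hRfn : F.IsFullyNormalized (Q ⊔ C) := isFullyNormalized_of_normalizerIn_eq hRS hNSR
    have hQR : Q < Q ⊔ C := by
      refine lt_of_le_of_ne le_sup_left (fun h => hC ?_)
      rw [h]
      exact le_sup_right
    have hcardR : Nat.card Q < Nat.card (Q ⊔ C : Subgroup Ω) := card_lt_of_lt' hRS hQR
    have hcardRS : Nat.card (Q ⊔ C : Subgroup Ω) ≤ Nat.card S := Subgroup.card_le_of_le hRS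
    have hRne : Q ⊔ C ≠ ⊥ := fun h => hQne (le_bot_iff.1 (h ▸ le_sup_left))
    obtain ⟨N₁, hN₁, hN₁sat, hN₁R, hN₁free⟩ :=
      exists_normalizer_on_top_free hS hF hfree hRfn hNSR
    have h1 : N₁.IsNormal (W.W S) :=
      IH (Nat.card S - Nat.card (Q ⊔ C : Subgroup Ω)) (by omega) N₁ (Q ⊔ C) hN₁sat hN₁free hN₁R
        hRne rfl
    -- the quotient
    obtain ⟨Ω', hΩ', S', F', θ, hsm, hker, hfac⟩ := exists_factor hS hF hQsc
    have hrange := hsm.2.1
    have hfinS' : Finite S' := finite_S' hrange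
    have hS'p : IsPGroup p S' := isPGroup_S' hrange hS
    have hF'sat : F'.IsSaturated p := isSaturated_of_surjectiveMorphism hS hF hsm
    have hF'free : F'.IsSectionFree p ↥(qd p) :=
      Cfsg.Agent.S5241.result p hS F hF Q hQ hfree θ F' hfac
    have hcardS' : Nat.card S = Nat.card Q * Nat.card S' := by
      have := card_pre hrange (le_refl S')
      rwa [pre_top hrange, hker] at this
    have hQ1 : 1 < Nat.card Q := one_lt_card_of_ne_bot hQne
    have hS'pos : 0 < Nat.card S' := Nat.card_pos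
    have hS'lt : Nat.card S' < n := by
      rw [← hcard, hcardS']
      nlinarith
    have hV' : F'.IsNormal (W.W S') := ih _ hS'lt rfl hS'p F' hF'sat hF'free
    have hS'ne : S' ≠ ⊥ := by
      intro h
      have h2 : Nat.card S' = 1 := by rw [h]; exact Subgroup.card_bot
      have h3 : Nat.card Q = Nat.card S := by rw [hcardS', h2, mul_one]
      omega
    have hV'ne : W.W S' ≠ ⊥ := W.ne_bot S' hfinS' hS'p hS'ne
    -- `D = S C_F(Q)` and the preimage `V`
    have hDsat := scSys_isSaturated (F := F) hQS hQn hS hF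
    have hDF := scSys_le (F := F) hQS hQn
    have hVD : (scSys F Q hQS hQn).IsNormal (preimageAlong θ (W.W S')) :=
      lift_isNormal hS hDsat hDF hQ (fun T f hQT hf => scSys_res hQS hQn hf hQT) hsm hker hV'
    set V := preimageAlong θ (W.W S') with hVdef
    have hVS : V ≤ S := preimageAlong_le θ _
    have hVsc : F.StronglyClosed V := pre_stronglyClosed hsm.1 (isNormal_stronglyClosed hV')
    have hNSV : normalizerIn S V = S := stronglyClosed_normalizerIn_eq hVsc
    have hVfn : F.IsFullyNormalized V := isFullyNormalized_of_normalizerIn_eq hVS hNSV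
    have hQV : Q < V := by
      have hle : Q ≤ V := by rw [← hker]; exact kerSub_le_pre θ _
      refine lt_of_le_of_ne hle (fun h => hV'ne ?_)
      apply pre_injective hrange hV'.1 bot_le
      show V = kerSub θ
      rw [hker, h]
    have hcardV : Nat.card Q < Nat.card V := card_lt_of_lt' hVS hQV
    have hcardVS : Nat.card V ≤ Nat.card S := Subgroup.card_le_of_le hVS
    have hVne : V ≠ ⊥ := fun h => hQne (le_bot_iff.1 (h ▸ hQV.le))
    obtain ⟨N₂, hN₂, hN₂sat, hN₂V, hN₂free⟩ :=
      exists_normalizer_on_top_free hS hF hfree hVfn hNSV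
    have h2 : N₂.IsNormal (W.W S) :=
      IH (Nat.card S - Nat.card V) (by omega) N₂ V hN₂sat hN₂free hN₂V hVne rfl
    -- all maps of `F` are maps of `E`
    apply isNormal_of_hom_le hW₀S hE
    intro P φ hφ
    have hf : IsIso F P φ.range (ext1 φ) := isIso_of_mem F hφ
    obtain ⟨g, hg, hgf, -⟩ := isNormal_exists_ext hQ hf
    obtain ⟨β, γ, P'', hβ, hβN, hQP'', hγ, hγfix, hgγβ⟩ :=
      decompose hS hF hQ hg (le_sup_right : Q ≤ P ⊔ Q)
    have hβE : IsIso E (P ⊔ Q) P'' β :=
      isIso_normalizer_of_sub hE hW₀N (hom_le_of_normalizer hN₁) h1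
        (isIso_of_isNHom hN₁ hβ hβN)
    have hγD : IsIso (scSys F Q hQS hQn) P'' (φ.range ⊔ Q) γ :=
      isIso_scSys_of_fix hQS hQn hγ hQP'' hγfix
    have hγE : IsIso E P'' (φ.range ⊔ Q) γ :=
      isIso_normalizer_of_sub hE hW₀N (hom_le_of_normalizer hN₂) h2
        (isIso_normalizer_of_sub hN₂ hNSV hDF hVD hγD)
    have hgE : IsIso E (P ⊔ Q) (φ.range ⊔ Q) g :=
      (hβE.trans hγE).congr (fun x hx => (hgγβ x hx).symm)
    obtain ⟨P₁, -, hgP, -⟩ := hgE.restrict (le_sup_left : P ≤ P ⊔ Q)
    exact mem_hom_of_isIso E hgP (fun x => by rw [hgf x x.2, ext1_apply])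

end Cfsg.Agent.Lib.H26.ZJ
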