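import Mathlib
import Cfsg.Agent.Lib.H26.ZJCaseB
import Cfsg.Agent.Lib.H25.AlperinInd

set_option autoImplicit false

/-!
Glauberman's ZJ-theorem for fusion systems: the chain argument (helper26).  For a subgroup `U`
of `S` whose normalizer in `S` is larger than a given bound, every map of `N_F(U)` is a map of
`E = N_F(W(S))`, granted that the maps of `F` with large source are maps of `E`.
-/

namespace Cfsg.Agent.Lib.H26.ZJ

open Cfsg Cfsg.FusionSystem Cfsg.Agent.Lib.H25 Cfsg.Agent.Lib.H26 Cfsg.Agent.Lib.H26.Nil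
  Cfsg.Agent.Lib.H26.Model

universe u

variable {Ω : Type u} [Group Ω] {S : Subgroup Ω}

/-- Isomorphisms of a system whose maps are maps of `F` are isomorphisms of `F`. -/
theorem isIso_of_hom_le {T : Subgroup Ω} {N : FusionSystem T} {F : FusionSystem S}
    (hle : ∀ P : Subgroup Ω, N.Hom P ⊆ F.Hom P) {A B : Subgroup Ω} {f : Ω → Ω}
    (h : IsIso N A B f) : IsIso F A B f := by
  obtain ⟨φ, hφ, h1, h2⟩ := h
  exact ⟨φ, hle A hφ, h1, h2⟩

/-- The maps of `N_F(U)` between subgroups containing `U` are maps of `E`. -/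
def Good (F E : FusionSystem S) (U : Subgroup Ω) : Prop :=
  ∀ (A B : Subgroup Ω) (g : Ω → Ω), U ≤ A → A ≤ normalizerIn S U → IsIso F A B g →
    IsIso F U U g → IsIso E A B g

/-- an isomorphism normalizing `U`, defined on a subgroup of `N_S(U)` containing `U`, is a map of
the normalizer system -/
theorem isNHom_of_normalizes [Finite S] {F : FusionSystem S} {U A B : Subgroup Ω} {g : Ω → Ω}
    (hUA : U ≤ A) (hAT : A ≤ normalizerIn S U) (hg : IsIso F A B g) (hgU : IsIso F U U g) :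
    B ≤ normalizerIn S U ∧ IsNHom F U A g := by
  have hBT : B ≤ normalizerIn S U := by
    intro y hy
    obtain ⟨a, ha, rfl⟩ := hg.surjOn hy
    exact ⟨hg.le_right (hg.map_mem ha),
      Cfsg.Agent.Lib.H26.IsIso.map_mem_normalizer hg hUA hgU ha (hAT ha).2⟩
  refine ⟨hBT, ?_⟩
  rw [isNHom_iff]
  refine ⟨hAT, fun x hx => hBT (hg.map_mem hx), g, B, ?_, fun x _ => rfl,
    fun x hx => hgU.map_mem hx, fun y hy => hgU.surjOn hy⟩
  rw [sup_eq_left.2 hUA]
  exact hg

section chain

variable {p : ℕ} [Fact p.Prime] (W : PFun.{u} p)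
  (hW3 : ∀ (L : Type u) [Group L] [Finite L] (P : Sylow p L),
    Subgroup.centralizer ((pCore p L : Subgroup L) : Set L) ≤ pCore p L →
    ¬ Involves ↥(qd p) L → (W.W (P : Subgroup L)).Normal)

include hW3 in
/-- The fully normalized case. -/
theorem good_of_fn {n : ℕ} (ih : ∀ m < n, Main W m) [Finite S] (hcard : Nat.card S = n)
    (hS : IsPGroup p S) {F E : FusionSystem S} (hF : F.IsSaturated p)
    (hfree : F.IsSectionFree p ↥(qd p))
    (hE : ∀ P : Subgroup Ω, E.Hom P = F.normalizerHom (W.W S) P) {U : Subgroup Ω}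
    (hUfn : F.IsFullyNormalized U) (hUne : U ≠ ⊥)
    (IH₂ : ∀ U₂ : Subgroup Ω, U₂ ≤ S → U₂ ≠ ⊥ →
      Nat.card (normalizerIn S U) < Nat.card (normalizerIn S U₂) → Good F E U₂) :
    Good F E U := by
  have hUS := hUfn.1
  have hW₀N : normalizerIn S (W.W S) = S := W.normalizerIn_self S hS
  intro A B g hUA hAT hg hgU
  obtain ⟨hBT, hNHom⟩ := isNHom_of_normalizes hUA hAT hg hgU
  by_cases hT : normalizerIn S U = S
  · -- `U` is normal in `S`
    obtain ⟨N₁, hN₁, hN₁sat, hN₁U, hN₁free⟩ :=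
      exists_normalizer_on_top_free hS hF hfree hUfn hT
    have h1 : N₁.IsNormal (W.W S) :=
      caseB W hW3 ih hcard hS _ N₁ U hN₁sat hN₁free hN₁U hUne rfl
    exact isIso_normalizer_of_sub hE hW₀N (hom_le_of_normalizer hN₁) h1
      (isIso_of_isNHom hN₁ hg hNHom)
  · -- `N_S(U) < S`
    set T := normalizerIn S U with hTdef
    have hTS : T ≤ S := inf_le_left
    have hfinT : Finite T := finite_of_le S hTS
    have hTp : IsPGroup p T := hS.to_le hTS
    have hUT : U ≤ T := le_normalizerIn hUS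
    have hTne : T ≠ ⊥ := fun h => hUne (le_bot_iff.1 (h ▸ hUT))
    have hTlt : Nat.card T < n := by
      rw [← hcard]
      exact card_lt_of_lt' le_rfl (lt_of_le_of_ne hTS hT)
    have hN : F.IsNormalizerSystem U (Cfsg.Agent.S5096.normSys F U hUS) := fun _ => rfl
    have hNsat := normalizerSystem_isSaturated hS hF hUfn _ hN
    have hNfree := Cfsg.Agent.S5240.result p hS F hF hfree U hUfn _ hN
    have hX : (Cfsg.Agent.S5096.normSys F U hUS).IsNormal (W.W T) :=
      ih _ hTlt rfl hTp _ hNsat hNfree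
    have hXT : W.W T ≤ T := W.le T
    have hXne : W.W T ≠ ⊥ := W.ne_bot T hfinT hTp hTne
    have hTNX : normalizerIn S T ≤ normalizerIn S (W.W T) := W.normalizerIn_le S T hfinT hTp
    have hTNT : T ≤ normalizerIn S T := le_normalizerIn hTS
    have hlt : Nat.card T < Nat.card (normalizerIn S (W.W T)) := by
      obtain ⟨y, hyN, hyT⟩ := exists_mem_normalizerIn_not_mem hS hTS hT
      have h1 : T < normalizerIn S T := lt_of_le_of_ne hTNT (fun h => hyT (h ▸ hyN))
      have hfinNX : Finite (normalizerIn S (W.W T)) := finite_of_le S inf_le_left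
      exact lt_of_lt_of_le (card_lt_of_lt' inf_le_left h1) (Subgroup.card_le_of_le hTNX)
    have hgood := IH₂ (W.W T) (hXT.trans hTS) hXne hlt
    have hgN : IsIso (Cfsg.Agent.S5096.normSys F U hUS) A B g := isIso_of_isNHom hN hg hNHom
    obtain ⟨g', hg', hg'g, hg'X⟩ := isNormal_exists_ext hX hgN
    have hle := hom_le_of_normalizer (F := F) hN
    have hg'F : IsIso F (A ⊔ W.W T) (B ⊔ W.W T) g' := isIso_of_hom_le hle hg'
    have hg'XF : IsIso F (W.W T) (W.W T) g' := isIso_of_hom_le hle hg'X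
    have hsupN : A ⊔ W.W T ≤ normalizerIn S (W.W T) :=
      sup_le ((hAT.trans hTNT).trans hTNX) (le_normalizerIn (hXT.trans hTS))
    have hE' := hgood (A ⊔ W.W T) (B ⊔ W.W T) g' le_sup_right hsupN hg'F hg'XF
    refine (hE'.restrict' le_sup_left (fun x hx => ?_) (fun y hy => ?_)).congr hg'g
    · rw [hg'g x hx]
      exact hg.map_mem hx
    · obtain ⟨x, hx, rfl⟩ := hg.surjOn hy
      exact ⟨x, hx, hg'g x hx⟩

/-- Transport along a map of `E` defined on `N_S(U)`. -/
theorem good_transport [Finite S] {F E : FusionSystem S}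
    (hEF : ∀ P : Subgroup Ω, E.Hom P ⊆ F.Hom P) {U U' X : Subgroup Ω} {χ : Ω → Ω}
    (hUS : U ≤ S) (hχE : IsIso E (normalizerIn S U) X χ) (hχU : IsIso F U U' χ)
    (hgood : Good F E U') : Good F E U := by
  intro A B g hUA hAT hg hgU
  obtain ⟨hBT, -⟩ := isNHom_of_normalizes hUA hAT hg hgU
  have hχ : IsIso F (normalizerIn S U) X χ := isIso_mono hEF hχE
  have hUT : U ≤ normalizerIn S U := le_normalizerIn hUS
  obtain ⟨A', -, hχAE, -⟩ := hχE.restrict hAT
  obtain ⟨B', -, hχBE, -⟩ := hχE.restrict hBT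
  have hχA : IsIso F A A' χ := isIso_mono hEF hχAE
  have hχB : IsIso F B B' χ := isIso_mono hEF hχBE
  obtain ⟨a', ha', ha'χ, hχa'⟩ := hχA.symm
  obtain ⟨b', hb'E, hb'χ, hχb'⟩ := hχBE.symm
  -- the transported map
  have hg' : IsIso F A' B' (χ ∘ (g ∘ a')) := (ha'.trans hg).trans hχB
  have hU'A' : U' ≤ A' := by
    intro y hy
    obtain ⟨u, hu, rfl⟩ := hχU.surjOn hy
    exact hχA.map_mem (hUA hu)
  have hA'N : A' ≤ normalizerIn S U' := by
    intro y hy
    obtain ⟨a, ha, rfl⟩ := hχA.surjOn hy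
    exact ⟨hχA.le_right (hχA.map_mem ha),
      Cfsg.Agent.Lib.H26.IsIso.map_mem_normalizer hχ hUT hχU (hAT ha) (hAT ha).2⟩
  have hg'U : IsIso F U' U' (χ ∘ (g ∘ a')) := by
    refine hg'.restrict' hU'A' (fun x hx => ?_) (fun y hy => ?_)
    · obtain ⟨u, hu, rfl⟩ := hχU.surjOn hx
      show χ (g (a' (χ u))) ∈ U'
      rw [ha'χ u (hUA hu)]
      exact hχU.map_mem (hgU.map_mem hu)
    · obtain ⟨u₁, hu₁, rfl⟩ := hχU.surjOn hy
      obtain ⟨u₀, hu₀, rfl⟩ := hgU.surjOn hu₁
      refine ⟨χ u₀, hχU.map_mem hu₀, ?_⟩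
      show χ (g (a' (χ u₀))) = χ (g u₀)
      rw [ha'χ u₀ (hUA hu₀)]
  have hg'E := hgood A' B' _ hU'A' hA'N hg' hg'U
  refine ((hχAE.trans hg'E).trans hb'E).congr (fun x hx => ?_)
  show b' (χ (g (a' (χ x)))) = g x
  rw [ha'χ x hx, hb'χ _ (hg.map_mem hx)]

include hW3 in
/-- The chain: every nontrivial subgroup with large normalizer is good. -/
theorem good_all {n : ℕ} (ih : ∀ m < n, Main W m) [Finite S] (hcard : Nat.card S = n)
    (hS : IsPGroup p S) {F E : FusionSystem S} (hF : F.IsSaturated p)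
    (hfree : F.IsSectionFree p ↥(qd p))
    (hE : ∀ P : Subgroup Ω, E.Hom P = F.normalizerHom (W.W S) P) {c : ℕ}
    (IHA : ∀ (A B : Subgroup Ω) (f : Ω → Ω), c < Nat.card A → IsIso F A B f → IsIso E A B f) :
    ∀ d : ℕ, ∀ U : Subgroup Ω, U ≤ S → U ≠ ⊥ → c < Nat.card (normalizerIn S U) →
      Nat.card S - Nat.card (normalizerIn S U) = d → Good F E U := by
  intro d
  induction d using Nat.strong_induction_on with
  | _ d IH =>
    intro U hUS hUne hc hd
    obtain ⟨U', X, χ, hU'fn, hχ, hχU⟩ := exists_fn_map hS hF hUS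
    have hU'S := hU'fn.1
    have hfinU : Finite U := finite_of_le S hUS
    have hfinU' : Finite U' := finite_of_le S hU'S
    have hU'ne : U' ≠ ⊥ := by
      have h1 : 1 < Nat.card U := one_lt_card_of_ne_bot hUne
      rw [hχU.card_eq] at h1
      intro h
      rw [h, Subgroup.card_bot] at h1
      exact lt_irrefl _ h1
    have hle : Nat.card (normalizerIn S U) ≤ Nat.card (normalizerIn S U') :=
      hU'fn.2 U (isConj_symm F hχU.isConj)
    have hleS : ∀ U₂ : Subgroup Ω, Nat.card (normalizerIn S U₂) ≤ Nat.card S := fun U₂ =>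
      Subgroup.card_le_of_le inf_le_left
    have hgood' : Good F E U' := by
      apply good_of_fn W hW3 ih hcard hS hF hfree hE hU'fn hU'ne
      intro U₂ hU₂S hU₂ne hlt
      have := hleS U₂
      exact IH (Nat.card S - Nat.card (normalizerIn S U₂)) (by omega) U₂ hU₂S hU₂ne (by omega) rfl
    exact good_transport (hom_le_of_normalizer hE) hUS (IHA _ _ _ hc hχ) hχU hgood'

end chain

end Cfsg.Agent.Lib.H26.ZJ
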