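import Mathlib
import Cfsg.Agent.Lib.H26.ZJChain

set_option autoImplicit false

/-!
Glauberman's ZJ-theorem for fusion systems, functor form (helper26): for a Glauberman functor
`W` and a saturated `Qd(p)`-free fusion system `F` over `S`, the subgroup `W(S)` is normal in `F`.
-/

namespace Cfsg.Agent.Lib.H26.ZJ

open Cfsg Cfsg.FusionSystem Cfsg.Agent.Lib.H25 Cfsg.Agent.Lib.H26 Cfsg.Agent.Lib.H26.Nil
  Cfsg.Agent.Lib.H26.Model

universe u

variable {Ω : Type u} [Group Ω] {S : Subgroup Ω}

section main

variable {p : ℕ} [Fact p.Prime] (W : PFun.{u} p)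

/-- Every automorphism of `S` leaves `W(S)` invariant. -/
theorem aut_mem_W [Finite S] (hS : IsPGroup p S) (α : MulAut S) (x : S)
    (hx : (x : Ω) ∈ W.W S) : ((α x : S) : Ω) ∈ W.W S := by
  have h1 := W.eq_map_top S hS
  have h2 := W.map α.toMonoidHom (⊤ : Subgroup S) inferInstance (PFun.top_isPGroup hS)
    (α.injective.injOn)
  have h3 : (⊤ : Subgroup S).map α.toMonoidHom = ⊤ := by
    rw [← MonoidHom.range_eq_map]
    exact MonoidHom.range_eq_top.2 α.surjective
  rw [h3] at h2
  rw [h1] at hx ⊢
  obtain ⟨y, hy, hyx⟩ := hx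
  have hyx' : y = x := Subtype.ext hyx
  subst hyx'
  refine ⟨α y, ?_, rfl⟩
  rw [h2]
  exact ⟨y, hy, rfl⟩

variable (hW3 : ∀ (L : Type u) [Group L] [Finite L] (P : Sylow p L),
    Subgroup.centralizer ((pCore p L : Subgroup L) : Set L) ≤ pCore p L →
    ¬ Involves ↥(qd p) L → (W.W (P : Subgroup L)).Normal)

include hW3 in
/-- **Glauberman's ZJ-theorem for fusion systems**, functor form. -/
theorem main_all : ∀ n : ℕ, Main W n := by
  intro n
  induction n using Nat.strong_induction_on with
  | _ n ih =>
    intro Ω _ S _ hcard hS F hF hfree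
    have hW₀S : W.W S ≤ S := W.le S
    have hW₀N : normalizerIn S (W.W S) = S := W.normalizerIn_self S hS
    have hW₀fn : F.IsFullyNormalized (W.W S) := isFullyNormalized_of_normalizerIn_eq hW₀S hW₀N
    obtain ⟨E, hE, -, -⟩ := exists_normalizer_on_top hS hF hW₀fn hW₀N
    apply isNormal_of_hom_le hW₀S hE
    apply alperin_ind hS F hF E
    intro P hP IHhom
    have hPS : P ≤ S := le_of_eq_or_essential hP
    have IHA : ∀ (A B : Subgroup Ω) (f : Ω → Ω), Nat.card P < Nat.card A → IsIso F A B f →
        IsIso E A B f := by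
      intro A B f hlt hf
      have hAS := hf.le_left
      obtain ⟨φ, hφ, h1, h2⟩ := hf
      exact ⟨φ, IHhom A hAS hlt hφ, h1, h2⟩
    by_cases hPeq : P = S
    · -- automorphisms of `S`
      subst hPeq
      intro α hα
      rw [mem_autGroup_iff E le_rfl, hE, Cfsg.Agent.S5096.mem_normalizerHom_iff]
      refine ⟨(mem_autGroup_iff F le_rfl α).1 hα, by rw [hW₀N], fun x => ?_,
        ext1 (P.subtype.comp α.toMonoidHom), P, ?_, fun x => ext1_apply _ x, fun x hx => ?_,
        fun y hy => ?_⟩
      · rw [hW₀N]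
        exact (α x).2
      · rw [sup_eq_left.2 hW₀S]
        exact isIso_of_mem_autGroup F le_rfl hα
      · rw [ext1_apply_mem _ (hW₀S hx)]
        exact aut_mem_W W hS α ⟨x, hW₀S hx⟩ hx
      · have h1 := aut_mem_W W hS α⁻¹ ⟨y, hW₀S hy⟩ hy
        refine ⟨((α⁻¹ ⟨y, hW₀S hy⟩ : P) : Ω), h1, ?_⟩
        rw [ext1_apply]
        show ((α (α⁻¹ ⟨y, hW₀S hy⟩) : P) : Ω) = y
        simp
    · -- essential subgroups
      have hess : F.IsEssential p P := by
        rcases hP with h | h
        · exact absurd h hPeq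
        · exact h
      have hc := hess.1
      have hfn := hess.2.1
      have hPne : P ≠ ⊥ := by
        intro h
        apply hPeq
        apply le_antisymm hPS
        have h1 := hc.2 P (isConj_refl F hPS)
        intro s hs
        apply h1
        refine ⟨hs, ?_⟩
        show s ∈ Subgroup.centralizer (P : Set Ω)
        rw [Subgroup.mem_centralizer_iff]
        intro y hy
        have hy' : y ∈ P := hy
        rw [h, Subgroup.mem_bot] at hy'
        rw [hy']
        simp
      have hPN : P ≤ normalizerIn S P := le_normalizerIn hPS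
      have hlt : Nat.card P < Nat.card (normalizerIn S P) := by
        obtain ⟨y, hyN, hyP⟩ := exists_mem_normalizerIn_not_mem hS hPS hPeq
        exact card_lt_of_lt' inf_le_left (lt_of_le_of_ne hPN (fun h => hyP (h ▸ hyN)))
      have hgood : Good F E P :=
        good_all W hW3 ih hcard hS hF hfree hE IHA _ P hPS hPne hlt rfl
      intro α hα
      have hf := isIso_of_mem_autGroup F hPS hα
      have hfE := hgood P P _ le_rfl hPN hf hf
      rw [mem_autGroup_iff E hPS]
      exact mem_hom_of_isIso E hfE (fun x => (ext1_apply _ x).symm)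

end main

end Cfsg.Agent.Lib.H26.ZJ
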