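import Mathlib
import Cfsg.Agent.Lib.H26.ZJMain

set_option autoImplicit false

/-!
Control of fusion by a Glauberman functor, basic tools (helper26): a size for fusion systems
over a fixed finite group (to argue by induction on subsystems), the subsystem of the maps fixing
a central subgroup elementwise, and the chain argument in a generic form.
-/

namespace Cfsg.Agent.Lib.H26.Ctl

open Cfsg Cfsg.FusionSystem Cfsg.Agent.Lib.H25 Cfsg.Agent.Lib.H26 Cfsg.Agent.Lib.H26.Nil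
  Cfsg.Agent.Lib.H26.Model Cfsg.Agent.Lib.H26.ZJ

universe u

variable {Ω : Type u} [Group Ω] {S : Subgroup Ω}

/-! ### The size of a fusion system -/

/-- Codes of the maps of a fusion system in a type that is finite when `S` is. -/
def homCode (F : FusionSystem S) : Set (Subgroup S × (S → S)) :=
  {q | ∃ (P : Subgroup Ω) (φ : P →* Ω), φ ∈ F.Hom P ∧ P = q.1.map S.subtype ∧
      ∀ x : S, (∀ hx : (x : Ω) ∈ P, φ ⟨x, hx⟩ = q.2 x) ∧ ((x : Ω) ∉ P → q.2 x = 1)}

/-- The number of maps of a fusion system. -/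
noncomputable def msize (F : FusionSystem S) : ℕ := (homCode F).ncard

theorem homCode_mono {E F : FusionSystem S} (h : ∀ P : Subgroup Ω, E.Hom P ⊆ F.Hom P) :
    homCode E ⊆ homCode F := by
  rintro q ⟨P, φ, hφ, hP, hq⟩
  exact ⟨P, φ, h P hφ, hP, hq⟩

theorem msize_le [Finite S] {E F : FusionSystem S} (h : ∀ P : Subgroup Ω, E.Hom P ⊆ F.Hom P) :
    msize E ≤ msize F :=
  Set.ncard_le_ncard (homCode_mono h) (Set.toFinite _)

theorem msize_lt [Finite S] {E F : FusionSystem S} (h : ∀ P : Subgroup Ω, E.Hom P ⊆ F.Hom P)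
    {P₀ : Subgroup Ω} {φ₀ : P₀ →* Ω} (h1 : φ₀ ∈ F.Hom P₀) (h2 : φ₀ ∉ E.Hom P₀) :
    msize E < msize F := by
  classical
  apply Set.ncard_lt_ncard _ (Set.toFinite _)
  refine ⟨homCode_mono h, fun hsub => h2 ?_⟩
  have hP₀S : P₀ ≤ S := hom_le F h1
  have hφS : ∀ x : P₀, φ₀ x ∈ S := fun x => hom_mem_S F h1 x
  have hmap : P₀ = (P₀.subgroupOf S).map S.subtype := (Subgroup.map_subgroupOf_eq_of_le hP₀S).symm
  let q₀ : Subgroup S × (S → S) := (P₀.subgroupOf S,
    fun x => if hx : (x : Ω) ∈ P₀ then ⟨φ₀ ⟨x, hx⟩, hφS _⟩ else 1)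
  have hq₀ : q₀ ∈ homCode F := by
    refine ⟨P₀, φ₀, h1, hmap, fun x => ⟨fun hx => ?_, fun hx => ?_⟩⟩
    · show φ₀ ⟨x, hx⟩ = ((if hx : (x : Ω) ∈ P₀ then (⟨φ₀ ⟨x, hx⟩, hφS _⟩ : S) else 1 : S) : Ω)
      rw [dif_pos hx]
    · show (if hx : (x : Ω) ∈ P₀ then (⟨φ₀ ⟨x, hx⟩, hφS _⟩ : S) else 1 : S) = 1
      rw [dif_neg hx]
  obtain ⟨P, φ, hφ, hP, hq⟩ := hsub hq₀
  have hPP : P = P₀ := hP.trans hmap.symm
  subst hPP
  have : φ = φ₀ := by
    ext x
    have h3 := (hq ⟨x, hP₀S x.2⟩).1 x.2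
    rw [show (⟨((⟨(x : Ω), hP₀S x.2⟩ : S) : Ω), x.2⟩ : P) = x from rfl] at h3
    rw [h3]
    show ((if hx : (x : Ω) ∈ P then (⟨φ₀ ⟨x, hx⟩, hφS _⟩ : S) else 1 : S) : Ω) = φ₀ x
    rw [dif_pos x.2]
  rw [← this]
  exact hφ

/-! ### The subsystem of the maps fixing a central subgroup -/

/-- All isomorphisms of the system fix the elements of `Z` in their source. -/
def FixZ {T : Subgroup Ω} (F : FusionSystem T) (Z : Subgroup Ω) : Prop :=
  ∀ (A B : Subgroup Ω) (f : Ω → Ω), IsIso F A B f → ∀ x ∈ A, x ∈ Z → f x = x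

theorem FixZ.mono {T T' : Subgroup Ω} {F : FusionSystem T} {D : FusionSystem T'}
    {Z : Subgroup Ω} (h : FixZ F Z) (hDF : ∀ P : Subgroup Ω, D.Hom P ⊆ F.Hom P) : FixZ D Z :=
  fun A B f hf x hx hxZ => h A B f (isIso_of_hom_le hDF hf) x hx hxZ

/-- The subsystem of `F` of the maps fixing the central subgroup `Z` of `S` elementwise. -/
def fixSys (F : FusionSystem S) (Z : Subgroup Ω)
    (hZ : Z ≤ S ⊓ Subgroup.centralizer (S : Set Ω)) : FusionSystem S :=
  subSys F (fun P φ => ∀ x : P, ((x : Ω) ∈ Z ↔ φ x ∈ Z) ∧ ((x : Ω) ∈ Z → φ x = x))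
    (by
      intro P g hP hg x
      have hcomm : ∀ y ∈ Z, g * y * g⁻¹ = y := by
        intro y hy
        have h1 : y ∈ Subgroup.centralizer (S : Set Ω) := (hZ hy).2
        rw [Subgroup.mem_centralizer_iff] at h1
        have h2 := h1 g hg
        rw [h2, mul_inv_cancel_right]
      rw [conjHom_apply]
      refine ⟨⟨fun hx => ?_, fun hx => ?_⟩, fun hx => hcomm _ hx⟩
      · rw [hcomm _ hx]; exact hx
      · have h3 := hcomm _ hx
        have h4 : (x : Ω) = g * (x : Ω) * g⁻¹ := by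
          have : g * (g * (x : Ω) * g⁻¹) * g⁻¹ = g * (x : Ω) * g⁻¹ := h3
          have h5 : g * (x : Ω) * g⁻¹ = x := by
            have := congrArg (fun t => g⁻¹ * t * g) this
            simpa [mul_assoc] using this
          exact h5.symm
        rw [h4]; exact hx)
    (by
      intro P Q φ ψ hPQ _ _ hφ hψ x
      have h1 := hφ x
      have h2 := hψ ⟨φ x, hPQ x⟩
      refine ⟨h1.1.trans h2.1, fun hx => ?_⟩
      have h3 : φ x = x := h1.2 hx
      have h4 : ψ ⟨φ x, hPQ x⟩ = φ x := h2.2 (h1.1.1 hx)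
      show ψ ⟨φ x, hPQ x⟩ = x
      rw [h4, h3])
    (by
      rintro P φ ψ _ _ hψφ hφ ⟨_, x, rfl⟩
      have h1 := hφ x
      rw [hψφ x]
      refine ⟨h1.1.symm, fun hx => ?_⟩
      have h2 : (x : Ω) ∈ Z := h1.1.2 hx
      exact (h1.2 h2).symm)

theorem fixSys_le (F : FusionSystem S) (Z : Subgroup Ω)
    (hZ : Z ≤ S ⊓ Subgroup.centralizer (S : Set Ω)) (P : Subgroup Ω) :
    (fixSys F Z hZ).Hom P ⊆ F.Hom P := fun _ h => h.1

theorem isIso_fixSys_iff (F : FusionSystem S) (Z : Subgroup Ω)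
    (hZ : Z ≤ S ⊓ Subgroup.centralizer (S : Set Ω)) {A B : Subgroup Ω} {f : Ω → Ω} :
    IsIso (fixSys F Z hZ) A B f ↔
      IsIso F A B f ∧ ∀ x ∈ A, (x ∈ Z ↔ f x ∈ Z) ∧ (x ∈ Z → f x = x) := by
  constructor
  · rintro ⟨φ, hφ, hφf, hr⟩
    refine ⟨⟨φ, hφ.1, hφf, hr⟩, fun x hx => ?_⟩
    have := hφ.2 ⟨x, hx⟩
    rw [hφf] at this
    exact this
  · rintro ⟨⟨φ, hφ, hφf, hr⟩, h⟩
    refine ⟨φ, ⟨hφ, fun x => ?_⟩, hφf, hr⟩
    rw [hφf]
    exact h x x.2

theorem fixZ_fixSys (F : FusionSystem S) (Z : Subgroup Ω)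
    (hZ : Z ≤ S ⊓ Subgroup.centralizer (S : Set Ω)) : FixZ (fixSys F Z hZ) Z :=
  fun _ _ _ hf x hx hxZ => (((isIso_fixSys_iff F Z hZ).1 hf).2 x hx).2 hxZ

/-- Isomorphisms of a subsystem all of whose isomorphisms fix `Z` are isomorphisms of the
subsystem of the maps fixing `Z`. -/
theorem isIso_fixSys_of_fixZ {F : FusionSystem S} {Z : Subgroup Ω}
    (hZ : Z ≤ S ⊓ Subgroup.centralizer (S : Set Ω)) {T : Subgroup Ω} {D : FusionSystem T}
    (hDF : ∀ P : Subgroup Ω, D.Hom P ⊆ F.Hom P) (hfix : FixZ D Z) {A B : Subgroup Ω}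
    {f : Ω → Ω} (hf : IsIso D A B f) : IsIso (fixSys F Z hZ) A B f := by
  rw [isIso_fixSys_iff]
  refine ⟨isIso_of_hom_le hDF hf, fun x hx => ⟨⟨fun hxZ => ?_, fun hfx => ?_⟩,
    fun hxZ => hfix A B f hf x hx hxZ⟩⟩
  · rw [hfix A B f hf x hx hxZ]; exact hxZ
  · obtain ⟨g, hg, hgf, -⟩ := hf.symm
    have h1 := hfix B A g hg (f x) (hf.map_mem hx) hfx
    rw [hgf x hx] at h1
    rw [h1]; exact hfx

/-- If all maps of `F` are maps of the subsystem fixing `Z`, then `F` fixes `Z`. -/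
theorem fixZ_of_hom_le {F : FusionSystem S} {Z : Subgroup Ω}
    (hZ : Z ≤ S ⊓ Subgroup.centralizer (S : Set Ω))
    (h : ∀ P : Subgroup Ω, F.Hom P ⊆ (fixSys F Z hZ).Hom P) : FixZ F Z :=
  (fixZ_fixSys F Z hZ).mono h

/-! ### The chain argument, generic form -/

/-- The chain: every nontrivial subgroup with large normalizer is good, granted that a fully
normalized subgroup is good as soon as the subgroups with larger normalizer are. -/
theorem good_all_gen {p : ℕ} [Fact p.Prime] [Finite S] (hS : IsPGroup p S)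
    {F E : FusionSystem S} (hF : F.IsSaturated p)
    (hEF : ∀ P : Subgroup Ω, E.Hom P ⊆ F.Hom P)
    (hfn : ∀ U : Subgroup Ω, F.IsFullyNormalized U → U ≠ ⊥ →
      (∀ U₂ : Subgroup Ω, U₂ ≤ S → U₂ ≠ ⊥ →
        Nat.card (normalizerIn S U) < Nat.card (normalizerIn S U₂) → ZJ.Good F E U₂) → ZJ.Good F E U)
    {c : ℕ}
    (IHA : ∀ (A B : Subgroup Ω) (f : Ω → Ω), c < Nat.card A → IsIso F A B f → IsIso E A B f) :
    ∀ d : ℕ, ∀ U : Subgroup Ω, U ≤ S → U ≠ ⊥ → c < Nat.card (normalizerIn S U) →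
      Nat.card S - Nat.card (normalizerIn S U) = d → ZJ.Good F E U := by
  intro d
  induction d using Nat.strong_induction_on with
  | _ d IH =>
    intro U hUS hUne hc hd
    obtain ⟨U', X, χ, hU'fn, hχ, hχU⟩ := exists_fn_map hS hF hUS
    have hU'S := hU'fn.1
    have hfinU : Finite U := finite_of_le S hUS
    have hfinU' : Finite U' := finite_of_le S hU'S
    have hU'ne : U' ≠ ⊥ := by
      have h1 : 1 < Nat.card U := one_lt_card_of_ne_bot hUne
      rw [hχU.card_eq] at h1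
      intro h
      rw [h, Subgroup.card_bot] at h1
      exact lt_irrefl _ h1
    have hle : Nat.card (normalizerIn S U) ≤ Nat.card (normalizerIn S U') :=
      hU'fn.2 U (isConj_symm F hχU.isConj)
    have hleS : ∀ U₂ : Subgroup Ω, Nat.card (normalizerIn S U₂) ≤ Nat.card S := fun U₂ =>
      Subgroup.card_le_of_le inf_le_left
    have hgood' : ZJ.Good F E U' := by
      apply hfn U' hU'fn hU'ne
      intro U₂ hU₂S hU₂ne hlt
      have := hleS U₂
      exact IH (Nat.card S - Nat.card (normalizerIn S U₂)) (by omega) U₂ hU₂S hU₂ne (by omega) rfl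
    exact good_transport hEF hUS (IHA _ _ _ hc hχ) hχU hgood'

end Cfsg.Agent.Lib.H26.Ctl
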