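import Mathlib
import Cfsg.Agent.Lib.H26.NilMain
import Cfsg.Agent.Lib.H4.ZJ

set_option autoImplicit false

/-!
The local statement behind "a functor with quadratic elements controls the `p`-th powers of the
centre" (helper26).  Let `W` be a functor on finite `p`-groups such that in every finite group
`G` with Sylow `p`-subgroup `P` in which `W(P)` is not normal some `g ∈ P ∖ O_p(G)` satisfies
`[Z(O_p(G)), g, g] = 1`.  Then in a finite group `L` with `C_L(O_p(L)) ≤ O_p(L)` every `p`-th
power of an element of `Z(P)` that is central in `N_L(W(P))` is central in `L`.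
-/

namespace Cfsg.Agent.Lib.H26.CtlA

open Cfsg Cfsg.Agent.Lib.H26.Nil
open scoped commutatorElement

universe u

variable {p : ℕ} [Fact p.Prime]

/-- Characteristic `p` passes to subgroups containing a Sylow `p`-subgroup. -/
theorem charp_of_sylow_le {L : Type u} [Group L] [Finite L] (P : Sylow p L) (H : Subgroup L)
    (hPH : (P : Subgroup L) ≤ H)
    (hchar : Subgroup.centralizer ((pCore p L : Subgroup L) : Set L) ≤ pCore p L) :
    Subgroup.centralizer ((pCore p ↥H : Subgroup ↥H) : Set ↥H) ≤ pCore p ↥H := by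
  have hQn : (pCore p L).Normal := Cfsg.Agent.Lib.H1.pCore_normal p L
  have hQP : pCore p L ≤ P := Cfsg.Agent.Lib.H1.pCore_le_sylow P
  have hQH : pCore p L ≤ H := hQP.trans hPH
  have hQ'n : ((pCore p L).subgroupOf H).Normal := hQn.subgroupOf H
  have hQ'p : IsPGroup p ((pCore p L).subgroupOf H) :=
    (Cfsg.Agent.Lib.H1.pCore_isPGroup p L).comap_subtype
  have hQ'le : (pCore p L).subgroupOf H ≤ pCore p ↥H := Cfsg.Agent.Lib.H1.le_pCore hQ'n hQ'p
  intro c hc
  apply hQ'le
  rw [Subgroup.mem_subgroupOf]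
  apply hchar
  rw [Subgroup.mem_centralizer_iff]
  intro q hq
  rw [Subgroup.mem_centralizer_iff] at hc
  have hq' : (⟨q, hQH hq⟩ : ↥H) ∈ pCore p ↥H := hQ'le (Subgroup.mem_subgroupOf.2 hq)
  have := hc ⟨q, hQH hq⟩ hq'
  exact congrArg Subtype.val this

variable (W : PFun.{u} p)

/-- The local statement. -/
theorem quad_center
    (hq : ∀ (G : Type u) [Group G] [Finite G] (P : Sylow p G),
      ¬ (W.W (P : Subgroup G)).Normal → ∃ g : G, g ∈ (P : Subgroup G) ∧ g ∉ pCore p G ∧
        ⁅⁅(Subgroup.center ↥(pCore p G)).map (pCore p G).subtype, Subgroup.zpowers g⁆,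
          Subgroup.zpowers g⁆ = ⊥) :
    ∀ n : ℕ, ∀ (L : Type u) [Group L] [Finite L], Nat.card L = n → ∀ P : Sylow p L,
      Subgroup.centralizer ((pCore p L : Subgroup L) : Set L) ≤ pCore p L →
      ∀ y : L, y ∈ (P : Subgroup L) ⊓ Subgroup.centralizer ((P : Subgroup L) : Set L) →
      (∀ m ∈ Subgroup.normalizer ((W.W (P : Subgroup L) : Subgroup L) : Set L),
        m * y ^ p = y ^ p * m) → y ^ p ∈ Subgroup.center L := by
  intro n
  induction n using Nat.strong_induction_on with
  | _ n IH =>
    intro L _ _ hcard P hchar y hy hcomm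
    have hyP : y ∈ (P : Subgroup L) := hy.1
    have hyc : y ∈ Subgroup.centralizer ((P : Subgroup L) : Set L) := hy.2
    rw [Subgroup.mem_centralizer_iff] at hyc
    by_cases hXn : (W.W (P : Subgroup L)).Normal
    · rw [Subgroup.mem_center_iff]
      intro m
      apply hcomm
      rw [Subgroup.normalizer_eq_top_iff.mpr hXn]
      exact Subgroup.mem_top m
    obtain ⟨g, hgP, hgQ, hquad⟩ := hq L P hXn
    set Q := pCore p L with hQdef
    have hQn : Q.Normal := Cfsg.Agent.Lib.H1.pCore_normal p L
    have hQP : Q ≤ P := Cfsg.Agent.Lib.H1.pCore_le_sylow P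
    set A' := (Subgroup.center ↥Q).map Q.subtype with hA'def
    have memA' : ∀ a : L, a ∈ A' ↔ a ∈ Q ∧ ∀ q ∈ Q, q * a = a * q := by
      intro a
      constructor
      · rintro ⟨a', ha', rfl⟩
        refine ⟨a'.2, fun q hq => ?_⟩
        have := Subgroup.mem_center_iff.1 ha' ⟨q, hq⟩
        exact congrArg Subtype.val this
      · rintro ⟨haQ, ha⟩
        have hc : (⟨a, haQ⟩ : ↥Q) ∈ Subgroup.center ↥Q := by
          rw [Subgroup.mem_center_iff]
          intro q
          exact Subtype.ext (ha q q.2)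
        exact ⟨⟨a, haQ⟩, hc, rfl⟩
    have hA'conj : ∀ (t : L) (a : L), a ∈ A' → t * a * t⁻¹ ∈ A' := by
      intro t a ha
      obtain ⟨haQ, hac⟩ := (memA' a).1 ha
      refine (memA' _).2 ⟨hQn.conj_mem a haQ t, fun q hq => ?_⟩
      have h1 : t⁻¹ * q * t ∈ Q := by
        have := hQn.conj_mem q hq t⁻¹
        simpa using this
      have h2 := hac _ h1
      calc q * (t * a * t⁻¹) = t * ((t⁻¹ * q * t) * a) * t⁻¹ := by group
        _ = t * (a * (t⁻¹ * q * t)) * t⁻¹ := by rw [h2]
        _ = t * a * t⁻¹ * q := by group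
    have hA'comm : ∀ a b : L, a ∈ A' → b ∈ A' → a * b = b * a := by
      intro a b ha hb
      exact ((memA' b).1 hb).2 a ((memA' a).1 ha).1
    -- `y` lies in `A'`
    have hyA' : y ∈ A' := by
      have hyQ : y ∈ Q := by
        apply hchar
        rw [Subgroup.mem_centralizer_iff]
        intro q hq
        exact hyc q (hQP hq)
      exact (memA' y).2 ⟨hyQ, fun q hq => hyc q (hQP hq)⟩
    -- the quadratic element of order `p` modulo `Q`
    have hPp : IsPGroup p (P : Subgroup L) := P.2
    obtain ⟨k, hk⟩ := hPp ⟨g, hgP⟩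
    have hk' : g ^ p ^ k = 1 := congrArg Subtype.val hk
    have hex : ∃ j : ℕ, g ^ p ^ j ∈ Q := ⟨k, by rw [hk']; exact Q.one_mem⟩
    classical
    set j₀ := Nat.find hex with hj₀def
    have hj₀ : g ^ p ^ j₀ ∈ Q := Nat.find_spec hex
    have hj₀pos : j₀ ≠ 0 := by
      intro h0
      rw [h0, pow_zero, pow_one] at hj₀
      exact hgQ hj₀
    obtain ⟨j₁, hj₁⟩ := Nat.exists_eq_succ_of_ne_zero hj₀pos
    set h := g ^ p ^ j₁ with hhdef
    have hhQ : h ∉ Q := by
      have := Nat.find_min hex (show j₁ < j₀ by omega)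
      exact this
    have hhp : h ^ p ∈ Q := by
      have : h ^ p = g ^ p ^ j₀ := by
        rw [hhdef, ← pow_mul, hj₁, pow_succ]
      rw [this]; exact hj₀
    have hhP : h ∈ (P : Subgroup L) := Subgroup.pow_mem _ hgP _
    have hhz : h ∈ Subgroup.zpowers g := Subgroup.pow_mem _ (Subgroup.mem_zpowers g) _
    -- `h` centralizes the `p`-th powers of the elements of `A'`
    have hpow : ∀ a ∈ A', h * a ^ p = a ^ p * h := by
      intro a ha
      set c := ⁅a, h⁆ with hcdef
      have hc1 : ⁅c, h⁆ = 1 := by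
        have h1 : ⁅c, h⁆ ∈ ⁅⁅A', Subgroup.zpowers g⁆, Subgroup.zpowers g⁆ :=
          Subgroup.commutator_mem_commutator (Subgroup.commutator_mem_commutator ha hhz) hhz
        rw [hquad] at h1
        exact Subgroup.mem_bot.1 h1
      have hch : Commute c h := commutatorElement_eq_one_iff_commute.1 hc1
      have hcA' : c ∈ A' := by
        have h1 : h * a⁻¹ * h⁻¹ ∈ A' := hA'conj h _ (A'.inv_mem ha)
        have h2 : c = a * (h * a⁻¹ * h⁻¹) := by
          rw [hcdef, commutatorElement_def]; group
        rw [h2]; exact A'.mul_mem ha h1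
      have hca : Commute c a := hA'comm c a hcA' ha
      have hconj : h * a * h⁻¹ = c⁻¹ * a := by
        rw [hcdef, commutatorElement_def]; group
      have hiter : ∀ m : ℕ, h ^ m * a * (h ^ m)⁻¹ = (c⁻¹) ^ m * a := by
        intro m
        induction m with
        | zero => simp
        | succ m ihm =>
          have hch' : Commute h ((c⁻¹) ^ m) := (hch.symm.inv_right).pow_right m
          calc h ^ (m + 1) * a * (h ^ (m + 1))⁻¹
              = h * (h ^ m * a * (h ^ m)⁻¹) * h⁻¹ := by
                rw [pow_succ']; group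
            _ = h * ((c⁻¹) ^ m * a) * h⁻¹ := by rw [ihm]
            _ = (c⁻¹) ^ m * (h * a * h⁻¹) := by
                have e : h * (c⁻¹) ^ m = (c⁻¹) ^ m * h := hch'.eq
                calc h * ((c⁻¹) ^ m * a) * h⁻¹ = (h * (c⁻¹) ^ m) * a * h⁻¹ := by group
                  _ = ((c⁻¹) ^ m * h) * a * h⁻¹ := by rw [e]
                  _ = (c⁻¹) ^ m * (h * a * h⁻¹) := by group
            _ = (c⁻¹) ^ m * (c⁻¹ * a) := by rw [hconj]
            _ = (c⁻¹) ^ (m + 1) * a := by rw [pow_succ]; group
      have hcp : (c⁻¹) ^ p = 1 := by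
        have h1 := hiter p
        have h2 : h ^ p * a * (h ^ p)⁻¹ = a := by
          have := ((memA' a).1 ha).2 _ hhp
          rw [this, mul_inv_cancel_right]
        rw [h2] at h1
        have h3 : (c⁻¹) ^ p * a = 1 * a := by rw [one_mul]; exact h1.symm
        exact mul_right_cancel h3
      have h1 : h * a ^ p * h⁻¹ = a ^ p := by
        have e1 : h * a ^ p * h⁻¹ = (h * a * h⁻¹) ^ p := (conj_pow (a := h) (b := a) (i := p)).symm
        rw [e1, hconj, (hca.inv_left).mul_pow, hcp, one_mul]
      calc h * a ^ p = (h * a ^ p * h⁻¹) * h := by group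
        _ = a ^ p * h := by rw [h1]
    -- the centralizer of the `p`-th powers
    set V : Set L := {v | ∃ a ∈ A', a ^ p = v} with hVdef
    set C₁ := Subgroup.centralizer V with hC₁def
    have hC₁n : C₁.Normal := by
      constructor
      intro c hc t
      rw [hC₁def, Subgroup.mem_centralizer_iff] at hc ⊢
      rintro v ⟨a, ha, rfl⟩
      have h1 : t⁻¹ * a * t ∈ A' := by
        have := hA'conj t⁻¹ a ha
        simpa using this
      have h2 : (t⁻¹ * a * t) ^ p ∈ V := ⟨_, h1, rfl⟩
      have h3 := hc _ h2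
      have h4 : (t⁻¹ * a * t) ^ p = t⁻¹ * a ^ p * t := by
        have := conj_pow (a := t⁻¹) (b := a) (i := p)
        simpa using this
      rw [h4] at h3
      calc a ^ p * (t * c * t⁻¹) = t * ((t⁻¹ * a ^ p * t) * c) * t⁻¹ := by group
        _ = t * (c * (t⁻¹ * a ^ p * t)) * t⁻¹ := by rw [h3]
        _ = t * c * t⁻¹ * a ^ p := by group
    have hhC₁ : h ∈ C₁ := by
      rw [hC₁def, Subgroup.mem_centralizer_iff]
      rintro v ⟨a, ha, rfl⟩
      exact (hpow a ha).symm
    have hyV : y ^ p ∈ V := ⟨y, hyA', rfl⟩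
    have hC₁y : ∀ c ∈ C₁, c * y ^ p = y ^ p * c := by
      intro c hc
      rw [hC₁def, Subgroup.mem_centralizer_iff] at hc
      exact (hc _ hyV).symm
    -- the Frattini argument
    set P₁ := (P : Subgroup L) ⊓ C₁ with hP₁def
    have hfrat := Cfsg.Agent.Lib.H4.ZJ.frattini_inf P C₁
    set H := Subgroup.normalizer ((P₁ : Subgroup L) : Set L) with hHdef
    have hPH : (P : Subgroup L) ≤ H := by
      intro t ht
      rw [hHdef, Subgroup.mem_normalizer_iff]
      intro x
      constructor
      · rintro ⟨hxP, hxC⟩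
        have hxP' : x ∈ (P : Subgroup L) := hxP
        have h1 : t * x * t⁻¹ ∈ (P : Subgroup L) :=
          Subgroup.mul_mem _ (Subgroup.mul_mem _ ht hxP') (Subgroup.inv_mem _ ht)
        exact ⟨h1, hC₁n.conj_mem x hxC t⟩
      · rintro ⟨hxP, hxC⟩
        have hxP' : t * x * t⁻¹ ∈ (P : Subgroup L) := hxP
        have h1 : t⁻¹ * (t * x * t⁻¹) * t ∈ (P : Subgroup L) :=
          Subgroup.mul_mem _ (Subgroup.mul_mem _ (Subgroup.inv_mem _ ht) hxP') ht
        have h2 : t⁻¹ * (t * x * t⁻¹) * t⁻¹⁻¹ ∈ C₁ := hC₁n.conj_mem _ hxC t⁻¹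
        have e : t⁻¹ * (t * x * t⁻¹) * t = x := by group
        have e' : t⁻¹ * (t * x * t⁻¹) * t⁻¹⁻¹ = x := by group
        rw [e] at h1
        rw [e'] at h2
        exact ⟨h1, h2⟩
    have hHy : ∀ t ∈ H, t * y ^ p = y ^ p * t := by
      by_cases hHtop : H = ⊤
      · -- then `P₁` is normal, so `h ∈ O_p(L)`: impossible
        exfalso
        have hP₁n : P₁.Normal := Subgroup.normalizer_eq_top_iff.mp hHtop
        have hP₁p : IsPGroup p P₁ := hPp.to_le inf_le_left
        exact hhQ (Cfsg.Agent.Lib.H1.le_pCore hP₁n hP₁p ⟨hhP, hhC₁⟩)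
      · have hlt : Nat.card ↥H < n := by
          rw [← hcard]
          have hne : ∃ t : L, t ∉ H := by
            by_contra hcon
            push_neg at hcon
            exact hHtop (eq_top_iff.2 (fun t _ => hcon t))
          obtain ⟨t, ht⟩ := hne
          have hidx : H.index ≠ 1 := by
            intro h1
            exact hHtop (Subgroup.index_eq_one.1 h1)
          have hmul := Subgroup.card_mul_index H
          have hpos : 0 < Nat.card ↥H := Nat.card_pos
          have hidx0 : H.index ≠ 0 := Subgroup.index_ne_zero_of_finite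
          have : 2 ≤ H.index := by omega
          nlinarith
        -- the Sylow subgroup of `H`
        let P' : Sylow p ↥H := P.subtype hPH
        have hP'coe : (P' : Subgroup ↥H) = (P : Subgroup L).subgroupOf H := Sylow.coe_subtype _ _
        have hcharH := charp_of_sylow_le P H hPH hchar
        have hfinP' : Finite (P' : Subgroup ↥H) := inferInstance
        have hmapP' : (P' : Subgroup ↥H).map H.subtype = (P : Subgroup L) := by
          rw [hP'coe]
          exact Subgroup.map_subgroupOf_eq_of_le hPH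
        have hWmap : W.W (P : Subgroup L) = (W.W (P' : Subgroup ↥H)).map H.subtype := by
          have := W.map H.subtype (P' : Subgroup ↥H) hfinP' P'.2 (H.subtype_injective.injOn)
          rw [hmapP'] at this
          exact this
        have hy' : (⟨y, hPH hyP⟩ : ↥H) ∈ (P' : Subgroup ↥H) ⊓
            Subgroup.centralizer ((P' : Subgroup ↥H) : Set ↥H) := by
          refine ⟨?_, ?_⟩
          · show (⟨y, hPH hyP⟩ : ↥H) ∈ (P' : Subgroup ↥H)
            rw [hP'coe, Subgroup.mem_subgroupOf]; exact hyP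
          · show (⟨y, hPH hyP⟩ : ↥H) ∈ Subgroup.centralizer ((P' : Subgroup ↥H) : Set ↥H)
            rw [Subgroup.mem_centralizer_iff]
            intro t ht
            have ht' : t ∈ (P' : Subgroup ↥H) := ht
            rw [hP'coe, Subgroup.mem_subgroupOf] at ht'
            exact Subtype.ext (hyc t ht')
        have hcomm' : ∀ m ∈ Subgroup.normalizer ((W.W (P' : Subgroup ↥H) : Subgroup ↥H) : Set ↥H),
            m * (⟨y, hPH hyP⟩ : ↥H) ^ p = (⟨y, hPH hyP⟩ : ↥H) ^ p * m := by
          intro m hm
          have h1 : (m : L) ∈ Subgroup.normalizer ((W.W (P : Subgroup L) : Subgroup L) : Set L) := by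
            rw [hWmap]
            exact Subgroup.le_normalizer_map H.subtype ⟨m, hm, rfl⟩
          exact Subtype.ext (hcomm _ h1)
        have hres := IH _ hlt ↥H rfl P' hcharH ⟨y, hPH hyP⟩ hy' hcomm'
        intro t ht
        have := Subgroup.mem_center_iff.1 hres ⟨t, ht⟩
        exact congrArg Subtype.val this
    rw [Subgroup.mem_center_iff]
    intro l
    have hl : l ∈ C₁ ⊔ H := by rw [hfrat]; exact Subgroup.mem_top l
    have hl' : l ∈ ((C₁ ⊔ H : Subgroup L) : Set L) := hl
    rw [Subgroup.normal_mul] at hl'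
    obtain ⟨c, hc, t, ht, rfl⟩ := Set.mem_mul.1 hl'
    have e1 := hC₁y c hc
    have e2 := hHy t ht
    calc c * t * y ^ p = c * (t * y ^ p) := by group
      _ = c * (y ^ p * t) := by rw [e2]
      _ = (c * y ^ p) * t := by group
      _ = (y ^ p * c) * t := by rw [e1]
      _ = y ^ p * (c * t) := by group

end Cfsg.Agent.Lib.H26.CtlA
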