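import Mathlib
import Cfsg.Agent.Lib.H26.QuadCenter
import Cfsg.Agent.Lib.H4.ZJMap
import Cfsg.Agent.Lib.H15.Replacement
import Cfsg.Agent.S5204

set_option autoImplicit false

/-!
The Thompson subgroup (abelian version) as a functor on finite `p`-groups, Thompson's replacement
theorem inside an ambient group, and the existence of quadratic elements: if `J(P)` is not normal
in the finite group `G` (with `P` a Sylow `p`-subgroup) then some `g ∈ P ∖ O_p(G)` satisfies
`[Z(O_p(G)), g, g] = 1` (helper26).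
-/

namespace Cfsg.Agent.Lib.H26.Gen

open Cfsg Cfsg.Agent.Lib.H26.Nil Cfsg.Agent.Lib.H4.ZJ
open scoped commutatorElement

universe u

/-- The functor `Q ↦ J(Q)` (abelian version). -/
noncomputable def jFun (p : ℕ) [Fact p.Prime] : PFun.{u} p where
  W := fun Q => Cfsg.thompsonSubgroupAOf Q
  le := fun Q => by
    rw [← J_abClass]; exact J_le Q
  map := fun f Q _ _ hf => by
    rw [← J_abClass, ← J_abClass]
    exact J_map_of_injOn (abClass _) (abClass _) f Q hf (abClass_compat f Q hf)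
  ne_bot := fun Q hfin hQ hne => by
    have h1 := Cfsg.Agent.S5204.centerThompsonAOf_ne_bot Q hfin hQ hne
    intro h
    apply h1
    rw [eq_bot_iff, ← h]
    exact inf_le_left

variable {G : Type u} [Group G]

/-- Thompson's replacement theorem for a finite `p`-subgroup of an ambient group. -/
theorem replacement_in {p : ℕ} [Fact p.Prime] (P : Subgroup G) [Finite P] (hP : IsPGroup p P)
    {A B : Subgroup G} (hA : A ∈ maxSet (abClass G) P) (hBP : B ≤ P)
    (hBc : ∀ x ∈ B, ∀ y ∈ B, x * y = y * x)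
    (hAB : A ≤ Subgroup.normalizer (B : Set G)) (hBA : ¬ B ≤ Subgroup.normalizer (A : Set G)) :
    ∃ A' ∈ maxSet (abClass G) P, A ⊓ B < A' ⊓ B ∧ A' ≤ Subgroup.normalizer (A : Set G) := by
  have hAP : A ≤ P := hA.1
  rw [maxSet_abClass] at hA
  obtain ⟨A₀, hA₀, rfl⟩ := hA
  set B₀ := B.subgroupOf P with hB₀
  have hB₀map : B₀.map P.subtype = B := Subgroup.map_subgroupOf_eq_of_le hBP
  have hB₀c : IsMulCommutative ↥B₀ := by
    rw [Cfsg.Agent.Lib.H4.ZJ.isMulCommutative_iff]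
    intro x hx y hy
    exact Subtype.ext (hBc _ (Subgroup.mem_subgroupOf.1 hx) _ (Subgroup.mem_subgroupOf.1 hy))
  have : Group.IsNilpotent ↥P := hP.isNilpotent
  have h1 : A₀ ≤ Subgroup.normalizer (B₀ : Set ↥P) := by
    intro a ha
    have haN : (a : G) ∈ Subgroup.normalizer (B : Set G) := hAB ⟨a, ha, rfl⟩
    rw [Subgroup.mem_normalizer_iff] at haN ⊢
    intro x
    rw [hB₀, Subgroup.mem_subgroupOf, Subgroup.mem_subgroupOf]
    exact haN x
  have h2 : ¬ B₀ ≤ Subgroup.normalizer (A₀ : Set ↥P) := by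
    intro h
    apply hBA
    intro b hb
    have hb' : (⟨b, hBP hb⟩ : ↥P) ∈ B₀ := Subgroup.mem_subgroupOf.2 hb
    have hbN := h hb'
    rw [Subgroup.mem_normalizer_iff] at hbN ⊢
    intro x
    constructor
    · rintro ⟨x₀, hx₀, rfl⟩
      exact ⟨_, (hbN x₀).1 hx₀, rfl⟩
    · rintro ⟨y₀, hy₀, hy⟩
      have hxP : x ∈ P := by
        have h3 : b⁻¹ * (b * x * b⁻¹) * b ∈ P :=
          P.mul_mem (P.mul_mem (P.inv_mem (hBP hb)) (hy ▸ y₀.2)) (hBP hb)
        have e : b⁻¹ * (b * x * b⁻¹) * b = x := by group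
        rwa [e] at h3
      refine ⟨⟨x, hxP⟩, (hbN ⟨x, hxP⟩).2 ?_, rfl⟩
      have : (⟨b, hBP hb⟩ : ↥P) * ⟨x, hxP⟩ * (⟨b, hBP hb⟩ : ↥P)⁻¹ = y₀ := Subtype.ext hy.symm
      rw [this]; exact hy₀
  obtain ⟨A₁, hA₁, hlt, hN⟩ := Cfsg.Agent.Lib.H15.thompson_replacement hA₀ hB₀c h1 h2
  refine ⟨A₁.map P.subtype, ?_, ?_, ?_⟩
  · rw [maxSet_abClass]; exact ⟨A₁, hA₁, rfl⟩
  · have e1 : A₀.map P.subtype ⊓ B = (A₀ ⊓ B₀).map P.subtype := by
      rw [Subgroup.map_inf _ _ _ P.subtype_injective, hB₀map]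
    have e2 : A₁.map P.subtype ⊓ B = (A₁ ⊓ B₀).map P.subtype := by
      rw [Subgroup.map_inf _ _ _ P.subtype_injective, hB₀map]
    rw [e1, e2]
    refine lt_of_le_of_ne (Subgroup.map_mono hlt.le) (fun h => ?_)
    exact hlt.ne (Subgroup.map_injective P.subtype_injective h)
  · rintro _ ⟨a, ha, rfl⟩
    have haN := hN ha
    rw [Subgroup.mem_normalizer_iff] at haN ⊢
    intro x
    constructor
    · rintro ⟨x₀, hx₀, rfl⟩
      exact ⟨_, (haN x₀).1 hx₀, rfl⟩
    · rintro ⟨y₀, hy₀, hy⟩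
      have hxP : x ∈ P := by
        have h3 : (a : G)⁻¹ * ((a : G) * x * (a : G)⁻¹) * (a : G) ∈ P :=
          P.mul_mem (P.mul_mem (P.inv_mem a.2) (hy ▸ y₀.2)) a.2
        have e : (a : G)⁻¹ * ((a : G) * x * (a : G)⁻¹) * (a : G) = x := by group
        rwa [e] at h3
      refine ⟨⟨x, hxP⟩, (haN ⟨x, hxP⟩).2 ?_, rfl⟩
      have : a * ⟨x, hxP⟩ * a⁻¹ = y₀ := Subtype.ext hy.symm
      rw [this]; exact hy₀

/-- **Quadratic elements for the Thompson subgroup**: if `J(P)` is not normal in `G`, some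
element of `P` outside `O_p(G)` acts quadratically on `Z(O_p(G))`. -/
theorem quad_J {p : ℕ} [Fact p.Prime] (G : Type u) [Group G] [Finite G] (P : Sylow p G)
    (hn : ¬ ((jFun p).W (P : Subgroup G)).Normal) :
    ∃ g : G, g ∈ (P : Subgroup G) ∧ g ∉ pCore p G ∧
      ⁅⁅(Subgroup.center ↥(pCore p G)).map (pCore p G).subtype, Subgroup.zpowers g⁆,
        Subgroup.zpowers g⁆ = ⊥ := by
  classical
  set Q := pCore p G with hQdef
  have hQn : Q.Normal := Cfsg.Agent.Lib.H1.pCore_normal p G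
  have hQP : Q ≤ P := Cfsg.Agent.Lib.H1.pCore_le_sylow P
  set Z := (Subgroup.center ↥Q).map Q.subtype with hZdef
  have memZ : ∀ a : G, a ∈ Z ↔ a ∈ Q ∧ ∀ q ∈ Q, q * a = a * q := by
    intro a
    constructor
    · rintro ⟨a', ha', rfl⟩
      refine ⟨a'.2, fun q hq => ?_⟩
      have := Subgroup.mem_center_iff.1 ha' ⟨q, hq⟩
      exact congrArg Subtype.val this
    · rintro ⟨haQ, ha⟩
      have hc : (⟨a, haQ⟩ : ↥Q) ∈ Subgroup.center ↥Q := by
        rw [Subgroup.mem_center_iff]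
        intro q
        exact Subtype.ext (ha q q.2)
      exact ⟨⟨a, haQ⟩, hc, rfl⟩
  have hZconj : ∀ (t : G) (a : G), a ∈ Z → t * a * t⁻¹ ∈ Z := by
    intro t a ha
    obtain ⟨haQ, hac⟩ := (memZ a).1 ha
    refine (memZ _).2 ⟨hQn.conj_mem a haQ t, fun q hq => ?_⟩
    have h1 : t⁻¹ * q * t ∈ Q := by
      have := hQn.conj_mem q hq t⁻¹
      simpa using this
    have h2 := hac _ h1
    calc q * (t * a * t⁻¹) = t * ((t⁻¹ * q * t) * a) * t⁻¹ := by group
      _ = t * (a * (t⁻¹ * q * t)) * t⁻¹ := by rw [h2]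
      _ = t * a * t⁻¹ * q := by group
  have hZc : ∀ a ∈ Z, ∀ b ∈ Z, a * b = b * a := by
    intro a ha b hb
    exact ((memZ b).1 hb).2 a ((memZ a).1 ha).1
  have hZQ : Z ≤ Q := fun a ha => ((memZ a).1 ha).1
  -- some abelian subgroup of largest order is not contained in `Q`
  have hex : ∃ A ∈ maxSet (abClass G) (P : Subgroup G), ¬ A ≤ Q := by
    by_contra hcon
    push Not at hcon
    obtain ⟨A₀, hA₀⟩ := maxSet_nonempty (𝒞 := abClass G) (P : Subgroup G)
    have hsub := maxSet_subset_of_le hA₀ (hcon A₀ hA₀) hQP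
    have heq : maxSet (abClass G) Q = maxSet (abClass G) (P : Subgroup G) :=
      Set.Subset.antisymm hsub (fun A hA => mem_maxSet_of_le hA (hcon A hA) hQP)
    have hJ : J (abClass G) Q = J (abClass G) (P : Subgroup G) := by
      unfold J; rw [heq]
    apply hn
    show (Cfsg.thompsonSubgroupAOf (P : Subgroup G)).Normal
    rw [← J_abClass, ← hJ]
    have h1 := normalizer_le_normalizer_J (𝒞 := abClass G) Q
    rw [Subgroup.normalizer_eq_top_iff.2 hQn] at h1
    exact Subgroup.normalizer_eq_top_iff.1 (top_le_iff.1 h1)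
  -- choose one meeting `Z` in the largest possible subgroup
  obtain ⟨A, ⟨hA, hAQ⟩, hmax⟩ := Set.exists_max_image
    {A : Subgroup G | A ∈ maxSet (abClass G) (P : Subgroup G) ∧ ¬ A ≤ Q}
    (fun A => Nat.card ↥(A ⊓ Z)) (Set.toFinite _) (let ⟨A, h1, h2⟩ := hex; ⟨A, h1, h2⟩)
  have hZA : Z ≤ Subgroup.normalizer (A : Set G) := by
    by_contra hcon
    have hAZ : A ≤ Subgroup.normalizer (Z : Set G) := by
      intro a _
      apply Cfsg.Agent.Lib.H26.mem_normalizer_of_conj_mem (fun x hx => hZconj a x hx)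
      intro x hx
      have := hZconj a⁻¹ x hx
      rwa [inv_inv] at this
    obtain ⟨A', hA', hlt, hN⟩ := replacement_in (P : Subgroup G) P.2 hA (hZQ.trans hQP)
      hZc hAZ hcon
    have hA'Q : A' ≤ Q := by
      by_contra h
      have h1 : Nat.card ↥(A' ⊓ Z) ≤ Nat.card ↥(A ⊓ Z) := hmax A' ⟨hA', h⟩
      exact absurd (Cfsg.Agent.Lib.H19.card_lt_of_lt hlt) (not_lt.2 h1)
    have hsup : (abClass G).pred (A' ⊔ Z) :=
      (abClass G).sup A' Z hA'.2.1 hZc (fun x hx y hy => ((memZ y).1 hy).2 x (hA'Q hx))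
    have hcard := hA'.2.2 (A' ⊔ Z) (sup_le hA'.1 (hZQ.trans hQP)) hsup
    have heq : A' = A' ⊔ Z := Subgroup.eq_of_le_of_card_ge le_sup_left hcard
    apply hcon
    exact ((le_sup_right : Z ≤ A' ⊔ Z).trans heq.ge).trans hN
  obtain ⟨g, hgA, hgQ⟩ := SetLike.not_le_iff_exists.1 hAQ
  refine ⟨g, hA.1 hgA, hgQ, ?_⟩
  rw [eq_bot_iff]
  have hzA : Subgroup.zpowers g ≤ A := Subgroup.zpowers_le.2 hgA
  have h1 : ⁅Z, Subgroup.zpowers g⁆ ≤ A := by
    rw [Subgroup.commutator_le]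
    intro z hz y hy
    have hyA : y ∈ A := hzA hy
    have hzN := hZA hz
    rw [commutatorElement_def]
    exact A.mul_mem ((Subgroup.mem_normalizer_iff.1 hzN y).1 hyA) (A.inv_mem hyA)
  have h2 : ⁅A, Subgroup.zpowers g⁆ ≤ ⊥ := by
    rw [Subgroup.commutator_le]
    intro a ha y hy
    rw [Subgroup.mem_bot, commutatorElement_eq_one_iff_commute]
    exact hA.2.1 a ha y (hzA hy)
  exact (Subgroup.commutator_mono h1 le_rfl).trans h2

end Cfsg.Agent.Lib.H26.Gen
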