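import Mathlib
import Cfsg.Agent.Lib.H26.GenQuad

set_option autoImplicit false

/-!
The local statement behind "`F = ⟨C_F(℧¹(Z(S))), N_F(J(S))⟩`" (helper26).  Let `W` be a functor on
finite `p`-groups such that in every finite group `G` with Sylow `p`-subgroup `P` in which `W(P)`
is not normal some `g ∈ P ∖ O_p(G)` satisfies `[Z(O_p(G)), g, g] = 1`.  Then in a finite group `L`
with `C_L(O_p(L)) ≤ O_p(L)` every conjugation map between subgroups of `P` is a composite of
conjugation maps between subgroups of `P` by elements of `C_L(℧¹(Z(P)))` and of `N_L(W(P))`.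
-/

namespace Cfsg.Agent.Lib.H26.Gen

open Cfsg Cfsg.Agent.Lib.H26.Nil Cfsg.Agent.Lib.H15
open scoped commutatorElement

universe u

/-- The subgroup generated by the `p`-th powers of the central elements of `Q`. -/
def vOf (p : ℕ) {G : Type*} [Group G] (Q : Subgroup G) : Subgroup G :=
  Cfsg.powerClosure p 1 (Q ⊓ Subgroup.centralizer (Q : Set G))

theorem vOf_le (p : ℕ) {G : Type*} [Group G] (Q : Subgroup G) :
    vOf p Q ≤ Q ⊓ Subgroup.centralizer (Q : Set G) := by
  unfold vOf Cfsg.powerClosure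
  rw [Subgroup.closure_le]
  rintro y ⟨x, hx, rfl⟩
  exact Subgroup.pow_mem _ hx _

theorem pow_mem_vOf (p : ℕ) {G : Type*} [Group G] {Q : Subgroup G} {x : G}
    (hx : x ∈ Q ⊓ Subgroup.centralizer (Q : Set G)) : x ^ p ∈ vOf p Q := by
  apply Subgroup.subset_closure
  exact ⟨x, hx, by rw [pow_one]⟩

theorem mem_centralizer_closure {G : Type*} [Group G] {s : Set G} {c : G}
    (h : ∀ y ∈ s, y * c = c * y) : c ∈ Subgroup.centralizer ((Subgroup.closure s : Subgroup G) : Set G) := by
  have h1 : Subgroup.closure s ≤ Subgroup.centralizer ({c} : Set G) := by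
    rw [Subgroup.closure_le]
    intro y hy
    rw [SetLike.mem_coe, Subgroup.mem_centralizer_iff]
    intro x hx
    rw [Set.mem_singleton_iff] at hx
    subst hx
    exact (h y hy).symm
  rw [Subgroup.mem_centralizer_iff]
  intro y hy
  have h2 := h1 hy
  rw [Subgroup.mem_centralizer_iff] at h2
  exact (h2 c rfl).symm

/-- An element commuting with the `p`-th powers of the central elements of `Q` centralizes
`vOf p Q`. -/
theorem mem_centralizer_vOf (p : ℕ) {G : Type*} [Group G] {Q : Subgroup G} {c : G}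
    (h : ∀ x ∈ Q ⊓ Subgroup.centralizer (Q : Set G), x ^ p * c = c * x ^ p) :
    c ∈ Subgroup.centralizer ((vOf p Q : Subgroup G) : Set G) := by
  apply mem_centralizer_closure
  rintro y ⟨x, hx, rfl⟩
  rw [pow_one]
  exact h x hx

theorem vOf_map (p : ℕ) {G H : Type*} [Group G] [Group H] (f : G →* H) (Q : Subgroup G)
    (hf : Set.InjOn f (Q : Set G)) : vOf p (Q.map f) = (vOf p Q).map f := by
  unfold vOf Cfsg.powerClosure
  rw [MonoidHom.map_closure]
  congr 1
  ext y
  constructor
  · rintro ⟨x, ⟨⟨q, hq, rfl⟩, hxc⟩, rfl⟩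
    have hxc' : f q ∈ Subgroup.centralizer ((Q.map f : Subgroup H) : Set H) := hxc
    rw [Subgroup.mem_centralizer_iff] at hxc'
    refine ⟨q ^ p ^ 1, ⟨q, ⟨hq, ?_⟩, rfl⟩, by rw [map_pow]⟩
    show q ∈ Subgroup.centralizer (Q : Set G)
    rw [Subgroup.mem_centralizer_iff]
    intro q' hq'
    apply hf (Q.mul_mem hq' hq) (Q.mul_mem hq hq')
    rw [map_mul, map_mul]
    exact hxc' _ ⟨q', hq', rfl⟩
  · rintro ⟨_, ⟨x, ⟨hxQ, hxc⟩, rfl⟩, rfl⟩
    have hxc' : x ∈ Subgroup.centralizer (Q : Set G) := hxc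
    rw [Subgroup.mem_centralizer_iff] at hxc'
    refine ⟨f x, ⟨⟨x, hxQ, rfl⟩, ?_⟩, by rw [map_pow]⟩
    show f x ∈ Subgroup.centralizer ((Q.map f : Subgroup H) : Set H)
    rw [Subgroup.mem_centralizer_iff]
    rintro _ ⟨q', hq', rfl⟩
    rw [← map_mul, ← map_mul, hxc' q' hq']

/-- Conjugating a `p`-subgroup of a subgroup `M` containing the Sylow `p`-subgroup `P` into `P`
by an element of `M`. -/
theorem exists_conj_le_of_le {p : ℕ} [Fact p.Prime] {L : Type*} [Group L] [Finite L]
    (P : Sylow p L) (M : Subgroup L) (hPM : (P : Subgroup L) ≤ M) (B : Subgroup L) (hBM : B ≤ M)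
    (hB : IsPGroup p B) : ∃ m ∈ M, ∀ b ∈ B, m * b * m⁻¹ ∈ (P : Subgroup L) := by
  let P' : Sylow p ↥M := P.subtype hPM
  have hP'coe : (P' : Subgroup ↥M) = (P : Subgroup L).subgroupOf M := Sylow.coe_subtype _ _
  have hB' : IsPGroup p (B.subgroupOf M) := hB.comap_subtype
  obtain ⟨Q', hQ'⟩ := hB'.exists_le_sylow
  obtain ⟨g, hg⟩ := MulAction.exists_smul_eq ↥M Q' P'
  refine ⟨g, g.2, fun b hb => ?_⟩
  have h1 : (⟨b, hBM hb⟩ : ↥M) ∈ (Q' : Subgroup ↥M) := hQ' (Subgroup.mem_subgroupOf.2 hb)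
  have h2 : g * ⟨b, hBM hb⟩ * g⁻¹ ∈ ((g • Q' : Sylow p ↥M) : Subgroup ↥M) := by
    rw [Sylow.smul_def, Sylow.pointwise_smul_def]
    exact ⟨⟨b, hBM hb⟩, h1, rfl⟩
  rw [hg, hP'coe, Subgroup.mem_subgroupOf] at h2
  exact h2

variable {p : ℕ} [Fact p.Prime] (W : PFun.{u} p)

/-- The local statement. -/
theorem gen_local
    (hq : ∀ (G : Type u) [Group G] [Finite G] (P : Sylow p G),
      ¬ (W.W (P : Subgroup G)).Normal → ∃ g : G, g ∈ (P : Subgroup G) ∧ g ∉ pCore p G ∧
        ⁅⁅(Subgroup.center ↥(pCore p G)).map (pCore p G).subtype, Subgroup.zpowers g⁆,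
          Subgroup.zpowers g⁆ = ⊥) :
    ∀ n : ℕ, ∀ (L : Type u) [Group L] [Finite L], Nat.card L = n → ∀ P : Sylow p L,
      Subgroup.centralizer ((pCore p L : Subgroup L) : Set L) ≤ pCore p L →
      ∀ R : Subgroup L → L → Prop,
      (∀ (A : Subgroup L) (g h : L), A ≤ (P : Subgroup L) → H15.cj g A ≤ (P : Subgroup L) →
        H15.cj (h * g) A ≤ (P : Subgroup L) → R A g → R (H15.cj g A) h → R A (h * g)) →
      (∀ (A : Subgroup L) (g : L), A ≤ (P : Subgroup L) → H15.cj g A ≤ (P : Subgroup L) →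
        g ∈ Subgroup.centralizer ((vOf p (P : Subgroup L) : Subgroup L) : Set L) → R A g) →
      (∀ (A : Subgroup L) (g : L), A ≤ (P : Subgroup L) → H15.cj g A ≤ (P : Subgroup L) →
        g ∈ Subgroup.normalizer ((W.W (P : Subgroup L) : Subgroup L) : Set L) → R A g) →
      ∀ (A : Subgroup L) (g : L), A ≤ (P : Subgroup L) → H15.cj g A ≤ (P : Subgroup L) → R A g := by
  intro n
  induction n using Nat.strong_induction_on with
  | _ n IH =>
    intro L _ _ hcard P hchar R hcomp hC hN A g hAP hgA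
    by_cases hXn : (W.W (P : Subgroup L)).Normal
    · apply hN A g hAP hgA
      rw [Subgroup.normalizer_eq_top_iff.mpr hXn]
      exact Subgroup.mem_top g
    obtain ⟨g₀, hgP, hgQ, hquad⟩ := hq L P hXn
    set Q := pCore p L with hQdef
    have hQn : Q.Normal := Cfsg.Agent.Lib.H1.pCore_normal p L
    have hQP : Q ≤ P := Cfsg.Agent.Lib.H1.pCore_le_sylow P
    set A' := (Subgroup.center ↥Q).map Q.subtype with hA'def
    have memA' : ∀ a : L, a ∈ A' ↔ a ∈ Q ∧ ∀ q ∈ Q, q * a = a * q := by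
      intro a
      constructor
      · rintro ⟨a', ha', rfl⟩
        refine ⟨a'.2, fun q hq => ?_⟩
        have := Subgroup.mem_center_iff.1 ha' ⟨q, hq⟩
        exact congrArg Subtype.val this
      · rintro ⟨haQ, ha⟩
        have hc : (⟨a, haQ⟩ : ↥Q) ∈ Subgroup.center ↥Q := by
          rw [Subgroup.mem_center_iff]
          intro q
          exact Subtype.ext (ha q q.2)
        exact ⟨⟨a, haQ⟩, hc, rfl⟩
    have hA'conj : ∀ (t : L) (a : L), a ∈ A' → t * a * t⁻¹ ∈ A' := by
      intro t a ha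
      obtain ⟨haQ, hac⟩ := (memA' a).1 ha
      refine (memA' _).2 ⟨hQn.conj_mem a haQ t, fun q hq => ?_⟩
      have h1 : t⁻¹ * q * t ∈ Q := by
        have := hQn.conj_mem q hq t⁻¹
        simpa using this
      have h2 := hac _ h1
      calc q * (t * a * t⁻¹) = t * ((t⁻¹ * q * t) * a) * t⁻¹ := by group
        _ = t * (a * (t⁻¹ * q * t)) * t⁻¹ := by rw [h2]
        _ = t * a * t⁻¹ * q := by group
    have hA'comm : ∀ a b : L, a ∈ A' → b ∈ A' → a * b = b * a := by
      intro a b ha hb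
      exact ((memA' b).1 hb).2 a ((memA' a).1 ha).1
    -- the centre of `P` lies in `A'`
    have hZA' : ∀ y ∈ (P : Subgroup L) ⊓ Subgroup.centralizer ((P : Subgroup L) : Set L),
        y ∈ A' := by
      intro y hy
      have hyc : y ∈ Subgroup.centralizer ((P : Subgroup L) : Set L) := hy.2
      rw [Subgroup.mem_centralizer_iff] at hyc
      have hyQ : y ∈ Q := by
        apply hchar
        rw [Subgroup.mem_centralizer_iff]
        intro q hq
        exact hyc q (hQP hq)
      exact (memA' y).2 ⟨hyQ, fun q hq => hyc q (hQP hq)⟩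
    -- the quadratic element of order `p` modulo `Q`
    have hPp : IsPGroup p (P : Subgroup L) := P.2
    obtain ⟨k, hk⟩ := hPp ⟨g₀, hgP⟩
    have hk' : g₀ ^ p ^ k = 1 := congrArg Subtype.val hk
    have hex : ∃ j : ℕ, g₀ ^ p ^ j ∈ Q := ⟨k, by rw [hk']; exact Q.one_mem⟩
    classical
    set j₀ := Nat.find hex with hj₀def
    have hj₀ : g₀ ^ p ^ j₀ ∈ Q := Nat.find_spec hex
    have hj₀pos : j₀ ≠ 0 := by
      intro h0
      rw [h0, pow_zero, pow_one] at hj₀
      exact hgQ hj₀
    obtain ⟨j₁, hj₁⟩ := Nat.exists_eq_succ_of_ne_zero hj₀pos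
    set h := g₀ ^ p ^ j₁ with hhdef
    have hhQ : h ∉ Q := by
      have := Nat.find_min hex (show j₁ < j₀ by omega)
      exact this
    have hhp : h ^ p ∈ Q := by
      have : h ^ p = g₀ ^ p ^ j₀ := by
        rw [hhdef, ← pow_mul, hj₁, pow_succ]
      rw [this]; exact hj₀
    have hhP : h ∈ (P : Subgroup L) := Subgroup.pow_mem _ hgP _
    have hhz : h ∈ Subgroup.zpowers g₀ := Subgroup.pow_mem _ (Subgroup.mem_zpowers g₀) _
    -- `h` centralizes the `p`-th powers of the elements of `A'`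
    have hpow : ∀ a ∈ A', h * a ^ p = a ^ p * h := by
      intro a ha
      set c := ⁅a, h⁆ with hcdef
      have hc1 : ⁅c, h⁆ = 1 := by
        have h1 : ⁅c, h⁆ ∈ ⁅⁅A', Subgroup.zpowers g₀⁆, Subgroup.zpowers g₀⁆ :=
          Subgroup.commutator_mem_commutator (Subgroup.commutator_mem_commutator ha hhz) hhz
        rw [hquad] at h1
        exact Subgroup.mem_bot.1 h1
      have hch : Commute c h := commutatorElement_eq_one_iff_commute.1 hc1
      have hcA' : c ∈ A' := by
        have h1 : h * a⁻¹ * h⁻¹ ∈ A' := hA'conj h _ (A'.inv_mem ha)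
        have h2 : c = a * (h * a⁻¹ * h⁻¹) := by
          rw [hcdef, commutatorElement_def]; group
        rw [h2]; exact A'.mul_mem ha h1
      have hca : Commute c a := hA'comm c a hcA' ha
      have hconj : h * a * h⁻¹ = c⁻¹ * a := by
        rw [hcdef, commutatorElement_def]; group
      have hiter : ∀ m : ℕ, h ^ m * a * (h ^ m)⁻¹ = (c⁻¹) ^ m * a := by
        intro m
        induction m with
        | zero => simp
        | succ m ihm =>
          have hch' : Commute h ((c⁻¹) ^ m) := (hch.symm.inv_right).pow_right m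
          calc h ^ (m + 1) * a * (h ^ (m + 1))⁻¹
              = h * (h ^ m * a * (h ^ m)⁻¹) * h⁻¹ := by
                rw [pow_succ']; group
            _ = h * ((c⁻¹) ^ m * a) * h⁻¹ := by rw [ihm]
            _ = (c⁻¹) ^ m * (h * a * h⁻¹) := by
                have e : h * (c⁻¹) ^ m = (c⁻¹) ^ m * h := hch'.eq
                calc h * ((c⁻¹) ^ m * a) * h⁻¹ = (h * (c⁻¹) ^ m) * a * h⁻¹ := by group
                  _ = ((c⁻¹) ^ m * h) * a * h⁻¹ := by rw [e]
                  _ = (c⁻¹) ^ m * (h * a * h⁻¹) := by group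
            _ = (c⁻¹) ^ m * (c⁻¹ * a) := by rw [hconj]
            _ = (c⁻¹) ^ (m + 1) * a := by rw [pow_succ]; group
      have hcp : (c⁻¹) ^ p = 1 := by
        have h1 := hiter p
        have h2 : h ^ p * a * (h ^ p)⁻¹ = a := by
          have := ((memA' a).1 ha).2 _ hhp
          rw [this, mul_inv_cancel_right]
        rw [h2] at h1
        have h3 : (c⁻¹) ^ p * a = 1 * a := by rw [one_mul]; exact h1.symm
        exact mul_right_cancel h3
      have h1 : h * a ^ p * h⁻¹ = a ^ p := by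
        have e1 : h * a ^ p * h⁻¹ = (h * a * h⁻¹) ^ p := (conj_pow (a := h) (b := a) (i := p)).symm
        rw [e1, hconj, (hca.inv_left).mul_pow, hcp, one_mul]
      calc h * a ^ p = (h * a ^ p * h⁻¹) * h := by group
        _ = a ^ p * h := by rw [h1]
    -- the centralizer of the `p`-th powers
    set V : Set L := {v | ∃ a ∈ A', a ^ p = v} with hVdef
    set C₁ := Subgroup.centralizer V with hC₁def
    have hC₁n : C₁.Normal := by
      constructor
      intro c hc t
      rw [hC₁def, Subgroup.mem_centralizer_iff] at hc ⊢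
      rintro v ⟨a, ha, rfl⟩
      have h1 : t⁻¹ * a * t ∈ A' := by
        have := hA'conj t⁻¹ a ha
        simpa using this
      have h2 : (t⁻¹ * a * t) ^ p ∈ V := ⟨_, h1, rfl⟩
      have h3 := hc _ h2
      have h4 : (t⁻¹ * a * t) ^ p = t⁻¹ * a ^ p * t := by
        have := conj_pow (a := t⁻¹) (b := a) (i := p)
        simpa using this
      rw [h4] at h3
      calc a ^ p * (t * c * t⁻¹) = t * ((t⁻¹ * a ^ p * t) * c) * t⁻¹ := by group
        _ = t * (c * (t⁻¹ * a ^ p * t)) * t⁻¹ := by rw [h3]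
        _ = t * c * t⁻¹ * a ^ p := by group
    have hhC₁ : h ∈ C₁ := by
      rw [hC₁def, Subgroup.mem_centralizer_iff]
      rintro v ⟨a, ha, rfl⟩
      exact (hpow a ha).symm
    have hC₁V : C₁ ≤ Subgroup.centralizer ((vOf p (P : Subgroup L) : Subgroup L) : Set L) := by
      intro c hc
      apply mem_centralizer_vOf
      intro x hx
      rw [hC₁def, Subgroup.mem_centralizer_iff] at hc
      exact hc _ ⟨x, hZA' x hx, rfl⟩
    -- the Frattini argument
    set P₁ := (P : Subgroup L) ⊓ C₁ with hP₁def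
    set H := Subgroup.normalizer ((P₁ : Subgroup L) : Set L) with hHdef
    have hPH : (P : Subgroup L) ≤ H := by
      intro t ht
      rw [hHdef, Subgroup.mem_normalizer_iff]
      intro x
      constructor
      · rintro ⟨hxP, hxC⟩
        have hxP' : x ∈ (P : Subgroup L) := hxP
        have h1 : t * x * t⁻¹ ∈ (P : Subgroup L) :=
          Subgroup.mul_mem _ (Subgroup.mul_mem _ ht hxP') (Subgroup.inv_mem _ ht)
        exact ⟨h1, hC₁n.conj_mem x hxC t⟩
      · rintro ⟨hxP, hxC⟩
        have hxP' : t * x * t⁻¹ ∈ (P : Subgroup L) := hxP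
        have h1 : t⁻¹ * (t * x * t⁻¹) * t ∈ (P : Subgroup L) :=
          Subgroup.mul_mem _ (Subgroup.mul_mem _ (Subgroup.inv_mem _ ht) hxP') ht
        have h2 : t⁻¹ * (t * x * t⁻¹) * t⁻¹⁻¹ ∈ C₁ := hC₁n.conj_mem _ hxC t⁻¹
        have e : t⁻¹ * (t * x * t⁻¹) * t = x := by group
        have e' : t⁻¹ * (t * x * t⁻¹) * t⁻¹⁻¹ = x := by group
        rw [e] at h1
        rw [e'] at h2
        exact ⟨h1, h2⟩
    have hHtop : H ≠ ⊤ := by
      intro hHtop
      have hP₁n : P₁.Normal := Subgroup.normalizer_eq_top_iff.mp hHtop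
      have hP₁p : IsPGroup p P₁ := hPp.to_le inf_le_left
      exact hhQ (Cfsg.Agent.Lib.H1.le_pCore hP₁n hP₁p ⟨hhP, hhC₁⟩)
    have hlt : Nat.card ↥H < n := by
      rw [← hcard]
      have hidx : H.index ≠ 1 := by
        intro h1
        exact hHtop (Subgroup.index_eq_one.1 h1)
      have hmul := Subgroup.card_mul_index H
      have hpos : 0 < Nat.card ↥H := Nat.card_pos
      have hidx0 : H.index ≠ 0 := Subgroup.index_ne_zero_of_finite
      have : 2 ≤ H.index := by omega
      nlinarith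
    -- the decomposition `g = t * c`
    set D := H15.cj g⁻¹ P₁ with hDdef
    have hDC₁ : D ≤ C₁ := by
      intro x hx
      rw [hDdef, mem_cj_iff] at hx
      have h1 := hC₁n.conj_mem _ hx.2 g⁻¹
      have e : g⁻¹ * (g⁻¹⁻¹ * x * g⁻¹) * g⁻¹⁻¹ = x := by group
      rwa [e] at h1
    have hAD : A ≤ Subgroup.normalizer (D : Set L) := by
      intro a ha
      apply mem_normalizer_of_cj_le
      have h1 : g * a * g⁻¹ ∈ H := hPH (hgA (conj_mem_cj ha))
      have h2 : H15.cj (g * a * g⁻¹) P₁ = P₁ := mem_normalizer_iff_cj_eq.1 h1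
      rw [hDdef, cj_cj]
      have e : a * g⁻¹ = g⁻¹ * (g * a * g⁻¹) := by group
      rw [e, ← cj_cj, h2]
    have hDp : IsPGroup p D := by
      have h1 : IsPGroup p P₁ := hPp.to_le inf_le_left
      exact h1.map _
    have hAp : IsPGroup p A := hPp.to_le hAP
    have hUp : IsPGroup p (A ⊔ D : Subgroup L) := hAp.to_sup_of_normal_right' hDp hAD
    have hUM : A ⊔ D ≤ (P : Subgroup L) ⊔ C₁ :=
      sup_le (hAP.trans le_sup_left) (hDC₁.trans le_sup_right)
    obtain ⟨m, hmM, hm⟩ := exists_conj_le_of_le P ((P : Subgroup L) ⊔ C₁) le_sup_left _ hUM hUp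
    have hmM' : m ∈ (((P : Subgroup L) ⊔ C₁ : Subgroup L) : Set L) := hmM
    rw [Subgroup.mul_normal] at hmM'
    obtain ⟨s, hs, c, hc, rfl⟩ := Set.mem_mul.1 hmM'
    have hs' : s ∈ (P : Subgroup L) := hs
    have hc' : c ∈ C₁ := hc
    have hcU : ∀ u ∈ A ⊔ D, c * u * c⁻¹ ∈ (P : Subgroup L) := by
      intro u hu
      have h1 := hm u hu
      have h2 : s⁻¹ * (s * c * u * (s * c)⁻¹) * s ∈ (P : Subgroup L) :=
        Subgroup.mul_mem _ (Subgroup.mul_mem _ (Subgroup.inv_mem _ hs') h1) hs'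
      have e : s⁻¹ * (s * c * u * (s * c)⁻¹) * s = c * u * c⁻¹ := by group
      rwa [e] at h2
    have hcA : H15.cj c A ≤ (P : Subgroup L) := by
      rintro _ ⟨a, ha, rfl⟩
      exact hcU a ((le_sup_left : A ≤ A ⊔ D) ha)
    have hcD : H15.cj c D ≤ P₁ := by
      rintro _ ⟨d, hd, rfl⟩
      exact ⟨hcU d ((le_sup_right : D ≤ A ⊔ D) hd), hC₁n.conj_mem d (hDC₁ hd) c⟩
    have hcD' : H15.cj (c * g⁻¹) P₁ ≤ P₁ := by
      rw [← cj_cj]; exact hcD
    have hcgH : c * g⁻¹ ∈ H := mem_normalizer_of_cj_le hcD'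
    set t := g * c⁻¹ with htdef
    have htH : t ∈ H := by
      have : t = (c * g⁻¹)⁻¹ := by rw [htdef]; group
      rw [this]; exact H.inv_mem hcgH
    have hgtc : g = t * c := by rw [htdef]; group
    have hR1 : R A c := hC A c hAP hcA (hC₁V hc')
    have htcA : H15.cj (t * c) A ≤ (P : Subgroup L) := by rw [← hgtc]; exact hgA
    -- induction in `H`
    let P' : Sylow p ↥H := P.subtype hPH
    have hP'coe : (P' : Subgroup ↥H) = (P : Subgroup L).subgroupOf H := Sylow.coe_subtype _ _
    have hcharH := Cfsg.Agent.Lib.H26.CtlA.charp_of_sylow_le P H hPH hchar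
    have hfinP' : Finite (P' : Subgroup ↥H) := inferInstance
    have hmapP' : (P' : Subgroup ↥H).map H.subtype = (P : Subgroup L) := by
      rw [hP'coe]
      exact Subgroup.map_subgroupOf_eq_of_le hPH
    have hWmap : W.W (P : Subgroup L) = (W.W (P' : Subgroup ↥H)).map H.subtype := by
      have := W.map H.subtype (P' : Subgroup ↥H) hfinP' P'.2 (H.subtype_injective.injOn)
      rw [hmapP'] at this
      exact this
    have hVmap : vOf p (P : Subgroup L) = (vOf p (P' : Subgroup ↥H)).map H.subtype := by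
      have := vOf_map p H.subtype (P' : Subgroup ↥H) (H.subtype_injective.injOn)
      rw [hmapP'] at this
      exact this
    have hle : ∀ B : Subgroup ↥H, B ≤ (P' : Subgroup ↥H) → B.map H.subtype ≤ (P : Subgroup L) := by
      intro B hB
      rw [← hmapP']
      exact Subgroup.map_mono hB
    have hcjmap : ∀ (B : Subgroup ↥H) (x : ↥H), (H15.cj x B).map H.subtype = H15.cj (x : L) (B.map H.subtype) := by
      intro B x
      ext y
      constructor
      · rintro ⟨_, ⟨b, hb, rfl⟩, rfl⟩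
        exact ⟨b, ⟨b, hb, rfl⟩, rfl⟩
      · rintro ⟨_, ⟨b, hb, rfl⟩, rfl⟩
        exact ⟨x * b * x⁻¹, ⟨b, hb, rfl⟩, rfl⟩
    have hres := IH _ hlt ↥H rfl P' hcharH (fun B x => R (B.map H.subtype) (x : L))
      (by
        intro B x y hB hxB hyxB h1 h2
        have e1 := hcjmap B x
        have e2 := hcjmap B (y * x)
        show R (B.map H.subtype) ((y : L) * (x : L))
        apply hcomp _ _ _ (hle B hB)
        · rw [← e1]; exact hle _ hxB
        · have : ((y * x : ↥H) : L) = (y : L) * (x : L) := rfl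
          rw [← this, ← e2]; exact hle _ hyxB
        · exact h1
        · rw [← e1]; exact h2)
      (by
        intro B x hB hxB hx
        apply hC _ _ (hle B hB)
        · rw [← hcjmap]; exact hle _ hxB
        · rw [hVmap, Subgroup.mem_centralizer_iff]
          rintro _ ⟨v, hv, rfl⟩
          rw [Subgroup.mem_centralizer_iff] at hx
          exact congrArg Subtype.val (hx v hv))
      (by
        intro B x hB hxB hx
        apply hN _ _ (hle B hB)
        · rw [← hcjmap]; exact hle _ hxB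
        · rw [hWmap]
          exact Subgroup.le_normalizer_map H.subtype ⟨x, hx, rfl⟩)
      ((H15.cj c A).subgroupOf H) ⟨t, htH⟩
      (by
        rw [hP'coe]
        intro x hx
        have hx' : (x : L) ∈ H15.cj c A := Subgroup.mem_subgroupOf.1 hx
        exact Subgroup.mem_subgroupOf.2 (hcA hx'))
      (by
        rw [hP'coe]
        rintro _ ⟨x, hx, rfl⟩
        have hx' : (x : L) ∈ H15.cj c A := Subgroup.mem_subgroupOf.1 hx
        apply Subgroup.mem_subgroupOf.2
        apply htcA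
        rw [← cj_cj]
        exact ⟨_, hx', rfl⟩)
    have hmapcA : ((H15.cj c A).subgroupOf H).map H.subtype = H15.cj c A :=
      Subgroup.map_subgroupOf_eq_of_le (hcA.trans hPH)
    have hR2 : R (H15.cj c A) t := by
      have := hres
      rw [hmapcA] at this
      exact this
    rw [hgtc]
    exact hcomp A c t hAP hcA htcA hR1 hR2

end Cfsg.Agent.Lib.H26.Gen
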