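import Mathlib
import Cfsg.Agent.Lib.H26.GenLocal
import Cfsg.Agent.Lib.H26.CtlCenter

set_option autoImplicit false

/-!
`F = ⟨C_F(℧¹(Z(S))), N_F(W(S))⟩` for a constrained saturated fusion system, through the model
(helper26).
-/

namespace Cfsg.Agent.Lib.H26.Gen

open Cfsg Cfsg.FusionSystem Cfsg.Agent.Lib.H25 Cfsg.Agent.Lib.H26 Cfsg.Agent.Lib.H26.Nil
  Cfsg.Agent.Lib.H26.Model Cfsg.Agent.Lib.H26.ZJ Cfsg.Agent.Lib.H15

universe u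

variable {Ω : Type u} [Group Ω] {S : Subgroup Ω}

/-- Maps of `F` defined on overgroups of `V` that fix `V` elementwise are maps of `E`. -/
def CGood (F E : FusionSystem S) (V : Subgroup Ω) : Prop :=
  ∀ (A B : Subgroup Ω) (g : Ω → Ω), V ≤ A → IsIso F A B g → (∀ x ∈ V, g x = x) → IsIso E A B g

theorem vOf_eq_map_top (p : ℕ) (S : Subgroup Ω) :
    vOf p S = (vOf p (⊤ : Subgroup S)).map S.subtype := by
  have := vOf_map p S.subtype ⊤ (S.subtype_injective.injOn)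
  rwa [← MonoidHom.range_eq_map, Subgroup.range_subtype] at this

theorem imgOf_vOf (p : ℕ) {G : Type u} [Group G] {ι : S →* G} (hinj : Function.Injective ι) :
    imgOf ι (vOf p S) = vOf p ι.range := by
  have h1 := vOf_eq_map_top p S
  have h2 : (vOf p S).subgroupOf S = vOf p (⊤ : Subgroup S) := by
    rw [h1, Subgroup.subgroupOf, Subgroup.comap_map_eq_self_of_injective S.subtype_injective]
  unfold imgOf
  rw [h2, ← vOf_map p ι ⊤ hinj.injOn, ← MonoidHom.range_eq_map]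

/-- Conjugation by `g`, read through `ι`, on a join of two subgroups whose images are conjugated
into the image of `S`. -/
theorem exists_conjMap_sup {G : Type u} [Group G] {ι : S →* G} (hinj : Function.Injective ι)
    (g : G) {A X : Subgroup Ω} (hA : A ≤ S) (hX : X ≤ S)
    (hmemA : ∀ x (hx : x ∈ S), x ∈ A → g * ι ⟨x, hx⟩ * g⁻¹ ∈ ι.range)
    (hmemX : ∀ x (hx : x ∈ S), x ∈ X → g * ι ⟨x, hx⟩ * g⁻¹ ∈ ι.range) :
    ∃ φ : (A ⊔ X : Subgroup Ω) →* Ω, ∀ x : (A ⊔ X : Subgroup Ω),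
      ∃ h : φ x ∈ S, ι ⟨φ x, h⟩ = g * ι ⟨x, (sup_le hA hX) x.2⟩ * g⁻¹ := by
  have hle : A ⊔ X ≤ preSub ι (H15.cj g⁻¹ ι.range) := by
    apply sup_le
    · intro x hx
      refine mem_preSub.2 ⟨hA hx, ?_⟩
      rw [mem_cj_iff, inv_inv]
      exact hmemA x (hA hx) hx
    · intro x hx
      refine mem_preSub.2 ⟨hX hx, ?_⟩
      rw [mem_cj_iff, inv_inv]
      exact hmemX x (hX hx) hx
  apply exists_conjMap hinj g (sup_le hA hX)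
  intro x
  obtain ⟨_, h⟩ := mem_preSub.1 (hle x.2)
  rw [mem_cj_iff, inv_inv] at h
  exact h

section main

variable {p : ℕ} [Fact p.Prime] (W : PFun.{u} p)
  (hq : ∀ (G : Type u) [Group G] [Finite G] (P : Sylow p G),
      ¬ (W.W (P : Subgroup G)).Normal → ∃ g : G, g ∈ (P : Subgroup G) ∧ g ∉ pCore p G ∧
        ⁅⁅(Subgroup.center ↥(pCore p G)).map (pCore p G).subtype, Subgroup.zpowers g⁆,
          Subgroup.zpowers g⁆ = ⊥)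

include hq in
/-- The constrained case, through the model. -/
theorem gen_of_constrained [Finite S] (hS : IsPGroup p S) {F : FusionSystem S}
    (hF : F.IsSaturated p) {Q : Subgroup Ω} (hQ : F.IsNormal Q) (hCQ : centralizerIn S Q ≤ Q)
    (E : FusionSystem S) (hC : CGood F E (vOf p S)) (hN : ZJ.Good F E (W.W S)) :
    ∀ P : Subgroup Ω, F.Hom P ⊆ E.Hom P := by
  have hQS := hQ.1
  have hWS : W.W S ≤ S := W.le S
  have hVS : vOf p S ≤ S := (vOf_le p S).trans inf_le_left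
  have hWN : normalizerIn S (W.W S) = S := W.normalizerIn_self S hS
  have hQc : F.IsCentric Q := isCentric_of_isNormal hQ hCQ
  have hcon : F.IsConstrained p := ⟨hF, Q, hQ, hQc⟩
  obtain ⟨G, hG, ι, hM⟩ := Cfsg.Agent.S5090.result p hS F hcon
  obtain ⟨hfinG, hreal, ⟨T, hT⟩, hCU⟩ := hM
  have hinj := hreal.1
  have hWT : W.W (T : Subgroup G) = imgOf ι (W.W S) := by
    rw [hT]; exact (W.imgOf_eq hS hinj).symm
  have hVT : vOf p (T : Subgroup G) = imgOf ι (vOf p S) := by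
    rw [hT]; exact (imgOf_vOf p hinj).symm
  -- the relation
  let R : Subgroup G → G → Prop := fun A' g =>
    ∀ (A : Subgroup Ω) (hAS : A ≤ S) (ψ : A →* Ω) (hψS : ∀ x : A, ψ x ∈ S), imgOf ι A = A' →
      (∀ x : A, ι ⟨ψ x, hψS x⟩ = g * ι ⟨x, hAS x.2⟩ * g⁻¹) → ψ ∈ E.Hom A
  have hcomp : ∀ (A' : Subgroup G) (g h : G), A' ≤ (T : Subgroup G) →
      H15.cj g A' ≤ (T : Subgroup G) → H15.cj (h * g) A' ≤ (T : Subgroup G) → R A' g →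
      R (H15.cj g A') h → R A' (h * g) := by
    intro A' g h hA' hgA' hhgA' hR1 hR2 A hAS ψ hψS himg hψ
    have hmem1 : ∀ x : A, g * ι ⟨x, hAS x.2⟩ * g⁻¹ ∈ ι.range := by
      intro x
      rw [← hT]
      apply hgA'
      rw [← himg]
      exact ⟨_, mem_imgOf.2 ⟨x, hAS x.2, x.2, rfl⟩, rfl⟩
    obtain ⟨ψ₁, hψ₁⟩ := exists_conjMap hinj g hAS hmem1
    have hψ₁E : ψ₁ ∈ E.Hom A := hR1 A hAS ψ₁ (fun x => (hψ₁ x).1) himg (fun x => (hψ₁ x).2)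
    have hA₁S : ψ₁.range ≤ S := by
      rintro _ ⟨x, rfl⟩
      exact (hψ₁ x).1
    have himg₁ : imgOf ι ψ₁.range = H15.cj g A' := by
      rw [← himg]
      ext y
      rw [mem_imgOf]
      constructor
      · rintro ⟨z, hzS, ⟨x, rfl⟩, rfl⟩
        rw [(hψ₁ x).2]
        exact ⟨_, mem_imgOf.2 ⟨x, hAS x.2, x.2, rfl⟩, rfl⟩
      · rintro ⟨_, hy, rfl⟩
        obtain ⟨x, hxS, hxA, rfl⟩ := mem_imgOf.1 hy
        exact ⟨ψ₁ ⟨x, hxA⟩, (hψ₁ ⟨x, hxA⟩).1, ⟨⟨x, hxA⟩, rfl⟩, (hψ₁ ⟨x, hxA⟩).2⟩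
    have hmem2 : ∀ z : ψ₁.range, h * ι ⟨z, hA₁S z.2⟩ * h⁻¹ ∈ ι.range := by
      intro z
      rw [← hT]
      apply hhgA'
      rw [← cj_cj, ← himg₁]
      exact ⟨_, mem_imgOf.2 ⟨z, hA₁S z.2, z.2, rfl⟩, rfl⟩
    obtain ⟨ψ₂, hψ₂⟩ := exists_conjMap hinj h hA₁S hmem2
    have hψ₂E : ψ₂ ∈ E.Hom ψ₁.range :=
      hR2 ψ₁.range hA₁S ψ₂ (fun x => (hψ₂ x).1) himg₁ (fun x => (hψ₂ x).2)
    have hcod : ∀ x : A, ψ₁ x ∈ ψ₁.range := fun x => ⟨x, rfl⟩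
    have hcompE := E.comp_mem hψ₁E hψ₂E hcod
    have heq : ψ = ψ₂.comp (ψ₁.codRestrict ψ₁.range hcod) := by
      ext x
      have h1 := hψ x
      have h2 := (hψ₂ ⟨ψ₁ x, hcod x⟩).2
      have h3 := (hψ₁ x).2
      have h4 : ι ⟨ψ x, hψS x⟩ = ι ⟨ψ₂ ⟨ψ₁ x, hcod x⟩, (hψ₂ ⟨ψ₁ x, hcod x⟩).1⟩ := by
        rw [h1, h2]
        have : (⟨((⟨ψ₁ x, hcod x⟩ : ψ₁.range) : Ω), hA₁S (hcod x)⟩ : S) = ⟨ψ₁ x, (hψ₁ x).1⟩ := rfl
        rw [this, h3]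
        group
      exact congrArg Subtype.val (hinj h4)
    rw [heq]
    exact hcompE
  -- centralizer of `V`
  have hbaseC : ∀ (A' : Subgroup G) (g : G), A' ≤ (T : Subgroup G) →
      H15.cj g A' ≤ (T : Subgroup G) →
      g ∈ Subgroup.centralizer ((vOf p (T : Subgroup G) : Subgroup G) : Set G) → R A' g := by
    intro A' g hA' hgA' hg A hAS ψ hψS himg hψ
    rw [hVT, Subgroup.mem_centralizer_iff] at hg
    have hmemA : ∀ x (hx : x ∈ S), x ∈ A → g * ι ⟨x, hx⟩ * g⁻¹ ∈ ι.range := by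
      intro x hx hxA
      rw [← hT]
      apply hgA'
      rw [← himg]
      exact ⟨_, mem_imgOf.2 ⟨x, hx, hxA, rfl⟩, rfl⟩
    have hfix : ∀ x (hx : x ∈ S), x ∈ vOf p S → g * ι ⟨x, hx⟩ * g⁻¹ = ι ⟨x, hx⟩ := by
      intro x hx hxV
      have := hg (ι ⟨x, hx⟩) (mem_imgOf.2 ⟨x, hx, hxV, rfl⟩)
      rw [← this, mul_inv_cancel_right]
    have hmemX : ∀ x (hx : x ∈ S), x ∈ vOf p S → g * ι ⟨x, hx⟩ * g⁻¹ ∈ ι.range := by
      intro x hx hxV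
      rw [hfix x hx hxV]
      exact ⟨_, rfl⟩
    obtain ⟨ψ₂, hψ₂⟩ := exists_conjMap_sup hinj g hAS hVS hmemA hmemX
    have hA₂S : A ⊔ vOf p S ≤ S := sup_le hAS hVS
    have hψ₂F : ψ₂ ∈ F.Hom (A ⊔ vOf p S) :=
      (hreal.2 _ hA₂S ψ₂ (fun x => (hψ₂ x).1)).2 ⟨g, fun x => (hψ₂ x).2⟩
    have h1 : IsIso F (A ⊔ vOf p S) ψ₂.range (ext1 ψ₂) := isIso_of_mem F hψ₂F
    have h2 : ∀ x ∈ vOf p S, ext1 ψ₂ x = x := by
      intro x hx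
      have hx' : x ∈ A ⊔ vOf p S := (le_sup_right : vOf p S ≤ A ⊔ vOf p S) hx
      rw [ext1_apply_mem ψ₂ hx']
      have h3 := (hψ₂ ⟨x, hx'⟩).2
      rw [hfix x (hVS hx) hx] at h3
      exact congrArg Subtype.val (hinj h3)
    have h3 := hC _ _ _ le_sup_right h1 h2
    obtain ⟨B', -, h4, -⟩ := h3.restrict (le_sup_left : A ≤ A ⊔ vOf p S)
    apply mem_hom_of_isIso E h4
    intro x
    have hx' : (x : Ω) ∈ A ⊔ vOf p S := (le_sup_left : A ≤ A ⊔ vOf p S) x.2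
    rw [ext1_apply_mem ψ₂ hx']
    have h5 := (hψ₂ ⟨x, hx'⟩).2
    have h6 : ι ⟨ψ x, hψS x⟩ = ι ⟨ψ₂ ⟨x, hx'⟩, (hψ₂ ⟨x, hx'⟩).1⟩ := by
      rw [hψ x, h5]
    exact congrArg Subtype.val (hinj h6)
  -- normalizer of `W`
  have hbaseN : ∀ (A' : Subgroup G) (g : G), A' ≤ (T : Subgroup G) →
      H15.cj g A' ≤ (T : Subgroup G) →
      g ∈ Subgroup.normalizer ((W.W (T : Subgroup G) : Subgroup G) : Set G) → R A' g := by
    intro A' g hA' hgA' hg A hAS ψ hψS himg hψ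
    rw [hWT] at hg
    have hmemA : ∀ x (hx : x ∈ S), x ∈ A → g * ι ⟨x, hx⟩ * g⁻¹ ∈ ι.range := by
      intro x hx hxA
      rw [← hT]
      apply hgA'
      rw [← himg]
      exact ⟨_, mem_imgOf.2 ⟨x, hx, hxA, rfl⟩, rfl⟩
    have hnorm : ∀ x (hx : x ∈ S), x ∈ W.W S →
        ∃ (y : Ω) (hy : y ∈ S), y ∈ W.W S ∧ ι ⟨y, hy⟩ = g * ι ⟨x, hx⟩ * g⁻¹ := by
      intro x hx hxW
      have h1 : ι ⟨x, hx⟩ ∈ imgOf ι (W.W S) := mem_imgOf.2 ⟨x, hx, hxW, rfl⟩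
      have h2 := (Subgroup.mem_normalizer_iff.1 hg _).1 h1
      exact mem_imgOf.1 h2
    have hnorm' : ∀ y (hy : y ∈ S), y ∈ W.W S →
        ∃ (x : Ω) (hx : x ∈ S), x ∈ W.W S ∧ ι ⟨y, hy⟩ = g * ι ⟨x, hx⟩ * g⁻¹ := by
      intro y hy hyW
      have h1 : ι ⟨y, hy⟩ ∈ imgOf ι (W.W S) := mem_imgOf.2 ⟨y, hy, hyW, rfl⟩
      have h2 : g * (g⁻¹ * ι ⟨y, hy⟩ * g) * g⁻¹ ∈ imgOf ι (W.W S) := by
        have e : g * (g⁻¹ * ι ⟨y, hy⟩ * g) * g⁻¹ = ι ⟨y, hy⟩ := by group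
        rw [e]; exact h1
      have h3 := (Subgroup.mem_normalizer_iff.1 hg _).2 h2
      obtain ⟨x, hx, hxW, hxe⟩ := mem_imgOf.1 h3
      refine ⟨x, hx, hxW, ?_⟩
      rw [hxe]; group
    have hmemX : ∀ x (hx : x ∈ S), x ∈ W.W S → g * ι ⟨x, hx⟩ * g⁻¹ ∈ ι.range := by
      intro x hx hxW
      obtain ⟨y, hy, -, hye⟩ := hnorm x hx hxW
      exact ⟨⟨y, hy⟩, hye⟩
    obtain ⟨ψ₂, hψ₂⟩ := exists_conjMap_sup hinj g hAS hWS hmemA hmemX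
    have hA₂S : A ⊔ W.W S ≤ S := sup_le hAS hWS
    have hψ₂F : ψ₂ ∈ F.Hom (A ⊔ W.W S) :=
      (hreal.2 _ hA₂S ψ₂ (fun x => (hψ₂ x).1)).2 ⟨g, fun x => (hψ₂ x).2⟩
    have h1 : IsIso F (A ⊔ W.W S) ψ₂.range (ext1 ψ₂) := isIso_of_mem F hψ₂F
    have h2 : IsIso F (W.W S) (W.W S) (ext1 ψ₂) := by
      refine h1.restrict' le_sup_right (fun x hx => ?_) (fun y hy => ?_)
      · have hx' : x ∈ A ⊔ W.W S := (le_sup_right : W.W S ≤ A ⊔ W.W S) hx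
        rw [ext1_apply_mem ψ₂ hx']
        obtain ⟨y, hy, hyW, hye⟩ := hnorm x (hWS hx) hx
        have h3 := (hψ₂ ⟨x, hx'⟩).2
        have h4 : (⟨ψ₂ ⟨x, hx'⟩, (hψ₂ ⟨x, hx'⟩).1⟩ : S) = ⟨y, hy⟩ := hinj (h3.trans hye.symm)
        have h5 : ψ₂ ⟨x, hx'⟩ = y := congrArg Subtype.val h4
        rw [h5]; exact hyW
      · obtain ⟨x, hx, hxW, hxe⟩ := hnorm' y (hWS hy) hy
        have hx' : x ∈ A ⊔ W.W S := (le_sup_right : W.W S ≤ A ⊔ W.W S) hxW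
        refine ⟨x, hxW, ?_⟩
        rw [ext1_apply_mem ψ₂ hx']
        have h3 := (hψ₂ ⟨x, hx'⟩).2
        have h4 : (⟨ψ₂ ⟨x, hx'⟩, (hψ₂ ⟨x, hx'⟩).1⟩ : S) = ⟨y, hWS hy⟩ := hinj (h3.trans hxe.symm)
        exact congrArg Subtype.val h4
    have hle : A ⊔ W.W S ≤ normalizerIn S (W.W S) := by rw [hWN]; exact hA₂S
    have h3 := hN _ _ _ le_sup_right hle h1 h2
    obtain ⟨B', -, h4, -⟩ := h3.restrict (le_sup_left : A ≤ A ⊔ W.W S)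
    apply mem_hom_of_isIso E h4
    intro x
    have hx' : (x : Ω) ∈ A ⊔ W.W S := (le_sup_left : A ≤ A ⊔ W.W S) x.2
    rw [ext1_apply_mem ψ₂ hx']
    have h5 := (hψ₂ ⟨x, hx'⟩).2
    have h6 : ι ⟨ψ x, hψS x⟩ = ι ⟨ψ₂ ⟨x, hx'⟩, (hψ₂ ⟨x, hx'⟩).1⟩ := by
      rw [hψ x, h5]
    exact congrArg Subtype.val (hinj h6)
  -- conclusion
  intro P φ hφ
  have hPS := (F.le_of_mem hφ).1
  have hφS := (F.le_of_mem hφ).2
  obtain ⟨g, hg⟩ := (hreal.2 P hPS φ hφS).1 hφ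
  have h1 : imgOf ι P ≤ (T : Subgroup G) := by
    rw [hT]; exact imgOf_le_range P
  have h2 : H15.cj g (imgOf ι P) ≤ (T : Subgroup G) := by
    rintro _ ⟨y, hy, rfl⟩
    obtain ⟨x, hxS, hxP, rfl⟩ := mem_imgOf.1 hy
    rw [hT]
    exact ⟨⟨φ ⟨x, hxP⟩, hφS _⟩, hg ⟨x, hxP⟩⟩
  have h3 := gen_local W hq (Nat.card G) G rfl T hCU R hcomp hbaseC hbaseN (imgOf ι P) g h1 h2
  exact h3 P hPS φ hφS rfl hg

end main

end Cfsg.Agent.Lib.H26.Gen
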