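import Mathlib
import Cfsg.Agent.Lib.H26.GenModel
import Cfsg.Agent.Lib.H25.SysOfPred
import Cfsg.Agent.Lib.H25.Morphism

set_option autoImplicit false

/-!
Tools for "`F = ⟨C_F(℧¹(Z(S))), N_F(W(S))⟩`" (helper26): the restriction of a system `E` over `S`
to a subsystem `N ≤ F` over `T ≤ S`, the image of a subsystem `E ≤ F` under a surjective morphism
`F → F'`, and the lemma that an automorphism of a fully normalized subgroup `P ≥ Q` which is
trivial modulo `Q` is induced by an element of `S`, when every automorphism of `P` acts on `Q` as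
an element of `S`.
-/

namespace Cfsg.Agent.Lib.H26.Gen

open Cfsg Cfsg.FusionSystem Cfsg.Agent.Lib.H25 Cfsg.Agent.Lib.H26 Cfsg.Agent.Lib.H26.Nil
  Cfsg.Agent.Lib.H26.ZJ

universe u v

variable {Ω : Type u} [Group Ω] {S : Subgroup Ω}

/-! ### Restriction to a subsystem -/

/-- The subsystem of `N` of the maps that are maps of `E`. -/
def resSys {T : Subgroup Ω} (N : FusionSystem T) (E : FusionSystem S) (hTS : T ≤ S) :
    FusionSystem T :=
  subSys N (fun P φ => φ ∈ E.Hom P)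
    (fun P g hP hg => E.conj_mem (hP.trans hTS) (hTS hg))
    (fun P Q φ ψ h _ _ hφ hψ => E.comp_mem hφ hψ h)
    (by
      intro P φ ψ _ _ hψφ hφ
      obtain ⟨ψ', hψ', hψ'φ⟩ := E.inv_mem hφ
      have : ψ = ψ' := by
        ext ⟨_, x, rfl⟩
        rw [hψφ x, hψ'φ x]
      rw [this]; exact hψ')

theorem isIso_resSys_iff {T : Subgroup Ω} {N : FusionSystem T} {E : FusionSystem S} {hTS : T ≤ S}
    {A B : Subgroup Ω} {f : Ω → Ω} :
    IsIso (resSys N E hTS) A B f ↔ IsIso N A B f ∧ IsIso E A B f := by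
  constructor
  · rintro ⟨φ, hφ, hφf, hr⟩
    exact ⟨⟨φ, hφ.1, hφf, hr⟩, ⟨φ, hφ.2, hφf, hr⟩⟩
  · rintro ⟨⟨φ, hφ, hφf, hr⟩, h2⟩
    exact ⟨φ, ⟨hφ, mem_hom_of_isIso E h2 hφf⟩, hφf, hr⟩

theorem resSys_le {T : Subgroup Ω} (N : FusionSystem T) (E : FusionSystem S) (hTS : T ≤ S)
    (P : Subgroup Ω) : (resSys N E hTS).Hom P ⊆ N.Hom P := fun _ h => h.1

/-- If the restriction of `E` to `N` contains `N`, the isomorphisms of `N` are isomorphisms of
`E`. -/
theorem isIso_of_le_resSys {T : Subgroup Ω} {N : FusionSystem T} {E : FusionSystem S}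
    {hTS : T ≤ S} (h : ∀ P : Subgroup Ω, N.Hom P ⊆ (resSys N E hTS).Hom P) {A B : Subgroup Ω}
    {f : Ω → Ω} (hf : IsIso N A B f) : IsIso E A B f := by
  obtain ⟨φ, hφ, hφf, hr⟩ := hf
  exact ⟨φ, (h A hφ).2, hφf, hr⟩

/-! ### The image of a subsystem under a surjective morphism -/

section push

variable {Ω' : Type v} [Group Ω'] {S' : Subgroup Ω'} {F : FusionSystem S} {F' : FusionSystem S'}
  {θ : S →* Ω'}

/-- The isomorphisms of `F'` induced by isomorphisms of `E` between full preimages. -/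
def PushPred (F' : FusionSystem S') (θ : S →* Ω') (E : FusionSystem S) :
    Subgroup Ω' → Subgroup Ω' → (Ω' → Ω') → Prop :=
  fun P' Q' f' => IsIso F' P' Q' f' ∧ ∃ f : Ω → Ω,
    IsIso E (preimageAlong θ P') (preimageAlong θ Q') f ∧
      ∀ x ∈ preimageAlong θ P', f' (al θ x) = al θ (f x)

theorem pushPred_isoPred [Finite S] (hsm : F.IsSurjectiveMorphism F' θ)
    (hK : F.StronglyClosed (kerSub θ)) (E : FusionSystem S)
    (hEF : ∀ P : Subgroup Ω, E.Hom P ⊆ F.Hom P) : IsoPred F' (PushPred F' θ E) := by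
  have hrange := hsm.2.1
  refine ⟨fun h => h.1, ?_, ?_, ?_, ?_, ?_⟩
  · -- congr
    rintro P' Q' f' g' ⟨h1, f, hf, hff'⟩ hfg
    refine ⟨h1.congr hfg, f, hf, fun x hx => ?_⟩
    rw [← hfg _ ((mem_pre_iff θ P' x).1 hx).2]
    exact hff' x hx
  · -- conj
    intro P' hP' s' hs'
    obtain ⟨s, hs, rfl⟩ := exists_al_eq hrange hs'
    have h1 : IsIso F' P' _ (fun x => al θ s * x * (al θ s)⁻¹) := IsIso.conj hP' hs'
    refine ⟨_, h1, fun x => s * x * s⁻¹, ?_, fun x hx => ?_⟩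
    · have h2 : IsIso E (preimageAlong θ P') _ (fun x => s * x * s⁻¹) :=
        IsIso.conj (preimageAlong_le θ P') hs
      refine h2.restrict' le_rfl (fun x hx => ?_) (fun y hy => ?_)
      · obtain ⟨hxS, hx'⟩ := (mem_pre_iff θ P' x).1 hx
        refine (mem_pre_iff θ _ _).2 ⟨S.mul_mem (S.mul_mem hs hxS) (S.inv_mem hs), ?_⟩
        rw [al_conj θ hs hxS]
        exact h1.map_mem hx'
      · obtain ⟨hyS, hy'⟩ := (mem_pre_iff θ _ y).1 hy
        obtain ⟨z, hz, hzy⟩ := h1.surjOn hy'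
        refine ⟨s⁻¹ * y * s, ?_, by group⟩
        have hS' : s⁻¹ * y * s ∈ S := S.mul_mem (S.mul_mem (S.inv_mem hs) hyS) hs
        refine (mem_pre_iff θ P' _).2 ⟨hS', ?_⟩
        have e : al θ (s⁻¹ * y * s) = (al θ s)⁻¹ * al θ y * al θ s := by
          rw [al_mul θ (S.mul_mem (S.inv_mem hs) hyS) hs, al_mul θ (S.inv_mem hs) hyS,
            al_inv θ hs]
        rw [e, ← hzy]
        have e2 : (al θ s)⁻¹ * (al θ s * z * (al θ s)⁻¹) * al θ s = z := by group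
        rw [e2]; exact hz
    · exact (al_conj θ hs ((mem_pre_iff θ P' x).1 hx).1).symm
  · -- restrict
    rintro P' Q' P₁' Q₁' f' ⟨h1, f, hf, hff'⟩ hle h2
    refine ⟨h2, f, ?_, fun x hx => hff' x (pre_mono θ hle hx)⟩
    have hfF : IsIso F (preimageAlong θ P') (preimageAlong θ Q') f := isIso_mono hEF hf
    have hKiso : IsIso F (kerSub θ) (kerSub θ) f :=
      stronglyClosed_isIso_self hK hfF (kerSub_le_pre θ P')
    refine hf.restrict' (pre_mono θ hle) (fun x hx => ?_) (fun y hy => ?_)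
    · have hx' := pre_mono θ hle hx
      refine (mem_pre_iff θ _ _).2 ⟨hf.le_right (hf.map_mem hx'), ?_⟩
      rw [← hff' x hx']
      exact h2.map_mem ((mem_pre_iff θ P₁' x).1 hx).2
    · obtain ⟨hyS, hy'⟩ := (mem_pre_iff θ _ y).1 hy
      obtain ⟨z', hz', hz'y⟩ := h2.surjOn hy'
      obtain ⟨z, hz, rfl⟩ := exists_al_eq_of_mem hrange h2.le_left hz'
      have hz₀ := pre_mono θ hle hz
      have hfzS : f z ∈ S := hf.le_right (hf.map_mem hz₀)
      have h3 : al θ (f z) = al θ y := by rw [← hff' z hz₀, hz'y]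
      have h4 : (f z)⁻¹ * y ∈ kerSub θ := inv_mul_mem_kerSub θ hfzS hyS h3
      obtain ⟨k, hk, hkeq⟩ := hKiso.surjOn h4
      have hk₁ : k ∈ preimageAlong θ P₁' := kerSub_le_pre θ P₁' hk
      refine ⟨z * k, Subgroup.mul_mem _ hz hk₁, ?_⟩
      rw [hf.map_mul hz₀ (kerSub_le_pre θ P' hk), hkeq]
      group
  · -- trans
    rintro P' Q' R' f' g' ⟨h1, f, hf, hff'⟩ ⟨h2, g, hg, hgg'⟩
    refine ⟨h1.trans h2, g ∘ f, hf.trans hg, fun x hx => ?_⟩
    show g' (f' (al θ x)) = al θ (g (f x))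
    rw [hff' x hx, hgg' _ (hf.map_mem hx)]
  · -- symm
    rintro P' Q' f' g' ⟨h1, f, hf, hff'⟩ h2 hgf
    obtain ⟨g, hg, hgf₀, hfg₀⟩ := hf.symm
    refine ⟨h2, g, hg, fun y hy => ?_⟩
    have hx := hg.map_mem hy
    have h3 := hff' _ hx
    rw [hfg₀ y hy] at h3
    rw [← h3, hgf _ ((mem_pre_iff θ P' _).1 hx).2]

/-- The image of the subsystem `E` of `F` in `F'`. -/
noncomputable def pushSys [Finite S] (hsm : F.IsSurjectiveMorphism F' θ)
    (hK : F.StronglyClosed (kerSub θ)) (E : FusionSystem S)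
    (hEF : ∀ P : Subgroup Ω, E.Hom P ⊆ F.Hom P) : FusionSystem S' :=
  sysOfPred (pushPred_isoPred hsm hK E hEF)

theorem isIso_pushSys_iff [Finite S] (hsm : F.IsSurjectiveMorphism F' θ)
    (hK : F.StronglyClosed (kerSub θ)) (E : FusionSystem S)
    (hEF : ∀ P : Subgroup Ω, E.Hom P ⊆ F.Hom P) {P' Q' : Subgroup Ω'} {f' : Ω' → Ω'} :
    IsIso (pushSys hsm hK E hEF) P' Q' f' ↔ PushPred F' θ E P' Q' f' :=
  isIso_sysOfPred_iff _

theorem pushSys_le [Finite S] (hsm : F.IsSurjectiveMorphism F' θ)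
    (hK : F.StronglyClosed (kerSub θ)) (E : FusionSystem S)
    (hEF : ∀ P : Subgroup Ω, E.Hom P ⊆ F.Hom P) (P' : Subgroup Ω') :
    (pushSys hsm hK E hEF).Hom P' ⊆ F'.Hom P' :=
  sysOfPred_le _ P'

end push

/-! ### Automorphisms trivial modulo a normal subgroup -/

section trivialMod

variable {p : ℕ} [Fact p.Prime]

/-- An automorphism of `P ≥ Q` which acts on `Q` as an element of `S` and trivially modulo `Q`
has `p`-power order. -/
theorem isPAut_of_trivial_mod_conj [Finite S] (hS : IsPGroup p S) {F : FusionSystem S}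
    {P Q : Subgroup Ω} (hQP : Q ≤ P) (hQn : S ≤ Subgroup.normalizer (Q : Set Ω)) {f : Ω → Ω}
    (hf : IsIso F P P f) {s : Ω} (hs : s ∈ S) (hfs : ∀ x ∈ Q, f x = s * x * s⁻¹)
    (htriv : ∀ x ∈ P, x⁻¹ * f x ∈ Q) : IsPAut p P f := by
  have hPS := hf.le_left
  have hfinQ : Finite Q := finite_of_le S (hQP.trans hPS)
  obtain ⟨a, ha⟩ := hS.exists_card_eq
  obtain ⟨b, hb⟩ := (hS.to_le (hQP.trans hPS)).exists_card_eq
  have hconjQ : ∀ (t : Ω), t ∈ S → ∀ x ∈ Q, t * x * t⁻¹ ∈ Q := fun t ht x hx =>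
    (Subgroup.mem_normalizer_iff.1 (hQn ht) x).1 hx
  -- iterates act on `Q` as powers of `s`
  have h1 : ∀ n : ℕ, ∀ x ∈ Q, f^[n] x = s ^ n * x * (s ^ n)⁻¹ := by
    intro n
    induction n with
    | zero => intro x _; simp
    | succ n ih =>
      intro x hx
      rw [Function.iterate_succ_apply', ih x hx,
        hfs _ (hconjQ _ (Subgroup.pow_mem _ hs n) x hx), pow_succ']
      group
  have hsa : s ^ p ^ a = 1 := by
    have h2 : (⟨s, hs⟩ : S) ^ Nat.card S = 1 := pow_card_eq_one'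
    rw [ha] at h2
    have h3 := congrArg Subtype.val h2
    rwa [Subgroup.coe_pow, Subgroup.coe_one] at h3
  have hfix : ∀ x ∈ Q, f^[p ^ a] x = x := by
    intro x hx
    rw [h1 _ x hx, hsa]
    simp
  -- iterates are trivial modulo `Q`
  have h2 : ∀ n : ℕ, ∀ x ∈ P, x⁻¹ * f^[n] x ∈ Q := by
    intro n
    induction n with
    | zero =>
      intro x _
      simp only [Function.iterate_zero, id_eq, inv_mul_cancel]
      exact Q.one_mem
    | succ n ih =>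
      intro x hx
      rw [Function.iterate_succ_apply']
      have hy : f^[n] x ∈ P := iterate_mem hf n hx
      have e : x⁻¹ * f (f^[n] x) = (x⁻¹ * f^[n] x) * ((f^[n] x)⁻¹ * f (f^[n] x)) := by group
      rw [e]
      exact Q.mul_mem (ih x hx) (htriv _ hy)
  apply isPAut_of_iterate a
  exact isPAut_of_trivial_mod (isIso_iterate hf _) hQP hfix (h2 _) hb

/-- In a saturated system, an automorphism of a fully normalized subgroup `P ≥ Q` which is
trivial modulo `Q` is induced by an element of `S`, when every automorphism of `P` in the system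
acts on `Q` as an element of `S`. -/
theorem exists_conj_of_trivial_mod [Finite S] (hS : IsPGroup p S) {F : FusionSystem S}
    (hF : F.IsSaturated p) {P Q : Subgroup Ω} (hPfn : F.IsFullyNormalized P) (hQP : Q ≤ P)
    (hQn : S ≤ Subgroup.normalizer (Q : Set Ω))
    (hact : ∀ f : Ω → Ω, IsIso F P P f → ∃ s ∈ S, ∀ x ∈ Q, f x = s * x * s⁻¹)
    {δ : Ω → Ω} (hδ : IsIso F P P δ) (htriv : ∀ x ∈ P, x⁻¹ * δ x ∈ Q) :
    ∃ s ∈ S, ∀ x ∈ P, δ x = s * x * s⁻¹ := by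
  have hPS := hPfn.1
  have hfa : F.IsFullyAutomized p P := (fullyNormalized_props hS hF hPfn).2
  have hconjQ : ∀ (t : Ω), t ∈ S → ∀ x ∈ Q, t * x * t⁻¹ ∈ Q := fun t ht x hx =>
    (Subgroup.mem_normalizer_iff.1 (hQn ht) x).1 hx
  -- automorphisms preserve `Q`
  have hpres : ∀ k ∈ F.autGroup P, ∀ x : P, (x : Ω) ∈ Q → ((k x : P) : Ω) ∈ Q := by
    intro k hk x hx
    have hf := isIso_of_mem_autGroup F hPS hk
    obtain ⟨s, hs, hfs⟩ := hact _ hf
    have h1 := hfs x hx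
    rw [ext1_apply_mem _ x.2] at h1
    have h2 : ((k x : P) : Ω) = s * x * s⁻¹ := h1
    rw [h2]
    exact hconjQ s hs x hx
  -- the group of automorphisms trivial modulo `Q`
  let K : Subgroup (MulAut P) :=
    { carrier := {k | k ∈ F.autGroup P ∧ ∀ x : P, (x : Ω)⁻¹ * ((k x : P) : Ω) ∈ Q}
      one_mem' := ⟨Subgroup.one_mem _, fun x => by
        show (x : Ω)⁻¹ * (x : Ω) ∈ Q
        rw [inv_mul_cancel]; exact Q.one_mem⟩
      mul_mem' := by
        rintro k₁ k₂ ⟨h1, h1'⟩ ⟨h2, h2'⟩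
        refine ⟨Subgroup.mul_mem _ h1 h2, fun x => ?_⟩
        show (x : Ω)⁻¹ * ((k₁ (k₂ x) : P) : Ω) ∈ Q
        have e : (x : Ω)⁻¹ * ((k₁ (k₂ x) : P) : Ω) =
            ((x : Ω)⁻¹ * ((k₂ x : P) : Ω)) * (((k₂ x : P) : Ω)⁻¹ * ((k₁ (k₂ x) : P) : Ω)) := by
          group
        rw [e]
        exact Q.mul_mem (h2' x) (h1' (k₂ x))
      inv_mem' := by
        rintro k ⟨h1, h1'⟩
        refine ⟨Subgroup.inv_mem _ h1, fun x => ?_⟩
        have h2 := h1' (k⁻¹ x)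
        have e : (k (k⁻¹ x) : P) = x := by simp
        rw [e] at h2
        have h3 := Q.inv_mem h2
        have e2 : (((k⁻¹ x : P) : Ω)⁻¹ * (x : Ω))⁻¹ = (x : Ω)⁻¹ * ((k⁻¹ x : P) : Ω) := by group
        rwa [e2] at h3 }
  have hKmem : ∀ k : MulAut P, k ∈ K ↔
      k ∈ F.autGroup P ∧ ∀ x : P, (x : Ω)⁻¹ * ((k x : P) : Ω) ∈ Q := fun k => Iff.rfl
  have hKle : K ≤ F.autGroup P := fun k hk => ((hKmem k).1 hk).1
  have hKp : IsPGroup p K := by
    rintro ⟨k, hk⟩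
    obtain ⟨hk1, hk2⟩ := (hKmem k).1 hk
    have hf := isIso_of_mem_autGroup F hPS hk1
    obtain ⟨s, hs, hfs⟩ := hact _ hf
    have htr : ∀ x ∈ P, x⁻¹ * ext1 (P.subtype.comp k.toMonoidHom) x ∈ Q := by
      intro x hx
      rw [ext1_apply_mem _ hx]
      exact hk2 ⟨x, hx⟩
    obtain ⟨n, hn⟩ := isPAut_of_trivial_mod_conj hS hQP hQn hf hs hfs htr
    refine ⟨n, Subtype.ext ?_⟩
    show k ^ (p ^ n) = 1
    ext x
    have hk' : ∀ x : P, ((k x : P) : Ω) = ext1 (P.subtype.comp k.toMonoidHom) x := fun x =>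
      (ext1_apply (P.subtype.comp k.toMonoidHom) x).symm
    rw [aut_pow_apply hf hk' (p ^ n) x, hn x x.2]
    rfl
  -- normality
  have hKn : ∀ a ∈ F.autGroup P, ∀ k ∈ K, a⁻¹ * k * a ∈ K := by
    intro a ha k hk
    obtain ⟨hk1, hk2⟩ := (hKmem k).1 hk
    have ha' : a⁻¹ ∈ F.autGroup P := Subgroup.inv_mem _ ha
    refine (hKmem _).2 ⟨Subgroup.mul_mem _ (Subgroup.mul_mem _ ha' hk1) ha, fun x => ?_⟩
    show (x : Ω)⁻¹ * ((a⁻¹ (k (a x)) : P) : Ω) ∈ Q
    set y := a x with hy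
    have hz : (y : Ω)⁻¹ * ((k y : P) : Ω) ∈ Q := hk2 y
    have hzP : (y : Ω)⁻¹ * ((k y : P) : Ω) ∈ P := hQP hz
    have e1 : k y = y * ⟨(y : Ω)⁻¹ * ((k y : P) : Ω), hzP⟩ := by
      apply Subtype.ext
      show ((k y : P) : Ω) = (y : Ω) * ((y : Ω)⁻¹ * ((k y : P) : Ω))
      group
    have e2 : a⁻¹ y = x := by rw [hy]; simp
    rw [e1, map_mul, e2]
    have h3 := hpres a⁻¹ ha' ⟨(y : Ω)⁻¹ * ((k y : P) : Ω), hzP⟩ hz
    show (x : Ω)⁻¹ * ((x : Ω) * ((a⁻¹ ⟨(y : Ω)⁻¹ * ((k y : P) : Ω), hzP⟩ : P) : Ω)) ∈ Q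
    rw [inv_mul_cancel_left]
    exact h3
  obtain ⟨a, ha, hconj⟩ := IsFullyAutomized_exists_conj hfa K hKp hKle
  obtain ⟨d, hd, hdδ⟩ := exists_mem_autGroup_of_isIso F hδ
  have hdK : d ∈ K := by
    refine (hKmem d).2 ⟨hd, fun x => ?_⟩
    rw [hdδ x]
    exact htriv x x.2
  have h1 := hconj _ (hKn a ha d hdK)
  have e : a * (a⁻¹ * d * a) * a⁻¹ = d := by group
  rw [e] at h1
  obtain ⟨s, hs, hds⟩ := (mem_autInducedBy_iff S P d).1 h1
  refine ⟨s, hs, fun x hx => ?_⟩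
  rw [← hdδ ⟨x, hx⟩]
  exact hds ⟨x, hx⟩

end trivialMod

end Cfsg.Agent.Lib.H26.Gen
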