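import Mathlib
import Cfsg.Agent.Lib.H26.FactorLocal
import Cfsg.Agent.Lib.H26.ModelInduct
import Cfsg.Agent.Lib.H26.ModelLocalTwo
import Cfsg.Agent.Lib.H25.MorphismSat
import Cfsg.Agent.S5090
import Cfsg.Agent.S5134
import Cfsg.Prelude.Def_FusionReduction

set_option autoImplicit false

/-!
`H`-free fusion systems for an arbitrary group `H` (helper26): the proofs of S5250, S5240 and
S5241 (there for `H = Qd(p)`) do not use anything about `H`; here they are for arbitrary `H`.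
-/

universe u v
open Cfsg

namespace Cfsg.Agent.Lib.H26.SecFree

variable {H : Type v} [Group H]

/-- freeness can be checked at the radical subgroups -/
theorem isSectionFree_of_radical {Ω : Type u} [Group Ω] {S : Subgroup Ω} [Finite S] (p : ℕ) [Fact p.Prime] (hS : IsPGroup p S) (F : Cfsg.FusionSystem S) (hF : F.IsSaturated p) (h : ∀ Q : Subgroup Ω, F.IsFullyNormalized Q → F.IsCentric Q → F.IsRadical p Q → ∀ N : Cfsg.FusionSystem (Cfsg.FusionSystem.normalizerIn S Q), F.IsNormalizerSystem Q N → ∀ (L : Type u) [Group L] (ι : ↥(Cfsg.FusionSystem.normalizerIn S Q) →* L), N.IsModel p L ι → ¬ Cfsg.Involves H L) : F.IsSectionFree p H := by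
  suffices key : ∀ n : ℕ, ∀ Q : Subgroup Ω, Nat.card S ≤ Nat.card Q + n →
      F.IsFullyNormalized Q → F.IsCentric Q →
      ∀ N : Cfsg.FusionSystem (Cfsg.FusionSystem.normalizerIn S Q), F.IsNormalizerSystem Q N →
      ∀ (L : Type u) [Group L] (ι : ↥(Cfsg.FusionSystem.normalizerIn S Q) →* L),
        N.IsModel p L ι → ¬ Cfsg.Involves H L by
    intro Q hQfn hQc N hN L _ ι hM
    exact key (Nat.card S) Q (Nat.le_add_left _ _) hQfn hQc N hN L ι hM
  intro n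
  induction n using Nat.strong_induction_on with
  | _ n ih =>
    intro Q hcard hQfn hQc N hN L _ ι hM
    by_cases hrad : F.IsRadical p Q
    · exact h Q hQfn hQc hrad N hN L ι hM
    · obtain ⟨R', hR'fn, hR'c, hlt, hstep⟩ :=
        Cfsg.Agent.Lib.H26.Model.exists_bigger.{u, u, u, v} hS hF hQfn hQc hN hM hrad
      obtain ⟨NR', hNR'⟩ := Cfsg.Agent.S5096.result F R' hR'fn.1
      have hcon := Cfsg.Agent.Lib.H25.normalizerSystem_isConstrained hS hF hR'fn hR'c NR' hNR'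
      haveI : Finite ↥(Cfsg.FusionSystem.normalizerIn S R') :=
        Cfsg.Agent.Lib.H25.finite_of_le S inf_le_left
      have hST' : IsPGroup p ↥(Cfsg.FusionSystem.normalizerIn S R') := hS.to_le inf_le_left
      obtain ⟨LR, _, ιR, hMR⟩ := Cfsg.Agent.S5090.result p hST' NR' hcon
      intro hinv
      have hR'le : Nat.card R' ≤ Nat.card S := Subgroup.card_le_of_le hR'fn.1
      have hn1 : n ≥ 1 := by omega
      exact ih (n - 1) (by omega) R' (by omega) hR'fn hR'c NR' hNR' LR ιR hMR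
        (hstep NR' hNR' LR ιR hMR _ hinv)


/-- normalizer systems of fully normalized subgroups of an `H`-free system are `H`-free -/
theorem normalizerSystem_isSectionFree {Ω : Type u} [Group Ω] {S : Subgroup Ω} [Finite S] (p : ℕ) [Fact p.Prime] (hS : IsPGroup p S) (F : Cfsg.FusionSystem S) (hF : F.IsSaturated p) (hfree : F.IsSectionFree p H) (Q : Subgroup Ω) (hQ : F.IsFullyNormalized Q) (N : Cfsg.FusionSystem (Cfsg.FusionSystem.normalizerIn S Q)) (hN : F.IsNormalizerSystem Q N) : N.IsSectionFree p H := by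
  have hQS := hQ.1
  haveI hfinT : Finite ↥(Cfsg.FusionSystem.normalizerIn S Q) :=
    Cfsg.Agent.Lib.H25.finite_of_le S inf_le_left
  have hST : IsPGroup p ↥(Cfsg.FusionSystem.normalizerIn S Q) := hS.to_le inf_le_left
  have hNsat : N.IsSaturated p := Cfsg.Agent.Lib.H25.normalizerSystem_isSaturated hS hF hQ N hN
  have hQnN : N.IsNormal Q := Cfsg.Agent.Lib.H25.normalizerSystem_isNormal hQS hN
  apply isSectionFree_of_radical p hST N hNsat
  intro P hPfnN hPcN hPrN NP hNP LP _ ιP hMP hinv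
  have hQP : Q ≤ P := Cfsg.Agent.Lib.H25.isNormal_le_of_centric_radical hST hQnN hPcN hPrN
  have hPT : P ≤ Cfsg.FusionSystem.normalizerIn S Q := hPfnN.1
  have hPS : P ≤ S := hPT.trans inf_le_left
  have hPc : F.IsCentric P :=
    Cfsg.Agent.Lib.H26.isCentric_of_normalizerSystem hS hF hQ hN hQP hPcN
  obtain ⟨P', hPP', hP'fn⟩ := Cfsg.Agent.Lib.H25.exists_fullyNormalized_conj F hPS
  obtain ⟨hP'fc, hP'fa⟩ := Cfsg.Agent.Lib.H25.fullyNormalized_props hS hF hP'fn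
  have hP'rec := Cfsg.Agent.Lib.H25.isReceptive_of_fullyCentralized hS hF hP'fc
  obtain ⟨χ, N'', hχN, hN'', hχP⟩ :=
    Cfsg.Agent.Lib.H25.exists_normalizer_map hS hP'fa hP'rec hPP'
  have hP'c : F.IsCentric P' := Cfsg.Agent.Lib.H26.isCentric_of_isConj hPc hPP'
  obtain ⟨N', hN'⟩ := Cfsg.Agent.S5096.result F P' hP'fn.1
  have hcon' := Cfsg.Agent.Lib.H25.normalizerSystem_isConstrained hS hF hP'fn hP'c N' hN'
  haveI : Finite ↥(Cfsg.FusionSystem.normalizerIn S P') :=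
    Cfsg.Agent.Lib.H25.finite_of_le S inf_le_left
  have hST' : IsPGroup p ↥(Cfsg.FusionSystem.normalizerIn S P') := hS.to_le inf_le_left
  obtain ⟨L', _, ι', hM'⟩ := Cfsg.Agent.S5090.result p hST' N' hcon'
  have hnot := hfree P' hP'fn hP'c N' hN' L' ι' hM'
  obtain ⟨M, e, hMloc⟩ := Cfsg.Agent.Lib.H26.Model.local_model_two hS hF hQ hN hQP hPfnN hNP
    hP'fn hP'c hN' hM' hχN hN'' hχP
  haveI hfinTP : Finite ↥(Cfsg.FusionSystem.normalizerIn (Cfsg.FusionSystem.normalizerIn S Q) P) :=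
    Cfsg.Agent.Lib.H25.finite_of_le S (inf_le_left.trans inf_le_left)
  have hSTP : IsPGroup p ↥(Cfsg.FusionSystem.normalizerIn (Cfsg.FusionSystem.normalizerIn S Q) P) :=
    hS.to_le (inf_le_left.trans inf_le_left)
  have hconP := Cfsg.Agent.Lib.H25.normalizerSystem_isConstrained hST hNsat hPfnN hPcN NP hNP
  obtain ⟨Φ, -⟩ := Cfsg.Agent.Lib.H26.Model.model_unique hSTP hconP hMP hMloc
  apply hnot
  refine Cfsg.Agent.Lib.H26.involves_of_injective (M.subtype.comp Φ.toMonoidHom) ?_ hinv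
  exact (Subgroup.subtype_injective _).comp Φ.injective


/-- factor systems of an `H`-free system by a normal subgroup are `H`-free -/
theorem factor_isSectionFree {Ω : Type u} [Group Ω] {S : Subgroup Ω} [Finite S] (p : ℕ) [Fact p.Prime] (hS : IsPGroup p S) (F : Cfsg.FusionSystem S) (hF : F.IsSaturated p) (Q : Subgroup Ω) (hQ : F.IsNormal Q) (hfree : F.IsSectionFree p H) {Ω' : Type u} [Group Ω'] {S' : Subgroup Ω'} (θ : ↥S →* Ω') (E : Cfsg.FusionSystem S') (hE : F.IsFactorSystem Q θ E) : E.IsSectionFree p H := by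
  have hQsc : F.StronglyClosed Q := Cfsg.Agent.Lib.H25.isNormal_stronglyClosed hQ
  have hsm : F.IsSurjectiveMorphism E θ := Cfsg.Agent.S5134.result p hS F hF Q hQsc θ E hE
  have hrange := hsm.2.1
  haveI hfinS' : Finite S' := Cfsg.Agent.Lib.H25.finite_S' hrange
  have hS' : IsPGroup p S' := Cfsg.Agent.Lib.H25.isPGroup_S' hrange hS
  have hEsat : E.IsSaturated p :=
    Cfsg.Agent.Lib.H25.isSaturated_of_surjectiveMorphism hS hF hsm
  have hkerQ : Cfsg.Agent.Lib.H25.kerSub θ = Q := by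
    ext x
    rw [Cfsg.Agent.Lib.H25.mem_kerSub_iff]
    constructor
    · rintro ⟨hxS, hx⟩
      rw [Cfsg.Agent.Lib.H25.al_apply θ hxS] at hx
      exact (hE.2.1 ⟨x, hxS⟩).1 hx
    · intro hx
      refine ⟨hE.1 hx, ?_⟩
      rw [Cfsg.Agent.Lib.H25.al_apply θ (hE.1 hx)]
      exact (hE.2.1 ⟨x, hE.1 hx⟩).2 hx
  have hKsc : F.StronglyClosed (Cfsg.Agent.Lib.H25.kerSub θ) := hkerQ ▸ hQsc
  have hKn : F.IsNormal (Cfsg.Agent.Lib.H25.kerSub θ) := hkerQ ▸ hQ
  apply isSectionFree_of_radical p hS' E hEsat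
  intro Pb hPbfn hPbc hPbr Nb hNb Lb _ ιb hMb hinv
  have hPfn : F.IsFullyNormalized (Cfsg.FusionSystem.preimageAlong θ Pb) :=
    Cfsg.Agent.Lib.H25.isFullyNormalized_pre hsm hKsc hPbfn
  have hPc : F.IsCentric (Cfsg.FusionSystem.preimageAlong θ Pb) :=
    Cfsg.Agent.Lib.H26.Model.isCentric_pre hsm hKsc hPbc
  have hPS := hPfn.1
  have hKP : Cfsg.Agent.Lib.H25.kerSub θ ≤ Cfsg.FusionSystem.preimageAlong θ Pb :=
    Cfsg.Agent.Lib.H25.kerSub_le_pre θ Pb
  obtain ⟨N, hN⟩ := Cfsg.Agent.S5096.result F _ hPS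
  have hcon := Cfsg.Agent.Lib.H25.normalizerSystem_isConstrained hS hF hPfn hPc N hN
  haveI hfinT : Finite ↥(Cfsg.FusionSystem.normalizerIn S (Cfsg.FusionSystem.preimageAlong θ Pb)) :=
    Cfsg.Agent.Lib.H25.finite_of_le S inf_le_left
  have hST : IsPGroup p ↥(Cfsg.FusionSystem.normalizerIn S (Cfsg.FusionSystem.preimageAlong θ Pb)) :=
    hS.to_le inf_le_left
  obtain ⟨L, _, ι, hM⟩ := Cfsg.Agent.S5090.result p hST N hcon
  have hnot := hfree _ hPfn hPc N hN L ι hM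
  have hPnN : N.IsNormal (Cfsg.FusionSystem.preimageAlong θ Pb) :=
    Cfsg.Agent.Lib.H25.normalizerSystem_isNormal hPS hN
  have hPn : (Cfsg.Agent.Lib.H26.Model.imgOf ι (Cfsg.FusionSystem.preimageAlong θ Pb)).Normal :=
    Cfsg.Agent.Lib.H26.Model.model_map_normal hM hPnN
  have hQnN : N.IsNormal (Cfsg.Agent.Lib.H25.kerSub θ) :=
    Cfsg.Agent.Lib.H26.Model.isNormal_normalizerSystem hKn hKP hPS hN
  haveI hKnL : (Cfsg.Agent.Lib.H26.Model.imgOf ι (Cfsg.Agent.Lib.H25.kerSub θ)).Normal :=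
    Cfsg.Agent.Lib.H26.Model.model_map_normal hM hQnN
  haveI hfinL : Finite L := hM.1
  have hrealb := Cfsg.Agent.Lib.H26.Model.factor_realizedBy hsm hKsc hPbfn.1 hN hNb hM.2.1 hPn
  obtain ⟨Tsyl, hTsyl⟩ := hM.2.2.1
  have hsylb : ∃ T : Sylow p (L ⧸ Cfsg.Agent.Lib.H26.Model.imgOf ι (Cfsg.Agent.Lib.H25.kerSub θ)),
      (T : Subgroup _) = (Cfsg.Agent.Lib.H26.Model.iotaBar hsm.2.1 hPbfn.1 ι
        (Cfsg.Agent.Lib.H26.Model.imgOf ι (Cfsg.Agent.Lib.H25.kerSub θ)) le_rfl).range := by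
    rw [Cfsg.Agent.Lib.H26.Model.iotaBar_range]
    exact Cfsg.Agent.Lib.H26.Model.sylow_quotient hST Tsyl hTsyl _
  haveI hfinT' : Finite ↥(Cfsg.FusionSystem.normalizerIn S' Pb) :=
    Cfsg.Agent.Lib.H25.finite_of_le S' inf_le_left
  have hST' : IsPGroup p ↥(Cfsg.FusionSystem.normalizerIn S' Pb) := hS'.to_le inf_le_left
  have hPbT' : Pb ≤ Cfsg.FusionSystem.normalizerIn S' Pb :=
    Cfsg.Agent.Lib.H25.le_normalizerIn hPbfn.1
  have himg : Cfsg.Agent.Lib.H26.Model.imgOf (Cfsg.Agent.Lib.H26.Model.iotaBar hsm.2.1 hPbfn.1 ι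
      (Cfsg.Agent.Lib.H26.Model.imgOf ι (Cfsg.Agent.Lib.H25.kerSub θ)) le_rfl) Pb =
      (Cfsg.Agent.Lib.H26.Model.imgOf ι (Cfsg.FusionSystem.preimageAlong θ Pb)).map
        (QuotientGroup.mk' _) := by
    ext y
    rw [Cfsg.Agent.Lib.H26.Model.mem_imgOf]
    constructor
    · rintro ⟨xb, hxbT, hxbP, rfl⟩
      obtain ⟨x, hx, hxe⟩ := Cfsg.Agent.Lib.H25.exists_al_eq_of_mem hrange hPbfn.1 hxbP
      have hxT := Cfsg.Agent.Lib.H25.le_normalizerIn hPS hx
      refine ⟨ι ⟨x, hxT⟩, Cfsg.Agent.Lib.H26.Model.mem_imgOf.2 ⟨x, hxT, hx, rfl⟩, ?_⟩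
      rw [← Cfsg.Agent.Lib.H26.Model.iotaBar_apply hsm.2.1 hPbfn.1 _ le_rfl]
      congr 1
      exact Subtype.ext hxe
    · rintro ⟨z, hz, rfl⟩
      obtain ⟨x, hxT, hx, rfl⟩ := Cfsg.Agent.Lib.H26.Model.mem_imgOf.1 hz
      refine ⟨Cfsg.Agent.Lib.H25.al θ x, (Cfsg.Agent.Lib.H26.Model.thetaT hsm.2.1 hPbfn.1 ⟨x, hxT⟩).2,
        ((Cfsg.Agent.Lib.H25.mem_pre_iff θ Pb x).1 hx).2, ?_⟩
      exact Cfsg.Agent.Lib.H26.Model.iotaBar_apply hsm.2.1 hPbfn.1 _ le_rfl ⟨x, hxT⟩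
  have hPbn : (Cfsg.Agent.Lib.H26.Model.imgOf (Cfsg.Agent.Lib.H26.Model.iotaBar hsm.2.1 hPbfn.1 ι
      (Cfsg.Agent.Lib.H26.Model.imgOf ι (Cfsg.Agent.Lib.H25.kerSub θ)) le_rfl) Pb).Normal := by
    rw [himg]
    exact Subgroup.Normal.map hPn _ (QuotientGroup.mk'_surjective _)
  have hPbcent : Cfsg.FusionSystem.centralizerIn (Cfsg.FusionSystem.normalizerIn S' Pb) Pb ≤ Pb :=
    fun x hx => hPbc.2 Pb (Cfsg.Agent.Lib.H25.isConj_refl E hPbfn.1) ⟨hx.1.1, hx.2⟩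
  obtain ⟨K', hK'n, hMq⟩ := Cfsg.Agent.Lib.H26.Model.exists_model_quotient hST' hrealb hsylb hPbT'
    hPbn hPbcent
  have hconb := Cfsg.Agent.Lib.H25.normalizerSystem_isConstrained hS' hEsat hPbfn hPbc Nb hNb
  obtain ⟨Φ, -⟩ := Cfsg.Agent.Lib.H26.Model.model_unique hST' hconb hMb hMq
  apply hnot
  have h1 : Cfsg.Involves H
      ((L ⧸ Cfsg.Agent.Lib.H26.Model.imgOf ι (Cfsg.Agent.Lib.H25.kerSub θ)) ⧸ K') :=
    Cfsg.Agent.Lib.H26.involves_of_injective Φ.toMonoidHom Φ.injective hinv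
  have h2 := Cfsg.Agent.Lib.H26.Model.involves_of_surjective (QuotientGroup.mk' K')
    (QuotientGroup.mk'_surjective K') h1
  exact Cfsg.Agent.Lib.H26.Model.involves_of_surjective (QuotientGroup.mk' _)
    (QuotientGroup.mk'_surjective _) h2


end Cfsg.Agent.Lib.H26.SecFree
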