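import Mathlib
import Cfsg.Agent.Lib.H26.NilMain
import Cfsg.Agent.Lib.H26.GenQuad
import Cfsg.Agent.S5097

set_option autoImplicit false
set_option linter.unusedSectionVars false
set_option linter.unusedVariables false

/-!
Thompson's normal `p`-complement theorem for fusion systems, group-theoretic side (helper26):
the functor `Q ↦ Z(Q)`, the predicate `NTC p F U` ("the centralizer system of `U` has an
automorphism that is not a `p`-element"), and: in a group realizing `F`, if `NTC p F U` fails for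
a central subgroup `U` of `S` then the centralizer of the image of `U` has a normal
`p`-complement.
-/

namespace Cfsg.Agent.Lib.H26.Thompson

open Cfsg Cfsg.FusionSystem Cfsg.Agent.Lib.H25 Cfsg.Agent.Lib.H26 Cfsg.Agent.Lib.H26.Model
  Cfsg.Agent.Lib.H26.Nil
open Cfsg.Agent.Lib.L0

universe u w

/-- The functor `Q ↦ Z(Q)`. -/
noncomputable def zFun (p : ℕ) [Fact p.Prime] : PFun.{u} p where
  W := fun Q => Q ⊓ Subgroup.centralizer (Q : Set _)
  le := fun Q => inf_le_left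
  map := fun f Q _ _ hf => by
    ext y
    constructor
    · rintro ⟨⟨q, hq, rfl⟩, hy2⟩
      refine ⟨q, ⟨hq, ?_⟩, rfl⟩
      show q ∈ Subgroup.centralizer (Q : Set _)
      have hy2 : f q ∈ Subgroup.centralizer ((Q.map f : Subgroup _) : Set _) := hy2
      rw [Subgroup.mem_centralizer_iff]
      intro x hx
      apply hf (Q.mul_mem hx hq) (Q.mul_mem hq hx)
      rw [map_mul, map_mul]
      exact Subgroup.mem_centralizer_iff.1 hy2 (f x) ⟨x, hx, rfl⟩
    · rintro ⟨q, ⟨hq, hq2⟩, rfl⟩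
      refine ⟨⟨q, hq, rfl⟩, ?_⟩
      show f q ∈ Subgroup.centralizer ((Q.map f : Subgroup _) : Set _)
      have hq2 : q ∈ Subgroup.centralizer (Q : Set _) := hq2
      rw [Subgroup.mem_centralizer_iff]
      rintro _ ⟨x, hx, rfl⟩
      rw [← map_mul, ← map_mul, Subgroup.mem_centralizer_iff.1 hq2 x hx]
  ne_bot := fun {G} _ Q hfin hQ hne => by
    have hnt : Nontrivial Q := (Subgroup.nontrivial_iff_ne_bot Q).2 hne
    have hc : Subgroup.center Q ≠ ⊥ := by
      have := hQ.center_nontrivial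
      exact (Subgroup.nontrivial_iff_ne_bot _).1 this
    intro h
    apply hc
    rw [eq_bot_iff]
    intro x hx
    rw [Subgroup.mem_bot]
    have h1 : (x : G) ∈ Q ⊓ Subgroup.centralizer (Q : Set G) := by
      refine ⟨x.2, ?_⟩
      show (x : G) ∈ Subgroup.centralizer (Q : Set G)
      rw [Subgroup.mem_centralizer_iff]
      intro s hs
      have := Subgroup.mem_center_iff.1 hx ⟨s, hs⟩
      exact congrArg Subtype.val this
    rw [h, Subgroup.mem_bot] at h1
    exact Subtype.ext h1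

variable {Ω : Type u} [Group Ω] {S : Subgroup Ω} {F : FusionSystem S} {G : Type w} [Group G]
  {ι : S →* G}

/-- Some automorphism in the system of a subgroup `P` with `U ≤ P ≤ C_S(U)`, fixing `U`
elementwise, is not a `p`-element. -/
def NTC (p : ℕ) (F : FusionSystem S) (U : Subgroup Ω) : Prop :=
  ∃ (P : Subgroup Ω) (f : Ω → Ω), U ≤ P ∧ P ≤ centralizerIn S U ∧ IsIso F P P f ∧
    (∀ x ∈ U, f x = x) ∧ ¬ IsPAut p P f

theorem NTC.toNT {p : ℕ} {U : Subgroup Ω} (h : NTC p F U) : NT p F U := by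
  obtain ⟨P, f, hUP, hPC, hf, hfix, hnp⟩ := h
  refine ⟨P, f, hUP, hPC.trans ?_, hf, fun x hx => by rw [hfix x hx]; exact hx, hnp⟩
  exact inf_le_inf_left S (Subgroup.centralizer_le_normalizer _)

theorem NTC.mono {p : ℕ} {T : Subgroup Ω} {E : FusionSystem T} (hTS : T ≤ S)
    (hEF : ∀ P : Subgroup Ω, E.Hom P ⊆ F.Hom P) {U : Subgroup Ω} (h : NTC p E U) : NTC p F U := by
  obtain ⟨P, f, hUP, hPC, ⟨φ, hφ, hφf, hr⟩, hfix, hnp⟩ := h
  exact ⟨P, f, hUP, hPC.trans (inf_le_inf_right _ hTS), ⟨φ, hEF P hφ, hφf, hr⟩, hfix, hnp⟩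

theorem not_allP_of_NTC {p : ℕ} {U : Subgroup Ω}
    {T : Subgroup Ω} {C : FusionSystem T} (hC : ∀ P : Subgroup Ω, C.Hom P = F.centralizerHom U P)
    (h : NTC p F U) : ¬ AllP p C := by
  obtain ⟨P, f, hUP, hPC, hf, hfU, hnp⟩ := h
  intro hall
  apply hnp
  apply hall P f
  obtain ⟨φ, hφ, hφf, hr⟩ := hf
  have hf' : IsIso F P P f := ⟨φ, hφ, hφf, hr⟩
  refine ⟨φ, ?_, hφf, hr⟩
  rw [hC P, Cfsg.Agent.S5097.mem_centralizerHom_iff]
  refine ⟨hφ, hPC, fun x => ?_, f, P, ?_, fun x => (hφf x).symm, hfU⟩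
  · apply hPC
    rw [hφf x]
    exact hf'.map_mem x.2
  · rw [sup_eq_left.2 hUP]
    exact hf'

/-- Key step (centralizer version): in a group realizing `F` with Sylow subgroup the image of
`S`, if `U` is central in `S` and `NTC p F U` fails, then in `C_G(U)` every `p'`-element
normalizing a `p`-subgroup `Y` centralizes it. -/
theorem frob_of_not_NTC [Finite S] [Finite G] {p : ℕ} [Fact p.Prime] (hS : IsPGroup p S)
    (hreal : F.IsRealizedBy ι) (hsyl : ∃ T : Sylow p G, (T : Subgroup G) = ι.range)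
    {U : Subgroup Ω} (hUS : U ≤ S) (hUc : centralizerIn S U = S) (hnt : ¬ NTC p F U)
    (Y : Subgroup G) (hY : IsPGroup p Y)
    (hYH : Y ≤ Subgroup.centralizer ((imgOf ι U : Subgroup G) : Set G)) (g : G)
    (hgH : g ∈ Subgroup.centralizer ((imgOf ι U : Subgroup G) : Set G))
    (hgY : g ∈ Subgroup.normalizer (Y : Set G)) (hcop : Nat.Coprime (orderOf g) p) :
    g ∈ Subgroup.centralizer (Y : Set G) := by
  have hinj := hreal.1
  set V := imgOf ι U with hV
  set H := Subgroup.centralizer (V : Set G) with hH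
  have hHN : H ≤ Subgroup.normalizer (V : Set G) := Subgroup.centralizer_le_normalizer _
  have hVp : IsPGroup p V := imgOf_isPGroup hS hUS
  -- the image of `S` centralizes `V`
  have hTH : ι.range ≤ H := by
    rintro _ ⟨s, rfl⟩
    rw [hH, Subgroup.mem_centralizer_iff]
    intro v hv
    obtain ⟨u, huS, huU, rfl⟩ := mem_imgOf.1 hv
    have hsC : (s : Ω) ∈ centralizerIn S U := by rw [hUc]; exact s.2
    have h1 : u * (s : Ω) = (s : Ω) * u := Subgroup.mem_centralizer_iff.1 hsC.2 u huU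
    rw [← map_mul, ← map_mul]
    congr 1
    exact Subtype.ext h1
  have hVH : V ≤ H := fun v hv => hTH (imgOf_le_range U hv)
  -- `Y₁ = Y V`
  have hY₁p : IsPGroup p (Y ⊔ V : Subgroup G) := hY.to_sup_of_normal_right' hVp (hYH.trans hHN)
  have hY₁H : Y ⊔ V ≤ H := sup_le hYH hVH
  have hgY₁ : cj g (Y ⊔ V) = Y ⊔ V := by
    show (Y ⊔ V).map _ = _
    rw [Subgroup.map_sup]
    show cj g Y ⊔ cj g V = _
    rw [cj_eq_self_of_mem_normalizer hgY, cj_eq_self_of_mem_normalizer (hHN hgH)]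
  -- the image of `S` is a Sylow subgroup of `H`
  obtain ⟨T, hT⟩ := hsyl
  have hTsyl : IsSylowIn p ι.range H := by
    apply isSylowIn_of_max hTH (hT ▸ T.2)
    intro Y' hTY' _ hY'p
    have := T.3 hY'p (hT ▸ hTY')
    rw [← hT, this]
  obtain ⟨n, hnH, hn⟩ := hTsyl.exists_conj hY₁H hY₁p
  -- conjugate everything by `n`
  set Y₂ := cj n (Y ⊔ V) with hY₂
  set g₂ := n * g * n⁻¹ with hg₂
  have hVY₂ : V ≤ Y₂ := by
    have h1 : cj n V ≤ Y₂ := cj_mono n le_sup_right
    rwa [cj_eq_self_of_mem_normalizer (hHN hnH)] at h1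
  have hg₂H : g₂ ∈ H := H.mul_mem (H.mul_mem hnH hgH) (H.inv_mem hnH)
  have hg₂Y₂ : ∀ y ∈ Y₂, g₂ * y * g₂⁻¹ ∈ Y₂ := by
    intro y hy
    rw [hY₂, mem_cj] at hy ⊢
    have h1 : g * (n⁻¹ * y * n) * g⁻¹ ∈ Y ⊔ V := by
      have : g * (n⁻¹ * y * n) * g⁻¹ ∈ cj g (Y ⊔ V) := conj_mem_cj hy
      rwa [hgY₁] at this
    have : n⁻¹ * (g₂ * y * g₂⁻¹) * n = g * (n⁻¹ * y * n) * g⁻¹ := by
      rw [hg₂]; group
    rwa [this]
  -- the subgroup `P` of `S` with image `Y₂`
  set P := preSub ι Y₂ with hP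
  have hPS : P ≤ S := preSub_le ι Y₂
  have himg : imgOf ι P = Y₂ := by
    ext y
    constructor
    · intro hy
      obtain ⟨x, hxS, hxP, rfl⟩ := mem_imgOf.1 hy
      obtain ⟨_, h⟩ := mem_preSub.1 hxP
      exact h
    · intro hy
      obtain ⟨s, rfl⟩ := hn hy
      exact mem_imgOf.2 ⟨s, s.2, mem_preSub.2 ⟨s.2, hy⟩, rfl⟩
  have hUP : U ≤ P := by
    intro u hu
    exact mem_preSub.2 ⟨hUS hu, hVY₂ (mem_imgOf.2 ⟨u, hUS hu, hu, rfl⟩)⟩
  obtain ⟨f, hf, hfg⟩ := exists_isIso_of_elt hreal hPS g₂ (fun x hx => by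
    rw [himg]
    exact hg₂Y₂ _ (himg ▸ al_mem_imgOf hPS hx))
  have hfU : ∀ x ∈ U, f x = x := by
    intro x hx
    have hxV : al ι x ∈ V := al_mem_imgOf hUS hx
    have h1 : al ι (f x) = al ι x := by
      rw [hfg x (hUP hx)]
      have h2 := Subgroup.mem_centralizer_iff.1 hg₂H _ hxV
      rw [← h2]
      group
    exact al_injOn hinj (hPS (hf.map_mem (hUP hx))) (hUS hx) h1
  have hpa : IsPAut p P f := by
    by_contra hnp
    exact hnt ⟨P, f, hUP, by rw [hUc]; exact hPS, hf, hfU, hnp⟩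
  obtain ⟨k, hk⟩ := hpa
  -- `g₂ ^ p ^ k` centralizes `Y₂`
  have hcent : ∀ y ∈ Y₂, g₂ ^ p ^ k * y = y * g₂ ^ p ^ k := by
    intro y hy
    rw [← himg] at hy
    obtain ⟨x, hxP, hxS, rfl⟩ := exists_al_of_mem_imgOf hy
    have h1 := al_iterate hf hfg (p ^ k) x hxP
    rw [hk x hxP] at h1
    calc g₂ ^ p ^ k * al ι x = (g₂ ^ p ^ k * al ι x * (g₂ ^ p ^ k)⁻¹) * g₂ ^ p ^ k := by group
      _ = al ι x * g₂ ^ p ^ k := by rw [← h1]
  -- hence so does `g₂`
  have hord : orderOf g₂ = orderOf g := by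
    rw [hg₂]
    exact orderOf_injective (MulAut.conj n).toMonoidHom (MulAut.conj n).injective g
  have hcop' : Nat.Coprime (p ^ k) (orderOf g₂) := by
    rw [hord]
    exact (Nat.Coprime.pow_right k hcop).symm
  obtain ⟨m, hm⟩ := exists_pow_eq_self_of_coprime hcop'
  have hcent₂ : ∀ y ∈ Y₂, g₂ * y = y * g₂ := by
    intro y hy
    have h1 : Commute (g₂ ^ p ^ k) y := hcent y hy
    have h2 : Commute ((g₂ ^ p ^ k) ^ m) y := h1.pow_left m
    rw [hm] at h2
    exact h2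
  -- back to `g` and `Y`
  rw [Subgroup.mem_centralizer_iff]
  intro y hy
  have hyY₂ : n * y * n⁻¹ ∈ Y₂ := conj_mem_cj ((le_sup_left : Y ≤ Y ⊔ V) hy)
  have h1 := hcent₂ _ hyY₂
  have h2 : n * (g * y) * n⁻¹ = n * (y * g) * n⁻¹ := by
    calc n * (g * y) * n⁻¹ = g₂ * (n * y * n⁻¹) := by rw [hg₂]; group
      _ = (n * y * n⁻¹) * g₂ := h1
      _ = n * (y * g) * n⁻¹ := by rw [hg₂]; group
  have h3 := mul_left_cancel (mul_right_cancel h2)
  exact h3.symm

/-- If `NTC p F U` fails for `U` central in `S` then `C_G(U)` has a normal `p`-complement. -/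
theorem npc_centralizer_of_not_NTC [Finite S] [Finite G] {p : ℕ} [Fact p.Prime] (hS : IsPGroup p S)
    (hreal : F.IsRealizedBy ι) (hsyl : ∃ T : Sylow p G, (T : Subgroup G) = ι.range)
    {U : Subgroup Ω} (hUS : U ≤ S) (hUc : centralizerIn S U = S) (hnt : ¬ NTC p F U) :
    Cfsg.HasNormalPComplement p ↥(Subgroup.centralizer ((imgOf ι U : Subgroup G) : Set G)) := by
  set H := Subgroup.centralizer ((imgOf ι U : Subgroup G) : Set G) with hH
  apply hasNormalPComplement_of_frobHyp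
  intro Y' hY' g' hg' hcop
  have hYp : IsPGroup p (Y'.map H.subtype) := hY'.map _
  have hYH : Y'.map H.subtype ≤ H := by
    rintro _ ⟨y, -, rfl⟩
    exact y.2
  have hgN : (g' : G) ∈ Subgroup.normalizer ((Y'.map H.subtype : Subgroup G) : Set G) := by
    have hfin : Finite (Y'.map H.subtype) := inferInstance
    apply Cfsg.Agent.Lib.H25.mem_normalizer_of_conj_mem
    rintro _ ⟨y, hy, rfl⟩
    exact ⟨g' * y * g'⁻¹, (Subgroup.mem_normalizer_iff.1 hg' y).1 hy, rfl⟩
  have hcop' : Nat.Coprime (orderOf (g' : G)) p := by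
    rwa [Subgroup.orderOf_coe]
  have hc := frob_of_not_NTC hS hreal hsyl hUS hUc hnt _ hYp hYH g' g'.2 hgN hcop'
  rw [Subgroup.mem_centralizer_iff] at hc ⊢
  intro y hy
  apply Subtype.ext
  exact hc y ⟨y, hy, rfl⟩

end Cfsg.Agent.Lib.H26.Thompson
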