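import Mathlib
import Cfsg.Agent.Lib.H26.ThompsonGroup
import Cfsg.Agent.Lib.H26.SectionFreeGen
import Cfsg.Agent.Lib.H26.ModelNormal
import Cfsg.Agent.S2800

set_option autoImplicit false
set_option linter.unusedSectionVars false
set_option linter.unusedVariables false

/-!
**Thompson's normal `p`-complement theorem for saturated fusion systems** (helper26): if `p` is
odd or `F` is `S₄`-free, and the centralizer system of `Z(S)` and the normalizer system of `J(S)`
have `p`-group automizers, then so has `F`.  The reduction follows `NilMain` (maximal `Q` with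
`N_F(Q)` not nilpotent, quotient by `Q`, model of the constrained case) and the group theorem is
helper14's S2800.
-/

namespace Cfsg.Agent.Lib.H26.Thompson

open Cfsg Cfsg.FusionSystem Cfsg.Agent.Lib.H25 Cfsg.Agent.Lib.H26 Cfsg.Agent.Lib.H26.Model
  Cfsg.Agent.Lib.H26.Nil Cfsg.Agent.Lib.H26.Gen

universe u

variable {Ω : Type u} [Group Ω] {S : Subgroup Ω}

/-- the side condition: `p` is odd or the system is `S₄`-free -/
def Fr (p : ℕ) (F : FusionSystem S) : Prop :=
  p ≠ 2 ∨ F.IsSectionFree p (Equiv.Perm (Fin 4))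

theorem Fr.normalizer [Finite S] {p : ℕ} [Fact p.Prime] (hS : IsPGroup p S) {F : FusionSystem S}
    (hF : F.IsSaturated p) (h : Fr p F) {Q : Subgroup Ω} (hQ : F.IsFullyNormalized Q)
    {N : FusionSystem (normalizerIn S Q)} (hN : F.IsNormalizerSystem Q N) : Fr p N := by
  rcases h with h | h
  · exact Or.inl h
  · exact Or.inr (SecFree.normalizerSystem_isSectionFree p hS F hF h Q hQ N hN)

/-- The normalizer system of a fully normalized subgroup normal in `S`, as a system over `S`,
with the side condition. -/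
theorem exists_normalizer_on_top_fr [Finite S] {p : ℕ} [Fact p.Prime] (hS : IsPGroup p S)
    {F : FusionSystem S} (hF : F.IsSaturated p) (hfr : Fr p F)
    {Q : Subgroup Ω} (hQfn : F.IsFullyNormalized Q) (hNS : normalizerIn S Q = S) :
    ∃ N : FusionSystem S, (∀ P : Subgroup Ω, N.Hom P = F.normalizerHom Q P) ∧
      N.IsSaturated p ∧ N.IsNormal Q ∧ Fr p N := by
  have hQS := hQfn.1
  have key : ∀ (T : Subgroup Ω) (_ : T = S) (N : FusionSystem T),
      (∀ P : Subgroup Ω, N.Hom P = F.normalizerHom Q P) → N.IsSaturated p → N.IsNormal Q →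
      Fr p N →
      ∃ N : FusionSystem S, (∀ P : Subgroup Ω, N.Hom P = F.normalizerHom Q P) ∧
        N.IsSaturated p ∧ N.IsNormal Q ∧ Fr p N := by
    rintro T rfl N h1 h2 h3 h4
    exact ⟨N, h1, h2, h3, h4⟩
  have hN : F.IsNormalizerSystem Q (Cfsg.Agent.S5096.normSys F Q hQS) := fun _ => rfl
  exact key _ hNS _ hN (normalizerSystem_isSaturated hS hF hQfn _ hN)
    (normalizerSystem_isNormal hQS hN) (hfr.normalizer hS hF hQfn hN)

section Main

variable {p : ℕ} [Fact p.Prime]

/-- The inductive statement. -/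
def ThGoal (p : ℕ) [Fact p.Prime] (n : ℕ) : Prop :=
  ∀ {Ω : Type u} [Group Ω] {S : Subgroup Ω} [Finite S], Nat.card S = n → IsPGroup p S →
    ∀ F : FusionSystem S, F.IsSaturated p → Fr p F → ¬ NTC p F ((zFun p).W S) →
      ¬ NT p F ((jFun p).W S) → AllP p F

/-- the measure used to choose `Q` -/
noncomputable def meas (S Q : Subgroup Ω) : ℕ :=
  Nat.card (normalizerIn S Q) * (Nat.card S + 1) + Nat.card Q

/-- First stage, generic in the functor: if `N_S(Q) < S` for the chosen `Q`, the normalizer system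
of `Q` satisfies `¬ NT` at `W(N_S(Q))`. -/
theorem stage1_aux (W : PFun.{u} p) [Finite S] (hS : IsPGroup p S) {F : FusionSystem S}
    (hF : F.IsSaturated p) {Q : Subgroup Ω} (hQne : Q ≠ ⊥) (hQfn : F.IsFullyNormalized Q)
    (hQmax : ∀ U ∈ {Q : Subgroup Ω | Q ≠ ⊥ ∧ F.IsFullyNormalized Q ∧ NT p F Q},
      meas S U ≤ meas S Q)
    (hne : normalizerIn S Q ≠ S) :
    ¬ NT p (Cfsg.Agent.S5096.normSys F Q hQfn.1) (W.W (normalizerIn S Q)) := by
  intro hNW
  have hQS := hQfn.1
  have hRS : normalizerIn S Q ≤ S := inf_le_left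
  have hfinR : Finite (normalizerIn S Q) := finite_of_le S hRS
  have hRp : IsPGroup p (normalizerIn S Q) := hS.to_le hRS
  have hNsys : F.IsNormalizerSystem Q (Cfsg.Agent.S5096.normSys F Q hQS) := fun _ => rfl
  have hFW : NT p F (W.W (normalizerIn S Q)) :=
    hNW.mono hRS (fun P φ hφ => by rw [hNsys P] at hφ; exact hφ.1)
  have hWR : W.W (normalizerIn S Q) ≤ normalizerIn S Q := W.le _
  have hWRS : W.W (normalizerIn S Q) ≤ S := hWR.trans hRS
  obtain ⟨U', X, χ, hfn', hχ, hχU⟩ := exists_fn_map hS hF hWRS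
  have hU'nt := hFW.transport hχ hχU
  have hRne : normalizerIn S Q ≠ ⊥ := by
    intro h
    apply hQne
    rw [eq_bot_iff, ← h]
    exact le_normalizerIn hQS
  have hWne := W.ne_bot _ hfinR hRp hRne
  have hU'ne : U' ≠ ⊥ := by
    rintro rfl
    apply hWne
    rw [eq_bot_iff]
    intro x hx
    have h1 := hχU.map_mem hx
    rw [Subgroup.mem_bot] at h1
    rw [Subgroup.mem_bot]
    exact hχU.injOn hx (Subgroup.one_mem _) (h1.trans hχU.map_one.symm)
  have hmax := hQmax U' ⟨hU'ne, hfn', hU'nt⟩
  have h1 : Nat.card (normalizerIn S (W.W (normalizerIn S Q))) ≤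
      Nat.card (normalizerIn S U') := hfn'.2 _ (isConj_symm F hχU.isConj)
  have h2 : Nat.card (normalizerIn S Q) <
      Nat.card (normalizerIn S (W.W (normalizerIn S Q))) := by
    obtain ⟨g, hgN, hgR⟩ := exists_mem_normalizerIn_not_mem hS hRS hne
    have hle : normalizerIn S Q ≤ normalizerIn S (W.W (normalizerIn S Q)) :=
      (le_normalizerIn hRS).trans (W.normalizerIn_le S _ hfinR hRp)
    apply card_lt_of_lt' inf_le_left
    refine lt_of_le_of_ne hle ?_
    intro heq
    apply hgR
    rw [heq]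
    exact W.normalizerIn_le S _ hfinR hRp hgN
  have h3 : Nat.card Q ≤ Nat.card S := Subgroup.card_le_of_le hQS
  have h4 : (Nat.card (normalizerIn S Q) + 1) * (Nat.card S + 1) ≤
      Nat.card (normalizerIn S U') * (Nat.card S + 1) :=
    Nat.mul_le_mul_right _ (by omega)
  have hmax' : Nat.card (normalizerIn S U') * (Nat.card S + 1) + Nat.card U' ≤
      Nat.card (normalizerIn S Q) * (Nat.card S + 1) + Nat.card Q := hmax
  nlinarith

/-- the quotient step, generic in the functor -/
theorem quot_aux (W : PFun.{u} p) [Finite S] (hS : IsPGroup p S) {F : FusionSystem S}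
    {Q : Subgroup Ω} {Ω' : Type u} [Group Ω'] {S' : Subgroup Ω'} {F' : FusionSystem S'}
    {θ : S →* Ω'} (hsm : F.IsSurjectiveMorphism F' θ) (hker : kerSub θ = Q)
    (hK : F.StronglyClosed (kerSub θ)) (hS'bot : S' ≠ ⊥)
    (hmax : ∀ R : Subgroup Ω, Q < R → normalizerIn S R = S → ¬ NT p F R) :
    ¬ NT p F' (W.W S') := by
  intro hnt
  have hrange := hsm.2.1
  have hfinS' : Finite S' := finite_S' hrange
  have hS'p : IsPGroup p S' := isPGroup_S' hrange hS
  have h1 := lift_NT hsm hK hnt
  have hWS' : W.W S' ≤ S' := W.le S'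
  refine hmax _ ?_ ?_ h1
  · rw [← hker]
    refine lt_of_le_of_ne (kerSub_le_pre θ _) ?_
    intro heq
    have h2 : (⊥ : Subgroup Ω') = W.W S' := pre_injective hrange bot_le hWS' heq
    exact W.ne_bot S' hfinS' hS'p hS'bot h2.symm
  · rw [normalizerIn_pre hrange hWS']
    rw [W.normalizerIn_self S' hS'p, pre_top hrange]

/-- Second stage: a system with a nontrivial normal subgroup `Q`, maximal in the appropriate
sense. -/
theorem stage2 {n : ℕ} (ih : ∀ m < n, ThGoal.{u} p m) [Finite S] (hcard : Nat.card S = n)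
    (hS : IsPGroup p S) {F : FusionSystem S} (hF : F.IsSaturated p) (hfr : Fr p F)
    {Q : Subgroup Ω}
    (hQ : F.IsNormal Q) (hQne : Q ≠ ⊥) (hZ : ¬ NTC p F ((zFun p).W S))
    (hJ : ¬ NT p F ((jFun p).W S))
    (hmax : ∀ R : Subgroup Ω, Q < R → normalizerIn S R = S → ¬ NT p F R) : AllP p F := by
  have hQsc := isNormal_stronglyClosed hQ
  have hQS := hQ.1
  have hfinQ : Finite Q := finite_of_le S hQS
  obtain ⟨Ω', _, S', F', θ, hsm, hker, hfac⟩ := exists_factor hS hF hQsc
  have hrange := hsm.2.1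
  have hfinS' : Finite S' := finite_S' hrange
  have hS'p : IsPGroup p S' := isPGroup_S' hrange hS
  have hK : F.StronglyClosed (kerSub θ) := hker ▸ hQsc
  have hF'sat : F'.IsSaturated p := isSaturated_of_surjectiveMorphism hS hF hsm
  have hF'fr : Fr p F' := by
    rcases hfr with h | h
    · exact Or.inl h
    · exact Or.inr (SecFree.factor_isSectionFree p hS F hF Q hQ h θ F' hfac)
  -- the quotient is smaller
  have hlt : Nat.card S' < n := by
    have h1 := card_pre hrange (le_rfl : S' ≤ S')
    rw [pre_top hrange, hker, hcard] at h1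
    have h2 : 1 < Nat.card Q := by
      rw [Subgroup.one_lt_card_iff_ne_bot]
      exact hQne
    have h3 : 0 < Nat.card S' := Nat.card_pos
    rw [h1]
    nlinarith
  -- the quotient system has `p`-group automizers
  have hallF' : AllP p F' := by
    by_cases hS'bot : S' = ⊥
    · exact allP_of_eq_bot hS'bot
    apply ih _ hlt rfl hS'p F' hF'sat hF'fr
    · intro hnt
      exact quot_aux (zFun p) hS hsm hker hK hS'bot hmax hnt.toNT
    · exact quot_aux (jFun p) hS hsm hker hK hS'bot hmax
  -- automorphisms centralizing `Q` are `p`-elements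
  obtain ⟨m, hm⟩ := (hS.to_le hQS).exists_card_eq
  have hstab : ∀ (P : Subgroup Ω) (f : Ω → Ω), IsIso F P P f → Q ≤ P → (∀ x ∈ Q, f x = x) →
      IsPAut p P f := by
    intro P f hf hQP hfix
    exact push_isPAut hsm.1 hallF' hf (hker ▸ hQP) (hker ▸ hfix) (hker ▸ hm)
  have hRn := isNormal_sup_centralizer hS hF hQ hstab
  by_contra hnot
  -- `Q` is centric
  have hC : centralizerIn S Q ≤ Q := by
    by_contra hC
    refine hmax (Q ⊔ centralizerIn S Q) ?_
      (stronglyClosed_normalizerIn_eq (isNormal_stronglyClosed hRn)) (NT_of_isNormal hRn hnot)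
    refine lt_of_le_of_ne le_sup_left ?_
    intro heq
    exact hC ((le_sup_right : centralizerIn S Q ≤ Q ⊔ centralizerIn S Q).trans (le_of_eq heq.symm))
  have hQc : F.IsCentric Q := isCentric_of_isNormal hQ hC
  -- the model
  obtain ⟨G, _, ι, π, hM, -⟩ := exists_model_normal_centric hS hF hQ hQc
  -- `S₄` is not involved in the model
  have hinv : p ≠ 2 ∨ ¬ Involves (Equiv.Perm (Fin 4)) G := by
    rcases hfr with h | h
    · exact Or.inl h
    · right
      have hNSQ : normalizerIn S Q = S := stronglyClosed_normalizerIn_eq hQsc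
      have hQfn : F.IsFullyNormalized Q :=
        Cfsg.Agent.Lib.H26.ZJ.isFullyNormalized_of_normalizerIn_eq hQS hNSQ
      have hN : F.IsNormalizerSystem Q (Cfsg.Agent.S5096.normSys F Q hQS) := fun _ => rfl
      obtain ⟨ι', hM'⟩ := Cfsg.Agent.Lib.H26.ZJ.exists_model_cast hM _ hNSQ
        (Cfsg.Agent.S5096.normSys F Q hQS)
        (fun P => (hN P).trans (Cfsg.Agent.Lib.H26.ZJ.normalizerHom_eq_of_isNormal hQ P))
      exact h Q hQfn hQc _ hN G ι' hM'
  obtain ⟨hfinG, hreal, hsyl, hcent⟩ := hM
  have hJn : normalizerIn S ((jFun p).W S) = S := (jFun p).normalizerIn_self S hS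
  have hnpcN := npc_normalizer_of_not_NT hS hreal hsyl ((jFun p).le S) hJn hJ
  have hZc : centralizerIn S ((zFun p).W S) = S := by
    apply le_antisymm inf_le_left
    intro s hs
    refine ⟨hs, ?_⟩
    show s ∈ Subgroup.centralizer (((zFun p).W S : Subgroup Ω) : Set Ω)
    rw [Subgroup.mem_centralizer_iff]
    intro z hz
    have hz2 : z ∈ Subgroup.centralizer (S : Set Ω) := hz.2
    exact (Subgroup.mem_centralizer_iff.1 hz2 s hs).symm
  have hnpcC := npc_centralizer_of_not_NTC hS hreal hsyl ((zFun p).le S) hZc hZ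
  obtain ⟨T, hT⟩ := hsyl
  have himgJ : imgOf ι ((jFun p).W S) = (jFun p).W (T : Subgroup G) := by
    rw [hT]
    exact (jFun p).imgOf_eq hS hreal.1
  have himgZ : imgOf ι ((zFun p).W S) = (zFun p).W (T : Subgroup G) := by
    rw [hT]
    exact (zFun p).imgOf_eq hS hreal.1
  rw [himgJ] at hnpcN
  rw [himgZ] at hnpcC
  exact hnot (allP_of_npc hS hreal (Cfsg.Agent.S2800.result T hinv hnpcC hnpcN))

/-- **Main theorem**. -/
theorem thGoal_all : ∀ n : ℕ, ThGoal.{u} p n := by
  intro n
  induction n using Nat.strong_induction_on with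
  | _ n ih =>
    intro Ω _ S _ hcard hS F hF hfr hZ hJ
    by_contra hnot
    -- Stage 1: a maximal `Q`
    have h𝒬 := exists_NT_of_not_allP hS hF hnot
    have hfin : {Q : Subgroup Ω | Q ≠ ⊥ ∧ F.IsFullyNormalized Q ∧ NT p F Q}.Finite :=
      (finite_subgroups_le S).subset (fun Q hQ => hQ.2.1.1)
    obtain ⟨Q, ⟨hQne, hQfn, hQnt⟩, hQmax⟩ := Set.exists_max_image _
      (fun Q : Subgroup Ω => meas S Q) hfin h𝒬
    have hQS := hQfn.1
    have hfinQ : Finite Q := finite_of_le S hQS
    -- `Q` is normal in `S`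
    have hNS : normalizerIn S Q = S := by
      by_contra hne
      have hRS : normalizerIn S Q ≤ S := inf_le_left
      have hfinR : Finite (normalizerIn S Q) := finite_of_le S hRS
      have hRp : IsPGroup p (normalizerIn S Q) := hS.to_le hRS
      have hRlt : Nat.card (normalizerIn S Q) < Nat.card S :=
        card_lt_of_lt' le_rfl (lt_of_le_of_ne hRS hne)
      have hNsys : F.IsNormalizerSystem Q (Cfsg.Agent.S5096.normSys F Q hQS) := fun _ => rfl
      have hNsat := normalizerSystem_isSaturated hS hF hQfn _ hNsys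
      have hNnot : ¬ AllP p (Cfsg.Agent.S5096.normSys F Q hQS) :=
        not_allP_of_NT hQS hNsys hQnt
      apply hNnot
      apply ih _ (hcard ▸ hRlt) rfl hRp _ hNsat (hfr.normalizer hS hF hQfn hNsys)
      · intro h
        exact stage1_aux (zFun p) hS hF hQne hQfn hQmax hne h.toNT
      · exact stage1_aux (jFun p) hS hF hQne hQfn hQmax hne
    -- Stage 2
    obtain ⟨N, hNhom, hNsat, hNQ, hNfr⟩ := exists_normalizer_on_top_fr hS hF hfr hQfn hNS
    have hNF : ∀ P : Subgroup Ω, N.Hom P ⊆ F.Hom P := fun P φ hφ => by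
      rw [hNhom P] at hφ; exact hφ.1
    have hNnot : ¬ AllP p N := not_allP_of_NT hQS hNhom hQnt
    apply hNnot
    apply stage2 ih hcard hS hNsat hNfr hNQ hQne
    · intro h
      exact hZ (h.mono le_rfl hNF)
    · intro h
      exact hJ (h.mono le_rfl hNF)
    · intro R hQR hRn hnt
      have hFnt : NT p F R := hnt.mono le_rfl hNF
      have hRS : R ≤ S := by
        obtain ⟨P, f, hRP, hPN, -⟩ := hFnt
        exact hRP.trans (hPN.trans inf_le_left)
      have hRfn : F.IsFullyNormalized R := by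
        refine ⟨hRS, fun Q' _ => ?_⟩
        rw [hRn]
        exact Subgroup.card_le_of_le inf_le_left
      have hRne : R ≠ ⊥ := by
        rintro rfl
        exact not_lt_bot hQR
      have hmax := hQmax R ⟨hRne, hRfn, hFnt⟩
      have hmax' : Nat.card (normalizerIn S R) * (Nat.card S + 1) + Nat.card R ≤
          Nat.card (normalizerIn S Q) * (Nat.card S + 1) + Nat.card Q := hmax
      rw [hRn, hNS] at hmax'
      have := card_lt_of_lt' hRS hQR
      omega

end Main

end Cfsg.Agent.Lib.H26.Thompson
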