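import Mathlib
import Cfsg.Agent.Lib.H26.CtlCenter

set_option autoImplicit false

/-!
Control of weak closure of elements by a Glauberman functor, relative to a class of admissible
central elements (helper26): the same argument as in `CtlCenter`, for the elements `z` of the centre
of `S` singled out by a predicate `Adm S z` that is stable under passage to subgroups containing
the centre and under homomorphic images.
-/

namespace Cfsg.Agent.Lib.H26.CtlA

open Cfsg Cfsg.FusionSystem Cfsg.Agent.Lib.H25 Cfsg.Agent.Lib.H26 Cfsg.Agent.Lib.H26.Nil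
  Cfsg.Agent.Lib.H26.Model Cfsg.Agent.Lib.H26.ZJ Cfsg.Agent.Lib.H26.Ctl

universe u

variable {Ω : Type u} [Group Ω] {S : Subgroup Ω}

section main

variable {p : ℕ} [Fact p.Prime] (W : PFun.{u} p)

variable (Adm : ∀ {G : Type u} [Group G], Subgroup G → G → Prop)

/-- The inductive statement. -/
def MainA (n : ℕ) : Prop :=
  ∀ {Ω : Type u} [Group Ω] {S : Subgroup Ω} [Finite S], Nat.card S = n → IsPGroup p S →
    ∀ F : FusionSystem S, F.IsSaturated p → ∀ Z : Subgroup Ω,
      (∀ z ∈ Z, Adm S z) →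
      (∀ f : Ω → Ω, IsIso F (W.W S) (W.W S) f → ∀ x ∈ Z, f x = x) → FixZ F Z

variable (hWZ : ∀ {G : Type u} [Group G] (Q : Subgroup G), Finite Q → IsPGroup p Q →
    Q ⊓ Subgroup.centralizer (Q : Set G) ≤ W.W Q)
  (hA1 : ∀ {G : Type u} [Group G] (T : Subgroup G) (z : G), Adm T z →
    z ∈ T ⊓ Subgroup.centralizer (T : Set G))
  (hA2 : ∀ {G : Type u} [Group G] (S T : Subgroup G) (z : G), Adm S z → T ≤ S →
    S ⊓ Subgroup.centralizer (S : Set G) ≤ T → Adm T z)
  (hA3 : ∀ {G G' : Type u} [Group G] [Group G'] (S : Subgroup G) (f : S →* G') (z : G)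
    (hz : z ∈ S), Adm S z → Adm f.range (f ⟨z, hz⟩))
  (hC : ∀ (L : Type u) [Group L] [Finite L] (P : Sylow p L),
    Subgroup.centralizer ((pCore p L : Subgroup L) : Set L) ≤ pCore p L → ∀ x : L,
    Adm (P : Subgroup L) x → x ∈ pCore p L →
    (∀ m ∈ Subgroup.normalizer ((W.W (P : Subgroup L) : Subgroup L) : Set L), m * x = x * m) →
    x ∈ Subgroup.center L)

include hA1 hA3 hC in
/-- The constrained case, through the model. -/
theorem fixZ_of_constrained [Finite S] (hS : IsPGroup p S) {F : FusionSystem S}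
    (hF : F.IsSaturated p) {Q : Subgroup Ω} (hQ : F.IsNormal Q) (hCQ : centralizerIn S Q ≤ Q)
    {Z : Subgroup Ω} (hZadm : ∀ z ∈ Z, Adm S z) (hZW : Z ≤ W.W S)
    (hfix : ∀ f : Ω → Ω, IsIso F (W.W S) (W.W S) f → ∀ x ∈ Z, f x = x) : FixZ F Z := by
  have hZ : Z ≤ S ⊓ Subgroup.centralizer (S : Set Ω) := fun z hz => hA1 S z (hZadm z hz)
  have hQS := hQ.1
  have hWS : W.W S ≤ S := W.le S
  have hQc : F.IsCentric Q := isCentric_of_isNormal hQ hCQ
  have hcon : F.IsConstrained p := ⟨hF, Q, hQ, hQc⟩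
  obtain ⟨G, hG, ι, hM⟩ := Cfsg.Agent.S5090.result p hS F hcon
  have hcore := model_core_eq hS hM
  obtain ⟨hfinG, hreal, ⟨T, hT⟩, hCU⟩ := hM
  have hinj := hreal.1
  have hZQ : Z ≤ Q := by
    intro z hz
    apply hCQ
    refine ⟨(hZ hz).1, ?_⟩
    have h1 : z ∈ Subgroup.centralizer (S : Set Ω) := (hZ hz).2
    exact Subgroup.centralizer_le (show (Q : Set Ω) ⊆ S from hQS) h1
  have hWT : W.W (T : Subgroup G) = imgOf ι (W.W S) := by
    rw [hT]; exact (W.imgOf_eq hS hinj).symm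
  have hfinT : Finite (T : Subgroup G) := inferInstance
  have key : ∀ z (hz : z ∈ Z), ι ⟨z, (hZ hz).1⟩ ∈ Subgroup.center G := by
    intro z hz
    have hzS := (hZ hz).1
    apply hC G T hCU
    · have h0 := hA3 S ι z hzS (hZadm z hz)
      rw [← hT] at h0
      exact h0
    · have h1 : z ∈ F.core := (le_sSup hQ : Q ≤ F.core) (hZQ hz)
      rw [hcore] at h1
      obtain ⟨_, h⟩ := mem_preSub.1 h1
      exact h
    · intro m hm
      rw [hWT] at hm
      have hmem : ∀ x : ↥(W.W S), m * ι ⟨x, hWS x.2⟩ * m⁻¹ ∈ ι.range := by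
        intro x
        have h1 : ι ⟨x, hWS x.2⟩ ∈ imgOf ι (W.W S) := mem_imgOf.2 ⟨x, hWS x.2, x.2, rfl⟩
        have h2 := (Subgroup.mem_normalizer_iff.1 hm _).1 h1
        obtain ⟨y, hyS, -, hy⟩ := mem_imgOf.1 h2
        exact ⟨⟨y, hyS⟩, hy⟩
      obtain ⟨ψ, hψ⟩ := exists_conjMap hinj m hWS hmem
      have hψS : ∀ x, ψ x ∈ S := fun x => (hψ x).1
      have hψι : ∀ x, ι ⟨ψ x, hψS x⟩ = m * ι ⟨x, hWS x.2⟩ * m⁻¹ := fun x => (hψ x).2
      have hψF : ψ ∈ F.Hom (W.W S) := (hreal.2 _ hWS ψ hψS).2 ⟨m, hψι⟩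
      have h1 : IsIso F (W.W S) ψ.range (ext1 ψ) := isIso_of_mem F hψF
      have hmap : ∀ x ∈ W.W S, ext1 ψ x ∈ W.W S := by
        intro x hx
        rw [ext1_apply_mem ψ hx]
        have h1 : ι ⟨x, hWS hx⟩ ∈ imgOf ι (W.W S) := mem_imgOf.2 ⟨x, hWS hx, hx, rfl⟩
        have h2 := (Subgroup.mem_normalizer_iff.1 hm _).1 h1
        rw [← hψι ⟨x, hx⟩] at h2
        obtain ⟨y, hyS, hyW, hy⟩ := mem_imgOf.1 h2
        have h3 : (⟨y, hyS⟩ : S) = ⟨ψ ⟨x, hx⟩, hψS _⟩ := hinj hy
        have h4 : y = ψ ⟨x, hx⟩ := congrArg Subtype.val h3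
        rw [← h4]; exact hyW
      have h2 : ψ.range = W.W S := IsIso.eq_of_map_mem h1 hmap
      rw [h2] at h1
      have h3 := hfix _ h1 z hz
      rw [ext1_apply_mem ψ (hZW hz)] at h3
      have h4 := hψι ⟨z, hZW hz⟩
      have h5 : (⟨ψ ⟨z, hZW hz⟩, hψS _⟩ : S) = ⟨z, hzS⟩ := Subtype.ext h3
      rw [h5] at h4
      have h6 : (⟨((⟨z, hZW hz⟩ : ↥(W.W S)) : Ω), hWS (hZW hz)⟩ : S) = ⟨z, hzS⟩ := rfl
      rw [h6] at h4
      calc m * ι ⟨z, hzS⟩ = (m * ι ⟨z, hzS⟩ * m⁻¹) * m := by group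
        _ = ι ⟨z, hzS⟩ * m := by rw [← h4]
  intro A B f hf x hx hxZ
  obtain ⟨φ, hφ, hφf, hr⟩ := hf
  have hAS := hom_le F hφ
  have hφS : ∀ y, φ y ∈ S := fun y => hom_mem_S F hφ y
  obtain ⟨g, hg⟩ := (hreal.2 A hAS φ hφS).1 hφ
  have h1 := hg ⟨x, hx⟩
  have h2 := key x hxZ
  rw [Subgroup.mem_center_iff] at h2
  have h3 : g * ι ⟨x, (hZ hxZ).1⟩ * g⁻¹ = ι ⟨x, (hZ hxZ).1⟩ := by
    rw [h2 g, mul_inv_cancel_right]
  have h4 : (⟨((⟨x, hx⟩ : A) : Ω), hAS hx⟩ : S) = ⟨x, (hZ hxZ).1⟩ := rfl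
  rw [h4, h3] at h1
  have h5 : (⟨φ ⟨x, hx⟩, hφS _⟩ : S) = ⟨x, (hZ hxZ).1⟩ := hinj h1
  rw [← hφf ⟨x, hx⟩]
  exact congrArg Subtype.val h5

include hWZ hA1 hA2 hA3 hC in
/-- **Case B**: a saturated system with a nontrivial normal subgroup. -/
theorem caseB_center {n : ℕ} (ih : ∀ m < n, MainA W Adm m) [Finite S] (hcard : Nat.card S = n)
    (hS : IsPGroup p S) (F : FusionSystem S) (hF : F.IsSaturated p)
    (IHk : ∀ F₁ : FusionSystem S, msize F₁ < msize F → F₁.IsSaturated p → ∀ Z : Subgroup Ω,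
      (∀ z ∈ Z, Adm S z) →
      (∀ f : Ω → Ω, IsIso F₁ (W.W S) (W.W S) f → ∀ x ∈ Z, f x = x) → FixZ F₁ Z)
    {Z : Subgroup Ω} (hZadm : ∀ z ∈ Z, Adm S z)
    (hfix : ∀ f : Ω → Ω, IsIso F (W.W S) (W.W S) f → ∀ x ∈ Z, f x = x) :
    ∀ j : ℕ, ∀ Q : Subgroup Ω, F.IsNormal Q → Q ≠ ⊥ → Nat.card S - Nat.card Q = j →
      FixZ F Z := by
  have hZ : Z ≤ S ⊓ Subgroup.centralizer (S : Set Ω) := fun z hz => hA1 S z (hZadm z hz)
  have hZW : Z ≤ W.W S := hZ.trans (hWZ S inferInstance hS)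
  have hfix_sub : ∀ F₁ : FusionSystem S, (∀ P : Subgroup Ω, F₁.Hom P ⊆ F.Hom P) →
      ∀ f : Ω → Ω, IsIso F₁ (W.W S) (W.W S) f → ∀ x ∈ Z, f x = x :=
    fun F₁ h f hf => hfix f (isIso_of_hom_le h hf)
  have hsmaller : ∀ F₁ : FusionSystem S, (∀ P : Subgroup Ω, F₁.Hom P ⊆ F.Hom P) →
      F₁.IsSaturated p → (¬ ∀ P : Subgroup Ω, F.Hom P ⊆ F₁.Hom P) → FixZ F₁ Z := by
    intro F₁ h hsat hne
    push_neg at hne
    obtain ⟨P, hP⟩ := hne
    obtain ⟨φ, hφ, hφ'⟩ := Set.not_subset.1 hP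
    exact IHk F₁ (msize_lt h hφ hφ') hsat Z hZadm (hfix_sub F₁ h)
  intro j
  induction j using Nat.strong_induction_on with
  | _ j IH =>
    intro Q hQ hQne hj
    by_cases hCQ : centralizerIn S Q ≤ Q
    · exact fixZ_of_constrained W Adm hA1 hA3 hC hS hF hQ hCQ hZadm hZW hfix
    have hQS := hQ.1
    have hQsc := isNormal_stronglyClosed hQ
    have hQn : S ≤ Subgroup.normalizer (Q : Set Ω) := stronglyClosed_le_normalizer hQsc
    have hfinQ : Finite Q := finite_of_le S hQS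
    -- `R = Q C_S(Q)`
    set C := centralizerIn S Q with hCdef
    have hCS : C ≤ S := inf_le_left
    have hCn : S ≤ Subgroup.normalizer (C : Set Ω) := le_normalizer_centralizerIn hQn
    have hRS : Q ⊔ C ≤ S := sup_le hQS hCS
    have hRn : S ≤ Subgroup.normalizer ((Q ⊔ C : Subgroup Ω) : Set Ω) :=
      le_normalizer_sup hQn hCn
    have hNSR : normalizerIn S (Q ⊔ C) = S := inf_eq_left.2 hRn
    have hRfn : F.IsFullyNormalized (Q ⊔ C) := isFullyNormalized_of_normalizerIn_eq hRS hNSR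
    have hQR : Q < Q ⊔ C := by
      refine lt_of_le_of_ne le_sup_left (fun h => hCQ ?_)
      rw [h]
      exact le_sup_right
    have hcardR : Nat.card Q < Nat.card (Q ⊔ C : Subgroup Ω) := card_lt_of_lt' hRS hQR
    have hcardRS : Nat.card (Q ⊔ C : Subgroup Ω) ≤ Nat.card S := Subgroup.card_le_of_le hRS
    have hRne : Q ⊔ C ≠ ⊥ := fun h => hQne (le_bot_iff.1 (h ▸ le_sup_left))
    obtain ⟨N₁, hN₁, hN₁sat, hN₁R⟩ := exists_normalizer_on_top hS hF hRfn hNSR
    have hN₁F := hom_le_of_normalizer (F := F) hN₁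
    by_cases hsub₁ : ∀ P : Subgroup Ω, F.Hom P ⊆ N₁.Hom P
    · exact IH (Nat.card S - Nat.card (Q ⊔ C : Subgroup Ω)) (by omega) (Q ⊔ C)
        (isNormal_of_hom_le hRS hN₁ hsub₁) hRne rfl
    have h1 : FixZ N₁ Z := hsmaller N₁ hN₁F hN₁sat hsub₁
    -- `D = S C_F(Q)`
    have hDsat := scSys_isSaturated (F := F) hQS hQn hS hF
    have hDF := scSys_le (F := F) hQS hQn
    by_cases hsubD : ∀ P : Subgroup Ω, F.Hom P ⊆ (scSys F Q hQS hQn).Hom P
    · -- the quotient
      obtain ⟨Ω', hΩ', S', F', θ, hsm, hker, hfac⟩ := exists_factor hS hF hQsc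
      have hrange := hsm.2.1
      have hmor := hsm.1
      have hfinS' : Finite S' := finite_S' hrange
      have hS'p : IsPGroup p S' := isPGroup_S' hrange hS
      have hF'sat : F'.IsSaturated p := isSaturated_of_surjectiveMorphism hS hF hsm
      have hK : F.StronglyClosed (kerSub θ) := by rw [hker]; exact hQsc
      have hcardS' : Nat.card S = Nat.card Q * Nat.card S' := by
        have := card_pre hrange (le_refl S')
        rwa [pre_top hrange, hker] at this
      have hQ1 : 1 < Nat.card Q := one_lt_card_of_ne_bot hQne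
      have hS'pos : 0 < Nat.card S' := Nat.card_pos
      have hS'lt : Nat.card S' < n := by
        rw [← hcard, hcardS']
        nlinarith
      have hS'ne : S' ≠ ⊥ := by
        intro h
        have h2 : Nat.card S' = 1 := by rw [h]; exact Subgroup.card_bot
        have h3 : Nat.card Q = Nat.card S := by rw [hcardS', h2, mul_one]
        omega
      have hV'S' : W.W S' ≤ S' := W.le S'
      have hV'ne : W.W S' ≠ ⊥ := W.ne_bot S' hfinS' hS'p hS'ne
      set V := preimageAlong θ (W.W S') with hVdef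
      have hVS : V ≤ S := preimageAlong_le θ _
      -- `V` is normalized by `S`
      have hVn : S ≤ Subgroup.normalizer (V : Set Ω) := by
        have key : ∀ g ∈ S, ∀ x ∈ V, g * x * g⁻¹ ∈ V := by
          intro g hg x hx
          obtain ⟨hxS, hx'⟩ := (mem_pre_iff θ _ x).1 hx
          refine (mem_pre_iff θ _ _).2 ⟨S.mul_mem (S.mul_mem hg hxS) (S.inv_mem hg), ?_⟩
          rw [al_conj θ hg hxS]
          have hgS' : al θ g ∈ S' := al_mem_S' hrange hg
          have h2 : al θ g ∈ Subgroup.normalizer ((W.W S' : Subgroup Ω') : Set Ω') :=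
            W.normalizer_le S' hfinS' hS'p (Subgroup.le_normalizer hgS')
          exact (Subgroup.mem_normalizer_iff.1 h2 _).1 hx'
        intro g hg
        rw [Subgroup.mem_normalizer_iff]
        intro x
        refine ⟨fun hx => key g hg x hx, fun hx => ?_⟩
        have := key g⁻¹ (S.inv_mem hg) _ hx
        simpa [mul_assoc] using this
      have hNSV : normalizerIn S V = S := inf_eq_left.2 hVn
      have hVfn : F.IsFullyNormalized V := isFullyNormalized_of_normalizerIn_eq hVS hNSV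
      have hQV : Q < V := by
        have hle : Q ≤ V := by rw [← hker]; exact kerSub_le_pre θ _
        refine lt_of_le_of_ne hle (fun h => hV'ne ?_)
        apply pre_injective hrange hV'S' bot_le
        show V = kerSub θ
        rw [hker, h]
      have hcardV : Nat.card Q < Nat.card V := card_lt_of_lt' hVS hQV
      have hcardVS : Nat.card V ≤ Nat.card S := Subgroup.card_le_of_le hVS
      have hVne : V ≠ ⊥ := fun h => hQne (le_bot_iff.1 (h ▸ hQV.le))
      obtain ⟨N₂, hN₂, hN₂sat, hN₂V⟩ := exists_normalizer_on_top hS hF hVfn hNSV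
      have hN₂F := hom_le_of_normalizer (F := F) hN₂
      by_cases hsub₂ : ∀ P : Subgroup Ω, F.Hom P ⊆ N₂.Hom P
      · exact IH (Nat.card S - Nat.card V) (by omega) V
          (isNormal_of_hom_le hVS hN₂ hsub₂) hVne rfl
      have h2 : FixZ N₂ Z := hsmaller N₂ hN₂F hN₂sat hsub₂
      -- the image of `Z`
      set Z' := imageAlong θ Z with hZ'def
      have hZ' : Z' ≤ S' ⊓ Subgroup.centralizer (S' : Set Ω') := by
        intro y hy
        obtain ⟨z, hzZ, hzS, rfl⟩ := (mem_image_iff θ Z y).1 hy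
        refine ⟨al_mem_S' hrange hzS, ?_⟩
        show al θ z ∈ Subgroup.centralizer (S' : Set Ω')
        rw [Subgroup.mem_centralizer_iff]
        intro t ht
        obtain ⟨s, hs, rfl⟩ := exists_al_eq hrange ht
        have h3 : z ∈ Subgroup.centralizer (S : Set Ω) := (hZ hzZ).2
        rw [Subgroup.mem_centralizer_iff] at h3
        rw [← al_mul θ hs hzS, ← al_mul θ hzS hs, h3 s hs]
      have hZ'W : Z' ≤ W.W S' := hZ'.trans (hWZ S' hfinS' hS'p)
      have hZV : Z ≤ V := by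
        intro z hz
        refine (mem_pre_iff θ _ z).2 ⟨(hZ hz).1, hZ'W ?_⟩
        exact (mem_image_iff θ Z _).2 ⟨z, hz, (hZ hz).1, rfl⟩
      have hfix' : ∀ f' : Ω' → Ω', IsIso F' (W.W S') (W.W S') f' → ∀ y ∈ Z', f' y = y := by
        intro f' hf' y hy
        obtain ⟨z, hzZ, hzS, rfl⟩ := (mem_image_iff θ Z y).1 hy
        obtain ⟨f, hf, hff'⟩ := lift_iso hsm hK hf'
        have hfV : IsIso F V V f := hf
        obtain ⟨-, hNHom⟩ := isNHom_of_normalizes (le_refl V) (le_normalizerIn hVS) hfV hfV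
        have hfN₂ : IsIso N₂ V V f := isIso_of_isNHom hN₂ hfV hNHom
        have h3 := h2 _ _ _ hfN₂ z (hZV hzZ) hzZ
        rw [hff' z (hZV hzZ), h3]
      have hZ'adm : ∀ y ∈ Z', Adm S' y := by
        intro y hy
        obtain ⟨z, hzZ, hzS, rfl⟩ := (mem_image_iff θ Z y).1 hy
        have h3 := hA3 S θ z hzS (hZadm z hzZ)
        rw [hrange] at h3
        rw [al_apply θ hzS]
        exact h3
      have hF'fix : FixZ F' Z' := ih _ hS'lt rfl hS'p F' hF'sat Z' hZ'adm hfix'
      have hZ'n : F'.IsNormal Z' := isNormal_of_fixZ hS'p hF'sat hZ' hF'fix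
      have hVD : (scSys F Q hQS hQn).IsNormal (preimageAlong θ Z') :=
        lift_isNormal hS hDsat hDF hQ (fun T f hQT hf => scSys_res hQS hQn hf hQT) hsm hker hZ'n
      have hVF : F.IsNormal (preimageAlong θ Z') := by
        refine ⟨hVD.1, fun P φ hφ => ?_⟩
        obtain ⟨ψ, hψ, h3, h4⟩ := hVD.2 P φ (hsubD P hφ)
        exact ⟨ψ, hDF _ hψ, h3, h4⟩
      have hZpre : Z ≤ preimageAlong θ Z' := by
        intro z hz
        exact (mem_pre_iff θ _ z).2 ⟨(hZ hz).1, (mem_image_iff θ Z _).2 ⟨z, hz, (hZ hz).1, rfl⟩⟩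
      by_cases hZQ : Z ≤ Q
      · intro A B f hf x hx hxZ
        obtain ⟨g, hg, hgf, -⟩ := isNormal_exists_ext hQ hf
        have hgD : IsIso (scSys F Q hQS hQn) (A ⊔ Q) (B ⊔ Q) g := by
          obtain ⟨φ, hφ, h3, h4⟩ := hg
          exact ⟨φ, hsubD _ hφ, h3, h4⟩
        obtain ⟨s, hs, hsq⟩ := scSys_res hQS hQn hgD le_sup_right
        rw [← hgf x hx, hsq x (hZQ hxZ)]
        have h3 : x ∈ Subgroup.centralizer (S : Set Ω) := (hZ hxZ).2
        rw [Subgroup.mem_centralizer_iff] at h3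
        rw [h3 s hs, mul_inv_cancel_right]
      · have hQpre : Q ≤ preimageAlong θ Z' := by rw [← hker]; exact kerSub_le_pre θ _
        have hlt : Q < preimageAlong θ Z' :=
          lt_of_le_of_ne hQpre (fun h => hZQ (h ▸ hZpre))
        have hpreS : preimageAlong θ Z' ≤ S := preimageAlong_le θ _
        have hc1 : Nat.card Q < Nat.card (preimageAlong θ Z') := card_lt_of_lt' hpreS hlt
        have hc2 : Nat.card (preimageAlong θ Z') ≤ Nat.card S := Subgroup.card_le_of_le hpreS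
        have hne : preimageAlong θ Z' ≠ ⊥ := fun h => hQne (le_bot_iff.1 (h ▸ hQpre))
        exact IH (Nat.card S - Nat.card (preimageAlong θ Z')) (by omega) _ hVF hne rfl
    · -- `D` is smaller: decompose
      have h2 : FixZ (scSys F Q hQS hQn) Z := hsmaller _ hDF hDsat hsubD
      intro A B f hf x hx hxZ
      obtain ⟨g, hg, hgf, -⟩ := isNormal_exists_ext hQ hf
      obtain ⟨β, γ, P'', hβ, hβN, hQP'', hγ, hγfix, hgγβ⟩ :=
        decompose hS hF hQ hg (le_sup_right : Q ≤ A ⊔ Q)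
      have hβN₁ : IsIso N₁ (A ⊔ Q) P'' β := isIso_of_isNHom hN₁ hβ hβN
      have hγD : IsIso (scSys F Q hQS hQn) P'' (B ⊔ Q) γ :=
        isIso_scSys_of_fix hQS hQn hγ hQP'' hγfix
      have hxA : x ∈ A ⊔ Q := (le_sup_left : A ≤ A ⊔ Q) hx
      have e1 : β x = x := h1 _ _ _ hβN₁ x hxA hxZ
      have hxP'' : x ∈ P'' := by
        have := hβ.map_mem hxA
        rwa [e1] at this
      have e2 : γ x = x := h2 _ _ _ hγD x hxP'' hxZ
      rw [← hgf x hx, hgγβ x hxA, e1, e2]

include hWZ hA1 hA2 hA3 hC in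
/-- The main step: a saturated system without nontrivial normal subgroups (the chain argument). -/
theorem chain_center {n : ℕ} (ih : ∀ m < n, MainA W Adm m) [Finite S] (hcard : Nat.card S = n)
    (hS : IsPGroup p S) (F : FusionSystem S) (hF : F.IsSaturated p)
    (IHk : ∀ F₁ : FusionSystem S, msize F₁ < msize F → F₁.IsSaturated p → ∀ Z : Subgroup Ω,
      (∀ z ∈ Z, Adm S z) →
      (∀ f : Ω → Ω, IsIso F₁ (W.W S) (W.W S) f → ∀ x ∈ Z, f x = x) → FixZ F₁ Z)
    (hno : ∀ U : Subgroup Ω, F.IsNormal U → U = ⊥)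
    {Z : Subgroup Ω} (hZadm : ∀ z ∈ Z, Adm S z)
    (hfix : ∀ f : Ω → Ω, IsIso F (W.W S) (W.W S) f → ∀ x ∈ Z, f x = x) : FixZ F Z := by
  have hZ : Z ≤ S ⊓ Subgroup.centralizer (S : Set Ω) := fun z hz => hA1 S z (hZadm z hz)
  have hZW : Z ≤ W.W S := hZ.trans (hWZ S inferInstance hS)
  have hW₀S : W.W S ≤ S := W.le S
  have hZS : Z ≤ S := fun z hz => (hZ hz).1
  have hZc : ∀ z ∈ Z, ∀ s ∈ S, s * z = z * s := by
    intro z hz s hs
    have h3 : z ∈ Subgroup.centralizer (S : Set Ω) := (hZ hz).2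
    rw [Subgroup.mem_centralizer_iff] at h3
    exact h3 s hs
  -- `Z` lies in the normalizer of every subgroup of `S`, and is central there
  have hZT : ∀ U : Subgroup Ω, U ≤ S →
      Z ≤ normalizerIn S U ⊓ Subgroup.centralizer ((normalizerIn S U : Subgroup Ω) : Set Ω) := by
    intro U hUS z hz
    refine ⟨⟨hZS hz, ?_⟩, ?_⟩
    · show z ∈ Subgroup.normalizer (U : Set Ω)
      rw [Subgroup.mem_normalizer_iff]
      intro u
      constructor
      · intro hu
        have := hZc z hz u (hUS hu)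
        rw [← this, mul_inv_cancel_right]; exact hu
      · intro hu
        have h4 : z * u * z⁻¹ ∈ S := hUS hu
        have h5 : u ∈ S := by
          have := S.mul_mem (S.mul_mem (S.inv_mem (hZS hz)) h4) (hZS hz)
          simpa [mul_assoc] using this
        have := hZc z hz u h5
        rw [← this, mul_inv_cancel_right] at hu; exact hu
    · show z ∈ Subgroup.centralizer ((normalizerIn S U : Subgroup Ω) : Set Ω)
      rw [Subgroup.mem_centralizer_iff]
      intro t ht
      exact hZc z hz t ht.1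
  have hcenT : ∀ U : Subgroup Ω, U ≤ S →
      S ⊓ Subgroup.centralizer (S : Set Ω) ≤ normalizerIn S U := by
    intro U hUS z hz
    have hzc : z ∈ Subgroup.centralizer (S : Set Ω) := hz.2
    rw [Subgroup.mem_centralizer_iff] at hzc
    refine ⟨hz.1, ?_⟩
    show z ∈ Subgroup.normalizer (U : Set Ω)
    rw [Subgroup.mem_normalizer_iff]
    intro u
    constructor
    · intro hu
      have := hzc u (hUS hu)
      rw [← this, mul_inv_cancel_right]; exact hu
    · intro hu
      have h4 : z * u * z⁻¹ ∈ S := hUS hu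
      have h5 : u ∈ S := by
        have := S.mul_mem (S.mul_mem (S.inv_mem hz.1) h4) hz.1
        simpa [mul_assoc] using this
      have := hzc u h5
      rw [← this, mul_inv_cancel_right] at hu; exact hu
  have hZadmT : ∀ U : Subgroup Ω, U ≤ S → ∀ z ∈ Z, Adm (normalizerIn S U) z :=
    fun U hUS z hz => hA2 S (normalizerIn S U) z (hZadm z hz) inf_le_left (hcenT U hUS)
  set E := fixSys F Z hZ with hEdef
  have hEF : ∀ P : Subgroup Ω, E.Hom P ⊆ F.Hom P := fixSys_le F Z hZ
  apply fixZ_of_hom_le hZ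
  apply alperin_ind hS F hF E
  intro P hP IHhom
  have hPS : P ≤ S := le_of_eq_or_essential hP
  have IHA : ∀ (A B : Subgroup Ω) (f : Ω → Ω), Nat.card P < Nat.card A → IsIso F A B f →
      IsIso E A B f := by
    intro A B f hlt hf
    have hAS := hf.le_left
    obtain ⟨φ, hφ, h1, h2⟩ := hf
    exact ⟨φ, IHhom A hAS hlt hφ, h1, h2⟩
  intro α hα
  apply mem_autGroup_fixSys hZ hPS hα
  intro β hβ x hxZ
  have hf := isIso_of_mem_autGroup F hPS hβ
  suffices h : ext1 (P.subtype.comp β.toMonoidHom) x = x by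
    rw [ext1_apply_mem _ x.2] at h
    exact h
  by_cases hPeq : P = S
  · -- automorphisms of `S`
    subst hPeq
    have hfW : IsIso F (W.W P) (W.W P) (ext1 (P.subtype.comp β.toMonoidHom)) := by
      refine hf.restrict' hW₀S (fun y hy => ?_) (fun y hy => ?_)
      · rw [ext1_apply_mem _ (hW₀S hy)]
        exact aut_mem_W W hS β ⟨y, hW₀S hy⟩ hy
      · have h1 := aut_mem_W W hS β⁻¹ ⟨y, hW₀S hy⟩ hy
        refine ⟨((β⁻¹ ⟨y, hW₀S hy⟩ : P) : Ω), h1, ?_⟩
        rw [ext1_apply]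
        show ((β (β⁻¹ ⟨y, hW₀S hy⟩) : P) : Ω) = y
        simp
    exact hfix _ hfW x hxZ
  · -- essential subgroups
    have hess : F.IsEssential p P := by
      rcases hP with h | h
      · exact absurd h hPeq
      · exact h
    have hc := hess.1
    have hfn := hess.2.1
    have hCP : centralizerIn S P ≤ P := hc.2 P (isConj_refl F hPS)
    have hPne : P ≠ ⊥ := by
      intro h
      apply hPeq
      apply le_antisymm hPS
      intro s hs
      apply hCP
      refine ⟨hs, ?_⟩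
      show s ∈ Subgroup.centralizer (P : Set Ω)
      rw [Subgroup.mem_centralizer_iff]
      intro y hy
      have hy' : y ∈ P := hy
      rw [h, Subgroup.mem_bot] at hy'
      rw [hy']
      simp
    set T := normalizerIn S P with hTdef
    have hTS : T ≤ S := inf_le_left
    have hfinT : Finite T := finite_of_le S hTS
    have hTp : IsPGroup p T := hS.to_le hTS
    have hPT : P ≤ T := le_normalizerIn hPS
    have hPltT : Nat.card P < Nat.card T := by
      obtain ⟨y, hyN, hyP⟩ := exists_mem_normalizerIn_not_mem hS hPS hPeq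
      exact card_lt_of_lt' inf_le_left (lt_of_le_of_ne hPT (fun h => hyP (h ▸ hyN)))
    have hXT : W.W T ≤ T := W.le T
    have hTne : T ≠ ⊥ := fun h => hPne (le_bot_iff.1 (h ▸ hPT))
    have hXne : W.W T ≠ ⊥ := W.ne_bot T hfinT hTp hTne
    have hTNX : normalizerIn S T ≤ normalizerIn S (W.W T) := W.normalizerIn_le S T hfinT hTp
    have hTNT : T ≤ normalizerIn S T := le_normalizerIn hTS
    have hfinNX : Finite (normalizerIn S (W.W T)) := finite_of_le S inf_le_left
    have hc1 : Nat.card P < Nat.card (normalizerIn S (W.W T)) :=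
      lt_of_lt_of_le hPltT (Subgroup.card_le_of_le (hTNT.trans hTNX))
    -- the chain
    have hfnstep : ∀ U : Subgroup Ω, F.IsFullyNormalized U → U ≠ ⊥ →
        (∀ U₂ : Subgroup Ω, U₂ ≤ S → U₂ ≠ ⊥ →
          Nat.card (normalizerIn S U) < Nat.card (normalizerIn S U₂) → ZJ.Good F E U₂) →
        ZJ.Good F E U := by
      intro U hUfn hUne IH₂
      have hUS := hUfn.1
      intro A B g hUA hAT hg hgU
      obtain ⟨hBT, hNHom⟩ := isNHom_of_normalizes hUA hAT hg hgU
      by_cases hT : normalizerIn S U = S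
      · obtain ⟨N₁, hN₁, hN₁sat, hN₁U⟩ := exists_normalizer_on_top hS hF hUfn hT
        have hN₁F := hom_le_of_normalizer (F := F) hN₁
        have hlt : msize N₁ < msize F := by
          by_cases hsub : ∀ P : Subgroup Ω, F.Hom P ⊆ N₁.Hom P
          · exact absurd (hno U (isNormal_of_hom_le hUS hN₁ hsub)) hUne
          · push_neg at hsub
            obtain ⟨P', hP'⟩ := hsub
            obtain ⟨φ, hφ, hφ'⟩ := Set.not_subset.1 hP'
            exact msize_lt hN₁F hφ hφ'
        have h1 : FixZ N₁ Z := IHk N₁ hlt hN₁sat Z hZadm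
          (fun f hf' => hfix f (isIso_of_hom_le hN₁F hf'))
        exact isIso_fixSys_of_fixZ hZ hN₁F h1 (isIso_of_isNHom hN₁ hg hNHom)
      · set T₂ := normalizerIn S U with hT₂def
        have hT₂S : T₂ ≤ S := inf_le_left
        have hfinT₂ : Finite T₂ := finite_of_le S hT₂S
        have hT₂p : IsPGroup p T₂ := hS.to_le hT₂S
        have hUT₂ : U ≤ T₂ := le_normalizerIn hUS
        have hT₂ne : T₂ ≠ ⊥ := fun h => hUne (le_bot_iff.1 (h ▸ hUT₂))
        have hT₂lt : Nat.card T₂ < n := by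
          rw [← hcard]
          exact card_lt_of_lt' le_rfl (lt_of_le_of_ne hT₂S hT)
        have hN : F.IsNormalizerSystem U (Cfsg.Agent.S5096.normSys F U hUS) := fun _ => rfl
        have hNsat := normalizerSystem_isSaturated hS hF hUfn _ hN
        have hNF := hom_le_of_normalizer (F := F) hN
        have hX₂T : W.W T₂ ≤ T₂ := W.le T₂
        have hX₂ne : W.W T₂ ≠ ⊥ := W.ne_bot T₂ hfinT₂ hT₂p hT₂ne
        have hT₂NX : normalizerIn S T₂ ≤ normalizerIn S (W.W T₂) :=
          W.normalizerIn_le S T₂ hfinT₂ hT₂p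
        have hT₂NT : T₂ ≤ normalizerIn S T₂ := le_normalizerIn hT₂S
        have hlt : Nat.card T₂ < Nat.card (normalizerIn S (W.W T₂)) := by
          obtain ⟨y, hyN, hyT⟩ := exists_mem_normalizerIn_not_mem hS hT₂S hT
          have h1 : T₂ < normalizerIn S T₂ := lt_of_le_of_ne hT₂NT (fun h => hyT (h ▸ hyN))
          have hfinNX₂ : Finite (normalizerIn S (W.W T₂)) := finite_of_le S inf_le_left
          exact lt_of_lt_of_le (card_lt_of_lt' inf_le_left h1) (Subgroup.card_le_of_le hT₂NX)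
        have hgood := IH₂ (W.W T₂) (hX₂T.trans hT₂S) hX₂ne hlt
        have hZT₂ := hZT U hUS
        have hZW₂ : Z ≤ W.W T₂ := hZT₂.trans (hWZ T₂ hfinT₂ hT₂p)
        have h1 : FixZ (Cfsg.Agent.S5096.normSys F U hUS) Z := by
          apply ih _ hT₂lt rfl hT₂p _ hNsat Z (hZadmT U hUS)
          intro f hf' x' hx'
          have hfF : IsIso F (W.W T₂) (W.W T₂) f := isIso_of_hom_le hNF hf'
          have hfE := hgood _ _ f le_rfl (le_normalizerIn (hX₂T.trans hT₂S)) hfF hfF
          exact fixZ_fixSys F Z hZ _ _ _ hfE x' (hZW₂ hx') hx'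
        exact isIso_fixSys_of_fixZ hZ hNF h1 (isIso_of_isNHom hN hg hNHom)
    have hgoodX : ZJ.Good F E (W.W T) :=
      good_all_gen hS hF hEF hfnstep IHA _ (W.W T) (hXT.trans hTS) hXne hc1 rfl
    -- the model of `N_F(P)`
    have hN : F.IsNormalizerSystem P (Cfsg.Agent.S5096.normSys F P hPS) := fun _ => rfl
    have hNsat := normalizerSystem_isSaturated hS hF hfn _ hN
    have hNF := hom_le_of_normalizer (F := F) hN
    have hNP : (Cfsg.Agent.S5096.normSys F P hPS).IsNormal P := normalizerSystem_isNormal hPS hN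
    have hCTP : centralizerIn T P ≤ P := fun y hy => hCP ⟨hTS hy.1, hy.2⟩
    have hZTT := hZT P hPS
    have hZWT : Z ≤ W.W T := hZTT.trans (hWZ T hfinT hTp)
    have h1 : FixZ (Cfsg.Agent.S5096.normSys F P hPS) Z := by
      apply fixZ_of_constrained W Adm hA1 hA3 hC hTp hNsat hNP hCTP (hZadmT P hPS) hZWT
      intro f hf' x' hx'
      have hfF : IsIso F (W.W T) (W.W T) f := isIso_of_hom_le hNF hf'
      have hfE := hgoodX _ _ f le_rfl (le_normalizerIn (hXT.trans hTS)) hfF hfF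
      exact fixZ_fixSys F Z hZ _ _ _ hfE x' (hZWT hx') hx'
    obtain ⟨-, hNHom⟩ := isNHom_of_normalizes (le_refl P) hPT hf hf
    exact h1 _ _ _ (isIso_of_isNHom hN hf hNHom) x x.2 hxZ

include hWZ hA1 hA2 hA3 hC in
/-- **Control of weak closure of admissible elements**: every subgroup of `S` of admissible
elements fixed by the automorphisms of `W(S)` in `F` is fixed by all maps of `F`. -/
theorem main_adm : ∀ n : ℕ, MainA W Adm n := by
  intro n
  induction n using Nat.strong_induction_on with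
  | _ n ih =>
    intro Ω _ S _ hcard hS
    have inner : ∀ k : ℕ, ∀ F : FusionSystem S, msize F = k → F.IsSaturated p →
        ∀ Z : Subgroup Ω, (∀ z ∈ Z, Adm S z) →
        (∀ f : Ω → Ω, IsIso F (W.W S) (W.W S) f → ∀ x ∈ Z, f x = x) → FixZ F Z := by
      intro k
      induction k using Nat.strong_induction_on with
      | _ k IHk' =>
        intro F hk hF Z hZ hfix
        have IHk : ∀ F₁ : FusionSystem S, msize F₁ < msize F → F₁.IsSaturated p →
            ∀ Z : Subgroup Ω, (∀ z ∈ Z, Adm S z) →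
            (∀ f : Ω → Ω, IsIso F₁ (W.W S) (W.W S) f → ∀ x ∈ Z, f x = x) → FixZ F₁ Z :=
          fun F₁ hlt hsat Z₁ hZ₁ hfix₁ => IHk' (msize F₁) (hk ▸ hlt) F₁ rfl hsat Z₁ hZ₁ hfix₁
        by_cases hnorm : ∃ U : Subgroup Ω, F.IsNormal U ∧ U ≠ ⊥
        · obtain ⟨U, hU, hUne⟩ := hnorm
          exact caseB_center W Adm hWZ hA1 hA2 hA3 hC ih hcard hS F hF IHk hZ hfix _ U hU hUne rfl
        · have hno : ∀ U : Subgroup Ω, F.IsNormal U → U = ⊥ := by
            intro U hU
            by_contra hne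
            exact hnorm ⟨U, hU, hne⟩
          exact chain_center W Adm hWZ hA1 hA2 hA3 hC ih hcard hS F hF IHk hno hZ hfix
    intro F hF Z hZ hfix
    exact inner _ F rfl hF Z hZ hfix

end main

end Cfsg.Agent.Lib.H26.CtlA
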