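import Mathlib
import Cfsg.Agent.Lib.H26.CtlCenter

set_option autoImplicit false
set_option linter.unusedSectionVars false
set_option linter.unusedVariables false

/-!
Control of transfer by a Glauberman functor, basic tools (helper26): the subsystem of the maps
`φ` of `F` with `x⁻¹ φ(x) ∈ X` for all `x`, where `X` contains the commutators of `S`.
-/

namespace Cfsg.Agent.Lib.H26.CtlFoc

open Cfsg Cfsg.FusionSystem Cfsg.Agent.Lib.H25 Cfsg.Agent.Lib.H26 Cfsg.Agent.Lib.H26.Nil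
  Cfsg.Agent.Lib.H26.Model Cfsg.Agent.Lib.H26.ZJ Cfsg.Agent.Lib.H26.Ctl

universe u

variable {Ω : Type u} [Group Ω] {S : Subgroup Ω}

/-- All isomorphisms `f` of the system have `x⁻¹ f(x) ∈ X`. -/
def FocIn {T : Subgroup Ω} (F : FusionSystem T) (X : Subgroup Ω) : Prop :=
  ∀ (A B : Subgroup Ω) (f : Ω → Ω), IsIso F A B f → ∀ x ∈ A, x⁻¹ * f x ∈ X

theorem FocIn.mono {T T' : Subgroup Ω} {F : FusionSystem T} {D : FusionSystem T'}
    {X : Subgroup Ω} (h : FocIn F X) (hDF : ∀ P : Subgroup Ω, D.Hom P ⊆ F.Hom P) : FocIn D X :=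
  fun A B f hf x hx => h A B f (isIso_of_hom_le hDF hf) x hx

theorem FocIn.mono_right {T : Subgroup Ω} {F : FusionSystem T} {X Y : Subgroup Ω}
    (h : FocIn F X) (hXY : X ≤ Y) : FocIn F Y :=
  fun A B f hf x hx => hXY (h A B f hf x hx)

/-- `X` contains the commutators of `S`. -/
def SC (S X : Subgroup Ω) : Prop := ∀ s ∈ S, ∀ x ∈ S, x⁻¹ * (s * x * s⁻¹) ∈ X

theorem SC.mono_left {S T X : Subgroup Ω} (h : SC S X) (hTS : T ≤ S) : SC T X :=
  fun s hs x hx => h s (hTS hs) x (hTS hx)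

theorem focIn_iff {T : Subgroup Ω} (F : FusionSystem T) (X : Subgroup Ω) :
    FocIn F X ↔ F.focalSubgroup ≤ X := by
  constructor
  · intro h
    unfold focalSubgroup
    rw [Subgroup.closure_le]
    rintro _ ⟨P, φ, x, hφ, rfl⟩
    have := h P φ.range (ext1 φ) (isIso_of_mem F hφ) x x.2
    rwa [ext1_apply] at this
  · intro h A B f hf x hx
    obtain ⟨φ, hφ, hφf, -⟩ := hf
    apply h
    apply Subgroup.subset_closure
    exact ⟨A, φ, ⟨x, hx⟩, hφ, by rw [hφf]⟩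

theorem focIn_focal {T : Subgroup Ω} (F : FusionSystem T) : FocIn F F.focalSubgroup :=
  (focIn_iff F _).2 le_rfl

/-- The focal subgroup contains the commutators of `S`. -/
theorem SC_focal (F : FusionSystem S) : SC S F.focalSubgroup := by
  intro s hs x hx
  have h1 := focIn_focal F _ _ _ (IsIso.conj (F := F) (le_refl S) hs) x hx
  exact h1

/-- The subsystem of `F` of the maps `φ` with `x⁻¹ φ(x) ∈ X`. -/
def focSys (F : FusionSystem S) (X : Subgroup Ω) (hX : SC S X) : FusionSystem S :=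
  subSys F (fun P φ => ∀ x : P, (x : Ω)⁻¹ * φ x ∈ X)
    (by
      intro P g hP hg x
      rw [conjHom_apply]
      exact hX g hg x (hP x.2))
    (by
      intro P Q φ ψ hPQ _ _ hφ hψ x
      have h1 := hφ x
      have h2 := hψ ⟨φ x, hPQ x⟩
      have h3 : (x : Ω)⁻¹ * ψ ⟨φ x, hPQ x⟩ = ((x : Ω)⁻¹ * φ x) * ((φ x)⁻¹ * ψ ⟨φ x, hPQ x⟩) := by
        group
      show (x : Ω)⁻¹ * ψ ⟨φ x, hPQ x⟩ ∈ X
      rw [h3]
      exact X.mul_mem h1 h2)
    (by
      rintro P φ ψ _ _ hψφ hφ ⟨_, x, rfl⟩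
      have h1 := hφ x
      rw [hψφ x]
      have h3 : (φ x)⁻¹ * (x : Ω) = ((x : Ω)⁻¹ * φ x)⁻¹ := by group
      show (φ x)⁻¹ * (x : Ω) ∈ X
      rw [h3]
      exact X.inv_mem h1)

theorem focSys_le (F : FusionSystem S) (X : Subgroup Ω) (hX : SC S X) (P : Subgroup Ω) :
    (focSys F X hX).Hom P ⊆ F.Hom P := fun _ h => h.1

theorem isIso_focSys_iff (F : FusionSystem S) (X : Subgroup Ω) (hX : SC S X)
    {A B : Subgroup Ω} {f : Ω → Ω} :
    IsIso (focSys F X hX) A B f ↔ IsIso F A B f ∧ ∀ x ∈ A, x⁻¹ * f x ∈ X := by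
  constructor
  · rintro ⟨φ, hφ, hφf, hr⟩
    refine ⟨⟨φ, hφ.1, hφf, hr⟩, fun x hx => ?_⟩
    have := hφ.2 ⟨x, hx⟩
    rw [hφf] at this
    exact this
  · rintro ⟨⟨φ, hφ, hφf, hr⟩, h⟩
    refine ⟨φ, ⟨hφ, fun x => ?_⟩, hφf, hr⟩
    rw [hφf]
    exact h x x.2

theorem focIn_focSys (F : FusionSystem S) (X : Subgroup Ω) (hX : SC S X) :
    FocIn (focSys F X hX) X :=
  fun _ _ _ hf x hx => ((isIso_focSys_iff F X hX).1 hf).2 x hx

theorem isIso_focSys_of_focIn {F : FusionSystem S} {X : Subgroup Ω} (hX : SC S X)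
    {T : Subgroup Ω} {D : FusionSystem T} (hDF : ∀ P : Subgroup Ω, D.Hom P ⊆ F.Hom P)
    (h : FocIn D X) {A B : Subgroup Ω} {f : Ω → Ω} (hf : IsIso D A B f) :
    IsIso (focSys F X hX) A B f := by
  rw [isIso_focSys_iff]
  exact ⟨isIso_of_hom_le hDF hf, fun x hx => h A B f hf x hx⟩

theorem focIn_of_hom_le {F : FusionSystem S} {X : Subgroup Ω} (hX : SC S X)
    (h : ∀ P : Subgroup Ω, F.Hom P ⊆ (focSys F X hX).Hom P) : FocIn F X :=
  (focIn_focSys F X hX).mono h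

theorem mem_autGroup_focSys {F : FusionSystem S} {X : Subgroup Ω} (hX : SC S X)
    {P : Subgroup Ω} (hPS : P ≤ S) {α : MulAut P} (hα : α ∈ F.autGroup P)
    (h : ∀ x : P, (x : Ω)⁻¹ * ((α x : P) : Ω) ∈ X) : α ∈ (focSys F X hX).autGroup P := by
  rw [mem_autGroup_iff _ hPS]
  exact ⟨(mem_autGroup_iff F hPS α).1 hα, fun x => h x⟩

section W

variable {p : ℕ} (W : PFun.{u} p)

/-- The maps normalizing `W(S)`, defined on subgroups containing it, have `x⁻¹ f(x) ∈ X`. -/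
def WFoc {T : Subgroup Ω} (F : FusionSystem T) (X : Subgroup Ω) : Prop :=
  ∀ (A B : Subgroup Ω) (f : Ω → Ω), IsIso F A B f → W.W T ≤ A → IsIso F (W.W T) (W.W T) f →
    ∀ x ∈ A, x⁻¹ * f x ∈ X

theorem WFoc.mono {T : Subgroup Ω} {F D : FusionSystem T} {X : Subgroup Ω} (h : WFoc W F X)
    (hDF : ∀ P : Subgroup Ω, D.Hom P ⊆ F.Hom P) : WFoc W D X :=
  fun A B f hf hWA hfW x hx =>
    h A B f (isIso_of_hom_le hDF hf) hWA (isIso_of_hom_le hDF hfW) x hx

theorem WFoc.inf_focal {T : Subgroup Ω} {F : FusionSystem T} {X : Subgroup Ω} (h : WFoc W F X) :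
    WFoc W F (X ⊓ F.focalSubgroup) :=
  fun A B f hf hWA hfW x hx => ⟨h A B f hf hWA hfW x hx, focIn_focal F A B f hf x hx⟩

end W

end Cfsg.Agent.Lib.H26.CtlFoc
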