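import Mathlib
import Cfsg.Agent.Lib.H26.CtlFocBasic

set_option autoImplicit false
set_option linter.unusedSectionVars false
set_option linter.unusedVariables false

/-!
Control of transfer by a Glauberman functor (helper26), the local step: in a constrained saturated
system, read in its model, the local condition `O_p(G) ∩ G' = O_p(G) ∩ N_G(W(P))'` and the focal
subgroup theorem give `O_p(F) ∩ foc(F) ≤ X` as soon as the maps normalizing `W(S)` have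
`x⁻¹ f(x) ∈ X`.
-/

namespace Cfsg.Agent.Lib.H26.CtlFoc

open Cfsg Cfsg.FusionSystem Cfsg.Agent.Lib.H25 Cfsg.Agent.Lib.H26 Cfsg.Agent.Lib.H26.Nil
  Cfsg.Agent.Lib.H26.Model Cfsg.Agent.Lib.H26.ZJ Cfsg.Agent.Lib.H26.Ctl
open scoped commutatorElement

universe u

variable {Ω : Type u} [Group Ω] {S : Subgroup Ω}

section main

variable {p : ℕ} [Fact p.Prime] (W : PFun.{u} p)

variable (hT : ∀ (L : Type u) [Group L] [Finite L] (P : Sylow p L),
    Subgroup.centralizer ((pCore p L : Subgroup L) : Set L) ≤ pCore p L →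
    pCore p L ⊓ commutator L = pCore p L ⊓
      (commutator ↥(Subgroup.normalizer ((W.W (P : Subgroup L) : Subgroup L) : Set L))).map
        (Subgroup.normalizer ((W.W (P : Subgroup L) : Subgroup L) : Set L)).subtype)

include hT in
/-- The constrained case, through the model. -/
theorem core_inf_focal_le [Finite S] (hS : IsPGroup p S) {F : FusionSystem S}
    (hF : F.IsSaturated p) {Q : Subgroup Ω} (hQ : F.IsNormal Q) (hCQ : centralizerIn S Q ≤ Q)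
    {X : Subgroup Ω} (hWF : WFoc W F X) : F.core ⊓ F.focalSubgroup ≤ X := by
  have hQS := hQ.1
  have hWS : W.W S ≤ S := W.le S
  have hQc : F.IsCentric Q := isCentric_of_isNormal hQ hCQ
  have hcon : F.IsConstrained p := ⟨hF, Q, hQ, hQc⟩
  obtain ⟨G, hG, ι, hM⟩ := Cfsg.Agent.S5090.result p hS F hcon
  have hcore := model_core_eq hS hM
  obtain ⟨hfinG, hreal, ⟨T, hTr⟩, hCU⟩ := hM
  have hinj := hreal.1
  have hWT : W.W (T : Subgroup G) = imgOf ι (W.W S) := by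
    rw [hTr]; exact (W.imgOf_eq hS hinj).symm
  have hfinT : Finite (T : Subgroup G) := inferInstance
  -- the focal subgroup of `F` goes into the derived subgroup of `G`
  have hfocG : F.focalSubgroup ≤ preSub ι (commutator G) := by
    unfold focalSubgroup
    rw [Subgroup.closure_le]
    rintro _ ⟨P, φ, x, hφ, rfl⟩
    have hPS := hom_le F hφ
    have hφS : ∀ y, φ y ∈ S := fun y => hom_mem_S F hφ y
    obtain ⟨g, hg⟩ := (hreal.2 P hPS φ hφS).1 hφ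
    have hxS : (x : Ω) ∈ S := hPS x.2
    have hyS : (x : Ω)⁻¹ * φ x ∈ S := S.mul_mem (S.inv_mem hxS) (hφS x)
    refine mem_preSub.2 ⟨hyS, ?_⟩
    have h1 : (⟨(x : Ω)⁻¹ * φ x, hyS⟩ : S) = (⟨x, hxS⟩ : S)⁻¹ * ⟨φ x, hφS x⟩ := rfl
    rw [h1, map_mul, map_inv, hg x]
    have h2 : (ι ⟨x, hxS⟩)⁻¹ * (g * ι ⟨x, hPS x.2⟩ * g⁻¹) = ⁅(ι ⟨x, hxS⟩)⁻¹, g⁆ := by
      rw [commutatorElement_def]
      group
    rw [h2, commutator_def]
    exact Subgroup.commutator_mem_commutator (Subgroup.mem_top _) (Subgroup.mem_top _)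
  -- the normalizer of `W(T)`
  set NG := Subgroup.normalizer ((W.W (T : Subgroup G) : Subgroup G) : Set G) with hNG
  have hTNG : (T : Subgroup G) ≤ NG :=
    Subgroup.le_normalizer.trans (W.normalizer_le (T : Subgroup G) hfinT T.2)
  let T' : Sylow p ↥NG := T.subtype hTNG
  have hT' : ∀ n : ↥NG, n ∈ (T' : Subgroup ↥NG) ↔ (n : G) ∈ (T : Subgroup G) := by
    intro n
    show n ∈ ((T.subtype hTNG : Sylow p ↥NG) : Subgroup ↥NG) ↔ _
    rw [Sylow.coe_subtype, Subgroup.mem_subgroupOf]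
  have hfocal := Subgroup.commutator_inf_eq_focalSubgroup T'
  -- the focal subgroup of `T` in `N_G(W(T))` goes into the image of `X`
  have hstep : (T' : Subgroup ↥NG).focalSubgroup ≤ (imgOf ι X).comap NG.subtype := by
    rw [Subgroup.focalSubgroup_def, Subgroup.closure_le]
    rintro g ⟨hgT, a, haT, u, rfl⟩
    rw [hT'] at hgT haT
    rw [hTr] at hgT haT
    obtain ⟨s, hs⟩ := haT
    have huN : (u : G) ∈ NG := u.2
    -- `u ι(s⁻¹) u⁻¹ ∈ ι(S)`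
    have hconj : (u : G) * ι s⁻¹ * (u : G)⁻¹ ∈ ι.range := by
      have h1 : ((⁅a, u⁆ : ↥NG) : G) = (a : G) * ((u : G) * (a : G)⁻¹ * (u : G)⁻¹) := by
        rw [commutatorElement_def]
        simp only [Subgroup.coe_mul, Subgroup.coe_inv]
        group
      rw [h1, ← hs] at hgT
      have h2 := ι.range.mul_mem (ι.range.inv_mem ⟨s, rfl⟩) hgT
      rw [inv_mul_cancel_left, ← map_inv] at h2
      exact h2
    set A := conjInSub ι (u : G) with hA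
    have hAS : A ≤ S := fun x hx => (mem_conjInSub.1 hx).1
    have hsA : ((s⁻¹ : S) : Ω) ∈ A := mem_conjInSub.2 ⟨(s⁻¹).2, hconj⟩
    have hWmem : ∀ w ∈ W.W S, ∀ hwS : w ∈ S, (u : G) * ι ⟨w, hwS⟩ * (u : G)⁻¹ ∈
        imgOf ι (W.W S) := by
      intro w hw hwS
      have h1 : ι ⟨w, hwS⟩ ∈ imgOf ι (W.W S) := mem_imgOf.2 ⟨w, hwS, hw, rfl⟩
      rw [← hWT] at h1 ⊢
      exact (Subgroup.mem_normalizer_iff.1 huN _).1 h1
    have hWA : W.W S ≤ A := by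
      intro w hw
      refine mem_conjInSub.2 ⟨hWS hw, ?_⟩
      obtain ⟨y, hyS, -, hy⟩ := mem_imgOf.1 (hWmem w hw (hWS hw))
      exact ⟨⟨y, hyS⟩, hy⟩
    have hmem : ∀ x : A, (u : G) * ι ⟨x, hAS x.2⟩ * (u : G)⁻¹ ∈ ι.range :=
      fun x => (mem_conjInSub.1 x.2).2
    obtain ⟨φ, hφ⟩ := exists_conjMap hinj (u : G) hAS hmem
    have hφS : ∀ x, φ x ∈ S := fun x => (hφ x).1
    have hφι : ∀ x, ι ⟨φ x, hφS x⟩ = (u : G) * ι ⟨x, hAS x.2⟩ * (u : G)⁻¹ := fun x => (hφ x).2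
    have hφF : φ ∈ F.Hom A := (hreal.2 _ hAS φ hφS).2 ⟨u, hφι⟩
    have hiso : IsIso F A φ.range (ext1 φ) := isIso_of_mem F hφF
    have hmap : ∀ w ∈ W.W S, ext1 φ w ∈ W.W S := by
      intro w hw
      rw [ext1_apply_mem φ (hWA hw)]
      have h2 := hWmem w hw (hWS hw)
      have h3 : (⟨w, hWS hw⟩ : S) = ⟨((⟨w, hWA hw⟩ : A) : Ω), hAS (hWA hw)⟩ := rfl
      rw [h3, ← hφι ⟨w, hWA hw⟩] at h2
      obtain ⟨y, hyS, hyW, hy⟩ := mem_imgOf.1 h2
      have h4 : (⟨y, hyS⟩ : S) = ⟨φ ⟨w, hWA hw⟩, hφS _⟩ := hinj hy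
      have h5 : y = φ ⟨w, hWA hw⟩ := congrArg Subtype.val h4
      rw [← h5]; exact hyW
    obtain ⟨Q', -, hisoW, -⟩ := hiso.restrict hWA
    have hQ' : Q' = W.W S := IsIso.eq_of_map_mem hisoW hmap
    rw [hQ'] at hisoW
    have hX := hWF A φ.range (ext1 φ) hiso hWA hisoW _ hsA
    rw [ext1_apply_mem φ hsA] at hX
    -- read in `G`
    show ((⁅a, u⁆ : ↥NG) : G) ∈ imgOf ι X
    have hyS : ((s⁻¹ : S) : Ω)⁻¹ * φ ⟨((s⁻¹ : S) : Ω), hsA⟩ ∈ S :=
      S.mul_mem (S.inv_mem (s⁻¹).2) (hφS _)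
    refine mem_imgOf.2 ⟨_, hyS, hX, ?_⟩
    have h1 : (⟨((s⁻¹ : S) : Ω)⁻¹ * φ ⟨((s⁻¹ : S) : Ω), hsA⟩, hyS⟩ : S) =
        (s⁻¹)⁻¹ * ⟨φ ⟨((s⁻¹ : S) : Ω), hsA⟩, hφS _⟩ := rfl
    rw [h1, map_mul, hφι]
    have h2 : (⟨((⟨((s⁻¹ : S) : Ω), hsA⟩ : A) : Ω), hAS hsA⟩ : S) = s⁻¹ := rfl
    rw [h2, inv_inv, hs, map_inv, hs]
    rw [commutatorElement_def]
    simp only [Subgroup.coe_mul, Subgroup.coe_inv]
    group
  -- conclusion
  rintro x ⟨hxc, hxf⟩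
  rw [hcore] at hxc
  obtain ⟨hxS, hxU⟩ := mem_preSub.1 hxc
  obtain ⟨hxS', hxG⟩ := mem_preSub.1 (hfocG hxf)
  have h1 : ι ⟨x, hxS⟩ ∈ pCore p G ⊓ commutator G := ⟨hxU, hxG⟩
  rw [hT G T hCU] at h1
  obtain ⟨n, hn, hnx⟩ := h1.2
  have hnx' : (n : G) = ι ⟨x, hxS⟩ := hnx
  have hnT : n ∈ (T' : Subgroup ↥NG) := by
    rw [hT', hnx', hTr]
    exact ⟨_, rfl⟩
  have h2 : n ∈ (T' : Subgroup ↥NG).focalSubgroup := by
    rw [← hfocal]
    exact ⟨hn, hnT⟩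
  have h3 := hstep h2
  rw [Subgroup.mem_comap] at h3
  have h3' : (n : G) ∈ imgOf ι X := h3
  rw [hnx'] at h3'
  obtain ⟨y, hyS, hyX, hy⟩ := mem_imgOf.1 h3'
  have h4 : (⟨y, hyS⟩ : S) = ⟨x, hxS⟩ := hinj hy
  have h5 : y = x := congrArg Subtype.val h4
  rw [← h5]; exact hyX

end main

end Cfsg.Agent.Lib.H26.CtlFoc
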