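import Mathlib
import Cfsg.Agent.Lib.H26.CtlFocBasic
import Cfsg.Agent.Lib.H25.BisCenter

set_option autoImplicit false
set_option linter.unusedSectionVars false
set_option linter.unusedVariables false

/-!
Control of transfer by a Glauberman functor (helper26), the transfer step: if `Q` is strongly
closed in a saturated system `F`, `X` contains the commutators of `S` and `x⁻¹ f(x) ∈ X` for the
maps `f` of `F` and the elements `x` of `Q`, then `Q ∩ foc(F) ≤ X`.  Deduced from helper25's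
theorem `foc(F) ∩ Z(F) = S' ∩ Z(F)` (transfer through the characteristic biset) applied to the
quotient by `Q ∩ X`, in which the image of `Q` is central.
-/

namespace Cfsg.Agent.Lib.H26.CtlFoc

open Cfsg Cfsg.FusionSystem Cfsg.Agent.Lib.H25 Cfsg.Agent.Lib.H26 Cfsg.Agent.Lib.H26.Nil
  Cfsg.Agent.Lib.H26.Model Cfsg.Agent.Lib.H26.ZJ Cfsg.Agent.Lib.H26.Ctl
open scoped commutatorElement

universe u

variable {Ω : Type u} [Group Ω] {S : Subgroup Ω}

/-- the commutators of `S` lie in `X` -/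
theorem SC.commutator_le {S X : Subgroup Ω} (h : SC S X) : ⁅S, S⁆ ≤ X := by
  rw [Subgroup.commutator_le]
  intro a ha b hb
  have h1 := h b hb a⁻¹ (S.inv_mem ha)
  have h2 : (a⁻¹)⁻¹ * (b * a⁻¹ * b⁻¹) = ⁅a, b⁆ := by
    rw [commutatorElement_def]; group
  rwa [h2] at h1

/-- the image of the focal subgroup lies in the focal subgroup of the image -/
theorem focal_le_pre {Ω' : Type u} [Group Ω'] {S' : Subgroup Ω'} {F : FusionSystem S}
    {F' : FusionSystem S'} {θ : S →* Ω'} (hmor : F.IsMorphism F' θ) :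
    F.focalSubgroup ≤ preimageAlong θ F'.focalSubgroup := by
  unfold focalSubgroup
  rw [Subgroup.closure_le]
  rintro _ ⟨P, φ, x, hφ, rfl⟩
  have hPS := hom_le F hφ
  have hφS : ∀ y, φ y ∈ S := fun y => hom_mem_S F hφ y
  have hxS : (x : Ω) ∈ S := hPS x.2
  have hiso : IsIso F P φ.range (ext1 φ) := isIso_of_mem F hφ
  obtain ⟨f', hf', hff'⟩ := push_iso hmor hiso
  have h1 := hff' x x.2
  rw [ext1_apply] at h1
  refine (mem_pre_iff θ _ _).2 ⟨S.mul_mem (S.inv_mem hxS) (hφS x), ?_⟩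
  rw [al_mul θ (S.inv_mem hxS) (hφS x), al_inv θ hxS, ← h1]
  have hmemI : al θ x ∈ imageAlong θ P := (mem_image_iff θ P _).2 ⟨x, x.2, hxS, rfl⟩
  exact focIn_focal F' _ _ _ hf' _ hmemI

section main

variable {p : ℕ} [Fact p.Prime]

theorem inf_focal_le_of_stable [Finite S] (hS : IsPGroup p S) {F : FusionSystem S}
    (hF : F.IsSaturated p) {Q : Subgroup Ω} (hQ : F.StronglyClosed Q) {X : Subgroup Ω}
    (hSC : SC S X)
    (hQX : ∀ (A B : Subgroup Ω) (f : Ω → Ω), IsIso F A B f → ∀ x ∈ A, x ∈ Q → x⁻¹ * f x ∈ X) :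
    Q ⊓ F.focalSubgroup ≤ X := by
  have hQS := hQ.1
  -- `Q ∩ X` is strongly closed
  have hQ₁ : F.StronglyClosed (Q ⊓ X) := by
    refine ⟨inf_le_left.trans hQS, fun R hR φ hφ x => ?_⟩
    have hxQ : (x : Ω) ∈ Q := (hR x.2).1
    have hxX : (x : Ω) ∈ X := (hR x.2).2
    have h1 : φ x ∈ Q := hQ.2 R (hR.trans inf_le_left) φ hφ x
    have h2 := hQX R φ.range (ext1 φ) (isIso_of_mem F hφ) x x.2 hxQ
    rw [ext1_apply] at h2
    refine ⟨h1, ?_⟩
    have h3 : φ x = (x : Ω) * ((x : Ω)⁻¹ * φ x) := by group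
    rw [h3]
    exact X.mul_mem hxX h2
  obtain ⟨Ω', _, S', F', θ, hsm, hker, hfac⟩ := exists_factor hS hF hQ₁
  have hrange := hsm.2.1
  have hmor := hsm.1
  have hfinS' : Finite S' := finite_S' hrange
  have hS'p : IsPGroup p S' := isPGroup_S' hrange hS
  have hF'sat : F'.IsSaturated p := isSaturated_of_surjectiveMorphism hS hF hsm
  have hK : F.StronglyClosed (kerSub θ) := by rw [hker]; exact hQ₁
  -- the image of `Q` is central
  have hcent : F'.IsCentral (imageAlong θ Q) := by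
    rw [Cfsg.Agent.S5084.result p hS'p F' hF'sat]
    refine ⟨?_, ?_⟩
    · intro y hy
      obtain ⟨q, hqQ, hqS, rfl⟩ := (mem_image_iff θ Q y).1 hy
      exact al_mem_S' hrange hqS
    · rintro x' hx' y' ⟨φ', hφ', rfl⟩
      obtain ⟨q, hqQ, hqS, rfl⟩ := (mem_image_iff θ Q x').1 hx'
      have hiso' : IsIso F' (Subgroup.zpowers (al θ q)) φ'.range (ext1 φ') := isIso_of_mem F' hφ'
      obtain ⟨f, hf, hff'⟩ := lift_iso hsm hK hiso'
      have hqpre : q ∈ preimageAlong θ (Subgroup.zpowers (al θ q)) :=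
        (mem_pre_iff θ _ q).2 ⟨hqS, Subgroup.mem_zpowers _⟩
      have h1 := hff' q hqpre
      rw [ext1_apply_mem φ' (Subgroup.mem_zpowers _)] at h1
      rw [h1]
      have h2 := hQX _ _ f hf q hqpre hqQ
      have hfS : f q ∈ S := hf.le_right (hf.map_mem hqpre)
      -- `f q ∈ Q`
      obtain ⟨R', -, hfR, -⟩ := hf.restrict
        (show Subgroup.zpowers q ≤ preimageAlong θ (Subgroup.zpowers (al θ q)) from
          (Subgroup.zpowers_le).2 hqpre)
      have h3 : f q ∈ Q := stronglyClosed_map_mem hQ hfR ((Subgroup.zpowers_le).2 hqQ)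
        (Subgroup.mem_zpowers q)
      have h4 : q⁻¹ * f q ∈ kerSub θ := by
        rw [hker]
        exact ⟨Q.mul_mem (Q.inv_mem hqQ) h3, h2⟩
      exact (al_eq_of_inv_mul_mem θ hqS h4).symm
  have hle : imageAlong θ Q ≤ F'.center := le_sSup hcent
  have hfc := Cfsg.Agent.Lib.H25.Bis.focal_inf_center hS'p hF'sat
  rintro x ⟨hxQ, hxf⟩
  have hxS : x ∈ S := hQS hxQ
  have h1 : al θ x ∈ F'.focalSubgroup := ((mem_pre_iff θ _ x).1 (focal_le_pre hmor hxf)).2
  have h2 : al θ x ∈ F'.center := hle ((mem_image_iff θ Q _).2 ⟨x, hxQ, hxS, rfl⟩)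
  have h3 : al θ x ∈ ⁅(S' : Subgroup Ω'), (S' : Subgroup Ω')⁆ := by
    have : al θ x ∈ F'.focalSubgroup ⊓ F'.center := ⟨h1, h2⟩
    rw [hfc] at this
    exact this.1
  -- the derived subgroup of `S'` is the image of the derived subgroup of `S`
  have h4 : ⁅(S' : Subgroup Ω'), (S' : Subgroup Ω')⁆ = (commutator ↥S).map θ := by
    rw [commutator_def, Subgroup.map_commutator, ← MonoidHom.range_eq_map, hrange]
  rw [h4] at h3
  obtain ⟨c, hc, hcx⟩ := h3
  have hcS : ((c : S) : Ω) ∈ ⁅S, S⁆ := by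
    rw [← Subgroup.map_subtype_commutator]
    exact ⟨c, hc, rfl⟩
  have hcX : ((c : S) : Ω) ∈ X := hSC.commutator_le hcS
  have h5 : al θ (c : Ω) = al θ x := by
    rw [al_apply θ c.2]
    exact hcx
  have h6 : (c : Ω)⁻¹ * x ∈ kerSub θ := inv_mul_mem_kerSub θ c.2 hxS h5
  rw [hker] at h6
  have h7 : x = (c : Ω) * ((c : Ω)⁻¹ * x) := by group
  rw [h7]
  exact X.mul_mem hcX h6.2

end main

end Cfsg.Agent.Lib.H26.CtlFoc
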