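import Mathlib
import Cfsg.Agent.Lib.H26.CtlFocLocal
import Cfsg.Agent.Lib.H26.CtlFocTransfer

set_option autoImplicit false
set_option linter.unusedSectionVars false
set_option linter.unusedVariables false

/-!
Control of transfer by a Glauberman functor (helper26), the case of a saturated system with a
nontrivial normal subgroup `Q`: the quotient by `Q` gives `foc(F) ≤ X Q`, and `Q ∩ foc(F) ≤ X`
comes from the model (if `Q` is centric), from the decomposition
`F = ⟨S C_F(Q), N_F(Q C_S(Q))⟩`, or from the transfer (if `F = S C_F(Q)`).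
-/

namespace Cfsg.Agent.Lib.H26.CtlFoc

open Cfsg Cfsg.FusionSystem Cfsg.Agent.Lib.H25 Cfsg.Agent.Lib.H26 Cfsg.Agent.Lib.H26.Nil
  Cfsg.Agent.Lib.H26.Model Cfsg.Agent.Lib.H26.ZJ Cfsg.Agent.Lib.H26.Ctl
open scoped commutatorElement

universe u

variable {Ω : Type u} [Group Ω] {S : Subgroup Ω}

section main

variable {p : ℕ} [Fact p.Prime] (W : PFun.{u} p)

/-- The inductive statement. -/
def MainT (n : ℕ) : Prop :=
  ∀ {Ω : Type u} [Group Ω] {S : Subgroup Ω} [Finite S], Nat.card S = n → IsPGroup p S →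
    ∀ F : FusionSystem S, F.IsSaturated p → ∀ X : Subgroup Ω, SC S X → WFoc W F X → FocIn F X

variable (hT : ∀ (L : Type u) [Group L] [Finite L] (P : Sylow p L),
    Subgroup.centralizer ((pCore p L : Subgroup L) : Set L) ≤ pCore p L →
    pCore p L ⊓ commutator L = pCore p L ⊓
      (commutator ↥(Subgroup.normalizer ((W.W (P : Subgroup L) : Subgroup L) : Set L))).map
        (Subgroup.normalizer ((W.W (P : Subgroup L) : Subgroup L) : Set L)).subtype)

include hT in
/-- **Case B**: a saturated system with a nontrivial normal subgroup. -/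
theorem caseB_foc {n : ℕ} (ih : ∀ m < n, MainT W m) [Finite S] (hcard : Nat.card S = n)
    (hS : IsPGroup p S) (F : FusionSystem S) (hF : F.IsSaturated p)
    (IHk : ∀ F₁ : FusionSystem S, msize F₁ < msize F → F₁.IsSaturated p → ∀ X : Subgroup Ω,
      SC S X → WFoc W F₁ X → FocIn F₁ X)
    {X : Subgroup Ω} (hSC : SC S X) (hWF : WFoc W F X) (hXfoc : X ≤ F.focalSubgroup) :
    ∀ j : ℕ, ∀ Q : Subgroup Ω, F.IsNormal Q → Q ≠ ⊥ → Nat.card S - Nat.card Q = j →
      FocIn F X := by
  have hsmaller : ∀ F₁ : FusionSystem S, (∀ P : Subgroup Ω, F₁.Hom P ⊆ F.Hom P) →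
      F₁.IsSaturated p → (¬ ∀ P : Subgroup Ω, F.Hom P ⊆ F₁.Hom P) → FocIn F₁ X := by
    intro F₁ h hsat hne
    push Not at hne
    obtain ⟨P, hP⟩ := hne
    obtain ⟨φ, hφ, hφ'⟩ := Set.not_subset.1 hP
    exact IHk F₁ (msize_lt h hφ hφ') hsat X hSC (hWF.mono W h)
  intro j
  induction j using Nat.strong_induction_on with
  | _ j IH =>
    intro Q hQ hQne hj
    have hQS := hQ.1
    have hQsc := isNormal_stronglyClosed hQ
    have hQn : S ≤ Subgroup.normalizer (Q : Set Ω) := stronglyClosed_le_normalizer hQsc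
    have hfinQ : Finite Q := finite_of_le S hQS
    -- the case `Q = S`
    by_cases hQtop : Q = S
    · intro A B f hf x hx
      obtain ⟨g, hg, hgf, hgQ⟩ := isNormal_exists_ext hQ hf
      rw [hQtop] at hgQ
      have hWS : W.W S ≤ S := W.le S
      have hWsup : W.W S ≤ A ⊔ Q := hWS.trans (hQtop ▸ le_sup_right)
      have hgW : IsIso F (W.W S) (W.W S) g := by
        obtain ⟨α, hα, hαg⟩ := exists_mem_autGroup_of_isIso F hgQ
        refine hgQ.restrict' hWS (fun y hy => ?_) (fun y hy => ?_)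
        · have := aut_mem_W W hS α ⟨y, hWS hy⟩ hy
          rwa [hαg] at this
        · have h1 := aut_mem_W W hS α⁻¹ ⟨y, hWS hy⟩ hy
          refine ⟨((α⁻¹ ⟨y, hWS hy⟩ : S) : Ω), h1, ?_⟩
          rw [← hαg]
          show ((α (α⁻¹ ⟨y, hWS hy⟩) : S) : Ω) = y
          simp
      have := hWF _ _ g hg hWsup hgW x (le_sup_left (a := A) hx)
      rwa [hgf x hx] at this
    -- `Q ∩ foc(F) ≤ X`, or the conclusion
    have hstep2 : FocIn F X ∨ Q ⊓ F.focalSubgroup ≤ X := by
      by_cases hCQ : centralizerIn S Q ≤ Q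
      · right
        have h1 := core_inf_focal_le W hT hS hF hQ hCQ hWF
        exact (inf_le_inf_right _ (le_sSup hQ : Q ≤ F.core)).trans h1
      -- `R = Q C_S(Q)`
      set C := centralizerIn S Q with hCdef
      have hCS : C ≤ S := inf_le_left
      have hCn : S ≤ Subgroup.normalizer (C : Set Ω) := le_normalizer_centralizerIn hQn
      have hRS : Q ⊔ C ≤ S := sup_le hQS hCS
      have hRn : S ≤ Subgroup.normalizer ((Q ⊔ C : Subgroup Ω) : Set Ω) :=
        le_normalizer_sup hQn hCn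
      have hNSR : normalizerIn S (Q ⊔ C) = S := inf_eq_left.2 hRn
      have hRfn : F.IsFullyNormalized (Q ⊔ C) := isFullyNormalized_of_normalizerIn_eq hRS hNSR
      have hQR : Q < Q ⊔ C := by
        refine lt_of_le_of_ne le_sup_left (fun h => hCQ ?_)
        rw [h]
        exact le_sup_right
      have hcardR : Nat.card Q < Nat.card (Q ⊔ C : Subgroup Ω) := card_lt_of_lt' hRS hQR
      have hcardRS : Nat.card (Q ⊔ C : Subgroup Ω) ≤ Nat.card S := Subgroup.card_le_of_le hRS
      have hRne : Q ⊔ C ≠ ⊥ := fun h => hQne (le_bot_iff.1 (h ▸ le_sup_left))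
      obtain ⟨N₁, hN₁, hN₁sat, hN₁R⟩ := exists_normalizer_on_top hS hF hRfn hNSR
      have hN₁F := hom_le_of_normalizer (F := F) hN₁
      by_cases hsub₁ : ∀ P : Subgroup Ω, F.Hom P ⊆ N₁.Hom P
      · left
        exact IH (Nat.card S - Nat.card (Q ⊔ C : Subgroup Ω)) (by omega) (Q ⊔ C)
          (isNormal_of_hom_le hRS hN₁ hsub₁) hRne rfl
      have h1 : FocIn N₁ X := hsmaller N₁ hN₁F hN₁sat hsub₁
      -- `D = S C_F(Q)`
      have hDsat := scSys_isSaturated (F := F) hQS hQn hS hF
      have hDF := scSys_le (F := F) hQS hQn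
      by_cases hsubD : ∀ P : Subgroup Ω, F.Hom P ⊆ (scSys F Q hQS hQn).Hom P
      · -- the transfer
        right
        apply inf_focal_le_of_stable hS hF hQsc hSC
        intro A B f hf x hx hxQ
        obtain ⟨g, hg, hgf, -⟩ := isNormal_exists_ext hQ hf
        have hgD : IsIso (scSys F Q hQS hQn) (A ⊔ Q) (B ⊔ Q) g := by
          obtain ⟨φ, hφ, h3, h4⟩ := hg
          exact ⟨φ, hsubD _ hφ, h3, h4⟩
        obtain ⟨s, hs, hsq⟩ := scSys_res hQS hQn hgD le_sup_right
        rw [← hgf x hx, hsq x hxQ]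
        exact hSC s hs x (hQS hxQ)
      · -- `D` is smaller: decompose
        left
        have h2 : FocIn (scSys F Q hQS hQn) X := hsmaller _ hDF hDsat hsubD
        intro A B f hf x hx
        obtain ⟨g, hg, hgf, -⟩ := isNormal_exists_ext hQ hf
        obtain ⟨β, γ, P'', hβ, hβN, hQP'', hγ, hγfix, hgγβ⟩ :=
          decompose hS hF hQ hg (le_sup_right : Q ≤ A ⊔ Q)
        have hβN₁ : IsIso N₁ (A ⊔ Q) P'' β := isIso_of_isNHom hN₁ hβ hβN
        have hγD : IsIso (scSys F Q hQS hQn) P'' (B ⊔ Q) γ :=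
          isIso_scSys_of_fix hQS hQn hγ hQP'' hγfix
        have hxA : x ∈ A ⊔ Q := (le_sup_left : A ≤ A ⊔ Q) hx
        have e1 := h1 _ _ _ hβN₁ x hxA
        have e2 := h2 _ _ _ hγD (β x) (hβ.map_mem hxA)
        rw [← hgf x hx, hgγβ x hxA]
        have h3 : x⁻¹ * γ (β x) = (x⁻¹ * β x) * ((β x)⁻¹ * γ (β x)) := by group
        rw [h3]
        exact X.mul_mem e1 e2
    rcases hstep2 with hdone | hQX
    · exact hdone
    -- the quotient
    obtain ⟨Ω', hΩ', S', F', θ, hsm, hker, hfac⟩ := exists_factor hS hF hQsc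
    have hrange := hsm.2.1
    have hmor := hsm.1
    have hfinS' : Finite S' := finite_S' hrange
    have hS'p : IsPGroup p S' := isPGroup_S' hrange hS
    have hF'sat : F'.IsSaturated p := isSaturated_of_surjectiveMorphism hS hF hsm
    have hK : F.StronglyClosed (kerSub θ) := by rw [hker]; exact hQsc
    have hcardS' : Nat.card S = Nat.card Q * Nat.card S' := by
      have := card_pre hrange (le_refl S')
      rwa [pre_top hrange, hker] at this
    have hQ1 : 1 < Nat.card Q := one_lt_card_of_ne_bot hQne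
    have hS'pos : 0 < Nat.card S' := Nat.card_pos
    have hS'lt : Nat.card S' < n := by
      rw [← hcard, hcardS']
      nlinarith
    have hS'ne : S' ≠ ⊥ := by
      intro h
      apply hQtop
      apply Subgroup.eq_of_le_of_card_ge hQS
      have h2 : Nat.card S' = 1 := by rw [h]; exact Subgroup.card_bot
      rw [hcardS', h2, mul_one]
    have hV'S' : W.W S' ≤ S' := W.le S'
    have hV'ne : W.W S' ≠ ⊥ := W.ne_bot S' hfinS' hS'p hS'ne
    set V := preimageAlong θ (W.W S') with hVdef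
    have hVS : V ≤ S := preimageAlong_le θ _
    -- `V` is normalized by `S`
    have hVn : S ≤ Subgroup.normalizer (V : Set Ω) := by
      have key : ∀ g ∈ S, ∀ x ∈ V, g * x * g⁻¹ ∈ V := by
        intro g hg x hx
        obtain ⟨hxS, hx'⟩ := (mem_pre_iff θ _ x).1 hx
        refine (mem_pre_iff θ _ _).2 ⟨S.mul_mem (S.mul_mem hg hxS) (S.inv_mem hg), ?_⟩
        rw [al_conj θ hg hxS]
        have hgS' : al θ g ∈ S' := al_mem_S' hrange hg
        have h2 : al θ g ∈ Subgroup.normalizer ((W.W S' : Subgroup Ω') : Set Ω') :=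
          W.normalizer_le S' hfinS' hS'p (Subgroup.le_normalizer hgS')
        exact (Subgroup.mem_normalizer_iff.1 h2 _).1 hx'
      intro g hg
      rw [Subgroup.mem_normalizer_iff]
      intro x
      refine ⟨fun hx => key g hg x hx, fun hx => ?_⟩
      have := key g⁻¹ (S.inv_mem hg) _ hx
      simpa [mul_assoc] using this
    have hNSV : normalizerIn S V = S := inf_eq_left.2 hVn
    have hVfn : F.IsFullyNormalized V := isFullyNormalized_of_normalizerIn_eq hVS hNSV
    have hQV : Q < V := by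
      have hle : Q ≤ V := by rw [← hker]; exact kerSub_le_pre θ _
      refine lt_of_le_of_ne hle (fun h => hV'ne ?_)
      apply pre_injective hrange hV'S' bot_le
      show V = kerSub θ
      rw [hker, h]
    have hcardV : Nat.card Q < Nat.card V := card_lt_of_lt' hVS hQV
    have hcardVS : Nat.card V ≤ Nat.card S := Subgroup.card_le_of_le hVS
    have hVne : V ≠ ⊥ := fun h => hQne (le_bot_iff.1 (h ▸ hQV.le))
    obtain ⟨N₂, hN₂, hN₂sat, hN₂V⟩ := exists_normalizer_on_top hS hF hVfn hNSV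
    have hN₂F := hom_le_of_normalizer (F := F) hN₂
    by_cases hsub₂ : ∀ P : Subgroup Ω, F.Hom P ⊆ N₂.Hom P
    · exact IH (Nat.card S - Nat.card V) (by omega) V
        (isNormal_of_hom_le hVS hN₂ hsub₂) hVne rfl
    have h2 : FocIn N₂ X := hsmaller N₂ hN₂F hN₂sat hsub₂
    -- the image of `X`
    set X' := imageAlong θ X with hX'def
    have hSC' : SC S' X' := by
      intro s' hs' x' hx'
      obtain ⟨s, hs, rfl⟩ := exists_al_eq hrange hs'
      obtain ⟨x, hx, rfl⟩ := exists_al_eq hrange hx'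
      have h3 := hSC s hs x hx
      have h4 : x⁻¹ * (s * x * s⁻¹) ∈ S :=
        S.mul_mem (S.inv_mem hx) (S.mul_mem (S.mul_mem hs hx) (S.inv_mem hs))
      have h5 : (al θ x)⁻¹ * (al θ s * al θ x * (al θ s)⁻¹) = al θ (x⁻¹ * (s * x * s⁻¹)) := by
        rw [al_mul θ (S.inv_mem hx) (S.mul_mem (S.mul_mem hs hx) (S.inv_mem hs)), al_inv θ hx,
          al_conj θ hs hx]
      rw [h5]
      exact (mem_image_iff θ X _).2 ⟨_, h3, h4, rfl⟩
    have hWF' : WFoc W F' X' := by
      intro A' B' f' hf' hWA' hf'W y hy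
      have hA'S' := hf'.le_left
      obtain ⟨f, hf, hff'⟩ := lift_iso hsm hK hf'
      have hVA : V ≤ preimageAlong θ A' := pre_mono θ hWA'
      have hmapV : ∀ x ∈ V, f x ∈ V := by
        intro x hx
        have hxA := hVA hx
        refine (mem_pre_iff θ _ _).2 ⟨hf.le_right (hf.map_mem hxA), ?_⟩
        rw [← hff' x hxA]
        exact hf'W.map_mem ((mem_pre_iff θ _ x).1 hx).2
      obtain ⟨V₂, -, hfV₂, -⟩ := hf.restrict hVA
      have hV₂ : V₂ = V := IsIso.eq_of_map_mem hfV₂ hmapV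
      rw [hV₂] at hfV₂
      have hAT : preimageAlong θ A' ≤ normalizerIn S V := by
        rw [hNSV]; exact preimageAlong_le θ _
      obtain ⟨-, hNHom⟩ := isNHom_of_normalizes hVA hAT hf hfV₂
      have hfN₂ : IsIso N₂ (preimageAlong θ A') (preimageAlong θ B') f :=
        isIso_of_isNHom hN₂ hf hNHom
      obtain ⟨x, hx, rfl⟩ := exists_al_eq_of_mem hrange hA'S' hy
      have h3 := h2 _ _ _ hfN₂ x hx
      have hxS : x ∈ S := preimageAlong_le θ _ hx
      have hfxS : f x ∈ S := hf.le_right (hf.map_mem hx)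
      rw [hff' x hx, ← al_inv θ hxS, ← al_mul θ (S.inv_mem hxS) hfxS]
      exact (mem_image_iff θ X _).2 ⟨_, h3, S.mul_mem (S.inv_mem hxS) hfxS, rfl⟩
    have hF'foc : FocIn F' X' := ih _ hS'lt rfl hS'p F' hF'sat X' hSC' hWF'
    -- conclusion
    intro A B f hf x hx
    have hxS : x ∈ S := hf.le_left hx
    have hfxS : f x ∈ S := hf.le_right (hf.map_mem hx)
    obtain ⟨f', hf', hff'⟩ := push_iso hmor hf
    have hmemI : al θ x ∈ imageAlong θ A := (mem_image_iff θ A _).2 ⟨x, hx, hxS, rfl⟩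
    have h3 := hF'foc _ _ _ hf' _ hmemI
    rw [hff' x hx, ← al_inv θ hxS, ← al_mul θ (S.inv_mem hxS) hfxS] at h3
    obtain ⟨t, htX, htS, ht⟩ := (mem_image_iff θ X _).1 h3
    have hyS : x⁻¹ * f x ∈ S := S.mul_mem (S.inv_mem hxS) hfxS
    have h4 : t⁻¹ * (x⁻¹ * f x) ∈ kerSub θ := inv_mul_mem_kerSub θ htS hyS ht
    rw [hker] at h4
    have h5 : t⁻¹ * (x⁻¹ * f x) ∈ F.focalSubgroup :=
      F.focalSubgroup.mul_mem (F.focalSubgroup.inv_mem (hXfoc htX))
        (focIn_focal F A B f hf x hx)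
    have h6 : t⁻¹ * (x⁻¹ * f x) ∈ X := hQX ⟨h4, h5⟩
    have h7 : x⁻¹ * f x = t * (t⁻¹ * (x⁻¹ * f x)) := by group
    rw [h7]
    exact X.mul_mem htX h6

end main

end Cfsg.Agent.Lib.H26.CtlFoc
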