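import Mathlib
import Cfsg.Agent.Lib.H26.CtlFocCaseB

set_option autoImplicit false
set_option linter.unusedSectionVars false
set_option linter.unusedVariables false

/-!
Control of transfer by a Glauberman functor (helper26): if `W` satisfies the local condition
`O_p(L) ∩ L' = O_p(L) ∩ N_L(W(P))'` in every finite group `L` with `C_L(O_p(L)) ≤ O_p(L)`, then
in a saturated fusion system `F` over `S` the focal subgroup of `F` lies in every subgroup `X`
containing the commutators of `S` and the elements `x⁻¹ f(x)` for the maps `f` of `F` normalizing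
`W(S)`.  The chain argument (no nontrivial normal subgroup) and the main induction.
-/

namespace Cfsg.Agent.Lib.H26.CtlFoc

open Cfsg Cfsg.FusionSystem Cfsg.Agent.Lib.H25 Cfsg.Agent.Lib.H26 Cfsg.Agent.Lib.H26.Nil
  Cfsg.Agent.Lib.H26.Model Cfsg.Agent.Lib.H26.ZJ Cfsg.Agent.Lib.H26.Ctl
open scoped commutatorElement

universe u

variable {Ω : Type u} [Group Ω] {S : Subgroup Ω}

section main

variable {p : ℕ} [Fact p.Prime] (W : PFun.{u} p)

variable (hT : ∀ (L : Type u) [Group L] [Finite L] (P : Sylow p L),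
    Subgroup.centralizer ((pCore p L : Subgroup L) : Set L) ≤ pCore p L →
    pCore p L ⊓ commutator L = pCore p L ⊓
      (commutator ↥(Subgroup.normalizer ((W.W (P : Subgroup L) : Subgroup L) : Set L))).map
        (Subgroup.normalizer ((W.W (P : Subgroup L) : Subgroup L) : Set L)).subtype)

include hT in
/-- The main step: a saturated system without nontrivial normal subgroups (the chain argument). -/
theorem chain_foc {n : ℕ} (ih : ∀ m < n, MainT W m) [Finite S] (hcard : Nat.card S = n)
    (hS : IsPGroup p S) (F : FusionSystem S) (hF : F.IsSaturated p)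
    (IHk : ∀ F₁ : FusionSystem S, msize F₁ < msize F → F₁.IsSaturated p → ∀ X : Subgroup Ω,
      SC S X → WFoc W F₁ X → FocIn F₁ X)
    (hno : ∀ U : Subgroup Ω, F.IsNormal U → U = ⊥)
    {X : Subgroup Ω} (hSC : SC S X) (hWF : WFoc W F X) : FocIn F X := by
  have hW₀S : W.W S ≤ S := W.le S
  set E := focSys F X hSC with hEdef
  have hEF : ∀ P : Subgroup Ω, E.Hom P ⊆ F.Hom P := focSys_le F X hSC
  apply focIn_of_hom_le hSC
  apply alperin_ind hS F hF E
  intro P hP IHhom
  have hPS : P ≤ S := le_of_eq_or_essential hP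
  have IHA : ∀ (A B : Subgroup Ω) (f : Ω → Ω), Nat.card P < Nat.card A → IsIso F A B f →
      IsIso E A B f := by
    intro A B f hlt hf
    have hAS := hf.le_left
    obtain ⟨φ, hφ, h1, h2⟩ := hf
    exact ⟨φ, IHhom A hAS hlt hφ, h1, h2⟩
  intro α hα
  apply mem_autGroup_focSys hSC hPS hα
  intro x
  have hf := isIso_of_mem_autGroup F hPS hα
  suffices h : (x : Ω)⁻¹ * ext1 (P.subtype.comp α.toMonoidHom) x ∈ X by
    rw [ext1_apply_mem _ x.2] at h
    exact h
  by_cases hPeq : P = S
  · -- automorphisms of `S`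
    subst hPeq
    have hfW : IsIso F (W.W P) (W.W P) (ext1 (P.subtype.comp α.toMonoidHom)) := by
      refine hf.restrict' hW₀S (fun y hy => ?_) (fun y hy => ?_)
      · rw [ext1_apply_mem _ (hW₀S hy)]
        exact aut_mem_W W hS α ⟨y, hW₀S hy⟩ hy
      · have h1 := aut_mem_W W hS α⁻¹ ⟨y, hW₀S hy⟩ hy
        refine ⟨((α⁻¹ ⟨y, hW₀S hy⟩ : P) : Ω), h1, ?_⟩
        rw [ext1_apply]
        show ((α (α⁻¹ ⟨y, hW₀S hy⟩) : P) : Ω) = y
        simp
    exact hWF _ _ _ hf hW₀S hfW x x.2
  · -- essential subgroups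
    have hess : F.IsEssential p P := by
      rcases hP with h | h
      · exact absurd h hPeq
      · exact h
    have hc := hess.1
    have hfn := hess.2.1
    have hCP : centralizerIn S P ≤ P := hc.2 P (isConj_refl F hPS)
    have hPne : P ≠ ⊥ := by
      intro h
      apply hPeq
      apply le_antisymm hPS
      intro s hs
      apply hCP
      refine ⟨hs, ?_⟩
      show s ∈ Subgroup.centralizer (P : Set Ω)
      rw [Subgroup.mem_centralizer_iff]
      intro y hy
      have hy' : y ∈ P := hy
      rw [h, Subgroup.mem_bot] at hy'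
      rw [hy']
      simp
    set T := normalizerIn S P with hTdef
    have hTS : T ≤ S := inf_le_left
    have hfinT : Finite T := finite_of_le S hTS
    have hTp : IsPGroup p T := hS.to_le hTS
    have hPT : P ≤ T := le_normalizerIn hPS
    have hPltT : Nat.card P < Nat.card T := by
      obtain ⟨y, hyN, hyP⟩ := exists_mem_normalizerIn_not_mem hS hPS hPeq
      exact card_lt_of_lt' inf_le_left (lt_of_le_of_ne hPT (fun h => hyP (h ▸ hyN)))
    have hXT : W.W T ≤ T := W.le T
    have hTne : T ≠ ⊥ := fun h => hPne (le_bot_iff.1 (h ▸ hPT))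
    have hXne : W.W T ≠ ⊥ := W.ne_bot T hfinT hTp hTne
    have hTNX : normalizerIn S T ≤ normalizerIn S (W.W T) := W.normalizerIn_le S T hfinT hTp
    have hTNT : T ≤ normalizerIn S T := le_normalizerIn hTS
    have hfinNX : Finite (normalizerIn S (W.W T)) := finite_of_le S inf_le_left
    have hc1 : Nat.card P < Nat.card (normalizerIn S (W.W T)) :=
      lt_of_lt_of_le hPltT (Subgroup.card_le_of_le (hTNT.trans hTNX))
    -- the chain
    have hfnstep : ∀ U : Subgroup Ω, F.IsFullyNormalized U → U ≠ ⊥ →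
        (∀ U₂ : Subgroup Ω, U₂ ≤ S → U₂ ≠ ⊥ →
          Nat.card (normalizerIn S U) < Nat.card (normalizerIn S U₂) → ZJ.Good F E U₂) →
        ZJ.Good F E U := by
      intro U hUfn hUne IH₂
      have hUS := hUfn.1
      intro A B g hUA hAT hg hgU
      obtain ⟨hBT, hNHom⟩ := isNHom_of_normalizes hUA hAT hg hgU
      by_cases hTU : normalizerIn S U = S
      · obtain ⟨N₁, hN₁, hN₁sat, hN₁U⟩ := exists_normalizer_on_top hS hF hUfn hTU
        have hN₁F := hom_le_of_normalizer (F := F) hN₁
        have hlt : msize N₁ < msize F := by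
          by_cases hsub : ∀ P : Subgroup Ω, F.Hom P ⊆ N₁.Hom P
          · exact absurd (hno U (isNormal_of_hom_le hUS hN₁ hsub)) hUne
          · push Not at hsub
            obtain ⟨P', hP'⟩ := hsub
            obtain ⟨φ, hφ, hφ'⟩ := Set.not_subset.1 hP'
            exact msize_lt hN₁F hφ hφ'
        have h1 : FocIn N₁ X := IHk N₁ hlt hN₁sat X hSC (hWF.mono W hN₁F)
        exact isIso_focSys_of_focIn hSC hN₁F h1 (isIso_of_isNHom hN₁ hg hNHom)
      · set T₂ := normalizerIn S U with hT₂def
        have hT₂S : T₂ ≤ S := inf_le_left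
        have hfinT₂ : Finite T₂ := finite_of_le S hT₂S
        have hT₂p : IsPGroup p T₂ := hS.to_le hT₂S
        have hUT₂ : U ≤ T₂ := le_normalizerIn hUS
        have hT₂ne : T₂ ≠ ⊥ := fun h => hUne (le_bot_iff.1 (h ▸ hUT₂))
        have hT₂lt : Nat.card T₂ < n := by
          rw [← hcard]
          exact card_lt_of_lt' le_rfl (lt_of_le_of_ne hT₂S hTU)
        have hN : F.IsNormalizerSystem U (Cfsg.Agent.S5096.normSys F U hUS) := fun _ => rfl
        have hNsat := normalizerSystem_isSaturated hS hF hUfn _ hN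
        have hNF := hom_le_of_normalizer (F := F) hN
        have hX₂T : W.W T₂ ≤ T₂ := W.le T₂
        have hX₂ne : W.W T₂ ≠ ⊥ := W.ne_bot T₂ hfinT₂ hT₂p hT₂ne
        have hT₂NX : normalizerIn S T₂ ≤ normalizerIn S (W.W T₂) :=
          W.normalizerIn_le S T₂ hfinT₂ hT₂p
        have hT₂NT : T₂ ≤ normalizerIn S T₂ := le_normalizerIn hT₂S
        have hlt : Nat.card T₂ < Nat.card (normalizerIn S (W.W T₂)) := by
          obtain ⟨y, hyN, hyT⟩ := exists_mem_normalizerIn_not_mem hS hT₂S hTU
          have h1 : T₂ < normalizerIn S T₂ := lt_of_le_of_ne hT₂NT (fun h => hyT (h ▸ hyN))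
          have hfinNX₂ : Finite (normalizerIn S (W.W T₂)) := finite_of_le S inf_le_left
          exact lt_of_lt_of_le (card_lt_of_lt' inf_le_left h1) (Subgroup.card_le_of_le hT₂NX)
        have hgood := IH₂ (W.W T₂) (hX₂T.trans hT₂S) hX₂ne hlt
        have h1 : FocIn (Cfsg.Agent.S5096.normSys F U hUS) X := by
          apply ih _ hT₂lt rfl hT₂p _ hNsat X (hSC.mono_left hT₂S)
          intro A' B' f' hf' hWA' hf'W x' hx'
          have hfF : IsIso F A' B' f' := isIso_of_hom_le hNF hf'
          have hfFW : IsIso F (W.W T₂) (W.W T₂) f' := isIso_of_hom_le hNF hf'W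
          have hA'T₂ : A' ≤ T₂ := hf'.le_left
          have hfE := hgood _ _ f' hWA' (hA'T₂.trans (hT₂NT.trans hT₂NX)) hfF hfFW
          exact ((isIso_focSys_iff F X hSC).1 hfE).2 x' hx'
        exact isIso_focSys_of_focIn hSC hNF h1 (isIso_of_isNHom hN hg hNHom)
    have hgoodX : ZJ.Good F E (W.W T) :=
      good_all_gen hS hF hEF hfnstep IHA _ (W.W T) (hXT.trans hTS) hXne hc1 rfl
    -- the model of `N_F(P)`
    have hN : F.IsNormalizerSystem P (Cfsg.Agent.S5096.normSys F P hPS) := fun _ => rfl
    have hNsat := normalizerSystem_isSaturated hS hF hfn _ hN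
    have hNF := hom_le_of_normalizer (F := F) hN
    have hNP : (Cfsg.Agent.S5096.normSys F P hPS).IsNormal P := normalizerSystem_isNormal hPS hN
    have hCTP : centralizerIn T P ≤ P := fun y hy => hCP ⟨hTS hy.1, hy.2⟩
    have hWFN : WFoc W (Cfsg.Agent.S5096.normSys F P hPS) X := by
      intro A' B' f' hf' hWA' hf'W x' hx'
      have hfF : IsIso F A' B' f' := isIso_of_hom_le hNF hf'
      have hfFW : IsIso F (W.W T) (W.W T) f' := isIso_of_hom_le hNF hf'W
      have hA'T : A' ≤ T := hf'.le_left
      have hfE := hgoodX _ _ f' hWA' (hA'T.trans (hTNT.trans hTNX)) hfF hfFW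
      exact ((isIso_focSys_iff F X hSC).1 hfE).2 x' hx'
    have h1 := core_inf_focal_le W hT hTp hNsat hNP hCTP hWFN
    obtain ⟨-, hNHom⟩ := isNHom_of_normalizes (le_refl P) hPT hf hf
    have hfN := isIso_of_isNHom hN hf hNHom
    apply h1
    refine ⟨?_, focIn_focal _ _ _ _ hfN x x.2⟩
    apply (le_sSup hNP : P ≤ (Cfsg.Agent.S5096.normSys F P hPS).core)
    exact P.mul_mem (P.inv_mem x.2) (hf.map_mem x.2)

include hT in
/-- **Control of transfer**. -/
theorem main_foc : ∀ n : ℕ, MainT W n := by
  intro n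
  induction n using Nat.strong_induction_on with
  | _ n ih =>
    intro Ω _ S _ hcard hS
    have inner : ∀ k : ℕ, ∀ F : FusionSystem S, msize F = k → F.IsSaturated p →
        ∀ X : Subgroup Ω, SC S X → WFoc W F X → FocIn F X := by
      intro k
      induction k using Nat.strong_induction_on with
      | _ k IHk' =>
        intro F hk hF X hSC hWF
        have IHk : ∀ F₁ : FusionSystem S, msize F₁ < msize F → F₁.IsSaturated p →
            ∀ X : Subgroup Ω, SC S X → WFoc W F₁ X → FocIn F₁ X :=
          fun F₁ hlt hsat X₁ hSC₁ hWF₁ => IHk' (msize F₁) (hk ▸ hlt) F₁ rfl hsat X₁ hSC₁ hWF₁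
        by_cases hnorm : ∃ U : Subgroup Ω, F.IsNormal U ∧ U ≠ ⊥
        · obtain ⟨U, hU, hUne⟩ := hnorm
          have hSC₀ : SC S (X ⊓ F.focalSubgroup) := fun s hs x hx =>
            ⟨hSC s hs x hx, SC_focal F s hs x hx⟩
          have h := caseB_foc W hT ih hcard hS F hF IHk hSC₀ (hWF.inf_focal W) inf_le_right
            _ U hU hUne rfl
          exact h.mono_right inf_le_left
        · have hno : ∀ U : Subgroup Ω, F.IsNormal U → U = ⊥ := by
            intro U hU
            by_contra hne
            exact hnorm ⟨U, hU, hne⟩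
          exact chain_foc W hT ih hcard hS F hF IHk hno hSC hWF
    intro F hF X hSC hWF
    exact inner _ F rfl hF X hSC hWF

end main

end Cfsg.Agent.Lib.H26.CtlFoc
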