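import Mathlib
import Cfsg.Agent.Lib.H26.NilMain

set_option autoImplicit false

/-!
From a functor on finite `p`-groups given on types (`W : ∀ Q [Group Q], Subgroup Q`, invariant
under isomorphisms) to a functor on subgroups (`PFun`) (helper26).
-/

namespace Cfsg.Agent.Lib.H26.ZJ

open Cfsg Cfsg.Agent.Lib.H26.Nil

universe u

variable {p : ℕ}

/-- The functor on subgroups attached to a functor on types. -/
noncomputable def PFun.ofType (W : ∀ (Q : Type u) [Group Q], Subgroup Q)
    (hW1 : ∀ (Q : Type u) [Group Q] [Finite Q], IsPGroup p Q → Nontrivial Q → W Q ≠ ⊥)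
    (hW2 : ∀ (Q R : Type u) [Group Q] [Group R] [Finite Q], IsPGroup p Q → ∀ φ : Q ≃* R,
      (W Q).map φ.toMonoidHom = W R) : PFun.{u} p where
  W := fun {G} _ Q => (W ↥Q).map Q.subtype
  le := fun {G} _ Q => by
    rintro _ ⟨x, -, rfl⟩
    exact x.2
  map := fun {G H} _ _ f Q hfin hQ hinj => by
    have hbij : Function.Bijective (f.subgroupMap Q) := by
      refine ⟨fun a b hab => ?_, f.subgroupMap_surjective Q⟩
      apply Subtype.ext
      apply hinj a.2 b.2
      exact congrArg Subtype.val hab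
    let e : ↥Q ≃* ↥(Q.map f) := MulEquiv.ofBijective (f.subgroupMap Q) hbij
    have h1 := hW2 ↥Q ↥(Q.map f) hQ e
    rw [← h1, Subgroup.map_map, Subgroup.map_map]
    rfl
  ne_bot := fun {G} _ Q hfin hQ hne => by
    intro h
    rw [Subgroup.map_eq_bot_iff_of_injective _ Q.subtype_injective] at h
    exact hW1 ↥Q hQ ((Subgroup.nontrivial_iff_ne_bot Q).2 hne) h

theorem PFun.ofType_W (W : ∀ (Q : Type u) [Group Q], Subgroup Q)
    (hW1 : ∀ (Q : Type u) [Group Q] [Finite Q], IsPGroup p Q → Nontrivial Q → W Q ≠ ⊥)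
    (hW2 : ∀ (Q R : Type u) [Group Q] [Group R] [Finite Q], IsPGroup p Q → ∀ φ : Q ≃* R,
      (W Q).map φ.toMonoidHom = W R) {G : Type u} [Group G] (Q : Subgroup G) :
    (PFun.ofType W hW1 hW2).W Q = (W ↥Q).map Q.subtype := rfl

end Cfsg.Agent.Lib.H26.ZJ
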