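import Mathlib
import Cfsg.Agent.S3838
import Cfsg.Agent.Lib.H25.Basic

set_option autoImplicit false
set_option linter.unusedSectionVars false
set_option linter.unusedVariables false

/-!
A group with self-normalizing Sylow `p`-subgroup `P`, `C_G(O_p(G)) ≤ O_p(G)` and a normal subgroup
`Q` with `P' ≤ Q ≤ Φ(P)` is a `p`-group (helper26; uses helper19's S3838).
-/

namespace Cfsg.Agent.Lib.H26

open Cfsg Cfsg.Agent.Lib.H25

theorem sylow_eq_top_of_frattini_normal {G : Type*} [Group G] [Finite G] {p : ℕ} [Fact p.Prime]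
    (P : Sylow p G)
    (hC : Subgroup.centralizer ((pCore p G : Subgroup G) : Set G) ≤ pCore p G)
    (hNP : Subgroup.normalizer ((P : Subgroup G) : Set G) = P)
    (Q : Subgroup G) (hQn : Q.Normal)
    (h1 : (commutator ↥(P : Subgroup G)).map (P : Subgroup G).subtype ≤ Q)
    (h2 : Q ≤ (frattini ↥(P : Subgroup G)).map (P : Subgroup G).subtype) :
    (P : Subgroup G) = ⊤ := by
  have hp : p.Prime := Fact.out
  -- `N_G(P) = P` has a normal `p`-complement
  have hN : HasNormalPComplement p ↥(Subgroup.normalizer ((P : Subgroup G) : Set G)) := by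
    have hpg : IsPGroup p ↥(Subgroup.normalizer ((P : Subgroup G) : Set G)) := by
      rw [hNP]; exact P.isPGroup'
    have htop : IsPGroup p (⊤ : Subgroup ↥(Subgroup.normalizer ((P : Subgroup G) : Set G))) :=
      hpg.to_subgroup _
    have hidx : ¬ p ∣ (⊤ : Subgroup ↥(Subgroup.normalizer ((P : Subgroup G) : Set G))).index := by
      rw [Subgroup.index_top]
      exact hp.one_lt.ne' ∘ Nat.dvd_one.1
    refine ⟨htop.toSylow hidx, ⊥, inferInstance, ?_⟩
    rw [IsPGroup.toSylow_coe]
    exact Subgroup.isComplement'_bot_top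
  have res := Cfsg.Agent.S3838.result P hN Q h1 h2
  have hM : Subgroup.normalizer (Q : Set G) = ⊤ := Subgroup.normalizer_eq_top_iff.2 hQn
  obtain ⟨P₁, K, hKn, hKc⟩ := res
  -- `K` has order prime to `p`
  have hKcop : (Nat.card K).Coprime p := by
    have h3 : (P₁ : Subgroup ↥(Subgroup.normalizer (Q : Set G))).index = Nat.card K := hKc.index_eq_card
    have h4 : ¬ p ∣ (P₁ : Subgroup ↥(Subgroup.normalizer (Q : Set G))).index := P₁.not_dvd_index
    rw [h3] at h4
    exact ((Nat.Prime.coprime_iff_not_dvd hp).2 h4).symm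
  -- the image of `K` in `G`
  obtain ⟨K', hK'⟩ : ∃ K' : Subgroup G, K' = K.map (Subgroup.normalizer (Q : Set G)).subtype :=
    ⟨_, rfl⟩
  have hK'card : Nat.card K' = Nat.card K := by
    rw [hK']
    exact Subgroup.card_map_of_injective (Subgroup.subtype_injective _)
  have hK'n : K'.Normal := by
    constructor
    intro n hn g
    rw [hK'] at hn ⊢
    obtain ⟨k, hk, rfl⟩ := hn
    have hg : g ∈ Subgroup.normalizer (Q : Set G) := by rw [hM]; trivial
    exact ⟨⟨g, hg⟩ * k * ⟨g, hg⟩⁻¹, hKn.conj_mem k hk ⟨g, hg⟩, rfl⟩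
  have hOn : (pCore p G).Normal := Subgroup.sSup_normal _ (fun _ h => h.1)
  have hOp : IsPGroup p (pCore p G) := pCore_isPGroup p G
  have hdis : Disjoint K' (pCore p G) := by
    rw [disjoint_iff]
    apply Subgroup.inf_eq_bot_of_coprime
    obtain ⟨k, hk⟩ := hOp.exists_card_eq
    rw [hk, hK'card]
    exact Nat.Coprime.pow_right k hKcop
  have hK'C : K' ≤ Subgroup.centralizer ((pCore p G : Subgroup G) : Set G) := by
    intro k hk
    rw [Subgroup.mem_centralizer_iff]
    intro x hx
    exact (Subgroup.commute_of_normal_of_disjoint K' (pCore p G) hK'n hOn hdis k x hk hx).eq.symm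
  have hK'p : IsPGroup p K' := hOp.to_le (hK'C.trans hC)
  have hK'bot : Nat.card K' = 1 := by
    obtain ⟨j, hj⟩ := hK'p.exists_card_eq
    rcases Nat.eq_zero_or_pos j with rfl | hjpos
    · rw [hj, pow_zero]
    · exfalso
      have : p ∣ Nat.card K := by
        rw [← hK'card, hj]
        exact dvd_pow_self p hjpos.ne'
      exact (Nat.Prime.coprime_iff_not_dvd hp).1 hKcop.symm this
  have hKbot : Nat.card K = 1 := hK'card ▸ hK'bot
  -- hence the normalizer of `Q`, that is `G`, is a `p`-group
  have hMp : IsPGroup p ↥(Subgroup.normalizer (Q : Set G)) := by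
    have h5 := hKc.card_mul
    rw [hKbot, one_mul] at h5
    have h6 : (P₁ : Subgroup ↥(Subgroup.normalizer (Q : Set G))) = ⊤ := (Subgroup.card_eq_iff_eq_top _).1 h5
    have := P₁.isPGroup'
    rw [h6] at this
    exact IsPGroup.of_equiv this Subgroup.topEquiv
  have hGp : IsPGroup p G := by
    have : IsPGroup p (⊤ : Subgroup G) := hM ▸ hMp
    exact IsPGroup.of_equiv this Subgroup.topEquiv
  exact (P.is_maximal' (hGp.to_subgroup ⊤) le_top).symm

end Cfsg.Agent.Lib.H26
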