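import Mathlib
import Cfsg.Agent.Lib.H26.FrattiniLocal
import Cfsg.Agent.Lib.H26.ModelStruct
import Cfsg.Agent.Lib.H26.FusionInner
import Cfsg.Agent.Lib.H26.EssentialOmit
import Cfsg.Agent.Lib.H25.NormalizerSystem
import Cfsg.Agent.Lib.H25.Alperin
import Cfsg.Agent.S5080
import Cfsg.Agent.S5096
import Cfsg.Agent.S5090
import Cfsg.Agent.S5126

set_option autoImplicit false
set_option linter.unusedSectionVars false
set_option linter.unusedVariables false

/-!
A saturated fusion system `E` over `S` with a normal subgroup `Q`, `S' ≤ Q ≤ Φ(S)`, and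
`Aut_E(S) = Inn(S)` is the inner system (helper26).  Proof: Alperin + models + S3838.
-/

namespace Cfsg.Agent.Lib.H26

open Cfsg Cfsg.FusionSystem Cfsg.Agent.Lib.H25 Cfsg.Agent.Lib.H26.Model

open scoped commutatorElement

universe u

variable {Ω : Type u} [Group Ω] {S : Subgroup Ω}

theorem commutator_map_eq_of_eq {T : Subgroup Ω} (h : T = S) :
    (commutator T).map T.subtype = (commutator S).map S.subtype := by
  subst h; rfl

theorem frattini_map_eq_of_eq {T : Subgroup Ω} (h : T = S) :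
    (frattini T).map T.subtype = (frattini S).map S.subtype := by
  subst h; rfl

/-- A map of the system whose source is all of `S` is conjugation by an element of `S`, when
`Aut_E(S)` is inner. -/
theorem hom_top_inner [Finite S] {E : FusionSystem S} (hA : E.autGroup S ≤ autInducedBy S S)
    {T : Subgroup Ω} (hT : T = S) {φ : T →* Ω} (hφ : φ ∈ E.Hom T) :
    ∃ s ∈ S, ∀ x : T, φ x = s * (x : Ω) * s⁻¹ := by
  subst hT
  have h1 := isIso_of_mem E hφ
  have hle : φ.range ≤ T := h1.le_right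
  have hcard : Nat.card T = Nat.card φ.range := h1.card_eq
  have hr : φ.range = T := by
    have hfin : Finite T := inferInstance
    have h2 : (φ.range.subgroupOf T) = ⊤ := by
      apply (Subgroup.card_eq_iff_eq_top _).1
      rw [hcard]
      exact Nat.card_congr (Subgroup.subgroupOfEquivOfLe hle).toEquiv
    apply le_antisymm hle
    intro x hx
    have : (⟨x, hx⟩ : T) ∈ φ.range.subgroupOf T := by rw [h2]; trivial
    exact Subgroup.mem_subgroupOf.1 this
  rw [hr] at h1
  obtain ⟨α, hα, hαf⟩ := exists_mem_autGroup_of_isIso E h1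
  obtain ⟨s, hs, hαs⟩ := (mem_autInducedBy_iff T T α).1 (hA hα)
  refine ⟨s, hs, fun x => ?_⟩
  rw [← hαs x, hαf x, ext1_apply]

section groupside

variable {G : Type*} [Group G]

/-- Transport of the commutator and Frattini conditions to a Sylow subgroup equal to the image. -/
theorem sylow_conditions_of_range {p : ℕ} [Fact p.Prime] {T : Type*} [Group T] {ι : T →* G}
    (hinj : Function.Injective ι) (P₀ : Sylow p G) (hP₀ : (P₀ : Subgroup G) = ι.range)
    (Q₀ : Subgroup T) (h1 : commutator T ≤ Q₀) (h2 : Q₀ ≤ frattini T) :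
    (commutator ↥(P₀ : Subgroup G)).map (P₀ : Subgroup G).subtype ≤ Q₀.map ι ∧
      Q₀.map ι ≤ (frattini ↥(P₀ : Subgroup G)).map (P₀ : Subgroup G).subtype := by
  obtain ⟨e, he⟩ : ∃ e : T ≃* ↥(P₀ : Subgroup G), ∀ x, ((e x : ↥(P₀ : Subgroup G)) : G) = ι x := by
    refine ⟨(MonoidHom.ofInjective hinj).trans (MulEquiv.subgroupCongr hP₀.symm), fun x => ?_⟩
    rfl
  have hfr := Cfsg.Agent.S3838.frattini_map_equiv e
  have hcomm : (commutator T).map e.toMonoidHom = commutator ↥(P₀ : Subgroup G) := by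
    rw [commutator_def, commutator_def, Subgroup.map_commutator,
      Subgroup.map_top_of_surjective _ e.surjective]
  constructor
  · rintro _ ⟨y, hy, rfl⟩
    rw [← hcomm] at hy
    obtain ⟨t, ht, rfl⟩ := hy
    exact ⟨t, h1 ht, (he t).symm⟩
  · rintro _ ⟨q, hq, rfl⟩
    refine ⟨e q, ?_, he q⟩
    rw [← hfr]
    exact ⟨q, h2 hq, rfl⟩

end groupside

section main

variable [Finite S] {p : ℕ} [Fact p.Prime]

/-- Key step: essential subgroups have only inner automorphisms. -/
theorem autGroup_le_of_essential_of_frattini (hS : IsPGroup p S) {E : FusionSystem S}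
    (hE : E.IsSaturated p) {Q : Subgroup Ω} (hQn : E.IsNormal Q)
    (h1 : (commutator S).map S.subtype ≤ Q) (h2 : Q ≤ (frattini S).map S.subtype)
    (hA : E.autGroup S ≤ autInducedBy S S)
    {R : Subgroup Ω} (hR : E.IsEssential p R) : E.autGroup R ≤ autInducedBy S R := by
  have hRc := hR.1
  have hRfn := hR.2.1
  have hRr := Cfsg.Agent.S5080.result p hS E hE R hR
  have hRS := hRc.1
  have hQR : Q ≤ R := isNormal_le_of_centric_radical hS hQn hRc hRr
  have hconj : ∀ s ∈ S, ∀ r ∈ R, s * r * s⁻¹ ∈ R := by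
    intro s hs r hr
    have hc : s * r * s⁻¹ * r⁻¹ ∈ (commutator S).map S.subtype := by
      refine ⟨⁅(⟨s, hs⟩ : S), ⟨r, hRS hr⟩⁆, ?_, rfl⟩
      rw [commutator_def]
      exact Subgroup.commutator_mem_commutator (Subgroup.mem_top _) (Subgroup.mem_top _)
    have : s * r * s⁻¹ = (s * r * s⁻¹ * r⁻¹) * r := by group
    rw [this]
    exact R.mul_mem (hQR (h1 hc)) hr
  have hRnorm : S ≤ Subgroup.normalizer (R : Set Ω) := by
    intro s hs
    apply mem_normalizer_of_conj_mem (hconj s hs)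
    intro y hy
    have := hconj s⁻¹ (S.inv_mem hs) y hy
    rwa [inv_inv] at this
  have hT : normalizerIn S R = S := inf_eq_left.2 hRnorm
  obtain ⟨ER, hER⟩ := Cfsg.Agent.S5096.result E R hRS
  have hfinT : Finite ↥(normalizerIn S R) := finite_of_le S inf_le_left
  have hTp : IsPGroup p ↥(normalizerIn S R) := hS.to_le inf_le_left
  have hcon : ER.IsConstrained p := normalizerSystem_isConstrained hS hE hRfn hRc ER hER
  obtain ⟨G, hG, ι, hM⟩ := Cfsg.Agent.S5090.result p hTp ER hcon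
  have hfinG : Finite G := hM.1
  have hreal := hM.2.1
  have hinj := hreal.1
  obtain ⟨P₀, hP₀⟩ := hM.2.2.1
  have hCU := hM.2.2.2
  have hUT := model_pCore_le_range hM
  have hRT : R ≤ normalizerIn S R := le_normalizerIn hRS
  have hTT : normalizerIn S R ≤ normalizerIn S R := le_rfl
  have hERE : ∀ (P : Subgroup Ω) (φ : P →* Ω), φ ∈ ER.Hom P → φ ∈ E.Hom P := by
    intro P φ hφ
    rw [hER P] at hφ
    exact hφ.1
  -- the Sylow subgroup is self-normalizing
  have hNP : Subgroup.normalizer ((P₀ : Subgroup G) : Set G) = P₀ := by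
    apply le_antisymm _ Subgroup.le_normalizer
    intro g hg
    rw [hP₀] at hg ⊢
    have hmem : ∀ x : ↥(normalizerIn S R), g * ι ⟨x, hTT x.2⟩ * g⁻¹ ∈ ι.range := by
      intro x
      exact (Subgroup.mem_normalizer_iff.1 hg (ι x)).1 ⟨x, rfl⟩
    obtain ⟨φ, hφ⟩ := exists_conjMap hinj g hTT hmem
    have hφS : ∀ x, φ x ∈ normalizerIn S R := fun x => (hφ x).1
    have hφι : ∀ x, ι ⟨φ x, hφS x⟩ = g * ι ⟨x, hTT x.2⟩ * g⁻¹ := fun x => (hφ x).2
    have hφER : φ ∈ ER.Hom (normalizerIn S R) := (hreal.2 _ hTT φ hφS).2 ⟨g, hφι⟩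
    obtain ⟨s, hs, hφs⟩ := hom_top_inner hA hT (hERE _ _ hφER)
    have hsT : s ∈ normalizerIn S R := hT.symm ▸ hs
    have hcent : (ι ⟨s, hsT⟩)⁻¹ * g ∈ Subgroup.centralizer ((pCore p G : Subgroup G) : Set G) := by
      rw [Subgroup.mem_centralizer_iff]
      intro y hy
      obtain ⟨x, rfl⟩ := hUT hy
      have h3 := hφι x
      have h4 : (⟨φ x, hφS x⟩ : ↥(normalizerIn S R)) = ⟨s, hsT⟩ * x * ⟨s, hsT⟩⁻¹ :=
        Subtype.ext (hφs x)
      rw [h4, map_mul, map_mul, map_inv] at h3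
      have h5 : (⟨(x : Ω), hTT x.2⟩ : ↥(normalizerIn S R)) = x := rfl
      rw [h5] at h3
      calc ι x * ((ι ⟨s, hsT⟩)⁻¹ * g)
          = (ι ⟨s, hsT⟩)⁻¹ * (ι ⟨s, hsT⟩ * ι x * (ι ⟨s, hsT⟩)⁻¹) * g := by group
        _ = (ι ⟨s, hsT⟩)⁻¹ * (g * ι x * g⁻¹) * g := by rw [h3]
        _ = (ι ⟨s, hsT⟩)⁻¹ * g * ι x := by group
    obtain ⟨t, ht⟩ := hUT (hCU hcent)
    refine ⟨⟨s, hsT⟩ * t, ?_⟩
    rw [map_mul, ht]
    group
  -- the image of `Q` is normal
  have hRn' : ((R.subgroupOf (normalizerIn S R)).map ι).Normal :=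
    model_map_normal hM (normalizerSystem_isNormal hRS hER)
  have hQsc := isNormal_stronglyClosed hQn
  have hQ'n : ((Q.subgroupOf (normalizerIn S R)).map ι).Normal := by
    constructor
    rintro _ ⟨q, hq, rfl⟩ g
    have hqQ : (q : Ω) ∈ Q := Subgroup.mem_subgroupOf.1 hq
    have hmem : ∀ x : R, g * ι ⟨x, hRT x.2⟩ * g⁻¹ ∈ ι.range := by
      intro x
      have : g * ι ⟨x, hRT x.2⟩ * g⁻¹ ∈ (R.subgroupOf (normalizerIn S R)).map ι :=
        hRn'.conj_mem _ ⟨⟨x, hRT x.2⟩, Subgroup.mem_subgroupOf.2 x.2, rfl⟩ g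
      obtain ⟨y, -, hy⟩ := this
      exact ⟨y, hy⟩
    obtain ⟨φ, hφ⟩ := exists_conjMap hinj g hRT hmem
    have hφS : ∀ x, φ x ∈ normalizerIn S R := fun x => (hφ x).1
    have hφι : ∀ x, ι ⟨φ x, hφS x⟩ = g * ι ⟨x, hRT x.2⟩ * g⁻¹ := fun x => (hφ x).2
    have hφER : φ ∈ ER.Hom R := (hreal.2 _ hRT φ hφS).2 ⟨g, hφι⟩
    have hφE : φ ∈ E.Hom R := hERE _ _ hφER
    have hres := restrict_mem E hφE hQR
    have hφq : φ ⟨q, hQR hqQ⟩ ∈ Q := hQsc.2 Q le_rfl _ hres ⟨q, hqQ⟩
    refine ⟨⟨φ ⟨q, hQR hqQ⟩, hφS _⟩, Subgroup.mem_subgroupOf.2 hφq, ?_⟩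
    rw [hφι]
  -- commutator and Frattini conditions
  have hc1 : commutator ↥(normalizerIn S R) ≤ Q.subgroupOf (normalizerIn S R) := by
    intro x hx
    rw [Subgroup.mem_subgroupOf]
    apply h1
    rw [← commutator_map_eq_of_eq hT]
    exact ⟨x, hx, rfl⟩
  have hc2 : Q.subgroupOf (normalizerIn S R) ≤ frattini ↥(normalizerIn S R) := by
    intro x hx
    have : (x : Ω) ∈ (frattini ↥(normalizerIn S R)).map (normalizerIn S R).subtype := by
      rw [frattini_map_eq_of_eq hT]
      exact h2 (Subgroup.mem_subgroupOf.1 hx)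
    obtain ⟨y, hy, hyx⟩ := this
    have : y = x := Subtype.ext hyx
    rwa [← this]
  obtain ⟨hs1, hs2⟩ := sylow_conditions_of_range hinj P₀ hP₀ _ hc1 hc2
  have htop : (P₀ : Subgroup G) = ⊤ :=
    sylow_eq_top_of_frattini_normal P₀ hCU hNP _ hQ'n hs1 hs2
  -- conclusion
  intro α hα
  obtain ⟨g, hg⟩ := Cfsg.Agent.S5126.exists_realize hRS hER hreal hα
  have hgr : g ∈ ι.range := by rw [← hP₀, htop]; trivial
  obtain ⟨t, rfl⟩ := hgr
  rw [mem_autInducedBy_iff]
  refine ⟨t, t.2.1, fun x => ?_⟩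
  have h3 := hg x
  rw [← map_inv, ← map_mul, ← map_mul] at h3
  exact congrArg (fun z : ↥(normalizerIn S R) => (z : Ω)) (hinj h3)

/-- A saturated system with `Aut_E(S)` inner and a normal subgroup between `S'` and `Φ(S)` is the
inner system. -/
theorem inner_of_frattini_normal (hS : IsPGroup p S) {E : FusionSystem S}
    (hE : E.IsSaturated p) {Q : Subgroup Ω} (hQn : E.IsNormal Q)
    (h1 : (commutator S).map S.subtype ≤ Q) (h2 : Q ≤ (frattini S).map S.subtype)
    (hA : E.autGroup S ≤ autInducedBy S S) (P : Subgroup Ω) :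
    E.Hom P = (innerFusionSystem S).Hom P := by
  apply Set.Subset.antisymm
  · apply alperin hS E hE (innerFusionSystem S)
    intro P' hP'
    rcases hP' with rfl | hP'
    · rw [inner_autGroup_eq le_rfl]; exact hA
    · rw [inner_autGroup_eq hP'.1.1]
      exact autGroup_le_of_essential_of_frattini hS hE hQn h1 h2 hA hP'
  · rintro φ ⟨hP, g, hg, h⟩
    have : φ = conjHom P g := by
      ext x
      exact h x
    rw [this]
    exact E.conj_mem hP hg

/-- The same statement over a base subgroup that is only propositionally equal to `S`. -/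
theorem inner_of_frattini_normal' (hS : IsPGroup p S) {T : Subgroup Ω} (hT : T = S)
    {E : FusionSystem T} (hE : E.IsSaturated p) {Q : Subgroup Ω} (hQn : E.IsNormal Q)
    (h1 : (commutator S).map S.subtype ≤ Q) (h2 : Q ≤ (frattini S).map S.subtype)
    (hA : E.autGroup S ≤ autInducedBy S S) (P : Subgroup Ω) :
    E.Hom P = (innerFusionSystem T).Hom P := by
  subst hT
  exact inner_of_frattini_normal hS hE hQn h1 h2 hA P

end main

end Cfsg.Agent.Lib.H26
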