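import Mathlib
import Cfsg.Prelude.Def_FusionSystem
import Cfsg.Agent.Lib.H25.Fusion
import Cfsg.Agent.Lib.H25.Hyperfocal
import Cfsg.Agent.Lib.H25.SatEquiv

set_option autoImplicit false
set_option linter.unusedSectionVars false

/-!
Saturated subsystems are contained in every subsystem of `p`-power index over a larger subgroup
(helper26).
-/

namespace Cfsg.Agent.Lib.H26

open Cfsg Cfsg.FusionSystem Cfsg.Agent.Lib.H25

variable {Ω : Type*} [Group Ω] {S : Subgroup Ω}

/-- `Aut_E(P) ≤ Aut_F(P)` for a subsystem `E` of `F`. -/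
theorem autGroup_le_of_isSubsystemOf {T : Subgroup Ω} {E : FusionSystem T} {F : FusionSystem S}
    (hEF : E.IsSubsystemOf F) {P : Subgroup Ω} (hPT : P ≤ T) (hPS : P ≤ S) :
    E.autGroup P ≤ F.autGroup P := by
  intro β hβ
  rw [mem_autGroup_iff _ hPS]
  exact hEF P ((mem_autGroup_iff E hPT β).1 hβ)

/-- A saturated subsystem `E` over `T` of `F` is contained in every fusion system `F₀` over
`U ≥ T` whose automorphism groups contain `O^p(Aut_F(P))` for all `P ≤ U`. -/
theorem isSubsystemOf_of_pResidual_le [Finite S] {p : ℕ} [Fact p.Prime] (hS : IsPGroup p S)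
    {F : FusionSystem S} {T U : Subgroup Ω} (hTS : T ≤ S) (E : FusionSystem T)
    (hEsat : E.IsSaturated p) (hEF : E.IsSubsystemOf F) (F₀ : FusionSystem U) (hTU : T ≤ U)
    (hidx : ∀ P : Subgroup Ω, P ≤ U →
      (pResidual p (F.autGroup P)).map (F.autGroup P).subtype ≤ F₀.autGroup P) :
    E.IsSubsystemOf F₀ := by
  have hTp : IsPGroup p T := hS.to_le hTS
  have hfinT : Finite T := finite_of_le S hTS
  have key := alperin_pred hTp E hEsat (fun P φ => φ ∈ F₀.Hom P) ?_ ?_ ?_ ?_
  · intro P φ hφ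
    exact key P φ hφ
  · intro P g hP hg
    exact F₀.conj_mem (hP.trans hTU) (hTU hg)
  · intro P Q φ ψ h _ _ hφ hψ
    exact F₀.comp_mem hφ hψ h
  · intro P φ ψ _ hψE hψφ hφ
    obtain ⟨ψ', hψ', hψ'φ⟩ := F₀.inv_mem hφ
    have : ψ = ψ' := by
      ext ⟨y, x, rfl⟩
      rw [hψφ x, hψ'φ x]
    rw [this]
    exact hψ'
  · intro T' hT' α hα
    have hT'T : T' ≤ T := le_of_eq_or_essential hT'
    have hfn : E.IsFullyNormalized T' := isFullyNormalized_of_eq_or_essential hT'
    have hfa : E.IsFullyAutomized p T' := (fullyNormalized_props hTp hEsat hfn).2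
    obtain ⟨g, hg, u, hu, hαu⟩ := exists_conj_mul_pResidual hfa ⟨α, hα⟩
    have hle : E.autGroup T' ≤ F.autGroup T' :=
      autGroup_le_of_isSubsystemOf hEF hT'T (hT'T.trans hTS)
    have hιu : Subgroup.inclusion hle u ∈ pResidual p (F.autGroup T') :=
      map_pResidual_le_hom (Subgroup.inclusion hle) ⟨u, hu, rfl⟩
    have hu0 : (u : MulAut T') ∈ F₀.autGroup T' :=
      hidx T' (hT'T.trans hTU) ⟨Subgroup.inclusion hle u, hιu, rfl⟩
    have hu1 : T'.subtype.comp (u : MulAut T').toMonoidHom ∈ F₀.Hom T' :=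
      (mem_autGroup_iff F₀ (hT'T.trans hTU) _).1 hu0
    have hc : conjHom T' g ∈ F₀.Hom T' := F₀.conj_mem (hT'T.trans hTU) (hTU hg.1)
    have h : ∀ x : T', (T'.subtype.comp (u : MulAut T').toMonoidHom) x ∈ T' :=
      fun x => ((u : MulAut T') x).2
    have hcomp := F₀.comp_mem hu1 hc h
    have e : T'.subtype.comp α.toMonoidHom =
        (conjHom T' g).comp ((T'.subtype.comp (u : MulAut T').toMonoidHom).codRestrict T' h) := by
      ext x
      show ((α x : T') : Ω) = g * (((u : MulAut T') x : T') : Ω) * g⁻¹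
      exact hαu x
    rw [e]
    exact hcomp

end Cfsg.Agent.Lib.H26
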