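import Mathlib
import Cfsg.Prelude.Def_FusionSystem
import Cfsg.Agent.Lib.H25.Fusion
import Cfsg.Agent.Lib.H25.Hyperfocal
import Cfsg.Agent.Lib.H25.SatEquiv
import Cfsg.Agent.Lib.H10.PResidual
import Cfsg.Agent.Lib.H26.GroupFusion
import Cfsg.Agent.Lib.H26.GroupSaturated
import Cfsg.Agent.Lib.H26.SubgroupFusion
import Cfsg.Agent.Lib.H26.NormalSubgroupFusion

set_option autoImplicit false
set_option linter.unusedSectionVars false

/-!
The hyperfocal subgroup theorem: `hyp(F_S(G)) = S ∩ O^p(G)` (helper26).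
-/

namespace Cfsg.Agent.Lib.H26

open Cfsg Cfsg.FusionSystem Cfsg.Agent.Lib.H25
open scoped commutatorElement

variable {G : Type*} [Group G]

/-- An automorphism of `P` of order prime to `p` induced by conjugation by some element of the
finite group `G` is induced by an element of `O^p(G)`. -/
theorem exists_mem_pResidual_induces [Finite G] {p : ℕ} [Fact p.Prime] {P : Subgroup G}
    {α : MulAut P} (hα : (orderOf α).Coprime p) {g : G}
    (hg : ∀ x : P, ((α x : P) : G) = g * x * g⁻¹) :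
    ∃ k ∈ pResidual p G, ∀ x : P, ((α x : P) : G) = k * x * k⁻¹ := by
  have hpow : ∀ n : ℕ, ∀ x : P, (((α ^ n) x : P) : G) = g ^ n * x * (g ^ n)⁻¹ := by
    intro n
    induction n with
    | zero => intro x; simp
    | succ n ih =>
      intro x
      rw [pow_succ', MulAut.mul_apply, hg, ih, pow_succ']
      group
  obtain ⟨k, hk⟩ := Cfsg.Agent.Lib.H10.exists_pow_mem_pResidual p g
  have hcop : (p ^ k).Coprime (orderOf α) := (Nat.Coprime.pow_right k hα).symm
  obtain ⟨m, hm⟩ := exists_pow_eq_self_of_coprime hcop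
  refine ⟨(g ^ p ^ k) ^ m, Subgroup.pow_mem _ hk m, fun x => ?_⟩
  rw [← pow_mul, ← hpow, pow_mul, hm]

/-- `hyp(F_S(G)) ≤ S ∩ O^p(G)`. -/
theorem hyperfocal_le_pResidual [Finite G] {p : ℕ} [Fact p.Prime] (S : Subgroup G) :
    (groupFusionSystem S).hyperfocalSubgroup p ≤ S ⊓ pResidual p G := by
  refine le_inf (hyperfocal_le _ p) ?_
  have hKn : (pResidual p G).Normal := Cfsg.Agent.Lib.H10.pResidual_normal p G
  unfold hyperfocalSubgroup
  rw [Subgroup.closure_le]
  rintro _ ⟨P, α, x, hP, hα, rfl⟩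
  -- the subgroup of automorphisms induced by `O^p(G)`
  let B : Subgroup ((groupFusionSystem S).autGroup P) :=
    { carrier := {β | ∃ k ∈ pResidual p G, ∀ x : P, (((β : MulAut P) x : P) : G) = k * x * k⁻¹}
      one_mem' := ⟨1, Subgroup.one_mem _, fun x => by simp⟩
      mul_mem' := by
        rintro β γ ⟨k, hk, hβ⟩ ⟨l, hl, hγ⟩
        refine ⟨k * l, Subgroup.mul_mem _ hk hl, fun x => ?_⟩
        show ((((β : MulAut P) ((γ : MulAut P) x)) : P) : G) = _
        rw [hβ, hγ]
        group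
      inv_mem' := by
        rintro β ⟨k, hk, hβ⟩
        refine ⟨k⁻¹, Subgroup.inv_mem _ hk, fun x => ?_⟩
        have h := hβ ((β : MulAut P)⁻¹ x)
        have h2 : (β : MulAut P) ((β : MulAut P)⁻¹ x) = x := by simp
        rw [h2] at h
        show ((((β : MulAut P)⁻¹ x) : P) : G) = _
        rw [h]
        group }
  have hle : pResidual p ((groupFusionSystem S).autGroup P) ≤ B := by
    unfold pResidual
    rw [Subgroup.closure_le]
    intro β hβ
    have hβ' : (orderOf (β : MulAut P)).Coprime p := by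
      rw [Subgroup.orderOf_coe]
      exact hβ
    have hmem := (mem_autGroup_iff _ hP (β : MulAut P)).1 β.2
    obtain ⟨-, -, g, hg⟩ := hmem
    exact exists_mem_pResidual_induces hβ' hg
  obtain ⟨k, hk, hαk⟩ := hle hα
  show (x : G)⁻¹ * (((α : MulAut P) x : P) : G) ∈ pResidual p G
  rw [hαk]
  have h1 : (x : G)⁻¹ * k * ((x : G)⁻¹)⁻¹ ∈ pResidual p G := hKn.conj_mem k hk _
  have e : (x : G)⁻¹ * (k * x * k⁻¹) = ((x : G)⁻¹ * k * ((x : G)⁻¹)⁻¹) * k⁻¹ := by group
  rw [e]
  exact Subgroup.mul_mem _ h1 (Subgroup.inv_mem _ hk)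

/-- A `p`-subgroup of `O^p(G)` lies in the commutator subgroup of `O^p(G)`. -/
theorem pgroup_le_commutator_pResidual [Finite G] {p : ℕ} [Fact p.Prime] {T : Subgroup G}
    (hT : IsPGroup p T) :
    T.subgroupOf (pResidual p G) ≤ commutator ↥(pResidual p G) := by
  obtain ⟨K, hKdef⟩ : ∃ K : Subgroup G, K = pResidual p G := ⟨_, rfl⟩
  rw [← hKdef]
  let f : K →* Abelianization K := Abelianization.of
  let D : Subgroup (Abelianization K) :=
    { carrier := {a | (orderOf a).Coprime p}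
      one_mem' := by
        show (orderOf (1 : Abelianization K)).Coprime p
        rw [orderOf_one]
        exact Nat.coprime_one_left p
      mul_mem' := by
        intro a b ha hb
        have h1 : orderOf (a * b) ∣ (orderOf a).lcm (orderOf b) :=
          (Commute.all a b).orderOf_mul_dvd_lcm
        have h2 : ((orderOf a) * (orderOf b)).Coprime p := Nat.Coprime.mul_left ha hb
        exact Nat.Coprime.coprime_dvd_left (h1.trans (Nat.lcm_dvd_mul _ _)) h2
      inv_mem' := by
        intro a ha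
        show (orderOf a⁻¹).Coprime p
        rw [orderOf_inv]
        exact ha }
  have hall : ∀ k : K, f k ∈ D := by
    have hle : K ≤ (D.comap f).map K.subtype := by
      have hK' : K = Subgroup.closure {g : G | Nat.Coprime (orderOf g) p} := hKdef
      refine le_trans (le_of_eq hK') ?_
      rw [Subgroup.closure_le]
      intro g hg
      have hgK : g ∈ K := by
        rw [hKdef]
        exact Subgroup.subset_closure hg
      refine ⟨⟨g, hgK⟩, ?_, rfl⟩
      show (orderOf (f ⟨g, hgK⟩)).Coprime p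
      have h1 : orderOf (f ⟨g, hgK⟩) ∣ orderOf (⟨g, hgK⟩ : K) := orderOf_map_dvd f _
      have h2 : orderOf (⟨g, hgK⟩ : K) = orderOf g := (Subgroup.orderOf_coe (⟨g, hgK⟩ : K)).symm
      rw [h2] at h1
      exact Nat.Coprime.coprime_dvd_left h1 hg
    intro k
    obtain ⟨k', hk', hkk'⟩ := hle k.2
    have : k' = k := Subtype.ext hkk'
    rw [← this]
    exact hk'
  intro t ht
  rw [Subgroup.mem_subgroupOf] at ht
  have h1 : (orderOf (f t)).Coprime p := hall t
  obtain ⟨j, hj⟩ := hT ⟨(t : G), ht⟩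
  have h2 : (t : G) ^ p ^ j = 1 := by
    have := congrArg Subtype.val hj
    simpa using this
  have h3 : orderOf (f t) ∣ p ^ j := by
    have h4 : orderOf (f t) ∣ orderOf t := orderOf_map_dvd f t
    have h5 : orderOf t = orderOf (t : G) := (Subgroup.orderOf_coe t).symm
    rw [h5] at h4
    exact h4.trans (orderOf_dvd_of_pow_eq_one h2)
  have h4 : orderOf (f t) = 1 := Nat.Coprime.eq_one_of_dvd (Nat.Coprime.pow_right j h1) h3
  have h5 : f t = 1 := orderOf_eq_one_iff.1 h4
  have h6 : t ∈ f.ker := h5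
  rwa [Abelianization.ker_of] at h6

/-- A finite `p`-group `T` with `T ≤ H ⊔ ⁅T, T⁆` for a subgroup `H` normalized by `T` equals `H`. -/
theorem le_of_le_sup_commutator {p : ℕ} [Fact p.Prime] {T H : Subgroup G} [Finite T]
    (hT : IsPGroup p T) (hHT : H ≤ T) (hN : T ≤ Subgroup.normalizer (H : Set G))
    (hle : T ≤ H ⊔ ⁅T, T⁆) : T ≤ H := by
  have hn : (H.subgroupOf T).Normal := (Subgroup.normal_subgroupOf_iff_le_normalizer hHT).2 hN
  have hnil : Group.IsNilpotent ↥T := hT.isNilpotent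
  have hcomm : ⁅T, T⁆ ≤ T := Subgroup.commutator_le_self T
  have h1 : (⁅T, T⁆).subgroupOf T = commutator ↥T := by
    rw [← Subgroup.map_subtype_commutator T]
    exact Subgroup.comap_map_eq_self_of_injective T.subtype_injective _
  have h2 : (⊤ : Subgroup ↥T) = H.subgroupOf T ⊔ commutator ↥T := by
    rw [← h1, ← Subgroup.subgroupOf_sup hHT hcomm]
    exact (Subgroup.subgroupOf_eq_top.2 hle).symm
  have h3 : commutator (↥T ⧸ H.subgroupOf T) = ⊤ := by
    have hs : Function.Surjective (QuotientGroup.mk' (H.subgroupOf T)) :=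
      QuotientGroup.mk'_surjective _
    have e1 : (⊤ : Subgroup (↥T ⧸ H.subgroupOf T)) =
        (⊤ : Subgroup ↥T).map (QuotientGroup.mk' (H.subgroupOf T)) :=
      (Subgroup.map_top_of_surjective _ hs).symm
    have e2 : commutator (↥T ⧸ H.subgroupOf T) =
        (commutator ↥T).map (QuotientGroup.mk' (H.subgroupOf T)) := by
      unfold commutator
      rw [Subgroup.map_commutator, Subgroup.map_top_of_surjective _ hs]
    rw [e2, e1]
    conv_rhs => rw [h2]
    rw [Subgroup.map_sup, QuotientGroup.map_mk'_self, bot_sup_eq]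
  by_cases hsub : Nontrivial (↥T ⧸ H.subgroupOf T)
  · have := Group.IsSolvable.commutator_lt_top_of_nontrivial (↥T ⧸ H.subgroupOf T)
    rw [h3] at this
    exact absurd this (lt_irrefl _)
  · rw [not_nontrivial_iff_subsingleton] at hsub
    have := QuotientGroup.subgroup_eq_top_of_subsingleton (H.subgroupOf T) hsub
    exact Subgroup.subgroupOf_eq_top.1 this

/-- The focal subgroup theorem in the form used here: if a Sylow `p`-subgroup `T` of `K` lies in the
commutator subgroup of `K`, then `T` is generated by the quotients `x⁻¹ x^g` with `x, x^g ∈ T`, `g ∈ K`. -/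
theorem le_of_focal [Finite G] {p : ℕ} [Fact p.Prime] {K T : Subgroup G} (hTK : T ≤ K)
    (hT : IsSylowIn p T K) (hcomm : T.subgroupOf K ≤ commutator ↥K) {M : Subgroup G}
    (hM : ∀ x ∈ T, ∀ g ∈ K, g * x * g⁻¹ ∈ T → x⁻¹ * (g * x * g⁻¹) ∈ M) : T ≤ M := by
  obtain ⟨R, hR⟩ := hT
  have hfoc := Subgroup.commutator_inf_eq_focalSubgroup R
  have h1 : (R : Subgroup K) = (R : Subgroup K).focalSubgroup := by
    rw [← hfoc]
    exact (inf_of_le_right (hR ▸ hcomm)).symm
  have key : ∀ k : K, k ∈ (R : Subgroup K).focalSubgroup → (k : G) ∈ M := by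
    intro k hk
    unfold Subgroup.focalSubgroup at hk
    induction hk using Subgroup.closure_induction with
    | mem z hz =>
      obtain ⟨hzR, x, hxR, u, rfl⟩ := hz
      rw [hR, Subgroup.mem_subgroupOf] at hzR hxR
      have hx' : ((x : G))⁻¹ ∈ T := T.inv_mem hxR
      have e1 : (u : G) * (x : G)⁻¹ * (u : G)⁻¹ = (x : G)⁻¹ * ((⁅x, u⁆ : K) : G) := by
        rw [commutatorElement_def]
        push_cast
        group
      have h2 : (u : G) * (x : G)⁻¹ * (u : G)⁻¹ ∈ T := by
        rw [e1]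
        exact T.mul_mem hx' hzR
      have := hM _ hx' _ u.2 h2
      have e2 : ((x : G)⁻¹)⁻¹ * ((u : G) * (x : G)⁻¹ * (u : G)⁻¹) = ((⁅x, u⁆ : K) : G) := by
        rw [commutatorElement_def]
        push_cast
        group
      rw [e2] at this
      exact this
    | one => exact M.one_mem
    | mul a b _ _ iha ihb => simpa using M.mul_mem iha ihb
    | inv a _ iha => simpa using M.inv_mem iha
  intro t ht
  have htR : (⟨t, hTK ht⟩ : K) ∈ (R : Subgroup K) := by
    rw [hR]
    exact Subgroup.mem_subgroupOf.2 ht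
  rw [h1] at htR
  exact key _ htR

/-- `S ∩ O^p(G) ≤ hyp(F_S(G))`. -/
theorem inf_pResidual_le_hyperfocal [Finite G] {p : ℕ} [Fact p.Prime] (S : Sylow p G) :
    (S : Subgroup G) ⊓ pResidual p G ≤
      (groupFusionSystem (S : Subgroup G)).hyperfocalSubgroup p := by
  have hKn : (pResidual p G).Normal := Cfsg.Agent.Lib.H10.pResidual_normal p G
  have hHT0 := hyperfocal_le_pResidual (p := p) (S : Subgroup G)
  have hcomm0 : ∀ {T : Subgroup G}, IsPGroup p T →
      T.subgroupOf (pResidual p G) ≤ commutator ↥(pResidual p G) :=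
    fun hT => pgroup_le_commutator_pResidual hT
  obtain ⟨K, hKdef⟩ : ∃ K : Subgroup G, K = pResidual p G := ⟨_, rfl⟩
  rw [← hKdef] at hKn hHT0 hcomm0 ⊢
  obtain ⟨T, hTdef⟩ : ∃ T : Subgroup G, T = (S : Subgroup G) ⊓ K := ⟨_, rfl⟩
  obtain ⟨F, hFdef⟩ : ∃ F : FusionSystem (S : Subgroup G), F = groupFusionSystem (S : Subgroup G) :=
    ⟨_, rfl⟩
  have hTK : T ≤ K := hTdef ▸ inf_le_right
  have hTS : T ≤ S := hTdef ▸ inf_le_left
  have hTsyl : IsSylowIn p T K := hTdef ▸ sylow_inf_normal_isSylowIn S K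
  have hTp : IsPGroup p T := S.2.to_le hTS
  have hfinT : Finite T := inferInstance
  rw [← hTdef, ← hFdef] at hHT0 ⊢
  obtain ⟨H, hHdef⟩ : ∃ H : Subgroup G, H = F.hyperfocalSubgroup p := ⟨_, rfl⟩
  rw [← hHdef] at hHT0 ⊢
  obtain ⟨E, hEdef⟩ : ∃ E : FusionSystem T, E = fusionSystemOfSubgroup K T hTK := ⟨_, rfl⟩
  have hEsat : E.IsSaturated p := hEdef ▸ fusionSystemOfSubgroup_isSaturated hTK hTsyl
  have hHM : H ≤ H ⊔ ⁅T, T⁆ := le_sup_left
  have hCM : ⁅T, T⁆ ≤ H ⊔ ⁅T, T⁆ := le_sup_right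
  -- (B) Alperin's theorem for the predicate `x⁻¹ φ(x) ∈ H[T,T]`
  have hB : ∀ (P : Subgroup G) (φ : P →* G), φ ∈ E.Hom P →
      ∀ x : P, (x : G)⁻¹ * φ x ∈ H ⊔ ⁅T, T⁆ := by
    refine alperin_pred hTp E hEsat (fun P φ => ∀ x : P, (x : G)⁻¹ * φ x ∈ H ⊔ ⁅T, T⁆)
      ?_ ?_ ?_ ?_
    · intro P g hP hg x
      rw [conjHom_apply]
      have : (x : G)⁻¹ * (g * (x : G) * g⁻¹) = ⁅(x : G)⁻¹, g⁆ := by
        rw [commutatorElement_def]
        group
      rw [this]
      exact hCM (Subgroup.commutator_mem_commutator (T.inv_mem (hP x.2)) hg)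
    · intro P Q φ ψ h _ _ hφ hψ x
      have h1 := hφ x
      have h2 := hψ ⟨φ x, h x⟩
      have e : (x : G)⁻¹ * (ψ.comp (φ.codRestrict Q h)) x =
          ((x : G)⁻¹ * φ x) * ((φ x)⁻¹ * ψ ⟨φ x, h x⟩) := by
        show (x : G)⁻¹ * ψ ⟨φ x, h x⟩ = _
        group
      rw [e]
      exact Subgroup.mul_mem _ h1 h2
    · rintro P φ ψ _ _ hψφ hφ ⟨y, x, rfl⟩
      rw [hψφ x]
      have h1 := Subgroup.inv_mem _ (hφ x)
      have e : ((x : G)⁻¹ * φ x)⁻¹ = (φ x)⁻¹ * (x : G) := by group
      rw [e] at h1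
      exact h1
    · intro T' hT' α hα x
      have hT'T : T' ≤ T := le_of_eq_or_essential hT'
      have hfn : E.IsFullyNormalized T' := isFullyNormalized_of_eq_or_essential hT'
      have hfa : E.IsFullyAutomized p T' := (fullyNormalized_props hTp hEsat hfn).2
      obtain ⟨g, hg, u, hu, hαu⟩ := exists_conj_mul_pResidual hfa ⟨α, hα⟩
      have hle : E.autGroup T' ≤ F.autGroup T' := by
        intro β hβ
        rw [mem_autGroup_iff _ (hT'T.trans hTS)]
        have := (mem_autGroup_iff E hT'T β).1 hβ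
        rw [hEdef] at this
        obtain ⟨h1, h2, k, -, hk'⟩ := this
        rw [hFdef]
        exact ⟨h1.trans hTS, fun x => hTS (h2 x), k, hk'⟩
      have hιu : Subgroup.inclusion hle u ∈ pResidual p (F.autGroup T') :=
        map_pResidual_le_hom (Subgroup.inclusion hle) ⟨u, hu, rfl⟩
      have h1 := mem_hyperfocal_gen F p (hT'T.trans hTS) (Subgroup.inclusion hle u) hιu x
      rw [← hHdef] at h1
      have h1' : (x : G)⁻¹ * ((((u : MulAut T') x) : T') : G) ∈ H := h1
      have h2 : ⁅((((u : MulAut T') x) : T') : G)⁻¹, g⁆ ∈ ⁅T, T⁆ :=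
        Subgroup.commutator_mem_commutator (T.inv_mem (hT'T ((u : MulAut T') x).2)) hg.1
      show (x : G)⁻¹ * (((α x : T')) : G) ∈ H ⊔ ⁅T, T⁆
      have hαu' : ((α x : T') : G) = g * ((((u : MulAut T') x) : T') : G) * g⁻¹ := hαu x
      rw [hαu']
      have e : (x : G)⁻¹ * (g * ((((u : MulAut T') x) : T') : G) * g⁻¹) =
          ((x : G)⁻¹ * ((((u : MulAut T') x) : T') : G)) *
            ⁅((((u : MulAut T') x) : T') : G)⁻¹, g⁆ := by
        rw [commutatorElement_def]
        group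
      rw [e]
      exact Subgroup.mul_mem _ (hHM h1') (hCM h2)
  -- (C) the focal subgroup theorem in `K`
  have hC : T ≤ H ⊔ ⁅T, T⁆ := by
    refine le_of_focal hTK hTsyl (hcomm0 hTp) ?_
    intro x hx g hg hgx
    have hP : Subgroup.zpowers x ≤ T := (Subgroup.zpowers_le).2 hx
    have hφ : conjHom (Subgroup.zpowers x) g ∈ E.Hom (Subgroup.zpowers x) := by
      rw [hEdef]
      refine ⟨hP, ?_, g, hg, fun _ => rfl⟩
      rintro ⟨y, n, rfl⟩
      rw [conjHom_apply]
      show g * x ^ n * g⁻¹ ∈ T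
      rw [← conj_zpow]
      exact T.zpow_mem hgx n
    exact hB _ _ hφ ⟨x, Subgroup.mem_zpowers x⟩
  -- (D)
  have hfinH : Finite H := Finite.of_injective (Subgroup.inclusion hHT0)
    (Subgroup.inclusion_injective hHT0)
  have hHT : H ≤ T := hHT0
  refine le_of_le_sup_commutator hTp hHT ?_ hC
  intro t ht
  apply mem_normalizer_of_conj_mem
  intro y hy
  rw [hHdef] at hy ⊢
  exact hyperfocal_conj_mem F p (hTS ht) hy

/-- The hyperfocal subgroup theorem: `hyp(F_S(G)) = S ∩ O^p(G)`. -/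
theorem hyperfocal_groupFusionSystem [Finite G] {p : ℕ} [Fact p.Prime] (S : Sylow p G) :
    (groupFusionSystem (S : Subgroup G)).hyperfocalSubgroup p = (S : Subgroup G) ⊓ pResidual p G :=
  le_antisymm (hyperfocal_le_pResidual _) (inf_pResidual_le_hyperfocal S)

end Cfsg.Agent.Lib.H26
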