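import Mathlib
import Cfsg.Agent.Lib.H26.AGCERT

/-!
# S4150 piece H7 (architect helper16): `normalized7`

The six normalised 5-cycles `x = (2 3 c₃ c₄ c₅)` of degree 7: together with `finRotate 7` each
generates a group containing `A_7` (a word `(x^b y^a)^k` is a 3-cycle, then CERT with `r = 3`).
-/

set_option autoImplicit false

namespace Cfsg.Agent.Lib.H26.AG

open Equiv Equiv.Perm Subgroup

/-- An explicit permutation of `Fin 7` given by the vectors of its values and of the values of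
its inverse. -/
def mk7 (f g : Fin 7 → Fin 7) (h1 : ∀ i, g (f i) = i) (h2 : ∀ i, f (g i) = i) : Perm (Fin 7) :=
  ⟨f, g, h1, h2⟩

/-- `finRotate 7`, explicitly. -/
def rot7 : Perm (Fin 7) :=
  mk7 ![1, 2, 3, 4, 5, 6, 0] ![6, 0, 1, 2, 3, 4, 5] (by decide) (by decide)

theorem finRotate7_eq : finRotate 7 = rot7 := by
  ext i
  fin_cases i <;> rfl

/-- The six normalised 5-cycles. -/
def x7a : Perm (Fin 7) :=
  mk7 ![0, 1, 3, 4, 5, 6, 2] ![0, 1, 6, 2, 3, 4, 5] (by decide) (by decide)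
def x7b : Perm (Fin 7) :=
  mk7 ![0, 1, 3, 4, 6, 2, 5] ![0, 1, 5, 2, 3, 6, 4] (by decide) (by decide)
def x7c : Perm (Fin 7) :=
  mk7 ![0, 1, 3, 5, 6, 4, 2] ![0, 1, 6, 2, 5, 3, 4] (by decide) (by decide)
def x7d : Perm (Fin 7) :=
  mk7 ![0, 1, 3, 5, 2, 6, 4] ![0, 1, 4, 2, 6, 3, 5] (by decide) (by decide)
def x7e : Perm (Fin 7) :=
  mk7 ![0, 1, 3, 6, 5, 2, 4] ![0, 1, 5, 2, 6, 4, 3] (by decide) (by decide)
def x7f : Perm (Fin 7) :=
  mk7 ![0, 1, 3, 6, 2, 4, 5] ![0, 1, 4, 2, 5, 6, 3] (by decide) (by decide)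

set_option synthInstance.maxHeartbeats 2000000 in
set_option synthInstance.maxSize 100000 in
set_option maxHeartbeats 4000000 in
/-- The possible value vectors of a normalised permutation of order dividing 5. -/
theorem vals7 : ∀ a b c d : Fin 7,
    (∀ i j : Fin 7, (![0, 1, 3, a, b, c, d] : Fin 7 → Fin 7) i =
      (![0, 1, 3, a, b, c, d] : Fin 7 → Fin 7) j → i = j) →
    (∀ i : Fin 7, (![0, 1, 3, a, b, c, d] : Fin 7 → Fin 7)
      ((![0, 1, 3, a, b, c, d] : Fin 7 → Fin 7) ((![0, 1, 3, a, b, c, d] : Fin 7 → Fin 7)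
      ((![0, 1, 3, a, b, c, d] : Fin 7 → Fin 7) ((![0, 1, 3, a, b, c, d] : Fin 7 → Fin 7) i)))) = i) →
    (a = 4 ∧ b = 5 ∧ c = 6 ∧ d = 2) ∨ (a = 4 ∧ b = 6 ∧ c = 2 ∧ d = 5) ∨
    (a = 5 ∧ b = 6 ∧ c = 4 ∧ d = 2) ∨ (a = 5 ∧ b = 2 ∧ c = 6 ∧ d = 4) ∨
    (a = 6 ∧ b = 5 ∧ c = 2 ∧ d = 4) ∨ (a = 6 ∧ b = 2 ∧ c = 4 ∧ d = 5) := by
  decide +kernel

/-- A normalised 5-cycle is one of the six explicit ones. -/
theorem cases7 (x : Perm (Fin 7)) (h0 : x 0 = 0) (h1 : x 1 = 1) (h2 : x 2 = 3)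
    (hx : x.cycleType = {5}) :
    x = x7a ∨ x = x7b ∨ x = x7c ∨ x = x7d ∨ x = x7e ∨ x = x7f := by
  have hfun : ∀ i : Fin 7, x i = (![0, 1, 3, x 3, x 4, x 5, x 6] : Fin 7 → Fin 7) i := by
    intro i
    fin_cases i <;> simp [h0, h1, h2]
  have h5 : x ^ 5 = 1 := by
    have : orderOf x = 5 := by rw [← lcm_cycleType, hx]; simp
    rw [← this]; exact pow_orderOf_eq_one x
  have hinj : ∀ i j : Fin 7, (![0, 1, 3, x 3, x 4, x 5, x 6] : Fin 7 → Fin 7) i =
      (![0, 1, 3, x 3, x 4, x 5, x 6] : Fin 7 → Fin 7) j → i = j := by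
    intro i j hij
    rw [← hfun i, ← hfun j] at hij
    exact x.injective hij
  have hpow : ∀ i : Fin 7, (![0, 1, 3, x 3, x 4, x 5, x 6] : Fin 7 → Fin 7)
      ((![0, 1, 3, x 3, x 4, x 5, x 6] : Fin 7 → Fin 7)
      ((![0, 1, 3, x 3, x 4, x 5, x 6] : Fin 7 → Fin 7)
      ((![0, 1, 3, x 3, x 4, x 5, x 6] : Fin 7 → Fin 7)
      ((![0, 1, 3, x 3, x 4, x 5, x 6] : Fin 7 → Fin 7) i)))) = i := by
    intro i
    rw [← hfun, ← hfun, ← hfun, ← hfun, ← hfun]
    have := congrArg (fun f : Perm (Fin 7) => f i) h5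
    simpa [pow_succ, Perm.mul_apply] using this
  have key := vals7 (x 3) (x 4) (x 5) (x 6) hinj hpow
  rcases key with ⟨ha, hb, hc, hd⟩ | ⟨ha, hb, hc, hd⟩ | ⟨ha, hb, hc, hd⟩ | ⟨ha, hb, hc, hd⟩ |
    ⟨ha, hb, hc, hd⟩ | ⟨ha, hb, hc, hd⟩
  · left
    ext i
    rw [hfun i, ha, hb, hc, hd]
    fin_cases i <;> rfl
  · right; left
    ext i
    rw [hfun i, ha, hb, hc, hd]
    fin_cases i <;> rfl
  · right; right; left
    ext i
    rw [hfun i, ha, hb, hc, hd]
    fin_cases i <;> rfl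
  · right; right; right; left
    ext i
    rw [hfun i, ha, hb, hc, hd]
    fin_cases i <;> rfl
  · right; right; right; right; left
    ext i
    rw [hfun i, ha, hb, hc, hd]
    fin_cases i <;> rfl
  · right; right; right; right; right
    ext i
    rw [hfun i, ha, hb, hc, hd]
    fin_cases i <;> rfl

/-- One explicit case: the word `(x^b y^a)^k` is a 3-cycle. -/
theorem case7 (x : Perm (Fin 7)) (b a k : ℕ)
    (h3 : ((x ^ b * rot7 ^ a) ^ k) ^ 3 = 1)
    (hs : ((x ^ b * rot7 ^ a) ^ k).support.card = 3) :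
    alternatingGroup (Fin 7) ≤ closure ({x, finRotate 7} : Set (Perm (Fin 7))) := by
  have hy : (finRotate 7).cycleType = {7} := by
    rw [cycleType_finRotate]
  have hxm : x ∈ closure ({x, finRotate 7} : Set (Perm (Fin 7))) :=
    subset_closure (by simp)
  have hym : finRotate 7 ∈ closure ({x, finRotate 7} : Set (Perm (Fin 7))) :=
    subset_closure (by simp)
  have hw : (x ^ b * rot7 ^ a) ^ k ∈ closure ({x, finRotate 7} : Set (Perm (Fin 7))) := by
    rw [← finRotate7_eq]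
    exact pow_mem (mul_mem (pow_mem hxm b) (pow_mem hym a)) k
  exact alt_le_of_small_cycle (n := 7) (r := 3) (by norm_num) _ (finRotate 7) hy hym _ hw
    (by norm_num) (by norm_num) h3 hs

/-- (H7) the 6 normalised 5-cycles in degree 7. -/
theorem normalized7 : ∀ x : Perm (Fin 7), x 0 = 0 → x 1 = 1 → x 2 = 3 → x.cycleType = {5} →
    alternatingGroup (Fin 7) ≤ closure ({x, finRotate 7} : Set (Perm (Fin 7))) := by
  intro x h0 h1 h2 hx
  rcases cases7 x h0 h1 h2 hx with h | h | h | h | h | h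
  · subst h; exact case7 x7a 4 1 1 (by decide) (by decide)
  · subst h; exact case7 x7b 2 3 2 (by decide) (by decide)
  · subst h; exact case7 x7c 3 2 2 (by decide) (by decide)
  · subst h; exact case7 x7d 3 1 2 (by decide) (by decide)
  · subst h; exact case7 x7e 4 2 2 (by decide) (by decide)
  · subst h; exact case7 x7f 3 3 2 (by decide) (by decide)

end Cfsg.Agent.Lib.H26.AG
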