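import Mathlib
import Cfsg.Agent.Lib.H26.ChainStab
import Cfsg.Agent.Lib.H26.CycChain

set_option autoImplicit false

/-!
`p'`-groups of automorphisms of a finite abelian `p`-group `Y` (helper26). They act faithfully on
`Ω₁(Y)`; if the layers `Ω₁(Y) ∩ ℧ʲ(Y) / Ω₁(Y) ∩ ℧ʲ⁺¹(Y)` are all cyclic, they are abelian of
exponent dividing `p - 1`.
-/

namespace Cfsg.Agent.Lib.H26.AbelianPA

open Cfsg.Agent.Lib.H26.ChainStab Cfsg.Agent.Lib.H26.CycChain

/-- The property: all `p'`-subgroups of `Aut(X)` are abelian of exponent dividing `p - 1`. -/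
def PA (p : ℕ) (X : Type*) [Group X] : Prop :=
  ∀ K : Subgroup (MulAut X), (Nat.card K).Coprime p →
    (∀ a ∈ K, ∀ b ∈ K, a * b = b * a) ∧ ∀ h ∈ K, h ^ (p - 1) = 1

/-- The property passes down injective homomorphisms between automorphism groups. -/
theorem PA_of_injective {p : ℕ} {X Y : Type*} [Group X] [Group Y] (θ : MulAut X →* MulAut Y)
    (hθ : Function.Injective θ) (hY : PA p Y) : PA p X := by
  intro K hK
  have hcard : Nat.card (K.map θ) = Nat.card K := Subgroup.card_map_of_injective hθ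
  obtain ⟨hc, hpw⟩ := hY (K.map θ) (by rw [hcard]; exact hK)
  refine ⟨fun a ha b hb => ?_, fun h hh => ?_⟩
  · apply hθ
    rw [map_mul, map_mul]
    exact hc _ ⟨a, ha, rfl⟩ _ ⟨b, hb, rfl⟩
  · apply hθ
    rw [map_pow, map_one]
    exact hpw _ ⟨h, hh, rfl⟩

theorem PA_congr {p : ℕ} {X Y : Type*} [Group X] [Group Y] (ε : X ≃* Y) (hY : PA p Y) :
    PA p X :=
  PA_of_injective (MulAut.congr ε).toMonoidHom (MulAut.congr ε).injective hY

/-- Extension of automorphisms of a direct factor. -/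
def prodExt (A B : Type*) [Group A] [Group B] : MulAut A →* MulAut (A × B) where
  toFun α := MulEquiv.prodCongr α (MulEquiv.refl B)
  map_one' := by
    ext x <;> rfl
  map_mul' := by
    intro α β
    ext x <;> rfl

theorem prodExt_injective (A B : Type*) [Group A] [Group B] :
    Function.Injective (prodExt A B) := by
  intro α β h
  ext a
  have := congrArg (fun γ : MulAut (A × B) => (γ (a, 1)).1) h
  exact this

theorem PA_of_prod {p : ℕ} {A B : Type*} [Group A] [Group B] (h : PA p (A × B)) : PA p A :=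
  PA_of_injective (prodExt A B) (prodExt_injective A B) h

section socle

variable {Y : Type*} [CommGroup Y]

/-- `Ω₁(Y) ∩ ℧ʲ(Y)`. -/
def socle (p j : ℕ) (Y : Type*) [CommGroup Y] : Subgroup Y where
  carrier := {x | x ^ p = 1 ∧ ∃ y, y ^ (p ^ j) = x}
  one_mem' := ⟨one_pow _, 1, one_pow _⟩
  mul_mem' := by
    rintro a b ⟨ha, y, hy⟩ ⟨hb, z, hz⟩
    exact ⟨by rw [mul_pow, ha, hb, one_mul], y * z, by rw [mul_pow, hy, hz]⟩
  inv_mem' := by
    rintro a ⟨ha, y, hy⟩
    exact ⟨by rw [inv_pow, ha, inv_one], y⁻¹, by rw [inv_pow, hy]⟩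

theorem mem_socle {p j : ℕ} {x : Y} : x ∈ socle p j Y ↔ x ^ p = 1 ∧ ∃ y, y ^ (p ^ j) = x :=
  Iff.rfl

theorem mem_socle_zero {p : ℕ} {x : Y} : x ∈ socle p 0 Y ↔ x ^ p = 1 := by
  rw [mem_socle]
  exact ⟨fun h => h.1, fun h => ⟨h, x, by rw [pow_zero, pow_one]⟩⟩

theorem socle_mono (p j : ℕ) : socle p (j + 1) Y ≤ socle p j Y := by
  rintro x ⟨hx, y, hy⟩
  exact ⟨hx, y ^ p, by rw [← pow_mul, ← pow_succ']; exact hy⟩

theorem socle_invariant {p j : ℕ} (α : MulAut Y) {x : Y} (hx : x ∈ socle p j Y) :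
    α x ∈ socle p j Y := by
  obtain ⟨h1, y, hy⟩ := hx
  exact ⟨by rw [← map_pow, h1, map_one], α y, by rw [← map_pow, hy]⟩

theorem socle_eq_bot {p m : ℕ} (h : ∀ y : Y, y ^ (p ^ m) = 1) : socle p m Y = ⊥ := by
  rw [eq_bot_iff]
  rintro x ⟨-, y, hy⟩
  rw [Subgroup.mem_bot, ← hy, h]

/-- A `p'`-automorphism of a finite abelian `p`-group which is trivial on `Ω₁` is trivial. -/
theorem eq_one_of_fix_omega [Finite Y] {p : ℕ} [Fact p.Prime] (hY : IsPGroup p Y)
    (α : MulAut Y) (hfix : ∀ x : Y, x ^ p = 1 → α x = x) {n : ℕ} (hn : n.Coprime p)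
    (hαn : α ^ n = 1) : α = 1 := by
  obtain ⟨m, hm⟩ := hY.exists_card_eq
  let c : ℕ → Subgroup Y := fun i =>
    { carrier := {x | x ^ (p ^ (m - i)) = 1}
      one_mem' := one_pow _
      mul_mem' := by
        intro a b ha hb
        show (a * b) ^ _ = 1
        rw [mul_pow, ha, hb, one_mul]
      inv_mem' := by
        intro a ha
        show a⁻¹ ^ _ = 1
        rw [inv_pow, ha, inv_one] }
  have hmono : ∀ i, c (i + 1) ≤ c i := by
    intro i x hx
    show x ^ (p ^ (m - i)) = 1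
    have hx' : x ^ (p ^ (m - (i + 1))) = 1 := hx
    obtain ⟨d, hd⟩ : p ^ (m - (i + 1)) ∣ p ^ (m - i) := pow_dvd_pow p (by omega)
    rw [hd, pow_mul, hx', one_pow]
  have h0 : c 0 = ⊤ := by
    rw [eq_top_iff]
    intro x _
    show x ^ (p ^ (m - 0)) = 1
    rw [Nat.sub_zero, ← hm]
    exact pow_card_eq_one'
  have hmm : c m = ⊥ := by
    rw [eq_bot_iff]
    intro x hx
    have hx' : x ^ (p ^ (m - m)) = 1 := hx
    rw [Nat.sub_self, pow_zero, pow_one] at hx'
    exact Subgroup.mem_bot.2 hx'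
  have hst : Stabilizes c α := by
    intro i x hx
    have hx' : x ^ (p ^ (m - i)) = 1 := hx
    show (x⁻¹ * α x) ^ (p ^ (m - (i + 1))) = 1
    by_cases hi : m - i = 0
    · rw [hi, pow_zero, pow_one] at hx'
      rw [hx', map_one, inv_one, one_mul, one_pow]
    · obtain ⟨a, ha⟩ : ∃ a, m - i = a + 1 := ⟨m - i - 1, by omega⟩
      have ha' : m - (i + 1) = a := by omega
      rw [ha'] at *
      rw [ha, pow_succ, pow_mul] at hx'
      have h1 := hfix _ hx'
      rw [mul_pow, inv_pow, ← map_pow, h1, inv_mul_cancel]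
  obtain ⟨k, hk⟩ := pow_eq_one_of_stabilizes hY hmono m h0 hmm hst
  have := pow_gcd_eq_one.2 ⟨hαn, hk⟩
  rwa [Nat.Coprime.gcd_eq_one (Nat.Coprime.pow_right k hn), pow_one] at this

end socle

/-- A section of a cyclic section is cyclic. -/
theorem isCyclic_section' {G : Type*} [Group G] (A B R : Subgroup G) [(A.subgroupOf B).Normal]
    [((A.subgroupOf R).subgroupOf (B.subgroupOf R)).Normal]
    (hcyc : IsCyclic (↥B ⧸ A.subgroupOf B)) :
    IsCyclic (↥(B.subgroupOf R) ⧸ (A.subgroupOf R).subgroupOf (B.subgroupOf R)) := by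
  let θ : ↥(B.subgroupOf R) →* ↥B :=
    { toFun := fun y => ⟨((y : ↥R) : G), Subgroup.mem_subgroupOf.1 y.2⟩
      map_one' := rfl
      map_mul' := fun _ _ => rfl }
  let f : ↥(B.subgroupOf R) ⧸ (A.subgroupOf R).subgroupOf (B.subgroupOf R) →*
      ↥B ⧸ A.subgroupOf B :=
    QuotientGroup.lift _ ((QuotientGroup.mk' (A.subgroupOf B)).comp θ) (by
      intro y hy
      rw [Subgroup.mem_subgroupOf, Subgroup.mem_subgroupOf] at hy
      show ((θ y : ↥B) : ↥B ⧸ A.subgroupOf B) = 1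
      rw [QuotientGroup.eq_one_iff, Subgroup.mem_subgroupOf]
      exact hy)
  have hinj : Function.Injective f := by
    rw [injective_iff_map_eq_one]
    intro q hq
    induction q using QuotientGroup.induction_on with
    | H y =>
      have h1 : ((θ y : ↥B) : ↥B ⧸ A.subgroupOf B) = 1 := hq
      rw [QuotientGroup.eq_one_iff, Subgroup.mem_subgroupOf] at h1
      rw [QuotientGroup.eq_one_iff, Subgroup.mem_subgroupOf, Subgroup.mem_subgroupOf]
      exact h1
  exact isCyclic_of_injective f hinj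

/-- If all the layers of the socle are cyclic, the `p'`-groups of automorphisms are abelian of
exponent dividing `p - 1`. -/
theorem PA_of_cyclic_layers {Y : Type*} [CommGroup Y] [Finite Y] {p : ℕ} [Fact p.Prime]
    (hY : IsPGroup p Y)
    (hcyc : ∀ j, IsCyclic (↥(socle p j Y) ⧸ (socle p (j + 1) Y).subgroupOf (socle p j Y))) :
    PA p Y := by
  intro K hK
  obtain ⟨m, hm⟩ := hY.exists_card_eq
  have hpm : ∀ y : Y, y ^ (p ^ m) = 1 := by
    intro y
    rw [← hm]
    exact pow_card_eq_one'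
  let V : Subgroup Y := socle p 0 Y
  have hV : InvUnder K V := fun α _ x hx => socle_invariant α hx
  let ρ : ↥K →* MulAut ↥V := resAutH K V hV
  have hρ : ∀ (k : ↥K) (v : ↥V), ((ρ k v : ↥V) : Y) = (k : MulAut Y) v := fun k v => rfl
  have hVp : IsPGroup p ↥V := hY.to_subgroup V
  have hcd0 : CycData ρ.range (fun j => (socle p j Y).subgroupOf V) :=
    { mono := by
        intro j x hx
        exact socle_mono p j (Subgroup.mem_subgroupOf.1 hx)
      inv := by
        rintro j _ ⟨k, rfl⟩ x hx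
        rw [Subgroup.mem_subgroupOf] at hx ⊢
        rw [hρ]
        exact socle_invariant _ hx
      normal := fun j => Subgroup.normal_of_comm _
      cyclic := by
        intro j _
        haveI : ((socle p (j + 1) Y).subgroupOf (socle p j Y)).Normal :=
          Subgroup.normal_of_comm _
        exact isCyclic_section' (socle p (j + 1) Y) (socle p j Y) V (hcyc j) }
  obtain ⟨cc, hcc⟩ : ∃ cc : ℕ → Subgroup ↥V, cc = fun j => (socle p j Y).subgroupOf V := ⟨_, rfl⟩
  have hcd : CycData ρ.range cc := hcc ▸ hcd0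
  have h0 : cc 0 = ⊤ := by
    rw [hcc]
    exact Subgroup.subgroupOf_self V
  have hmm : cc m = ⊥ := by
    rw [hcc]
    show (socle p m Y).subgroupOf V = ⊥
    rw [socle_eq_bot hpm]
    exact Subgroup.bot_subgroupOf V
  have hcardK : ∀ γ ∈ K, γ ^ Nat.card K = 1 := by
    intro γ hγ
    have h1 : (⟨γ, hγ⟩ : ↥K) ^ Nat.card K = 1 := pow_card_eq_one'
    have h2 := congrArg (fun w : ↥K => (w : MulAut Y)) h1
    rw [Subgroup.coe_pow] at h2
    exact h2
  have key : ∀ γ : ↥K, Stabilizes cc (ρ γ) → (γ : MulAut Y) = 1 := by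
    intro γ hst
    obtain ⟨k, hk⟩ := pow_eq_one_of_stabilizes hVp hcd.mono m h0 hmm hst
    rw [← map_pow] at hk
    have h1 : ((γ : MulAut Y) ^ (p ^ k)) = 1 := by
      apply eq_one_of_fix_omega hY _ _ hK
      · rw [← pow_mul, mul_comm, pow_mul, hcardK _ γ.2, one_pow]
      · intro x hx
        have hxV : x ∈ V := mem_socle_zero.2 hx
        have h2 := congrArg (fun β : MulAut ↥V => ((β ⟨x, hxV⟩ : ↥V) : Y)) hk
        simp only [MulAut.one_apply] at h2
        rw [hρ, Subgroup.coe_pow] at h2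
        exact h2
    have := pow_gcd_eq_one.2 ⟨hcardK _ γ.2, h1⟩
    rwa [Nat.Coprime.gcd_eq_one (Nat.Coprime.pow_right k hK), pow_one] at this
  refine ⟨fun a ha b hb => ?_, fun h hh => ?_⟩
  · have h1 := stabilizes_commutator hcd (a := ρ ⟨a, ha⟩) (b := ρ ⟨b, hb⟩) ⟨_, rfl⟩ ⟨_, rfl⟩
    rw [← map_inv, ← map_inv, ← map_mul, ← map_mul, ← map_mul] at h1
    have h2 := key _ h1
    have h3 : a * b * a⁻¹ * b⁻¹ = 1 := h2
    calc a * b = (a * b * a⁻¹ * b⁻¹) * (b * a) := by group
      _ = b * a := by rw [h3, one_mul]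
  · have hn : (ρ ⟨h, hh⟩) ^ Nat.card K = 1 := by
      rw [← map_pow]
      have : (⟨h, hh⟩ : ↥K) ^ Nat.card K = 1 := pow_card_eq_one'
      rw [this, map_one]
    have h1 := stabilizes_pow hVp hcd (a := ρ ⟨h, hh⟩) ⟨_, rfl⟩ hK hn
    rw [← map_pow] at h1
    exact key _ h1

end Cfsg.Agent.Lib.H26.AbelianPA
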