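import Mathlib
import Cfsg.Agent.Lib.H1.TwoInvolutions
import Cfsg.Agent.Lib.H26.AbelianPA

set_option autoImplicit false

/-!
For a nontrivial finite abelian `p`-group `C`, the group `C × C` has a `p'`-group of automorphisms
which is not abelian of exponent dividing `p - 1` (helper26): a cyclic group of order `3` for
`p = 2`, a dihedral group of order dividing `8` for odd `p`.
-/

namespace Cfsg.Agent.Lib.H26.AbelianBad

open Cfsg.Agent.Lib.H26.AbelianPA

variable (C : Type*) [CommGroup C]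

/-- The automorphism `(x, y) ↦ (y, x⁻¹y⁻¹)` of order `3`. -/
def omegaAut : MulAut (C × C) where
  toFun x := (x.2, x.1⁻¹ * x.2⁻¹)
  invFun x := (x.1⁻¹ * x.2⁻¹, x.1)
  left_inv := by
    rintro ⟨x, y⟩
    ext <;> simp
  right_inv := by
    rintro ⟨x, y⟩
    ext <;> simp
  map_mul' := by
    rintro ⟨a, b⟩ ⟨c, d⟩
    ext
    · rfl
    · show (a * c)⁻¹ * (b * d)⁻¹ = a⁻¹ * b⁻¹ * (c⁻¹ * d⁻¹)
      rw [mul_inv, mul_inv]
      exact mul_mul_mul_comm _ _ _ _

theorem omegaAut_apply (x : C × C) : omegaAut C x = (x.2, x.1⁻¹ * x.2⁻¹) := rfl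

theorem omegaAut_pow_three : omegaAut C ^ 3 = 1 := by
  ext ⟨x, y⟩ <;>
  · rw [pow_succ, pow_succ, pow_one, MulAut.mul_apply, MulAut.mul_apply, omegaAut_apply,
      omegaAut_apply, omegaAut_apply]
    simp

theorem not_PA_two [Nontrivial C] : ¬ PA 2 (C × C) := by
  intro h
  obtain ⟨g, hg⟩ := exists_ne (1 : C)
  have hne : omegaAut C ≠ 1 := by
    intro h1
    have := congrArg (fun α : MulAut (C × C) => (α (g, 1)).1) h1
    simp only [omegaAut_apply, MulAut.one_apply] at this
    exact hg this.symm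
  have ho : orderOf (omegaAut C) = 3 := orderOf_eq_prime (omegaAut_pow_three C) hne
  have hcard : Nat.card (Subgroup.zpowers (omegaAut C)) = 3 := by
    rw [Nat.card_zpowers, ho]
  have := (h (Subgroup.zpowers (omegaAut C)) (by rw [hcard]; decide)).2 _
    (Subgroup.mem_zpowers _)
  rw [show 2 - 1 = 1 from rfl, pow_one] at this
  exact hne this

/-- The swap. -/
def sigmaAut : MulAut (C × C) := MulEquiv.prodComm

/-- Inversion of the second coordinate. -/
def tauAut : MulAut (C × C) := MulEquiv.prodCongr (MulEquiv.refl C) (MulEquiv.inv C)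

theorem sigmaAut_apply (x : C × C) : sigmaAut C x = (x.2, x.1) := rfl

theorem tauAut_apply (x : C × C) : tauAut C x = (x.1, x.2⁻¹) := rfl

theorem not_PA_odd [Finite C] {p : ℕ} [hp : Fact p.Prime] (hp2 : p ≠ 2) (hC : IsPGroup p C)
    [Nontrivial C] : ¬ PA p (C × C) := by
  intro h
  obtain ⟨g, hg⟩ := exists_ne (1 : C)
  have hgg : g⁻¹ ≠ g := by
    intro h1
    have h2 : g ^ 2 = 1 := by
      rw [pow_two]
      nth_rewrite 1 [← h1]
      exact inv_mul_cancel g
    obtain ⟨k, hk⟩ := hC g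
    have hcop : Nat.Coprime 2 (p ^ k) :=
      Nat.Coprime.pow_right k ((Nat.coprime_primes Nat.prime_two hp.out).2 (Ne.symm hp2))
    have := pow_gcd_eq_one.2 ⟨h2, hk⟩
    rw [Nat.Coprime.gcd_eq_one hcop, pow_one] at this
    exact hg this
  have hσ2 : sigmaAut C ^ 2 = 1 := by
    ext ⟨x, y⟩ <;> rfl
  have hτ2 : tauAut C ^ 2 = 1 := by
    ext ⟨x, y⟩
    · rfl
    · show (y⁻¹)⁻¹ = y
      exact inv_inv y
  have hσ1 : sigmaAut C ≠ 1 := by
    intro h1
    have := congrArg (fun α : MulAut (C × C) => (α (g, 1)).1) h1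
    simp only [sigmaAut_apply, MulAut.one_apply] at this
    exact hg this.symm
  have hτ1 : tauAut C ≠ 1 := by
    intro h1
    have := congrArg (fun α : MulAut (C × C) => (α (1, g)).2) h1
    simp only [tauAut_apply, MulAut.one_apply] at this
    exact hgg this
  have hστ : sigmaAut C ≠ tauAut C := by
    intro h1
    have := congrArg (fun α : MulAut (C × C) => (α (g, 1)).1) h1
    simp only [sigmaAut_apply, tauAut_apply] at this
    exact hg this.symm
  have hoσ : orderOf (sigmaAut C) = 2 := orderOf_eq_prime hσ2 hσ1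
  have hoτ : orderOf (tauAut C) = 2 := orderOf_eq_prime hτ2 hτ1
  have h4 : (sigmaAut C * tauAut C) ^ 4 = 1 := by
    ext ⟨x, y⟩ <;>
    · rw [pow_succ, pow_succ, pow_succ, pow_one]
      simp only [MulAut.mul_apply, sigmaAut_apply, tauAut_apply, MulAut.one_apply, inv_inv]
  haveI : Finite (MulAut (C × C)) := inferInstance
  obtain ⟨ε⟩ := Cfsg.Agent.Lib.H1.twoInv_closure_equiv_dihedral hoσ hoτ hστ
  have hdvd : orderOf (sigmaAut C * tauAut C) ∣ 4 := orderOf_dvd_of_pow_eq_one h4
  have hcard : Nat.card (Subgroup.closure ({sigmaAut C, tauAut C} : Set (MulAut (C × C)))) ∣ 8 := by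
    rw [Nat.card_congr ε.toEquiv, DihedralGroup.nat_card]
    exact Nat.mul_dvd_mul_left 2 hdvd
  have hcop : (Nat.card (Subgroup.closure
      ({sigmaAut C, tauAut C} : Set (MulAut (C × C))))).Coprime p := by
    apply Nat.Coprime.coprime_dvd_left hcard
    exact Nat.Coprime.pow_left 3 ((Nat.coprime_primes Nat.prime_two hp.out).2 (Ne.symm hp2))
  have hcomm := (h _ hcop).1 (sigmaAut C) (Subgroup.subset_closure (by simp))
    (tauAut C) (Subgroup.subset_closure (by simp))
  have := congrArg (fun α : MulAut (C × C) => (α (1, g)).1) hcomm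
  simp only [MulAut.mul_apply, sigmaAut_apply, tauAut_apply] at this
  exact hgg this

/-- Both cases together. -/
theorem not_PA [Finite C] {p : ℕ} [hp : Fact p.Prime] (hC : IsPGroup p C) [Nontrivial C] :
    ¬ PA p (C × C) := by
  by_cases hp2 : p = 2
  · subst hp2
    exact not_PA_two C
  · exact not_PA_odd C hp2 hC

end Cfsg.Agent.Lib.H26.AbelianBad
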