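import Mathlib
import Cfsg.Agent.Lib.H26.AbelianPA

set_option autoImplicit false

/-!
The layers of the socle of a direct product of cyclic `p`-groups of pairwise distinct orders are
cyclic (helper26).
-/

namespace Cfsg.Agent.Lib.H26.AbelianCoord

open Cfsg.Agent.Lib.H26.AbelianPA

theorem pow_eq_one_of_card {C : Type*} [Group C] [Finite C] {p e j : ℕ}
    (hcard : Nat.card C = p ^ e) (hej : e ≤ j) (z : C) : z ^ (p ^ j) = 1 := by
  obtain ⟨d, hd⟩ := pow_dvd_pow p hej
  rw [hd, pow_mul, ← hcard, pow_card_eq_one', one_pow]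

theorem exists_root_of_cyclic {C : Type*} [Group C] [Finite C] [hC : IsCyclic C] {p e j : ℕ}
    [hp : Fact p.Prime] (hcard : Nat.card C = p ^ e) (hje : j + 2 ≤ e) {x : C} (hx : x ^ p = 1) :
    ∃ y : C, y ^ (p ^ (j + 1)) = x := by
  obtain ⟨g, hg⟩ := IsCyclic.exists_generator (α := C)
  have hog : orderOf g = p ^ e := by
    rw [← hcard]
    exact orderOf_eq_card_of_forall_mem_zpowers hg
  obtain ⟨k, hk⟩ := (mem_powers_iff_mem_zpowers.2 (hg x))
  have hk' : g ^ k = x := hk
  rw [← hk', ← pow_mul] at hx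
  have hdvd : p ^ e ∣ k * p := by
    rw [← hog]
    exact orderOf_dvd_of_pow_eq_one hx
  obtain ⟨e', rfl⟩ : ∃ e', e = e' + 1 := ⟨e - 1, by omega⟩
  rw [pow_succ] at hdvd
  have hdvd' : p ^ e' ∣ k := Nat.dvd_of_mul_dvd_mul_right hp.out.pos hdvd
  obtain ⟨t, ht⟩ := hdvd'
  refine ⟨g ^ (p ^ (e' - (j + 1)) * t), ?_⟩
  rw [← pow_mul, ← hk', ht]
  congr 1
  have h1 : e' = (e' - (j + 1)) + (j + 1) := by omega
  conv_rhs => rw [h1, pow_add]
  ring

variable {ι : Type*} (C : ι → Type*) [∀ i, CommGroup (C i)] [∀ i, Finite (C i)]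

theorem mem_socle_succ_of_coord (hcyc : ∀ i, IsCyclic (C i)) {p : ℕ} [Fact p.Prime]
    (e : ι → ℕ) (hcard : ∀ i, Nat.card (C i) = p ^ e i) (j : ℕ) {x : ∀ i, C i}
    (hx : x ∈ socle p j (∀ i, C i)) (h1 : ∀ i, e i = j + 1 → x i = 1) :
    x ∈ socle p (j + 1) (∀ i, C i) := by
  obtain ⟨hxp, z, hz⟩ := hx
  refine ⟨hxp, ?_⟩
  have : ∀ i, ∃ y : C i, y ^ (p ^ (j + 1)) = x i := by
    intro i
    rcases lt_trichotomy (e i) (j + 1) with h | h | h
    · refine ⟨1, ?_⟩
      rw [one_pow, ← hz, Pi.pow_apply]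
      exact (pow_eq_one_of_card (hcard i) (by omega) (z i)).symm
    · exact ⟨1, by rw [one_pow, h1 i h]⟩
    · haveI := hcyc i
      have hxi : (x i) ^ p = 1 := by
        have := congrFun hxp i
        rwa [Pi.pow_apply] at this
      exact exists_root_of_cyclic (hcard i) (by omega) hxi
  choose y hy using this
  exact ⟨y, funext (fun i => by rw [Pi.pow_apply]; exact hy i)⟩

theorem layers_cyclic (hcyc : ∀ i, IsCyclic (C i)) {p : ℕ} [Fact p.Prime]
    (e : ι → ℕ) (hcard : ∀ i, Nat.card (C i) = p ^ e i) (hinj : Function.Injective e) (j : ℕ) :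
    IsCyclic (↥(socle p j (∀ i, C i)) ⧸
      (socle p (j + 1) (∀ i, C i)).subgroupOf (socle p j (∀ i, C i))) := by
  by_cases h : ∃ i₀, e i₀ = j + 1
  · obtain ⟨i₀, hi₀⟩ := h
    haveI := hcyc i₀
    let π : ↥(socle p j (∀ i, C i)) →* C i₀ :=
      (Pi.evalMonoidHom C i₀).comp (socle p j (∀ i, C i)).subtype
    have hπ : ∀ x : ↥(socle p j (∀ i, C i)), π x = (x : ∀ i, C i) i₀ := fun x => rfl
    let f : ↥(socle p j (∀ i, C i)) ⧸
        (socle p (j + 1) (∀ i, C i)).subgroupOf (socle p j (∀ i, C i)) →* C i₀ :=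
      QuotientGroup.lift _ π (by
        intro x hx
        rw [Subgroup.mem_subgroupOf] at hx
        obtain ⟨-, y, hy⟩ := hx
        rw [MonoidHom.mem_ker, hπ, ← hy, Pi.pow_apply]
        exact pow_eq_one_of_card (hcard i₀) (by omega) (y i₀))
    have hinjf : Function.Injective f := by
      rw [injective_iff_map_eq_one]
      intro q hq
      induction q using QuotientGroup.induction_on with
      | H x =>
        have h1 : π x = 1 := hq
        rw [hπ] at h1
        rw [QuotientGroup.eq_one_iff, Subgroup.mem_subgroupOf]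
        apply mem_socle_succ_of_coord C hcyc e hcard j x.2
        intro i hi
        have : i = i₀ := hinj (hi.trans hi₀.symm)
        rw [this]
        exact h1
    exact isCyclic_of_injective f hinjf
  · push Not at h
    haveI : Subsingleton (↥(socle p j (∀ i, C i)) ⧸
        (socle p (j + 1) (∀ i, C i)).subgroupOf (socle p j (∀ i, C i))) := by
      refine ⟨fun a b => ?_⟩
      induction a using QuotientGroup.induction_on with
      | H a =>
        induction b using QuotientGroup.induction_on with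
        | H b =>
          rw [QuotientGroup.eq, Subgroup.mem_subgroupOf]
          exact mem_socle_succ_of_coord C hcyc e hcard j (a⁻¹ * b).2
            (fun i hi => absurd hi (h i))
    exact isCyclic_of_subsingleton

end Cfsg.Agent.Lib.H26.AbelianCoord
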