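import Mathlib
import Cfsg.Agent.Lib.H26.AbelianPA
import Cfsg.Agent.Lib.H26.AbelianCoord

set_option autoImplicit false

/-!
A finite abelian `p`-group with pairwise distinct invariants: all `p'`-groups of automorphisms are
abelian of exponent dividing `p - 1` (helper26).
-/

namespace Cfsg.Agent.Lib.H26.AbelianDistinct

open Cfsg.Agent.Lib.H26.AbelianPA Cfsg.Agent.Lib.H26.AbelianCoord

theorem card_mult_zmod (n : ℕ) [NeZero n] : Nat.card (Multiplicative (ZMod n)) = n := by
  exact (Nat.card_congr Multiplicative.toAdd).trans (Nat.card_zmod n)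

/-- Splitting off two coordinates of a product. -/
theorem nonempty_split {ι : Type} [DecidableEq ι] (C : ι → Type) [∀ i, CommGroup (C i)]
    {i j : ι} (hij : j ≠ i) :
    ∃ (H : Type) (_ : CommGroup H), Nonempty ((∀ k, C k) ≃* (C i × C j) × H) := by
  let s1 : (∀ k, C k) ≃* C i × (∀ k : {k // k ≠ i}, C k) :=
    { Equiv.piSplitAt i C with map_mul' := fun _ _ => rfl }
  let s2 : (∀ k : {k // k ≠ i}, C k) ≃*
      C j × (∀ k : {k : {k // k ≠ i} // k ≠ ⟨j, hij⟩}, C k) :=
    { Equiv.piSplitAt (⟨j, hij⟩ : {k // k ≠ i}) (fun k : {k // k ≠ i} => C k) with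
      map_mul' := fun _ _ => rfl }
  exact ⟨(∀ k : {k : {k // k ≠ i} // k ≠ ⟨j, hij⟩}, C k), inferInstance,
    ⟨s1.trans ((MulEquiv.prodCongr (MulEquiv.refl _) s2).trans MulEquiv.prodAssoc.symm)⟩⟩

theorem PA_of_distinct {X : Type*} [CommGroup X] [Finite X] {p : ℕ} [hp : Fact p.Prime]
    (hX : IsPGroup p X)
    (hd : ¬ ∃ (n : ℕ) (H : Type) (_ : CommGroup H), 0 < n ∧
      Nonempty (X ≃* (Multiplicative (ZMod (p ^ n)) × Multiplicative (ZMod (p ^ n))) × H)) :
    PA p X := by
  classical
  obtain ⟨ι, _, n, hn, ⟨ε⟩⟩ := CommGroup.equiv_prod_multiplicative_zmod_of_finite X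
  haveI : ∀ i, NeZero (n i) := fun i => ⟨by have := hn i; omega⟩
  have hGp : IsPGroup p (∀ i, Multiplicative (ZMod (n i))) := hX.of_equiv ε
  have hni : ∀ i, ∃ e, n i = p ^ e := by
    intro i
    have hCp : IsPGroup p (Multiplicative (ZMod (n i))) :=
      hGp.of_injective (MonoidHom.mulSingle (fun i => Multiplicative (ZMod (n i))) i)
        (fun a b hab => Pi.mulSingle_injective (M := fun i => Multiplicative (ZMod (n i))) i hab)
    obtain ⟨e, he⟩ := hCp.exists_card_eq
    exact ⟨e, by rw [← he, card_mult_zmod]⟩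
  choose e he using hni
  have hcard : ∀ i, Nat.card (Multiplicative (ZMod (n i))) = p ^ e i := by
    intro i
    rw [card_mult_zmod, he i]
  have hinj : Function.Injective e := by
    intro i j hij
    by_contra hne
    apply hd
    obtain ⟨H, instH, ⟨s⟩⟩ := nonempty_split (fun i => Multiplicative (ZMod (n i)))
      (i := i) (j := j) (Ne.symm hne)
    have hpos : 0 < e i := by
      rcases Nat.eq_zero_or_pos (e i) with h | h
      · have := hn i
        rw [he i, h, pow_zero] at this
        omega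
      · exact h
    haveI : NeZero (p ^ e i) := ⟨(pow_pos hp.out.pos _).ne'⟩
    have ei : Multiplicative (ZMod (n i)) ≃* Multiplicative (ZMod (p ^ e i)) :=
      mulEquivOfCyclicCardEq (by rw [hcard i, card_mult_zmod])
    have ej : Multiplicative (ZMod (n j)) ≃* Multiplicative (ZMod (p ^ e i)) :=
      mulEquivOfCyclicCardEq (by rw [hcard j, card_mult_zmod, hij])
    exact ⟨e i, H, instH, hpos,
      ⟨ε.trans (s.trans (MulEquiv.prodCongr (MulEquiv.prodCongr ei ej) (MulEquiv.refl H)))⟩⟩
  apply PA_congr ε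
  exact PA_of_cyclic_layers hGp
    (layers_cyclic (fun i => Multiplicative (ZMod (n i))) (fun i => inferInstance) e hcard hinj)

/-- The same for a group which is only known to be commutative through a hypothesis. -/
theorem PA_of_distinct' {X : Type*} [Group X] [Finite X] {p : ℕ} [hp : Fact p.Prime]
    (hc : ∀ a b : X, a * b = b * a) (hX : IsPGroup p X)
    (hd : ¬ ∃ (n : ℕ) (H : Type) (_ : CommGroup H), 0 < n ∧
      Nonempty (X ≃* (Multiplicative (ZMod (p ^ n)) × Multiplicative (ZMod (p ^ n))) × H)) :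
    PA p X := by
  letI : CommGroup X := { ‹Group X› with mul_comm := hc }
  exact PA_of_distinct hX hd

end Cfsg.Agent.Lib.H26.AbelianDistinct
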