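/-
EO project (helper26): **EO-main**, unconditional.  Every subgroup `H` of the isometry group of a
nondegenerate quadratic form `Q` on `F^n` (`n ≥ 5`, `F` finite, ALL `q`) is "tame"
(`ETame Q H`: it lies in a member of one of the seven geometric classes, in the precise shape of
`Lib/H26/AschEDefs.lean`) or is in the orthogonal residual class.

Assembly of: EM1 (helper17), EM2 (helper8 + helper26), EM3 (helper22), EM4 (helper20),
ET5 (helper25), ET5' (helper6), EM7 (helper1 + helper26), EM8.2 (helper22), EM8.3 (helper11).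
-/
import Cfsg.Agent.Lib.H26.AschEMain4
import Cfsg.Agent.Lib.H20.AschEM4

set_option autoImplicit false

namespace Cfsg.Agent.Lib.H26.AschE

open Cfsg Cfsg.Geo Cfsg.Agent.Lib.Lead.Asch
open scoped MatrixGroups Matrix Kronecker

variable {F : Type*} [Field F] [Fintype F] {n : ℕ}

/-- **EO-main** (unconditional). -/
theorem emain (Q : (Fin n → F) → F) (hQ : IsNondegenerateQuadraticForm Q) (hn : 5 ≤ n)
    (H : Subgroup (GL (Fin n) F)) (hH : H ≤ isometryGroup F Q) :
    ETame Q H ∨ InOrthogonalResidualClass H :=
  emain_of_em4 Q hQ hn H hH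
    (fun N hirr hNH hnorm D habs hd hk =>
      Cfsg.Agent.Lib.H20.AschE.etame_of_homog_tensor Q hQ hn H N hH hirr hNH hnorm D habs hd hk)

end Cfsg.Agent.Lib.H26.AschE
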