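/-
Aschbacher's theorem, linear case (S5630 project), module M8 (helper26): assembly.
M8.1 exists_components (helper26, with M8-Q / M8-O by helper14), M8.2 residual_of_components_one
(helper22), M8.3 tame_of_components (helper16 with helper4, helper14, helper21, helper8).
-/
import Cfsg.Agent.Lib.H26.AschM8A3
import Cfsg.Agent.Lib.H22.AschM82
import Cfsg.Agent.Lib.H16.AschM8C

set_option autoImplicit false

namespace Cfsg.Agent.Lib.H26.Asch

open Cfsg Cfsg.Geo Cfsg.Agent.Lib.Lead.Asch
open scoped MatrixGroups Matrix Kronecker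

variable {F : Type*} [Field F] [Fintype F] {n : ℕ}

/-- **M8** (C7, or C8; residual class, or C5 / C8). The minimal normal subgroup is not abelian modulo
scalars. -/
theorem tame_or_residual_of_nonabelian_minimal (hn : 3 ≤ n) (H N : Subgroup (GL (Fin n) F))
    (hgood : Good H) (hmin : MinimalModScalars H N)
    (hnab : ¬ ∀ x ∈ N, ∀ y ∈ N, x * y * x⁻¹ * y⁻¹ ∈ scalars (Fin n) F) :
    (TameC5 H ∨ TameC7 H ∨ TameC8 H) ∨ InLinearResidualClass H := by
  obtain ⟨t, L, hL⟩ := exists_components H N hmin hnab
  by_cases ht : 2 ≤ t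
  · rcases Cfsg.Agent.Lib.H16.Asch.tame_of_components hn H hgood t L hL ht with h | h
    · exact Or.inl (Or.inr (Or.inl h))
    · exact Or.inl (Or.inr (Or.inr h))
  · have h1 : t = 1 := by have := hL.pos; omega
    subst h1
    rcases Cfsg.Agent.Lib.H22.Asch.residual_of_components_one hn H hgood L hL with (h | h) | h
    · exact Or.inl (Or.inl h)
    · exact Or.inl (Or.inr (Or.inr h))
    · exact Or.inr h

end Cfsg.Agent.Lib.H26.Asch
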