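/-
Symplectic Phase 2 (architect helper9), task SP2-B3 (helper26):
`Sp_2m(F)`, `m ≥ 2`, normalises no field subalgebra of prime degree (class 3).
The generic part (a transvection-like element normalising a field subalgebra centralises it) follows
helper5's `Lib/H5/UP2B3.lean`, here for an arbitrary finite index type.
-/
import Cfsg.Agent.Lib.H11.AschSDefs
import Cfsg.Agent.Lib.H11.SimMax5
import Cfsg.Agent.Lib.H2.SpSimple

set_option autoImplicit false

namespace Cfsg.Agent.Lib.H26.AschSP2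

open Cfsg Cfsg.Geo
open scoped MatrixGroups Matrix

variable {F : Type*} [Field F]

section generic

variable {ι : Type} [Fintype ι] [DecidableEq ι]

/-- the inverse of `x ↦ x + φ x • v` -/
theorem tvl_inv_mulVec (τ : GL ι F) (φ : Module.Dual F (ι → F)) (v : ι → F)
    (hφv : φ v = 0) (hτ : ∀ x, (τ : Matrix ι ι F) *ᵥ x = x + φ x • v) (y : ι → F) :
    ((τ⁻¹ : GL ι F) : Matrix ι ι F) *ᵥ y = y - φ y • v := by
  have h1 : (τ : Matrix ι ι F) *ᵥ (y - φ y • v) = y := by
    rw [hτ, map_sub, map_smul, hφv, smul_zero, sub_zero]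
    abel
  have h2 : ((τ⁻¹ : GL ι F) : Matrix ι ι F) *ᵥ
      ((τ : Matrix ι ι F) *ᵥ (y - φ y • v)) = y - φ y • v := by
    rw [Matrix.mulVec_mulVec, ← Units.val_mul, inv_mul_cancel, Units.val_one, Matrix.one_mulVec]
  rw [h1] at h2
  exact h2

/-- A transvection-like element normalising a field subalgebra (dimension `≥ 3`) centralises it. -/
theorem commute_of_mem_subalgebraNormalizer (hn : 3 ≤ Fintype.card ι) (r : ℕ)
    (K : Subalgebra F (Matrix ι ι F))
    (hK : IsFieldSubalgebra r K) (τ : GL ι F) (φ : Module.Dual F (ι → F)) (v : ι → F)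
    (hφv : φ v = 0) (hτ : ∀ x, (τ : Matrix ι ι F) *ᵥ x = x + φ x • v)
    (hτN : τ ∈ subalgebraNormalizer K) (X : Matrix ι ι F) (hX : X ∈ K) :
    (τ : Matrix ι ι F) * X = X * (τ : Matrix ι ι F) := by
  have hmem : (τ : Matrix ι ι F) * X * ((τ⁻¹ : GL ι F) : Matrix ι ι F) ∈ K :=
    (hτN X).mp hX
  set y := (τ : Matrix ι ι F) * X * ((τ⁻¹ : GL ι F) : Matrix ι ι F) - X with hy
  have hyK : y ∈ K := K.sub_mem hmem hX
  have himg : ∀ w : ι → F, y *ᵥ w ∈ Submodule.span F ({v, X *ᵥ v} : Set (ι → F)) := by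
    intro w
    have hv : v ∈ Submodule.span F ({v, X *ᵥ v} : Set (ι → F)) :=
      Submodule.subset_span (Set.mem_insert _ _)
    have hXv : X *ᵥ v ∈ Submodule.span F ({v, X *ᵥ v} : Set (ι → F)) :=
      Submodule.subset_span (Set.mem_insert_of_mem _ (Set.mem_singleton _))
    have hcalc : y *ᵥ w = (-(φ w)) • (X *ᵥ v) + φ (X *ᵥ w - φ w • X *ᵥ v) • v := by
      rw [hy, Matrix.sub_mulVec, ← Matrix.mulVec_mulVec, ← Matrix.mulVec_mulVec,
        tvl_inv_mulVec τ φ v hφv hτ w, Matrix.mulVec_sub, Matrix.mulVec_smul, hτ]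
      rw [neg_smul]
      abel
    rw [hcalc]
    exact Submodule.add_mem _ (Submodule.smul_mem _ _ hXv) (Submodule.smul_mem _ _ hv)
  have hy0 : y = 0 := by
    by_contra hne
    obtain ⟨z, -, hz⟩ := hK.inv y hyK hne
    have htop : (⊤ : Submodule F (ι → F)) ≤ Submodule.span F ({v, X *ᵥ v} : Set (ι → F)) := by
      intro w _
      have : w = y *ᵥ (z *ᵥ w) := by
        rw [Matrix.mulVec_mulVec, hz, Matrix.one_mulVec]
      rw [this]
      exact himg _
    have h1 := Submodule.finrank_mono htop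
    rw [finrank_top, Module.finrank_fintype_fun_eq_card] at h1
    have h2 : Module.finrank F (Submodule.span F ({v, X *ᵥ v} : Set (ι → F))) ≤ 2 := by
      classical
      refine (finrank_span_le_card ({v, X *ᵥ v} : Set (ι → F))).trans ?_
      rw [Set.toFinset_insert, Set.toFinset_singleton]
      exact Finset.card_insert_le _ _ |>.trans (by simp)
    omega
  have h1 : (τ : Matrix ι ι F) * X * ((τ⁻¹ : GL ι F) : Matrix ι ι F) = X :=
    sub_eq_zero.mp hy0
  have h3 : (τ : Matrix ι ι F) * X * ((τ⁻¹ : GL ι F) : Matrix ι ι F) *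
      (τ : Matrix ι ι F) = X * (τ : Matrix ι ι F) := by rw [h1]
  rw [Matrix.mul_assoc, ← Units.val_mul, inv_mul_cancel, Units.val_one, Matrix.mul_one] at h3
  exact h3

/-- a field subalgebra of dimension `r ≥ 2` contains a non-scalar matrix -/
theorem exists_not_scalar_of_isFieldSubalgebra (r : ℕ) (K : Subalgebra F (Matrix ι ι F))
    (hr : 2 ≤ r) (hK : IsFieldSubalgebra r K) :
    ∃ X ∈ K, ¬ ∃ c : F, X = c • (1 : Matrix ι ι F) := by
  by_contra hcon
  push Not at hcon
  have hle1 : K.toSubmodule ≤ Submodule.span F {(1 : Matrix ι ι F)} := by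
    intro x hx
    rw [Submodule.mem_span_singleton]
    obtain ⟨c, hc⟩ := hcon x hx
    exact ⟨c, hc.symm⟩
  have hfin : Module.finrank F K.toSubmodule ≤ 1 :=
    (Submodule.finrank_mono hle1).trans
      ((finrank_span_le_card ({(1 : Matrix ι ι F)} : Set _)).trans (by simp))
  have hKr : Module.finrank F K.toSubmodule = r := hK.finrank_eq
  omega

end generic

variable {m : ℕ}

/-- the linear form `x ↦ f(x, v)` -/
noncomputable def sympDual (v : Fin m ⊕ Fin m → F) : Module.Dual F (Fin m ⊕ Fin m → F) where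
  toFun x := Cfsg.sympForm m F x v
  map_add' x y := Cfsg.Agent.Lib.H4.sympForm_add_left m x y v
  map_smul' c x := by
    rw [RingHom.id_apply, smul_eq_mul]
    exact Cfsg.Agent.Lib.H4.sympForm_smul_left m c x v

/-- **SP2-B3**. -/
theorem not_sp_le_subalgebraNormalizer [Fintype F] (hm : 2 ≤ m) (r : ℕ)
    (K : Subalgebra F (Matrix (Fin m ⊕ Fin m) (Fin m ⊕ Fin m) F)) (hr : r.Prime)
    (hK : IsFieldSubalgebra r K) : ¬ spGL m F ≤ subalgebraNormalizer K := by
  intro hle
  obtain ⟨X, hXK, hXns⟩ := exists_not_scalar_of_isFieldSubalgebra r K hr.two_le hK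
  apply hXns
  apply Cfsg.Agent.Lib.H2.Sp.scalar_of_eigen (by omega) X
  intro v hv
  have hcard : 3 ≤ Fintype.card (Fin m ⊕ Fin m) := by
    simp only [Fintype.card_sum, Fintype.card_fin]; omega
  have hφv : (sympDual (F := F) v) v = 0 := Cfsg.Agent.Lib.H4.sympForm_self m v
  have hτ : ∀ x, ((Cfsg.Agent.Lib.H11.SubspMax.stv v (1 : F) : GL (Fin m ⊕ Fin m) F) :
      Matrix (Fin m ⊕ Fin m) (Fin m ⊕ Fin m) F) *ᵥ x = x + (sympDual (F := F) v) x • v := by
    intro x
    rw [Cfsg.Agent.Lib.H11.SubspMax.stv_mulVec, one_mul]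
    rfl
  have hcomm := commute_of_mem_subalgebraNormalizer hcard r K hK
    (Cfsg.Agent.Lib.H11.SubspMax.stv v (1 : F)) (sympDual (F := F) v) v hφv hτ
    (hle (Cfsg.Agent.Lib.H11.SubspMax.stv_mem_spGL v (1 : F))) X hXK
  -- `X (τ x) = τ (X x)` gives `f(x, v) X v = f(X x, v) v`
  obtain ⟨x, hx⟩ := Cfsg.Agent.Lib.H11.SubspMax.exists_sympForm_ne v hv
  have hx' : Cfsg.sympForm m F x v ≠ 0 := Cfsg.Agent.Lib.H11.SubspMax.sympForm_ne_swap hx
  have h1 := congrArg (fun M => M *ᵥ x) hcomm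
  simp only [← Matrix.mulVec_mulVec] at h1
  rw [hτ, hτ, Matrix.mulVec_add, Matrix.mulVec_smul] at h1
  have h2 : (sympDual (F := F) v) (X *ᵥ x) • v = (sympDual (F := F) v) x • X *ᵥ v :=
    add_left_cancel h1
  refine ⟨(Cfsg.sympForm m F x v)⁻¹ * (sympDual (F := F) v) (X *ᵥ x), ?_⟩
  have h3 : (sympDual (F := F) v) x = Cfsg.sympForm m F x v := rfl
  rw [h3] at h2
  rw [mul_smul, h2, smul_smul, inv_mul_cancel₀ hx', one_smul]

end Cfsg.Agent.Lib.H26.AschSP2
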