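/-
Symplectic Phase 2 (architect helper9), task SP2-B4 (helper26):
`Sp_2m(F)` is contained in no tensor-product subgroup (class 4).
Generic core: no `1 + (rank one)` is a Kronecker product `a ⊗ b` with both factors of size ≥ 2.
-/
import Cfsg.Agent.Lib.H11.AschSDefs
import Cfsg.Agent.Lib.H11.SimMax5

set_option autoImplicit false

namespace Cfsg.Agent.Lib.H26.AschSP2

open Cfsg Cfsg.Geo
open scoped MatrixGroups Matrix Kronecker

variable {F : Type*} [Field F]

/-- a linear functional on `F^n₂`, `n₂ ≥ 2`, kills a non-zero vector -/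
theorem exists_ker_vec {n₂ : ℕ} (h2 : 2 ≤ n₂) (c : Fin n₂ → F) :
    ∃ y : Fin n₂ → F, y ≠ 0 ∧ ∑ l, c l * y l = 0 := by
  set j0 : Fin n₂ := ⟨0, by omega⟩ with hj0
  set j1 : Fin n₂ := ⟨1, by omega⟩ with hj1
  have hj : j0 ≠ j1 := by simp [hj0, hj1, Fin.ext_iff]
  by_cases hc : c j0 = 0
  · refine ⟨Pi.single j0 1, ?_, ?_⟩
    · intro h
      have := congrFun h j0
      simp at this
    · simp [Pi.single_apply, hc]
  · refine ⟨fun l => c j1 * (Pi.single j0 (1 : F) : Fin n₂ → F) l -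
        c j0 * (Pi.single j1 (1 : F) : Fin n₂ → F) l, ?_, ?_⟩
    · intro h
      have := congrFun h j1
      simp [Pi.single_apply, hj, Ne.symm hj] at this
      exact hc this
    · simp only [mul_sub, Finset.sum_sub_distrib]
      simp [Pi.single_apply, Finset.sum_ite_eq', Finset.sum_ite_eq]
      ring

/-- **core**: a Kronecker product with both factors of size at least two is never
`1 + (rank one)`. -/
theorem kronecker_ne_one_add_rank_one {n₁ n₂ : ℕ} (h1 : 2 ≤ n₁) (h2 : 2 ≤ n₂)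
    (a : Matrix (Fin n₁) (Fin n₁) F) (b : Matrix (Fin n₂) (Fin n₂) F)
    (w ψ : Fin n₁ × Fin n₂ → F) (hw : w ≠ 0) (hψ : ψ ≠ 0) :
    a ⊗ₖ b ≠ 1 + Matrix.vecMulVec w ψ := by
  intro hab
  -- the entry equation
  have E : ∀ i k j l, a i k * b j l =
      (if i = k ∧ j = l then 1 else 0) + w (i, j) * ψ (k, l) := by
    intro i k j l
    have := congrFun (congrFun hab (i, j)) (k, l)
    rw [Matrix.kroneckerMap_apply, Matrix.add_apply, Matrix.one_apply, Matrix.vecMulVec_apply] at this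
    rw [this]
    simp only [Prod.mk.injEq]
  -- every `x` is mapped by `a` to a vector "parallel" to it, witnessed through `b`
  have key : ∀ x : Fin n₁ → F, ∃ y : Fin n₂ → F, y ≠ 0 ∧
      ∀ i j, (a *ᵥ x) i * (b *ᵥ y) j = x i * y j := by
    intro x
    obtain ⟨y, hy0, hy⟩ := exists_ker_vec h2 (fun l => ∑ k, ψ (k, l) * x k)
    refine ⟨y, hy0, fun i j => ?_⟩
    simp only [Matrix.mulVec, dotProduct]
    rw [Finset.sum_mul_sum]
    have h1' : ∀ k l, a i k * x k * (b j l * y l) =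
        (if i = k ∧ j = l then x k * y l else 0) + w (i, j) * (ψ (k, l) * x k * y l) := by
      intro k l
      have := E i k j l
      calc a i k * x k * (b j l * y l) = (a i k * b j l) * (x k * y l) := by ring
        _ = ((if i = k ∧ j = l then 1 else 0) + w (i, j) * ψ (k, l)) * (x k * y l) := by rw [this]
        _ = _ := by split_ifs <;> ring
    simp only [h1', Finset.sum_add_distrib, ← Finset.mul_sum]
    have h2' : ∑ k, ∑ l, ψ (k, l) * x k * y l = 0 := by
      rw [Finset.sum_comm]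
      rw [← hy]
      refine Finset.sum_congr rfl fun l _ => ?_
      rw [Finset.sum_mul]
    rw [h2', mul_zero, add_zero]
    simp [ite_and, Finset.sum_ite_eq]
  -- `a` is diagonal
  have hdiag : ∀ i k, i ≠ k → a i k = 0 := by
    intro i k hik
    obtain ⟨y, hy0, hy⟩ := key (Pi.single k 1)
    obtain ⟨j, hj⟩ : ∃ j, y j ≠ 0 := by
      by_contra hcon
      push Not at hcon
      exact hy0 (funext hcon)
    have hkk := hy k j
    have hik' := hy i j
    rw [Matrix.mulVec_single_one] at hkk hik'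
    simp only [Matrix.col_apply, Pi.single_eq_same, one_mul] at hkk
    simp only [Matrix.col_apply, Pi.single_eq_of_ne hik, zero_mul] at hik'
    have hb : (b *ᵥ y) j ≠ 0 := by
      intro h0
      rw [h0, mul_zero] at hkk
      exact hj hkk.symm
    rcases mul_eq_zero.mp hik' with h | h
    · exact h
    · exact absurd h hb
  -- the diagonal entries agree
  have hconst : ∀ k k', a k k = a k' k' := by
    intro k k'
    by_cases hkk' : k = k'
    · rw [hkk']
    obtain ⟨y, hy0, hy⟩ := key (Pi.single k 1 + Pi.single k' 1)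
    obtain ⟨j, hj⟩ : ∃ j, y j ≠ 0 := by
      by_contra hcon
      push Not at hcon
      exact hy0 (funext hcon)
    have e1 := hy k j
    have e2 := hy k' j
    rw [Matrix.mulVec_add, Matrix.mulVec_single_one, Matrix.mulVec_single_one] at e1 e2
    simp only [Pi.add_apply, Matrix.col_apply, Pi.single_eq_same,
      Pi.single_eq_of_ne hkk', Pi.single_eq_of_ne (Ne.symm hkk'), hdiag k k' hkk',
      hdiag k' k (Ne.symm hkk'), add_zero, zero_add, one_mul] at e1 e2
    have hb : (b *ᵥ y) j ≠ 0 := by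
      intro h0
      rw [h0, mul_zero] at e1
      exact hj e1.symm
    have : (a k k - a k' k') * (b *ᵥ y) j = 0 := by rw [sub_mul, e1, e2, sub_self]
    rcases mul_eq_zero.mp this with h | h
    · exact sub_eq_zero.mp h
    · exact absurd h hb
  -- now finish with entries
  obtain ⟨⟨i0, j0⟩, hw0⟩ : ∃ p, w p ≠ 0 := by
    by_contra hcon
    push Not at hcon
    exact hw (funext hcon)
  obtain ⟨⟨k1, l1⟩, hψ1⟩ : ∃ p, ψ p ≠ 0 := by
    by_contra hcon
    push Not at hcon
    exact hψ (funext hcon)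
  -- off-diagonal blocks: `w (i, j) * ψ (k, l) = 0` for `i ≠ k`
  have hoff : ∀ i k j l, i ≠ k → w (i, j) * ψ (k, l) = 0 := by
    intro i k j l hik
    have := E i k j l
    rw [hdiag i k hik, zero_mul, if_neg (fun h => hik h.1), zero_add] at this
    exact this.symm
  have hk1 : k1 = i0 := by
    by_contra hne
    rcases mul_eq_zero.mp (hoff i0 k1 j0 l1 (Ne.symm hne)) with h | h
    · exact hw0 h
    · exact hψ1 h
  subst hk1
  obtain ⟨i1, hi1⟩ : ∃ i1 : Fin n₁, i1 ≠ k1 := by
    by_cases h0 : k1 = ⟨0, by omega⟩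
    · exact ⟨⟨1, by omega⟩, by rw [h0]; simp [Fin.ext_iff]⟩
    · exact ⟨⟨0, by omega⟩, fun h => h0 h.symm⟩
  have hw1 : ∀ j, w (i1, j) = 0 := by
    intro j
    rcases mul_eq_zero.mp (hoff i1 k1 j l1 hi1) with h | h
    · exact h
    · exact absurd h hψ1
  -- `α b = 1` from the block `(i1, i1)`, and `α b = 1 + w ψ` from the block `(k1, k1)`
  have e1 := E i1 i1 j0 l1
  have e2 := E k1 k1 j0 l1
  rw [hw1 j0, zero_mul, add_zero] at e1
  rw [hconst k1 i1, e1] at e2
  have : w (k1, j0) * ψ (k1, l1) = 0 := by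
    have h3 : (if i1 = i1 ∧ j0 = l1 then (1 : F) else 0) = if k1 = k1 ∧ j0 = l1 then 1 else 0 := by
      simp
    rw [h3] at e2
    exact (add_eq_left.mp e2.symm)
  rcases mul_eq_zero.mp this with h | h
  · exact hw0 h
  · exact hψ1 h

section transport

variable {ι : Type} [Fintype ι] [DecidableEq ι]

/-- no `1 + (rank one)` lies in a tensor-product subgroup with both factors of size at least two -/
theorem not_mem_tensorProductSubgroup_of_rank_one (n₁ n₂ : ℕ) (e : ι ≃ Fin n₁ × Fin n₂)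
    (P : GL ι F) (h1 : 2 ≤ n₁) (h2 : 2 ≤ n₂) (g : GL ι F) (w ψ : ι → F) (hw : w ≠ 0) (hψ : ψ ≠ 0)
    (hg : (g : Matrix ι ι F) = 1 + Matrix.vecMulVec w ψ) :
    g ∉ tensorProductSubgroup n₁ n₂ e P := by
  rintro ⟨k', ⟨k, ⟨a, b, hk⟩, rfl⟩, hk'⟩
  -- `g = P * reindex k * P⁻¹`
  have hmat : (g : Matrix ι ι F) = (P : Matrix ι ι F) *
      Matrix.reindex e.symm e.symm (k : Matrix (Fin n₁ × Fin n₂) (Fin n₁ × Fin n₂) F) *
      ((P⁻¹ : GL ι F) : Matrix ι ι F) := by
    rw [← hk']
    rfl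
  -- solve for `k`
  have hPi : ((P⁻¹ : GL ι F) : Matrix ι ι F) * (P : Matrix ι ι F) = 1 := by
    rw [← Units.val_mul, inv_mul_cancel, Units.val_one]
  have hPi' : (P : Matrix ι ι F) * ((P⁻¹ : GL ι F) : Matrix ι ι F) = 1 := by
    rw [← Units.val_mul, mul_inv_cancel, Units.val_one]
  have hk2 : Matrix.reindex e.symm e.symm (k : Matrix (Fin n₁ × Fin n₂) (Fin n₁ × Fin n₂) F) =
      ((P⁻¹ : GL ι F) : Matrix ι ι F) * (g : Matrix ι ι F) * (P : Matrix ι ι F) := by
    rw [hmat]
    simp only [Matrix.mul_assoc]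
    rw [hPi, Matrix.mul_one, ← Matrix.mul_assoc, hPi, Matrix.one_mul]
  set w' : ι → F := ((P⁻¹ : GL ι F) : Matrix ι ι F) *ᵥ w with hw'
  set ψ' : ι → F := ψ ᵥ* (P : Matrix ι ι F) with hψ'
  have hk3 : Matrix.reindex e.symm e.symm (k : Matrix (Fin n₁ × Fin n₂) (Fin n₁ × Fin n₂) F) =
      1 + Matrix.vecMulVec w' ψ' := by
    rw [hk2, hg, Matrix.mul_add, Matrix.add_mul, Matrix.mul_one, hPi, hw', hψ']
    congr 1
    ext i j
    simp only [Matrix.mul_apply, Matrix.vecMulVec_apply, Matrix.mulVec, Matrix.vecMul, dotProduct,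
      Finset.sum_mul, Finset.mul_sum]
    refine Finset.sum_congr rfl fun x _ => Finset.sum_congr rfl fun y _ => ?_
    ring
  have hw'0 : w' ≠ 0 := by
    intro h0
    apply hw
    have := congrArg (fun v => (P : Matrix ι ι F) *ᵥ v) h0
    simp only [hw', Matrix.mulVec_mulVec, hPi', Matrix.one_mulVec, Matrix.mulVec_zero] at this
    exact this
  have hψ'0 : ψ' ≠ 0 := by
    intro h0
    apply hψ
    have := congrArg (fun v => v ᵥ* ((P⁻¹ : GL ι F) : Matrix ι ι F)) h0
    simp only [hψ', Matrix.vecMul_vecMul, hPi', Matrix.vecMul_one, Matrix.zero_vecMul] at this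
    exact this
  -- transport to `Fin n₁ × Fin n₂`
  have hk4 : (k : Matrix (Fin n₁ × Fin n₂) (Fin n₁ × Fin n₂) F) =
      1 + Matrix.vecMulVec (w' ∘ e.symm) (ψ' ∘ e.symm) := by
    ext x y
    have := congrFun (congrFun hk3 (e.symm x)) (e.symm y)
    simp only [Matrix.reindex_apply, Matrix.submatrix_apply, Equiv.symm_symm,
      Equiv.apply_symm_apply, Matrix.add_apply, Matrix.vecMulVec_apply] at this
    rw [this, Matrix.add_apply, Matrix.vecMulVec_apply, Matrix.one_apply, Matrix.one_apply]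
    simp only [Function.comp_apply, EmbeddingLike.apply_eq_iff_eq]
  refine kronecker_ne_one_add_rank_one h1 h2 (a : Matrix (Fin n₁) (Fin n₁) F)
    (b : Matrix (Fin n₂) (Fin n₂) F) (w' ∘ e.symm) (ψ' ∘ e.symm) ?_ ?_ (hk.symm.trans hk4)
  · intro h0
    apply hw'0
    funext i
    have := congrFun h0 (e i)
    simpa using this
  · intro h0
    apply hψ'0
    funext i
    have := congrFun h0 (e i)
    simpa using this

end transport

variable [Fintype F] {m : ℕ}

/-- **SP2-B4**. -/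
theorem not_sp_le_tensorProductSubgroup (n₁ n₂ : ℕ) (e : Fin m ⊕ Fin m ≃ Fin n₁ × Fin n₂)
    (P : GL (Fin m ⊕ Fin m) F) (h1 : 2 ≤ n₁) (h2 : 2 ≤ n₂) :
    ¬ spGL m F ≤ tensorProductSubgroup n₁ n₂ e P := by
  intro hle
  -- `m ≥ 1` since `2m = n₁ n₂ ≥ 4`
  have hcard : m + m = n₁ * n₂ := by
    have := Fintype.card_congr e
    simpa using this
  have hm : 0 < m := by
    by_contra h0
    have : m = 0 := by omega
    subst this
    have : 4 ≤ n₁ * n₂ := Nat.mul_le_mul h1 h2
    omega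
  -- a non-zero vector
  set u : Fin m ⊕ Fin m → F := Pi.single (Sum.inl ⟨0, hm⟩) 1 with hu
  have hu0 : u ≠ 0 := by
    intro h
    have := congrFun h (Sum.inl ⟨0, hm⟩)
    simp [hu] at this
  obtain ⟨y, hy⟩ := Cfsg.Agent.Lib.H11.SubspMax.exists_sympForm_ne u hu0
  have hmem := hle (Cfsg.Agent.Lib.H11.SubspMax.stv_mem_spGL u (1 : F))
  refine not_mem_tensorProductSubgroup_of_rank_one n₁ n₂ e P h1 h2 _ u
    (Matrix.J (Fin m) F *ᵥ u) hu0 ?_ ?_ hmem
  · intro h0
    apply hy
    -- `sympForm u y = - sympForm y u = - y ⬝ᵥ (J u) = 0`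
    rw [Cfsg.Agent.Lib.H4.sympForm_swap]
    unfold Cfsg.sympForm
    rw [h0, dotProduct_zero, neg_zero]
  · show ((Cfsg.Agent.Lib.H11.SubspMax.stv u (1 : F) : GL (Fin m ⊕ Fin m) F) :
      Matrix (Fin m ⊕ Fin m) (Fin m ⊕ Fin m) F) = _
    have : ((Cfsg.Agent.Lib.H11.SubspMax.stv u (1 : F) : GL (Fin m ⊕ Fin m) F) :
      Matrix (Fin m ⊕ Fin m) (Fin m ⊕ Fin m) F) = Cfsg.sympTransvection m u 1 := rfl
    rw [this, Cfsg.sympTransvection, one_smul]

end Cfsg.Agent.Lib.H26.AschSP2
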