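import Mathlib
import Cfsg.Agent.Lib.H2.Ord360a
import Cfsg.Agent.Lib.H5.SimpleTools
import Cfsg.Agent.Lib.L0.HallCentral

/-!
# Groups `G` with a normal simple subgroup `N` of order 360 and index 4 (helper26, for S2488)

The conjugation action of `G` on its ten Sylow `3`-subgroups is `2`-transitive.
-/

set_option autoImplicit false

namespace Cfsg.Agent.Lib.H26.AutA6

open Subgroup MulAction

variable {G : Type*} [Group G] [Finite G]

/-- `N` is a normal simple subgroup of order `360` and index `4`. -/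
structure Hyp (N : Subgroup G) : Prop where
  normal : N.Normal
  simple : IsSimpleGroup N
  cardN : Nat.card N = 360
  idx : N.index = 4

namespace Hyp

variable {N : Subgroup G} (h : Hyp N)
include h

theorem card_G : Nat.card G = 1440 := by
  have := N.card_mul_index
  rw [h.cardN, h.idx] at this
  omega

theorem sylow3_le (P : Sylow 3 G) : (P : Subgroup G) ≤ N := by
  have := h.normal
  intro x hx
  apply Cfsg.Agent.Lib.L0.mem_of_coprime_orderOf_index N x
  rw [h.idx]
  obtain ⟨k, hk⟩ := P.2 ⟨x, hx⟩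
  have hk' : x ^ 3 ^ k = 1 := by simpa using congrArg Subtype.val hk
  have hd : orderOf x ∣ 3 ^ k := orderOf_dvd_of_pow_eq_one hk'
  have hc : Nat.Coprime (3 ^ k) 4 := by
    apply Nat.Coprime.pow_left
    decide
  exact Nat.Coprime.coprime_dvd_left hd hc

theorem card_sylow3_subgroup (P : Sylow 3 G) :
    Nat.card (P : Subgroup G) = 9 ∧ (P : Subgroup G).index = 160 := by
  have := Cfsg.Agent.Lib.H5.sylow_card_and_index P (k := 2) (m := 160)
    (by rw [h.card_G]; norm_num) (by norm_num)
  simpa using this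

theorem card_sylow2_subgroup (P : Sylow 2 G) :
    Nat.card (P : Subgroup G) = 32 ∧ (P : Subgroup G).index = 45 := by
  have := Cfsg.Agent.Lib.H5.sylow_card_and_index P (k := 5) (m := 45)
    (by rw [h.card_G]; norm_num) (by norm_num)
  simpa using this

/-- distinct Sylow 3-subgroups intersect trivially -/
theorem sylow3_inf {P Q : Sylow 3 G} (hPQ : P ≠ Q) :
    (P : Subgroup G) ⊓ (Q : Subgroup G) = ⊥ := by
  have := h.simple
  have hne : P.subtype (h.sylow3_le P) ≠ Q.subtype (h.sylow3_le Q) :=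
    fun e => hPQ (Sylow.subtype_injective e)
  have hinf := Cfsg.Agent.Lib.H2.Ord360.sylow3_inf h.cardN hne
  rw [eq_bot_iff]
  intro x hx
  have hxN : x ∈ N := h.sylow3_le P hx.1
  have : (⟨x, hxN⟩ : N) ∈ ((P.subtype (h.sylow3_le P) : Sylow 3 N) : Subgroup N) ⊓
      ((Q.subtype (h.sylow3_le Q) : Sylow 3 N) : Subgroup N) := by
    constructor
    · show (⟨x, hxN⟩ : N) ∈ (P : Subgroup G).subgroupOf N
      rw [Subgroup.mem_subgroupOf]; exact hx.1
    · show (⟨x, hxN⟩ : N) ∈ (Q : Subgroup G).subgroupOf N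
      rw [Subgroup.mem_subgroupOf]; exact hx.2
  rw [hinf, Subgroup.mem_bot] at this
  rw [Subgroup.mem_bot]
  exact congrArg Subtype.val this

theorem card_sylow3 : Nat.card (Sylow 3 G) = 10 := by
  have := h.simple
  rw [← Cfsg.Agent.Lib.H2.Ord360.card_sylow3 (G := N) h.cardN]
  apply Nat.card_congr
  refine Equiv.ofBijective (fun P => P.subtype (h.sylow3_le P)) ⟨?_, ?_⟩
  · intro P Q e
    exact Sylow.subtype_injective e
  · intro P'
    have hp : IsPGroup 3 ((P' : Subgroup N).map N.subtype) :=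
      P'.2.map N.subtype
    obtain ⟨P, hP⟩ := hp.exists_le_sylow
    refine ⟨P, ?_⟩
    apply Sylow.ext
    have hle : (P' : Subgroup N) ≤ ((P.subtype (h.sylow3_le P) : Sylow 3 N) : Subgroup N) := by
      intro x hx
      show x ∈ (P : Subgroup G).subgroupOf N
      rw [Subgroup.mem_subgroupOf]
      exact hP ⟨x, hx, rfl⟩
    exact P'.3 (P.subtype (h.sylow3_le P)).2 hle

/-- semiregularity of a Sylow 3-subgroup on the other Sylow 3-subgroups -/
theorem eq_one_of_smul_eq {P Q : Sylow 3 G} (hPQ : P ≠ Q) {x : G}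
    (hx : x ∈ P) (hxQ : x • Q = Q) : x = 1 := by
  have h1 : x ∈ (P : Subgroup G) ⊓ normalizer (Q : Set G) :=
    ⟨hx, Sylow.smul_eq_iff_mem_normalizer.mp hxQ⟩
  rw [IsPGroup.inf_normalizer_sylow P.2 Q, h.sylow3_inf hPQ] at h1
  exact Subgroup.mem_bot.mp h1

omit h in
theorem smul_self_of_mem {P : Sylow 3 G} {x : G} (hx : x ∈ P) : x • P = P :=
  Sylow.smul_eq_iff_mem_normalizer.mpr (le_normalizer hx)

theorem smul_injOn {P Q : Sylow 3 G} (hPQ : P ≠ Q) :
    Set.InjOn (fun x : G => x • Q) (P : Set G) := by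
  intro x hx y hy hxy
  have hxy' : x • Q = y • Q := hxy
  have h1 : (y⁻¹ * x) • Q = Q := by rw [mul_smul, hxy', inv_smul_smul]
  have h2 := h.eq_one_of_smul_eq hPQ (mul_mem (inv_mem hy) hx) h1
  exact (inv_mul_eq_one.mp h2).symm

omit h in
theorem smul_ne_self {P Q : Sylow 3 G} (hPQ : P ≠ Q) {x : G} (hx : x ∈ P) : x • Q ≠ P := by
  intro hxQ
  apply hPQ
  have h1 : x⁻¹ • (x • Q) = x⁻¹ • P := by rw [hxQ]
  rw [inv_smul_smul, smul_self_of_mem (inv_mem hx)] at h1
  exact h1.symm

/-- a Sylow 3-subgroup is transitive on the other nine Sylow 3-subgroups -/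
theorem exists_mem_smul_eq {P Q R : Sylow 3 G} (hQ : P ≠ Q) (hR : P ≠ R) :
    ∃ x ∈ P, x • Q = R := by
  classical
  have hsub : (fun x : G => x • Q) '' (P : Set G) ⊆ ({P} : Set (Sylow 3 G))ᶜ := by
    rintro _ ⟨x, hx, rfl⟩
    simp only [Set.mem_compl_iff, Set.mem_singleton_iff]
    exact smul_ne_self hQ hx
  have hP9 : (P : Set G).ncard = 9 := by
    rw [← (h.card_sylow3_subgroup P).1]
    exact (Nat.card_coe_set_eq (P : Set G)).symm
  have hcard : (({P} : Set (Sylow 3 G))ᶜ).ncard ≤ ((fun x : G => x • Q) '' (P : Set G)).ncard := by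
    rw [(h.smul_injOn hQ).ncard_image, Set.ncard_compl, h.card_sylow3,
      Set.ncard_singleton, hP9]
  have heq := Set.eq_of_subset_of_ncard_le hsub hcard (Set.toFinite _)
  have hmem : R ∈ ({P} : Set (Sylow 3 G))ᶜ := by
    simp only [Set.mem_compl_iff, Set.mem_singleton_iff]
    exact fun hh => hR hh.symm
  rw [← heq] at hmem
  obtain ⟨x, hx, hxe⟩ := hmem
  exact ⟨x, hx, hxe⟩

theorem two_pretransitive : IsMultiplyPretransitive G (Sylow 3 G) 2 := by
  rw [is_two_pretransitive_iff]
  intro a b c d hab hcd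
  obtain ⟨P⟩ : Nonempty (Sylow 3 G) := inferInstance
  obtain ⟨g1, hg1⟩ := exists_smul_eq G a P
  obtain ⟨g2, hg2⟩ := exists_smul_eq G c P
  have h1 : P ≠ g1 • b := by
    intro hb
    rw [← hg1] at hb
    exact hab (smul_left_cancel g1 hb)
  have h2 : P ≠ g2 • d := by
    intro hb
    rw [← hg2] at hb
    exact hcd (smul_left_cancel g2 hb)
  obtain ⟨x, hx, hxe⟩ := h.exists_mem_smul_eq h1 h2
  refine ⟨g2⁻¹ * x * g1, ?_, ?_⟩
  · rw [mul_smul, mul_smul, hg1, smul_self_of_mem hx, ← hg2, inv_smul_smul]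
  · rw [mul_smul, mul_smul, hxe, inv_smul_smul]

theorem card_stab (P : Sylow 3 G) : Nat.card (stabilizer G P) = 144 := by
  have hidx : (stabilizer G P).index = Nat.card (Sylow 3 G) := index_stabilizer_of_transitive G P
  have hmi := (stabilizer G P).card_mul_index
  rw [hidx, h.card_sylow3, h.card_G] at hmi
  omega

theorem card_two_point_stab {P Q : Sylow 3 G} (hPQ : P ≠ Q) :
    Nat.card (stabilizer G P ⊓ stabilizer G Q : Subgroup G) = 16 := by
  classical
  have : Fintype (Sylow 3 G) := Fintype.ofFinite _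
  have := h.two_pretransitive
  have hstab : stabilizer G (Function.Embedding.embFinTwo hPQ) = stabilizer G P ⊓ stabilizer G Q := by
    ext g
    simp only [mem_stabilizer_iff, Subgroup.mem_inf]
    constructor
    · intro hg
      constructor
      · have := congrArg (fun f => f 0) hg
        simpa [Function.Embedding.smul_apply, Function.Embedding.embFinTwo_apply_zero] using this
      · have := congrArg (fun f => f 1) hg
        simpa [Function.Embedding.smul_apply, Function.Embedding.embFinTwo_apply_one] using this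
    · rintro ⟨h1, h2⟩
      refine Function.Embedding.ext fun i => ?_
      fin_cases i
      · rw [Function.Embedding.smul_apply]
        exact h1
      · rw [Function.Embedding.smul_apply]
        exact h2
  have hidx : (stabilizer G (Function.Embedding.embFinTwo hPQ)).index = Nat.card (Fin 2 ↪ Sylow 3 G) :=
    index_stabilizer_of_transitive G _
  have hemb : Nat.card (Fin 2 ↪ Sylow 3 G) = 90 := by
    rw [Nat.card_eq_fintype_card, Fintype.card_embedding_eq, Fintype.card_fin,
      ← Nat.card_eq_fintype_card, h.card_sylow3]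
    decide
  have hmi := (stabilizer G (Function.Embedding.embFinTwo hPQ)).card_mul_index
  rw [hidx, hemb, h.card_G, hstab] at hmi
  omega

end Hyp

end Cfsg.Agent.Lib.H26.AutA6
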