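import Mathlib
import Cfsg.Agent.Lib.H26.AutA6A

/-!
# Sylow `2`-subgroups of `G ≥ N` simple of order 360, index 4, intersect nontrivially
(helper26, for S2488)

The Sylow `2`-subgroups of `G` are the setwise stabilizers of the `2`-subsets of the ten
Sylow `3`-subgroups; two such stabilizers always meet nontrivially, by counting.
-/

set_option autoImplicit false

namespace Cfsg.Agent.Lib.H26.AutA6

open Subgroup MulAction
open scoped Pointwise

variable {G : Type*} [Group G] [Finite G]

namespace Hyp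

variable {N : Subgroup G} (h : Hyp N)
include h

theorem orbit_pair [DecidableEq (Sylow 3 G)] {A : Finset (Sylow 3 G)} (hA : A.card = 2) :
    orbit G A = {B : Finset (Sylow 3 G) | B.card = 2} := by
  ext B
  constructor
  · rintro ⟨g, rfl⟩
    show (g • A).card = 2
    rw [Finset.card_smul_finset, hA]
  · intro hB
    have hB' : B.card = 2 := hB
    obtain ⟨a, b, hab, rfl⟩ := Finset.card_eq_two.mp hA
    obtain ⟨c, d, hcd, rfl⟩ := Finset.card_eq_two.mp hB'
    obtain ⟨g, hg1, hg2⟩ := is_two_pretransitive_iff.mp h.two_pretransitive hab hcd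
    refine ⟨g, ?_⟩
    show g • ({a, b} : Finset (Sylow 3 G)) = {c, d}
    rw [Finset.smul_finset_insert, Finset.smul_finset_singleton, hg1, hg2]

theorem card_setStab [DecidableEq (Sylow 3 G)] {A : Finset (Sylow 3 G)} (hA : A.card = 2) :
    Nat.card (stabilizer G A) = 32 := by
  have : Fintype (Sylow 3 G) := Fintype.ofFinite _
  have hidx : (stabilizer G A).index = 45 := by
    rw [MulAction.index_stabilizer, h.orbit_pair hA]
    have : {B : Finset (Sylow 3 G) | B.card = 2} =
        ((Finset.powersetCard 2 (Finset.univ : Finset (Sylow 3 G)) : Finset (Finset (Sylow 3 G))) :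
          Set (Finset (Sylow 3 G))) := by
      ext B
      simp [Finset.mem_powersetCard]
    rw [this, Set.ncard_coe_finset, Finset.card_powersetCard, Finset.card_univ,
      ← Nat.card_eq_fintype_card, h.card_sylow3]
    decide
  have hmi := (stabilizer G A).card_mul_index
  rw [hidx, h.card_G] at hmi
  omega

theorem exists_eq_setStab [DecidableEq (Sylow 3 G)] (H : Sylow 2 G) :
    ∃ A : Finset (Sylow 3 G), A.card = 2 ∧ (H : Subgroup G) = stabilizer G A := by
  have : Fintype (Sylow 3 G) := Fintype.ofFinite _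
  have h10 : Fintype.card (Sylow 3 G) = 10 := by
    rw [← Nat.card_eq_fintype_card, h.card_sylow3]
  obtain ⟨A₀, hA₀⟩ : ∃ A₀ : Finset (Sylow 3 G), A₀.card = 2 := by
    have : 2 ≤ (Finset.univ : Finset (Sylow 3 G)).card := by
      rw [Finset.card_univ, h10]; norm_num
    obtain ⟨t, -, ht⟩ := Finset.exists_subset_card_eq this
    exact ⟨t, ht⟩
  have hc := h.card_setStab hA₀
  have hp : IsPGroup 2 (stabilizer G A₀) := IsPGroup.of_card (n := 5) (by rw [hc]; norm_num)
  obtain ⟨H', hH'⟩ := hp.exists_le_sylow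
  have hH'eq : stabilizer G A₀ = (H' : Subgroup G) := by
    apply Subgroup.eq_of_le_of_card_ge hH'
    rw [hc, (h.card_sylow2_subgroup H').1]
  obtain ⟨g, hg⟩ := MulAction.exists_smul_eq G H' H
  refine ⟨g • A₀, ?_, ?_⟩
  · rw [Finset.card_smul_finset, hA₀]
  · rw [MulAction.stabilizer_smul_eq_stabilizer_map_conj, hH'eq, ← hg, Sylow.smul_def,
      Sylow.pointwise_smul_def]
    rfl

theorem exists_fix_pair [DecidableEq (Sylow 3 G)] {A : Finset (Sylow 3 G)} (hA : A.card = 2)
    {x : Sylow 3 G} (hx : x ∈ A) (y : Sylow 3 G) :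
    ∃ k ∈ stabilizer G A, k ≠ 1 ∧ k • x = x ∧ k • y = y := by
  by_contra hno
  push Not at hno
  have : Fintype (Sylow 3 G) := Fintype.ofFinite _
  have hmem : ∀ s : stabilizer G A, (s : G) • x ∈ A := fun s =>
    (MulAction.mem_stabilizer_finset'.mp s.2) hx
  let f : stabilizer G A → ↥A × Sylow 3 G := fun s => (⟨(s : G) • x, hmem s⟩, (s : G) • y)
  have hf : Function.Injective f := by
    intro s₁ s₂ he
    have h1 : (s₁ : G) • x = (s₂ : G) • x := congrArg (fun p => (p.1 : Sylow 3 G)) he
    have h2 : (s₁ : G) • y = (s₂ : G) • y := congrArg (fun p => p.2) he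
    have hk : ((s₂ : G)⁻¹ * (s₁ : G)) ∈ stabilizer G A := mul_mem (inv_mem s₂.2) s₁.2
    have hkx : ((s₂ : G)⁻¹ * (s₁ : G)) • x = x := by rw [mul_smul, h1, inv_smul_smul]
    have hky : ((s₂ : G)⁻¹ * (s₁ : G)) • y = y := by rw [mul_smul, h2, inv_smul_smul]
    have h3 : (s₂ : G)⁻¹ * (s₁ : G) = 1 := by
      by_contra hne
      exact hno _ hk hne hkx hky
    exact Subtype.ext (inv_mul_eq_one.mp h3).symm
  have hle := Nat.card_le_card_of_injective f hf
  rw [h.card_setStab hA, Nat.card_prod, h.card_sylow3, Nat.card_eq_fintype_card,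
    Fintype.card_coe, hA] at hle
  omega

theorem exists_fix_disjoint [DecidableEq (Sylow 3 G)] {A B : Finset (Sylow 3 G)}
    (hA : A.card = 2) (hB : B.card = 2) (hAB : Disjoint A B) :
    ∃ k ∈ stabilizer G A, k ≠ 1 ∧ k • B = B := by
  by_contra hno
  push Not at hno
  have : Fintype (Sylow 3 G) := Fintype.ofFinite _
  have h10 : Fintype.card (Sylow 3 G) = 10 := by
    rw [← Nat.card_eq_fintype_card, h.card_sylow3]
  have hmem : ∀ s : stabilizer G A,
      (s : G) • B ∈ Finset.powersetCard 2 (Finset.univ \ A) := by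
    intro s
    rw [Finset.mem_powersetCard]
    refine ⟨?_, by rw [Finset.card_smul_finset, hB]⟩
    intro z hz
    rw [Finset.mem_sdiff]
    refine ⟨Finset.mem_univ _, fun hzA => ?_⟩
    obtain ⟨b, hb, rfl⟩ := Finset.mem_smul_finset.mp hz
    have hbA : b ∈ A := (MulAction.mem_stabilizer_finset.mp s.2 b).mp hzA
    exact (Finset.disjoint_left.mp hAB hbA) hb
  let f : stabilizer G A → ↥(Finset.powersetCard 2 (Finset.univ \ A)) :=
    fun s => ⟨(s : G) • B, hmem s⟩
  have hf : Function.Injective f := by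
    intro s₁ s₂ he
    have h1 : (s₁ : G) • B = (s₂ : G) • B := congrArg Subtype.val he
    have hk : ((s₂ : G)⁻¹ * (s₁ : G)) ∈ stabilizer G A := mul_mem (inv_mem s₂.2) s₁.2
    have hkB : ((s₂ : G)⁻¹ * (s₁ : G)) • B = B := by rw [mul_smul, h1, inv_smul_smul]
    have h3 : (s₂ : G)⁻¹ * (s₁ : G) = 1 := by
      by_contra hne
      exact hno _ hk hne hkB
    exact Subtype.ext (inv_mul_eq_one.mp h3).symm
  have hle := Nat.card_le_card_of_injective f hf
  have hsd : (Finset.univ \ A).card = 8 := by
    rw [Finset.card_sdiff_of_subset (Finset.subset_univ A), Finset.card_univ, h10, hA]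
  rw [h.card_setStab hA, Nat.card_eq_fintype_card, Fintype.card_coe, Finset.card_powersetCard,
    hsd] at hle
  revert hle
  decide

theorem setStab_inf_ne_bot [DecidableEq (Sylow 3 G)] {A B : Finset (Sylow 3 G)}
    (hA : A.card = 2) (hB : B.card = 2) :
    stabilizer G A ⊓ stabilizer G B ≠ ⊥ := by
  intro hbot
  have key : ∀ {k : G}, k ∈ stabilizer G A → k • B = B → k = 1 := by
    intro k hk hkB
    have hmem : k ∈ stabilizer G A ⊓ stabilizer G B := ⟨hk, hkB⟩
    rw [hbot] at hmem
    exact Subgroup.mem_bot.mp hmem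
  by_cases hAB : Disjoint A B
  · obtain ⟨k, hk, hk1, hkB⟩ := h.exists_fix_disjoint hA hB hAB
    exact hk1 (key hk hkB)
  · obtain ⟨x, y, hxy, rfl⟩ := Finset.card_eq_two.mp hB
    have hor : x ∈ A ∨ y ∈ A := by
      by_contra hcon
      push Not at hcon
      apply hAB
      rw [Finset.disjoint_right]
      intro z hz
      rw [Finset.mem_insert, Finset.mem_singleton] at hz
      rcases hz with rfl | rfl
      · exact hcon.1
      · exact hcon.2
    rcases hor with hx | hy
    · obtain ⟨k, hk, hk1, hkx, hky⟩ := h.exists_fix_pair hA hx y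
      apply hk1 (key hk _)
      rw [Finset.smul_finset_insert, Finset.smul_finset_singleton, hkx, hky]
    · obtain ⟨k, hk, hk1, hky, hkx⟩ := h.exists_fix_pair hA hy x
      apply hk1 (key hk _)
      rw [Finset.smul_finset_insert, Finset.smul_finset_singleton, hkx, hky]

theorem sylow2_inf_conj_ne_bot (H : Sylow 2 G) (x : G) :
    (H : Subgroup G) ⊓ MulAut.conj x • (H : Subgroup G) ≠ ⊥ := by
  classical
  obtain ⟨A, hA, hHA⟩ := h.exists_eq_setStab H
  have hconj : MulAut.conj x • (H : Subgroup G) = stabilizer G (x • A) := by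
    rw [MulAction.stabilizer_smul_eq_stabilizer_map_conj, hHA]
    rfl
  rw [hconj, hHA]
  exact h.setStab_inf_ne_bot hA (by rw [Finset.card_smul_finset, hA])

end Hyp

end Cfsg.Agent.Lib.H26.AutA6
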