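import Mathlib
import Cfsg.Agent.Lib.H26.AxZJ
import Cfsg.Agent.Lib.L0.GlaubermanNPC

/-!
An axiomatic Glauberman--Thompson normal `p`-complement theorem for groups (helper26), through
lead's `LocalHyp` reduction.  `AxFam p X T 𝒜`: `𝒜` is a nonempty family of abelian subgroups of
the `p`-subgroup `T` of `X` such that `N_X(Q)` normalizes `I(Q)` for every `Q ≤ T` containing a
member of `𝒜`, the replacement property holds for the subgroups of `T` of class at most two, and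
`N_X(I(T))` has a normal `p`-complement.
-/

set_option autoImplicit false

universe u

namespace Cfsg.Agent.Lib.H26.AxZJ

open Cfsg.Agent.Lib Cfsg.Agent.Lib.L0
open scoped commutatorElement

/-- The axioms on the family. -/
structure AxFam (p : ℕ) (X : Type u) [Group X] (T : Subgroup X) (𝒜 : Set (Subgroup X)) : Prop where
  ne : 𝒜.Nonempty
  ab : ∀ A ∈ 𝒜, A ≤ T ∧ ∀ x ∈ A, ∀ y ∈ A, x * y = y * x
  inv : ∀ Q : Subgroup X, Q ≤ T → (∃ A ∈ 𝒜, A ≤ Q) →
    Subgroup.normalizer (Q : Set X) ≤ Subgroup.normalizer ((II 𝒜 Q : Subgroup X) : Set X)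
  rep : ∀ B : Subgroup X, B ≤ T → ⁅⁅B, B⁆, B⁆ = ⊥ → (∃ A ∈ 𝒜, ⁅B, B⁆ ≤ A ∧ ¬ B ≤ A) →
    ∃ A ∈ 𝒜, ¬ B ≤ A ∧ B ≤ Subgroup.normalizer (A : Set X)
  npc : Cfsg.HasNormalPComplement p ↥(Subgroup.normalizer ((II 𝒜 T : Subgroup X) : Set X))

/-- The hypothesis: some family satisfies the axioms. -/
def AxHyp (p : ℕ) : ∀ (X : Type u) [Group X], Subgroup X → Prop := fun X _ T =>
  ∃ 𝒜 : Set (Subgroup X), AxFam p X T 𝒜

section transport

variable {X Y : Type u} [Group X] [Group Y] (f : X →* Y) {T : Subgroup X}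

theorem map_le_map_iff_of_injOn (hf : Set.InjOn f (T : Set X)) {A B : Subgroup X} (hA : A ≤ T)
    (hB : B ≤ T) : A.map f ≤ B.map f ↔ A ≤ B := by
  constructor
  · intro h a ha
    obtain ⟨b, hb, hba⟩ := h ⟨a, ha, rfl⟩
    have := hf (hB hb) (hA ha) hba
    rw [← this]
    exact hb
  · exact fun h => Subgroup.map_mono h

theorem map_inf_comap_eq {Q' : Subgroup Y} (hQ' : Q' ≤ T.map f) :
    (T ⊓ Q'.comap f).map f = Q' := by
  apply le_antisymm
  · rintro _ ⟨x, hx, rfl⟩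
    exact hx.2
  · intro y hy
    obtain ⟨x, hx, rfl⟩ := hQ' hy
    exact ⟨x, ⟨hx, hy⟩, rfl⟩

theorem II_map (hf : Set.InjOn f (T : Set X)) {𝒜 : Set (Subgroup X)} (h𝒜 : ∀ A ∈ 𝒜, A ≤ T)
    {Q : Subgroup X} (hQ : Q ≤ T) (hex : ∃ A ∈ 𝒜, A ≤ Q) :
    II ((fun A : Subgroup X => A.map f) '' 𝒜) (Q.map f) = (II 𝒜 Q).map f := by
  ext y
  rw [mem_II]
  constructor
  · intro h
    obtain ⟨A₀, hA₀, hA₀Q⟩ := hex
    obtain ⟨x₀, hx₀, rfl⟩ := h _ ⟨A₀, hA₀, rfl⟩ (Subgroup.map_mono hA₀Q)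
    refine ⟨x₀, mem_II.2 (fun A hA hAQ => ?_), rfl⟩
    obtain ⟨x, hx, hxy⟩ := h _ ⟨A, hA, rfl⟩ (Subgroup.map_mono hAQ)
    have := hf (h𝒜 A hA hx) (h𝒜 A₀ hA₀ hx₀) hxy
    rw [← this]
    exact hx
  · rintro ⟨x, hx, rfl⟩ A' ⟨A, hA, rfl⟩ hAQ
    have hAQ' : A ≤ Q := (map_le_map_iff_of_injOn f hf (h𝒜 A hA) hQ).1 hAQ
    exact ⟨x, mem_II.1 hx A hA hAQ', rfl⟩

theorem class_two_map_iff (hf : Set.InjOn f (T : Set X)) {B : Subgroup X} (hB : B ≤ T) :
    ⁅⁅B.map f, B.map f⁆, B.map f⁆ = ⊥ ↔ ⁅⁅B, B⁆, B⁆ = ⊥ := by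
  rw [← Subgroup.map_commutator, ← Subgroup.map_commutator]
  have hBB : ⁅B, B⁆ ≤ B := Subgroup.commutator_le.2 (fun a ha b hb => by
    rw [commutatorElement_def]
    exact B.mul_mem (B.mul_mem (B.mul_mem ha hb) (B.inv_mem ha)) (B.inv_mem hb))
  have hle : ⁅⁅B, B⁆, B⁆ ≤ T := (Subgroup.commutator_le.2 (fun a ha b hb => by
    rw [commutatorElement_def]
    exact B.mul_mem (B.mul_mem (B.mul_mem (hBB ha) hb) (B.inv_mem (hBB ha))) (B.inv_mem hb))).trans hB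
  constructor
  · intro h
    rw [eq_bot_iff]
    intro x hx
    have h1 : f x ∈ (⁅⁅B, B⁆, B⁆).map f := ⟨x, hx, rfl⟩
    rw [h, Subgroup.mem_bot] at h1
    rw [Subgroup.mem_bot]
    exact hf (hle hx) T.one_mem (h1.trans (map_one f).symm)
  · intro h
    rw [h, Subgroup.map_bot]

theorem mem_normalizer_of_map_mem (hf : Function.Injective f) {H : Subgroup X} {g : X}
    (hg : f g ∈ Subgroup.normalizer ((H.map f : Subgroup Y) : Set Y)) :
    g ∈ Subgroup.normalizer (H : Set X) := by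
  rw [Subgroup.mem_normalizer_iff] at hg ⊢
  intro x
  have h1 := hg (f x)
  rw [Subgroup.mem_map_iff_mem hf] at h1
  have h2 : f g * f x * (f g)⁻¹ = f (g * x * g⁻¹) := by
    rw [map_mul, map_mul, map_inv]
  rw [h2, Subgroup.mem_map_iff_mem hf] at h1
  exact h1

variable {p : ℕ} [hp : Fact p.Prime]

/-- The axioms pass to the image under a homomorphism injective on `T` that carries normalizers of
subgroups of `T` onto normalizers. -/
theorem AxFam.map [Finite X] (hf : Set.InjOn f (T : Set X))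
    (hnorm : ∀ Q : Subgroup X, Q ≤ T → Subgroup.normalizer ((Q.map f : Subgroup Y) : Set Y) =
      (Subgroup.normalizer (Q : Set X)).map f)
    {𝒜 : Set (Subgroup X)} (h : AxFam p X T 𝒜) :
    AxFam p Y (T.map f) ((fun A : Subgroup X => A.map f) '' 𝒜) := by
  have h𝒜 : ∀ A ∈ 𝒜, A ≤ T := fun A hA => (h.ab A hA).1
  obtain ⟨A₀, hA₀⟩ := h.ne
  refine ⟨⟨_, A₀, hA₀, rfl⟩, ?_, ?_, ?_, ?_⟩
  · rintro _ ⟨A, hA, rfl⟩
    refine ⟨Subgroup.map_mono (h𝒜 A hA), ?_⟩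
    rintro _ ⟨x, hx, rfl⟩ _ ⟨y, hy, rfl⟩
    rw [← map_mul, ← map_mul, (h.ab A hA).2 x hx y hy]
  · rintro Q' hQ' ⟨_, ⟨A, hA, rfl⟩, hAQ'⟩
    set Q := T ⊓ Q'.comap f with hQdef
    have hQT : Q ≤ T := inf_le_left
    have hQmap : Q.map f = Q' := map_inf_comap_eq f hQ'
    have hAQ : A ≤ Q := by
      rw [← hQmap] at hAQ'
      exact (map_le_map_iff_of_injOn f hf (h𝒜 A hA) hQT).1 hAQ'
    rw [← hQmap, II_map f hf h𝒜 hQT ⟨A, hA, hAQ⟩, hnorm Q hQT]
    exact (Subgroup.map_mono (h.inv Q hQT ⟨A, hA, hAQ⟩)).trans (Subgroup.le_normalizer_map f)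
  · rintro B' hB' hcl ⟨_, ⟨A, hA, rfl⟩, hBA, hnBA⟩
    set B := T ⊓ B'.comap f with hBdef
    have hBT : B ≤ T := inf_le_left
    have hBmap : B.map f = B' := map_inf_comap_eq f hB'
    rw [← hBmap] at hcl hBA hnBA
    have hcl' : ⁅⁅B, B⁆, B⁆ = ⊥ := (class_two_map_iff f hf hBT).1 hcl
    have hBBT : ⁅B, B⁆ ≤ T := by
      refine (Subgroup.commutator_le.2 (fun a ha b hb => ?_)).trans hBT
      rw [commutatorElement_def]
      exact B.mul_mem (B.mul_mem (B.mul_mem ha hb) (B.inv_mem ha)) (B.inv_mem hb)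
    have hBA' : ⁅B, B⁆ ≤ A := by
      rw [← Subgroup.map_commutator] at hBA
      exact (map_le_map_iff_of_injOn f hf hBBT (h𝒜 A hA)).1 hBA
    have hnBA' : ¬ B ≤ A := fun hle => hnBA (Subgroup.map_mono hle)
    obtain ⟨A₁, hA₁, hnBA₁, hBN⟩ := h.rep B hBT hcl' ⟨A, hA, hBA', hnBA'⟩
    refine ⟨A₁.map f, ⟨A₁, hA₁, rfl⟩, ?_, ?_⟩
    · rw [← hBmap]
      intro hle
      exact hnBA₁ ((map_le_map_iff_of_injOn f hf hBT (h𝒜 A₁ hA₁)).1 hle)
    · rw [← hBmap]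
      exact (Subgroup.map_mono hBN).trans (Subgroup.le_normalizer_map f)
  · have hII : II ((fun A : Subgroup X => A.map f) '' 𝒜) (T.map f) = (II 𝒜 T).map f :=
      II_map f hf h𝒜 le_rfl ⟨A₀, hA₀, h𝒜 A₀ hA₀⟩
    have hIIT : II 𝒜 T ≤ T := (II_le_of_mem hA₀ (h𝒜 A₀ hA₀)).trans (h𝒜 A₀ hA₀)
    rw [hII, hnorm _ hIIT]
    exact HasNormalPComplement.of_surjective (f.subgroupMap _) (f.subgroupMap_surjective _) h.npc

/-- The axioms pass to the preimage under an injective homomorphism. -/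
theorem AxFam.comap [Finite Y] (hf : Function.Injective f) {𝒜' : Set (Subgroup Y)}
    (h : AxFam p Y (T.map f) 𝒜') : AxFam p X T {A : Subgroup X | A.map f ∈ 𝒜'} := by
  haveI : Finite X := Finite.of_injective f hf
  set 𝒜 : Set (Subgroup X) := {A : Subgroup X | A.map f ∈ 𝒜'} with h𝒜def
  have hrange : ∀ A' ∈ 𝒜', (A'.comap f).map f = A' := by
    intro A' hA'
    rw [Subgroup.map_comap_eq_self]
    exact ((h.ab A' hA').1).trans (Subgroup.map_le_range f T)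
  have himg : (fun A : Subgroup X => A.map f) '' 𝒜 = 𝒜' := by
    ext A'
    constructor
    · rintro ⟨A, hA, rfl⟩
      exact hA
    · intro hA'
      refine ⟨A'.comap f, ?_, hrange A' hA'⟩
      show (A'.comap f).map f ∈ 𝒜'
      rw [hrange A' hA']
      exact hA'
  have h𝒜T : ∀ A ∈ 𝒜, A ≤ T := by
    intro A hA
    have := (h.ab _ hA).1
    exact (Subgroup.map_le_map_iff_of_injective hf).1 this
  obtain ⟨A₀', hA₀'⟩ := h.ne
  have hA₀ : A₀'.comap f ∈ 𝒜 := by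
    show (A₀'.comap f).map f ∈ 𝒜'
    rw [hrange A₀' hA₀']
    exact hA₀'
  refine ⟨⟨_, hA₀⟩, ?_, ?_, ?_, ?_⟩
  · intro A hA
    refine ⟨h𝒜T A hA, fun x hx y hy => ?_⟩
    apply hf
    rw [map_mul, map_mul]
    exact (h.ab _ hA).2 (f x) ⟨x, hx, rfl⟩ (f y) ⟨y, hy, rfl⟩
  · rintro Q hQT ⟨A, hA, hAQ⟩ g hg
    apply mem_normalizer_of_map_mem f hf
    rw [← II_map f hf.injOn h𝒜T hQT ⟨A, hA, hAQ⟩, himg]
    apply h.inv (Q.map f) (Subgroup.map_mono hQT) ⟨A.map f, hA, Subgroup.map_mono hAQ⟩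
    exact Subgroup.le_normalizer_map f ⟨g, hg, rfl⟩
  · rintro B hBT hcl ⟨A, hA, hBA, hnBA⟩
    have hcl' : ⁅⁅B.map f, B.map f⁆, B.map f⁆ = ⊥ := (class_two_map_iff f hf.injOn hBT).2 hcl
    have hBA' : ⁅B.map f, B.map f⁆ ≤ A.map f := by
      rw [← Subgroup.map_commutator]
      exact Subgroup.map_mono hBA
    have hnBA' : ¬ B.map f ≤ A.map f := fun hle =>
      hnBA ((Subgroup.map_le_map_iff_of_injective hf).1 hle)
    obtain ⟨A₁', hA₁', hnBA₁, hBN⟩ := h.rep (B.map f) (Subgroup.map_mono hBT) hcl'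
      ⟨A.map f, hA, hBA', hnBA'⟩
    refine ⟨A₁'.comap f, ?_, ?_, ?_⟩
    · show (A₁'.comap f).map f ∈ 𝒜'
      rw [hrange A₁' hA₁']
      exact hA₁'
    · intro hle
      apply hnBA₁
      rw [← hrange A₁' hA₁']
      exact Subgroup.map_mono hle
    · intro b hb
      apply mem_normalizer_of_map_mem f hf
      rw [hrange A₁' hA₁']
      exact hBN ⟨b, hb, rfl⟩
  · have hII : II 𝒜' (T.map f) = (II 𝒜 T).map f := by
      rw [← himg]
      exact II_map f hf.injOn h𝒜T le_rfl ⟨_, hA₀, h𝒜T _ hA₀⟩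
    have h1 := h.npc
    rw [hII] at h1
    have h3 := HasNormalPComplement.of_le (Subgroup.le_normalizer_map f) h1
    exact HasNormalPComplement.of_mulEquiv (Subgroup.equivMapOfInjective _ f hf).symm h3

end transport

section main

variable {p : ℕ} [hp : Fact p.Prime]

/-- The combined hypothesis: the axiomatic one, or lead's `ZJAHyp`. -/
def AxOrZJ (p : ℕ) : ∀ (X : Type u) [Group X], Subgroup X → Prop := fun X _ T =>
  AxHyp p X T ∨ ZJAHyp p X T

theorem axOrZJ_localHyp : LocalHyp.{u} p (AxOrZJ p) where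
  of_injective := by
    intro X Y _ _ _ f hf T hT
    rcases hT with ⟨𝒜', h⟩ | h
    · exact Or.inl ⟨_, h.comap f hf⟩
    · exact Or.inr (zjaHyp_localHyp.of_injective f hf T h)
  quotient := by
    intro X _ _ N _ hN T hT hHyp
    rcases hHyp with ⟨𝒜, h⟩ | h
    · refine Or.inl ⟨_, h.map (QuotientGroup.mk' N) (injOn_mk_of_coprime N hN T hT) ?_⟩
      intro Q hQT
      exact (H7.map_normalizer_of_coprime p hN (hT.to_le hQT)).symm
    · exact Or.inr (zjaHyp_localHyp.quotient N hN T hT h)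
  of_normalizers := by
    intro X _ _ T hT hTne hU
    exact Or.inr (zjaHyp_localHyp.of_normalizers T hT hTne hU)

theorem axOrZJ_final (hp2 : p ≠ 2) (X : Type u) [Group X] [Finite X]
    (hF : FinalConfig p (AxOrZJ p) X) : False := by
  obtain ⟨P⟩ : Nonempty (Sylow p X) := inferInstance
  rcases hF.hyp P with ⟨𝒜, h⟩ | h
  · obtain ⟨H, K, hS⟩ := hF.exists_struct
    have hcore := pCore_eq_of_struct hS
    have hc : Subgroup.centralizer (Cfsg.pCore p X : Set X) ≤ Cfsg.pCore p X := by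
      rw [hcore]; exact hS.hcent
    have hn : (II 𝒜 (P : Subgroup X)).Normal := by
      apply II_normal 𝒜 P h.ab h.ne h.inv _ hc (fun B _ hB => isPStableOn_of_struct hp2 hS B hB)
      intro B hBn hBp hcl hex
      exact h.rep B (hBp.le_sylow_of_normal P) hcl hex
    have hJ := h.npc
    rw [Subgroup.normalizer_eq_top_iff.mpr hn, hasNormalPComplement_top_iff] at hJ
    exact hF.not_npc hJ
  · apply zja_final hp2 X
    exact ⟨hF.not_npc, fun P' => zjaHyp_localHyp.sylow_conj P h P', hF.proper, hF.pprime,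
      hF.pcore⟩

/-- **The axiomatic Glauberman--Thompson theorem for groups**, `p` odd. -/
theorem ax_npc (hp2 : p ≠ 2) (G : Type u) [Group G] [Finite G] (P : Sylow p G)
    (𝒜 : Set (Subgroup G)) (h : AxFam p G (P : Subgroup G) 𝒜) :
    Cfsg.HasNormalPComplement p G :=
  npc_of_localHyp axOrZJ_localHyp (axOrZJ_final hp2) G P (Or.inl ⟨𝒜, h⟩)

end main

end Cfsg.Agent.Lib.H26.AxZJ
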