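import Mathlib
import Cfsg.Agent.Lib.H26.NilMain
import Cfsg.Agent.Lib.H26.NormCtl
import Cfsg.Agent.Lib.H26.CtlBasic

set_option autoImplicit false

/-!
**Sparse fusion systems are constrained** (helper26; after Glesser).  Let `W` be a positive
characteristic `p`-functor satisfying the normal `p`-complement criterion in groups of
characteristic `p`.  A saturated fusion system `F` over `S`, not all of whose automizers are
`p`-groups, in which every saturated subsystem over `S` either is `F` or has all automizers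
`p`-groups, is constrained.  Consequently every saturated system that is not the inner system
contains a constrained saturated subsystem over `S` that is not inner.
-/

namespace Cfsg.Agent.Lib.H26.Sparse

open Cfsg Cfsg.FusionSystem Cfsg.Agent.Lib.H25 Cfsg.Agent.Lib.H26 Cfsg.Agent.Lib.H26.Nil
  Cfsg.Agent.Lib.H26.Model Cfsg.Agent.Lib.H26.ZJ Cfsg.Agent.Lib.H26.Ctl

universe u

variable {Ω : Type u} [Group Ω] {S : Subgroup Ω}

variable {p : ℕ} [Fact p.Prime] (W : PFun.{u} p)

variable (hG : ∀ (G : Type u) [Group G] [Finite G] (P : Sylow p G),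
    Subgroup.centralizer ((pCore p G : Subgroup G) : Set G) ≤ pCore p G →
    Cfsg.HasNormalPComplement p
      ↥(Subgroup.normalizer ((W.W (P : Subgroup G) : Subgroup G) : Set G)) →
    Cfsg.HasNormalPComplement p G)

/-- In a sparse system a subgroup normal in `S` whose normalizer system is not nilpotent is
normal in the system. -/
theorem isNormal_of_sparse_of_NT [Finite S] (hS : IsPGroup p S) {F : FusionSystem S}
    (hF : F.IsSaturated p)
    (hsp : ∀ E : FusionSystem S, E.IsSaturated p → (∀ P : Subgroup Ω, E.Hom P ⊆ F.Hom P) →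
      (∀ P : Subgroup Ω, F.Hom P ⊆ E.Hom P) ∨ AllP p E)
    {X : Subgroup Ω} (hXS : X ≤ S) (hXn : normalizerIn S X = S) (hnt : NT p F X) :
    F.IsNormal X := by
  have hXfn : F.IsFullyNormalized X := isFullyNormalized_of_normalizerIn_eq hXS hXn
  obtain ⟨N, hNhom, hNsat, -⟩ := exists_normalizer_on_top hS hF hXfn hXn
  have hNF : ∀ P : Subgroup Ω, N.Hom P ⊆ F.Hom P := hom_le_of_normalizer hNhom
  have hNnot : ¬ AllP p N := not_allP_of_NT hXS hNhom hnt
  rcases hsp N hNsat hNF with h | h
  · exact isNormal_of_hom_le hXS hNhom h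
  · exact absurd h hNnot

include hG in
/-- **Sparse systems are constrained.** -/
theorem constrained_of_sparse [Finite S] (hS : IsPGroup p S) {F : FusionSystem S}
    (hF : F.IsSaturated p) (hnot : ¬ AllP p F)
    (hsp : ∀ E : FusionSystem S, E.IsSaturated p → (∀ P : Subgroup Ω, E.Hom P ⊆ F.Hom P) →
      (∀ P : Subgroup Ω, F.Hom P ⊆ E.Hom P) ∨ AllP p E) : F.IsConstrained p := by
  classical
  have hSne : S ≠ ⊥ := fun h => hnot (allP_of_eq_bot h)
  -- `W(S)` is normal in `F`
  have hWS : W.W S ≤ S := W.le S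
  have hWn : normalizerIn S (W.W S) = S := W.normalizerIn_self S hS
  have hWnt : NT p F (W.W S) := by
    by_contra h
    exact hnot (goal_all W hG (Nat.card S) rfl hS F hF h)
  have hWnorm : F.IsNormal (W.W S) := isNormal_of_sparse_of_NT hS hF hsp hWS hWn hWnt
  have hWne : W.W S ≠ ⊥ := W.ne_bot S inferInstance hS hSne
  -- a normal subgroup of largest order
  have hfin : {Q : Subgroup Ω | F.IsNormal Q ∧ Q ≠ ⊥}.Finite :=
    (finite_subgroups_le S).subset (fun Q hQ => hQ.1.1)
  obtain ⟨Q, ⟨hQ, hQne⟩, hQmax⟩ := Set.exists_max_image _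
    (fun Q : Subgroup Ω => Nat.card Q) hfin ⟨W.W S, hWnorm, hWne⟩
  have hQsc := isNormal_stronglyClosed hQ
  have hQS := hQ.1
  have hfinQ : Finite Q := finite_of_le S hQS
  have hmax : ∀ R : Subgroup Ω, Q < R → ¬ F.IsNormal R := by
    intro R hQR hR
    have hRne : R ≠ ⊥ := by
      rintro rfl
      exact not_lt_bot hQR
    have h1 : Nat.card R ≤ Nat.card Q := hQmax R ⟨hR, hRne⟩
    have h2 := card_lt_of_lt' hR.1 hQR
    omega
  -- the quotient system
  obtain ⟨Ω', _, S', F', θ, hsm, hker, -⟩ := exists_factor hS hF hQsc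
  have hrange := hsm.2.1
  have hfinS' : Finite S' := finite_S' hrange
  have hS'p : IsPGroup p S' := isPGroup_S' hrange hS
  have hK : F.StronglyClosed (kerSub θ) := hker ▸ hQsc
  have hF'sat : F'.IsSaturated p := isSaturated_of_surjectiveMorphism hS hF hsm
  have hallF' : AllP p F' := by
    by_cases hS'bot : S' = ⊥
    · exact allP_of_eq_bot hS'bot
    apply goal_all W hG (Nat.card S') rfl hS'p F' hF'sat
    intro hnt
    have h1 := lift_NT hsm hK hnt
    have hWS' : W.W S' ≤ S' := W.le S'
    have hlt : Q < preimageAlong θ (W.W S') := by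
      rw [← hker]
      refine lt_of_le_of_ne (kerSub_le_pre θ _) ?_
      intro heq
      have h2 : (⊥ : Subgroup Ω') = W.W S' := pre_injective hrange bot_le hWS' heq
      exact W.ne_bot S' hfinS' hS'p hS'bot h2.symm
    have hRn : normalizerIn S (preimageAlong θ (W.W S')) = S := by
      rw [normalizerIn_pre hrange hWS']
      rw [W.normalizerIn_self S' hS'p, pre_top hrange]
    have hRS : preimageAlong θ (W.W S') ≤ S := by
      obtain ⟨P, f, hRP, hPN, -⟩ := h1
      exact hRP.trans (hPN.trans inf_le_left)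
    exact hmax _ hlt (isNormal_of_sparse_of_NT hS hF hsp hRS hRn h1)
  -- automorphisms centralizing `Q` are `p`-elements
  obtain ⟨m, hm⟩ := (hS.to_le hQS).exists_card_eq
  have hstab : ∀ (P : Subgroup Ω) (f : Ω → Ω), IsIso F P P f → Q ≤ P → (∀ x ∈ Q, f x = x) →
      IsPAut p P f := by
    intro P f hf hQP hfix
    exact push_isPAut hsm.1 hallF' hf (hker ▸ hQP) (hker ▸ hfix) (hker ▸ hm)
  have hRn := isNormal_sup_centralizer hS hF hQ hstab
  have hC : centralizerIn S Q ≤ Q := by
    by_contra hC
    refine hmax (Q ⊔ centralizerIn S Q) ?_ hRn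
    refine lt_of_le_of_ne le_sup_left ?_
    intro heq
    exact hC ((le_sup_right : centralizerIn S Q ≤ Q ⊔ centralizerIn S Q).trans (le_of_eq heq.symm))
  exact ⟨hF, Q, hQ, isCentric_of_isNormal hQ hC⟩

include hG in
/-- Every saturated system that is not nilpotent contains a constrained saturated subsystem over
the same group that is not nilpotent. -/
theorem exists_constrained_sub [Finite S] (hS : IsPGroup p S) {F : FusionSystem S}
    (hF : F.IsSaturated p) (hnot : ¬ AllP p F) :
    ∃ E : FusionSystem S, (∀ P : Subgroup Ω, E.Hom P ⊆ F.Hom P) ∧ E.IsConstrained p ∧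
      ¬ AllP p E := by
  classical
  -- a non-nilpotent saturated subsystem with the fewest maps
  have hex : ∃ k : ℕ, ∃ E : FusionSystem S, msize E = k ∧ E.IsSaturated p ∧
      (∀ P : Subgroup Ω, E.Hom P ⊆ F.Hom P) ∧ ¬ AllP p E :=
    ⟨msize F, F, rfl, hF, fun P => subset_rfl, hnot⟩
  obtain ⟨E, hk, hEsat, hEF, hEnot⟩ := Nat.find_spec hex
  have hmin := fun k hk' => Nat.find_min hex (m := k) hk'
  refine ⟨E, hEF, ?_, hEnot⟩
  apply constrained_of_sparse W hG hS hEsat hEnot
  intro E' hE'sat hE'E
  by_contra hcon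
  push Not at hcon
  obtain ⟨⟨P₀, hP₀⟩, hE'not⟩ := hcon
  obtain ⟨φ₀, hφ₀, hφ₀'⟩ := Set.not_subset.1 hP₀
  have hlt : msize E' < msize E := msize_lt hE'E hφ₀ hφ₀'
  exact hmin (msize E') (hk ▸ hlt)
    ⟨E', rfl, hE'sat, fun P => (hE'E P).trans (hEF P), hE'not⟩

end Cfsg.Agent.Lib.H26.Sparse
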