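import Mathlib
import Cfsg.Agent.Lib.H26.Sparse

set_option autoImplicit false

/-!
Nilpotency criteria for saturated fusion systems through models of constrained subsystems
(helper26).  If the model of every constrained saturated subsystem of `F` over `S` has a normal
`p`-complement, then all automizers of `F` are `p`-groups.
-/

namespace Cfsg.Agent.Lib.H26.Sparse

open Cfsg Cfsg.FusionSystem Cfsg.Agent.Lib.H25 Cfsg.Agent.Lib.H26 Cfsg.Agent.Lib.H26.Nil
  Cfsg.Agent.Lib.H26.Model Cfsg.Agent.Lib.H26.ZJ Cfsg.Agent.Lib.H26.Ctl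

universe u

variable {Ω : Type u} [Group Ω] {S : Subgroup Ω}

variable {p : ℕ} [Fact p.Prime] (W : PFun.{u} p)

variable (hG : ∀ (G : Type u) [Group G] [Finite G] (P : Sylow p G),
    Subgroup.centralizer ((pCore p G : Subgroup G) : Set G) ≤ pCore p G →
    Cfsg.HasNormalPComplement p
      ↥(Subgroup.normalizer ((W.W (P : Subgroup G) : Subgroup G) : Set G)) →
    Cfsg.HasNormalPComplement p G)

include hG in
/-- **Reduction to models**: if the models of the constrained saturated subsystems of `F` over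
`S` have normal `p`-complements, all automizers of `F` are `p`-groups. -/
theorem allP_of_models [Finite S] (hS : IsPGroup p S) {F : FusionSystem S}
    (hF : F.IsSaturated p)
    (hcrit : ∀ E : FusionSystem S, E.IsSaturated p → (∀ P : Subgroup Ω, E.Hom P ⊆ F.Hom P) →
      ∀ (G : Type u) [Group G] (ι : S →* G), E.IsModel p G ι → Cfsg.HasNormalPComplement p G) :
    AllP p F := by
  by_contra hnot
  obtain ⟨E, hEF, ⟨hEsat, Q, hQ, hQc⟩, hEnot⟩ := exists_constrained_sub W hG hS hF hnot
  obtain ⟨G, _, ι, π, hM, -⟩ := exists_model_normal_centric hS hEsat hQ hQc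
  have hnpc := hcrit E hEsat hEF G ι hM
  obtain ⟨hfinG, hreal, hsyl, hcent⟩ := hM
  exact hEnot (allP_of_npc hS hreal hnpc)

/-- A subgroup strongly closed in a realized system has strongly closed image. -/
theorem isStronglyClosed_imgOf {F : FusionSystem S} {G : Type u} [Group G] {ι : S →* G}
    (hreal : F.IsRealizedBy ι) {D : Subgroup Ω} (hD : F.StronglyClosed D) :
    Cfsg.IsStronglyClosed (imgOf ι D) ι.range := by
  have hinj := hreal.1
  have hDS := hD.1
  refine ⟨imgOf_le_range D, ?_⟩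
  intro x hx g hg
  obtain ⟨d, hdS, hdD, rfl⟩ := mem_imgOf.1 hx
  set P : Subgroup Ω := Subgroup.zpowers d with hPdef
  have hPD : P ≤ D := by
    rw [hPdef, Subgroup.zpowers_le]; exact hdD
  have hPS : P ≤ S := hPD.trans hDS
  have hmem : ∀ y : P, g * ι ⟨y, hPS y.2⟩ * g⁻¹ ∈ ι.range := by
    intro y
    obtain ⟨k, hk⟩ := Subgroup.mem_zpowers_iff.1 y.2
    have h1 : (⟨(y : Ω), hPS y.2⟩ : S) = (⟨d, hdS⟩ : S) ^ k := by
      apply Subtype.ext
      rw [Subgroup.coe_zpow]
      exact hk.symm
    rw [h1, map_zpow]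
    have h2 : g * ι ⟨d, hdS⟩ ^ k * g⁻¹ = (g * ι ⟨d, hdS⟩ * g⁻¹) ^ k := by
      rw [conj_zpow]
    rw [h2]
    exact Subgroup.zpow_mem _ hg k
  obtain ⟨φ, hφ⟩ := exists_conjMap hinj g hPS hmem
  have hφS : ∀ y : P, φ y ∈ S := fun y => (hφ y).1
  have hφF : φ ∈ F.Hom P := by
    rw [hreal.2 P hPS φ hφS]
    exact ⟨g, fun y => (hφ y).2⟩
  have hdP : d ∈ P := Subgroup.mem_zpowers d
  have h3 := hD.2 P hPD φ hφF ⟨d, hdP⟩
  have h4 := (hφ ⟨d, hdP⟩).2
  rw [← h4]
  exact mem_imgOf.2 ⟨_, hφS ⟨d, hdP⟩, h3, rfl⟩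

/-- The image in a group realizing the system of the value of a functor. -/
theorem imgOf_W_of_le [Finite S] (hS : IsPGroup p S) {G : Type u} [Group G] {ι : S →* G}
    (hinj : Function.Injective ι) {D : Subgroup Ω} (hDS : D ≤ S) :
    imgOf ι (W.W D) = W.W (imgOf ι D) := by
  have hfinD : Finite D := finite_of_le S hDS
  have hDp : IsPGroup p D := hS.to_le hDS
  have hfinD' : Finite (D.subgroupOf S) := inferInstance
  have hD'p : IsPGroup p (D.subgroupOf S) := hDp.comap_subtype
  have h1 : W.W D = (W.W (D.subgroupOf S)).map S.subtype := by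
    have := W.map S.subtype (D.subgroupOf S) hfinD' hD'p (S.subtype_injective.injOn)
    rw [Subgroup.map_subgroupOf_eq_of_le hDS] at this
    exact this
  have h2 : (W.W D).subgroupOf S = W.W (D.subgroupOf S) := by
    rw [h1, Subgroup.subgroupOf, Subgroup.comap_map_eq_self_of_injective S.subtype_injective]
  unfold imgOf
  rw [h2, ← W.map ι (D.subgroupOf S) hfinD' hD'p hinj.injOn]

end Cfsg.Agent.Lib.H26.Sparse
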