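import Mathlib
import Cfsg.Agent.Lib.H26.AxNPC
import Cfsg.Agent.Lib.H26.SparseModel

/-!
The axioms of the axiomatic Glauberman--Thompson theorem pass from a saturated fusion system to
a finite group realizing it (helper26).
-/

set_option autoImplicit false

universe u

namespace Cfsg.Agent.Lib.H26.AxZJ

open Cfsg Cfsg.FusionSystem Cfsg.Agent.Lib.H25 Cfsg.Agent.Lib.H26 Cfsg.Agent.Lib.H26.Nil
  Cfsg.Agent.Lib.H26.Model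
open scoped commutatorElement

variable {Ω : Type u} [Group Ω] {S : Subgroup Ω} {G : Type u} [Group G] {ι : S →* G}

theorem imgOf_preSub {V : Subgroup G} (hV : V ≤ ι.range) : imgOf ι (preSub ι V) = V := by
  ext y
  rw [mem_imgOf]
  constructor
  · rintro ⟨x, hx, hxV, rfl⟩
    obtain ⟨_, h⟩ := mem_preSub.1 hxV
    exact h
  · intro hy
    obtain ⟨s, rfl⟩ := hV hy
    exact ⟨s.1, s.2, mem_preSub.2 ⟨s.2, hy⟩, rfl⟩

theorem imgOf_le_imgOf_iff (hinj : Function.Injective ι) {A B : Subgroup Ω} (hA : A ≤ S) :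
    imgOf ι A ≤ imgOf ι B ↔ A ≤ B := by
  constructor
  · intro h a ha
    have h1 : ι ⟨a, hA ha⟩ ∈ imgOf ι A := mem_imgOf.2 ⟨a, hA ha, ha, rfl⟩
    obtain ⟨b, hbS, hbB, hb⟩ := mem_imgOf.1 (h h1)
    have : (⟨b, hbS⟩ : S) = ⟨a, hA ha⟩ := hinj hb
    have h2 : b = a := congrArg Subtype.val this
    rw [← h2]
    exact hbB
  · exact fun h => imgOf_mono h

theorem imgOf_eq_map_subgroupOf (B : Subgroup Ω) : imgOf ι B = (B.subgroupOf S).map ι := rfl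

theorem map_subtype_subgroupOf {B : Subgroup Ω} (hB : B ≤ S) :
    (B.subgroupOf S).map S.subtype = B := Subgroup.map_subgroupOf_eq_of_le hB

theorem imgOf_II (hinj : Function.Injective ι) {𝒜 : Set (Subgroup Ω)} (h𝒜 : ∀ A ∈ 𝒜, A ≤ S)
    {Q : Subgroup Ω} (hex : ∃ A ∈ 𝒜, A ≤ Q) :
    II ((fun A : Subgroup Ω => imgOf ι A) '' 𝒜) (imgOf ι Q) = imgOf ι (II 𝒜 Q) := by
  ext y
  rw [mem_II]
  constructor
  · intro h
    obtain ⟨A₀, hA₀, hA₀Q⟩ := hex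
    obtain ⟨x₀, hx₀S, hx₀, rfl⟩ := mem_imgOf.1 (h _ ⟨A₀, hA₀, rfl⟩ (imgOf_mono hA₀Q))
    refine mem_imgOf.2 ⟨x₀, hx₀S, mem_II.2 (fun A hA hAQ => ?_), rfl⟩
    obtain ⟨x, hxS, hx, hxy⟩ := mem_imgOf.1 (h _ ⟨A, hA, rfl⟩ (imgOf_mono hAQ))
    have : (⟨x, hxS⟩ : S) = ⟨x₀, hx₀S⟩ := hinj hxy
    have h2 : x = x₀ := congrArg Subtype.val this
    rw [← h2]
    exact hx
  · rintro hy A' ⟨A, hA, rfl⟩ hAQ
    obtain ⟨x, hxS, hx, rfl⟩ := mem_imgOf.1 hy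
    have hAQ' : A ≤ Q := (imgOf_le_imgOf_iff hinj (h𝒜 A hA)).1 hAQ
    exact mem_imgOf.2 ⟨x, hxS, mem_II.1 hx A hA hAQ', rfl⟩

theorem class_two_imgOf_iff (hinj : Function.Injective ι) {B : Subgroup Ω} (hB : B ≤ S) :
    ⁅⁅imgOf ι B, imgOf ι B⁆, imgOf ι B⁆ = ⊥ ↔ ⁅⁅B, B⁆, B⁆ = ⊥ := by
  rw [imgOf_eq_map_subgroupOf,
    class_two_map_iff ι (T := ⊤) hinj.injOn le_top]
  conv_rhs => rw [← map_subtype_subgroupOf hB]
  rw [class_two_map_iff S.subtype (T := ⊤) S.subtype_injective.injOn le_top]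

theorem commutator_imgOf_le_iff (hinj : Function.Injective ι) {B A : Subgroup Ω} (hB : B ≤ S)
    (hA : A ≤ S) : ⁅imgOf ι B, imgOf ι B⁆ ≤ imgOf ι A ↔ ⁅B, B⁆ ≤ A := by
  rw [imgOf_eq_map_subgroupOf, imgOf_eq_map_subgroupOf, ← Subgroup.map_commutator,
    Subgroup.map_le_map_iff_of_injective hinj]
  conv_rhs => rw [← map_subtype_subgroupOf hB, ← map_subtype_subgroupOf hA,
    ← Subgroup.map_commutator, Subgroup.map_le_map_iff_of_injective S.subtype_injective]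

theorem mem_normalizer_imgOf [Finite G] (hinj : Function.Injective ι) {A : Subgroup Ω} {b : Ω}
    (hbS : b ∈ S) (hb : b ∈ Subgroup.normalizer (A : Set Ω)) :
    ι ⟨b, hbS⟩ ∈ Subgroup.normalizer ((imgOf ι A : Subgroup G) : Set G) := by
  have key : ∀ c : Ω, ∀ hc : c ∈ S, c ∈ Subgroup.normalizer (A : Set Ω) →
      ∀ y ∈ imgOf ι A, ι ⟨c, hc⟩ * y * (ι ⟨c, hc⟩)⁻¹ ∈ imgOf ι A := by
    intro c hc hcN y hy
    obtain ⟨a, haS, ha, rfl⟩ := mem_imgOf.1 hy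
    have h1 : c * a * c⁻¹ ∈ A := (Subgroup.mem_normalizer_iff.1 hcN a).1 ha
    have h2 : ι ⟨c, hc⟩ * ι ⟨a, haS⟩ * (ι ⟨c, hc⟩)⁻¹ =
        ι ⟨c * a * c⁻¹, S.mul_mem (S.mul_mem hc haS) (S.inv_mem hc)⟩ := by
      rw [← map_inv, ← map_mul, ← map_mul]
      rfl
    rw [h2]
    exact mem_imgOf.2 ⟨_, _, h1, rfl⟩
  apply Cfsg.Agent.Lib.H26.mem_normalizer_of_conj_mem (key b hbS hb)
  intro y hy
  have := key b⁻¹ (S.inv_mem hbS) (Subgroup.inv_mem _ hb) y hy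
  have e : ι ⟨b⁻¹, S.inv_mem hbS⟩ = (ι ⟨b, hbS⟩)⁻¹ := by
    rw [← map_inv]
    rfl
  rw [e, inv_inv] at this
  exact this

variable {p : ℕ} [Fact p.Prime]

/-- The axioms in a finite group realizing the system. -/
theorem axFam_of_realized [Finite S] [Finite G] (hS : IsPGroup p S) {E : FusionSystem S}
    (hreal : E.IsRealizedBy ι) (T : Sylow p G) (hT : (T : Subgroup G) = ι.range)
    {𝒜 : Set (Subgroup Ω)}
    (h𝒜 : ∀ A ∈ 𝒜, A ≤ S ∧ ∀ x ∈ A, ∀ y ∈ A, x * y = y * x) (hne : 𝒜.Nonempty)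
    (hinv : ∀ Q : Subgroup Ω, Q ≤ S → (∃ A ∈ 𝒜, A ≤ Q) → ∀ f : Ω → Ω, IsIso E Q Q f →
      ∀ x ∈ II 𝒜 Q, f x ∈ II 𝒜 Q)
    (hrep : ∀ B : Subgroup Ω, B ≤ S → ⁅⁅B, B⁆, B⁆ = ⊥ → (∃ A ∈ 𝒜, ⁅B, B⁆ ≤ A ∧ ¬ B ≤ A) →
      ∃ A ∈ 𝒜, ¬ B ≤ A ∧ B ≤ Subgroup.normalizer (A : Set Ω))
    (hnpc : Cfsg.HasNormalPComplement p
      ↥(Subgroup.normalizer ((imgOf ι (II 𝒜 S) : Subgroup G) : Set G))) :
    AxFam p G (T : Subgroup G) ((fun A : Subgroup Ω => imgOf ι A) '' 𝒜) := by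
  have hinj := hreal.1
  have h𝒜S : ∀ A ∈ 𝒜, A ≤ S := fun A hA => (h𝒜 A hA).1
  obtain ⟨A₀, hA₀⟩ := hne
  have himgS : imgOf ι S = ι.range := by
    apply le_antisymm (imgOf_le_range S)
    rintro _ ⟨s, rfl⟩
    exact mem_imgOf.2 ⟨s.1, s.2, s.2, rfl⟩
  refine ⟨⟨_, A₀, hA₀, rfl⟩, ?_, ?_, ?_, ?_⟩
  · rintro _ ⟨A, hA, rfl⟩
    refine ⟨hT ▸ imgOf_le_range A, ?_⟩
    intro x hx y hy
    obtain ⟨a, haS, ha, rfl⟩ := mem_imgOf.1 hx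
    obtain ⟨b, hbS, hb, rfl⟩ := mem_imgOf.1 hy
    rw [← map_mul, ← map_mul]
    congr 1
    exact Subtype.ext ((h𝒜 A hA).2 a ha b hb)
  · rintro Q' hQ' ⟨_, ⟨A, hA, rfl⟩, hAQ'⟩ g hg
    rw [hT] at hQ'
    set Q := preSub ι Q' with hQdef
    have hQS : Q ≤ S := preSub_le ι Q'
    have hQimg : imgOf ι Q = Q' := imgOf_preSub hQ'
    have hAQ : A ≤ Q := by
      rw [← hQimg] at hAQ'
      exact (imgOf_le_imgOf_iff hinj (h𝒜S A hA)).1 hAQ'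
    rw [← hQimg, imgOf_II hinj h𝒜S ⟨A, hA, hAQ⟩]
    rw [← hQimg] at hg
    have key : ∀ g' : G, g' ∈ Subgroup.normalizer ((imgOf ι Q : Subgroup G) : Set G) →
        ∀ y ∈ imgOf ι (II 𝒜 Q), g' * y * g'⁻¹ ∈ imgOf ι (II 𝒜 Q) := by
      intro g' hg' y hy
      have hgQ : ∀ x ∈ Q, g' * al ι x * g'⁻¹ ∈ imgOf ι Q := by
        intro x hx
        exact (Subgroup.mem_normalizer_iff.1 hg' _).1 (al_mem_imgOf hQS hx)
      obtain ⟨f, hf, hfg⟩ := exists_isIso_of_elt hreal hQS g' hgQ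
      obtain ⟨x, hxS, hx, rfl⟩ := mem_imgOf.1 hy
      have hIIQ : II 𝒜 Q ≤ Q := (II_le_of_mem hA hAQ).trans hAQ
      have hfx := hinv Q hQS ⟨A, hA, hAQ⟩ f hf x hx
      have h1 := hfg x (hIIQ hx)
      rw [al_apply ι hxS] at h1
      rw [← h1]
      exact al_mem_imgOf (hIIQ.trans hQS) hfx
    apply Cfsg.Agent.Lib.H26.mem_normalizer_of_conj_mem (key g hg)
    intro y hy
    have := key g⁻¹ (Subgroup.inv_mem _ hg) y hy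
    rwa [inv_inv] at this
  · rintro B' hB' hcl ⟨_, ⟨A, hA, rfl⟩, hBA, hnBA⟩
    rw [hT] at hB'
    set B := preSub ι B' with hBdef
    have hBS : B ≤ S := preSub_le ι B'
    have hBimg : imgOf ι B = B' := imgOf_preSub hB'
    rw [← hBimg] at hcl hBA hnBA
    have hcl' : ⁅⁅B, B⁆, B⁆ = ⊥ := (class_two_imgOf_iff hinj hBS).1 hcl
    have hBA' : ⁅B, B⁆ ≤ A := (commutator_imgOf_le_iff hinj hBS (h𝒜S A hA)).1 hBA
    have hnBA' : ¬ B ≤ A := fun hle => hnBA (imgOf_mono hle)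
    obtain ⟨A₁, hA₁, hnBA₁, hBN⟩ := hrep B hBS hcl' ⟨A, hA, hBA', hnBA'⟩
    refine ⟨imgOf ι A₁, ⟨A₁, hA₁, rfl⟩, ?_, ?_⟩
    · rw [← hBimg]
      intro hle
      exact hnBA₁ ((imgOf_le_imgOf_iff hinj hBS).1 hle)
    · rw [← hBimg]
      intro y hy
      obtain ⟨b, hbS, hb, rfl⟩ := mem_imgOf.1 hy
      exact mem_normalizer_imgOf hinj hbS (hBN hb)
  · have h1 : II ((fun A : Subgroup Ω => imgOf ι A) '' 𝒜) (T : Subgroup G) =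
        imgOf ι (II 𝒜 S) := by
      rw [hT, ← himgS]
      exact imgOf_II hinj h𝒜S ⟨A₀, hA₀, h𝒜S A₀ hA₀⟩
    rw [h1]
    exact hnpc

end Cfsg.Agent.Lib.H26.AxZJ
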