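import Mathlib
import Cfsg.Agent.Lib.H1.JordanC

/-!
# Blichfeldt's 60-degree theorem, short form for groups generated by the conjugates of one element
(helper26; S4484 part X)

`scalar_of_near`: `G` finite, `R : G →* (E ≃ₗᵢ[ℂ] E)` irreducible on a finite-dimensional complex inner
product space, `y ∈ G` whose normal closure is `G`, `ε` an eigenvalue of `R y`, and
`‖R y u - ε • u‖ ≤ c ‖u‖` for all `u` with `c < 1` (all eigenvalues of `R y` within distance `c` of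
`ε`).  Then `R y = ε • id`.

Proof (extremal argument of helper19, with the short ending): for conjugates `h, k` of `y` let
`W_h` be the `ε`-eigenspace of `R h` and `δ(h,k) = ‖(W_h)ᗮ.starProjection ∘L (W_k).subtypeL‖`.
Then `δ(k, h k h⁻¹) ≤ c · δ(h,k)`; an `R k`-invariant subspace `V` with `δ(k;V) < 1` lies in `W_k`;
a minimal bad pair (`R h W_k ≠ W_k`) leads to a contradiction.  Hence all conjugates of `y`
stabilise `W_y`, so does their normal closure `G`, and `W_y = ⊤` by irreducibility.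
-/

set_option autoImplicit false

namespace Cfsg.Agent.Lib.H26.B60

open Cfsg.Agent.Lib.H1.Jordan

variable {E : Type*} [NormedAddCommGroup E] [InnerProductSpace ℂ E]

/-- The `ε`-eigenspace of an isometry, as a submodule. -/
def eigS (T : E ≃ₗᵢ[ℂ] E) (ε : ℂ) : Submodule ℂ E where
  carrier := {v | T v = ε • v}
  add_mem' := by
    intro a b ha hb
    simp only [Set.mem_setOf_eq] at *
    rw [map_add, ha, hb, smul_add]
  zero_mem' := by simp
  smul_mem' := by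
    intro c v hv
    simp only [Set.mem_setOf_eq] at *
    rw [map_smul, hv, smul_comm]

theorem mem_eigS {T : E ≃ₗᵢ[ℂ] E} {ε : ℂ} {v : E} : v ∈ eigS T ε ↔ T v = ε • v := Iff.rfl

theorem pow_succ_apply (T : E ≃ₗᵢ[ℂ] E) (j : ℕ) (v : E) : (T ^ (j + 1)) v = T ((T ^ j) v) := by
  rw [pow_succ']; rfl

theorem pow_apply_mem (T : E ≃ₗᵢ[ℂ] E) (V : Submodule ℂ E) (hV : ∀ v ∈ V, T v ∈ V) (j : ℕ) (v : E)
    (hv : v ∈ V) : (T ^ j) v ∈ V := by
  induction j with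
  | zero => simpa using hv
  | succ j ih => rw [pow_succ_apply]; exact hV _ ih

theorem pow_apply_eig (T : E ≃ₗᵢ[ℂ] E) (ε : ℂ) (j : ℕ) (w : E) (hw : T w = ε • w) :
    (T ^ j) w = ε ^ j • w := by
  induction j with
  | zero => simp
  | succ j ih => rw [pow_succ_apply, ih, map_smul, hw, smul_smul, pow_succ]

theorem inner_pow_pow (T : E ≃ₗᵢ[ℂ] E) (j : ℕ) (v w : E) :
    inner ℂ ((T ^ j) v) ((T ^ j) w) = inner ℂ v w :=
  (T ^ j).inner_map_map v w


theorem inner_pow_eig (T : E ≃ₗᵢ[ℂ] E) (ε : ℂ) (hε : ‖ε‖ = 1) (j : ℕ) (v w : E)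
    (hw : T w = ε • w) :
    inner ℂ ((ε⁻¹) ^ j • (T ^ j) v) w = inner ℂ v w := by
  have hε0 : ε ≠ 0 := by
    intro h; rw [h, norm_zero] at hε; exact zero_ne_one hε
  have hw' : w = (T ^ j) ((ε⁻¹) ^ j • w) := by
    rw [map_smul, pow_apply_eig T ε j w hw, smul_smul, ← mul_pow, inv_mul_cancel₀ hε0, one_pow,
      one_smul]
  have hz : ‖(ε⁻¹) ^ j‖ = 1 := by rw [norm_pow, norm_inv, hε, inv_one, one_pow]
  calc inner ℂ ((ε⁻¹) ^ j • (T ^ j) v) w
      = (starRingEnd ℂ) ((ε⁻¹) ^ j) * inner ℂ ((T ^ j) v) ((T ^ j) ((ε⁻¹) ^ j • w)) := by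
        rw [inner_smul_left, ← hw']
    _ = (starRingEnd ℂ) ((ε⁻¹) ^ j) * ((ε⁻¹) ^ j * inner ℂ v w) := by
        rw [inner_pow_pow, inner_smul_right]
    _ = inner ℂ v w := by
        rw [← mul_assoc, Complex.conj_mul', hz]; simp

variable [FiniteDimensional ℂ E]

/-- Averaging: the orthogonal projection onto the `ε`-eigenspace of a finite-order isometry `T`
maps every `T`-invariant subspace into itself. -/
theorem proj_mem_of_invariant (T : E ≃ₗᵢ[ℂ] E) (ε : ℂ) (N : ℕ) (hN : 0 < N)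
    (hT : ∀ v, (T ^ N) v = v) (hεN : ε ^ N = 1) (V : Submodule ℂ E) (hV : ∀ v ∈ V, T v ∈ V)
    (v : E) (hv : v ∈ V) : (eigS T ε).starProjection v ∈ V := by
  have hε : ‖ε‖ = 1 := Complex.norm_eq_one_of_pow_eq_one hεN hN.ne'
  have hε0 : ε ≠ 0 := by
    intro h; rw [h, norm_zero] at hε; exact zero_ne_one hε
  set f : ℕ → E := fun j => (ε⁻¹) ^ j • (T ^ j) v with hf
  have hfV : ∀ j, f j ∈ V := fun j => V.smul_mem _ (pow_apply_mem T V hV j v hv)
  have hf0 : f 0 = v := by simp [hf]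
  have hfN : f N = v := by
    simp only [hf]; rw [hT, inv_pow, hεN, inv_one, one_smul]
  have hTf : ∀ j, T (f j) = ε • f (j + 1) := by
    intro j
    have h1 : ε * (ε⁻¹) ^ (j + 1) = (ε⁻¹) ^ j := by
      rw [pow_succ, ← mul_assoc, mul_comm ε, mul_assoc, mul_inv_cancel₀ hε0, mul_one]
    simp only [hf]
    rw [map_smul, ← pow_succ_apply, smul_smul, h1]
  set a : E := ((N : ℂ)⁻¹) • ∑ j ∈ Finset.range N, f j with ha
  have haV : a ∈ V := V.smul_mem _ (V.sum_mem (fun j _ => hfV j))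
  have hshift : ∑ j ∈ Finset.range N, f (j + 1) = ∑ j ∈ Finset.range N, f j := by
    have h1 := Finset.sum_range_succ f N
    have h2 := Finset.sum_range_succ' f N
    rw [h1, hfN, hf0] at h2
    exact (add_right_cancel h2).symm
  have haE : a ∈ eigS T ε := by
    rw [mem_eigS, ha, map_smul, map_sum]
    simp only [hTf]
    rw [← Finset.smul_sum, hshift, smul_comm]
  have hN0 : (N : ℂ) ≠ 0 := Nat.cast_ne_zero.mpr hN.ne'
  refine (Submodule.eq_starProjection_of_mem_of_inner_eq_zero haE ?_) ▸ haV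
  intro w hw
  rw [inner_sub_left, ha, inner_smul_left, sum_inner]
  have : ∀ j ∈ Finset.range N, inner ℂ (f j) w = inner ℂ v w := fun j _ =>
    inner_pow_eig T ε hε j v w hw
  rw [Finset.sum_congr rfl this, Finset.sum_const, Finset.card_range, nsmul_eq_mul, map_inv₀,
    Complex.conj_natCast, ← mul_assoc, inv_mul_cancel₀ hN0, one_mul, sub_self]


/-! ### The distance `δ(W; V)` -/

/-- `δ(W; V)`: the largest distance from a unit vector of `V` to `W`. -/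
noncomputable def delta (W V : Submodule ℂ E) : ℝ := ‖Wᗮ.starProjection ∘L V.subtypeL‖

theorem delta_nonneg (W V : Submodule ℂ E) : 0 ≤ delta W V :=
  norm_nonneg (Wᗮ.starProjection ∘L V.subtypeL)

theorem le_delta (W V : Submodule ℂ E) (v : E) (hv : v ∈ V) :
    ‖Wᗮ.starProjection v‖ ≤ delta W V * ‖v‖ := by
  have := (Wᗮ.starProjection ∘L V.subtypeL).le_opNorm ⟨v, hv⟩
  exact this

theorem delta_le (W V : Submodule ℂ E) (c : ℝ) (hc : 0 ≤ c)
    (h : ∀ v ∈ V, ‖Wᗮ.starProjection v‖ ≤ c * ‖v‖) : delta W V ≤ c :=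
  ContinuousLinearMap.opNorm_le_bound _ hc (fun ⟨v, hv⟩ => h v hv)

theorem delta_le_one (W V : Submodule ℂ E) : delta W V ≤ 1 :=
  delta_le W V 1 zero_le_one (fun v _ => by
    rw [one_mul]; exact Submodule.norm_starProjection_apply_le _ v)

theorem le_of_delta_eq_zero (W V : Submodule ℂ E) (h : delta W V = 0) : V ≤ W := by
  intro v hv
  have h1 := le_delta W V v hv
  rw [h, zero_mul] at h1
  have h0 : Wᗮ.starProjection v = 0 := norm_le_zero_iff.mp h1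
  have h2 := Submodule.starProjection_add_starProjection_orthogonal (K := W) v
  rw [h0, add_zero] at h2
  rw [← h2]; exact Submodule.starProjection_apply_mem W v

theorem norm_orth_le (W : Submodule ℂ E) (v u : E) (hu : u ∈ W) :
    ‖Wᗮ.starProjection v‖ ≤ ‖v - u‖ := by
  have : Wᗮ.starProjection v = Wᗮ.starProjection (v - u) := by
    rw [map_sub, Submodule.starProjection_orthogonal_apply_eq_zero hu, sub_zero]
  rw [this]; exact Submodule.norm_starProjection_apply_le _ _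


/-! ### The group part -/

section grp

variable {G : Type*} [Group G]

theorem rep_mul_apply (R : G →* (E ≃ₗᵢ[ℂ] E)) (g h : G) (v : E) : R (g * h) v = R g (R h v) := by
  rw [map_mul]; rfl

theorem rep_one_apply (R : G →* (E ≃ₗᵢ[ℂ] E)) (v : E) : R 1 v = v := by
  rw [map_one]; rfl

theorem rep_inv_apply_apply (R : G →* (E ≃ₗᵢ[ℂ] E)) (g : G) (v : E) : R g⁻¹ (R g v) = v := by
  rw [← rep_mul_apply, inv_mul_cancel, rep_one_apply]

theorem rep_apply_inv_apply (R : G →* (E ≃ₗᵢ[ℂ] E)) (g : G) (v : E) : R g (R g⁻¹ v) = v := by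
  rw [← rep_mul_apply, mul_inv_cancel, rep_one_apply]

theorem rep_pow_apply (R : G →* (E ≃ₗᵢ[ℂ] E)) (g : G) (j : ℕ) (v : E) :
    R (g ^ j) v = ((R g) ^ j) v := by
  rw [map_pow]

/-- The `ε`-eigenspace of `R (g y g⁻¹)`. -/
def Fg (R : G →* (E ≃ₗᵢ[ℂ] E)) (y : G) (ε : ℂ) (g : G) : Submodule ℂ E :=
  eigS (R (g * y * g⁻¹)) ε

theorem mem_Fg (R : G →* (E ≃ₗᵢ[ℂ] E)) (y : G) (ε : ℂ) (g : G) (v : E) :
    v ∈ Fg R y ε g ↔ R (g * y * g⁻¹) v = ε • v := Iff.rfl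

theorem map_mem_Fg (R : G →* (E ≃ₗᵢ[ℂ] E)) (y : G) (ε : ℂ) (h g : G) (v : E)
    (hv : v ∈ Fg R y ε g) : R h v ∈ Fg R y ε (h * g) := by
  rw [mem_Fg] at *
  have e : (h * g) * y * (h * g)⁻¹ = h * (g * y * g⁻¹) * h⁻¹ := by group
  rw [e, rep_mul_apply, rep_mul_apply, rep_inv_apply_apply, hv, map_smul]

theorem inv_map_mem_Fg (R : G →* (E ≃ₗᵢ[ℂ] E)) (y : G) (ε : ℂ) (h g : G) (v : E)
    (hv : v ∈ Fg R y ε (h * g)) : R h⁻¹ v ∈ Fg R y ε g := by
  have := map_mem_Fg R y ε h⁻¹ (h * g) v hv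
  rwa [inv_mul_cancel_left] at this

/-- The bound `‖R y u - ε u‖ ≤ c ‖u‖` passes to all conjugates of `y`. -/
theorem conj_bound (R : G →* (E ≃ₗᵢ[ℂ] E)) (y : G) (ε : ℂ) (c : ℝ)
    (hN : ∀ u : E, ‖R y u - ε • u‖ ≤ c * ‖u‖) (g : G) (u : E) :
    ‖R (g * y * g⁻¹) u - ε • u‖ ≤ c * ‖u‖ := by
  have e : R (g * y * g⁻¹) u - ε • u = R g (R y (R g⁻¹ u) - ε • R g⁻¹ u) := by
    rw [map_sub, map_smul, rep_apply_inv_apply, rep_mul_apply, rep_mul_apply]
  rw [e, LinearIsometryEquiv.norm_map]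
  calc ‖R y (R g⁻¹ u) - ε • R g⁻¹ u‖ ≤ c * ‖R g⁻¹ u‖ := hN _
    _ = c * ‖u‖ := by rw [LinearIsometryEquiv.norm_map]

/-- Contraction: `δ(W_{g₂}; W_{g₃}) ≤ c · δ(W_{g₁}; W_{g₂})` for `g₃ = (g₁ y g₁⁻¹) g₂`. -/
theorem delta_contract (R : G →* (E ≃ₗᵢ[ℂ] E)) (y : G) (ε : ℂ) (c : ℝ) (hc0 : 0 ≤ c)
    (hN : ∀ u : E, ‖R y u - ε • u‖ ≤ c * ‖u‖) (g₁ g₂ : G) :
    delta (Fg R y ε g₂) (Fg R y ε (g₁ * y * g₁⁻¹ * g₂)) ≤
      c * delta (Fg R y ε g₁) (Fg R y ε g₂) := by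
  refine delta_le _ _ _ (mul_nonneg hc0 (delta_nonneg _ _)) ?_
  intro v' hv'
  set h₁ : G := g₁ * y * g₁⁻¹ with hh₁
  set v : E := R h₁⁻¹ v' with hv
  have hvF : v ∈ Fg R y ε g₂ := inv_map_mem_Fg R y ε h₁ g₂ v' hv'
  have hv'v : v' = R h₁ v := by rw [hv, rep_apply_inv_apply]
  have hnorm : ‖v‖ = ‖v'‖ := by rw [hv, LinearIsometryEquiv.norm_map]
  set q : E := (Fg R y ε g₁)ᗮ.starProjection v with hq
  set p : E := (Fg R y ε g₁).starProjection v with hp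
  have hpq : p + q = v := Submodule.starProjection_add_starProjection_orthogonal (K := Fg R y ε g₁) v
  have hpF : R h₁ p = ε • p := (mem_Fg R y ε g₁ p).1 (Submodule.starProjection_apply_mem _ v)
  have e : v' - ε • v = R h₁ q - ε • q := by
    rw [hv'v, ← hpq, map_add, smul_add, hpF]; abel
  calc ‖(Fg R y ε g₂)ᗮ.starProjection v'‖ ≤ ‖v' - ε • v‖ :=
        norm_orth_le _ _ _ ((Fg R y ε g₂).smul_mem ε hvF)
    _ = ‖R h₁ q - ε • q‖ := by rw [e]
    _ ≤ c * ‖q‖ := conj_bound R y ε c hN g₁ q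
    _ ≤ c * (delta (Fg R y ε g₁) (Fg R y ε g₂) * ‖v‖) :=
        mul_le_mul_of_nonneg_left (le_delta _ _ v hvF) hc0
    _ = c * delta (Fg R y ε g₁) (Fg R y ε g₂) * ‖v'‖ := by rw [hnorm, mul_assoc]


variable [Finite G]

theorem rep_pow_card (R : G →* (E ≃ₗᵢ[ℂ] E)) (g : G) (v : E) : ((R g) ^ Nat.card G) v = v := by
  rw [← rep_pow_apply, pow_card_eq_one', rep_one_apply]

theorem eig_pow_card (R : G →* (E ≃ₗᵢ[ℂ] E)) (y : G) (ε : ℂ)
    (heig : ∃ v : E, v ≠ 0 ∧ R y v = ε • v) : ε ^ Nat.card G = 1 := by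
  obtain ⟨v, hv0, hv⟩ := heig
  have h1 := pow_apply_eig (R y) ε (Nat.card G) v hv
  rw [rep_pow_card] at h1
  have h2 : (ε ^ Nat.card G - 1) • v = 0 := by rw [sub_smul, one_smul, ← h1, sub_self]
  rcases smul_eq_zero.1 h2 with h | h
  · exact sub_eq_zero.1 h
  · exact absurd h hv0

/-- An `R (g y g⁻¹)`-invariant subspace `V` with `δ(W_g; V) < 1` lies in `W_g`. -/
theorem le_Fg_of_delta_lt_one (R : G →* (E ≃ₗᵢ[ℂ] E)) (y : G) (ε : ℂ)
    (heig : ∃ v : E, v ≠ 0 ∧ R y v = ε • v) (g : G) (V : Submodule ℂ E)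
    (hV : ∀ v ∈ V, R (g * y * g⁻¹) v ∈ V) (hd : delta (Fg R y ε g) V < 1) :
    V ≤ Fg R y ε g := by
  intro v hv
  have hPV : (Fg R y ε g).starProjection v ∈ V :=
    proj_mem_of_invariant (R (g * y * g⁻¹)) ε (Nat.card G) Nat.card_pos
      (rep_pow_card R _) (eig_pow_card R y ε heig) V hV v hv
  set q : E := (Fg R y ε g)ᗮ.starProjection v with hq
  have hpq : (Fg R y ε g).starProjection v + q = v :=
    Submodule.starProjection_add_starProjection_orthogonal (K := Fg R y ε g) v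
  have hqV : q ∈ V := by
    have : q = v - (Fg R y ε g).starProjection v := eq_sub_iff_add_eq'.2 hpq
    rw [this]; exact V.sub_mem hv hPV
  have hqq : (Fg R y ε g)ᗮ.starProjection q = q :=
    Submodule.starProjection_eq_self_iff.2 (Submodule.starProjection_apply_mem _ v)
  have h1 := le_delta (Fg R y ε g) V q hqV
  rw [hqq] at h1
  have hq0 : q = 0 := by
    by_contra hne
    have hpos : 0 < ‖q‖ := norm_pos_iff.2 hne
    have : delta (Fg R y ε g) V * ‖q‖ < 1 * ‖q‖ := mul_lt_mul_of_pos_right hd hpos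
    linarith
  rw [hq0, add_zero] at hpq
  rw [← hpq]; exact Submodule.starProjection_apply_mem _ v

/-- No bad pairs: every conjugate of `y` stabilises every `W_g`. -/
theorem Fg_conj_le (R : G →* (E ≃ₗᵢ[ℂ] E)) (y : G) (ε : ℂ)
    (heig : ∃ v : E, v ≠ 0 ∧ R y v = ε • v) (c : ℝ) (hc0 : 0 ≤ c) (hc : c < 1)
    (hN : ∀ u : E, ‖R y u - ε • u‖ ≤ c * ‖u‖) (g₁ g₂ : G) :
    Fg R y ε (g₁ * y * g₁⁻¹ * g₂) ≤ Fg R y ε g₂ := by
  by_contra hbad
  set S : Set (G × G) := {p | ¬ Fg R y ε (p.1 * y * p.1⁻¹ * p.2) ≤ Fg R y ε p.2} with hS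
  have hne : S.Nonempty := ⟨(g₁, g₂), hbad⟩
  obtain ⟨⟨a₁, a₂⟩, ha, hmin⟩ := Set.exists_min_image S
    (fun p => delta (Fg R y ε p.1) (Fg R y ε p.2)) (Set.toFinite S) hne
  simp only at hmin
  set d : ℝ := delta (Fg R y ε a₁) (Fg R y ε a₂) with hd
  set h₁ : G := a₁ * y * a₁⁻¹ with hh₁
  set a₃ : G := h₁ * a₂ with ha₃
  have hcontr := delta_contract R y ε c hc0 hN a₁ a₂
  rw [← hh₁, ← ha₃, ← hd] at hcontr
  apply ha
  show Fg R y ε a₃ ≤ Fg R y ε a₂
  rcases (delta_nonneg (Fg R y ε a₁) (Fg R y ε a₂)).eq_or_lt with h0 | hpos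
  · -- `d = 0`: `W_{a₂} ≤ W_{a₁}`
    have hle : Fg R y ε a₂ ≤ Fg R y ε a₁ := le_of_delta_eq_zero _ _ h0.symm
    intro w hw
    have hv : R h₁⁻¹ w ∈ Fg R y ε a₂ := inv_map_mem_Fg R y ε h₁ a₂ w hw
    have hv1 : R h₁ (R h₁⁻¹ w) = ε • R h₁⁻¹ w := (mem_Fg R y ε a₁ _).1 (hle hv)
    rw [rep_apply_inv_apply] at hv1
    rw [hv1]; exact (Fg R y ε a₂).smul_mem ε hv
  · -- `d > 0`: the pair `(a₂, a₃)` is closer, hence not bad
    have hd1 : d ≤ 1 := delta_le_one _ _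
    have hlt : delta (Fg R y ε a₂) (Fg R y ε a₃) < d := by
      calc delta (Fg R y ε a₂) (Fg R y ε a₃) ≤ c * d := hcontr
        _ < 1 * d := mul_lt_mul_of_pos_right hc hpos
        _ = d := one_mul d
    have hnb : Fg R y ε (a₂ * y * a₂⁻¹ * a₃) ≤ Fg R y ε a₃ := by
      by_contra hb
      have := hmin (a₂, a₃) hb
      simp only at this
      linarith
    refine le_Fg_of_delta_lt_one R y ε heig a₂ (Fg R y ε a₃) ?_ (lt_of_lt_of_le hlt hd1)
    intro v hv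
    exact hnb (map_mem_Fg R y ε (a₂ * y * a₂⁻¹) a₃ v hv)

/-- The stabiliser of a subspace, as a subgroup (finite group: closed under inverses). -/
def stab (R : G →* (E ≃ₗᵢ[ℂ] E)) (W : Submodule ℂ E) : Subgroup G where
  carrier := {g | ∀ v ∈ W, R g v ∈ W}
  one_mem' := by
    intro v hv; rw [rep_one_apply]; exact hv
  mul_mem' := by
    intro a b ha hb v hv; rw [rep_mul_apply]; exact ha _ (hb _ hv)
  inv_mem' := by
    intro a ha
    have hpow : ∀ j : ℕ, ∀ v ∈ W, R (a ^ j) v ∈ W := by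
      intro j
      induction j with
      | zero => intro v hv; rw [pow_zero, rep_one_apply]; exact hv
      | succ j ih => intro v hv; rw [pow_succ, rep_mul_apply]; exact ih _ (ha _ hv)
    have h1 : a⁻¹ = a ^ (Nat.card G - 1) := by
      have hpos : 0 < Nat.card G := Nat.card_pos
      have h2 : a ^ (Nat.card G - 1) * a = 1 := by
        rw [← pow_succ, Nat.sub_add_cancel hpos, pow_card_eq_one']
      exact (eq_inv_of_mul_eq_one_left h2).symm
    intro v hv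
    show R a⁻¹ v ∈ W
    rw [h1]; exact hpow _ v hv

theorem mem_stab (R : G →* (E ≃ₗᵢ[ℂ] E)) (W : Submodule ℂ E) (g : G) :
    g ∈ stab R W ↔ ∀ v ∈ W, R g v ∈ W := Iff.rfl

/-- **Blichfeldt's 60-degree theorem, short form.**  `R` irreducible isometric, `G` the normal
closure of `y`, `ε` an eigenvalue of `R y`, `‖R y u - ε u‖ ≤ c ‖u‖` with `c < 1`: then `R y = ε`. -/
theorem scalar_of_near (R : G →* (E ≃ₗᵢ[ℂ] E))
    (hirr : ∀ W : Submodule ℂ E, (∀ g : G, ∀ v ∈ W, R g v ∈ W) → W = ⊥ ∨ W = ⊤)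
    (y : G) (hy : Subgroup.normalClosure ({y} : Set G) = ⊤) (ε : ℂ)
    (heig : ∃ v : E, v ≠ 0 ∧ R y v = ε • v) (c : ℝ) (hc : c < 1)
    (hN : ∀ u : E, ‖R y u - ε • u‖ ≤ c * ‖u‖) : ∀ v : E, R y v = ε • v := by
  obtain ⟨v₀, hv₀, hv₀e⟩ := heig
  have hc0 : 0 ≤ c := by
    have h1 : 0 ≤ c * ‖v₀‖ := le_trans (norm_nonneg _) (hN v₀)
    by_contra hneg
    have : c * ‖v₀‖ < 0 := mul_neg_of_neg_of_pos (not_le.1 hneg) (norm_pos_iff.2 hv₀)
    linarith
  have hone : (1 : G) * y * (1 : G)⁻¹ = y := by group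
  have hW : ∀ v, v ∈ Fg R y ε 1 ↔ R y v = ε • v := by
    intro v; rw [mem_Fg, hone]
  have hstab : Subgroup.normalClosure ({y} : Set G) ≤ stab R (Fg R y ε 1) := by
    unfold Subgroup.normalClosure
    rw [Subgroup.closure_le]
    intro k hk
    obtain ⟨b, hb, hbk⟩ := Group.mem_conjugatesOfSet_iff.1 hk
    rw [Set.mem_singleton_iff] at hb
    rw [hb] at hbk
    obtain ⟨g, hg⟩ := isConj_iff.1 hbk
    show k ∈ stab R (Fg R y ε 1)
    rw [mem_stab]
    intro v hv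
    have h1 := map_mem_Fg R y ε k 1 v hv
    have h2 := Fg_conj_le R y ε ⟨v₀, hv₀, hv₀e⟩ c hc0 hc hN g 1
    rw [hg] at h2
    exact h2 h1
  rw [hy] at hstab
  have hinv : ∀ g : G, ∀ v ∈ Fg R y ε 1, R g v ∈ Fg R y ε 1 := fun g =>
    (mem_stab R _ g).1 (hstab (Subgroup.mem_top g))
  rcases hirr _ hinv with hbot | htop
  · exfalso
    have : v₀ ∈ Fg R y ε 1 := (hW v₀).2 hv₀e
    rw [hbot, Submodule.mem_bot] at this
    exact hv₀ this
  · intro v
    exact (hW v).1 (htop ▸ Submodule.mem_top)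

end grp

end Cfsg.Agent.Lib.H26.B60
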