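import Mathlib
import Cfsg.Agent.Lib.H26.B60S

/-!
# S4484 part (X), final interface `b60_contra` (helper26), exact signature of
`tools/blueprints/S4484_sigs.lean`, from the short form `B60.scalar_of_near`.

`y := x ^ d ≠ 1`, so its normal closure is the simple group `G`; the eigenvalues `a k ^ d` of `R y`
are all within distance `c < 1` of `ε := a k₁ ^ d`; hence `R y = ε`, `y` is central, and `G` is
abelian.  (`hcard` is not needed.)
-/

set_option autoImplicit false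

namespace Cfsg.Agent.Lib.H26.BB

open Cfsg.Agent.Lib.H26.B60 Cfsg.Agent.Lib.H1.Jordan

/-- Parseval: an isometry with an orthonormal eigenbasis whose eigenvalues are all within `c` of `ε`
satisfies `‖T u - ε u‖ ≤ c ‖u‖`. -/
theorem norm_sub_le_of_eig {E : Type*} [NormedAddCommGroup E] [InnerProductSpace ℂ E] {n : ℕ}
    (T : E ≃ₗᵢ[ℂ] E) (b : OrthonormalBasis (Fin n) ℂ E) (μ : Fin n → ℂ)
    (hb : ∀ k, T (b k) = μ k • b k) (ε : ℂ) (c : ℝ) (hc0 : 0 ≤ c) (hμ : ∀ k, ‖μ k - ε‖ ≤ c)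
    (u : E) : ‖T u - ε • u‖ ≤ c * ‖u‖ := by
  have h1 : ∀ k, inner ℂ (b k) (T u - ε • u) = (μ k - ε) * inner ℂ (b k) u := by
    intro k
    rw [inner_sub_right, inner_eig hb k u, inner_smul_right, sub_mul]
  have h2 : ‖T u - ε • u‖ ^ 2 ≤ (c * ‖u‖) ^ 2 := by
    rw [← b.sum_sq_norm_inner_right (T u - ε • u), mul_pow, ← b.sum_sq_norm_inner_right u,
      Finset.mul_sum]
    apply Finset.sum_le_sum
    intro k _
    rw [h1 k, norm_mul, mul_pow]
    have h3 : ‖μ k - ε‖ ^ 2 ≤ c ^ 2 := pow_le_pow_left₀ (norm_nonneg _) (hμ k) 2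
    exact mul_le_mul_of_nonneg_right h3 (sq_nonneg _)
  exact (pow_le_pow_iff_left₀ (norm_nonneg _) (mul_nonneg hc0 (norm_nonneg u)) two_ne_zero).1 h2

/-- (XFINAL) -/
theorem b60_contra {G : Type*} [Group G] [Finite G] [IsSimpleGroup G]
    (hna : ∃ g h : G, g * h ≠ h * g) {n : ℕ}
    (R : G →* (EuclideanSpace ℂ (Fin n) ≃ₗᵢ[ℂ] EuclideanSpace ℂ (Fin n)))
    (hirr : ∀ W : Submodule ℂ (EuclideanSpace ℂ (Fin n)), (∀ g, ∀ w ∈ W, R g w ∈ W) → W = ⊥ ∨ W = ⊤)
    (hinj : Function.Injective R) {p : ℕ} (hp : p.Prime) (x : G) (hx : orderOf x = p)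
    (b : OrthonormalBasis (Fin n) ℂ (EuclideanSpace ℂ (Fin n))) (a : Fin n → ℂ)
    (hb : ∀ k, R x (b k) = a k • b k) (hcard : (Finset.univ.image a).card < p)
    (d : ℕ) (hd1 : 1 ≤ d) (hdp : d < p) (k₁ : Fin n)
    (hnear : ∀ k, 1 / 2 < ((starRingEnd ℂ) (a k₁ ^ d) * a k ^ d).re) : False := by
  set y : G := x ^ d with hy
  have hy1 : y ≠ 1 := by
    intro h
    have h1 : orderOf x ∣ d := orderOf_dvd_of_pow_eq_one h
    rw [hx] at h1
    have := Nat.le_of_dvd (by omega) h1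
    omega
  have hnc : Subgroup.normalClosure ({y} : Set G) = ⊤ := by
    rcases IsSimpleGroup.eq_bot_or_eq_top_of_normal (Subgroup.normalClosure ({y} : Set G))
      Subgroup.normalClosure_normal with h | h
    · exfalso
      have h1 : y ∈ Subgroup.normalClosure ({y} : Set G) :=
        Subgroup.subset_normalClosure (Set.mem_singleton y)
      rw [h, Subgroup.mem_bot] at h1
      exact hy1 h1
    · exact h
  have hby : ∀ k, R y (b k) = (a k ^ d) • b k := by
    intro k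
    rw [hy, rep_pow_apply, pow_apply_eig (R x) (a k) d (b k) (hb k)]
  have hnorm : ∀ k, ‖a k‖ = 1 := norm_eig hb
  set ε : ℂ := a k₁ ^ d with hε
  have hpn : ∀ k, ‖a k ^ d‖ = 1 := by
    intro k; rw [norm_pow, hnorm k, one_pow]
  have hdist : ∀ k, ‖a k ^ d - ε‖ < 1 := by
    intro k
    have h1 : ‖a k ^ d - ε‖ ^ 2 < 1 := by
      rw [← Complex.normSq_eq_norm_sq, Complex.normSq_sub, Complex.normSq_eq_norm_sq,
        Complex.normSq_eq_norm_sq, hpn k, hε, hpn k₁]
      have h2 := hnear k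
      rw [mul_comm] at h2
      linarith
    by_contra hge
    have h3 : 1 ≤ ‖a k ^ d - ε‖ := not_lt.1 hge
    have h4 : (1 : ℝ) ≤ ‖a k ^ d - ε‖ ^ 2 := one_le_pow₀ h3
    linarith
  obtain ⟨k₀, -, hk₀⟩ := Finset.exists_max_image (Finset.univ : Finset (Fin n))
    (fun k => ‖a k ^ d - ε‖) ⟨k₁, Finset.mem_univ _⟩
  have hN := norm_sub_le_of_eig (R y) b (fun k => a k ^ d) hby ε (‖a k₀ ^ d - ε‖) (norm_nonneg _)
    (fun k => hk₀ k (Finset.mem_univ _))
  have hbne : b k₁ ≠ 0 := by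
    intro h
    have := b.orthonormal.1 k₁
    rw [h, norm_zero] at this
    exact zero_ne_one this
  have hscal := scalar_of_near R hirr y hnc ε ⟨b k₁, hbne, hby k₁⟩ _ (hdist k₀) hN
  have hcent : y ∈ Subgroup.center G := by
    rw [Subgroup.mem_center_iff]
    intro g
    apply hinj
    ext1 v
    rw [rep_mul_apply, rep_mul_apply, hscal, hscal, map_smul]
  rcases IsSimpleGroup.eq_bot_or_eq_top_of_normal (Subgroup.center G) inferInstance with h | h
  · rw [h, Subgroup.mem_bot] at hcent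
    exact hy1 hcent
  · obtain ⟨g, h', hgh⟩ := hna
    have h1 : g ∈ Subgroup.center G := h ▸ Subgroup.mem_top g
    exact hgh ((Subgroup.mem_center_iff.1 h1 h').symm)

end Cfsg.Agent.Lib.H26.BB
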