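import Mathlib
import Cfsg.Agent.Lib.H11.AEINT

/-!
# S1950, END3 route A pieces XDEG `xdeg` and YDEG `ydeg` (helper26)

Exact statements of `tools/blueprints/S1950_sigs_h12.lean`.  Both are "the multiplicity of `1_P` in `χ|_P` is a
natural number": `∑_{y ∈ P} χ y = |P| · n`.
-/

set_option autoImplicit false

namespace Cfsg.Agent.Lib.H26.CY

open Cfsg Cfsg.Agent.Lib.L0 Cfsg.Agent.Lib.H24 Cfsg.Agent.Lib.H11.AE
open scoped ComplexConjugate

universe u

variable {G : Type*} [Group G] [Finite G] {p : ℕ} [Fact p.Prime]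

/-- XDEG.  A character constant `= a` on `P#` has degree `a + k |P|`, `k ≥ 0`, `k ≥ 1` unless trivial (G simple). -/
theorem xdeg [IsSimpleGroup G] (P : Sylow p G) (hP1 : (P : Subgroup G) ≠ ⊥) (χ : Cfsg.IrrCharacter G) (a : ℤ)
    (hχ : ∀ y ∈ (P : Subgroup G), y ≠ 1 → (χ : G → ℂ) y = (a : ℂ)) :
    ∃ k : ℕ, (χ : G → ℂ) 1 = ((a + k * (Nat.card ↥(P : Subgroup G) : ℤ) : ℤ) : ℂ) ∧
      ((χ : G → ℂ) ≠ (fun _ => 1) → 1 ≤ k) := by
  classical
  have hirr : IsIrrCharacter G (χ : G → ℂ) := χ.2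
  have hc := isCharacter_of_irr hirr
  have := Fintype.ofFinite (P : Subgroup G)
  -- an element `z ≠ 1` of `P`
  obtain ⟨⟨z, hzP⟩, hz1'⟩ := (Subgroup.ne_bot_iff_exists_ne_one).1 hP1
  have hz1 : z ≠ 1 := fun h => hz1' (Subtype.ext h)
  have hza : (χ : G → ℂ) z = (a : ℂ) := hχ z hzP hz1
  obtain ⟨f, hf⟩ := isCharacter_apply_one hc
  obtain ⟨n, hn⟩ := sum_subgroup_nat hc (P : Subgroup G)
  -- the sum over `P`
  have hsum : ∑ x : (P : Subgroup G), (χ : G → ℂ) x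
      = (χ : G → ℂ) 1 + ((Nat.card (P : Subgroup G) : ℂ) - 1) * (a : ℂ) := by
    have hval : ∀ x : (P : Subgroup G), (χ : G → ℂ) x = if x = 1 then (χ : G → ℂ) 1 else (a : ℂ) := by
      intro x
      by_cases hx : x = 1
      · rw [if_pos hx, hx]; rfl
      · rw [if_neg hx]
        exact hχ x x.2 (fun h => hx (Subtype.ext h))
    rw [Finset.sum_congr rfl (fun x _ => hval x)]
    rw [Finset.sum_ite, Finset.sum_const, Finset.sum_const, Finset.filter_eq']
    simp only [Finset.mem_univ, if_true, Finset.card_singleton, one_smul, nsmul_eq_mul]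
    have hcard : (Finset.filter (fun x : (P : Subgroup G) => ¬ x = 1) Finset.univ).card
        = Nat.card (P : Subgroup G) - 1 := by
      rw [Finset.filter_not, Finset.card_sdiff_of_subset (Finset.subset_univ _), Finset.filter_eq']
      simp [Nat.card_eq_fintype_card]
    rw [hcard]
    have hpos : 1 ≤ Nat.card (P : Subgroup G) := Nat.card_pos
    rw [Nat.cast_sub hpos, Nat.cast_one]
  -- integer identity `f = a + (n - a) |P|`
  have hint : (f : ℤ) = a + ((n : ℤ) - a) * (Nat.card (P : Subgroup G) : ℤ) := by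
    have h1 : ((f : ℤ) : ℂ) = ((a + ((n : ℤ) - a) * (Nat.card (P : Subgroup G) : ℤ) : ℤ) : ℂ) := by
      rw [hn, hf] at hsum
      push_cast
      linear_combination -hsum
    exact_mod_cast h1
  have hle : a ≤ (f : ℤ) := int_value_le hc z a hza f hf
  have hPpos : (0 : ℤ) < (Nat.card (P : Subgroup G) : ℤ) := by
    exact_mod_cast (Nat.card_pos (α := (P : Subgroup G)))
  have hk0 : 0 ≤ (n : ℤ) - a := by
    by_contra h
    have h' : (n : ℤ) - a < 0 := not_le.mp h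
    have : ((n : ℤ) - a) * (Nat.card (P : Subgroup G) : ℤ) < 0 := mul_neg_of_neg_of_pos h' hPpos
    linarith
  refine ⟨((n : ℤ) - a).toNat, ?_, fun hχ1 => ?_⟩
  · rw [hf]
    have : ((((n : ℤ) - a).toNat : ℕ) : ℤ) = (n : ℤ) - a := Int.toNat_of_nonneg hk0
    rw [this, ← hint]
    push_cast
    rfl
  · have hne : (χ : G → ℂ) z ≠ (χ : G → ℂ) 1 := irr_value_ne_degree_of_simple hirr hχ1 hz1
    have hlt : a < (f : ℤ) := by
      refine lt_of_le_of_ne hle ?_
      intro h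
      apply hne
      rw [hza, hf, h]
      push_cast
      rfl
    have hpos : 0 < ((n : ℤ) - a) * (Nat.card (P : Subgroup G) : ℤ) := by linarith
    have hk1 : 0 < (n : ℤ) - a := by
      by_contra h
      have h' : (n : ℤ) - a ≤ 0 := not_lt.mp h
      have : ((n : ℤ) - a) * (Nat.card (P : Subgroup G) : ℤ) ≤ 0 :=
        mul_nonpos_of_nonpos_of_nonneg h' hPpos.le
      linarith
    omega


/-- the sum of a nontrivial linear character over the group vanishes -/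
theorem sum_linear_eq_zero_aux {A : Type*} [Group A] [Fintype A] (ψ : A →* ℂˣ) (hψ : ψ ≠ 1) :
    ∑ y : A, ((ψ y : ℂˣ) : ℂ) = 0 := by
  have h1 : (Units.coeHom ℂ).comp ψ ≠ 1 := by
    intro h
    apply hψ
    ext y
    have := DFunLike.congr_fun h y
    simpa using this
  have := sum_hom_units_eq_zero ((Units.coeHom ℂ).comp ψ) h1
  simpa using this

/-- YDEG.  An exceptional character: values `δ ∑_{ψ' ∈ O} ψ' y` on `P#` for a finite set `O ∌ 1` of linear
characters of `P`.  Then `χ 1 = δ o + k |P|` with `k : ℕ`. -/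
theorem ydeg (P : Sylow p G) (hcomm : ∀ a ∈ (P : Subgroup G), ∀ b ∈ (P : Subgroup G), a * b = b * a)
    (χ : Cfsg.IrrCharacter G) (δ : ℤ) (hδ : δ = 1 ∨ δ = -1)
    (O : Finset (↥(P : Subgroup G) →* ℂˣ)) (hO1 : (1 : ↥(P : Subgroup G) →* ℂˣ) ∉ O)
    (hχ : ∀ y : ↥(P : Subgroup G), y ≠ 1 → (χ : G → ℂ) (y : G) = (δ : ℂ) * ∑ ψ' ∈ O, ((ψ' y : ℂˣ) : ℂ)) :
    ∃ k : ℕ, (χ : G → ℂ) 1 = ((δ * (O.card : ℤ) + k * (Nat.card ↥(P : Subgroup G) : ℤ) : ℤ) : ℂ) := by
  classical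
  have hirr : IsIrrCharacter G (χ : G → ℂ) := χ.2
  have hc := isCharacter_of_irr hirr
  have := Fintype.ofFinite (P : Subgroup G)
  obtain ⟨n, hn⟩ := sum_subgroup_nat hc (P : Subgroup G)
  refine ⟨n, ?_⟩
  -- the function `F y = δ ∑_{ψ' ∈ O} ψ' y` on all of `P`
  have hF1 : (δ : ℂ) * ∑ ψ' ∈ O, (((ψ' (1 : (P : Subgroup G))) : ℂˣ) : ℂ) = (δ : ℂ) * (O.card : ℂ) := by
    simp
  have hFsum : ∑ y : (P : Subgroup G), (δ : ℂ) * ∑ ψ' ∈ O, ((ψ' y : ℂˣ) : ℂ) = 0 := by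
    rw [← Finset.mul_sum, Finset.sum_comm]
    have : ∀ ψ' ∈ O, ∑ y : (P : Subgroup G), ((ψ' y : ℂˣ) : ℂ) = 0 := by
      intro ψ' hψ'
      exact sum_linear_eq_zero_aux ψ' (fun h => hO1 (h ▸ hψ'))
    rw [Finset.sum_eq_zero this, mul_zero]
  -- `χ y = F y + [y = 1] (χ 1 - δ o)`
  have hval : ∀ y : (P : Subgroup G), (χ : G → ℂ) (y : G)
      = (δ : ℂ) * ∑ ψ' ∈ O, ((ψ' y : ℂˣ) : ℂ)
        + (if y = 1 then (χ : G → ℂ) 1 - (δ : ℂ) * (O.card : ℂ) else 0) := by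
    intro y
    by_cases hy : y = 1
    · rw [if_pos hy, hy, hF1]
      simp
    · rw [if_neg hy, add_zero]
      exact hχ y hy
  have hsum : ∑ y : (P : Subgroup G), (χ : G → ℂ) (y : G) = (χ : G → ℂ) 1 - (δ : ℂ) * (O.card : ℂ) := by
    rw [Finset.sum_congr rfl (fun y _ => hval y), Finset.sum_add_distrib, hFsum, zero_add,
      Finset.sum_ite_eq' Finset.univ (1 : (P : Subgroup G))]
    simp
  rw [hn] at hsum
  push_cast
  linear_combination -hsum

end Cfsg.Agent.Lib.H26.CY
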