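import Mathlib

set_option autoImplicit false
set_option linter.unusedSectionVars false

/-!
Fixed points of a Sylow `p`-subgroup on a finite abelian `p`-group split over the fixed points of
the whole group (a transfer argument; helper26).
-/

namespace Cfsg.Agent.Lib.H26

open scoped Classical in
/-- The fixed points of a subgroup `X` of `G` acting on `M` through `ρ`. -/
def fixSub {G M : Type*} [Group G] [CommGroup M] (ρ : G →* MulAut M) (X : Subgroup G) :
    Subgroup M where
  carrier := {m | ∀ g ∈ X, ρ g m = m}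
  one_mem' := fun g _ => map_one _
  mul_mem' := by
    intro a b ha hb g hg
    rw [map_mul, ha g hg, hb g hg]
  inv_mem' := by
    intro a ha g hg
    rw [map_inv, ha g hg]

theorem mem_fixSub {G M : Type*} [Group G] [CommGroup M] (ρ : G →* MulAut M) (X : Subgroup G)
    (m : M) : m ∈ fixSub ρ X ↔ ∀ g ∈ X, ρ g m = m := Iff.rfl

theorem fixSub_anti {G M : Type*} [Group G] [CommGroup M] (ρ : G →* MulAut M)
    {X Y : Subgroup G} (h : X ≤ Y) : fixSub ρ Y ≤ fixSub ρ X :=
  fun _ hm g hg => hm g (h hg)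

open scoped Classical in
/-- The transfer (relative trace) map from `H`-fixed points to `G`-fixed points. -/
noncomputable def trMap {G M : Type*} [Group G] [CommGroup M] (ρ : G →* MulAut M)
    (H : Subgroup G) [Fintype (G ⧸ H)] : M →* M :=
  ∏ q : G ⧸ H, (ρ (Quotient.out q)).toMonoidHom

theorem trMap_apply {G M : Type*} [Group G] [CommGroup M] (ρ : G →* MulAut M)
    (H : Subgroup G) [Fintype (G ⧸ H)] (m : M) :
    trMap ρ H m = ∏ q : G ⧸ H, ρ (Quotient.out q) m := by
  unfold trMap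
  rw [MonoidHom.finsetProd_apply]
  rfl

theorem trMap_fixed {G M : Type*} [Group G] [CommGroup M] (ρ : G →* MulAut M)
    (H : Subgroup G) [Fintype (G ⧸ H)] {m : M} (hm : m ∈ fixSub ρ H) :
    trMap ρ H m ∈ fixSub ρ ⊤ := by
  intro g _
  rw [trMap_apply, map_prod]
  have key : ∀ q : G ⧸ H, ρ g (ρ (Quotient.out q) m) = ρ (Quotient.out (g • q)) m := by
    intro q
    have h1 : (g • q : G ⧸ H) = ((g * Quotient.out q : G) : G ⧸ H) := by
      conv_lhs => rw [← QuotientGroup.out_eq' q]
      rfl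
    have h2 : ((Quotient.out (g • q) : G) : G ⧸ H) = ((g * Quotient.out q : G) : G ⧸ H) := by
      rw [QuotientGroup.out_eq', h1]
    have h3 : (Quotient.out (g • q))⁻¹ * (g * Quotient.out q) ∈ H := QuotientGroup.eq.1 h2
    have h4 := hm _ h3
    have e : g * Quotient.out q = Quotient.out (g • q) *
        ((Quotient.out (g • q))⁻¹ * (g * Quotient.out q)) := by group
    rw [← MulAut.mul_apply, ← map_mul, e, map_mul, MulAut.mul_apply, h4]
  rw [Finset.prod_congr rfl (fun q _ => key q)]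
  exact Equiv.prod_comp (MulAction.toPerm g : Equiv.Perm (G ⧸ H)) (fun q => ρ (Quotient.out q) m)

theorem trMap_of_fixed {G M : Type*} [Group G] [CommGroup M] (ρ : G →* MulAut M)
    (H : Subgroup G) [Fintype (G ⧸ H)] {m : M} (hm : m ∈ fixSub ρ ⊤) :
    trMap ρ H m = m ^ H.index := by
  rw [trMap_apply]
  have : ∀ q : G ⧸ H, ρ (Quotient.out q) m = m := fun q => hm _ (Subgroup.mem_top _)
  rw [Finset.prod_congr rfl (fun q _ => this q), Finset.prod_const, Finset.card_univ,
    Subgroup.index, Nat.card_eq_fintype_card]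

/-- The splitting. -/
theorem exists_fixSub_complement {G M : Type*} [Group G] [Finite G] [CommGroup M] (p : ℕ)
    [Fact p.Prime] (hM : IsPGroup p M) (ρ : G →* MulAut M) (H : Subgroup G)
    (hH : (H.index).Coprime p) :
    ∃ K : Subgroup M, K ≤ fixSub ρ H ∧ fixSub ρ ⊤ ⊓ K = ⊥ ∧ fixSub ρ ⊤ ⊔ K = fixSub ρ H := by
  classical
  have : Fintype (G ⧸ H) := Fintype.ofFinite _
  have hcop : ∀ m : M, (H.index).Coprime (orderOf m) := by
    intro m
    obtain ⟨k, hk⟩ := hM m
    have h1 : orderOf m ∣ p ^ k := orderOf_dvd_of_pow_eq_one hk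
    exact Nat.Coprime.coprime_dvd_right h1 (Nat.Coprime.pow_right k hH)
  refine ⟨fixSub ρ H ⊓ (trMap ρ H).ker, inf_le_left, ?_, ?_⟩
  · rw [eq_bot_iff]
    rintro m ⟨hm1, -, hm2⟩
    rw [Subgroup.mem_bot]
    have h1 : trMap ρ H m = 1 := hm2
    rw [trMap_of_fixed ρ H hm1] at h1
    have h2 : orderOf m ∣ H.index := orderOf_dvd_of_pow_eq_one h1
    have h3 : orderOf m = 1 := Nat.Coprime.eq_one_of_dvd (hcop m).symm h2
    exact orderOf_eq_one_iff.1 h3
  · apply le_antisymm
    · exact sup_le (fixSub_anti ρ le_top) inf_le_left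
    · intro m hm
      have hw := trMap_fixed ρ H hm
      obtain ⟨j, hj⟩ := exists_pow_eq_self_of_coprime (hcop (trMap ρ H m))
      have hw' : (trMap ρ H m) ^ j ∈ fixSub ρ ⊤ := Subgroup.pow_mem _ hw j
      have htr : trMap ρ H ((trMap ρ H m) ^ j) = trMap ρ H m := by
        rw [trMap_of_fixed ρ H hw', ← pow_mul, mul_comm, pow_mul, hj]
      have e : m = (trMap ρ H m) ^ j * (((trMap ρ H m) ^ j)⁻¹ * m) := by group
      rw [e]
      refine Subgroup.mul_mem _ ((le_sup_left : fixSub ρ ⊤ ≤ _) hw') ((le_sup_right : _ ≤ fixSub ρ ⊤ ⊔ _) ?_)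
      refine ⟨Subgroup.mul_mem _ (Subgroup.inv_mem _ (fixSub_anti ρ le_top hw')) hm, ?_⟩
      show trMap ρ H (((trMap ρ H m) ^ j)⁻¹ * m) = 1
      rw [map_mul, map_inv, htr, inv_mul_cancel]

end Cfsg.Agent.Lib.H26
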