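import Mathlib
import Cfsg.Prelude.Def_FusionSystem
import Cfsg.Agent.Lib.H25.Fusion
import Cfsg.Agent.Lib.H25.Normal
import Cfsg.Agent.Lib.H25.Alperin
import Cfsg.Agent.Lib.H25.SatEquiv
import Cfsg.Agent.Lib.H26.TransferSplit
import Cfsg.Agent.S5144
import Cfsg.Agent.S5145

set_option autoImplicit false
set_option linter.unusedSectionVars false

/-!
If `Z(S) ≤ O_p(F)` for a saturated fusion system `F` over `S`, then `Z(F)` is a direct factor of
`Z(S)` (helper26).
-/

namespace Cfsg.Agent.Lib.H26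

open Cfsg Cfsg.FusionSystem Cfsg.Agent.Lib.H25

/-- Restriction of automorphisms to the centre. -/
def centerRestrict (X : Type*) [Group X] : MulAut X →* MulAut (Subgroup.center X) where
  toFun α :=
    { toFun := fun z => ⟨α z, by
        rw [Subgroup.mem_center_iff]
        intro g
        have := Subgroup.mem_center_iff.1 z.2 (α.symm g)
        have h2 := congrArg α this
        rw [map_mul, map_mul, MulEquiv.apply_symm_apply] at h2
        exact h2⟩
      invFun := fun z => ⟨α.symm z, by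
        rw [Subgroup.mem_center_iff]
        intro g
        have := Subgroup.mem_center_iff.1 z.2 (α g)
        have h2 := congrArg α.symm this
        rw [map_mul, map_mul, MulEquiv.symm_apply_apply] at h2
        exact h2⟩
      left_inv := fun z => Subtype.ext (by simp)
      right_inv := fun z => Subtype.ext (by simp)
      map_mul' := fun a b => Subtype.ext (by simp) }
  map_one' := by
    ext z
    rfl
  map_mul' := by
    intro a b
    ext z
    rfl

theorem centerRestrict_apply (X : Type*) [Group X] (α : MulAut X) (z : Subgroup.center X) :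
    ((centerRestrict X α z : Subgroup.center X) : X) = α z := rfl

variable {Ω : Type*} [Group Ω] {S : Subgroup Ω}

open scoped IsMulCommutative in
theorem center_split [Finite S] {p : ℕ} [Fact p.Prime] (hS : IsPGroup p S)
    {F : FusionSystem S} (hF : F.IsSaturated p)
    (hZ : (S ⊓ Subgroup.centralizer (S : Set Ω)) ≤ F.core) :
    ∃ K : Subgroup Ω, K ≤ (S ⊓ Subgroup.centralizer (S : Set Ω)) ∧ F.center ⊓ K = ⊥ ∧
      F.center ⊔ K = (S ⊓ Subgroup.centralizer (S : Set Ω)) := by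
  obtain ⟨Q, hQdef⟩ : ∃ Q : Subgroup Ω, Q = F.core := ⟨_, rfl⟩
  rw [← hQdef] at hZ
  have hQn : F.IsNormal Q := hQdef ▸ Cfsg.Agent.S5145.result F
  have hQS : Q ≤ S := hQn.1
  have hQsc := isNormal_stronglyClosed hQn
  have hfinQ : Finite Q := finite_of_le S hQS
  have hfn : F.IsFullyNormalized Q := by
    refine ⟨hQS, fun Q' _ => ?_⟩
    rw [stronglyClosed_normalizerIn_eq hQsc]
    exact Subgroup.card_le_of_le inf_le_left
  obtain ⟨-, R, hR⟩ := (fullyNormalized_props hS hF hfn).2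
  have hfinA : Finite ↥(F.autGroup Q) := inferInstance
  have hidx : ((R : Subgroup ↥(F.autGroup Q)).index).Coprime p :=
    ((Nat.Prime.coprime_iff_not_dvd (Fact.out : p.Prime)).2 R.not_dvd_index).symm
  have hMp : IsPGroup p ↥(Subgroup.center ↥Q) := (hS.to_le hQS).to_subgroup _
  obtain ⟨ρ, hρ⟩ : ∃ ρ : ↥(F.autGroup Q) →* MulAut ↥(Subgroup.center ↥Q),
      ρ = (centerRestrict ↥Q).comp (F.autGroup Q).subtype := ⟨_, rfl⟩
  have hρapp : ∀ (α : ↥(F.autGroup Q)) (z : ↥(Subgroup.center ↥Q)),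
      (((ρ α z : ↥(Subgroup.center ↥Q)) : ↥Q) : Ω) = (((α : MulAut ↥Q) (z : ↥Q) : ↥Q) : Ω) := by
    intro α z
    rw [hρ]
    rfl
  obtain ⟨K', hK'le, hK'inf, hK'sup⟩ :=
    exists_fixSub_complement (G := ↥(F.autGroup Q)) (M := ↥(Subgroup.center ↥Q)) p hMp ρ
      (R : Subgroup ↥(F.autGroup Q)) hidx
  obtain ⟨ι, hι⟩ : ∃ ι : ↥(Subgroup.center ↥Q) →* Ω,
      ι = Q.subtype.comp (Subgroup.center ↥Q).subtype := ⟨_, rfl⟩
  have hιapp : ∀ z : ↥(Subgroup.center ↥Q), ι z = ((z : ↥Q) : Ω) := by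
    intro z; rw [hι]; rfl
  have hιinj : Function.Injective ι := by
    rw [hι]
    exact Q.subtype_injective.comp (Subgroup.center ↥Q).subtype_injective
  -- elements of `Z(S)` as elements of `Z(Q)`
  have hZSmem : ∀ z ∈ S ⊓ Subgroup.centralizer (S : Set Ω), ∃ m : ↥(Subgroup.center ↥Q), ι m = z := by
    intro z hz
    have hzQ : z ∈ Q := hZ hz
    have hzc : (⟨z, hzQ⟩ : ↥Q) ∈ Subgroup.center ↥Q := by
      rw [Subgroup.mem_center_iff]
      intro g
      apply Subtype.ext
      exact (Subgroup.mem_centralizer_iff.1 hz.2) g (hQS g.2)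
    exact ⟨⟨⟨z, hzQ⟩, hzc⟩, by rw [hιapp]⟩
  -- (a) the fixed points of `Aut_S(Q)` are `Z(S)`
  have ha : (fixSub ρ (R : Subgroup ↥(F.autGroup Q))).map ι =
      S ⊓ Subgroup.centralizer (S : Set Ω) := by
    apply le_antisymm
    · rintro _ ⟨m, hm, rfl⟩
      rw [hιapp]
      refine ⟨hQS (m : ↥Q).2, ?_⟩
      show _ ∈ Subgroup.centralizer (S : Set Ω)
      rw [Subgroup.mem_centralizer_iff]
      intro s hs
      have hiso : IsIso F Q Q (fun x => s * x * s⁻¹) :=
        stronglyClosed_isIso_self hQsc (IsIso.conj (F := F) le_rfl hs) hQS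
      obtain ⟨α, hα, hαs⟩ := exists_mem_autGroup_of_isIso F hiso
      have hαR : (⟨α, hα⟩ : ↥(F.autGroup Q)) ∈ (R : Subgroup ↥(F.autGroup Q)) := by
        rw [hR, Subgroup.mem_subgroupOf]
        exact (mem_autInducedBy_iff S Q α).2 ⟨s, hs, hαs⟩
      have h1 := hm _ hαR
      have h2 := congrArg (fun y : ↥(Subgroup.center ↥Q) => ((y : ↥Q) : Ω)) h1
      rw [hρapp] at h2
      have h3 : ((α (m : ↥Q) : ↥Q) : Ω) = ((m : ↥Q) : Ω) := h2
      rw [hαs] at h3
      calc s * ((m : ↥Q) : Ω) = (s * ((m : ↥Q) : Ω) * s⁻¹) * s := by group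
        _ = ((m : ↥Q) : Ω) * s := by rw [h3]
    · intro z hz
      obtain ⟨m, hm⟩ := hZSmem z hz
      refine ⟨m, ?_, hm⟩
      intro α hα
      rw [hR, Subgroup.mem_subgroupOf] at hα
      obtain ⟨s, hs, hαs⟩ := (mem_autInducedBy_iff S Q _).1 hα
      apply Subtype.ext
      apply Subtype.ext
      rw [hρapp, hαs, ← hιapp, hm]
      have := (Subgroup.mem_centralizer_iff.1 hz.2) s hs
      rw [this]
      group
  -- (b) the fixed points of `Aut_F(Q)` are `Z(F)`
  have hc : F.IsCentral F.center := Cfsg.Agent.S5144.result F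
  have hcZS : F.center ≤ S ⊓ Subgroup.centralizer (S : Set Ω) :=
    le_inf hc.1 (center_le_centralizer F)
  have hb : (fixSub ρ ⊤).map ι = F.center := by
    apply le_antisymm
    · rintro _ ⟨m, hm, rfl⟩
      rw [hιapp]
      obtain ⟨z, hz⟩ : ∃ z : Ω, z = ((m : ↥Q) : Ω) := ⟨_, rfl⟩
      rw [← hz]
      have hzQ : z ∈ Q := by rw [hz]; exact (m : ↥Q).2
      have hcen : F.IsCentral (Subgroup.zpowers z) := by
        refine ⟨(Subgroup.zpowers_le.2 (hQS hzQ)), fun P φ hφ => ?_⟩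
        obtain ⟨g, hg, hgP, hgQ⟩ := isNormal_exists_ext hQn (isIso_of_mem F hφ)
        obtain ⟨α, hα, hαg⟩ := exists_mem_autGroup_of_isIso F hgQ
        have hgz : g z = z := by
          have h1 := hm ⟨α, hα⟩ (Subgroup.mem_top _)
          have h2 := congrArg (fun y : ↥(Subgroup.center ↥Q) => ((y : ↥Q) : Ω)) h1
          rw [hρapp] at h2
          have h3 : ((α (m : ↥Q) : ↥Q) : Ω) = ((m : ↥Q) : Ω) := h2
          rw [hαg] at h3
          rw [hz]
          exact h3
        have hzfix : z ∈ hg.fixedPts := ⟨(le_sup_right : Q ≤ P ⊔ Q) hzQ, hgz⟩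
        have hzp : Subgroup.zpowers z ≤ hg.fixedPts := Subgroup.zpowers_le.2 hzfix
        have hle : P ⊔ Subgroup.zpowers z ≤ P ⊔ Q :=
          sup_le le_sup_left ((Subgroup.zpowers_le.2 hzQ).trans le_sup_right)
        obtain ⟨B, -, hgB, -⟩ := hg.restrict hle
        obtain ⟨ψ, hψ, hψg, -⟩ := hgB
        refine ⟨ψ, hψ, fun x => ?_, fun x => ?_⟩
        · rw [hψg]
          show g (x : Ω) = φ x
          rw [hgP x x.2, ext1_apply]
        · rw [hψg]
          exact (hzp x.2).2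
      exact (le_sSup hcen : Subgroup.zpowers z ≤ F.center) (Subgroup.mem_zpowers z)
    · intro z hz
      obtain ⟨m, hm⟩ := hZSmem z (hcZS hz)
      refine ⟨m, ?_, hm⟩
      intro α _
      apply Subtype.ext
      apply Subtype.ext
      rw [hρapp]
      have hφ := (mem_autGroup_iff F hQS (α : MulAut ↥Q)).1 α.2
      obtain ⟨ψ, -, hψQ, hψZ⟩ := hc.2 Q _ hφ
      have hzm : ((m : ↥Q) : Ω) = z := by rw [← hιapp, hm]
      have h1 := hψQ (m : ↥Q)
      have h2 := hψZ ⟨z, hz⟩
      have h12 : Subgroup.inclusion (le_sup_left : Q ≤ Q ⊔ F.center) (m : ↥Q) =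
          Subgroup.inclusion (le_sup_right : F.center ≤ Q ⊔ F.center) ⟨z, hz⟩ :=
        Subtype.ext hzm
      rw [h12, h2] at h1
      rw [hzm]
      exact h1.symm
  refine ⟨K'.map ι, ?_, ?_, ?_⟩
  · rw [← ha]
    exact Subgroup.map_mono hK'le
  · rw [← hb, ← Subgroup.map_inf _ _ ι hιinj, hK'inf, Subgroup.map_bot]
  · rw [← hb, ← Subgroup.map_sup, hK'sup, ha]

end Cfsg.Agent.Lib.H26
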