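import Mathlib
import Cfsg.Prelude.Def_FusionSystem
import Cfsg.Agent.Lib.H25.Fusion
import Cfsg.Agent.Lib.H25.Normal
import Cfsg.Agent.Lib.H25.Alperin
import Cfsg.Agent.Lib.H25.Saturation
import Cfsg.Agent.Lib.H25.SatEquiv
import Cfsg.Agent.S5097

set_option autoImplicit false
set_option linter.unusedSectionVars false

/-!
A saturated subsystem `F' ≤ F` over the same `S` with the same maps on the fully centralized
subgroups `Z` of order `p` and the same centralizer systems `C_F(Z) = C_{F'}(Z)` is all of `F`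
(helper26).
-/

namespace Cfsg.Agent.Lib.H26

open Cfsg Cfsg.FusionSystem Cfsg.Agent.Lib.H25

variable {Ω : Type*} [Group Ω] {S : Subgroup Ω}

theorem isIso_of_le {F F' : FusionSystem S} (hle : F' ≤ F) {P Q : Subgroup Ω} {f : Ω → Ω}
    (h : IsIso F' P Q f) : IsIso F P Q f := by
  obtain ⟨φ, hφ, h1, h2⟩ := h
  exact ⟨φ, hle P hφ, h1, h2⟩

/-- An isomorphism onto a receptive subgroup extends to every subgroup containing the source and
centralizing it. -/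
theorem extend_to_centralizing {F : FusionSystem S} {P Q : Subgroup Ω} {f : Ω → Ω}
    (hQ : F.IsReceptive Q) (hf : IsIso F P Q f) {N : Subgroup Ω} (hNS : N ≤ S)
    (hNc : ∀ g ∈ N, ∀ x ∈ P, g * x = x * g) :
    ∃ (f' : Ω → Ω) (N' : Subgroup Ω), IsIso F N N' f' ∧ ∀ x ∈ P, x ∈ N → f' x = f x := by
  apply IsReceptive_extend hQ hf N
  intro g hg
  have hcomm : ∀ x ∈ P, g * x * g⁻¹ = x := by
    intro x hx
    rw [hNc g hg x hx]
    group
  refine ⟨hNS hg, ?_, 1, S.one_mem, fun x hx => ?_⟩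
  · rw [Subgroup.mem_normalizer_iff]
    intro x
    constructor
    · intro hx
      rw [hcomm x hx]
      exact hx
    · intro hx
      have h1 := hcomm _ hx
      have h2 : g * x * g⁻¹ = x := by
        calc g * x * g⁻¹ = g⁻¹ * (g * (g * x * g⁻¹) * g⁻¹) * g := by group
          _ = g⁻¹ * (g * x * g⁻¹) * g := by rw [h1]
          _ = x := by group
      rw [← h2]
      exact hx
  · rw [hcomm x hx]
    group

theorem hom_subset_of_centralizers [Finite S] {p : ℕ} [Fact p.Prime] (hS : IsPGroup p S)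
    {F F' : FusionSystem S} (hF : F.IsSaturated p) (hF' : F'.IsSaturated p) (hle : F' ≤ F)
    (hZ : ∀ Z : Subgroup Ω, Z ≤ S → Nat.card Z = p → F'.IsFullyCentralized Z →
      F.Hom Z = F'.Hom Z ∧ ∀ P : Subgroup Ω, F.centralizerHom Z P = F'.centralizerHom Z P) :
    ∀ P : Subgroup Ω, F.Hom P ⊆ F'.Hom P := by
  apply alperin hS F hF F'
  intro U hU α hα
  have hUS : U ≤ S := le_of_eq_or_essential hU
  by_cases hU1 : U = ⊥
  · subst hU1
    have : α = 1 := by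
      ext x
      have hx : x = 1 := Subtype.ext (Subgroup.mem_bot.1 x.2)
      rw [hx, map_one]
      rfl
    rw [this]
    exact Subgroup.one_mem _
  have hfinU : Finite U := finite_of_le S hUS
  have hUp : IsPGroup p U := hS.to_le hUS
  have hUnt : Nontrivial ↥U := (Subgroup.nontrivial_iff_ne_bot U).2 hU1
  have hcnt : Nontrivial (Subgroup.center ↥U) := hUp.center_nontrivial
  have hdvd : p ∣ Nat.card (Subgroup.center ↥U) := by
    rcases (hUp.to_subgroup (Subgroup.center ↥U)).card_eq_or_dvd with h | h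
    · exfalso
      have := Finite.one_lt_card (α := Subgroup.center ↥U)
      omega
    · exact h
  obtain ⟨z, hz⟩ := exists_prime_orderOf_dvd_card' p hdvd
  obtain ⟨z₀, hz₀⟩ : ∃ z₀ : Ω, z₀ = ((z : ↥U) : Ω) := ⟨_, rfl⟩
  have hz₀o : orderOf z₀ = p := by
    rw [hz₀, ← hz, Subgroup.orderOf_coe, Subgroup.orderOf_coe]
  have hz₀U : z₀ ∈ U := by rw [hz₀]; exact (z : ↥U).2
  have hz₀c : ∀ g ∈ U, g * z₀ = z₀ * g := by
    intro g hg
    have h1 := Subgroup.mem_center_iff.1 z.2 ⟨g, hg⟩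
    have h2 := congrArg Subtype.val h1
    rw [hz₀]
    exact h2
  obtain ⟨Z, hZdef⟩ : ∃ Z : Subgroup Ω, Z = Subgroup.zpowers z₀ := ⟨_, rfl⟩
  have hZcard : Nat.card Z = p := by rw [hZdef, Nat.card_zpowers, hz₀o]
  have hZU : Z ≤ U := by
    rw [hZdef, Subgroup.zpowers_le]
    exact hz₀U
  have hZc : ∀ g ∈ U, ∀ x ∈ Z, g * x = x * g := by
    intro g hg x hx
    rw [hZdef] at hx
    obtain ⟨n, rfl⟩ := hx
    exact ((Commute.zpow_right (hz₀c g hg) n) : g * z₀ ^ n = z₀ ^ n * g)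
  -- the automorphism as a function
  have hαiso : IsIso F U U (ext1 (U.subtype.comp α.toMonoidHom)) := isIso_of_mem_autGroup F hUS hα
  obtain ⟨a, had⟩ : ∃ a : Ω → Ω, a = ext1 (U.subtype.comp α.toMonoidHom) := ⟨_, rfl⟩
  rw [← had] at hαiso
  obtain ⟨Z', hZ'U, haZ, hZ'mem⟩ := hαiso.restrict hZU
  have hZ'c : ∀ g ∈ U, ∀ x ∈ Z', g * x = x * g := by
    intro g hg x hx
    obtain ⟨x₀, hx₀, rfl⟩ := haZ.surjOn hx
    obtain ⟨g₀, hg₀, rfl⟩ := hαiso.surjOn hg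
    rw [← hαiso.map_mul hg₀ (hZU hx₀), ← hαiso.map_mul (hZU hx₀) hg₀, hZc g₀ hg₀ x₀ hx₀]
  -- a fully `F'`-centralized conjugate of `Z`
  obtain ⟨Z₁, hconj, hfc⟩ := exists_fullyCentralized_conj F' (hZU.trans hUS)
  have hrec : F'.IsReceptive Z₁ := isReceptive_of_fullyCentralized hS hF' hfc
  obtain ⟨χ, hχ⟩ := (isConj_iff F').1 hconj
  have hZ₁card : Nat.card Z₁ = p := by rw [← hχ.card_eq, hZcard]
  obtain ⟨hHomEq, hCentEq⟩ := hZ Z₁ hfc.1 hZ₁card hfc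
  obtain ⟨k₁, U₁, hk₁, hk₁Z⟩ := extend_to_centralizing hrec hχ hUS hZc
  -- the map `θ : Z' → Z₁`
  obtain ⟨a', ha', ha'a, haa'⟩ := haZ.symm
  have hθF : IsIso F Z' Z₁ (χ ∘ a') := ha'.trans (isIso_of_le hle hχ)
  obtain ⟨θi, hθi, hθiθ, hθθi⟩ := hθF.symm
  have hθi' : IsIso F' Z₁ Z' θi := by
    obtain ⟨φ, hφ, h1, h2⟩ := hθi
    rw [hHomEq] at hφ
    exact ⟨φ, hφ, h1, h2⟩
  obtain ⟨θ', hθ', hθ'θi, hθiθ'⟩ := hθi'.symm
  have hθ'eq : ∀ x ∈ Z', θ' x = χ (a' x) := by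
    intro x hx
    have h1 : θi ((χ ∘ a') x) = x := hθiθ x hx
    have h2 : (χ ∘ a') x ∈ Z₁ := hθF.map_mem hx
    have h3 := hθ'θi _ h2
    rw [h1] at h3
    exact h3
  obtain ⟨k₂, U₂, hk₂, hk₂Z'⟩ := extend_to_centralizing hrec hθ' hUS hZ'c
  -- the map `β : U₁ → U₂`
  obtain ⟨k₁i, hk₁i, hk₁ik₁, hk₁k₁i⟩ := hk₁.symm
  have hβF : IsIso F U₁ U₂ (k₂ ∘ a ∘ k₁i) :=
    ((isIso_of_le hle hk₁i).trans hαiso).trans (isIso_of_le hle hk₂)
  have hZ₁U₁ : Z₁ ≤ U₁ := by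
    intro y hy
    obtain ⟨x, hx, rfl⟩ := hχ.surjOn hy
    rw [← hk₁Z x hx (hZU hx)]
    exact hk₁.map_mem (hZU hx)
  have hβfix : ∀ y ∈ Z₁, (k₂ ∘ a ∘ k₁i) y = y := by
    intro y hy
    obtain ⟨x, hx, rfl⟩ := hχ.surjOn hy
    have h1 : k₁i (χ x) = x := by
      rw [← hk₁Z x hx (hZU hx)]
      exact hk₁ik₁ x (hZU hx)
    show k₂ (a (k₁i (χ x))) = χ x
    rw [h1]
    have h2 : a x ∈ Z' := haZ.map_mem hx
    rw [hk₂Z' _ h2 (hZ'U h2), hθ'eq _ h2, ha'a x hx]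
  have hU₁S : U₁ ≤ S := hk₁.le_right
  have hU₂S : U₂ ≤ S := hk₂.le_right
  have hU₁C : U₁ ≤ centralizerIn S Z₁ := by
    intro u hu
    refine ⟨hU₁S hu, ?_⟩
    show u ∈ Subgroup.centralizer (Z₁ : Set Ω)
    rw [Subgroup.mem_centralizer_iff]
    intro y hy
    obtain ⟨x, hx, rfl⟩ := hχ.surjOn hy
    obtain ⟨u₀, hu₀, rfl⟩ := hk₁.surjOn hu
    rw [← hk₁Z x hx (hZU hx), ← hk₁.map_mul (hZU hx) hu₀, ← hk₁.map_mul hu₀ (hZU hx),
      hZc u₀ hu₀ x hx]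
  have hU₂C : U₂ ≤ centralizerIn S Z₁ := by
    intro u hu
    refine ⟨hU₂S hu, ?_⟩
    show u ∈ Subgroup.centralizer (Z₁ : Set Ω)
    rw [Subgroup.mem_centralizer_iff]
    intro y hy
    obtain ⟨x, hx, rfl⟩ := hθ'.surjOn hy
    obtain ⟨u₀, hu₀, rfl⟩ := hk₂.surjOn hu
    rw [← hk₂Z' x hx (hZ'U hx), ← hk₂.map_mul (hZ'U hx) hu₀, ← hk₂.map_mul hu₀ (hZ'U hx),
      hZ'c u₀ hu₀ x hx]
  obtain ⟨φβ, hφβ, hφβval, hφβrange⟩ := hβF.exists_hom
  have hmemF : φβ ∈ F.centralizerHom Z₁ U₁ := by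
    rw [Cfsg.Agent.S5097.mem_centralizerHom_iff]
    refine ⟨hφβ, hU₁C, fun x => ?_, k₂ ∘ a ∘ k₁i, U₂, ?_, fun x => (hφβval x).symm, hβfix⟩
    · rw [hφβval]
      exact hU₂C (hβF.map_mem x.2)
    · rw [sup_eq_left.2 hZ₁U₁]
      exact hβF
  rw [hCentEq] at hmemF
  have hβF' : IsIso F' U₁ U₂ (k₂ ∘ a ∘ k₁i) := ⟨φβ, hmemF.1, hφβval, hφβrange⟩
  obtain ⟨k₂i, hk₂i, hk₂ik₂, -⟩ := hk₂.symm
  have hfinal : IsIso F' U U (k₂i ∘ (k₂ ∘ a ∘ k₁i) ∘ k₁) := (hk₁.trans hβF').trans hk₂i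
  have hα' : IsIso F' U U a := by
    apply hfinal.congr
    intro x hx
    show k₂i (k₂ (a (k₁i (k₁ x)))) = a x
    rw [hk₁ik₁ x hx, hk₂ik₂ _ (hαiso.map_mem hx)]
  obtain ⟨α', hα'mem, hα'val⟩ := exists_mem_autGroup_of_isIso F' hα'
  have : α' = α := by
    ext x
    rw [hα'val, had, ext1_apply]
    rfl
  rw [← this]
  exact hα'mem

end Cfsg.Agent.Lib.H26
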