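import Cfsg.Agent.Lib.H24.GlaubSolv5
import Cfsg.Agent.Lib.H20.ConjCover

/-!
# Coprime operators fixing all invariant characters (helper26)

Ambient form (all groups are subgroups of one finite group `Γ`, as in helper24's `Glaub` library).

* `centralizes_fixed_of_fixes_invariant`: `P` a `p`-group and `Q` a `q`-group normalising `N`,
  commuting elementwise, `p` and `q` not dividing `|N|`.  If every `P`-invariant irreducible
  character of `N` is `Q`-invariant, then `Q` centralises `C_N(P) = N ⊓ centralizer P`.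
-/

set_option autoImplicit false

universe u

namespace Cfsg.Agent.Lib.H26.CopFix

open Cfsg Cfsg.Agent.Lib.L0 Cfsg.Agent.Lib.H24 Cfsg.Agent.Lib.H24.Glaub

variable {Γ : Type u} [Group Γ] [Fintype Γ]

theorem mem_normalizer_of_conj_mem (N S : Subgroup Γ) (h : ∀ s ∈ S, ∀ n ∈ N, s * n * s⁻¹ ∈ N) :
    S ≤ Subgroup.normalizer (N : Set Γ) := by
  intro s hs
  rw [Subgroup.mem_normalizer_iff]
  intro n
  constructor
  · exact h s hs n
  · intro hn
    have := h s⁻¹ (S.inv_mem hs) _ hn
    have e : s⁻¹ * (s * n * s⁻¹) * s⁻¹⁻¹ = n := by group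
    rwa [e] at this

theorem card_sup_dvd (P Q : Subgroup Γ) (hPQ : ∀ s ∈ P, ∀ t ∈ Q, s * t = t * s) :
    Nat.card ↥(P ⊔ Q) ∣ Nat.card P * Nat.card Q := by
  classical
  let f : P →* Γ := P.subtype
  let g : Q →* Γ := Q.subtype
  have comm : ∀ (m : P) (n : Q), Commute (f m) (g n) := fun m n => hPQ m m.2 n n.2
  let φ : P × Q →* Γ := MonoidHom.noncommCoprod f g comm
  have hr : φ.range = P ⊔ Q := by
    rw [MonoidHom.noncommCoprod_range]
    simp [f, g]
  rw [← hr, ← Nat.card_prod]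
  exact Subgroup.card_range_dvd φ

theorem isSolvable_sup (p q : ℕ) [Fact p.Prime] [Fact q.Prime] (P Q : Subgroup Γ)
    (hP : IsPGroup p P) (hQ : IsPGroup q Q) (hPQ : ∀ s ∈ P, ∀ t ∈ Q, s * t = t * s) :
    Group.IsSolvable ↥(P ⊔ Q) := by
  classical
  let f : P →* Γ := P.subtype
  let g : Q →* Γ := Q.subtype
  have comm : ∀ (m : P) (n : Q), Commute (f m) (g n) := fun m n => hPQ m m.2 n n.2
  let φ : P × Q →* Γ := MonoidHom.noncommCoprod f g comm
  have hr : φ.range = P ⊔ Q := by
    rw [MonoidHom.noncommCoprod_range]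
    simp [f, g]
  haveI : Group.IsNilpotent P := hP.isNilpotent
  haveI : Group.IsNilpotent Q := hQ.isNilpotent
  haveI : Group.IsSolvable (P × Q) := inferInstance
  rw [← hr]
  exact solvable_of_surjective (f := φ.rangeRestrict) φ.rangeRestrict_surjective

/-- **Coprime operators fixing all invariant characters.**  `P` a `p`-group, `Q` a `q`-group, both
normalising `N`, commuting elementwise, `p, q ∤ |N|`.  If every `P`-invariant irreducible character
of `N` is `Q`-invariant, then `Q` centralises `C_N(P)`. -/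
theorem centralizes_fixed_of_fixes_invariant (p q : ℕ) [Fact p.Prime] [Fact q.Prime]
    (N P Q : Subgroup Γ) (hP : IsPGroup p P) (hQ : IsPGroup q Q)
    (hPN : ∀ s ∈ P, ∀ n ∈ N, s * n * s⁻¹ ∈ N) (hQN : ∀ t ∈ Q, ∀ n ∈ N, t * n * t⁻¹ ∈ N)
    (hPQ : ∀ s ∈ P, ∀ t ∈ Q, s * t = t * s)
    (hpN : ¬ p ∣ Nat.card N) (hqN : ¬ q ∣ Nat.card N)
    (hfix : ∀ θ : IrrCharacter N, (∀ s ∈ P, InvUnder N s (θ : N → ℂ)) →
      ∀ t ∈ Q, InvUnder N t (θ : N → ℂ)) :
    ∀ t ∈ Q, ∀ c ∈ N ⊓ Subgroup.centralizer (P : Set Γ), t * c * t⁻¹ = c := by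
  classical
  have hpp : p.Prime := Fact.out
  have hqp : q.Prime := Fact.out
  set S : Subgroup Γ := P ⊔ Q with hS
  set C : Subgroup Γ := N ⊓ Subgroup.centralizer (P : Set Γ) with hC
  have hPnorm := mem_normalizer_of_conj_mem N P hPN
  have hQnorm := mem_normalizer_of_conj_mem N Q hQN
  have hSnorm : S ≤ Subgroup.normalizer (N : Set Γ) := sup_le hPnorm hQnorm
  have hSN : ∀ s ∈ S, ∀ n ∈ N, s * n * s⁻¹ ∈ N := fun s hs n hn =>
    (Subgroup.mem_normalizer_iff.mp (hSnorm hs) n).mp hn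
  -- coprimality
  have hcopP : (Nat.card N).Coprime (Nat.card P) := by
    obtain ⟨a, ha⟩ := hP.exists_card_eq
    rw [ha]
    exact Nat.Coprime.pow_right _ ((Nat.Prime.coprime_iff_not_dvd hpp).mpr hpN).symm
  have hcopQ : (Nat.card N).Coprime (Nat.card Q) := by
    obtain ⟨a, ha⟩ := hQ.exists_card_eq
    rw [ha]
    exact Nat.Coprime.pow_right _ ((Nat.Prime.coprime_iff_not_dvd hqp).mpr hqN).symm
  have hcopS : (Nat.card N).Coprime (Nat.card S) :=
    Nat.Coprime.coprime_dvd_right (card_sup_dvd P Q hPQ) (Nat.Coprime.mul_right hcopP hcopQ)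
  have hsolvS : Group.IsSolvable S := isSolvable_sup p q P Q hP hQ hPQ
  have hsolvP : Group.IsSolvable P := by
    haveI : Group.IsNilpotent P := hP.isNilpotent
    infer_instance
  have hsolvQ : Group.IsSolvable Q := by
    haveI : Group.IsNilpotent Q := hQ.isNilpotent
    infer_instance
  -- counts
  have c1 := solv_count_cent N P hPN hcopP hsolvP
  have c2 := solv_count_cent N S hSN hcopS hsolvS
  -- the two subtypes coincide
  have hsame : ∀ χ : IrrCharacter N, (∀ s ∈ S, InvUnder N s (χ : N → ℂ)) ↔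
      (∀ s ∈ P, InvUnder N s (χ : N → ℂ)) := by
    intro χ
    constructor
    · intro h s hs
      exact h s (le_sup_left (a := P) (b := Q) hs)
    · intro h
      have h1 : P ≤ invStab N (χ : N → ℂ) := fun s hs => ⟨hPnorm hs, h s hs⟩
      have h2 : Q ≤ invStab N (χ : N → ℂ) := fun t ht => ⟨hQnorm ht, hfix χ h t ht⟩
      intro s hs
      exact ((sup_le h1 h2) hs).2
  have c3 : Nat.card {χ : IrrCharacter N // ∀ s ∈ S, InvUnder N s (χ : N → ℂ)} =
      Nat.card {χ : IrrCharacter N // ∀ s ∈ P, InvUnder N s (χ : N → ℂ)} :=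
    Nat.card_congr (Equiv.subtypeEquivRight hsame)
  -- `N ⊓ C(S) = C ⊓ C(Q)`
  have hcent : N ⊓ Subgroup.centralizer (S : Set Γ) = C ⊓ Subgroup.centralizer (Q : Set Γ) := by
    ext x
    simp only [Subgroup.mem_inf, hC]
    constructor
    · rintro ⟨hxN, hxS⟩
      refine ⟨⟨hxN, ?_⟩, ?_⟩
      · exact Subgroup.centralizer_le (by exact_mod_cast (le_sup_left : P ≤ S)) hxS
      · exact Subgroup.centralizer_le (by exact_mod_cast (le_sup_right : Q ≤ S)) hxS
    · rintro ⟨⟨hxN, hxP⟩, hxQ⟩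
      refine ⟨hxN, ?_⟩
      have h1 : P ≤ Subgroup.centralizer ({x} : Set Γ) := by
        intro s hs
        rw [Subgroup.mem_centralizer_singleton_iff]
        exact ((Subgroup.mem_centralizer_iff.mp hxP) s hs)
      have h2 : Q ≤ Subgroup.centralizer ({x} : Set Γ) := by
        intro s hs
        rw [Subgroup.mem_centralizer_singleton_iff]
        exact ((Subgroup.mem_centralizer_iff.mp hxQ) s hs)
      rw [Subgroup.mem_centralizer_iff]
      intro s hs
      have := (sup_le h1 h2) hs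
      rw [Subgroup.mem_centralizer_singleton_iff] at this
      exact this
  -- `Q` acts on `C`
  have hQC : ∀ t ∈ Q, ∀ c ∈ C, t * c * t⁻¹ ∈ C := by
    intro t ht c hc
    refine ⟨hQN t ht c hc.1, ?_⟩
    show t * c * t⁻¹ ∈ Subgroup.centralizer (P : Set Γ)
    rw [Subgroup.mem_centralizer_iff]
    intro s hs
    have h1 : s * c = c * s := (Subgroup.mem_centralizer_iff.mp hc.2) s hs
    have h2 : s * t = t * s := hPQ s hs t ht
    have h3 : s * t⁻¹ = t⁻¹ * s := hPQ s hs t⁻¹ (Q.inv_mem ht)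
    calc s * (t * c * t⁻¹) = (s * t) * c * t⁻¹ := by group
      _ = (t * s) * c * t⁻¹ := by rw [h2]
      _ = t * (s * c) * t⁻¹ := by group
      _ = t * (c * s) * t⁻¹ := by rw [h1]
      _ = t * c * (s * t⁻¹) := by group
      _ = t * c * (t⁻¹ * s) := by rw [h3]
      _ = t * c * t⁻¹ * s := by group
  have hcopCQ : (Nat.card C).Coprime (Nat.card Q) :=
    Nat.Coprime.coprime_dvd_left (Subgroup.card_dvd_of_le inf_le_left) hcopQ
  have c4 := solv_count_cent C Q hQC hcopCQ hsolvQ
  -- all irreducible characters of `C` are `Q`-invariant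
  have hcardC : Nat.card {χ : IrrCharacter C // ∀ t ∈ Q, InvUnder C t (χ : C → ℂ)} =
      Nat.card (IrrCharacter C) := by
    rw [c4, card_irr_eq_card_conjClasses]
    have e1 : Nat.card (ConjClasses ↥(C ⊓ Subgroup.centralizer (Q : Set Γ))) =
        Nat.card (ConjClasses ↥(N ⊓ Subgroup.centralizer (S : Set Γ))) :=
      card_conjClasses_congr (MulEquiv.subgroupCongr hcent.symm)
    rw [e1, ← c2, c3, c1]
  haveI : Finite (IrrCharacter C) := finite_irr
  have hall : ∀ χ : IrrCharacter C, ∀ t ∈ Q, InvUnder C t (χ : C → ℂ) := by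
    by_contra hne
    push_neg at hne
    obtain ⟨χ, hχ⟩ := hne
    have hlt : Nat.card {χ : IrrCharacter C // ∀ t ∈ Q, InvUnder C t (χ : C → ℂ)} <
        Nat.card (IrrCharacter C) := by
      haveI := Fintype.ofFinite (IrrCharacter C)
      rw [Nat.card_eq_fintype_card, Nat.card_eq_fintype_card]
      apply Fintype.card_subtype_lt (x := χ)
      intro h
      obtain ⟨t, ht, hh⟩ := hχ
      exact hh (h t ht)
    omega
  -- every class of `C` meets `C_C(Q)`
  have hqC : ¬ q ∣ Nat.card C := fun h => hqN (h.trans (Subgroup.card_dvd_of_le inf_le_left))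
  set D : Subgroup C := (Subgroup.centralizer (Q : Set Γ)).subgroupOf C with hD
  have hDtop : D = ⊤ := by
    by_contra hne
    obtain ⟨g, hg⟩ := Cfsg.Agent.Lib.H20.exists_not_mem_conj D hne
    have hstab : ∀ t ∈ Q, ∀ g' : C, (g' : Γ) = t * g * t⁻¹ → IsConj g' g := by
      intro t ht g' hg'
      rw [isConj_iff_forall_irr_eq]
      intro χ
      exact hall χ t ht g g' hg'
    obtain ⟨x, hx⟩ := exists_conj_mem_centralizer (p := q) hQ hQC hqC g hstab
    apply hg x⁻¹
    rw [Subgroup.mem_pointwise_smul_iff_inv_smul_mem]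
    have e : (MulAut.conj (x⁻¹ : C))⁻¹ • g = x * g * x⁻¹ := by
      simp [MulAut.smul_def, MulAut.conj_apply]
    rw [e, hD, Subgroup.mem_subgroupOf, Subgroup.mem_centralizer_iff]
    intro t ht
    have := hx t ht
    calc t * ((x * g * x⁻¹ : C) : Γ) = (t * ((x * g * x⁻¹ : C) : Γ) * t⁻¹) * t := by group
      _ = ((x * g * x⁻¹ : C) : Γ) * t := by rw [this]
  intro t ht c hc
  have hcD : (⟨c, hc⟩ : C) ∈ D := by rw [hDtop]; exact Subgroup.mem_top _
  rw [hD, Subgroup.mem_subgroupOf, Subgroup.mem_centralizer_iff] at hcD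
  have := hcD t ht
  calc t * c * t⁻¹ = (t * c) * t⁻¹ := rfl
    _ = (c * t) * t⁻¹ := by rw [this]
    _ = c := by group

end Cfsg.Agent.Lib.H26.CopFix
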