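import Mathlib

set_option autoImplicit false

/-!
Coprime action on a finite abelian group (helper26): `M = C_M(A) × [M, A]`.
-/

namespace Cfsg.Agent.Lib.H26

open scoped BigOperators

section
variable {M : Type*} [Group M] (A : Subgroup (MulAut M))

/-- fixed points of `A` on `M`. -/
def fixedSub : Subgroup M where
  carrier := {m | ∀ a ∈ A, a m = m}
  one_mem' := fun a _ => map_one a
  mul_mem' := fun {x y} hx hy a ha => by rw [map_mul, hx a ha, hy a ha]
  inv_mem' := fun {x} hx a ha => by rw [map_inv, hx a ha]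

/-- the commutator `[M, A]`. -/
def commSub : Subgroup M := Subgroup.closure {y | ∃ (m : M) (a : MulAut M), a ∈ A ∧ y = m⁻¹ * a m}

theorem mem_fixedSub (m : M) : m ∈ fixedSub A ↔ ∀ a ∈ A, a m = m := Iff.rfl

end

section
variable {M : Type*} [CommGroup M] [Finite M] (A : Subgroup (MulAut M)) [Finite A]

/-- local Fintype structure on the acting group. -/
noncomputable local instance fintypeActing : Fintype A := Fintype.ofFinite A

/-- the norm map. -/
noncomputable def normMap : M →* M :=
  { toFun := fun m => ∏ a : A, (a : MulAut M) m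
    map_one' := by simp
    map_mul' := fun x y => by simp [Finset.prod_mul_distrib] }

theorem normMap_apply (m : M) :
    normMap A m = ∏ a : A, (a : MulAut M) m := rfl

theorem normMap_mem_fixedSub (m : M) : normMap A m ∈ fixedSub A := by
  intro b hb
  rw [normMap_apply, map_prod]
  exact Fintype.prod_equiv (Equiv.mulLeft (⟨b, hb⟩ : A)) _ _ (fun a => rfl)

theorem normMap_comp (m : M) {b : MulAut M} (hb : b ∈ A) : normMap A (b m) = normMap A m := by
  rw [normMap_apply, normMap_apply]
  exact Fintype.prod_equiv (Equiv.mulRight (⟨b, hb⟩ : A)) _ _ (fun a => rfl)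

theorem normMap_of_fixed {m : M} (hm : m ∈ fixedSub A) : normMap A m = m ^ Nat.card A := by
  rw [normMap_apply]
  have : ∀ a : A, (a : MulAut M) m = m := fun a => hm a a.2
  simp only [this, Finset.prod_const, Finset.card_univ, Nat.card_eq_fintype_card]

theorem commSub_le_ker : commSub A ≤ (normMap A).ker := by
  unfold commSub
  rw [Subgroup.closure_le]
  rintro _ ⟨m, a, ha, rfl⟩
  show normMap A (m⁻¹ * a m) = 1
  rw [map_mul, map_inv, normMap_comp A m ha, inv_mul_cancel]

theorem fixedSub_inf_commSub (h : (Nat.card A).Coprime (Nat.card M)) :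
    fixedSub A ⊓ commSub A = ⊥ := by
  rw [eq_bot_iff]
  rintro x ⟨hxC, hxK⟩
  have h1 : normMap A x = 1 := commSub_le_ker A hxK
  rw [normMap_of_fixed A hxC] at h1
  have d1 : orderOf x ∣ Nat.card A := orderOf_dvd_of_pow_eq_one h1
  have d2 : orderOf x ∣ Nat.card M := orderOf_dvd_natCard x
  have := Nat.eq_one_of_dvd_coprimes h d1 d2
  exact orderOf_eq_one_iff.mp this

theorem fixedSub_sup_commSub (h : (Nat.card A).Coprime (Nat.card M)) :
    fixedSub A ⊔ commSub A = ⊤ := by
  rw [eq_top_iff]
  intro m _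
  obtain ⟨y, rfl⟩ : ∃ y : M, y ^ Nat.card A = m := ⟨(powCoprime h.symm).symm m, (powCoprime h.symm).apply_symm_apply m⟩
  have h1 : y ^ Nat.card A = normMap A y * (y ^ Nat.card A * (normMap A y)⁻¹) := by
    rw [mul_comm (y ^ Nat.card A), mul_inv_cancel_left]
  rw [h1]
  apply Subgroup.mul_mem
  · exact (le_sup_left : fixedSub A ≤ fixedSub A ⊔ commSub A) (normMap_mem_fixedSub A y)
  · apply (le_sup_right : commSub A ≤ fixedSub A ⊔ commSub A)
    have h2 : y ^ Nat.card A * (normMap A y)⁻¹ = ∏ a : A, (y * ((a : MulAut M) y)⁻¹) := by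
      rw [Finset.prod_mul_distrib, Finset.prod_inv_distrib, normMap_apply, Finset.prod_const,
        Finset.card_univ, Nat.card_eq_fintype_card]
    rw [h2]
    apply Subgroup.prod_mem
    intro a _
    have h3 : y * ((a : MulAut M) y)⁻¹ = (y⁻¹ * (a : MulAut M) y)⁻¹ := by
      rw [mul_inv_rev, inv_inv, mul_comm]
    rw [h3]
    apply Subgroup.inv_mem
    exact Subgroup.subset_closure ⟨y, a, a.2, rfl⟩

end

end Cfsg.Agent.Lib.H26
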