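import Mathlib

set_option autoImplicit false

/-!
Counting lemmas for an endomorphism `φ` of a finite group `B` (helper26): iterated kernels when
`|ker φ² : ker φ| = p`, and the subgroups `ker φ ∩ im φ`, `ker φ · im φ`.
-/

namespace Cfsg.Agent.Lib.H26.EndoCount

variable {B : Type*} [Group B]

/-- Iterates of an endomorphism. -/
def itHom (φ : B →* B) : ℕ → (B →* B)
  | 0 => MonoidHom.id B
  | n + 1 => φ.comp (itHom φ n)

@[simp] theorem itHom_zero (φ : B →* B) (a : B) : itHom φ 0 a = a := rfl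

@[simp] theorem itHom_succ (φ : B →* B) (n : ℕ) (a : B) : itHom φ (n + 1) a = φ (itHom φ n a) := rfl

theorem ker_itHom_le_succ (φ : B →* B) (n : ℕ) : (itHom φ n).ker ≤ (itHom φ (n + 1)).ker := by
  intro a ha
  rw [MonoidHom.mem_ker] at ha ⊢
  rw [itHom_succ, ha, map_one]

/-- `|ker φⁿ⁺¹| ≤ dⁿ |ker φ|` when `|ker φ² : ker φ| = d ≠ 0`. -/
theorem card_ker_itHom_le [Finite B] (φ : B →* B) {d : ℕ} (hd : d ≠ 0)
    (hk : φ.ker.relIndex (φ.comp φ).ker = d) (n : ℕ) :
    Nat.card (itHom φ (n + 1)).ker ≤ d ^ n * Nat.card φ.ker := by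
  induction n with
  | zero =>
    have : itHom φ (0 + 1) = φ := by
      ext a
      rfl
    rw [this, pow_zero, one_mul]
  | succ n ih =>
    have hle := ker_itHom_le_succ φ (n + 1)
    have h1 := Subgroup.relIndex_mul_relIndex (⊥ : Subgroup B) (itHom φ (n + 1)).ker
      (itHom φ (n + 1 + 1)).ker bot_le hle
    rw [Subgroup.relIndex_bot_left, Subgroup.relIndex_bot_left] at h1
    have h2 : (itHom φ (n + 1)).ker = φ.ker.comap (itHom φ n) := rfl
    have h3 : (itHom φ (n + 1)).ker.relIndex (itHom φ (n + 1 + 1)).ker ≤ d := by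
      rw [h2, Subgroup.relIndex_comap, ← hk]
      apply Subgroup.relIndex_le_of_le_right
      · rintro _ ⟨a, ha, rfl⟩
        rw [MonoidHom.mem_ker, MonoidHom.comp_apply]
        have : itHom φ (n + 1 + 1) a = 1 := ha
        exact this
      · rw [hk]
        exact hd
    rw [← h1]
    calc Nat.card (itHom φ (n + 1)).ker * (itHom φ (n + 1)).ker.relIndex (itHom φ (n + 1 + 1)).ker
        ≤ (d ^ n * Nat.card φ.ker) * d := Nat.mul_le_mul ih h3
      _ = d ^ (n + 1) * Nat.card φ.ker := by ring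

/-- `ker φ ∩ im φ = φ(ker φ²)`. -/
theorem ker_inf_range (φ : B →* B) : φ.ker ⊓ φ.range = (φ.comp φ).ker.map φ := by
  ext y
  constructor
  · rintro ⟨hy1, a, rfl⟩
    exact ⟨a, hy1, rfl⟩
  · rintro ⟨a, ha, rfl⟩
    exact ⟨ha, a, rfl⟩

/-- `|ker φ ∩ im φ| = |ker φ² : ker φ|`. -/
theorem card_ker_inf_range (φ : B →* B) :
    Nat.card (φ.ker ⊓ φ.range : Subgroup B) = φ.ker.relIndex (φ.comp φ).ker := by
  rw [ker_inf_range, Subgroup.relIndex_ker]

/-- `|B : ker φ · im φ| = |ker φ ∩ im φ|` when `im φ` is normal. -/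
theorem index_ker_sup_range [Finite B] (φ : B →* B) [φ.range.Normal] :
    (φ.ker ⊔ φ.range).index = Nat.card (φ.ker ⊓ φ.range : Subgroup B) := by
  set k := Nat.card φ.ker with hk
  set r := Nat.card φ.range with hr
  set d := Nat.card (φ.ker ⊓ φ.range : Subgroup B) with hd
  set q := φ.range.relIndex (φ.ker ⊔ φ.range) with hq
  -- `d q = k`
  have h1 : d * q = k := by
    have e1 : q = (φ.ker ⊓ φ.range).relIndex φ.ker := by
      rw [hq, Subgroup.relIndex_sup_right, inf_comm, Subgroup.inf_relIndex_right]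
    have := Subgroup.relIndex_mul_relIndex (⊥ : Subgroup B) (φ.ker ⊓ φ.range) φ.ker bot_le
      inf_le_left
    rw [Subgroup.relIndex_bot_left, Subgroup.relIndex_bot_left] at this
    rw [e1]
    exact this
  -- `r q = |ker ⊔ range|`
  have h2 : r * q = Nat.card (φ.ker ⊔ φ.range : Subgroup B) := by
    have := Subgroup.relIndex_mul_relIndex (⊥ : Subgroup B) φ.range (φ.ker ⊔ φ.range) bot_le
      le_sup_right
    rw [Subgroup.relIndex_bot_left, Subgroup.relIndex_bot_left] at this
    exact this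
  -- `k r = |B|`
  have h3 : r * k = Nat.card B := by
    have := φ.ker.index_mul_card
    rw [Subgroup.index_ker] at this
    exact this
  have h4 := (φ.ker ⊔ φ.range).index_mul_card
  rw [← h2, ← h3, ← h1] at h4
  have hpos : 0 < r * q := by
    rw [h2]
    exact Nat.card_pos
  have h5 : (φ.ker ⊔ φ.range).index * (r * q) = d * (r * q) := by
    rw [h4]
    ring
  exact Nat.eq_of_mul_eq_mul_right hpos h5

end Cfsg.Agent.Lib.H26.EndoCount
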