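import Mathlib
import Cfsg.Agent.Lib.H26.EssDefs
import Cfsg.Agent.Lib.H26.ChainStab
import Cfsg.Agent.Lib.H25.EssChain

/-!
# S5188-P1: an `EssAut` group leaves no chain of orders `p, p², p³` invariant (helper26)
-/

set_option autoImplicit false

namespace Cfsg.Agent.Lib.H26.Ess

open Cfsg.Agent.Lib.H26.ChainStab

/-- the chain `⊤ ≥ H3 ≥ H2 ≥ H1 ≥ ⊥ ≥ …` -/
def chain5 {G : Type*} [Group G] (H1 H2 H3 : Subgroup G) : ℕ → Subgroup G
  | 0 => ⊤
  | 1 => H3
  | 2 => H2
  | 3 => H1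
  | _ => ⊥

theorem card_mul_relIndex' {G : Type*} [Group G] {H K : Subgroup G} (hHK : H ≤ K) :
    Nat.card H * H.relIndex K = Nat.card K := by
  have := Subgroup.relIndex_mul_relIndex ⊥ H K bot_le hHK
  rwa [Subgroup.relIndex_bot_left, Subgroup.relIndex_bot_left] at this

theorem relIndex_eq_of_card {G : Type*} [Group G] {p : ℕ} (hp : 0 < p) {H K : Subgroup G} (hHK : H ≤ K) (n : ℕ)
    (hH : Nat.card H = p ^ n) (hK : Nat.card K = p ^ (n + 1)) : H.relIndex K = p := by
  have h := card_mul_relIndex' hHK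
  rw [hH, hK, pow_succ] at h
  exact Nat.eq_of_mul_eq_mul_left (pow_pos hp n) h

/-- **S5188-P1**. -/
theorem not_hasCharChain {G : Type*} [Group G] [Finite G] {p : ℕ} [hp : Fact p.Prime]
    (hcard : Nat.card G = p ^ 4) {A : Subgroup (MulAut G)} (hA : EssAut p A) : ¬ HasCharChain p G := by
  rintro ⟨H1, H2, H3, h12, h23, c1, c2, c3, i1, i2, i3⟩
  have hG : IsPGroup p G := IsPGroup.of_card hcard
  have hpos : 0 < p := hp.out.pos
  set c := chain5 H1 H2 H3 with hc
  have hmono : ∀ i, c (i + 1) ≤ c i := by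
    intro i
    match i with
    | 0 => exact le_top
    | 1 => exact h23
    | 2 => exact h12
    | 3 => exact bot_le
    | (k + 4) => exact le_rfl
  have hinv : ∀ i, ∀ (α : MulAut G), ∀ x ∈ c i, α x ∈ c i := by
    intro i α x hx
    match i with
    | 0 => exact Subgroup.mem_top _
    | 1 => exact i3 α x hx
    | 2 => exact i2 α x hx
    | 3 => exact i1 α x hx
    | (k + 4) =>
      have hx' : x = 1 := Subgroup.mem_bot.mp hx
      rw [hx', map_one]; exact Subgroup.one_mem _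
  -- the stability group inside `A`
  have hBn : ∀ a ∈ A, ∀ b ∈ chainStab c hmono ⊓ A, a * b * a⁻¹ ∈ chainStab c hmono ⊓ A := by
    rintro a ha b ⟨hb1, hb2⟩
    refine ⟨?_, A.mul_mem (A.mul_mem ha hb2) (A.inv_mem ha)⟩
    intro i x hx
    have hy : a⁻¹ x ∈ c i := hinv i a⁻¹ x hx
    have h1 := hb1 i _ hy
    have h2 := hinv (i + 1) a _ h1
    have : x⁻¹ * (a * b * a⁻¹) x = a ((a⁻¹ x)⁻¹ * b (a⁻¹ x)) := by
      rw [map_mul, map_inv, MulAut.mul_apply, MulAut.mul_apply]
      simp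
    rw [this]
    exact h2
  have hBp : IsPGroup p ↥(chainStab c hmono ⊓ A) :=
    isPGroup_of_stabilizes hG hmono 4 rfl rfl _ (fun γ hγ => hγ.1)
  have hle := hA.core_le _ inf_le_right hBn hBp
  obtain ⟨α, hαA, ⟨k, hk⟩, hαI⟩ := hA.exists_pElt
  apply hαI
  apply hle
  refine ⟨?_, hαA⟩
  intro i
  match i with
  | 0 =>
    have hidx : H3.relIndex ⊤ = p := by
      refine relIndex_eq_of_card hpos le_top 3 c3 ?_
      rw [Subgroup.card_top]; exact hcard
    exact Cfsg.Agent.Lib.H25.EssChain.stabilizes_step H3 ⊤ le_top hidx α (i3 α)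
      (fun b _ => Subgroup.mem_top _) hk
  | 1 =>
    exact Cfsg.Agent.Lib.H25.EssChain.stabilizes_step H2 H3 h23
      (relIndex_eq_of_card hpos h23 2 c2 c3) α (i2 α) (i3 α) hk
  | 2 =>
    exact Cfsg.Agent.Lib.H25.EssChain.stabilizes_step H1 H2 h12
      (relIndex_eq_of_card hpos h12 1 (by rw [c1, pow_one]) c2) α (i1 α) (i2 α) hk
  | 3 =>
    have hidx : (⊥ : Subgroup G).relIndex H1 = p := by
      rw [Subgroup.relIndex_bot_left]; exact c1
    exact Cfsg.Agent.Lib.H25.EssChain.stabilizes_step ⊥ H1 bot_le hidx α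
      (fun a ha => by rw [Subgroup.mem_bot.mp ha, map_one]; exact Subgroup.one_mem _) (i1 α) hk
  | (j + 4) =>
    intro x hx
    have hx' : x = 1 := Subgroup.mem_bot.mp hx
    rw [hx', map_one, inv_one, one_mul]
    exact Subgroup.one_mem _

end Cfsg.Agent.Lib.H26.Ess
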