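import Mathlib
import Cfsg.Agent.Lib.H26.EssDefs
import Cfsg.Agent.Lib.H26.EssP1
import Cfsg.Agent.Lib.H6.EssP2a
import Cfsg.Agent.Lib.H6.EssP2b
import Cfsg.Agent.Lib.H3.EssP3
import Cfsg.Agent.Lib.H29.EssP4
import Cfsg.Agent.Lib.H3.EssP5a
import Cfsg.Agent.Lib.H4.EssP5b
import Cfsg.Agent.Lib.H24.EssP6a
import Cfsg.Agent.Lib.H18.EssP6b
import Cfsg.Agent.Lib.H29.EssP7

/-!
# S5188: the case tree (helper26).  A group of order `p⁴` with an `EssAut` group of automorphisms.
Pieces: P1 helper26, P2a/P2b helper6, P3/P5a helper3, P4/P7 helper29, P5b helper4, P6a helper24, P6b helper18.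
-/

set_option autoImplicit false

namespace Cfsg.Agent.Lib.H26.Ess

theorem core_theorem {G : Type*} [Group G] [Finite G] {p : ℕ} [Fact p.Prime]
    (hcard : Nat.card G = p ^ 4) {A : Subgroup (MulAut G)} (hA : EssAut p A) :
    ((∀ a b : G, a * b = b * a) ∧ ∀ a : G, a ^ p = 1) ∨
      Nonempty (G ≃* Multiplicative (ZMod (p ^ 2) × ZMod p × ZMod p)) ∨
      ((p = 2 ∨ p = 3) ∧ Nonempty (G ≃* Multiplicative (ZMod (p ^ 2) × ZMod (p ^ 2)))) ∨
      (Odd p ∧ ∃ (E : Type) (_ : Group E) (_ : Finite E), Cfsg.IsExtraspecial p E ∧ Nat.card E = p ^ 3 ∧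
        (∀ x : E, x ^ p = 1) ∧ Nonempty (G ≃* E × Multiplicative (ZMod p))) ∨
      (p = 2 ∧ Nonempty (G ≃* QuaternionGroup 2 × Multiplicative (ZMod 2))) ∨
      (¬ (∀ a b : G, a * b = b * a) ∧ (∀ x : G, x ^ (p ^ 2) = 1) ∧ IsCyclic (Subgroup.center G) ∧
        Nat.card (Subgroup.center G) = p ^ 2) := by
  have hp : p.Prime := Fact.out
  have hnc := not_hasCharChain hcard hA
  by_cases hcomm : ∀ a b : G, a * b = b * a
  · -- abelian
    by_cases h2 : ∀ x : G, x ^ (p ^ 2) = 1
    · by_cases h1 : ∀ x : G, x ^ p = 1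
      · exact Or.inl ⟨hcomm, h1⟩
      · push Not at h1
        rcases Cfsg.Agent.Lib.H6.Ess.abelian_exp_sq hcomm hcard h2 h1 with h | ⟨h, hroot⟩
        · exact Or.inr (Or.inl h)
        · exact Or.inr (Or.inr (Or.inl ⟨Cfsg.Agent.Lib.H3.Ess.p_le_three_of_sq_sq hcomm hcard h2 hroot hA, h⟩))
    · push Not at h2
      exact absurd (Cfsg.Agent.Lib.H6.Ess.abelian_chain hcomm hcard h2) hnc
  · -- nonabelian
    have hG : IsPGroup p G := IsPGroup.of_card hcard
    have : Nontrivial G := by
      by_contra hnt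
      rw [not_nontrivial_iff_subsingleton] at hnt
      exact hcomm (fun a b => Subsingleton.elim _ _)
    have hZne : Subgroup.center G ≠ ⊥ := by
      have := hG.center_nontrivial
      exact (Subgroup.nontrivial_iff_ne_bot _).mp inferInstance
    obtain ⟨k, hk4, hk⟩ : ∃ k ≤ 4, Nat.card (Subgroup.center G) = p ^ k := by
      have hdvd : Nat.card (Subgroup.center G) ∣ p ^ 4 := hcard ▸ Subgroup.card_subgroup_dvd_card _
      exact (Nat.dvd_prime_pow hp).mp hdvd
    have hk0 : k ≠ 0 := by
      rintro rfl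
      rw [pow_zero] at hk
      exact hZne ((Subgroup.card_eq_one).mp hk)
    have hk4' : k ≠ 4 := by
      rintro rfl
      have : Subgroup.center G = ⊤ := Subgroup.eq_top_of_card_eq _ (hk.trans hcard.symm)
      apply hcomm
      intro a b
      have hb : b ∈ Subgroup.center G := this ▸ Subgroup.mem_top b
      exact (Subgroup.mem_center_iff.mp hb a)
    have hk3 : k ≠ 3 := by
      rintro rfl
      have hidx : (Subgroup.center G).index = p := by
        have h := Subgroup.card_mul_index (Subgroup.center G)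
        rw [hk, hcard] at h
        have hpos : 0 < p ^ 3 := pow_pos hp.pos 3
        have : p ^ 3 * (Subgroup.center G).index = p ^ 3 * p := by rw [h]; ring
        exact Nat.eq_of_mul_eq_mul_left hpos this
      have hcq : Nat.card (G ⧸ Subgroup.center G) = p := by
        rw [← Subgroup.index_eq_card]; exact hidx
      have : IsCyclic (G ⧸ Subgroup.center G) := isCyclic_of_prime_card hcq
      apply hcomm
      intro a b
      have hc : IsMulCommutative G := MonoidHom.isMulCommutative_of_isCyclic_of_ker_le_center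
        (QuotientGroup.mk' (Subgroup.center G)) (by simp)
      exact hc.1.1 a b
    have hk12 : k = 1 ∨ k = 2 := by omega
    rcases hk12 with rfl | rfl
    · rw [pow_one] at hk
      exact absurd (Cfsg.Agent.Lib.H29.Ess.chain_of_card_center_eq hcard hk) hnc
    · by_cases hZc : IsCyclic (Subgroup.center G)
      · rcases Cfsg.Agent.Lib.H29.Ess.exp_sq_or_chain hcard hk hZc with h | h
        · exact Or.inr (Or.inr (Or.inr (Or.inr (Or.inr ⟨hcomm, h, hZc, hk⟩))))
        · exact absurd h hnc
      · have hZe : ∀ z ∈ Subgroup.center G, z ^ p = 1 := by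
          intro z hz
          have ho : orderOf (⟨z, hz⟩ : Subgroup.center G) ∣ p ^ 2 := hk ▸ orderOf_dvd_natCard _
          obtain ⟨j, hj2, hj⟩ := (Nat.dvd_prime_pow hp).mp ho
          have hj2' : j ≠ 2 := by
            rintro rfl
            exact hZc (isCyclic_of_orderOf_eq_card _ (hj.trans hk.symm))
          have hdvd : orderOf (⟨z, hz⟩ : Subgroup.center G) ∣ p := by
            rw [hj]
            have : j ≤ 1 := by omega
            exact pow_dvd_pow p this |>.trans (by rw [pow_one])
          have := orderOf_dvd_iff_pow_eq_one.mp hdvd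
          exact congrArg Subtype.val this
        by_cases hp2 : p = 2
        · subst hp2
          obtain ⟨x, y, hxy, h1, h2⟩ := Cfsg.Agent.Lib.H24.Ess.exists_quaternion_gens hcard hk hZe hA
          exact Or.inr (Or.inr (Or.inr (Or.inr (Or.inl
            ⟨rfl, Cfsg.Agent.Lib.H18.Ess.equiv_quaternion_prod hcard hk hZe x y hxy h1 h2⟩))))
        · rcases Cfsg.Agent.Lib.H3.Ess.exp_p_or_chain hp2 hcard hk hZe with h | h
          · exact Or.inr (Or.inr (Or.inr (Or.inl
              ⟨hp.odd_of_ne_two hp2, Cfsg.Agent.Lib.H4.Ess.exists_extraspecial_prod hcard hk h⟩)))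
          · exact absurd h hnc

end Cfsg.Agent.Lib.H26.Ess
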