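import Mathlib
import Cfsg.Agent.Lib.H26.EssDefs

set_option autoImplicit false

namespace Cfsg.Agent.Lib.H26.Ess

/-- A nontrivial `p`-subgroup is not of `p`-rank `≤ 0`. -/
theorem not_pRankLE_zero {X : Type*} [Group X] [Finite X] {p : ℕ} [hp : Fact p.Prime] (Q : Subgroup X)
    (hQ : IsPGroup p Q) (hne : Q ≠ ⊥) : ¬ Cfsg.PRankLE p (1 - 1) Q := by
  intro h
  have hnt : Nontrivial Q := (Subgroup.nontrivial_iff_ne_bot Q).mpr hne
  obtain ⟨n, hn⟩ := (IsPGroup.iff_card.mp hQ)
  have hn0 : n ≠ 0 := by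
    rintro rfl
    rw [pow_zero] at hn
    have : Subsingleton Q := (Nat.card_eq_one_iff_unique.mp hn).1
    exact not_subsingleton Q this
  have hdvd : p ∣ Nat.card Q := hn ▸ dvd_pow_self p hn0
  obtain ⟨g, hg⟩ := exists_prime_orderOf_dvd_card' p hdvd
  have h1 := h (Subgroup.zpowers g) inferInstance (by
    intro a ha
    obtain ⟨k, rfl⟩ := Subgroup.mem_zpowers_iff.mp ha
    rw [← zpow_natCast, ← zpow_mul, mul_comm, zpow_mul, zpow_natCast, ← hg, pow_orderOf_eq_one, one_zpow])
  rw [Nat.card_zpowers, hg] at h1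
  simp at h1
  exact absurd h1 (by have := hp.out.two_le; omega)

theorem essAut_of_isEssential {Ω : Type*} [Group Ω] {S : Subgroup Ω} [Finite S] (p : ℕ) [hp : Fact p.Prime]
    (F : Cfsg.FusionSystem S) (H : Subgroup Ω) (hH : F.IsEssential p H) : EssAut p (F.autGroup H) := by
  obtain ⟨⟨hHS, -⟩, -, hN, E, hpX, hE, P, hΓ⟩ := hH
  haveI : Finite H := Finite.of_injective (Subgroup.inclusion hHS) (Subgroup.inclusion_injective hHS)
  set A := F.autGroup H with hA
  set N := (Cfsg.Inn H).subgroupOf A with hNdef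
  haveI := hN
  constructor
  · intro B hBA hBn hBp
    -- image of B in the quotient
    have hnorm : (B.subgroupOf A).Normal := by
      constructor
      intro b hb a
      rw [Subgroup.mem_subgroupOf] at hb ⊢
      simpa using hBn a a.2 b hb
    set B' : Subgroup (A ⧸ N) := (B.subgroupOf A).map (QuotientGroup.mk' N) with hB'
    have hB'n : B'.Normal := hnorm.map _ (QuotientGroup.mk'_surjective N)
    have hB'p : IsPGroup p B' := (hBp.comap_subtype).map _
    by_cases hbot : B' = ⊥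
    · intro b hb
      have hbA : b ∈ A := hBA hb
      have : (⟨b, hbA⟩ : A) ∈ B.subgroupOf A := by rw [Subgroup.mem_subgroupOf]; exact hb
      have h1 : (QuotientGroup.mk' N) ⟨b, hbA⟩ ∈ B' := Subgroup.mem_map_of_mem _ this
      rw [hbot, Subgroup.mem_bot, QuotientGroup.mk'_apply, QuotientGroup.eq_one_iff] at h1
      rw [hNdef, Subgroup.mem_subgroupOf] at h1
      exact h1
    · exfalso
      have hle : B' ≤ (P : Subgroup (A ⧸ N)) := hB'p.le_sylow_of_normal P
      have hr := not_pRankLE_zero B' hB'p hbot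
      have h1 : Subgroup.normalizer ((B' : Subgroup (A ⧸ N)) : Set (A ⧸ N)) ≤
          Cfsg.kGeneratedCore p 1 (P : Subgroup (A ⧸ N)) := by
        unfold Cfsg.kGeneratedCore
        exact le_iSup (fun Q : {Q : Subgroup (A ⧸ N) // Q ≤ (P : Subgroup (A ⧸ N)) ∧ ¬ Cfsg.PRankLE p (1 - 1) Q} =>
          Subgroup.normalizer ((Q : Subgroup (A ⧸ N)) : Set (A ⧸ N))) ⟨B', hle, hr⟩
      rw [Subgroup.normalizer_eq_top] at h1
      exact hE (top_le_iff.mp (h1.trans hΓ))
  · obtain ⟨x, hx⟩ := exists_prime_orderOf_dvd_card' p hpX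
    obtain ⟨a, rfl⟩ := QuotientGroup.mk'_surjective N x
    have hn0 : orderOf a ≠ 0 := (orderOf_pos a).ne'
    obtain ⟨k, m, hm, hkm⟩ := Nat.exists_eq_pow_mul_and_not_dvd hn0 p hp.out.ne_one
    refine ⟨((a ^ m : A) : MulAut H), (a ^ m).2, ⟨k, ?_⟩, ?_⟩
    · have : (a ^ m) ^ (p ^ k) = 1 := by
        rw [← pow_mul, mul_comm, ← hkm, pow_orderOf_eq_one]
      have := congrArg Subtype.val this
      simpa using this
    · intro hin
      have h1 : (a ^ m) ∈ N := by rw [hNdef, Subgroup.mem_subgroupOf]; exact hin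
      have h2 : ((QuotientGroup.mk' N) a) ^ m = 1 := by
        rw [← map_pow, QuotientGroup.mk'_apply, QuotientGroup.eq_one_iff]; exact h1
      have h3 := orderOf_dvd_of_pow_eq_one h2
      rw [hx] at h3
      exact hm h3

end Cfsg.Agent.Lib.H26.Ess
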