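import Cfsg.Agent.Lib.H25.Essential
import Cfsg.Agent.Lib.H25.SatEquiv
import Cfsg.Agent.Lib.H9.StronglyPEmbedded2

set_option autoImplicit false

/-!
A criterion for a subgroup to be essential (helper26): a centric fully normalized subgroup `R`
with `|N_S(R) : R| = p` such that `Aut_S(R)` is not normal in `Aut_F(R)` is essential.
-/

namespace Cfsg.Agent.Lib.H26

open Cfsg Cfsg.FusionSystem Cfsg.Agent.Lib.H25

/-- If a Sylow `p`-subgroup `T` of a finite group has order `p` and is not normal, then its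
normalizer is strongly `p`-embedded. -/
theorem strEmb_normalizer_of_card_prime {X : Type*} [Group X] [Finite X] {p : ℕ} [Fact p.Prime]
    (T : Sylow p X) (hT : Nat.card (T : Subgroup X) = p)
    (hnn : Subgroup.normalizer ((T : Subgroup X) : Set X) ≠ ⊤) :
    IsStronglyPEmbedded p (Subgroup.normalizer ((T : Subgroup X) : Set X)) := by
  have hp : p.Prime := Fact.out
  apply Cfsg.Agent.Lib.H9.stronglyPEmbedded_of_normalizer_le hnn
  · have := Subgroup.card_dvd_of_le (Subgroup.le_normalizer (H := (T : Subgroup X)))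
    rwa [hT] at this
  · intro A hAM hA hAne
    have hAT : A ≤ (T : Subgroup X) := by
      have hsup : IsPGroup p ↥(A ⊔ (T : Subgroup X)) :=
        IsPGroup.to_sup_of_normal_right' hA T.2 hAM
      have := T.is_maximal' hsup le_sup_right
      calc A ≤ A ⊔ (T : Subgroup X) := le_sup_left
        _ = (T : Subgroup X) := this
    have hAeq : A = (T : Subgroup X) := by
      apply Subgroup.eq_of_le_of_card_ge hAT
      have hd : Nat.card A ∣ p := by
        rw [← hT]; exact Subgroup.card_dvd_of_le hAT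
      rcases (Nat.dvd_prime hp).1 hd with h | h
      · exfalso
        exact hAne (Subgroup.card_eq_one.1 h)
      · rw [hT, h]
    rw [hAeq]

variable {Ω : Type*} [Group Ω] {S : Subgroup Ω}

/-- **Essential criterion.** -/
theorem isEssential_of_index_prime [Finite S] {p : ℕ} [Fact p.Prime] (hS : IsPGroup p S)
    {F : FusionSystem S} (hF : F.IsSaturated p) {R : Subgroup Ω} (hcen : F.IsCentric R)
    (hfn : F.IsFullyNormalized R) (hidx : (R.subgroupOf (normalizerIn S R)).index = p)
    {α : MulAut R} (hα : α ∈ F.autGroup R)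
    (hnn : ¬ ∀ t ∈ autInducedBy S R, α * t * α⁻¹ ∈ autInducedBy S R) : F.IsEssential p R := by
  have hp : p.Prime := Fact.out
  have hRS : R ≤ S := hcen.1
  have hfinR : Finite R := finite_of_le S hRS
  have hne : R ≠ S := by
    intro h
    have h1 : (R.subgroupOf (normalizerIn S R)).index = 1 := by
      rw [Subgroup.index_eq_one, Subgroup.subgroupOf_eq_top]
      rw [h]
      exact inf_le_left
    rw [h1] at hidx
    exact hp.one_lt.ne hidx
  obtain ⟨hfc, hfa⟩ := fullyNormalized_props hS hF hfn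
  have hrec := isReceptive_of_fullyCentralized hS hF hfc
  haveI hI : ((Inn R).subgroupOf (F.autGroup R)).Normal := inferInstance
  obtain ⟨hpd, T, -, hTmem⟩ := centric_out_data hS hfa hrec hne hcen
  have hInnS : Inn R ≤ autInducedBy S R := by
    rintro _ ⟨r, rfl⟩
    rw [mem_autInducedBy_iff]
    exact ⟨r, hRS r.2, fun y => rfl⟩
  -- finiteness of the quotient
  -- the homomorphism N_S(R) → Out_F(R)
  let f₀ : normalizerIn S R →* MulAut R :=
    (Subgroup.normalizerMonoidHom R).comp (Subgroup.inclusion inf_le_right)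
  have hf₀ : ∀ (n : normalizerIn S R) (x : R), ((f₀ n x : R) : Ω) = n * x * (n : Ω)⁻¹ :=
    fun n x => rfl
  have hmemS : ∀ n : normalizerIn S R, f₀ n ∈ autInducedBy S R := fun n =>
    (mem_autInducedBy_iff S R _).2 ⟨n, n.2.1, hf₀ n⟩
  have hmem : ∀ n : normalizerIn S R, f₀ n ∈ F.autGroup R := fun n =>
    autInducedBy_le_autGroup F hRS (hmemS n)
  let f : normalizerIn S R →* F.autGroup R := f₀.codRestrict _ hmem
  let θ : normalizerIn S R →* F.autGroup R ⧸ (Inn R).subgroupOf (F.autGroup R) :=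
    (QuotientGroup.mk' ((Inn R).subgroupOf (F.autGroup R))).comp f
  have hrange : θ.range = (T : Subgroup (F.autGroup R ⧸ (Inn R).subgroupOf (F.autGroup R))) := by
    ext y
    rw [hTmem]
    constructor
    · rintro ⟨n, rfl⟩
      exact ⟨f n, hmemS n, rfl⟩
    · rintro ⟨a, ha, rfl⟩
      obtain ⟨g, hgS, hg⟩ := (mem_autInducedBy_iff S R _).1 ha
      have hgN : g ∈ Subgroup.normalizer (R : Set Ω) := mem_normalizer_of_induces hg
      refine ⟨⟨g, hgS, hgN⟩, ?_⟩
      show QuotientGroup.mk' _ (f ⟨g, hgS, hgN⟩) = QuotientGroup.mk' _ a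
      congr 1
      apply Subtype.ext
      ext x
      exact (hg x).symm
  have hker : R.subgroupOf (normalizerIn S R) ≤ θ.ker := by
    intro n hn
    rw [Subgroup.mem_subgroupOf] at hn
    rw [MonoidHom.mem_ker]
    show QuotientGroup.mk' _ (f n) = 1
    rw [QuotientGroup.mk'_apply, QuotientGroup.eq_one_iff, Subgroup.mem_subgroupOf]
    refine ⟨⟨n, hn⟩, ?_⟩
    ext x
    rfl
  have hcardT : Nat.card (T : Subgroup (F.autGroup R ⧸ (Inn R).subgroupOf (F.autGroup R))) = p := by
    have hd : Nat.card (T : Subgroup (F.autGroup R ⧸ (Inn R).subgroupOf (F.autGroup R))) ∣ p := by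
      rw [← hrange, ← Subgroup.index_ker, ← hidx]
      exact Subgroup.index_dvd_of_le hker
    rcases (Nat.dvd_prime hp).1 hd with h | h
    · exfalso
      exact T.ne_bot_of_dvd_card hpd (Subgroup.card_eq_one.1 h)
    · exact h
  refine ⟨hcen, hfn, hI, Subgroup.normalizer
    ((T : Subgroup (F.autGroup R ⧸ (Inn R).subgroupOf (F.autGroup R))) : Set _), ?_⟩
  apply strEmb_normalizer_of_card_prime T hcardT
  intro htop
  apply hnn
  intro t ht
  have htA : t ∈ F.autGroup R := autInducedBy_le_autGroup F hRS ht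
  have hmk : QuotientGroup.mk' ((Inn R).subgroupOf (F.autGroup R)) (⟨t, htA⟩ : F.autGroup R) ∈
      (T : Subgroup (F.autGroup R ⧸ (Inn R).subgroupOf (F.autGroup R))) :=
    (hTmem _).2 ⟨⟨t, htA⟩, ht, rfl⟩
  have hαn : QuotientGroup.mk' ((Inn R).subgroupOf (F.autGroup R)) (⟨α, hα⟩ : F.autGroup R) ∈
      Subgroup.normalizer
        ((T : Subgroup (F.autGroup R ⧸ (Inn R).subgroupOf (F.autGroup R))) : Set _) := by
    rw [htop]; exact Subgroup.mem_top _
  have h1 := (Subgroup.mem_normalizer_iff.1 hαn _).1 hmk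
  obtain ⟨c, hc, hceq⟩ := (hTmem _).1 h1
  have h2 : QuotientGroup.mk' ((Inn R).subgroupOf (F.autGroup R)) c =
      QuotientGroup.mk' ((Inn R).subgroupOf (F.autGroup R))
        ((⟨α, hα⟩ : F.autGroup R) * ⟨t, htA⟩ * (⟨α, hα⟩ : F.autGroup R)⁻¹) := by
    rw [hceq, map_mul, map_mul, map_inv]
  rw [QuotientGroup.mk'_apply, QuotientGroup.mk'_apply, QuotientGroup.eq,
    Subgroup.mem_subgroupOf] at h2
  have h3 : (c : MulAut R)⁻¹ * (α * t * α⁻¹) ∈ autInducedBy S R := hInnS (by simpa using h2)
  have := (autInducedBy S R).mul_mem hc h3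
  simpa using this

end Cfsg.Agent.Lib.H26
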