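import Mathlib
import Cfsg.Agent.Lib.H14.StrEmb

set_option autoImplicit false

/-!
Pure group theory used for essential subgroups inside an extraspecial subgroup of index `p`
(helper26): a commuting criterion for strongly `p`-embedded subgroups, commuting "transvections",
the group of automorphisms acting trivially on `Z` and on `E/Z`, and a counting lemma in
extraspecial-like groups.
-/

namespace Cfsg.Agent.Lib.H26.ExtraEss

open Cfsg

/-- If `a, b` are nontrivial `p`-elements of a strongly `p`-embedded subgroup `M` and `a` commutes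
with `g b g⁻¹`, then `g ∈ M`. -/
theorem strEmb_mem_of_commute {X : Type*} [Group X] [Finite X] {p : ℕ} [Fact p.Prime]
    (M : Subgroup X) (hM : IsStronglyPEmbedded p M) (a b g : X) (ha : a ∈ M) (hb : b ∈ M)
    (ha1 : a ≠ 1) (hb1 : b ≠ 1) (hpa : IsPGroup p (Subgroup.zpowers a))
    (hpb : IsPGroup p (Subgroup.zpowers b)) (hc : Commute a (g * b * g⁻¹)) : g ∈ M := by
  have hA : Subgroup.zpowers a ≤ M := (Subgroup.zpowers_le).2 ha
  have hA1 : Subgroup.zpowers a ≠ ⊥ := by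
    rw [Ne, Subgroup.zpowers_eq_bot]; exact ha1
  have hB : Subgroup.zpowers b ≤ M := (Subgroup.zpowers_le).2 hb
  have hB1 : Subgroup.zpowers b ≠ ⊥ := by
    rw [Ne, Subgroup.zpowers_eq_bot]; exact hb1
  have hN := Cfsg.Agent.Lib.H14.strEmb_nzr_le M hM _ hA hpa hA1
  have hgb : g * b * g⁻¹ ∈ M := by
    apply hN
    apply Subgroup.centralizer_le_normalizer
    rw [Subgroup.mem_centralizer_iff]
    intro h hh
    obtain ⟨k, rfl⟩ := Subgroup.mem_zpowers_iff.1 hh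
    exact (hc.zpow_left k).eq
  apply Cfsg.Agent.Lib.H14.strEmb_mem_of_conj M hM (Subgroup.zpowers b) hpb hB1 hB g
  rw [Subgroup.map_le_iff_le_comap, Subgroup.zpowers_le]
  show (MulAut.conj g) b ∈ M
  rw [MulAut.conj_apply]
  exact hgb

/-- Two automorphisms acting as "transvections" with respect to commuting subgroups `Z`, `W`,
each fixing the other's subgroup pointwise, commute. -/
theorem transv_commute {E : Type*} [Group E] (Z W : Subgroup E)
    (hZW : ∀ z ∈ Z, ∀ w ∈ W, z * w = w * z) (σ τ : MulAut E)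
    (hσ : ∀ e, σ e * e⁻¹ ∈ Z) (hτ : ∀ e, τ e * e⁻¹ ∈ W)
    (hσW : ∀ w ∈ W, σ w = w) (hτZ : ∀ z ∈ Z, τ z = z) : σ * τ = τ * σ := by
  apply MulEquiv.ext
  intro e
  show σ (τ e) = τ (σ e)
  have h1 : τ e = (τ e * e⁻¹) * e := by group
  have h2 : σ e = (σ e * e⁻¹) * e := by group
  have e1 : σ (τ e) = (τ e * e⁻¹) * ((σ e * e⁻¹) * e) := by
    conv_lhs => rw [h1]
    rw [map_mul, hσW _ (hτ e)]
    conv_lhs => rw [h2]
  have e2 : τ (σ e) = (σ e * e⁻¹) * ((τ e * e⁻¹) * e) := by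
    conv_lhs => rw [h2]
    rw [map_mul, hτZ _ (hσ e)]
    conv_lhs => rw [h1]
  rw [e1, e2]
  have h3 := hZW _ (hσ e) _ (hτ e)
  calc (τ e * e⁻¹) * ((σ e * e⁻¹) * e) = ((τ e * e⁻¹) * (σ e * e⁻¹)) * e :=
        (mul_assoc (τ e * e⁻¹) (σ e * e⁻¹) e).symm
    _ = ((σ e * e⁻¹) * (τ e * e⁻¹)) * e := by rw [h3]
    _ = (σ e * e⁻¹) * ((τ e * e⁻¹) * e) := mul_assoc (σ e * e⁻¹) (τ e * e⁻¹) e

/-- The automorphisms of `E` fixing `Z` pointwise and acting trivially on `E/Z` (as left cosets). -/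
def transvSub {E : Type*} [Group E] (Z : Subgroup E) : Subgroup (MulAut E) where
  carrier := {α | (∀ z ∈ Z, α z = z) ∧ ∀ e, α e * e⁻¹ ∈ Z}
  one_mem' := ⟨fun z _ => rfl, fun e => by
    show e * e⁻¹ ∈ Z
    rw [mul_inv_cancel]; exact Z.one_mem⟩
  mul_mem' := by
    rintro α β ⟨hα1, hα2⟩ ⟨hβ1, hβ2⟩
    refine ⟨fun z hz => ?_, fun e => ?_⟩
    · show α (β z) = z
      rw [hβ1 z hz, hα1 z hz]
    · show α (β e) * e⁻¹ ∈ Z
      have h1 : β e = (β e * e⁻¹) * e := by group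
      have h2 : α (β e) * e⁻¹ = (β e * e⁻¹) * (α e * e⁻¹) := by
        conv_lhs => rw [h1]
        rw [map_mul, hα1 _ (hβ2 e)]
        group
      rw [h2]
      exact Z.mul_mem (hβ2 e) (hα2 e)
  inv_mem' := by
    rintro α ⟨hα1, hα2⟩
    refine ⟨fun z hz => ?_, fun e => ?_⟩
    · have h := hα1 z hz
      have : α⁻¹ (α z) = z := by simp
      rw [h] at this
      exact this
    · have h := hα2 (α⁻¹ e)
      have h1 : α (α⁻¹ e) = e := by simp
      rw [h1] at h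
      have h2 : α⁻¹ e * e⁻¹ = (e * (α⁻¹ e)⁻¹)⁻¹ := by group
      rw [h2]
      exact Z.inv_mem h

theorem mem_transvSub {E : Type*} [Group E] (Z : Subgroup E) (α : MulAut E) :
    α ∈ transvSub Z ↔ (∀ z ∈ Z, α z = z) ∧ ∀ e, α e * e⁻¹ ∈ Z := Iff.rfl

theorem transvSub_pow_apply {E : Type*} [Group E] (Z : Subgroup E) (α : MulAut E)
    (hα : α ∈ transvSub Z) (e : E) (k : ℕ) : (α ^ k) e = (α e * e⁻¹) ^ k * e := by
  induction k with
  | zero => simp
  | succ k ih =>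
    rw [pow_succ']
    show α ((α ^ k) e) = _
    rw [ih, map_mul, map_pow, hα.1 _ (hα.2 e), pow_succ]
    group

theorem transvSub_pow_eq_one {E : Type*} [Group E] (Z : Subgroup E) (n : ℕ)
    (hZ : ∀ z ∈ Z, z ^ n = 1) (α : MulAut E) (hα : α ∈ transvSub Z) : α ^ n = 1 := by
  apply MulEquiv.ext
  intro e
  rw [transvSub_pow_apply Z α hα, hZ _ (hα.2 e), one_mul]
  rfl

theorem transvSub_conj_mem {E : Type*} [Group E] (Z : Subgroup E) (γ α : MulAut E)
    (hγ : ∀ z ∈ Z, γ z ∈ Z) (hγ' : ∀ z ∈ Z, γ⁻¹ z ∈ Z) (hα : α ∈ transvSub Z) :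
    γ * α * γ⁻¹ ∈ transvSub Z := by
  refine ⟨fun z hz => ?_, fun e => ?_⟩
  · show γ (α (γ⁻¹ z)) = z
    rw [hα.1 _ (hγ' z hz)]
    simp
  · show γ (α (γ⁻¹ e)) * e⁻¹ ∈ Z
    have h1 : e = γ (γ⁻¹ e) := by simp
    have h2 : γ (α (γ⁻¹ e)) * e⁻¹ = γ (α (γ⁻¹ e) * (γ⁻¹ e)⁻¹) := by
      rw [map_mul, map_inv, ← h1]
    rw [h2]
    exact hγ _ (hα.2 _)

end Cfsg.Agent.Lib.H26.ExtraEss
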