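import Mathlib

set_option autoImplicit false

/-!
A counting lemma in groups whose commutators are central and whose centre has prime order
(helper26): an abelian subgroup `E` of such a group `G` of order at least `p ^ 4` never contains the
full centralizer of one of its elements.
-/

namespace Cfsg.Agent.Lib.H26.ExtraEss

/-- `x ↦ [w, x]` as a homomorphism into the centre, when all commutators are central. -/
def commHom {G : Type*} [Group G] (hcomm : ∀ x y : G, x * y * x⁻¹ * y⁻¹ ∈ Subgroup.center G)
    (w : G) : G →* Subgroup.center G :=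
  MonoidHom.mk' (fun x => ⟨w * x * w⁻¹ * x⁻¹, hcomm w x⟩) (by
    intro a b
    apply Subtype.ext
    show w * (a * b) * w⁻¹ * (a * b)⁻¹ = (w * a * w⁻¹ * a⁻¹) * (w * b * w⁻¹ * b⁻¹)
    have h := Subgroup.mem_center_iff.1 (hcomm w b) a
    have e : w * (a * b) * w⁻¹ * (a * b)⁻¹ =
        (w * a * w⁻¹ * a⁻¹) * (a * (w * b * w⁻¹ * b⁻¹)) * a⁻¹ := by
      group
    rw [e, h]
    group)

theorem commHom_apply {G : Type*} [Group G]
    (hcomm : ∀ x y : G, x * y * x⁻¹ * y⁻¹ ∈ Subgroup.center G)
    (w x : G) : ((commHom hcomm w x : Subgroup.center G) : G) = w * x * w⁻¹ * x⁻¹ := rfl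

theorem mem_ker_commHom {G : Type*} [Group G]
    (hcomm : ∀ x y : G, x * y * x⁻¹ * y⁻¹ ∈ Subgroup.center G)
    (w x : G) : x ∈ (commHom hcomm w).ker ↔ x * w = w * x := by
  rw [MonoidHom.mem_ker]
  constructor
  · intro h
    have h1 : w * x * w⁻¹ * x⁻¹ = 1 := by
      have := congrArg Subtype.val h
      simpa [commHom_apply] using this
    have : w * x = x * w := by
      have e : w * x = (w * x * w⁻¹ * x⁻¹) * (x * w) := by group
      rw [e, h1, one_mul]
    exact this.symm
  · intro h
    apply Subtype.ext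
    show w * x * w⁻¹ * x⁻¹ = 1
    rw [← h]
    group

/-- For a homomorphism into a group of order `p`, the source is at most `p` times the kernel. -/
theorem card_le_mul_ker {A B : Type*} [Group A] [Group B] [Finite B] (f : A →* B) :
    Nat.card A ≤ Nat.card B * Nat.card f.ker := by
  rw [← Subgroup.card_mul_index f.ker, Subgroup.index_ker, mul_comm]
  exact Nat.mul_le_mul_right _ (Subgroup.card_le_card_group _)

theorem card_lt_of_lt_pgroup {G : Type*} [Group G] [Finite G] {p : ℕ} [Fact p.Prime]
    (hG : IsPGroup p G) {H K : Subgroup G} (hlt : H < K) : p * Nat.card H ≤ Nat.card K := by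
  obtain ⟨a, ha⟩ := (hG.to_subgroup H).exists_card_eq
  obtain ⟨b, hb⟩ := (hG.to_subgroup K).exists_card_eq
  have hp : 1 < p := (Fact.out : p.Prime).one_lt
  have h1 : Nat.card H < Nat.card K := by
    have hle := Subgroup.card_le_of_le hlt.le
    rcases Nat.lt_or_ge (Nat.card H) (Nat.card K) with h | h
    · exact h
    · exfalso
      have heq : Nat.card H = Nat.card K := le_antisymm hle h
      have : H = K := by
        apply SetLike.coe_injective
        apply Set.eq_of_subset_of_ncard_le hlt.le
        rw [← Nat.card_coe_set_eq, ← Nat.card_coe_set_eq]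
        exact le_of_eq heq.symm
      exact hlt.ne this
  rw [ha, hb] at h1 ⊢
  have hab : a < b := (Nat.pow_lt_pow_iff_right hp).1 h1
  calc p * p ^ a = p ^ (a + 1) := by rw [pow_succ, mul_comm]
    _ ≤ p ^ b := Nat.pow_le_pow_right hp.le hab

/-- The counting lemma. -/
theorem exists_commute_not_mem {G : Type*} [Group G] [Finite G] {p : ℕ} [Fact p.Prime]
    (hG : IsPGroup p G) (hcomm : ∀ x y : G, x * y * x⁻¹ * y⁻¹ ∈ Subgroup.center G)
    (hZ : Nat.card (Subgroup.center G) = p) (h4 : p ^ 4 ≤ Nat.card G) (E : Subgroup G)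
    (hE : ∀ e ∈ E, ∀ f ∈ E, e * f = f * e) (w : G) :
    ∃ x : G, x ∉ E ∧ x * w = w * x := by
  by_contra hcon
  push_neg at hcon
  have hp : 1 < p := (Fact.out : p.Prime).one_lt
  have hppos : 0 < p := by omega
  -- the centralizer of `w` lies in `E`
  have hker : (commHom hcomm w).ker ≤ E := by
    intro x hx
    by_contra hxE
    exact hcon x hxE ((mem_ker_commHom hcomm w x).1 hx)
  have hGE : Nat.card G ≤ p * Nat.card E := by
    have h1 := card_le_mul_ker (commHom hcomm w)
    rw [hZ] at h1
    exact h1.trans (Nat.mul_le_mul_left _ (Subgroup.card_le_of_le hker))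
  -- `E` is proper
  have hEtop : E ≠ ⊤ := by
    intro htop
    have hc : Subgroup.center G = ⊤ := by
      rw [eq_top_iff]
      intro x _
      rw [Subgroup.mem_center_iff]
      intro g
      exact hE g (htop ▸ Subgroup.mem_top g) x (htop ▸ Subgroup.mem_top x)
    have h1 : Nat.card G = p := by
      rw [← hZ, hc, Subgroup.card_top]
    rw [h1] at h4
    have : p ^ 1 < p ^ 4 := Nat.pow_lt_pow_right hp (by norm_num)
    rw [pow_one] at this
    omega
  obtain ⟨x₀, hx₀⟩ : ∃ x₀ : G, x₀ ∉ E := by
    by_contra h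
    push_neg at h
    exact hEtop (eq_top_iff.2 (fun x _ => h x))
  -- `K = C_E(x₀)`
  set K : Subgroup G := (commHom hcomm x₀).ker ⊓ E with hK
  have hEK : Nat.card E ≤ p * Nat.card K := by
    have h1 := card_le_mul_ker ((commHom hcomm x₀).comp E.subtype)
    rw [hZ] at h1
    have h2 : ((commHom hcomm x₀).comp E.subtype).ker = (commHom hcomm x₀).ker.subgroupOf E := rfl
    rw [h2, ← Subgroup.inf_subgroupOf_right,
      Nat.card_congr (Subgroup.subgroupOfEquivOfLe (inf_le_right :
        (commHom hcomm x₀).ker ⊓ E ≤ E)).toEquiv] at h1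
    exact h1
  -- the centralizer of `K` is everything
  set C : Subgroup G := Subgroup.centralizer (K : Set G) with hC
  have hEC : E ≤ C := by
    intro e he
    rw [hC, Subgroup.mem_centralizer_iff]
    intro k hk
    exact hE k hk.2 e he
  have hx₀C : x₀ ∈ C := by
    rw [hC, Subgroup.mem_centralizer_iff]
    intro k hk
    exact (mem_ker_commHom hcomm x₀ k).1 hk.1
  have hlt : E < C := lt_of_le_of_ne hEC (fun h => hx₀ (h ▸ hx₀C))
  have h5 := card_lt_of_lt_pgroup hG hlt
  have hCtop : C = ⊤ := Subgroup.eq_top_of_le_card C (hGE.trans h5)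
  have hKZ : K ≤ Subgroup.center G := by
    intro k hk
    rw [Subgroup.mem_center_iff]
    intro g
    have hg : g ∈ C := hCtop ▸ Subgroup.mem_top g
    rw [hC, Subgroup.mem_centralizer_iff] at hg
    exact (hg k hk).symm
  have hKp : Nat.card K ≤ p := by
    rw [← hZ]
    exact Subgroup.card_le_of_le hKZ
  have h6 : Nat.card G ≤ p ^ 3 := by
    calc Nat.card G ≤ p * Nat.card E := hGE
      _ ≤ p * (p * Nat.card K) := Nat.mul_le_mul_left _ hEK
      _ ≤ p * (p * p) := Nat.mul_le_mul_left _ (Nat.mul_le_mul_left _ hKp)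
      _ = p ^ 3 := by ring
  have : p ^ 3 < p ^ 4 := Nat.pow_lt_pow_right hp (by norm_num)
  omega

end Cfsg.Agent.Lib.H26.ExtraEss
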