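import Mathlib
import Cfsg.Prelude.Def_FusionSystem
import Cfsg.Agent.Lib.H25.Fusion
import Cfsg.Agent.Lib.H25.Saturation
import Cfsg.Agent.Lib.H25.SatEquiv
import Cfsg.Agent.Lib.H25.Alperin
import Cfsg.Agent.Lib.H25.Essential
import Cfsg.Agent.Lib.H25.Basic
import Cfsg.Agent.Lib.H26.EssentialOmit
import Cfsg.Agent.Lib.H26.EssentialAut
import Cfsg.Agent.Lib.H26.ExtraEssA
import Cfsg.Agent.Lib.H26.ExtraEssB

set_option autoImplicit false

/-!
Essential subgroups contained in an extraspecial subgroup `Q` of a `p`-group `S` with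
`|Q| ≥ p ^ 4`: such an essential subgroup equals `Q` (helper26).
-/

namespace Cfsg.Agent.Lib.H26.ExtraEss

open Cfsg Cfsg.FusionSystem Cfsg.Agent.Lib.H25

variable {Ω : Type*} [Group Ω] {S : Subgroup Ω}

/-- Conjugation by a normalizing element, as an automorphism of the subgroup. -/
def conjAut (E : Subgroup Ω) (x : Ω) (h1 : ∀ e ∈ E, x * e * x⁻¹ ∈ E)
    (h2 : ∀ e ∈ E, x⁻¹ * e * x ∈ E) : MulAut E where
  toFun e := ⟨x * e * x⁻¹, h1 e e.2⟩
  invFun e := ⟨x⁻¹ * e * x, h2 e e.2⟩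
  left_inv e := by
    apply Subtype.ext
    show x⁻¹ * (x * (e : Ω) * x⁻¹) * x = e
    group
  right_inv e := by
    apply Subtype.ext
    show x * (x⁻¹ * (e : Ω) * x) * x⁻¹ = e
    group
  map_mul' a b := by
    apply Subtype.ext
    show x * ((a : Ω) * b) * x⁻¹ = (x * a * x⁻¹) * (x * b * x⁻¹)
    group

theorem conjAut_apply (E : Subgroup Ω) (x : Ω) (h1 : ∀ e ∈ E, x * e * x⁻¹ ∈ E)
    (h2 : ∀ e ∈ E, x⁻¹ * e * x ∈ E) (e : E) :
    ((conjAut E x h1 h2 e : E) : Ω) = x * e * x⁻¹ := rfl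

/-- For an essential subgroup `R`, every normal `p`-subgroup of `Aut_F(R)` consists of inner
automorphisms. -/
theorem normal_pgroup_le_inn [Finite S] {p : ℕ} [Fact p.Prime] {F : FusionSystem S}
    {R : Subgroup Ω} (hess : F.IsEssential p R) (N : Subgroup (MulAut R))
    (hNG : N ≤ F.autGroup R)
    (hNnorm : ∀ α ∈ F.autGroup R, ∀ γ ∈ N, α * γ * α⁻¹ ∈ N) (hNp : IsPGroup p N) :
    N ≤ Inn R := by
  have hRS : R ≤ S := hess.1.1
  have hfinR : Finite R := finite_of_le S hRS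
  obtain ⟨hI, M, hM⟩ := hess.2.2
  have hcore := pCore_eq_bot_of_stronglyPEmbedded hM
  have hπs : Function.Surjective (QuotientGroup.mk' ((Inn R).subgroupOf (F.autGroup R))) :=
    QuotientGroup.mk'_surjective _
  have hN'normal : (N.subgroupOf (F.autGroup R)).Normal := by
    constructor
    intro n hn g
    rw [Subgroup.mem_subgroupOf] at hn ⊢
    exact hNnorm g g.2 n hn
  have hN'p : IsPGroup p (N.subgroupOf (F.autGroup R)) := by
    intro g
    obtain ⟨k, hk⟩ := hNp ⟨((g : F.autGroup R) : MulAut R), g.2⟩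
    refine ⟨k, ?_⟩
    apply Subtype.ext
    apply Subtype.ext
    have := congrArg Subtype.val hk
    simpa using this
  have hle : (N.subgroupOf (F.autGroup R)).map
      (QuotientGroup.mk' ((Inn R).subgroupOf (F.autGroup R))) ≤
        pCore p (F.autGroup R ⧸ (Inn R).subgroupOf (F.autGroup R)) :=
    le_pCore (hN'normal.map _ hπs) (hN'p.map _)
  rw [hcore] at hle
  intro γ hγ
  have h1 : QuotientGroup.mk' ((Inn R).subgroupOf (F.autGroup R)) ⟨γ, hNG hγ⟩ ∈
      (N.subgroupOf (F.autGroup R)).map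
        (QuotientGroup.mk' ((Inn R).subgroupOf (F.autGroup R))) :=
    ⟨⟨γ, hNG hγ⟩, Subgroup.mem_subgroupOf.2 hγ, rfl⟩
  have h2 := hle h1
  rw [Subgroup.mem_bot] at h2
  have h3 : (⟨γ, hNG hγ⟩ : F.autGroup R) ∈ (Inn R).subgroupOf (F.autGroup R) :=
    (QuotientGroup.eq_one_iff _).1 h2
  exact Subgroup.mem_subgroupOf.1 h3

/-- An essential subgroup contained in an extraspecial subgroup `Q ≤ S` of order at least `p ^ 4`
equals `Q`. -/
theorem essential_eq_of_extraspecial [Finite S] {p : ℕ} [Fact p.Prime] (hS : IsPGroup p S)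
    (Q : Subgroup Ω) (hQS : Q ≤ S) (hQ : Cfsg.IsExtraspecial p ↥Q) (h4 : p ^ 4 ≤ Nat.card Q)
    (F : FusionSystem S) (hF : F.IsSaturated p) (E : Subgroup Ω) (hEQ : E ≤ Q)
    (hE : F.IsEssential p E) : E = Q := by
  have hcen := hE.1
  have hES : E ≤ S := hcen.1
  have hfinQ : Finite Q := finite_of_le S hQS
  have hfinE : Finite E := finite_of_le S hES
  have hCE : centralizerIn S E ≤ E := hcen.2 E (isConj_refl F hES)
  -- the centre `Z` of `Q`, as a subgroup of `Ω`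
  set Z : Subgroup Ω := (Subgroup.center ↥Q).map Q.subtype with hZdef
  have hZQ : Z ≤ Q := Subgroup.map_subtype_le _
  have hZcard : Nat.card Z = p := by
    rw [hZdef, Subgroup.card_map_of_injective Q.subtype_injective]
    exact hQ.2
  have hZc : ∀ z ∈ Z, ∀ x ∈ Q, z * x = x * z := by
    rintro _ ⟨z, hz, rfl⟩ x hx
    have := Subgroup.mem_center_iff.1 hz ⟨x, hx⟩
    exact (congrArg Subtype.val this).symm
  have hcommQ : ∀ a b : ↥Q, a * b * a⁻¹ * b⁻¹ ∈ Subgroup.center ↥Q := by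
    intro a b
    have h1 : a * b * a⁻¹ * b⁻¹ ∈ commutator ↥Q := by
      rw [commutator_def]
      exact Subgroup.commutator_mem_commutator (Subgroup.mem_top a) (Subgroup.mem_top b)
    rw [hQ.1.2.2] at h1
    exact h1
  have hcomm : ∀ x ∈ Q, ∀ y ∈ Q, x * y * x⁻¹ * y⁻¹ ∈ Z := by
    intro x hx y hy
    exact ⟨_, hcommQ ⟨x, hx⟩ ⟨y, hy⟩, rfl⟩
  -- `Z ≤ E`
  have hZE : Z ≤ E := by
    intro z hz
    apply hCE
    refine ⟨hQS (hZQ hz), ?_⟩
    show z ∈ Subgroup.centralizer (E : Set Ω)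
    rw [Subgroup.mem_centralizer_iff]
    intro e he
    exact (hZc z hz e (hEQ he)).symm
  -- `Q` normalizes `E`
  have hnorm : ∀ x ∈ Q, ∀ e ∈ E, x * e * x⁻¹ ∈ E := by
    intro x hx e he
    have h1 := hZE (hcomm x hx e (hEQ he))
    have : x * e * x⁻¹ = (x * e * x⁻¹ * e⁻¹) * e := by group
    rw [this]
    exact E.mul_mem h1 he
  have hnorm' : ∀ x ∈ Q, ∀ e ∈ E, x⁻¹ * e * x ∈ E := by
    intro x hx e he
    have := hnorm x⁻¹ (Q.inv_mem hx) e he
    rwa [inv_inv] at this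
  -- the automorphisms `c_x`
  let c : (x : Ω) → x ∈ Q → MulAut E := fun x hx => conjAut E x (hnorm x hx) (hnorm' x hx)
  have hcS : ∀ x hx, c x hx ∈ autInducedBy S E := fun x hx =>
    (mem_autInducedBy_iff S E _).2 ⟨x, hQS hx, fun e => rfl⟩
  have hcF : ∀ x hx, c x hx ∈ F.autGroup E := fun x hx =>
    autInducedBy_le_autGroup F hES (hcS x hx)
  have hcInn : ∀ x hx, c x hx ∈ Inn E → x ∈ E := fun x hx h =>
    mem_of_centric_of_induces_inner hcen (hQS hx) (fun e => rfl) h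
  set ZE : Subgroup E := Z.subgroupOf E with hZEdef
  have hcT : ∀ x hx, c x hx ∈ transvSub ZE := by
    intro x hx
    refine ⟨fun z hz => ?_, fun e => ?_⟩
    · apply Subtype.ext
      show x * (z : Ω) * x⁻¹ = z
      have := hZc z hz x hx
      rw [← this]
      group
    · show ((c x hx e * e⁻¹ : E) : Ω) ∈ Z
      exact hcomm x hx e (hEQ e.2)
  have hZEpow : ∀ z ∈ ZE, z ^ p = 1 := by
    intro z hz
    have h1 : (⟨(z : Ω), hz⟩ : Z) ^ Nat.card Z = 1 := pow_card_eq_one'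
    rw [hZcard] at h1
    apply Subtype.ext
    have := congrArg Subtype.val h1
    simpa using this
  by_cases hA : ∀ α ∈ F.autGroup E, ∀ z ∈ ZE, α z ∈ ZE
  · -- Case A: `Aut_F(E)` stabilises `Z`
    apply le_antisymm hEQ
    intro x hx
    apply hcInn x hx
    have hN := normal_pgroup_le_inn hE (transvSub ZE ⊓ F.autGroup E) inf_le_right ?_ ?_
    · exact hN ⟨hcT x hx, hcF x hx⟩
    · intro α hα γ hγ
      refine ⟨transvSub_conj_mem ZE α γ (hA α hα) (hA α⁻¹ ((F.autGroup E).inv_mem hα)) hγ.1, ?_⟩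
      exact (F.autGroup E).mul_mem ((F.autGroup E).mul_mem hα hγ.2) ((F.autGroup E).inv_mem hα)
    · intro g
      refine ⟨1, ?_⟩
      apply Subtype.ext
      rw [pow_one]
      show ((g : MulAut E)) ^ p = 1
      exact transvSub_pow_eq_one ZE p hZEpow _ g.2.1
  · -- Case B: some automorphism moves `Z`
    exfalso
    push_neg at hA
    obtain ⟨α, hα, z₁, hz₁, hαz₁⟩ := hA
    have hZEcard : Nat.card ZE = p := by
      rw [hZEdef, Nat.card_congr (Subgroup.subgroupOfEquivOfLe hZE).toEquiv]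
      exact hZcard
    have hgen : ∀ z₀ ∈ ZE, z₀ ≠ 1 → ∀ z ∈ ZE, ∃ k : ℤ, z = z₀ ^ k := by
      intro z₀ hz₀ hne z hz
      have := mem_zpowers_of_prime_card (G := ZE) hZEcard (g := ⟨z₀, hz₀⟩) (g' := ⟨z, hz⟩)
        (by intro h; apply hne; exact congrArg Subtype.val h)
      obtain ⟨k, hk⟩ := Subgroup.mem_zpowers_iff.1 this
      refine ⟨k, ?_⟩
      have := congrArg Subtype.val hk
      simpa using this.symm
    have hcommE : ∀ e f : E, e * f * e⁻¹ * f⁻¹ ∈ ZE := by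
      intro e f
      show ((e * f * e⁻¹ * f⁻¹ : E) : Ω) ∈ Z
      exact hcomm _ (hEQ e.2) _ (hEQ f.2)
    have hEab : ∀ e f : E, e * f = f * e := by
      intro e f
      by_contra hne
      set c₁ : E := α⁻¹ e * α⁻¹ f * (α⁻¹ e)⁻¹ * (α⁻¹ f)⁻¹ with hc₁
      have hc₁Z : c₁ ∈ ZE := hcommE _ _
      have hαc₁ : α c₁ = e * f * e⁻¹ * f⁻¹ := by simp [hc₁]
      have hc₀Z : e * f * e⁻¹ * f⁻¹ ∈ ZE := hcommE _ _
      have hc₁ne : c₁ ≠ 1 := by
        intro h
        rw [h, map_one] at hαc₁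
        apply hne
        have : e * f = (e * f * e⁻¹ * f⁻¹) * (f * e) := by group
        rw [this, ← hαc₁, one_mul]
      obtain ⟨k, hk⟩ := hgen c₁ hc₁Z hc₁ne z₁ hz₁
      apply hαz₁
      rw [hk, map_zpow, hαc₁]
      exact ZE.zpow_mem hc₀Z k
    have hfn := hE.2.1
    have hne : E ≠ S := essential_ne_top hS hF hE
    obtain ⟨hfc, hfa⟩ := fullyNormalized_props hS hF hfn
    have hrec := isReceptive_of_fullyCentralized hS hF hfc
    obtain ⟨hI, -⟩ := hE.2.2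
    have hspe := stronglyPEmbedded_extGens hS hF hne hE
    obtain ⟨hp, T, hΓ, hTmem⟩ := centric_out_data hS hfa hrec hne hcen
    have hTne : (T : Subgroup (F.autGroup E ⧸ (Inn E).subgroupOf (F.autGroup E))) ≠ ⊥ :=
      T.ne_bot_of_dvd_card hp
    have hTM := (Subgroup.le_normalizer).trans
      ((Cfsg.Agent.Lib.H9.normalizer_le_kGeneratedCore_one T
        (T : Subgroup (F.autGroup E ⧸ (Inn E).subgroupOf (F.autGroup E))) le_rfl hTne).trans hΓ)
    apply hspe.2.1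
    rw [eq_top_iff]
    intro g _
    obtain ⟨β, rfl⟩ := QuotientGroup.mk'_surjective _ g
    obtain ⟨z₀, hz₀, hz₀ne⟩ : ∃ z₀ ∈ ZE, z₀ ≠ 1 := by
      refine ⟨z₁, hz₁, ?_⟩
      rintro rfl
      apply hαz₁
      rw [map_one]
      exact ZE.one_mem
    have hcount : ∀ w : E, ∃ x ∈ Q, x ∉ E ∧ x * (w : Ω) = (w : Ω) * x := by
      intro w
      have hab : ∀ a ∈ E.subgroupOf Q, ∀ b ∈ E.subgroupOf Q, a * b = b * a := by
        intro a ha b hb
        apply Subtype.ext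
        have h := congrArg Subtype.val (hEab ⟨(a : Ω), ha⟩ ⟨(b : Ω), hb⟩)
        exact h
      obtain ⟨x, hxE, hxw⟩ := exists_commute_not_mem (G := ↥Q) hQ.1.1 hcommQ hQ.2 h4
        (E.subgroupOf Q) hab ⟨w, hEQ w.2⟩
      exact ⟨x, x.2, fun h => hxE (Subgroup.mem_subgroupOf.2 h), congrArg Subtype.val hxw⟩
    obtain ⟨x, hxQ, hxE, hxw⟩ := hcount ((β : MulAut E) z₀)
    obtain ⟨y, hyQ, hyE, hyw⟩ := hcount ((β : MulAut E)⁻¹ z₀)
    have hfx : c x hxQ ((β : MulAut E) z₀) = (β : MulAut E) z₀ := by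
      apply Subtype.ext
      show x * (((β : MulAut E) z₀ : E) : Ω) * x⁻¹ = _
      rw [hxw]
      group
    have hfy : c y hyQ ((β : MulAut E)⁻¹ z₀) = (β : MulAut E)⁻¹ z₀ := by
      apply Subtype.ext
      show y * (((β : MulAut E)⁻¹ z₀ : E) : Ω) * y⁻¹ = _
      rw [hyw]
      group
    have hcomm2 : c x hxQ * ((β : MulAut E) * c y hyQ * (β : MulAut E)⁻¹) =
        ((β : MulAut E) * c y hyQ * (β : MulAut E)⁻¹) * c x hxQ := by
      apply transv_commute ZE (ZE.map (β : MulAut E).toMonoidHom) (fun z _ w _ => hEab z w) _ _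
        (hcT x hxQ).2
      · intro e
        refine ⟨c y hyQ ((β : MulAut E)⁻¹ e) * ((β : MulAut E)⁻¹ e)⁻¹, (hcT y hyQ).2 _, ?_⟩
        show (β : MulAut E) (c y hyQ ((β : MulAut E)⁻¹ e) * ((β : MulAut E)⁻¹ e)⁻¹) =
          (β : MulAut E) (c y hyQ ((β : MulAut E)⁻¹ e)) * e⁻¹
        rw [map_mul, map_inv]
        simp
      · rintro _ ⟨z, hz, rfl⟩
        obtain ⟨k, rfl⟩ := hgen z₀ hz₀ hz₀ne z hz
        show c x hxQ ((β : MulAut E) (z₀ ^ k)) = (β : MulAut E) (z₀ ^ k)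
        rw [map_zpow, map_zpow, hfx]
      · intro z hz
        obtain ⟨k, rfl⟩ := hgen z₀ hz₀ hz₀ne z hz
        show (β : MulAut E) (c y hyQ ((β : MulAut E)⁻¹ (z₀ ^ k))) = z₀ ^ k
        rw [map_zpow, map_zpow, hfy, ← map_zpow]
        simp
    have ha : QuotientGroup.mk' ((Inn E).subgroupOf (F.autGroup E)) ⟨c x hxQ, hcF x hxQ⟩ ∈
        (T : Subgroup (F.autGroup E ⧸ (Inn E).subgroupOf (F.autGroup E))) :=
      (hTmem _).2 ⟨⟨c x hxQ, hcF x hxQ⟩, hcS x hxQ, rfl⟩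
    have hb : QuotientGroup.mk' ((Inn E).subgroupOf (F.autGroup E)) ⟨c y hyQ, hcF y hyQ⟩ ∈
        (T : Subgroup (F.autGroup E ⧸ (Inn E).subgroupOf (F.autGroup E))) :=
      (hTmem _).2 ⟨⟨c y hyQ, hcF y hyQ⟩, hcS y hyQ, rfl⟩
    have hne1 : ∀ u (hu : u ∈ Q), u ∉ E →
        QuotientGroup.mk' ((Inn E).subgroupOf (F.autGroup E)) ⟨c u hu, hcF u hu⟩ ≠ 1 := by
      intro u hu huE h
      have h3 : (⟨c u hu, hcF u hu⟩ : F.autGroup E) ∈ (Inn E).subgroupOf (F.autGroup E) :=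
        (QuotientGroup.eq_one_iff _).1 h
      exact huE (hcInn u hu (Subgroup.mem_subgroupOf.1 h3))
    apply strEmb_mem_of_commute _ hspe _ _ _ (hTM ha) (hTM hb) (hne1 x hxQ hxE) (hne1 y hyQ hyE)
      (T.2.to_le ((Subgroup.zpowers_le).2 ha)) (T.2.to_le ((Subgroup.zpowers_le).2 hb))
    show _ * _ = _ * _
    rw [← map_inv, ← map_mul, ← map_mul, ← map_mul, ← map_mul]
    congr 1
    apply Subtype.ext
    exact hcomm2

end Cfsg.Agent.Lib.H26.ExtraEss
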