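import Mathlib
import Cfsg.Agent.Lib.H26.ExtraEssC

set_option autoImplicit false

/-!
General form of the argument of `essential_eq_of_extraspecial` (helper26): a subgroup `R ≤ S`
acting on an essential subgroup `E` by "transvections" with centre `Z` of order `p` lies in `E`,
provided every element of `E` is centralized by some element of `R` outside `E` when `E` is
abelian.
-/

namespace Cfsg.Agent.Lib.H26.ExtraEss

open Cfsg Cfsg.FusionSystem Cfsg.Agent.Lib.H25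

variable {Ω : Type*} [Group Ω] {S : Subgroup Ω}

theorem le_essential_of_transv [Finite S] {p : ℕ} [Fact p.Prime] (hS : IsPGroup p S)
    (F : FusionSystem S) (hF : F.IsSaturated p) (Z Q E : Subgroup Ω) (hE : F.IsEssential p E)
    (hQS : Q ≤ S) (hZE : Z ≤ E) (hZcard : Nat.card Z = p)
    (hZc : ∀ z ∈ Z, ∀ x ∈ Q, z * x = x * z)
    (hQE : ∀ x ∈ Q, ∀ e ∈ E, x * e * x⁻¹ * e⁻¹ ∈ Z)
    (hEE : ∀ e ∈ E, ∀ f ∈ E, e * f * e⁻¹ * f⁻¹ ∈ Z)
    (hcount : (∀ e ∈ E, ∀ f ∈ E, e * f = f * e) →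
      ∀ w ∈ E, ∃ x ∈ Q, x ∉ E ∧ x * w = w * x) : Q ≤ E := by
  have hcen := hE.1
  have hES : E ≤ S := hcen.1
  have hfinE : Finite E := finite_of_le S hES
  -- `Q` normalizes `E`
  have hnorm : ∀ x ∈ Q, ∀ e ∈ E, x * e * x⁻¹ ∈ E := by
    intro x hx e he
    have h1 := hZE (hQE x hx e he)
    have : x * e * x⁻¹ = (x * e * x⁻¹ * e⁻¹) * e := by group
    rw [this]
    exact E.mul_mem h1 he
  have hnorm' : ∀ x ∈ Q, ∀ e ∈ E, x⁻¹ * e * x ∈ E := by
    intro x hx e he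
    have := hnorm x⁻¹ (Q.inv_mem hx) e he
    rwa [inv_inv] at this
  -- the automorphisms `c_x`
  let c : (x : Ω) → x ∈ Q → MulAut E := fun x hx => conjAut E x (hnorm x hx) (hnorm' x hx)
  have hcS : ∀ x hx, c x hx ∈ autInducedBy S E := fun x hx =>
    (mem_autInducedBy_iff S E _).2 ⟨x, hQS hx, fun e => rfl⟩
  have hcF : ∀ x hx, c x hx ∈ F.autGroup E := fun x hx =>
    autInducedBy_le_autGroup F hES (hcS x hx)
  have hcInn : ∀ x hx, c x hx ∈ Inn E → x ∈ E := fun x hx h =>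
    mem_of_centric_of_induces_inner hcen (hQS hx) (fun e => rfl) h
  set ZE : Subgroup E := Z.subgroupOf E with hZEdef
  have hcT : ∀ x hx, c x hx ∈ transvSub ZE := by
    intro x hx
    refine ⟨fun z hz => ?_, fun e => ?_⟩
    · apply Subtype.ext
      show x * (z : Ω) * x⁻¹ = z
      have := hZc z hz x hx
      rw [← this]
      group
    · show ((c x hx e * e⁻¹ : E) : Ω) ∈ Z
      exact hQE x hx e e.2
  have hZEpow : ∀ z ∈ ZE, z ^ p = 1 := by
    intro z hz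
    have h1 : (⟨(z : Ω), hz⟩ : Z) ^ Nat.card Z = 1 := pow_card_eq_one'
    rw [hZcard] at h1
    apply Subtype.ext
    have := congrArg Subtype.val h1
    simpa using this
  by_cases hA : ∀ α ∈ F.autGroup E, ∀ z ∈ ZE, α z ∈ ZE
  · -- Case A: `Aut_F(E)` stabilises `Z`
    intro x hx
    apply hcInn x hx
    have hN := normal_pgroup_le_inn hE (transvSub ZE ⊓ F.autGroup E) inf_le_right ?_ ?_
    · exact hN ⟨hcT x hx, hcF x hx⟩
    · intro α hα γ hγ
      refine ⟨transvSub_conj_mem ZE α γ (hA α hα) (hA α⁻¹ ((F.autGroup E).inv_mem hα)) hγ.1, ?_⟩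
      exact (F.autGroup E).mul_mem ((F.autGroup E).mul_mem hα hγ.2) ((F.autGroup E).inv_mem hα)
    · intro g
      refine ⟨1, ?_⟩
      apply Subtype.ext
      rw [pow_one]
      show ((g : MulAut E)) ^ p = 1
      exact transvSub_pow_eq_one ZE p hZEpow _ g.2.1
  · -- Case B: some automorphism moves `Z`
    exfalso
    push_neg at hA
    obtain ⟨α, hα, z₁, hz₁, hαz₁⟩ := hA
    have hZEcard : Nat.card ZE = p := by
      rw [hZEdef, Nat.card_congr (Subgroup.subgroupOfEquivOfLe hZE).toEquiv]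
      exact hZcard
    have hgen : ∀ z₀ ∈ ZE, z₀ ≠ 1 → ∀ z ∈ ZE, ∃ k : ℤ, z = z₀ ^ k := by
      intro z₀ hz₀ hne z hz
      have := mem_zpowers_of_prime_card (G := ZE) hZEcard (g := ⟨z₀, hz₀⟩) (g' := ⟨z, hz⟩)
        (by intro h; apply hne; exact congrArg Subtype.val h)
      obtain ⟨k, hk⟩ := Subgroup.mem_zpowers_iff.1 this
      refine ⟨k, ?_⟩
      have := congrArg Subtype.val hk
      simpa using this.symm
    have hcommE : ∀ e f : E, e * f * e⁻¹ * f⁻¹ ∈ ZE := by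
      intro e f
      show ((e * f * e⁻¹ * f⁻¹ : E) : Ω) ∈ Z
      exact hEE _ e.2 _ f.2
    have hEab : ∀ e f : E, e * f = f * e := by
      intro e f
      by_contra hne
      set c₁ : E := α⁻¹ e * α⁻¹ f * (α⁻¹ e)⁻¹ * (α⁻¹ f)⁻¹ with hc₁
      have hc₁Z : c₁ ∈ ZE := hcommE _ _
      have hαc₁ : α c₁ = e * f * e⁻¹ * f⁻¹ := by simp [hc₁]
      have hc₀Z : e * f * e⁻¹ * f⁻¹ ∈ ZE := hcommE _ _
      have hc₁ne : c₁ ≠ 1 := by
        intro h
        rw [h, map_one] at hαc₁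
        apply hne
        have : e * f = (e * f * e⁻¹ * f⁻¹) * (f * e) := by group
        rw [this, ← hαc₁, one_mul]
      obtain ⟨k, hk⟩ := hgen c₁ hc₁Z hc₁ne z₁ hz₁
      apply hαz₁
      rw [hk, map_zpow, hαc₁]
      exact ZE.zpow_mem hc₀Z k
    have hfn := hE.2.1
    have hne : E ≠ S := essential_ne_top hS hF hE
    obtain ⟨hfc, hfa⟩ := fullyNormalized_props hS hF hfn
    have hrec := isReceptive_of_fullyCentralized hS hF hfc
    obtain ⟨hI, -⟩ := hE.2.2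
    have hspe := stronglyPEmbedded_extGens hS hF hne hE
    obtain ⟨hp, T, hΓ, hTmem⟩ := centric_out_data hS hfa hrec hne hcen
    have hTne : (T : Subgroup (F.autGroup E ⧸ (Inn E).subgroupOf (F.autGroup E))) ≠ ⊥ :=
      T.ne_bot_of_dvd_card hp
    have hTM := (Subgroup.le_normalizer).trans
      ((Cfsg.Agent.Lib.H9.normalizer_le_kGeneratedCore_one T
        (T : Subgroup (F.autGroup E ⧸ (Inn E).subgroupOf (F.autGroup E))) le_rfl hTne).trans hΓ)
    apply hspe.2.1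
    rw [eq_top_iff]
    intro g _
    obtain ⟨β, rfl⟩ := QuotientGroup.mk'_surjective _ g
    obtain ⟨z₀, hz₀, hz₀ne⟩ : ∃ z₀ ∈ ZE, z₀ ≠ 1 := by
      refine ⟨z₁, hz₁, ?_⟩
      rintro rfl
      apply hαz₁
      rw [map_one]
      exact ZE.one_mem
    have hcount' : ∀ w : E, ∃ x ∈ Q, x ∉ E ∧ x * (w : Ω) = (w : Ω) * x := fun w =>
      hcount (fun e he f hf => congrArg Subtype.val (hEab ⟨e, he⟩ ⟨f, hf⟩)) w w.2
    obtain ⟨x, hxQ, hxE, hxw⟩ := hcount' ((β : MulAut E) z₀)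
    obtain ⟨y, hyQ, hyE, hyw⟩ := hcount' ((β : MulAut E)⁻¹ z₀)
    have hfx : c x hxQ ((β : MulAut E) z₀) = (β : MulAut E) z₀ := by
      apply Subtype.ext
      show x * (((β : MulAut E) z₀ : E) : Ω) * x⁻¹ = _
      rw [hxw]
      group
    have hfy : c y hyQ ((β : MulAut E)⁻¹ z₀) = (β : MulAut E)⁻¹ z₀ := by
      apply Subtype.ext
      show y * (((β : MulAut E)⁻¹ z₀ : E) : Ω) * y⁻¹ = _
      rw [hyw]
      group
    have hcomm2 : c x hxQ * ((β : MulAut E) * c y hyQ * (β : MulAut E)⁻¹) =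
        ((β : MulAut E) * c y hyQ * (β : MulAut E)⁻¹) * c x hxQ := by
      apply transv_commute ZE (ZE.map (β : MulAut E).toMonoidHom) (fun z _ w _ => hEab z w) _ _
        (hcT x hxQ).2
      · intro e
        refine ⟨c y hyQ ((β : MulAut E)⁻¹ e) * ((β : MulAut E)⁻¹ e)⁻¹, (hcT y hyQ).2 _, ?_⟩
        show (β : MulAut E) (c y hyQ ((β : MulAut E)⁻¹ e) * ((β : MulAut E)⁻¹ e)⁻¹) =
          (β : MulAut E) (c y hyQ ((β : MulAut E)⁻¹ e)) * e⁻¹
        rw [map_mul, map_inv]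
        simp
      · rintro _ ⟨z, hz, rfl⟩
        obtain ⟨k, rfl⟩ := hgen z₀ hz₀ hz₀ne z hz
        show c x hxQ ((β : MulAut E) (z₀ ^ k)) = (β : MulAut E) (z₀ ^ k)
        rw [map_zpow, map_zpow, hfx]
      · intro z hz
        obtain ⟨k, rfl⟩ := hgen z₀ hz₀ hz₀ne z hz
        show (β : MulAut E) (c y hyQ ((β : MulAut E)⁻¹ (z₀ ^ k))) = z₀ ^ k
        rw [map_zpow, map_zpow, hfy, ← map_zpow]
        simp
    have ha : QuotientGroup.mk' ((Inn E).subgroupOf (F.autGroup E)) ⟨c x hxQ, hcF x hxQ⟩ ∈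
        (T : Subgroup (F.autGroup E ⧸ (Inn E).subgroupOf (F.autGroup E))) :=
      (hTmem _).2 ⟨⟨c x hxQ, hcF x hxQ⟩, hcS x hxQ, rfl⟩
    have hb : QuotientGroup.mk' ((Inn E).subgroupOf (F.autGroup E)) ⟨c y hyQ, hcF y hyQ⟩ ∈
        (T : Subgroup (F.autGroup E ⧸ (Inn E).subgroupOf (F.autGroup E))) :=
      (hTmem _).2 ⟨⟨c y hyQ, hcF y hyQ⟩, hcS y hyQ, rfl⟩
    have hne1 : ∀ u (hu : u ∈ Q), u ∉ E →
        QuotientGroup.mk' ((Inn E).subgroupOf (F.autGroup E)) ⟨c u hu, hcF u hu⟩ ≠ 1 := by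
      intro u hu huE h
      have h3 : (⟨c u hu, hcF u hu⟩ : F.autGroup E) ∈ (Inn E).subgroupOf (F.autGroup E) :=
        (QuotientGroup.eq_one_iff _).1 h
      exact huE (hcInn u hu (Subgroup.mem_subgroupOf.1 h3))
    apply strEmb_mem_of_commute _ hspe _ _ _ (hTM ha) (hTM hb) (hne1 x hxQ hxE) (hne1 y hyQ hyE)
      (T.2.to_le ((Subgroup.zpowers_le).2 ha)) (T.2.to_le ((Subgroup.zpowers_le).2 hb))
    show _ * _ = _ * _
    rw [← map_inv, ← map_mul, ← map_mul, ← map_mul, ← map_mul]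
    congr 1
    apply Subtype.ext
    exact hcomm2

end Cfsg.Agent.Lib.H26.ExtraEss
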