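import Mathlib
import Cfsg.Prelude.Def_FusionSystem
import Cfsg.Agent.Lib.H25.Hyperfocal
import Cfsg.Agent.Lib.H26.SmallCenterEss

set_option autoImplicit false

/-!
Complements of `[S,S]` in `Z(S)` carrying a reflection in `Aut_F(S)`, for a saturated fusion system
on a `p`-group `S` with `|S : Z(S)| = p²` (helper26).
-/

namespace Cfsg.Agent.Lib.H26.SmallCenter

open Cfsg Cfsg.FusionSystem Cfsg.Agent.Lib.H25 Cfsg.Agent.Lib.H26.TransvPair

variable {Ω : Type*} [Group Ω] {S : Subgroup Ω} {p : ℕ} [Fact p.Prime] [Finite S]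

/-- `Out_F(S)` is a `p'`-group: a fixed power prime to `p` maps `Aut_F(S)` into `Inn(S)`. -/
theorem exists_pow_mem_inn (hS : IsPGroup p S) {F : FusionSystem S} (hF : F.IsSaturated p) :
    ∃ n : ℕ, n.Coprime p ∧ ∀ γ ∈ F.autGroup S, γ ^ n ∈ autInducedBy S S := by
  obtain ⟨-, hfa⟩ := fullyNormalized_props hS hF (isFullyNormalized_self F)
  obtain ⟨-, R, hR⟩ := hfa
  haveI : ((autInducedBy S S).subgroupOf (F.autGroup S)).Normal := by
    refine ⟨fun n hn g => ?_⟩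
    rw [Subgroup.mem_subgroupOf] at hn ⊢
    obtain ⟨s, hs, hns⟩ := (mem_autInducedBy_iff S S _).1 hn
    rw [mem_autInducedBy_iff]
    refine ⟨((g : MulAut S) ⟨s, hs⟩ : S), ((g : MulAut S) ⟨s, hs⟩ : S).2, fun y => ?_⟩
    show ((((g : MulAut S) ((n : MulAut S) ((g : MulAut S)⁻¹ y))) : S) : Ω) = _
    have h1 : (n : MulAut S) ((g : MulAut S)⁻¹ y) =
        ⟨s, hs⟩ * ((g : MulAut S)⁻¹ y) * ⟨s, hs⟩⁻¹ := Subtype.ext (hns _)
    rw [h1, map_mul, map_mul, map_inv]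
    simp
  haveI : (R : Subgroup (F.autGroup S)).Normal := by rw [hR]; infer_instance
  refine ⟨(R : Subgroup (F.autGroup S)).index, ?_, fun γ hγ => ?_⟩
  · have := R.not_dvd_index
    exact (Nat.Prime.coprime_iff_not_dvd (Fact.out : p.Prime)).2 this |>.symm
  · have := Subgroup.pow_index_mem (R : Subgroup (F.autGroup S)) ⟨γ, hγ⟩
    have h2 : (⟨γ, hγ⟩ : F.autGroup S) ^ (R : Subgroup (F.autGroup S)).index ∈
        (autInducedBy S S).subgroupOf (F.autGroup S) := hR ▸ this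
    rw [Subgroup.mem_subgroupOf] at h2
    simpa using h2

/-- A complement `C` of `[S,S]` in `Z(S)` together with an automorphism in `Aut_F(S)` inverting
`[S,S]` and centralizing `C`. -/
def IsRefl (F : FusionSystem S) (C : Subgroup Ω) : Prop :=
  C ≤ centralizerIn S S ∧ (∀ z ∈ centralizerIn S S, ∃ l ∈ derS S, ∃ c ∈ C, z = l * c) ∧
  derS S ⊓ C = ⊥ ∧
  ∃ γ ∈ F.autGroup S, (∀ z : S, (z : Ω) ∈ derS S → ((γ z : S) : Ω) = (z : Ω)⁻¹) ∧
    ∀ z : S, (z : Ω) ∈ C → γ z = z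

variable {E : Subgroup Ω} {x : Ω}

/-- The subgroup `Z(S) ∩ g(Z(S))` of `E`, as a subgroup of `Ω`. -/
def cSub (d : XData S E x) (h : Ctx p S) (g : MulAut E) : Subgroup Ω :=
  (fixSub (d.uAut h) ⊓ fixSub (g * d.uAut h * g⁻¹)).map E.subtype

theorem mem_fixSub_conj_iff (d : XData S E x) (h : Ctx p S) (g : MulAut E) (e : E) :
    e ∈ fixSub (g * d.uAut h * g⁻¹) ↔ ((g⁻¹ e : E) : Ω) ∈ centralizerIn S S := by
  rw [fixSub_conj, ← d.mem_fixSub_uAut h]
  constructor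
  · rintro ⟨e', he', rfl⟩
    have : g⁻¹ (g.toMonoidHom e') = e' := by simp
    rw [this]
    exact he'
  · intro he
    exact ⟨g⁻¹ e, he, by simp⟩

theorem mem_cSub (d : XData S E x) (h : Ctx p S) (g : MulAut E) {y : Ω} :
    y ∈ cSub d h g ↔ ∃ hy : y ∈ E, y ∈ centralizerIn S S ∧
      ((g⁻¹ ⟨y, hy⟩ : E) : Ω) ∈ centralizerIn S S := by
  constructor
  · rintro ⟨e, ⟨he1, he2⟩, rfl⟩
    exact ⟨e.2, (d.mem_fixSub_uAut h e).1 he1, (mem_fixSub_conj_iff d h g e).1 he2⟩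
  · rintro ⟨hy, h1, h2⟩
    exact ⟨⟨y, hy⟩, ⟨(d.mem_fixSub_uAut h _).2 h1, (mem_fixSub_conj_iff d h g _).2 h2⟩, rfl⟩

/-- The complement attached to an essential subgroup carries a reflection. -/
theorem isRefl_of_essential (hS : IsPGroup p S) (h : Ctx p S) {F : FusionSystem S}
    (hF : F.IsSaturated p) (hE : F.IsEssential p E) (d : XData S E x)
    {g : MulAut E} (hg : g ∈ F.autGroup E) (hv : g * d.uAut h * g⁻¹ ∉ autInducedBy S E) :
    IsRefl F (cSub d h g) := by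
  have hES : E ≤ S := d.mid.le
  haveI hfinE : Finite E := finite_of_le S hES
  have hset := setup_of_essential hS h hF hE d hg hv
  have hc := d.hcE h
  have hder := d.derS_eq h
  refine ⟨?_, ?_, ?_, ?_⟩
  · rintro _ ⟨e, ⟨he1, -⟩, rfl⟩
    exact (d.mem_fixSub_uAut h e).1 he1
  · intro z hz
    have hzE : z ∈ E := d.mid.zle hz
    have h1 : (⟨z, hzE⟩ : E) ∈ fixSub (d.uAut h) := (d.mem_fixSub_uAut h _).2 hz
    rw [hset.fix_u_eq] at h1
    haveI := normal_of_comm hc (fixSub (d.uAut h) ⊓ fixSub (g * d.uAut h * g⁻¹))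
    obtain ⟨l', hl', c', hc', hlc⟩ := Subgroup.mem_sup_of_normal_right.1 h1
    refine ⟨(l' : Ω), ?_, (c' : Ω), ⟨c', hc', rfl⟩, ?_⟩
    · rw [hder]
      exact ⟨l', hl', rfl⟩
    · have := congrArg Subtype.val hlc
      exact this.symm
  · rw [eq_bot_iff]
    rintro y ⟨hy1, hy2⟩
    rw [Subgroup.mem_bot]
    have hy1' : y ∈ derS S := hy1
    rw [hder] at hy1'
    obtain ⟨l', hl', rfl⟩ := hy1'
    obtain ⟨c', hc', hcl⟩ := hy2
    have : c' = l' := Subtype.ext hcl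
    subst this
    have hmem : c' ∈ (movSub hc (d.uAut h) ⊔ movSub hc (g * d.uAut h * g⁻¹)) ⊓
        (fixSub (d.uAut h) ⊓ fixSub (g * d.uAut h * g⁻¹)) := ⟨le_sup_left (a := movSub hc (d.uAut h)) hl', hc'⟩
    rw [hset.inf_eq_bot, Subgroup.mem_bot] at hmem
    rw [hmem]
    rfl
  · obtain ⟨r, hr_mem, hrW, hrC⟩ := hset.exists_reflection
    have huA : d.uAut h ∈ F.autGroup E := autInducedBy_le_autGroup F hES (d.uAut_mem h)
    have hvA : g * d.uAut h * g⁻¹ ∈ F.autGroup E :=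
      Subgroup.mul_mem _ (Subgroup.mul_mem _ hg huA) (Subgroup.inv_mem _ hg)
    have hrA : r ∈ F.autGroup E := by
      have hle : Subgroup.closure ({d.uAut h, g * d.uAut h * g⁻¹} : Set (MulAut E)) ≤
          F.autGroup E := by
        rw [Subgroup.closure_le]
        rintro α (rfl | hα)
        · exact huA
        · rw [Set.mem_singleton_iff] at hα
          rw [hα]; exact hvA
      exact hle hr_mem
    have hf := isIso_of_mem_autGroup F hES hrA
    obtain ⟨hfc, -⟩ := fullyNormalized_props hS hF hE.2.1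
    have hrec := isReceptive_of_fullyCentralized hS hF hfc
    -- membership in `Lu` from membership of the value in `[S,S]`
    have hLu_of : ∀ y : E, (y : Ω) ∈ derS S → y ∈ movSub hc (d.uAut h) := by
      intro y hy
      rw [hder] at hy
      obtain ⟨y', hy', hyy'⟩ := hy
      have : y' = y := Subtype.ext hyy'
      rw [← this]; exact hy'
    obtain ⟨f', N', hf', hf'E⟩ := IsReceptive_extend hrec hf S (by
      intro s hs
      have hsN : s ∈ Subgroup.normalizer (E : Set Ω) := h.mid_le_normalizer d.mid hs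
      refine ⟨hs, hsN, s, hs, fun e he => ?_⟩
      have hse : s * e * s⁻¹ ∈ E := h.mid_conj_mem d.mid hs he
      rw [ext1_apply_mem _ hse, ext1_apply_mem _ he]
      show ((r ⟨s * e * s⁻¹, hse⟩ : E) : Ω) = s * ((r ⟨e, he⟩ : E) : Ω) * s⁻¹
      have hcomm := reflection_comm hc hset.sup_eq_top (τ := cAut E s hsN) hrW hrC ?_ ?_ ⟨e, he⟩
      · exact congrArg Subtype.val hcomm
      · intro w hw
        have h1 : w⁻¹ * cAut E s hsN w ∈ movSub hc (d.uAut h) := by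
          apply hLu_of
          have := comm_mem_derS (S := S) (S.inv_mem (hES w.2)) hs
          have e1 : ((w⁻¹ * cAut E s hsN w : E) : Ω) = (w : Ω)⁻¹ * s * ((w : Ω)⁻¹)⁻¹ * s⁻¹ := by
            show (w : Ω)⁻¹ * (s * w * s⁻¹) = _
            group
          rw [e1]; exact this
        have h2 : cAut E s hsN w = w * (w⁻¹ * cAut E s hsN w) := by group
        rw [h2]
        exact Subgroup.mul_mem _ hw (le_sup_left (a := movSub hc (d.uAut h)) h1)
      · intro c hcC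
        apply Subtype.ext
        show s * (c : Ω) * s⁻¹ = c
        have hcz : (c : Ω) ∈ centralizerIn S S := (d.mem_fixSub_uAut h c).1 hcC.1
        rw [zs_comm hcz hs, mul_inv_cancel_right])
    have hN'S : N' = S := by
      apply Subgroup.eq_of_le_of_card_ge hf'.le_right
      rw [hf'.card_eq]
    rw [hN'S] at hf'
    obtain ⟨γ, hγ, hγf⟩ := exists_mem_autGroup_of_isIso F hf'
    refine ⟨γ, hγ, fun z hz => ?_, fun z hz => ?_⟩
    · have hzE : (z : Ω) ∈ E := d.mid.zle (h.derS_le_zs hz)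
      rw [hγf, hf'E _ hzE z.2, ext1_apply_mem _ hzE]
      have := hrW ⟨z, hzE⟩ (le_sup_left (a := movSub hc (d.uAut h)) (hLu_of ⟨z, hzE⟩ hz))
      exact congrArg Subtype.val this
    · obtain ⟨c', hc', hcz⟩ := hz
      apply Subtype.ext
      have hzE : (z : Ω) ∈ E := by rw [← hcz]; exact c'.2
      rw [hγf, hf'E _ hzE z.2, ext1_apply_mem _ hzE]
      have h1 : (⟨(z : Ω), hzE⟩ : E) = c' := Subtype.ext hcz.symm
      rw [h1]
      have := hrC c' hc'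
      show ((r c' : E) : Ω) = z
      rw [this]
      exact hcz

/-- `[S,S]` has order `p`. -/
theorem XData.card_derS (d : XData S E x) (h : Ctx p S) : Nat.card (derS S) = p := by
  haveI hfinE : Finite E := finite_of_le S d.mid.le
  rw [d.derS_eq h, Subgroup.card_map_of_injective E.subtype_injective, card_movSub,
    d.index_fixSub_uAut h]

/-- Automorphisms of `S` preserve `Z(S)`. -/
theorem aut_zs_mem (β : MulAut S) {z : S} (hz : (z : Ω) ∈ centralizerIn S S) :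
    ((β z : S) : Ω) ∈ centralizerIn S S := by
  rw [← mem_center_iff_coe] at hz ⊢
  rw [Subgroup.mem_center_iff] at hz ⊢
  intro g
  have := hz (β⁻¹ g)
  have h2 := congrArg β this
  rw [map_mul, map_mul] at h2
  simpa using h2

/-- Automorphisms of `S` preserve `[S,S]`. -/
theorem aut_derS_mem (β : MulAut S) {z : S} (hz : (z : Ω) ∈ derS S) :
    ((β z : S) : Ω) ∈ derS S := by
  have key : ∀ y ∈ derS S, ∀ hy : y ∈ S, ((β ⟨y, hy⟩ : S) : Ω) ∈ derS S := by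
    intro y hy
    unfold derS at hy
    induction hy using Subgroup.closure_induction with
    | mem y hy =>
      obtain ⟨s, hs, t, ht, rfl⟩ := hy
      intro hyS
      have : (⟨s * t * s⁻¹ * t⁻¹, hyS⟩ : S) = ⟨s, hs⟩ * ⟨t, ht⟩ * ⟨s, hs⟩⁻¹ * ⟨t, ht⟩⁻¹ := rfl
      rw [this, map_mul, map_mul, map_mul, map_inv, map_inv]
      exact comm_mem_derS (β ⟨s, hs⟩).2 (β ⟨t, ht⟩).2
    | one =>
      intro _
      have : (⟨1, S.one_mem⟩ : S) = 1 := rfl
      rw [this, map_one]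
      exact Subgroup.one_mem _
    | mul a b ha hb iha ihb =>
      intro hab
      have haS : a ∈ S := derS_le S ha
      have hbS : b ∈ S := derS_le S hb
      have : (⟨a * b, hab⟩ : S) = ⟨a, haS⟩ * ⟨b, hbS⟩ := rfl
      rw [this, map_mul]
      exact Subgroup.mul_mem _ (iha haS) (ihb hbS)
    | inv a ha iha =>
      intro hainv
      have haS : a ∈ S := derS_le S ha
      have : (⟨a⁻¹, hainv⟩ : S) = ⟨a, haS⟩⁻¹ := rfl
      rw [this, map_inv]
      exact Subgroup.inv_mem _ (iha haS)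
  exact key z hz z.2

/-- Two complements carrying reflections coincide, for odd `p`. -/
theorem IsRefl.le_of_odd (hp2 : p ≠ 2) (hS : IsPGroup p S) {F : FusionSystem S}
    (hF : F.IsSaturated p) (hcard : Nat.card (derS S) = p) {C₁ C₂ : Subgroup Ω}
    (h1 : IsRefl F C₁) (h2 : IsRefl F C₂) : C₂ ≤ C₁ := by
  obtain ⟨n, hn, hpow⟩ := exists_pow_mem_inn hS hF
  obtain ⟨hC1Z, hdec1, -, γ₁, hγ₁, hinv1, hfix1⟩ := h1
  obtain ⟨hC2Z, -, -, γ₂, hγ₂, hinv2, hfix2⟩ := h2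
  intro c hc
  have hcZ := hC2Z hc
  obtain ⟨l, hl, c₁, hc₁, hclc⟩ := hdec1 c hcZ
  have hlS : l ∈ S := derS_le S hl
  have hc₁S : c₁ ∈ S := zs_le S (hC1Z hc₁)
  have hcS : c ∈ S := zs_le S hcZ
  -- the automorphism `γ = γ₁ γ₂`
  have hγl : (γ₁ * γ₂) ⟨l, hlS⟩ = ⟨l, hlS⟩ := by
    rw [MulAut.mul_apply]
    have e2 : γ₂ ⟨l, hlS⟩ = ⟨l, hlS⟩⁻¹ := Subtype.ext (hinv2 ⟨l, hlS⟩ hl)
    have e1 : γ₁ ⟨l, hlS⟩ = ⟨l, hlS⟩⁻¹ := Subtype.ext (hinv1 ⟨l, hlS⟩ hl)
    rw [e2, map_inv, e1, inv_inv]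
  have hγc : (γ₁ * γ₂) ⟨c, hcS⟩ = ⟨c, hcS⟩ * (⟨l, hlS⟩⁻¹ * ⟨l, hlS⟩⁻¹) := by
    rw [MulAut.mul_apply, hfix2 ⟨c, hcS⟩ hc]
    have e0 : (⟨c, hcS⟩ : S) = ⟨l, hlS⟩ * ⟨c₁, hc₁S⟩ := Subtype.ext hclc
    have e1 : γ₁ ⟨l, hlS⟩ = ⟨l, hlS⟩⁻¹ := Subtype.ext (hinv1 ⟨l, hlS⟩ hl)
    rw [e0, map_mul, e1, hfix1 ⟨c₁, hc₁S⟩ hc₁]
    apply Subtype.ext
    show l⁻¹ * c₁ = l * c₁ * (l⁻¹ * l⁻¹)
    have hcomm : l⁻¹ * c₁ = c₁ * l⁻¹ := (zs_comm (hC1Z hc₁) (S.inv_mem hlS))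
    symm
    calc l * c₁ * (l⁻¹ * l⁻¹) = l * (c₁ * l⁻¹) * l⁻¹ := by group
      _ = l * (l⁻¹ * c₁) * l⁻¹ := by rw [hcomm]
      _ = c₁ * l⁻¹ := by group
      _ = l⁻¹ * c₁ := hcomm.symm
  have hγm : (γ₁ * γ₂) (⟨l, hlS⟩⁻¹ * ⟨l, hlS⟩⁻¹) = ⟨l, hlS⟩⁻¹ * ⟨l, hlS⟩⁻¹ := by
    rw [map_mul, map_inv, hγl]
  have hiter : ∀ k : ℕ, ((γ₁ * γ₂) ^ k) ⟨c, hcS⟩ =
      ⟨c, hcS⟩ * (⟨l, hlS⟩⁻¹ * ⟨l, hlS⟩⁻¹) ^ k := by
    intro k
    induction k with
    | zero => simp
    | succ k ih =>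
      rw [pow_succ', MulAut.mul_apply, ih, map_mul, map_pow, hγm, hγc, pow_succ', mul_assoc]
  have hγn := hpow _ (Subgroup.mul_mem _ hγ₁ hγ₂)
  obtain ⟨s, hs, hγs⟩ := (mem_autInducedBy_iff S S _).1 hγn
  have hfixc : ((γ₁ * γ₂) ^ n) ⟨c, hcS⟩ = ⟨c, hcS⟩ := by
    apply Subtype.ext
    rw [hγs]
    show s * c * s⁻¹ = c
    rw [zs_comm hcZ hs, mul_inv_cancel_right]
  rw [hiter n] at hfixc
  have hmn : (⟨l, hlS⟩⁻¹ * ⟨l, hlS⟩⁻¹ : S) ^ n = 1 := by
    have := mul_left_cancel (a := (⟨c, hcS⟩ : S)) (b := (⟨l, hlS⟩⁻¹ * ⟨l, hlS⟩⁻¹ : S) ^ n)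
      (c := 1) (by rw [mul_one]; exact hfixc)
    exact this
  -- `l ^ p = 1`
  have hfinD : Finite (derS S) := finite_of_le S (derS_le S)
  have hlp : l ^ p = 1 := by
    have : (⟨l, hl⟩ : derS S) ^ Nat.card (derS S) = 1 := pow_card_eq_one'
    rw [hcard] at this
    exact congrArg Subtype.val this
  have hmp : (⟨l, hlS⟩⁻¹ * ⟨l, hlS⟩⁻¹ : S) ^ p = 1 := by
    apply Subtype.ext
    show (l⁻¹ * l⁻¹) ^ p = 1
    rw [← sq, ← pow_mul, mul_comm, pow_mul, inv_pow, hlp]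
    simp
  have hm1 : (⟨l, hlS⟩⁻¹ * ⟨l, hlS⟩⁻¹ : S) = 1 := by
    have h1 := orderOf_dvd_of_pow_eq_one hmn
    have h2 := orderOf_dvd_of_pow_eq_one hmp
    have h3 := Nat.dvd_gcd h1 h2
    rw [Nat.Coprime] at hn
    rw [hn, Nat.dvd_one] at h3
    exact orderOf_eq_one_iff.1 h3
  have hl2 : l ^ 2 = 1 := by
    have := congrArg Subtype.val hm1
    have h4 : l⁻¹ * l⁻¹ = 1 := this
    rw [← sq, inv_pow, inv_eq_one] at h4
    exact h4
  have hl1 : l = 1 := by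
    have h1 := orderOf_dvd_of_pow_eq_one hl2
    have h2 := orderOf_dvd_of_pow_eq_one hlp
    have h3 := Nat.dvd_gcd h1 h2
    have hcop : Nat.gcd 2 p = 1 := by
      have hpp : p.Prime := Fact.out
      rw [Nat.gcd_comm]
      exact (Nat.Prime.coprime_iff_not_dvd hpp).2 (fun hd =>
        hp2 ((Nat.prime_dvd_prime_iff_eq hpp Nat.prime_two).1 hd))
    rw [hcop, Nat.dvd_one] at h3
    exact orderOf_eq_one_iff.1 h3
  rw [hclc, hl1, one_mul]
  exact hc₁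

/-- The image of a subgroup of `S` under an automorphism of `S`, as a subgroup of `Ω`. -/
def imgAut (β : MulAut S) (C : Subgroup Ω) : Subgroup Ω :=
  ((C.subgroupOf S).map β.toMonoidHom).map S.subtype

theorem mem_imgAut {β : MulAut S} {C : Subgroup Ω} {y : Ω} :
    y ∈ imgAut β C ↔ ∃ c : S, (c : Ω) ∈ C ∧ ((β c : S) : Ω) = y := by
  constructor
  · rintro ⟨_, ⟨c, hc, rfl⟩, rfl⟩
    exact ⟨c, Subgroup.mem_subgroupOf.1 hc, rfl⟩
  · rintro ⟨c, hc, rfl⟩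
    exact ⟨β c, ⟨c, Subgroup.mem_subgroupOf.2 hc, rfl⟩, rfl⟩

/-- The image of a complement carrying a reflection under an element of `Aut_F(S)` is again such a
complement. -/
theorem IsRefl.map {F : FusionSystem S} {C : Subgroup Ω} (h1 : IsRefl F C) {β : MulAut S}
    (hβ : β ∈ F.autGroup S) : IsRefl F (imgAut β C) := by
  obtain ⟨hCZ, hdec, hdis, γ, hγ, hinv, hfix⟩ := h1
  refine ⟨?_, ?_, ?_, β * γ * β⁻¹, ?_, ?_, ?_⟩
  · intro y hy
    obtain ⟨c, hc, rfl⟩ := mem_imgAut.1 hy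
    exact aut_zs_mem β (hCZ hc)
  · intro z hz
    have hzS : z ∈ S := zs_le S hz
    have h2 : ((β⁻¹ ⟨z, hzS⟩ : S) : Ω) ∈ centralizerIn S S := aut_zs_mem β⁻¹ hz
    obtain ⟨l, hl, c, hc, hlc⟩ := hdec _ h2
    have hlS : l ∈ S := derS_le S hl
    have hcS : c ∈ S := zs_le S (hCZ hc)
    refine ⟨((β ⟨l, hlS⟩ : S) : Ω), aut_derS_mem β hl, ((β ⟨c, hcS⟩ : S) : Ω),
      mem_imgAut.2 ⟨⟨c, hcS⟩, hc, rfl⟩, ?_⟩
    have h3 : β⁻¹ ⟨z, hzS⟩ = ⟨l, hlS⟩ * ⟨c, hcS⟩ := Subtype.ext hlc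
    have h4 := congrArg β h3
    rw [map_mul] at h4
    have h5 : β (β⁻¹ ⟨z, hzS⟩) = ⟨z, hzS⟩ := by simp
    rw [h5] at h4
    exact congrArg Subtype.val h4
  · rw [eq_bot_iff]
    rintro y ⟨hy1, hy2⟩
    rw [Subgroup.mem_bot]
    obtain ⟨c, hc, rfl⟩ := mem_imgAut.1 hy2
    have h2 : ((β⁻¹ (β c) : S) : Ω) ∈ derS S := aut_derS_mem β⁻¹ hy1
    have h3 : β⁻¹ (β c) = c := by simp
    rw [h3] at h2
    have h4 : (c : Ω) ∈ derS S ⊓ C := ⟨h2, hc⟩
    rw [hdis, Subgroup.mem_bot] at h4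
    have h5 : c = 1 := Subtype.ext h4
    rw [h5, map_one]
    rfl
  · exact Subgroup.mul_mem _ (Subgroup.mul_mem _ hβ hγ) (Subgroup.inv_mem _ hβ)
  · intro z hz
    show ((β (γ (β⁻¹ z)) : S) : Ω) = (z : Ω)⁻¹
    have h2 : ((β⁻¹ z : S) : Ω) ∈ derS S := aut_derS_mem β⁻¹ hz
    have h3 : γ (β⁻¹ z) = (β⁻¹ z)⁻¹ := Subtype.ext (hinv _ h2)
    rw [h3, map_inv]
    simp
  · intro z hz
    obtain ⟨c, hc, hcz⟩ := mem_imgAut.1 hz
    have h2 : z = β c := Subtype.ext hcz.symm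
    show β (γ (β⁻¹ z)) = z
    rw [h2]
    have h3 : β⁻¹ (β c) = c := by simp
    rw [h3, hfix c hc]

/-- Conjugation by `a` maps the finite subgroup `H` onto itself as soon as it maps `H` into `H`. -/
theorem conj_inv_mem_of_finite {G : Type*} [Group G] (H : Subgroup G) [Finite H] (a : G)
    (hmaps : ∀ k ∈ H, a * k * a⁻¹ ∈ H) : ∀ k ∈ H, a⁻¹ * k * a ∈ H := by
  let c : H → H := fun k => ⟨a * k * a⁻¹, hmaps k k.2⟩
  have hcinj : Function.Injective c := by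
    intro k k' hkk'
    have h2 : a * (k : G) * a⁻¹ = a * (k' : G) * a⁻¹ := congrArg Subtype.val hkk'
    exact Subtype.ext (mul_left_cancel (mul_right_cancel h2))
  have hcsurj : Function.Surjective c := Finite.injective_iff_surjective.1 hcinj
  intro k hk
  obtain ⟨k', hk'⟩ := hcsurj ⟨k, hk⟩
  have h2 : a * (k' : G) * a⁻¹ = k := congrArg Subtype.val hk'
  rw [← h2]
  have : a⁻¹ * (a * (k' : G) * a⁻¹) * a = k' := by group
  rw [this]
  exact k'.2

/-- If `a u a⁻¹ ∈ ⟨u⟩` then `a` normalizes `⟨u⟩`. -/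
theorem conj_zpowers_mem {G : Type*} [Group G] {a u : G} (h : a * u * a⁻¹ ∈ Subgroup.zpowers u) :
    ∀ k ∈ Subgroup.zpowers u, a * k * a⁻¹ ∈ Subgroup.zpowers u := by
  rintro _ ⟨i, rfl⟩
  show a * u ^ i * a⁻¹ ∈ Subgroup.zpowers u
  rw [← conj_zpow]
  exact Subgroup.zpow_mem _ h i

/-- Invariance of the complement under `Aut_F(T)` for an essential subgroup `T`. -/
theorem IsRefl.aut_mem_of_essential (hp2 : p ≠ 2) (hS : IsPGroup p S) (h : Ctx p S)
    {F : FusionSystem S} (hF : F.IsSaturated p) {C : Subgroup Ω} (hC : IsRefl F C)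
    {T : Subgroup Ω} (hT : F.IsEssential p T) {α : MulAut T} (hα : α ∈ F.autGroup T)
    (c : T) (hc : (c : Ω) ∈ C) : ((α c : T) : Ω) ∈ C := by
  obtain ⟨x, d, -, -, -⟩ := exists_xdata hS h hF hT
  have hTS : T ≤ S := d.mid.le
  haveI hfinT : Finite T := finite_of_le S hTS
  have hcard := d.card_derS h
  by_cases hcase : α * d.uAut h * α⁻¹ ∈ autInducedBy S T
  · -- `α` normalizes `Aut_S(T)` and extends to `S`
    have hzp : α * d.uAut h * α⁻¹ ∈ Subgroup.zpowers (d.uAut h) :=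
      d.autInducedBy_le_zpowers h hcase
    have hnorm := conj_zpowers_mem hzp
    have hf := isIso_of_mem_autGroup F hTS hα
    obtain ⟨hfc, -⟩ := fullyNormalized_props hS hF hT.2.1
    have hrec := isReceptive_of_fullyCentralized hS hF hfc
    obtain ⟨f', N', hf', hf'T⟩ := IsReceptive_extend hrec hf S (by
      intro s hs
      have hsN : s ∈ Subgroup.normalizer (T : Set Ω) := h.mid_le_normalizer d.mid hs
      have h1 : cAut T s hsN ∈ Subgroup.zpowers (d.uAut h) :=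
        d.autInducedBy_le_zpowers h (cAut_mem_autInducedBy hs hsN)
      have h2 : α * cAut T s hsN * α⁻¹ ∈ autInducedBy S T := by
        obtain ⟨i, hi⟩ := h1
        have hi' : d.uAut h ^ i = cAut T s hsN := hi
        rw [← hi', ← conj_zpow]
        exact Subgroup.zpow_mem _ hcase i
      obtain ⟨s', hs', hs'α⟩ := (mem_autInducedBy_iff S T _).1 h2
      refine ⟨hs, hsN, s', hs', fun e he => ?_⟩
      have hse : s * e * s⁻¹ ∈ T := h.mid_conj_mem d.mid hs he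
      rw [ext1_apply_mem _ hse, ext1_apply_mem _ he]
      show ((α ⟨s * e * s⁻¹, hse⟩ : T) : Ω) = s' * ((α ⟨e, he⟩ : T) : Ω) * s'⁻¹
      have h3 := hs'α (α ⟨e, he⟩)
      rw [← h3]
      show _ = ((α (cAut T s hsN (α⁻¹ (α ⟨e, he⟩))) : T) : Ω)
      have h4 : α⁻¹ (α ⟨e, he⟩) = ⟨e, he⟩ := by simp
      rw [h4]
      rfl)
    have hN'S : N' = S := by
      apply Subgroup.eq_of_le_of_card_ge hf'.le_right
      rw [hf'.card_eq]
    rw [hN'S] at hf'
    obtain ⟨γ, hγ, hγf⟩ := exists_mem_autGroup_of_isIso F hf'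
    have hcS : (c : Ω) ∈ S := hTS c.2
    have h1 : (((γ ⟨c, hcS⟩ : S) : Ω)) ∈ imgAut γ C := mem_imgAut.2 ⟨⟨c, hcS⟩, hc, rfl⟩
    have h2 := IsRefl.le_of_odd hp2 hS hF hcard hC (hC.map hγ) h1
    rw [hγf, hf'T _ c.2 hcS, ext1_apply_mem _ c.2] at h2
    exact h2
  · -- `α` moves `Aut_S(T)`
    have hcase' : α⁻¹ * d.uAut h * α⁻¹⁻¹ ∉ autInducedBy S T := by
      intro hin
      apply hcase
      have hzp : α⁻¹ * d.uAut h * α⁻¹⁻¹ ∈ Subgroup.zpowers (d.uAut h) :=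
        d.autInducedBy_le_zpowers h hin
      have hnorm := conj_zpowers_mem hzp
      haveI : Finite (Subgroup.zpowers (d.uAut h)) := inferInstance
      have := conj_inv_mem_of_finite (Subgroup.zpowers (d.uAut h)) α⁻¹ hnorm (d.uAut h)
        (Subgroup.mem_zpowers _)
      rw [inv_inv] at this
      exact (Subgroup.zpowers_le.2 (d.uAut_mem h)) this
    have hR1 := isRefl_of_essential hS h hF hT d hα hcase
    have hR2 := isRefl_of_essential hS h hF hT d (Subgroup.inv_mem _ hα) hcase'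
    have hle1 : cSub d h α ≤ C := IsRefl.le_of_odd hp2 hS hF hcard hC hR1
    have hle2 : C ≤ cSub d h α⁻¹ := IsRefl.le_of_odd hp2 hS hF hcard hR2 hC
    obtain ⟨hcT, hcZ, hαc⟩ := (mem_cSub d h α⁻¹).1 (hle2 hc)
    rw [inv_inv] at hαc
    apply hle1
    rw [mem_cSub]
    refine ⟨(α c).2, hαc, ?_⟩
    have : α⁻¹ ⟨((α c : T) : Ω), (α c).2⟩ = c := by simp
    rw [this]
    exact hcZ

/-- For odd `p`: if the system has no nontrivial normal subgroup and has an essential subgroup, then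
`Z(S) = [S,S]`. -/
theorem zs_eq_derS_of_odd (hp2 : p ≠ 2) (hS : IsPGroup p S) (h : Ctx p S) {F : FusionSystem S}
    (hF : F.IsSaturated p) (hcore : F.core = ⊥) {E : Subgroup Ω} (hE : F.IsEssential p E) :
    centralizerIn S S = derS S := by
  obtain ⟨x, d, g, hg, hv⟩ := exists_xdata hS h hF hE
  have hC := isRefl_of_essential hS h hF hE d hg hv
  have hcard := d.card_derS h
  have hnormal : F.IsNormal (cSub d h g) := by
    apply isNormal_of_essential hS hF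
    rintro T (rfl | hT)
    · refine ⟨hC.1.trans (zs_le _), fun α hα y hy => ?_⟩
      have h1 : ((α y : T) : Ω) ∈ imgAut α (cSub d h g) := mem_imgAut.2 ⟨y, hy, rfl⟩
      exact IsRefl.le_of_odd hp2 hS hF hcard hC (hC.map hα) h1
    · refine ⟨hC.1.trans (mid_of_essential hS hF hT).zle, fun α hα y hy => ?_⟩
      exact hC.aut_mem_of_essential hp2 hS h hF hT hα y hy
  have hbot : cSub d h g = ⊥ := by
    rw [eq_bot_iff, ← hcore]
    exact le_sSup hnormal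
  apply le_antisymm
  · intro z hz
    obtain ⟨l, hl, c, hc, hlc⟩ := hC.2.1 z hz
    rw [hbot, Subgroup.mem_bot] at hc
    rw [hlc, hc, mul_one]
    exact hl
  · exact h.derS_le_zs

end Cfsg.Agent.Lib.H26.SmallCenter
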