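import Mathlib
import Cfsg.Prelude.Def_FusionSystem
import Cfsg.Prelude.Def_Transfer
import Cfsg.Agent.Lib.H16.ClassTwo
import Cfsg.Agent.Lib.H27.Extraspecial
import Cfsg.Agent.Lib.H26.SmallCenterRefl

set_option autoImplicit false

/-!
Assembly lemmas for a saturated fusion system on a `p`-group `S` with `|S : Z(S)| ≤ p²`
(helper26): existence of essential subgroups, the standing context, extraspeciality once
`Z(S) = [S,S]`, and the exponent for odd `p`.
-/

namespace Cfsg.Agent.Lib.H26.SmallCenter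

open Cfsg Cfsg.FusionSystem Cfsg.Agent.Lib.H25 Cfsg.Agent.Lib.H26.TransvPair
open scoped commutatorElement

variable {Ω : Type*} [Group Ω] {S : Subgroup Ω} {p : ℕ} [Fact p.Prime] [Finite S]

/-- A core-free saturated system on a nontrivial group has an essential subgroup. -/
theorem exists_essential (hS : IsPGroup p S) {F : FusionSystem S} (hF : F.IsSaturated p)
    (hS1 : S ≠ ⊥) (hcore : F.core = ⊥) : ∃ E : Subgroup Ω, F.IsEssential p E := by
  by_contra hno
  push Not at hno
  have hn : F.IsNormal S := isNormal_of_essential hS hF (fun T hT => by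
    rcases hT with rfl | hT
    · exact ⟨le_rfl, fun α _ x _ => (α x).2⟩
    · exact absurd hT (hno T))
  apply hS1
  rw [eq_bot_iff, ← hcore]
  exact le_sSup hn

/-- The standing context. -/
theorem ctx_of_essential (hS : IsPGroup p S) {F : FusionSystem S} (hF : F.IsSaturated p)
    (hZ : (Subgroup.center ↥S).index ≤ p ^ 2) {E : Subgroup Ω} (hE : F.IsEssential p E) :
    Ctx p S := by
  have hmid := mid_of_essential hS hF hE
  have hpp : p.Prime := Fact.out
  refine ⟨hS, ?_⟩
  obtain ⟨k, hk⟩ := hS.index (Subgroup.center ↥S)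
  have hk2 : k ≤ 2 := by
    rw [hk] at hZ
    exact (Nat.pow_le_pow_iff_right hpp.one_lt).1 hZ
  have hfinE : Finite E := finite_of_le S hmid.le
  have hfinZ : Finite (centralizerIn S S) := finite_of_le S (zs_le S)
  have hcardS : Nat.card S = p ^ k * Nat.card (centralizerIn S S) := by
    rw [← card_center_eq, ← hk]
    exact (Subgroup.index_mul_card _).symm
  obtain ⟨m, hm⟩ := Subgroup.card_dvd_of_le hmid.zle
  obtain ⟨l, hl⟩ := Subgroup.card_dvd_of_le hmid.le
  have hZpos : 0 < Nat.card (centralizerIn S S) := Nat.card_pos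
  have hml : m * l = p ^ k := by
    have h2 : Nat.card (centralizerIn S S) * (m * l) = Nat.card (centralizerIn S S) * p ^ k := by
      rw [← mul_assoc, ← hm, ← hl, hcardS, mul_comm]
    exact Nat.eq_of_mul_eq_mul_left hZpos h2
  have hm1 : m ≠ 1 := by
    intro h1
    apply hmid.not_le
    have : Nat.card E ≤ Nat.card (centralizerIn S S) := by rw [hm, h1, mul_one]
    exact (Subgroup.eq_of_le_of_card_ge hmid.zle this).ge
  have hl1 : l ≠ 1 := by
    intro h1
    apply hmid.ne_top
    have : Nat.card S ≤ Nat.card E := by rw [hl, h1, mul_one]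
    exact Subgroup.eq_of_le_of_card_ge hmid.le this
  rw [hk]
  congr 1
  interval_cases k
  · exfalso
    rw [pow_zero] at hml
    exact hm1 (Nat.eq_one_of_mul_eq_one_right hml)
  · exfalso
    rw [pow_one] at hml
    have hmd : m ∣ p := ⟨l, hml.symm⟩
    rcases (Nat.dvd_prime hpp).1 hmd with h1 | h1
    · exact hm1 h1
    · apply hl1
      rw [h1] at hml
      have : p * l = p * 1 := by rw [hml, mul_one]
      exact Nat.eq_of_mul_eq_mul_left hpp.pos this
  · rfl

/-- The derived subgroup of `↥S`, mapped into `Ω`. -/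
theorem commutator_map_eq (S : Subgroup Ω) : (commutator ↥S).map S.subtype = derS S := by
  rw [commutator_eq_closure, MonoidHom.map_closure]
  unfold derS
  congr 1
  ext y
  constructor
  · rintro ⟨_, ⟨s, t, rfl⟩, rfl⟩
    exact ⟨s, s.2, t, t.2, rfl⟩
  · rintro ⟨s, hs, t, ht, rfl⟩
    exact ⟨⁅(⟨s, hs⟩ : S), ⟨t, ht⟩⁆, ⟨_, _, rfl⟩, rfl⟩

/-- `|S| = p³` once `Z(S) = [S,S]` has order `p`. -/
theorem card_eq_cube (h : Ctx p S) (hz : centralizerIn S S = derS S)
    (hcard : Nat.card (derS S) = p) : Nat.card S = p ^ 3 := by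
  rw [h.card_eq, hz, hcard]
  ring

/-- `p`-th powers are central. -/
theorem pow_mem_zs (h : Ctx p S) (hcard : Nat.card (derS S) = p) {x : Ω} (hx : x ∈ S) :
    x ^ p ∈ centralizerIn S S := by
  rw [centralizerIn, Subgroup.mem_inf, Subgroup.mem_centralizer_iff]
  refine ⟨S.pow_mem hx p, fun g hg => ?_⟩
  have hfinD : Finite (derS S) := finite_of_le S (derS_le S)
  obtain ⟨c, hc⟩ : ∃ c : Ω, c = x⁻¹ * g⁻¹ * x⁻¹⁻¹ * g⁻¹⁻¹ := ⟨_, rfl⟩
  have hcD : c ∈ derS S := hc ▸ comm_mem_derS (S.inv_mem hx) (S.inv_mem hg)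
  have hcZ : c ∈ centralizerIn S S := h.derS_le_zs hcD
  have hcp : c ^ p = 1 := by
    have : (⟨c, hcD⟩ : derS S) ^ Nat.card (derS S) = 1 := pow_card_eq_one'
    rw [hcard] at this
    exact congrArg Subtype.val this
  have hxg : x * g = g * x * c := by rw [hc]; group
  have hcx : Commute c x := (zs_comm hcZ hx).symm
  have := Cfsg.Agent.Lib.H16.pow_mul_comm_of_central hxg hcx p
  rw [hcp, mul_one] at this
  exact this.symm

/-- `S` is extraspecial once `Z(S) = [S,S]` has order `p`. -/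
theorem isExtraspecial_of_zs_eq (hS : IsPGroup p S) (h : Ctx p S)
    (hz : centralizerIn S S = derS S) (hcard : Nat.card (derS S) = p) :
    IsExtraspecial p ↥S := by
  apply Cfsg.Agent.Lib.H27.isExtraspecial_of_center p hS
  · rw [card_center_eq, hz, hcard]
  · apply Subgroup.map_injective S.subtype_injective
    rw [commutator_map_eq, center_map_eq, hz]
  · intro x
    rw [mem_center_iff_coe]
    exact pow_mem_zs h hcard x.2

/-- If a subgroup `E` strictly between `Z(S)` and `S` and an element outside it have exponent `p`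
(`p` odd), then so has `S`. -/
theorem pow_eq_one_of_mid (hp2 : p ≠ 2) (h : Ctx p S) {E : Subgroup Ω} (hE : Ctx.Mid S E)
    (hEp : ∀ e ∈ E, e ^ p = 1) {x : Ω} (hxS : x ∈ S) (hxE : x ∉ E) (hxp : x ^ p = 1) :
    ∀ s ∈ S, s ^ p = 1 := by
  intro s hs
  obtain ⟨e, he, j, rfl⟩ := h.mid_decomp hE hxS hxE hs
  have hodd : Odd p := (Fact.out : p.Prime).odd_of_ne_two hp2
  obtain ⟨y, hy⟩ : ∃ y : Ω, y = x ^ j := ⟨_, rfl⟩
  rw [← hy]
  have hyS : y ∈ S := hy ▸ S.pow_mem hxS j
  have hyp : y ^ p = 1 := by rw [hy, ← pow_mul, mul_comm, pow_mul, hxp, one_pow]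
  obtain ⟨c, hc⟩ : ∃ c : Ω, c = y⁻¹ * e⁻¹ * y⁻¹⁻¹ * e⁻¹⁻¹ := ⟨_, rfl⟩
  have hcZ : c ∈ centralizerIn S S := hc ▸ h.comm_mem (S.inv_mem hyS) (S.inv_mem (hE.le he))
  have hye : y * e = e * y * c := by rw [hc]; group
  exact Cfsg.Agent.Lib.H16.mul_pow_eq_one_of_central hye (zs_comm hcZ (hE.le he)).symm
    (zs_comm hcZ hyS).symm hodd (hEp e he) hyp

/-- Restriction of an element of `Aut_F(S)` to an invariant subgroup. -/
theorem exists_restrict_aut {F : FusionSystem S} {E : Subgroup Ω} (hES : E ≤ S) {β : MulAut S}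
    (hβ : β ∈ F.autGroup S) (hinv : ∀ e : S, (e : Ω) ∈ E → ((β e : S) : Ω) ∈ E) :
    ∃ α ∈ F.autGroup E, ∀ e : E, ((α e : E) : Ω) = ((β ⟨e, hES e.2⟩ : S) : Ω) := by
  have hfinE : Finite E := finite_of_le S hES
  have hf := isIso_of_mem_autGroup F le_rfl hβ
  have hfx : ∀ x (hx : x ∈ S), ext1 (S.subtype.comp β.toMonoidHom) x = ((β ⟨x, hx⟩ : S) : Ω) :=
    fun x hx => ext1_apply_mem _ hx
  let c : E → E := fun e => ⟨((β ⟨e, hES e.2⟩ : S) : Ω), hinv _ e.2⟩
  have hcinj : Function.Injective c := by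
    intro a b hab
    have h0 : ((c a : E) : Ω) = ((c b : E) : Ω) := congrArg Subtype.val hab
    have h1 : ((β ⟨a, hES a.2⟩ : S) : Ω) = ((β ⟨b, hES b.2⟩ : S) : Ω) := h0
    have h2 : (⟨(a : Ω), hES a.2⟩ : S) = ⟨(b : Ω), hES b.2⟩ := β.injective (Subtype.ext h1)
    have h3 : (a : Ω) = (b : Ω) := Subtype.mk.inj h2
    exact Subtype.ext h3
  have hcsurj : Function.Surjective c := Finite.injective_iff_surjective.1 hcinj
  have hf' : IsIso F E E (ext1 (S.subtype.comp β.toMonoidHom)) := by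
    apply hf.restrict' hES
    · intro x hx
      rw [hfx x (hES hx)]
      exact hinv _ hx
    · intro y hy
      obtain ⟨e, he⟩ := hcsurj ⟨y, hy⟩
      refine ⟨e, e.2, ?_⟩
      rw [hfx _ (hES e.2)]
      exact congrArg Subtype.val he
  obtain ⟨α, hα, hαf⟩ := exists_mem_autGroup_of_isIso F hf'
  exact ⟨α, hα, fun e => by rw [hαf, hfx _ (hES e.2)]⟩

/-- For odd `p`, the exponent of `S` is `p`. -/
theorem pow_eq_one_of_odd (hp2 : p ≠ 2) (hS : IsPGroup p S) (h : Ctx p S) {F : FusionSystem S}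
    (hF : F.IsSaturated p) (hcore : F.core = ⊥) (hz : centralizerIn S S = derS S)
    {E : Subgroup Ω} (hE : F.IsEssential p E) : ∀ s ∈ S, s ^ p = 1 := by
  -- every essential subgroup has exponent `p`
  have hexp : ∀ T : Subgroup Ω, F.IsEssential p T → ∀ t ∈ T, t ^ p = 1 := by
    intro T hT
    obtain ⟨x, d, g, hg, hv⟩ := exists_xdata hS h hF hT
    have hfinT : Finite T := finite_of_le S d.mid.le
    have hset := setup_of_essential hS h hF hT d hg hv
    have hC := isRefl_of_essential hS h hF hT d hg hv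
    have hCbot : cSub d h g = ⊥ := by
      rw [eq_bot_iff, ← hC.2.2.1]
      intro y hy
      exact ⟨hz ▸ hC.1 hy, hy⟩
    have hfix : fixSub (d.uAut h) ⊓ fixSub (g * d.uAut h * g⁻¹) = ⊥ := by
      rw [eq_bot_iff]
      intro e he
      have : (e : Ω) ∈ cSub d h g := ⟨e, he, rfl⟩
      rw [hCbot, Subgroup.mem_bot] at this
      rw [Subgroup.mem_bot]
      exact Subtype.ext this
    have htop := hset.sup_eq_top
    rw [hfix, sup_bot_eq] at htop
    have hpowL : ∀ (L : Subgroup T), Nat.card L = p → ∀ y ∈ L, y ^ p = 1 := by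
      intro L hL y hy
      have : (⟨y, hy⟩ : L) ^ Nat.card L = 1 := pow_card_eq_one'
      rw [hL] at this
      exact congrArg Subtype.val this
    intro t ht
    have hmem : (⟨t, ht⟩ : T) ∈ movSub (d.hcE h) (d.uAut h) ⊔
        movSub (d.hcE h) (g * d.uAut h * g⁻¹) := by rw [htop]; exact Subgroup.mem_top _
    obtain ⟨a, ha, b, hb, hab⟩ := hset.mem_sup.1 hmem
    have h1 : (⟨t, ht⟩ : T) ^ p = 1 := by
      rw [← hab, (Commute.mul_pow (d.hcE h a b) p), hpowL _ hset.cardLu a ha,
        hpowL _ hset.cardLv b hb, one_mul]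
    exact congrArg Subtype.val h1
  by_contra hcon
  push Not at hcon
  obtain ⟨s₀, hs₀, hs₀p⟩ := hcon
  have hmidE := mid_of_essential hS hF hE
  -- every element of order dividing `p` lies in `E`
  have hin : ∀ x ∈ S, x ^ p = 1 → x ∈ E := by
    intro x hx hxp
    by_contra hxE
    exact hs₀p (pow_eq_one_of_mid hp2 h hmidE (hexp E hE) hx hxE hxp s₀ hs₀)
  have huniq : ∀ T : Subgroup Ω, F.IsEssential p T → T = E := by
    intro T hT
    have hmidT := mid_of_essential hS hF hT
    have hTE : T ≤ E := fun t ht => hin t (hmidT.le ht) (hexp T hT t ht)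
    have hfinE : Finite E := finite_of_le S hmidE.le
    obtain ⟨hT1, hT2⟩ := h.card_mid hmidT.zle hmidT.le hmidT.ne_top hmidT.not_le
    obtain ⟨hE1, hE2⟩ := h.card_mid hmidE.zle hmidE.le hmidE.ne_top hmidE.not_le
    exact Subgroup.eq_of_le_of_card_ge hTE (by rw [hT1, hE1])
  have hn : F.IsNormal E := isNormal_of_essential hS hF (fun T hT => by
    rcases hT with rfl | hT
    · refine ⟨hmidE.le, fun α _ x hx => ?_⟩
      apply hin _ (α x).2
      have h1 : (α x) ^ p = 1 := by
        rw [← map_pow]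
        have : x ^ p = 1 := Subtype.ext (hexp E hE x hx)
        rw [this, map_one]
      exact congrArg Subtype.val h1
    · have := huniq T hT
      subst this
      exact ⟨le_rfl, fun α _ x _ => (α x).2⟩)
  have hEbot : E ≤ ⊥ := by rw [← hcore]; exact le_sSup hn
  apply hmidE.not_le
  exact hEbot.trans bot_le

end Cfsg.Agent.Lib.H26.SmallCenter
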