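import Mathlib
import Cfsg.Agent.Lib.H26.ExtraEssD
import Cfsg.Agent.Lib.H26.SmallCenterOdd
import Cfsg.Agent.Lib.H26.SmallCenterRefl

set_option autoImplicit false

/-!
`Z(S) = Z(Q)` for a `p`-group `S` (`p` odd) with an extraspecial subgroup `Q` of index `p` carrying a
saturated fusion system without nontrivial normal subgroups (helper26).
-/

namespace Cfsg.Agent.Lib.H26.ExtraEss

open Cfsg Cfsg.FusionSystem Cfsg.Agent.Lib.H25 Cfsg.Agent.Lib.H26.SmallCenter

variable {Ω : Type*} [Group Ω] {S : Subgroup Ω}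

/-- In a finite `p`-subgroup, a proper inclusion of subgroups multiplies the order by at least
`p`. -/
theorem card_lt_of_lt_pgroup' {G : Type*} [Group G] {p : ℕ} [Fact p.Prime] {H K : Subgroup G}
    [Finite K] (hK : IsPGroup p K) (hlt : H < K) : p * Nat.card H ≤ Nat.card K := by
  have h1 : H.subgroupOf K < ⊤ := by
    rw [lt_top_iff_ne_top, Ne, Subgroup.subgroupOf_eq_top]
    exact fun h => hlt.ne (le_antisymm hlt.le h)
  have h2 := card_lt_of_lt_pgroup hK h1
  rw [Subgroup.card_top, Nat.card_congr (Subgroup.subgroupOfEquivOfLe hlt.le).toEquiv] at h2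
  exact h2

/-- The subgroup `Q ⟨c⟩` for an element `c` commuting with `Q`. -/
def mulZpowers (Q : Subgroup Ω) (c : Ω) (hc : ∀ q ∈ Q, c * q = q * c) : Subgroup Ω where
  carrier := {s | ∃ q ∈ Q, ∃ i : ℤ, s = q * c ^ i}
  one_mem' := ⟨1, Q.one_mem, 0, by simp⟩
  mul_mem' := by
    rintro _ _ ⟨q, hq, i, rfl⟩ ⟨q', hq', j, rfl⟩
    refine ⟨q * q', Q.mul_mem hq hq', i + j, ?_⟩
    have h1 : c ^ i * q' = q' * c ^ i := (Commute.zpow_left (hc q' hq') i).eq
    rw [zpow_add]
    calc q * c ^ i * (q' * c ^ j) = q * (c ^ i * q') * c ^ j := by group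
      _ = q * (q' * c ^ i) * c ^ j := by rw [h1]
      _ = q * q' * (c ^ i * c ^ j) := by group
  inv_mem' := by
    rintro _ ⟨q, hq, i, rfl⟩
    refine ⟨q⁻¹, Q.inv_mem hq, -i, ?_⟩
    have h1 : c ^ (-i) * q⁻¹ = q⁻¹ * c ^ (-i) :=
      (Commute.zpow_left (hc q⁻¹ (Q.inv_mem hq)) (-i)).eq
    rw [mul_inv_rev, ← zpow_neg, h1]

theorem center_eq_of_extraspecial_index_p [Finite S] {p : ℕ} [Fact p.Prime] (hp2 : p ≠ 2)
    (hS : IsPGroup p S) (Q : Subgroup Ω) (hQS : Q ≤ S) (hQ : Cfsg.IsExtraspecial p ↥Q)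
    (hQi : (Q.subgroupOf S).index = p) (F : FusionSystem S) (hF : F.IsSaturated p)
    (hO : F.core = ⊥) :
    S ⊓ Subgroup.centralizer (S : Set Ω) = Q ⊓ Subgroup.centralizer (Q : Set Ω) := by
  have hp1 : 1 < p := (Fact.out : p.Prime).one_lt
  have hpp : p.Prime := Fact.out
  have hfinQ : Finite Q := finite_of_le S hQS
  -- the centre `Z` of `Q`
  set Z : Subgroup Ω := (Subgroup.center ↥Q).map Q.subtype with hZdef
  have hZeq : Z = Q ⊓ Subgroup.centralizer (Q : Set Ω) := center_map_eq Q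
  have hZQ : Z ≤ Q := Subgroup.map_subtype_le _
  have hZcard : Nat.card Z = p := by
    rw [hZdef, Subgroup.card_map_of_injective Q.subtype_injective]
    exact hQ.2
  have hfinZ : Finite Z := finite_of_le S (hZQ.trans hQS)
  have hZc : ∀ z ∈ Z, ∀ x ∈ Q, z * x = x * z := by
    rintro _ ⟨z, hz, rfl⟩ x hx
    have := Subgroup.mem_center_iff.1 hz ⟨x, hx⟩
    exact (congrArg Subtype.val this).symm
  have hcommQ : ∀ a b : ↥Q, a * b * a⁻¹ * b⁻¹ ∈ Subgroup.center ↥Q := by
    intro a b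
    have h1 : a * b * a⁻¹ * b⁻¹ ∈ commutator ↥Q := by
      rw [commutator_def]
      exact Subgroup.commutator_mem_commutator (Subgroup.mem_top a) (Subgroup.mem_top b)
    rw [hQ.1.2.2] at h1
    exact h1
  have hcomm : ∀ x ∈ Q, ∀ y ∈ Q, x * y * x⁻¹ * y⁻¹ ∈ Z := by
    intro x hx y hy
    exact ⟨_, hcommQ ⟨x, hx⟩ ⟨y, hy⟩, rfl⟩
  have hcardS : Nat.card Q * p = Nat.card S := by
    have hcard : Nat.card (Q.subgroupOf S) * (Q.subgroupOf S).index = Nat.card S :=
      Subgroup.card_mul_index _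
    rw [hQi, Nat.card_congr (Subgroup.subgroupOfEquivOfLe hQS).toEquiv] at hcard
    exact hcard
  have hS1 : S ≠ ⊥ := by
    intro h
    have h1 : Z ≤ ⊥ := h ▸ (hZQ.trans hQS)
    have h2 : Z = ⊥ := le_bot_iff.1 h1
    rw [← Subgroup.card_eq_one, hZcard] at h2
    omega
  rw [← hZeq]
  by_contra hne
  -- an element of `Z(S)` outside `Q`
  obtain ⟨c, hcZS, hcQ⟩ : ∃ c ∈ centralizerIn S S, c ∉ Q := by
    by_contra hcon
    push_neg at hcon
    apply hne
    have hle : centralizerIn S S ≤ Z := by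
      intro x hx
      rw [hZeq]
      refine ⟨hcon x hx, ?_⟩
      show x ∈ Subgroup.centralizer (Q : Set Ω)
      rw [Subgroup.mem_centralizer_iff]
      intro q hq
      exact zs_comm hx (hQS hq)
    have hnt : Nontrivial ↥S := (Subgroup.nontrivial_iff_ne_bot S).2 hS1
    have hcnt : Nontrivial (Subgroup.center ↥S) := hS.center_nontrivial
    have hc1 : Nat.card (centralizerIn S S) ≠ 1 := by
      rw [← card_center_eq]
      have := Finite.one_lt_card (α := Subgroup.center ↥S)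
      omega
    have hdvd : Nat.card (centralizerIn S S) ∣ p := hZcard ▸ Subgroup.card_dvd_of_le hle
    rcases (Nat.dvd_prime hpp).1 hdvd with h1 | h1
    · exact absurd h1 hc1
    · exact Subgroup.eq_of_le_of_card_ge hle (le_of_eq (hZcard.trans h1.symm))
  have hcS : c ∈ S := hcZS.1
  have hcc : ∀ s ∈ S, c * s = s * c := fun s hs => (zs_comm hcZS hs).symm
  have hcci : ∀ (i : ℤ), ∀ s ∈ S, c ^ i * s = s * c ^ i := fun i s hs =>
    (Commute.zpow_left (hcc s hs) i).eq
  -- `S = Q ⟨c⟩`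
  have hdecomp : ∀ s ∈ S, ∃ q ∈ Q, ∃ i : ℤ, s = q * c ^ i := by
    set T : Subgroup Ω := mulZpowers Q c (fun q hq => hcc q (hQS hq)) with hT
    have hQT : Q ≤ T := fun q hq => ⟨q, hq, 0, by simp⟩
    have hTS : T ≤ S := by
      rintro _ ⟨q, hq, i, rfl⟩
      exact S.mul_mem (hQS hq) (S.zpow_mem hcS i)
    have hcT : c ∈ T := ⟨1, Q.one_mem, 1, by simp⟩
    have hlt : Q < T := lt_of_le_of_ne hQT (fun h => hcQ (h ▸ hcT))
    have hfinT : Finite T := finite_of_le S hTS
    have h1 := card_lt_of_lt_pgroup' (hS.to_le hTS) hlt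
    have h2 : T = S := Subgroup.eq_of_le_of_card_ge hTS (by rw [← hcardS, mul_comm]; exact h1)
    intro s hs
    have : s ∈ T := h2 ▸ hs
    exact this
  -- commutators of `S` lie in `Z`, and `Z` is central in `S`
  have hcommS : ∀ s ∈ S, ∀ t ∈ S, s * t * s⁻¹ * t⁻¹ ∈ Z := by
    intro s hs t ht
    obtain ⟨q, hq, i, rfl⟩ := hdecomp s hs
    obtain ⟨q', hq', j, rfl⟩ := hdecomp t ht
    have h1 := hcci i q' (hQS hq')
    have h2 := hcci j q⁻¹ (hQS (Q.inv_mem hq))
    have h3 := hcci i (c ^ j) (S.zpow_mem hcS j)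
    have e : q * c ^ i * (q' * c ^ j) * (q * c ^ i)⁻¹ * (q' * c ^ j)⁻¹ = q * q' * q⁻¹ * q'⁻¹ := by
      calc q * c ^ i * (q' * c ^ j) * (q * c ^ i)⁻¹ * (q' * c ^ j)⁻¹
          = q * (c ^ i * q') * c ^ j * (c ^ i)⁻¹ * q⁻¹ * (c ^ j)⁻¹ * q'⁻¹ := by group
        _ = q * (q' * c ^ i) * c ^ j * (c ^ i)⁻¹ * q⁻¹ * (c ^ j)⁻¹ * q'⁻¹ := by rw [h1]
        _ = q * q' * (c ^ i * c ^ j) * (c ^ i)⁻¹ * q⁻¹ * (c ^ j)⁻¹ * q'⁻¹ := by group
        _ = q * q' * (c ^ j * c ^ i) * (c ^ i)⁻¹ * q⁻¹ * (c ^ j)⁻¹ * q'⁻¹ := by rw [h3]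
        _ = q * q' * (c ^ j * q⁻¹) * (c ^ j)⁻¹ * q'⁻¹ := by group
        _ = q * q' * (q⁻¹ * c ^ j) * (c ^ j)⁻¹ * q'⁻¹ := by rw [h2]
        _ = q * q' * q⁻¹ * q'⁻¹ := by group
    rw [e]
    exact hcomm q hq q' hq'
  have hZcS : ∀ z ∈ Z, ∀ s ∈ S, z * s = s * z := by
    intro z hz s hs
    obtain ⟨q, hq, i, rfl⟩ := hdecomp s hs
    have h1 := hZc z hz q hq
    have h2 := hcci i z (hQS (hZQ hz))
    calc z * (q * c ^ i) = (z * q) * c ^ i := by group
      _ = q * (z * c ^ i) := by rw [h1]; group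
      _ = q * (c ^ i * z) := by rw [h2]
      _ = q * c ^ i * z := by group
  have hZZS : Z ≤ centralizerIn S S := by
    intro z hz
    refine ⟨hQS (hZQ hz), ?_⟩
    show z ∈ Subgroup.centralizer (S : Set Ω)
    rw [Subgroup.mem_centralizer_iff]
    intro s hs
    exact (hZcS z hz s hs).symm
  -- an essential subgroup
  obtain ⟨E, hE⟩ := exists_essential hS hF hS1 hO
  have hcen := hE.1
  have hES : E ≤ S := hcen.1
  have hCE : centralizerIn S E ≤ E := hcen.2 E (isConj_refl F hES)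
  have hZSE : centralizerIn S S ≤ E := by
    intro x hx
    apply hCE
    refine ⟨hx.1, ?_⟩
    show x ∈ Subgroup.centralizer (E : Set Ω)
    rw [Subgroup.mem_centralizer_iff]
    intro e he
    exact zs_comm hx (hES he)
  have hZE : Z ≤ E := hZZS.trans hZSE
  by_cases h4 : p ^ 4 ≤ Nat.card Q
  · -- large case: the transvection argument
    have hSE : S ≤ E := by
      apply le_essential_of_transv hS F hF Z S E hE le_rfl hZE hZcard hZcS
        (fun x hx e he => hcommS x hx e (hES he)) (fun e he f hf => hcommS e (hES he) f (hES hf))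
      intro hEab w hw
      obtain ⟨q, hq, i, rfl⟩ := hdecomp w (hES hw)
      have hab : ∀ a ∈ (E ⊓ Q).subgroupOf Q, ∀ b ∈ (E ⊓ Q).subgroupOf Q, a * b = b * a := by
        intro a ha b hb
        apply Subtype.ext
        exact hEab a ha.1 b hb.1
      obtain ⟨x, hxE, hxw⟩ := exists_commute_not_mem (G := ↥Q) hQ.1.1 hcommQ hQ.2 h4
        ((E ⊓ Q).subgroupOf Q) hab ⟨q, hq⟩
      refine ⟨x, hQS x.2, fun h => hxE (Subgroup.mem_subgroupOf.2 ⟨h, x.2⟩), ?_⟩
      have h1 : (x : Ω) * q = q * x := congrArg Subtype.val hxw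
      have h2 := hcci i x (hQS x.2)
      calc (x : Ω) * (q * c ^ i) = ((x : Ω) * q) * c ^ i := by group
        _ = q * (x * c ^ i) := by rw [h1]; group
        _ = q * (c ^ i * x) := by rw [h2]
        _ = q * c ^ i * x := by group
    exact essential_ne_top hS hF hE (le_antisymm hES hSE)
  · -- small case: `|S : Z(S)| ≤ p²`
    push_neg at h4
    have hfinZS : Finite (centralizerIn S S) := finite_of_le S (zs_le S)
    have hlt : Z < centralizerIn S S :=
      lt_of_le_of_ne hZZS (fun h => hcQ (hZQ (h ▸ hcZS)))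
    have hcz := card_lt_of_lt_pgroup' (hS.to_le (zs_le S)) hlt
    rw [hZcard] at hcz
    have hSle : Nat.card S ≤ p ^ 4 := by
      obtain ⟨k, hk⟩ := hS.exists_card_eq
      have h5 : Nat.card S < p ^ 5 := by
        rw [← hcardS]
        calc Nat.card Q * p < p ^ 4 * p := Nat.mul_lt_mul_of_pos_right h4 (by omega)
          _ = p ^ 5 := by ring
      rw [hk] at h5 ⊢
      have : k < 5 := (Nat.pow_lt_pow_iff_right hp1).1 h5
      exact Nat.pow_le_pow_right hp1.le (by omega)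
    have hidx : (Subgroup.center ↥S).index ≤ p ^ 2 := by
      have h6 := Subgroup.card_mul_index (Subgroup.center ↥S)
      rw [card_center_eq] at h6
      have h7 : p * p * (Subgroup.center ↥S).index ≤ p * p * p ^ 2 := by
        calc p * p * (Subgroup.center ↥S).index
            ≤ Nat.card (centralizerIn S S) * (Subgroup.center ↥S).index :=
              Nat.mul_le_mul_right _ hcz
          _ = Nat.card S := h6
          _ ≤ p ^ 4 := hSle
          _ = p * p * p ^ 2 := by ring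
      exact Nat.le_of_mul_le_mul_left h7 (by positivity)
    have h : Ctx p S := ctx_of_essential hS hF hidx hE
    have hz := zs_eq_derS_of_odd hp2 hS h hF hO hE
    have hder : derS S ≤ Z := by
      unfold derS
      rw [Subgroup.closure_le]
      rintro _ ⟨s, hs, t, ht, rfl⟩
      exact hcommS s hs t ht
    exact hcQ (hZQ (hder (hz ▸ hcZS)))

end Cfsg.Agent.Lib.H26.ExtraEss
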