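import Mathlib
import Cfsg.Prelude.Def_FusionSystem
import Cfsg.Prelude.Def_FusionComponents
import Cfsg.Agent.Lib.H25.Fusion
import Cfsg.Agent.Lib.H25.Normal
import Cfsg.Agent.Lib.H25.NormalSeries
import Cfsg.Agent.Lib.H25.Alperin
import Cfsg.Agent.Lib.H25.Factor

set_option autoImplicit false
set_option linter.unusedSectionVars false

/-!
Automorphism groups in a factor system `F/T`: the surjection `Aut_F(P) → Aut_{F/T}(P/T)` for
`T ≤ P` (helper26).
-/

namespace Cfsg.Agent.Lib.H26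

open Cfsg Cfsg.FusionSystem Cfsg.Agent.Lib.H25

variable {Ω : Type*} [Group Ω] {S : Subgroup Ω} {Ω' : Type*} [Group Ω'] {S' : Subgroup Ω'}

/-- The restriction of `θ` to the full preimage of `P'`, as a homomorphism onto `P'`. -/
noncomputable def thetaP (θ : S →* Ω') (P' : Subgroup Ω') : ↥(preimageAlong θ P') →* ↥P' :=
  (θ.comp (Subgroup.inclusion (preimageAlong_le θ P'))).codRestrict P' (fun x => by
    obtain ⟨h, h'⟩ := (mem_preimageAlong_iff θ P' x).1 x.2
    exact h')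

theorem thetaP_apply (θ : S →* Ω') (P' : Subgroup Ω') (x : ↥(preimageAlong θ P')) :
    ((thetaP θ P' x : P') : Ω') = θ ⟨x, preimageAlong_le θ P' x.2⟩ := rfl

theorem thetaP_surjective (θ : S →* Ω') {P' : Subgroup Ω'} (hP' : P' ≤ θ.range) :
    Function.Surjective (thetaP θ P') := by
  intro y
  obtain ⟨s, hs⟩ := hP' y.2
  have hmem : (s : Ω) ∈ preimageAlong θ P' := by
    rw [mem_preimageAlong_iff]
    refine ⟨s.2, ?_⟩
    have : (⟨(s : Ω), s.2⟩ : S) = s := Subtype.ext rfl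
    rw [this, hs]
    exact y.2
  refine ⟨⟨s, hmem⟩, ?_⟩
  apply Subtype.ext
  rw [thetaP_apply]
  have : (⟨((⟨(s : Ω), hmem⟩ : ↥(preimageAlong θ P')) : Ω), preimageAlong_le θ P' hmem⟩ : S) = s :=
    Subtype.ext rfl
  rw [this, hs]

theorem thetaP_eq_one_iff (θ : S →* Ω') {T : Subgroup Ω}
    (hker : ∀ s : S, θ s = 1 ↔ (s : Ω) ∈ T) (P' : Subgroup Ω') (x : ↥(preimageAlong θ P')) :
    thetaP θ P' x = 1 ↔ (x : Ω) ∈ T := by
  rw [← hker ⟨x, preimageAlong_le θ P' x.2⟩, ← thetaP_apply]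
  constructor
  · intro h; rw [h]; rfl
  · intro h; exact Subtype.ext h

theorem le_preimageAlong (θ : S →* Ω') {T : Subgroup Ω} (hTS : T ≤ S)
    (hker : ∀ s : S, θ s = 1 ↔ (s : Ω) ∈ T) (P' : Subgroup Ω') : T ≤ preimageAlong θ P' := by
  intro t ht
  rw [mem_preimageAlong_iff]
  refine ⟨hTS ht, ?_⟩
  rw [(hker ⟨t, hTS ht⟩).2 ht]
  exact P'.one_mem

/-- The endomorphism of `P'` induced by an automorphism of its full preimage preserving `T`. -/
noncomputable def inducedEnd (θ : S →* Ω') {T : Subgroup Ω}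
    (hker : ∀ s : S, θ s = 1 ↔ (s : Ω) ∈ T) {P' : Subgroup Ω'} (hP' : P' ≤ θ.range)
    (β : MulAut ↥(preimageAlong θ P'))
    (hβ : ∀ x : ↥(preimageAlong θ P'), (x : Ω) ∈ T → ((β x : ↥(preimageAlong θ P')) : Ω) ∈ T) :
    ↥P' →* ↥P' :=
  (thetaP θ P').liftOfSurjective (thetaP_surjective θ hP')
    ⟨(thetaP θ P').comp β.toMonoidHom, by
      intro x hx
      rw [MonoidHom.mem_ker] at hx ⊢
      rw [thetaP_eq_one_iff θ hker] at hx
      show thetaP θ P' (β x) = 1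
      rw [thetaP_eq_one_iff θ hker]
      exact hβ x hx⟩

theorem inducedEnd_apply (θ : S →* Ω') {T : Subgroup Ω}
    (hker : ∀ s : S, θ s = 1 ↔ (s : Ω) ∈ T) {P' : Subgroup Ω'} (hP' : P' ≤ θ.range)
    (β : MulAut ↥(preimageAlong θ P'))
    (hβ : ∀ x : ↥(preimageAlong θ P'), (x : Ω) ∈ T → ((β x : ↥(preimageAlong θ P')) : Ω) ∈ T)
    (x : ↥(preimageAlong θ P')) :
    inducedEnd θ hker hP' β hβ (thetaP θ P' x) = thetaP θ P' (β x) :=
  MonoidHom.liftOfRightInverse_comp_apply (thetaP θ P') _ _ _ x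

/-- The automorphism of `P'` induced by an automorphism of its full preimage preserving `T`. -/
noncomputable def inducedAut (θ : S →* Ω') {T : Subgroup Ω}
    (hker : ∀ s : S, θ s = 1 ↔ (s : Ω) ∈ T) {P' : Subgroup Ω'} (hP' : P' ≤ θ.range)
    (β : MulAut ↥(preimageAlong θ P'))
    (hβ : ∀ x : ↥(preimageAlong θ P'), (x : Ω) ∈ T → ((β x : ↥(preimageAlong θ P')) : Ω) ∈ T)
    (hβ' : ∀ x : ↥(preimageAlong θ P'), (x : Ω) ∈ T → ((β⁻¹ x : ↥(preimageAlong θ P')) : Ω) ∈ T) :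
    MulAut ↥P' :=
  MonoidHom.toMulEquiv (inducedEnd θ hker hP' β hβ) (inducedEnd θ hker hP' β⁻¹ hβ')
    (by
      ext y
      obtain ⟨x, rfl⟩ := thetaP_surjective θ hP' y
      simp [inducedEnd_apply])
    (by
      ext y
      obtain ⟨x, rfl⟩ := thetaP_surjective θ hP' y
      simp [inducedEnd_apply])

theorem inducedAut_apply (θ : S →* Ω') {T : Subgroup Ω}
    (hker : ∀ s : S, θ s = 1 ↔ (s : Ω) ∈ T) {P' : Subgroup Ω'} (hP' : P' ≤ θ.range)
    (β : MulAut ↥(preimageAlong θ P'))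
    (hβ : ∀ x : ↥(preimageAlong θ P'), (x : Ω) ∈ T → ((β x : ↥(preimageAlong θ P')) : Ω) ∈ T)
    (hβ' : ∀ x : ↥(preimageAlong θ P'), (x : Ω) ∈ T → ((β⁻¹ x : ↥(preimageAlong θ P')) : Ω) ∈ T)
    (x : ↥(preimageAlong θ P')) :
    inducedAut θ hker hP' β hβ hβ' (thetaP θ P' x) = thetaP θ P' (β x) :=
  inducedEnd_apply θ hker hP' β hβ x

/-- The homomorphism `Aut_F(P) → Aut(P')`, `P` the full preimage of `P'`, for `T` strongly closed. -/
noncomputable def autMap (θ : S →* Ω') {F : FusionSystem S} {T : Subgroup Ω}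
    (hT : F.StronglyClosed T) (hker : ∀ s : S, θ s = 1 ↔ (s : Ω) ∈ T) {P' : Subgroup Ω'}
    (hP' : P' ≤ θ.range) : ↥(F.autGroup (preimageAlong θ P')) →* MulAut ↥P' :=
  MonoidHom.mk' (fun β => inducedAut θ hker hP' (β : MulAut ↥(preimageAlong θ P'))
      (stronglyClosed_aut_mem' hT (preimageAlong_le θ P') β.2)
      (stronglyClosed_aut_mem' hT (preimageAlong_le θ P') (Subgroup.inv_mem _ β.2)))
    (by
      intro β γ
      ext y
      obtain ⟨x, rfl⟩ := thetaP_surjective θ hP' y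
      rw [MulAut.mul_apply, inducedAut_apply, inducedAut_apply, inducedAut_apply]
      rfl)

theorem autMap_apply (θ : S →* Ω') {F : FusionSystem S} {T : Subgroup Ω}
    (hT : F.StronglyClosed T) (hker : ∀ s : S, θ s = 1 ↔ (s : Ω) ∈ T) {P' : Subgroup Ω'}
    (hP' : P' ≤ θ.range) (β : ↥(F.autGroup (preimageAlong θ P'))) (x : ↥(preimageAlong θ P')) :
    autMap θ hT hker hP' β (thetaP θ P' x) =
      thetaP θ P' ((β : MulAut ↥(preimageAlong θ P')) x) :=
  inducedAut_apply θ hker hP' _ _ _ x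

theorem autMap_mem (θ : S →* Ω') {F : FusionSystem S} {E : FusionSystem S'} {T : Subgroup Ω}
    (hT : F.StronglyClosed T) (hE : F.IsFactorSystem T θ E) {P' : Subgroup Ω'}
    (hP' : P' ≤ θ.range) (β : ↥(F.autGroup (preimageAlong θ P'))) :
    autMap θ hT hE.2.1 hP' β ∈ E.autGroup P' := by
  obtain ⟨hTS, hker, hrange, hHom⟩ := hE
  have hP'S' : P' ≤ S' := hrange ▸ hP'
  have hPS := preimageAlong_le θ P'
  rw [mem_autGroup_iff E hP'S', hHom]
  refine ⟨hP'S', (preimageAlong θ P').subtype.comp (β : MulAut ↥(preimageAlong θ P')).toMonoidHom,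
    (mem_autGroup_iff F hPS _).1 β.2, hPS, fun x => hPS (_ : ↥(preimageAlong θ P')).2,
    fun x => (thetaP θ P' x).2, fun x => ?_⟩
  show ((autMap θ hT hker hP' β (thetaP θ P' x) : P') : Ω') = _
  rw [autMap_apply]
  rfl

theorem autMap_surj [Finite S] (θ : S →* Ω') {F : FusionSystem S} {E : FusionSystem S'}
    {T : Subgroup Ω} (hT : F.StronglyClosed T) (hE : F.IsFactorSystem T θ E) {P' : Subgroup Ω'}
    (hP' : P' ≤ θ.range) {α' : MulAut ↥P'} (hα' : α' ∈ E.autGroup P') :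
    ∃ β : ↥(F.autGroup (preimageAlong θ P')), autMap θ hT hE.2.1 hP' β = α' := by
  obtain ⟨hTS, hker, hrange, hHom⟩ := hE
  have hP'S' : P' ≤ S' := hrange ▸ hP'
  have hPS := preimageAlong_le θ P'
  have hfinP : Finite ↥(preimageAlong θ P') := finite_of_le S hPS
  have h1 := (mem_autGroup_iff E hP'S' α').1 hα'
  rw [hHom] at h1
  obtain ⟨-, φ, hφ, hP, hφS, hP'mem, hind⟩ := h1
  have hφP : ∀ x : ↥(preimageAlong θ P'), φ x ∈ preimageAlong θ P' := by
    intro x
    rw [mem_preimageAlong_iff]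
    refine ⟨hφS x, ?_⟩
    rw [← hind x]
    exact (α' _).2
  have hrange' : φ.range = preimageAlong θ P' := by
    have hle : φ.range ≤ preimageAlong θ P' := by
      rintro _ ⟨x, rfl⟩
      exact hφP x
    apply Subgroup.eq_of_le_of_card_ge hle
    have := (isIso_of_mem F hφ).card_eq
    exact le_of_eq this
  have hiso : IsIso F (preimageAlong θ P') (preimageAlong θ P') (ext1 φ) := by
    have := isIso_of_mem F hφ
    rwa [hrange'] at this
  obtain ⟨β, hβ, hβφ⟩ := exists_mem_autGroup_of_isIso F hiso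
  refine ⟨⟨β, hβ⟩, ?_⟩
  ext y
  obtain ⟨x, rfl⟩ := thetaP_surjective θ hP' y
  rw [autMap_apply]
  have h2 := hind x
  have h3 : ((α' (thetaP θ P' x) : P') : Ω') = θ ⟨φ x, hφS x⟩ := h2
  rw [h3, thetaP_apply]
  congr 1
  apply Subtype.ext
  show ((β x : ↥(preimageAlong θ P')) : Ω) = φ x
  rw [hβφ, ext1_apply]

end Cfsg.Agent.Lib.H26
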