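import Mathlib
import Cfsg.Agent.Lib.H1.PGroupBasic

/-!
# Frattini index toolkit for finite `p`-groups (helper26, for S4188)

`fr S := (frattini S).index`.  Sub-multiplicativity along a normal subgroup, cyclic groups,
index-two subgroups, small nonabelian groups.
-/

set_option autoImplicit false

namespace Cfsg.Agent.Lib.H26.FratBd

open Cfsg.Agent.Lib.H1
open scoped commutatorElement

variable {S : Type*} [Group S] [Finite S]

theorem fr_le_card : (frattini S).index ≤ Nat.card S :=
  Nat.le_of_dvd Nat.card_pos (Subgroup.index_dvd_card _)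

theorem fr_le_index_of_le {L : Subgroup S} (h : L ≤ frattini S) :
    (frattini S).index ≤ L.index :=
  Nat.le_of_dvd (Nat.pos_of_ne_zero L.index_ne_zero_of_finite) (Subgroup.index_dvd_of_le h)

/-- Sub-multiplicativity of the Frattini index along a normal subgroup of a finite `p`-group. -/
theorem fr_le_mul {p : ℕ} [Fact p.Prime] (hS : IsPGroup p S) (K : Subgroup S) [K.Normal] :
    (frattini S).index ≤ (frattini K).index * (frattini (S ⧸ K)).index := by
  have hcomm : commutator S ≤ frattini S := isPGroup_commutator_le_frattini hS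
  have hpow : ∀ x : S, x ^ p ∈ frattini S := isPGroup_pow_mem_frattini hS
  have hΦn : (frattini S).Normal := inferInstance
  have h1 : (frattini S).relIndex (K ⊔ frattini S) * (K ⊔ frattini S).index = (frattini S).index :=
    Subgroup.relIndex_mul_index le_sup_right
  have h2 : (frattini S).relIndex (K ⊔ frattini S) = (frattini S).relIndex K :=
    Subgroup.relIndex_sup_right K (frattini S)
  have h3 : (frattini S).relIndex K ≤ (frattini K).index := by
    have hle : frattini K ≤ (frattini S).subgroupOf K := by
      apply frattini_le_of_commutator_le_of_pow_mem (p := p)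
      · rw [commutator_eq_closure, Subgroup.closure_le]
        rintro x ⟨a, b, rfl⟩
        rw [SetLike.mem_coe, Subgroup.mem_subgroupOf]
        have : ((⁅a, b⁆ : K) : S) = ⁅(a : S), (b : S)⁆ := by
          simp [commutatorElement_def]
        rw [this]
        exact hcomm (Subgroup.commutator_mem_commutator (Subgroup.mem_top _) (Subgroup.mem_top _))
      · intro x
        rw [Subgroup.mem_subgroupOf]
        simpa using hpow (x : S)
    exact Nat.le_of_dvd (Nat.pos_of_ne_zero (Subgroup.index_ne_zero_of_finite))
      (Subgroup.index_dvd_of_le hle)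
  have h4 : (K ⊔ frattini S).index ≤ (frattini (S ⧸ K)).index := by
    have hidx : ((K ⊔ frattini S).map (QuotientGroup.mk' K)).index = (K ⊔ frattini S).index := by
      apply Subgroup.index_map_eq _ (QuotientGroup.mk'_surjective K)
      rw [QuotientGroup.ker_mk']
      exact le_sup_left
    have hle : frattini (S ⧸ K) ≤ (K ⊔ frattini S).map (QuotientGroup.mk' K) := by
      apply frattini_le_of_commutator_le_of_pow_mem (p := p)
      · rw [commutator_eq_closure, Subgroup.closure_le]
        rintro x ⟨a, b, rfl⟩
        obtain ⟨a, rfl⟩ := QuotientGroup.mk_surjective a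
        obtain ⟨b, rfl⟩ := QuotientGroup.mk_surjective b
        rw [SetLike.mem_coe]
        refine ⟨⁅a, b⁆, ?_, ?_⟩
        · exact (le_sup_right : frattini S ≤ K ⊔ frattini S)
            (hcomm (Subgroup.commutator_mem_commutator (Subgroup.mem_top _) (Subgroup.mem_top _)))
        · simp [commutatorElement_def]
      · intro x
        obtain ⟨x, rfl⟩ := QuotientGroup.mk_surjective x
        exact ⟨x ^ p, (le_sup_right : frattini S ≤ K ⊔ frattini S) (hpow x), by simp⟩
    rw [← hidx]
    exact Nat.le_of_dvd (Nat.pos_of_ne_zero (Subgroup.index_ne_zero_of_finite))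
      (Subgroup.index_dvd_of_le hle)
  rw [← h1, h2]
  exact Nat.mul_le_mul h3 h4

/-- A cyclic finite `p`-group has Frattini index at most `p`. -/
theorem fr_cyclic {p : ℕ} [hp : Fact p.Prime] (hS : IsPGroup p S) [IsCyclic S] :
    (frattini S).index ≤ p := by
  rw [Subgroup.index_eq_card]
  have hcyc : IsCyclic (S ⧸ frattini S) :=
    isCyclic_of_surjective (QuotientGroup.mk' (frattini S)) (QuotientGroup.mk'_surjective _)
  obtain ⟨g, hg⟩ := IsCyclic.exists_generator (α := S ⧸ frattini S)
  have hord : orderOf g = Nat.card (S ⧸ frattini S) := orderOf_eq_card_of_forall_mem_zpowers hg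
  rw [← hord]
  apply orderOf_le_of_pow_eq_one hp.out.pos
  obtain ⟨x, rfl⟩ := QuotientGroup.mk_surjective g
  rw [← QuotientGroup.mk_pow, QuotientGroup.eq_one_iff]
  exact isPGroup_pow_mem_frattini hS x

/-- Index-two subgroups of a finite `2`-group. -/
theorem fr_le_two_mul (hS : IsPGroup 2 S) (M : Subgroup S) (hM : M.index = 2) :
    (frattini S).index ≤ 2 * (frattini M).index := by
  have : M.Normal := Subgroup.normal_of_index_eq_two hM
  have : Fact (Nat.Prime 2) := ⟨Nat.prime_two⟩
  have h := fr_le_mul hS M
  have h2 : (frattini (S ⧸ M)).index ≤ 2 := by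
    have := fr_le_card (S := S ⧸ M)
    rwa [← Subgroup.index_eq_card, hM] at this
  calc (frattini S).index ≤ (frattini M).index * (frattini (S ⧸ M)).index := h
    _ ≤ (frattini M).index * 2 := Nat.mul_le_mul_left _ h2
    _ = 2 * (frattini M).index := Nat.mul_comm _ _

/-- A nonabelian `2`-group of order at most `8` has Frattini index at most `4`. -/
theorem fr_le_four_of_noncomm (hS : IsPGroup 2 S) (hna : ∃ a b : S, a * b ≠ b * a)
    (hc : Nat.card S ≤ 8) : (frattini S).index ≤ 4 := by
  have : Fact (Nat.Prime 2) := ⟨Nat.prime_two⟩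
  obtain ⟨a, b, hab⟩ := hna
  have hmem : ⁅a, b⁆ ∈ frattini S := isPGroup_commutator_le_frattini hS
    (Subgroup.commutator_mem_commutator (Subgroup.mem_top _) (Subgroup.mem_top _))
  have hne : ⁅a, b⁆ ≠ 1 := by
    intro h
    apply hab
    rw [commutatorElement_eq_one_iff_mul_comm] at h
    exact h
  have hcard : 2 ≤ Nat.card (frattini S) := by
    by_contra hlt
    have h1 : Nat.card (frattini S) = 1 := by
      have : 0 < Nat.card (frattini S) := Nat.card_pos
      omega
    rw [Subgroup.card_eq_one] at h1
    rw [h1, Subgroup.mem_bot] at hmem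
    exact hne hmem
  have h := Subgroup.card_mul_index (frattini S)
  nlinarith

end Cfsg.Agent.Lib.H26.FratBd
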