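import Mathlib

/-!
# Groups acting on abelian groups via `φ : S →* MulAut V` (helper26, for S4188)

Invariant subgroups, the induced homomorphisms to `MulAut U` and `MulAut (V ⧸ U)`, and the
lemma that a `2`-element acting trivially on `U` and on `V ⧸ U` acts trivially on `V` when
`V` has odd exponent.
-/

set_option autoImplicit false

namespace Cfsg.Agent.Lib.H26.FratBd

variable {S : Type*} {V : Type*} [Group S] [CommGroup V]

/-- `U` is invariant under the action `φ`. -/
def Inv (φ : S →* MulAut V) (U : Subgroup V) : Prop := ∀ s : S, ∀ v ∈ U, φ s v ∈ U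

theorem Inv.symm_mem {φ : S →* MulAut V} {U : Subgroup V} (h : Inv φ U) (s : S) {v : V}
    (hv : v ∈ U) : (φ s).symm v ∈ U := by
  have := h s⁻¹ v hv
  rwa [map_inv] at this

theorem Inv.map_eq {φ : S →* MulAut V} {U : Subgroup V} (h : Inv φ U) (s : S) :
    U.map (φ s).toMonoidHom = U := by
  apply le_antisymm
  · rintro _ ⟨v, hv, rfl⟩
    exact h s v hv
  · intro v hv
    exact ⟨(φ s).symm v, h.symm_mem s hv, by simp⟩

theorem Inv.comp {T : Type*} [Group T] {φ : S →* MulAut V} {U : Subgroup V} (h : Inv φ U)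
    (f : T →* S) : Inv (φ.comp f) U := fun t v hv => h (f t) v hv

/-- Restriction of an automorphism to an invariant subgroup. -/
def resAut (U : Subgroup V) (e : MulAut V) (h1 : ∀ v ∈ U, e v ∈ U)
    (h2 : ∀ v ∈ U, e.symm v ∈ U) : MulAut U where
  toFun u := ⟨e u, h1 u u.2⟩
  invFun u := ⟨e.symm u, h2 u u.2⟩
  left_inv u := Subtype.ext (e.symm_apply_apply u)
  right_inv u := Subtype.ext (e.apply_symm_apply u)
  map_mul' a b := Subtype.ext (map_mul e (a : V) (b : V))

/-- The action on an invariant subgroup. -/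
def resHom (φ : S →* MulAut V) (U : Subgroup V) (hU : Inv φ U) : S →* MulAut U :=
  MonoidHom.mk' (fun s => resAut U (φ s) (hU s) (fun _ hv => hU.symm_mem s hv)) (by
    intro a b
    apply MulEquiv.ext
    intro u
    apply Subtype.ext
    show φ (a * b) u = φ a (φ b u)
    rw [map_mul]
    rfl)

@[simp] theorem resHom_apply_coe (φ : S →* MulAut V) (U : Subgroup V) (hU : Inv φ U) (s : S)
    (u : U) : ((resHom φ U hU s u : U) : V) = φ s u := rfl

/-- The action on the quotient by an invariant subgroup. -/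
noncomputable def quotHom (φ : S →* MulAut V) (U : Subgroup V) (hU : Inv φ U) :
    S →* MulAut (V ⧸ U) :=
  MonoidHom.mk' (fun s => QuotientGroup.congr U U (φ s) (hU.map_eq s)) (by
    intro a b
    ext x
    obtain ⟨v, rfl⟩ := QuotientGroup.mk_surjective x
    show ((φ (a * b) v : V) : V ⧸ U) = ((φ a (φ b v) : V) : V ⧸ U)
    rw [map_mul]
    rfl)

@[simp] theorem quotHom_apply_mk (φ : S →* MulAut V) (U : Subgroup V) (hU : Inv φ U) (s : S)
    (v : V) : quotHom φ U hU s (QuotientGroup.mk v) = QuotientGroup.mk (φ s v) := rfl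

/-- An element of `2`-power order acting trivially on `U` and on `V ⧸ U` acts trivially on `V`,
if `V` has odd exponent `q`. -/
theorem apply_eq_one_of_res_quot {q : ℕ} (hq : Odd q) (hexp : ∀ v : V, v ^ q = 1)
    (φ : S →* MulAut V) (U : Subgroup V) (hU : Inv φ U) (s : S) {j : ℕ}
    (hs : s ^ (2 ^ j) = 1)
    (h1 : resHom φ U hU s = 1) (h2 : quotHom φ U hU s = 1) : φ s = 1 := by
  have hfix : ∀ u ∈ U, φ s u = u := by
    intro u hu
    have := congrArg (fun e : MulAut U => ((e ⟨u, hu⟩ : U) : V)) h1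
    simpa using this
  have hquot : ∀ v : V, v⁻¹ * φ s v ∈ U := by
    intro v
    have := congrArg (fun e : MulAut (V ⧸ U) => e (QuotientGroup.mk v)) h2
    simp only [quotHom_apply_mk, MulAut.one_apply] at this
    rw [← QuotientGroup.eq]
    exact this.symm
  have hpow : ∀ (k : ℕ) (v : V), ((φ s) ^ k) v = v * (v⁻¹ * φ s v) ^ k := by
    intro k
    induction k with
    | zero => intro v; simp
    | succ k ih =>
      intro v
      rw [pow_succ', MulAut.mul_apply, ih, map_mul, map_pow, hfix _ (hquot v), pow_succ]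
      rw [mul_comm ((v⁻¹ * (φ s) v) ^ k) (v⁻¹ * (φ s) v), ← mul_assoc v, mul_inv_cancel_left]
  have hq1 : (φ s) ^ q = 1 := by
    ext v
    rw [hpow q v, hexp, mul_one, MulAut.one_apply]
  have h2j : (φ s) ^ (2 ^ j) = 1 := by
    rw [← map_pow, hs, map_one]
  have hd1 : orderOf (φ s) ∣ q := orderOf_dvd_of_pow_eq_one hq1
  have hd2 : orderOf (φ s) ∣ 2 ^ j := orderOf_dvd_of_pow_eq_one h2j
  have hcop : Nat.Coprime q (2 ^ j) := by
    apply Nat.Coprime.pow_right
    exact (Nat.coprime_two_right.mpr hq)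
  have : orderOf (φ s) = 1 := Nat.eq_one_of_dvd_coprimes hcop hd1 hd2
  exact orderOf_eq_one_iff.mp this

end Cfsg.Agent.Lib.H26.FratBd
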