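import Mathlib
import Cfsg.Agent.Lib.H26.FratBdA
import Cfsg.Agent.Lib.H26.FratBdB

/-!
# The inductive bound: reducible step and base cases (helper26, for S4188)
-/

set_option autoImplicit false

namespace Cfsg.Agent.Lib.H26.FratBd

universe u v

/-- Every finite `2`-group acting faithfully on an abelian group of exponent `q` and order `q ^ n`
has Frattini index at most `2 ^ c`. -/
def Bd (q n c : ℕ) : Prop :=
  ∀ (V : Type u) [CommGroup V] [Finite V], (∀ v : V, v ^ q = 1) → Nat.card V = q ^ n →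
    ∀ (S : Type v) [Group S] [Finite S], IsPGroup 2 S →
      ∀ φ : S →* MulAut V, Function.Injective φ → (frattini S).index ≤ 2 ^ c

theorem Bd.mono {q n c c' : ℕ} (h : Bd.{u, v} q n c) (hc : c ≤ c') : Bd.{u, v} q n c' :=
  fun V _ _ hexp hcard S _ _ hS φ hφ =>
    (h V hexp hcard S hS φ hφ).trans (Nat.pow_le_pow_right (by norm_num) hc)

section

variable {V : Type u} [CommGroup V] [Finite V] {S : Type v} [Group S] [Finite S]

/-- The kernel of the action on `U` acts faithfully on `V ⧸ U`. -/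
theorem quotHom_ker_injective {q : ℕ} (hodd : Odd q) (hexp : ∀ v : V, v ^ q = 1)
    (hS : IsPGroup 2 S) (φ : S →* MulAut V) (hφ : Function.Injective φ)
    (U : Subgroup V) (hU : Inv φ U) :
    Function.Injective ((quotHom φ U hU).comp (resHom φ U hU).ker.subtype) := by
  rw [injective_iff_map_eq_one]
  intro k hk
  obtain ⟨j, hj⟩ := hS (k : S)
  have hk1 : resHom φ U hU (k : S) = 1 := k.2
  have := apply_eq_one_of_res_quot hodd hexp φ U hU (k : S) hj hk1 hk
  have h1' : (k : S) = 1 := hφ (by rw [this, map_one])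
  exact Subtype.ext h1'

/-- The reducible step. -/
theorem fr_le_of_inv {q : ℕ} (hodd : Odd q) (hexp : ∀ v : V, v ^ q = 1)
    (hS : IsPGroup 2 S) (φ : S →* MulAut V) (hφ : Function.Injective φ)
    (U : Subgroup V) (hU : Inv φ U) {n₁ n₂ c₁ c₂ : ℕ}
    (hc1 : Nat.card U = q ^ n₁) (hc2 : Nat.card (V ⧸ U) = q ^ n₂)
    (h1 : Bd.{u, v} q n₁ c₁) (h2 : Bd.{u, v} q n₂ c₂) :
    (frattini S).index ≤ 2 ^ (c₁ + c₂) := by
  have : Fact (Nat.Prime 2) := ⟨Nat.prime_two⟩
  have hexpU : ∀ u : U, u ^ q = 1 := fun u => Subtype.ext (by simpa using hexp (u : V))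
  have hexpQ : ∀ x : V ⧸ U, x ^ q = 1 := by
    intro x
    obtain ⟨w, rfl⟩ := QuotientGroup.mk_surjective x
    rw [← QuotientGroup.mk_pow, hexp]
    rfl
  let K : Subgroup S := (resHom φ U hU).ker
  -- `S ⧸ K` acts faithfully on `U`
  have hb1 : (frattini (S ⧸ K)).index ≤ 2 ^ c₁ :=
    h1 U hexpU hc1 (S ⧸ K) (hS.to_quotient K) (QuotientGroup.kerLift (resHom φ U hU))
      (QuotientGroup.kerLift_injective _)
  -- `K` acts faithfully on `V ⧸ U`
  have hb2 : (frattini K).index ≤ 2 ^ c₂ :=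
    h2 (V ⧸ U) hexpQ hc2 K (hS.to_subgroup K) _ (quotHom_ker_injective hodd hexp hS φ hφ U hU)
  calc (frattini S).index ≤ (frattini K).index * (frattini (S ⧸ K)).index := fr_le_mul hS K
    _ ≤ 2 ^ c₂ * 2 ^ c₁ := Nat.mul_le_mul hb2 hb1
    _ = 2 ^ (c₁ + c₂) := by rw [← pow_add, add_comm]

end

/-- Base case `n = 0`. -/
theorem bd_zero (q : ℕ) : Bd.{u, v} q 0 0 := by
  intro V _ _ _ hcard S _ _ _ φ hφ
  rw [pow_zero] at hcard
  have hV : Subsingleton V := (Nat.card_eq_one_iff_unique.mp hcard).1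
  have hA : Subsingleton (MulAut V) := ⟨fun a b => by ext v; exact Subsingleton.elim _ _⟩
  have hSs : Subsingleton S := hφ.subsingleton
  have : Nat.card S = 1 := Nat.card_eq_one_iff_unique.mpr ⟨hSs, ⟨1⟩⟩
  have h := fr_le_card (S := S)
  rw [this] at h
  simpa using h

/-- Base case `n = 1`. -/
theorem bd_one {q : ℕ} (hq : q.Prime) : Bd.{u, v} q 1 1 := by
  intro V _ _ _ hcard S _ _ hS φ hφ
  have : Fact (Nat.Prime 2) := ⟨Nat.prime_two⟩
  rw [pow_one] at hcard
  have hcyc : IsCyclic V := @isCyclic_of_prime_card V _ q ⟨hq⟩ hcard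
  have hp : Fact (Nat.card V).Prime := ⟨hcard.symm ▸ hq⟩
  have hcycA : IsCyclic (MulAut V) :=
    isCyclic_of_injective (IsCyclic.mulAutMulEquiv V).toMonoidHom (IsCyclic.mulAutMulEquiv V).injective
  have hcycS : IsCyclic S := isCyclic_of_injective φ hφ
  simpa using fr_cyclic hS

/-- A `2`-group acting faithfully on a group of order `3` has order at most `2`. -/
theorem card_le_two_of_card_three {V : Type u} [CommGroup V] [Finite V] (hcard : Nat.card V = 3)
    {S : Type v} [Group S] [Finite S] (φ : S →* MulAut V) (hφ : Function.Injective φ) :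
    Nat.card S ≤ 2 := by
  have hcyc : IsCyclic V := @isCyclic_of_prime_card V _ 3 ⟨Nat.prime_three⟩ hcard
  have h := IsCyclic.card_mulAut V
  rw [hcard] at h
  have h3 : Nat.totient 3 = 2 := by decide
  rw [h3] at h
  have : Finite (MulAut V) := Nat.finite_of_card_ne_zero (by rw [h]; norm_num)
  rw [← h]
  exact Nat.card_le_card_of_injective φ hφ

/-- A `2`-group acting faithfully on a group of exponent `3` with an invariant subgroup of
order `3` and index `3` has order at most `4`. -/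
theorem card_le_four_of_inv_three {V : Type u} [CommGroup V] [Finite V]
    (hexp : ∀ v : V, v ^ 3 = 1) {S : Type v} [Group S] [Finite S] (hS : IsPGroup 2 S)
    (φ : S →* MulAut V) (hφ : Function.Injective φ) (U : Subgroup V) (hU : Inv φ U)
    (hc1 : Nat.card U = 3) (hc2 : Nat.card (V ⧸ U) = 3) : Nat.card S ≤ 4 := by
  let K : Subgroup S := (resHom φ U hU).ker
  have h1 : Nat.card (S ⧸ K) ≤ 2 :=
    card_le_two_of_card_three hc1 (QuotientGroup.kerLift (resHom φ U hU))
      (QuotientGroup.kerLift_injective _)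
  have h2 : Nat.card K ≤ 2 :=
    card_le_two_of_card_three hc2 _
      (quotHom_ker_injective (by decide : Odd 3) hexp hS φ hφ U hU)
  have h3 := K.card_mul_index
  rw [Subgroup.index_eq_card] at h3
  rw [← h3]
  calc Nat.card K * Nat.card (S ⧸ K) ≤ 2 * 2 := Nat.mul_le_mul h2 h1
    _ = 4 := by norm_num

end Cfsg.Agent.Lib.H26.FratBd
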