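import Mathlib
import Cfsg.Agent.Lib.H26.FratBdB
import Cfsg.Agent.Lib.H16.NormalFour

/-!
# Irreducible actions of `2`-groups on odd abelian groups (helper26, for S4188)

Central involutions act by inversion; a noncyclic normal abelian subgroup gives an index-two
subgroup `M` and an `M`-invariant subgroup `W` with `|W|^2 = |V|` (Clifford).
-/

set_option autoImplicit false

namespace Cfsg.Agent.Lib.H26.FratBd

variable {S : Type*} {V : Type*} [Group S] [CommGroup V]

/-- No proper nontrivial invariant subgroups. -/
def Irr (φ : S →* MulAut V) : Prop := ∀ U : Subgroup V, Inv φ U → U = ⊥ ∨ U = ⊤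

/-- Fixed points of an automorphism. -/
def fixSub (e : MulAut V) : Subgroup V where
  carrier := {v | e v = v}
  one_mem' := map_one e
  mul_mem' := by
    intro a b ha hb
    simp only [Set.mem_setOf_eq] at *
    rw [map_mul, ha, hb]
  inv_mem' := by
    intro a ha
    simp only [Set.mem_setOf_eq] at *
    rw [map_inv, ha]

theorem mem_fixSub {e : MulAut V} {v : V} : v ∈ fixSub e ↔ e v = v := Iff.rfl

/-- Inverted points of an automorphism. -/
def negSub (e : MulAut V) : Subgroup V where
  carrier := {v | e v = v⁻¹}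
  one_mem' := by simp
  mul_mem' := by
    intro a b ha hb
    simp only [Set.mem_setOf_eq] at *
    rw [map_mul, ha, hb, mul_inv]
  inv_mem' := by
    intro a ha
    simp only [Set.mem_setOf_eq] at *
    rw [map_inv, ha]

theorem mem_negSub {e : MulAut V} {v : V} : v ∈ negSub e ↔ e v = v⁻¹ := Iff.rfl

/-- For an involutory automorphism of an abelian group of odd order, `|C_V(e)| * |V^-(e)| = |V|`. -/
theorem card_fixSub_mul_card_negSub [Finite V] (hodd : Odd (Nat.card V)) (e : MulAut V)
    (he : ∀ v, e (e v) = v) : Nat.card (fixSub e) * Nat.card (negSub e) = Nat.card V := by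
  let f : V →* V :=
    { toFun := fun v => v * e v
      map_one' := by simp
      map_mul' := by
        intro a b
        rw [map_mul]
        exact mul_mul_mul_comm a b (e a) (e b) }
  have hf : ∀ v, f v = v * e v := fun _ => rfl
  have hker : f.ker = negSub e := by
    ext v
    rw [MonoidHom.mem_ker, hf, mem_negSub, mul_eq_one_iff_eq_inv']
  have hrange : f.range = fixSub e := by
    ext w
    constructor
    · rintro ⟨v, rfl⟩
      rw [mem_fixSub, hf, map_mul, he, mul_comm]
    · intro hw
      rw [mem_fixSub] at hw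
      obtain ⟨h, hh⟩ := hodd
      refine ⟨w ^ (h + 1), ?_⟩
      rw [hf, map_pow, hw, ← pow_add]
      have : h + 1 + (h + 1) = Nat.card V + 1 := by omega
      rw [this, pow_succ, pow_card_eq_one', one_mul]
  have h1 := Subgroup.card_mul_index f.ker
  rw [Subgroup.index_ker, hker, hrange] at h1
  rw [mul_comm]
  exact h1

/-- A central involution of an irreducible faithful action acts by inversion. -/
theorem apply_eq_inv_of_central {φ : S →* MulAut V} (hφ : Function.Injective φ) (hirr : Irr φ)
    {z : S} (hz : z ∈ Subgroup.center S) (hz2 : z ^ 2 = 1) (hz1 : z ≠ 1) (v : V) :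
    φ z v = v⁻¹ := by
  have hinv : Inv φ (fixSub (φ z)) := by
    intro s w hw
    rw [mem_fixSub] at hw ⊢
    have hc : z * s = s * z := (Subgroup.mem_center_iff.mp hz s).symm
    calc φ z (φ s w) = φ (z * s) w := by rw [map_mul]; rfl
      _ = φ (s * z) w := by rw [hc]
      _ = φ s (φ z w) := by rw [map_mul]; rfl
      _ = φ s w := by rw [hw]
  have hzz : ∀ w, φ z (φ z w) = w := by
    intro w
    have : φ z (φ z w) = φ (z ^ 2) w := by rw [pow_two, map_mul]; rfl
    rw [this, hz2, map_one]
    rfl
  rcases hirr _ hinv with h | h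
  · have hmem : v * φ z v ∈ fixSub (φ z) := by
      rw [mem_fixSub, map_mul, hzz, mul_comm]
    rw [h, Subgroup.mem_bot] at hmem
    exact (mul_eq_one_iff_eq_inv'.mp hmem)
  · exfalso
    apply hz1
    apply hφ
    rw [map_one]
    ext w
    have : w ∈ fixSub (φ z) := by rw [h]; exact Subgroup.mem_top w
    exact this

/-- Clifford-type decomposition from a noncyclic normal abelian subgroup. -/
theorem exists_clifford [Finite S] [Finite V] (hodd : Odd (Nat.card V)) (hS : IsPGroup 2 S)
    {φ : S →* MulAut V} (hφ : Function.Injective φ) (hirr : Irr φ)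
    (A : Subgroup S) [A.Normal] (hA : ∀ x ∈ A, ∀ y ∈ A, x * y = y * x) (hnc : ¬ IsCyclic A) :
    ∃ (M : Subgroup S) (W : Subgroup V), M.index = 2 ∧ Inv (φ.comp M.subtype) W ∧
      Nat.card W * Nat.card W = Nat.card V ∧ ∃ a b : S, a * b ≠ b * a := by
  obtain ⟨z, u, hzc, hz1, hz2, hu2, hu1, huz, hconj⟩ :=
    Cfsg.Agent.Lib.H16.exists_normal_four_data_of_not_isCyclic hS A hA hnc
  have hzinv : ∀ v, φ z v = v⁻¹ := apply_eq_inv_of_central hφ hirr hzc hz2 hz1
  -- `u` is not central
  have hunc : u ∉ Subgroup.center S := by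
    intro huc
    have huinv : ∀ v, φ u v = v⁻¹ := apply_eq_inv_of_central hφ hirr huc hu2 hu1
    have : φ (u * z) = 1 := by
      ext v
      rw [map_mul, MulAut.mul_apply, hzinv, huinv, inv_inv, MulAut.one_apply]
    have h1 : u * z = 1 := hφ (by rw [this, map_one])
    apply huz
    have hzz : z * z = 1 := by rw [← pow_two, hz2]
    calc u = u * (z * z) := by rw [hzz, mul_one]
      _ = (u * z) * z := by rw [mul_assoc]
      _ = z := by rw [h1, one_mul]
  obtain ⟨g, hg⟩ : ∃ g : S, g * u * g⁻¹ = u * z := by
    by_contra hno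
    push Not at hno
    apply hunc
    rw [Subgroup.mem_center_iff]
    intro s
    rcases hconj s with h | h
    · calc s * u = (s * u * s⁻¹) * s := by group
        _ = u * s := by rw [h]
    · exact absurd h (hno s)
  have huzne : u * z ≠ u := by
    intro h
    apply hz1
    exact mul_left_cancel (h.trans (mul_one u).symm)
  have hzconj : ∀ s : S, s * z * s⁻¹ = z := by
    intro s
    have := Subgroup.mem_center_iff.mp hzc s
    rw [this]; group
  have hzz : z * z = 1 := by rw [← pow_two, hz2]
  let M : Subgroup S := Subgroup.centralizer {u}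
  have hmemM : ∀ s : S, s ∈ M ↔ s * u * s⁻¹ = u := by
    intro s
    rw [Subgroup.mem_centralizer_singleton_iff]
    constructor
    · intro h; rw [h]; group
    · intro h
      calc s * u = (s * u * s⁻¹) * s := by group
        _ = u * s := by rw [h]
  have hidx : M.index = 2 := by
    rw [Subgroup.index_eq_two_iff]
    refine ⟨g, fun b => ?_⟩
    have hbg : b * g * u * (b * g)⁻¹ = (b * u * b⁻¹) * z := by
      calc b * g * u * (b * g)⁻¹ = b * (g * u * g⁻¹) * b⁻¹ := by group
        _ = b * (u * z) * b⁻¹ := by rw [hg]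
        _ = (b * u * b⁻¹) * (b * z * b⁻¹) := by group
        _ = (b * u * b⁻¹) * z := by rw [hzconj]
    rcases hconj b with h | h
    · right
      refine ⟨(hmemM b).mpr h, ?_⟩
      rw [hmemM, hbg, h]
      exact huzne
    · left
      refine ⟨?_, ?_⟩
      · rw [hmemM, hbg, h, mul_assoc, hzz, mul_one]
      · rw [hmemM, h]
        exact huzne
  let W : Subgroup V := fixSub (φ u)
  have hWinv : Inv (φ.comp M.subtype) W := by
    intro m w hw
    rw [mem_fixSub] at hw ⊢
    have hm : (m : S) * u = u * m := Subgroup.mem_centralizer_singleton_iff.mp m.2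
    show φ u (φ (m : S) w) = φ (m : S) w
    calc φ u (φ (m : S) w) = φ (u * m) w := by rw [map_mul]; rfl
      _ = φ ((m : S) * u) w := by rw [hm]
      _ = φ (m : S) (φ u w) := by rw [map_mul]; rfl
      _ = φ (m : S) w := by rw [hw]
  have huu : ∀ w, φ u (φ u w) = w := by
    intro w
    have : φ u (φ u w) = φ (u ^ 2) w := by rw [pow_two, map_mul]; rfl
    rw [this, hu2, map_one]
    rfl
  have hcard1 := card_fixSub_mul_card_negSub hodd (φ u) huu
  -- `negSub (φ u) = fixSub (φ (u z))`, the image of `W` under `φ g`
  have hneg : negSub (φ u) = fixSub (φ (u * z)) := by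
    ext w
    rw [mem_negSub, mem_fixSub, map_mul, MulAut.mul_apply, hzinv, map_inv, inv_eq_iff_eq_inv]
  have hmap : fixSub (φ (u * z)) = W.map (φ g).toMonoidHom := by
    ext w
    constructor
    · intro hw
      rw [mem_fixSub] at hw
      refine ⟨(φ g).symm w, ?_, by simp⟩
      show φ u ((φ g).symm w) = (φ g).symm w
      apply (φ g).injective
      rw [MulEquiv.apply_symm_apply]
      have : φ g (φ u ((φ g).symm w)) = φ (g * u * g⁻¹) w := by
        rw [map_mul, map_mul, map_inv]
        rfl
      rw [this, hg, hw]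
    · rintro ⟨w, hw, rfl⟩
      have hw' : φ u w = w := hw
      rw [mem_fixSub]
      show φ (u * z) (φ g w) = φ g w
      rw [← hg]
      have : φ (g * u * g⁻¹) (φ g w) = φ g (φ u w) := by
        rw [map_mul, map_mul, map_inv]
        show φ g (φ u ((φ g)⁻¹ (φ g w))) = _
        rw [MulAut.inv_apply_self]
      rw [this, hw']
  have hcard2 : Nat.card (negSub (φ u)) = Nat.card W := by
    rw [hneg, hmap]
    exact Subgroup.card_map_of_injective (φ g).injective
  rw [hcard2] at hcard1
  refine ⟨M, W, hidx, hWinv, hcard1, ?_⟩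
  by_contra hcomm
  push Not at hcomm
  apply hunc
  rw [Subgroup.mem_center_iff]
  intro s
  exact hcomm s u

end Cfsg.Agent.Lib.H26.FratBd
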