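import Mathlib
import Cfsg.Agent.S3761
import Cfsg.Agent.Lib.H8.PGroup
import Cfsg.Agent.Lib.H26.FratBdA

/-!
# `2`-groups all of whose normal abelian subgroups are cyclic have Frattini index `≤ 4`
(helper26, for S4188; via helper9's S3761)
-/

set_option autoImplicit false

namespace Cfsg.Agent.Lib.H26.FratBd

theorem fr_le_four_of_normal_abelian_cyclic {S : Type*} [Group S] [Finite S] (hS : IsPGroup 2 S)
    (hcyc : ∀ A : Subgroup S, A.Normal → (∀ x ∈ A, ∀ y ∈ A, x * y = y * x) → IsCyclic A) :
    (frattini S).index ≤ 4 := by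
  have : Fact (Nat.Prime 2) := ⟨Nat.prime_two⟩
  by_cases hab : ∀ a b : S, a * b = b * a
  · have h1 : IsCyclic (⊤ : Subgroup S) := hcyc ⊤ inferInstance (fun x _ y _ => hab x y)
    have h2 : IsCyclic S :=
      isCyclic_of_surjective (Subgroup.topEquiv (G := S)).toMonoidHom
        (Subgroup.topEquiv (G := S)).surjective
    have := fr_cyclic hS
    omega
  · have hna : ¬ IsMulCommutative S := by
      intro h
      apply hab
      intro a b
      exact h.is_comm.comm a b
    obtain ⟨U, -, hUn, hUc, hUcent⟩ :=
      Cfsg.Agent.Lib.H8.exists_normal_selfCentralizing hS (⊥ : Subgroup S)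
    have hUcyc : IsCyclic U := hcyc U hUn (fun x hx y hy => by
      have := hUc.is_comm.comm (⟨x, hx⟩ : U) ⟨y, hy⟩
      exact congrArg Subtype.val this)
    obtain ⟨n, hn⟩ := IsPGroup.iff_card.mp (hS.to_subgroup U)
    rcases Cfsg.Agent.S3761.result hS hna U hUcyc n hn hUcent with ⟨-, hcard, -⟩ | ⟨-, hEA, hc4, hchar⟩
    · have hidx : U.index = 2 := by
        have h := U.card_mul_index
        rw [hn, hcard, pow_succ] at h
        exact Nat.eq_of_mul_eq_mul_left (by positivity) h
      have h1 := fr_le_two_mul hS U hidx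
      have h2 : (frattini U).index ≤ 2 := fr_cyclic (hS.to_subgroup U)
      omega
    · exfalso
      have hΩn : (Cfsg.omegaOne 2 (Subgroup.centralizer
          (Cfsg.powerClosure 2 1 U : Set S))).Normal := Subgroup.normal_of_characteristic _
      have hΩc := hcyc _ hΩn (fun x hx y hy => by
        have := hEA.1.is_comm.comm (⟨x, hx⟩ : (Cfsg.omegaOne 2 (Subgroup.centralizer
          (Cfsg.powerClosure 2 1 U : Set S)))) ⟨y, hy⟩
        exact congrArg Subtype.val this)
      obtain ⟨g, hg⟩ := hΩc.exists_generator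
      have hord : orderOf g = 4 := by
        rw [orderOf_eq_card_of_forall_mem_zpowers hg, hc4]
        norm_num
      have hg2 : g ^ 2 = 1 := Subtype.ext (by simpa using hEA.2 (g : S) g.2)
      have := orderOf_le_of_pow_eq_one (by norm_num : 0 < 2) hg2
      omega

end Cfsg.Agent.Lib.H26.FratBd
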