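import Mathlib
import Cfsg.Agent.Lib.H26.FratBdC
import Cfsg.Agent.Lib.H26.FratBdD
import Cfsg.Agent.Lib.H26.FratBdE

/-!
# Main induction: Frattini index of `2`-subgroups of `Aut` of an elementary abelian `q`-group
(helper26, for S4188)
-/

set_option autoImplicit false

namespace Cfsg.Agent.Lib.H26.FratBd

universe u v

/-- cardinalities of a subgroup and its quotient in a group of order `q ^ n`. -/
theorem exists_card_pow {q : ℕ} (hq : q.Prime) {V : Type u} [CommGroup V] [Finite V] {n : ℕ}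
    (hcard : Nat.card V = q ^ n) (U : Subgroup V) :
    ∃ n₁ : ℕ, n₁ ≤ n ∧ Nat.card U = q ^ n₁ ∧ Nat.card (V ⧸ U) = q ^ (n - n₁) := by
  have hdvd : Nat.card U ∣ q ^ n := hcard ▸ Subgroup.card_subgroup_dvd_card U
  obtain ⟨n₁, hn₁, hU⟩ := (Nat.dvd_prime_pow hq).mp hdvd
  refine ⟨n₁, hn₁, hU, ?_⟩
  have h := Subgroup.card_eq_card_quotient_mul_card_subgroup U
  rw [hcard, hU] at h
  have h2 : q ^ n = q ^ (n - n₁) * q ^ n₁ := by rw [← pow_add]; congr 1; omega
  rw [h2] at h
  exact (Nat.eq_of_mul_eq_mul_right (pow_pos hq.pos n₁) h).symm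

theorem bd_main {q : ℕ} (hq : q.Prime) (hodd : Odd q) (b : ℕ → ℕ)
    (b1 : 1 ≤ b 1)
    (b2 : ∀ n₁ n₂, 1 ≤ n₁ → 1 ≤ n₂ → b n₁ + b n₂ ≤ b (n₁ + n₂))
    (b3 : ∀ m, 1 ≤ m → (q = 3 → 2 ≤ m) → 1 + 2 * b m ≤ b (2 * m))
    (b4 : ∀ n, 2 ≤ n → 2 ≤ b n) :
    ∀ n, Bd.{u, v} q n (b n) := by
  intro n
  induction n using Nat.strong_induction_on with
  | _ n ih =>
  rcases Nat.lt_or_ge n 2 with hn2 | hn2
  · interval_cases n
    · exact (bd_zero q).mono (Nat.zero_le _)
    · exact (bd_one hq).mono b1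
  intro V _ _ hexp hcard S _ _ hS φ hφ
  have hVodd : Odd (Nat.card V) := hcard ▸ hodd.pow
  by_cases hred : ∃ U : Subgroup V, Inv φ U ∧ U ≠ ⊥ ∧ U ≠ ⊤
  · -- reducible
    obtain ⟨U, hU, hU0, hU1⟩ := hred
    obtain ⟨n₁, hn₁, hcU, hcQ⟩ := exists_card_pow hq hcard U
    have h1 : 1 ≤ n₁ := by
      rcases Nat.eq_zero_or_pos n₁ with h | h
      · exfalso
        apply hU0
        rw [h, pow_zero] at hcU
        exact Subgroup.card_eq_one.mp hcU
      · exact h
    have h2 : n₁ < n := by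
      rcases Nat.lt_or_ge n₁ n with h | h
      · exact h
      · exfalso
        apply hU1
        apply Subgroup.eq_top_of_card_eq
        rw [hcU, hcard, le_antisymm hn₁ h]
    have hb := fr_le_of_inv hodd hexp hS φ hφ U hU hcU hcQ (ih n₁ h2) (ih (n - n₁) (by omega))
    refine hb.trans (Nat.pow_le_pow_right (by norm_num) ?_)
    have := b2 n₁ (n - n₁) h1 (by omega)
    rwa [show n₁ + (n - n₁) = n by omega] at this
  · -- irreducible
    have hirr : Irr φ := by
      intro U hU
      by_contra hno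
      push Not at hno
      exact hred ⟨U, hU, hno.1, hno.2⟩
    have h4 : (4 : ℕ) ≤ 2 ^ b n := by
      calc (4 : ℕ) = 2 ^ 2 := by norm_num
        _ ≤ 2 ^ b n := Nat.pow_le_pow_right (by norm_num) (b4 n hn2)
    by_cases hnc : ∃ A : Subgroup S, A.Normal ∧ (∀ x ∈ A, ∀ y ∈ A, x * y = y * x) ∧ ¬ IsCyclic A
    · obtain ⟨A, hAn, hAc, hAnc⟩ := hnc
      obtain ⟨M, W, hidx, hWinv, hcW, hnoncomm⟩ := exists_clifford hVodd hS hφ hirr A hAc hAnc
      obtain ⟨m, hm, hcW', hcQ⟩ := exists_card_pow hq hcard W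
      have hnm : n = 2 * m := by
        rw [hcW', hcard, ← pow_add] at hcW
        have := Nat.pow_right_injective hq.two_le hcW
        omega
      have hm1 : 1 ≤ m := by omega
      have hnm' : n - m = m := by omega
      rw [hnm'] at hcQ
      have hφM : Function.Injective (φ.comp M.subtype) :=
        hφ.comp M.subtype_injective
      have hSM : IsPGroup 2 M := hS.to_subgroup M
      by_cases hsp : q = 3 ∧ m = 1
      · obtain ⟨rfl, rfl⟩ := hsp
        rw [pow_one] at hcW' hcQ
        have hM4 : Nat.card M ≤ 4 :=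
          card_le_four_of_inv_three hexp hSM (φ.comp M.subtype) hφM W hWinv hcW' hcQ
        have hS8 : Nat.card S ≤ 8 := by
          have := M.card_mul_index
          rw [hidx] at this
          omega
        exact (fr_le_four_of_noncomm hS hnoncomm hS8).trans h4
      · have hb := fr_le_of_inv hodd hexp hSM (φ.comp M.subtype) hφM W hWinv hcW' hcQ
          (ih m (by omega)) (ih m (by omega))
        have h2 := fr_le_two_mul hS M hidx
        have h3 : 1 + 2 * b m ≤ b n := by
          rw [hnm]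
          exact b3 m hm1 (fun h3 => by
            by_contra hlt
            exact hsp ⟨h3, by omega⟩)
        calc (frattini S).index ≤ 2 * (frattini M).index := h2
          _ ≤ 2 * 2 ^ (b m + b m) := Nat.mul_le_mul_left _ hb
          _ = 2 ^ (1 + 2 * b m) := by rw [← pow_succ']; congr 1; omega
          _ ≤ 2 ^ b n := Nat.pow_le_pow_right (by norm_num) h3
    · have hcyc : ∀ A : Subgroup S, A.Normal → (∀ x ∈ A, ∀ y ∈ A, x * y = y * x) → IsCyclic A := by
        intro A hAn hAc
        by_contra h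
        exact hnc ⟨A, hAn, hAc, h⟩
      exact (fr_le_four_of_normal_abelian_cyclic hS hcyc).trans h4

end Cfsg.Agent.Lib.H26.FratBd
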