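import Mathlib
import Cfsg.Agent.Lib.H26.FratBdF

/-!
# Numerical bound functions for S4188 (helper26)
-/

set_option autoImplicit false

namespace Cfsg.Agent.Lib.H26.FratBd

universe u v

/-- bound function for `q = 3`. -/
def b3 (n : ℕ) : ℕ := if n ≤ 2 then n else 3 * n / 2 - 1

/-- bound function for `q ≥ 5`. -/
def b5 (n : ℕ) : ℕ := 2 * n - 1

theorem bd_three : ∀ n, Bd.{u, v} 3 n (b3 n) := by
  apply bd_main Nat.prime_three (by decide) b3
  · simp [b3]
  · intro n₁ n₂ h1 h2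
    unfold b3
    split_ifs <;> omega
  · intro m h1 h2
    have := h2 rfl
    unfold b3
    split_ifs <;> omega
  · intro n hn
    unfold b3
    split_ifs <;> omega

theorem bd_five {q : ℕ} (hq : q.Prime) (hodd : Odd q) : ∀ n, Bd.{u, v} q n (b5 n) := by
  apply bd_main hq hodd b5
  · simp [b5]
  · intro n₁ n₂ h1 h2
    unfold b5
    omega
  · intro m h1 _
    unfold b5
    omega
  · intro n hn
    unfold b5
    omega

theorem two_pow_b3_le (n : ℕ) (hn : 1 ≤ n) : 2 ^ b3 n ≤ 3 ^ n - 1 := by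
  unfold b3
  split_ifs with h
  · interval_cases n <;> norm_num
  · push Not at h
    -- `k = 3n/2`, `2k ≤ 3n`
    obtain ⟨k, hk⟩ : ∃ k, k = 3 * n / 2 := ⟨_, rfl⟩
    rw [← hk]
    have hk2 : 2 * k ≤ 3 * n := by omega
    have hk1 : 1 ≤ k := by omega
    have h1 : (2 ^ k) ^ 2 ≤ (3 ^ n) ^ 2 := by
      calc (2 ^ k) ^ 2 = 2 ^ (2 * k) := by rw [← pow_mul, mul_comm]
        _ ≤ 2 ^ (3 * n) := Nat.pow_le_pow_right (by norm_num) hk2
        _ = 8 ^ n := by rw [pow_mul]; norm_num
        _ ≤ 9 ^ n := Nat.pow_le_pow_left (by norm_num) n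
        _ = (3 ^ n) ^ 2 := by rw [← pow_mul, mul_comm, pow_mul]; norm_num
    have h2 : 2 ^ k ≤ 3 ^ n := by
      by_contra hlt
      push Not at hlt
      have := Nat.pow_lt_pow_left hlt (by norm_num : 2 ≠ 0)
      omega
    have h3 : 2 ^ k = 2 * 2 ^ (k - 1) := by
      rw [← pow_succ']; congr 1; omega
    have h4 : 1 ≤ 2 ^ (k - 1) := Nat.one_le_two_pow
    omega

theorem two_pow_b5_le {q : ℕ} (hq : 5 ≤ q) (n : ℕ) (hn : 1 ≤ n) : 2 ^ b5 n ≤ q ^ n - 1 := by
  unfold b5
  have h1 : 2 * 2 ^ (2 * n - 1) = 4 ^ n := by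
    rw [← pow_succ']
    have : 2 * n - 1 + 1 = 2 * n := by omega
    rw [this, pow_mul]
    norm_num
  have h2 : 4 ^ n ≤ q ^ n := Nat.pow_le_pow_left (by omega) n
  have h4 : 1 ≤ 2 ^ (2 * n - 1) := Nat.one_le_two_pow
  omega

/-- Final form: a finite `2`-group acting faithfully on an abelian group of odd prime exponent `q`
and order `q ^ n`, `n ≥ 1`, has Frattini index at most `q ^ n - 1`. -/
theorem fr_le_card_sub_one {q : ℕ} (hq : q.Prime) (hodd : Odd q) {V : Type u} [CommGroup V]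
    [Finite V] (hexp : ∀ v : V, v ^ q = 1) {n : ℕ} (hn : 1 ≤ n) (hcard : Nat.card V = q ^ n)
    {S : Type v} [Group S] [Finite S] (hS : IsPGroup 2 S) (φ : S →* MulAut V)
    (hφ : Function.Injective φ) : (frattini S).index ≤ Nat.card V - 1 := by
  rw [hcard]
  by_cases h3 : q = 3
  · subst h3
    exact (bd_three n V hexp hcard S hS φ hφ).trans (two_pow_b3_le n hn)
  · have h5 : 5 ≤ q := by
      have h2 := hq.two_le
      have hne2 : q ≠ 2 := by
        rintro rfl
        exact absurd hodd (by decide)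
      have hne4 : q ≠ 4 := by
        rintro rfl
        exact absurd hq (by decide)
      omega
    exact (bd_five hq hodd n V hexp hcard S hS φ hφ).trans (two_pow_b5_le h5 n hn)

end Cfsg.Agent.Lib.H26.FratBd
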