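import Mathlib
import Cfsg.Agent.Lib.H26.ThompsonFusion

set_option autoImplicit false
set_option linter.unusedSectionVars false
set_option linter.unusedVariables false

/-!
**A strengthened Frobenius criterion for saturated fusion systems** (helper26): if `p` is odd or
`F` is `S₄`-free and the `F`-automizers of the nontrivial characteristic subgroups of `S` are
`p`-groups, then all automizers are `p`-groups.  Induction on `|S|`, through the Thompson
criterion (`thGoal_all`): the normalizer systems of `Z(S)` and `J(S)` are handled by the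
quotient by the characteristic subgroup.
-/

namespace Cfsg.Agent.Lib.H26.FrobChar

open Cfsg Cfsg.FusionSystem Cfsg.Agent.Lib.H25 Cfsg.Agent.Lib.H26 Cfsg.Agent.Lib.H26.Model
  Cfsg.Agent.Lib.H26.Nil Cfsg.Agent.Lib.H26.Gen Cfsg.Agent.Lib.H26.Thompson

universe u

/-- the hypothesis: automorphisms of nontrivial characteristic subgroups are `p`-elements -/
def CharP {Ω : Type u} [Group Ω] {S : Subgroup Ω} (p : ℕ) (F : FusionSystem S) : Prop :=
  ∀ Q : Subgroup Ω, Q ≤ S → Q ≠ ⊥ → (Q.subgroupOf S).Characteristic →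
    ∀ f : Ω → Ω, IsIso F Q Q f → IsPAut p Q f

theorem CharP.mono {Ω : Type u} [Group Ω] {S : Subgroup Ω} {p : ℕ} {E F : FusionSystem S}
    (hEF : ∀ P : Subgroup Ω, E.Hom P ⊆ F.Hom P) (h : CharP p F) : CharP p E := by
  intro Q hQS hQne hQc f hf
  obtain ⟨φ, hφ, h1, h2⟩ := hf
  exact h Q hQS hQne hQc f ⟨φ, hEF Q hφ, h1, h2⟩

theorem charP_of_isPGroup {Ω : Type u} [Group Ω] {S : Subgroup Ω} {p : ℕ} {F : FusionSystem S}
    (h : ∀ Q : Subgroup Ω, Q ≤ S → Q ≠ ⊥ → (Q.subgroupOf S).Characteristic →
      IsPGroup p (F.autGroup Q)) : CharP p F := by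
  intro Q hQS hQne hQc f hf
  obtain ⟨α, hα, hαf⟩ := exists_mem_autGroup_of_isIso F hf
  obtain ⟨k, hk⟩ := h Q hQS hQne hQc ⟨α, hα⟩
  have hk' : α ^ (p ^ k) = 1 := by simpa using congrArg Subtype.val hk
  refine ⟨k, fun x hx => ?_⟩
  rw [← aut_pow_apply hf hαf (p ^ k) ⟨x, hx⟩, hk']
  rfl

/-- The image of a functor is characteristic. -/
theorem PFun_characteristic {p : ℕ} (W : PFun.{u} p) {Ω : Type u} [Group Ω] (S : Subgroup Ω)
    [Finite S] (hS : IsPGroup p S) : ((W.W S).subgroupOf S).Characteristic := by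
  rw [Subgroup.characteristic_iff_map_eq]
  intro ϕ
  have hinj : Function.Injective (S.subtype.comp ϕ.toMonoidHom) :=
    S.subtype_injective.comp ϕ.injective
  have h1 := W.imgOf_eq hS hinj
  have hrange : (S.subtype.comp ϕ.toMonoidHom).range = S := by
    rw [MonoidHom.range_comp]
    have : ϕ.toMonoidHom.range = ⊤ := MonoidHom.range_eq_top.2 ϕ.surjective
    rw [this, ← MonoidHom.range_eq_map, Subgroup.range_subtype]
  rw [hrange] at h1
  unfold imgOf at h1
  rw [← Subgroup.map_map] at h1
  have h2 := congrArg (fun H : Subgroup Ω => H.subgroupOf S) h1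
  simp only [Subgroup.subgroupOf] at h2
  rw [Subgroup.comap_map_eq_self_of_injective S.subtype_injective] at h2
  exact h2

section Pre

variable {Ω : Type u} [Group Ω] {S : Subgroup Ω} {Ω' : Type u} [Group Ω'] {S' : Subgroup Ω'}

/-- The preimage of a characteristic subgroup under a surjection with characteristic kernel is
characteristic. -/
theorem characteristic_pre {θ : S →* Ω'} (hrange : θ.range = S')
    (hker : ((kerSub θ).subgroupOf S).Characteristic) {Q' : Subgroup Ω'} (hQ'S' : Q' ≤ S')
    (hQ' : (Q'.subgroupOf S').Characteristic) :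
    ((preimageAlong θ Q').subgroupOf S).Characteristic := by
  have h0 : (preimageAlong θ Q').subgroupOf S = Q'.comap θ := by
    unfold preimageAlong Subgroup.subgroupOf
    exact Subgroup.comap_map_eq_self_of_injective S.subtype_injective _
  have hk0 : (kerSub θ).subgroupOf S = θ.ker := by
    rw [kerSub_eq]
    unfold Subgroup.subgroupOf
    exact Subgroup.comap_map_eq_self_of_injective S.subtype_injective _
  rw [hk0] at hker
  rw [h0]
  -- the map onto `S'`
  let θ' : S →* S' := θ.codRestrict S' (fun s => by rw [← hrange]; exact ⟨s, rfl⟩)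
  have hθ' : ∀ s : S, ((θ' s : S') : Ω') = θ s := fun s => rfl
  have hsurj : Function.Surjective θ' := by
    rintro ⟨y, hy⟩
    rw [← hrange] at hy
    obtain ⟨s, rfl⟩ := hy
    exact ⟨s, rfl⟩
  have hkθ' : θ'.ker = θ.ker := by
    ext s
    rw [MonoidHom.mem_ker, MonoidHom.mem_ker]
    constructor
    · intro h
      have := congrArg Subtype.val h
      exact this
    · intro h
      exact Subtype.ext h
  rw [Subgroup.characteristic_iff_comap_le]
  intro ϕ
  have hmap : θ'.ker.map ϕ.toMonoidHom = θ'.ker := by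
    rw [hkθ']
    exact Subgroup.characteristic_iff_map_eq.1 hker ϕ
  let e : S ⧸ θ'.ker ≃* S' := QuotientGroup.quotientKerEquivOfSurjective θ' hsurj
  let c : S ⧸ θ'.ker ≃* S ⧸ θ'.ker := QuotientGroup.congr θ'.ker θ'.ker ϕ hmap
  let ϕ' : S' ≃* S' := e.symm.trans (c.trans e)
  have hϕ' : ∀ s : S, ϕ' (θ' s) = θ' (ϕ s) := by
    intro s
    have h1 : e.symm (θ' s) = (QuotientGroup.mk s : S ⧸ θ'.ker) := by
      rw [MulEquiv.symm_apply_eq]
      rfl
    show e (c (e.symm (θ' s))) = θ' (ϕ s)
    rw [h1]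
    rfl
  have hchar := Subgroup.characteristic_iff_comap_le.1 hQ' ϕ'
  intro s hs
  rw [Subgroup.mem_comap] at hs ⊢
  have h2 : θ' s ∈ (Q'.subgroupOf S').comap ϕ'.toMonoidHom := by
    rw [Subgroup.mem_comap, Subgroup.mem_subgroupOf]
    show ((ϕ' (θ' s) : S') : Ω') ∈ Q'
    rw [hϕ' s, hθ']
    exact hs
  have h3 := hchar h2
  rw [Subgroup.mem_subgroupOf, hθ'] at h3
  exact h3

end Pre

section Main

variable {p : ℕ} [Fact p.Prime]

/-- The inductive statement. -/
def FrobGoal (p : ℕ) [Fact p.Prime] (n : ℕ) : Prop :=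
  ∀ {Ω : Type u} [Group Ω] {S : Subgroup Ω} [Finite S], Nat.card S = n → IsPGroup p S →
    ∀ F : FusionSystem S, F.IsSaturated p → Fr p F → CharP p F → AllP p F

variable {Ω : Type u} [Group Ω] {S : Subgroup Ω}

/-- The step: the normalizer system of a nontrivial characteristic subgroup has `p`-group
automizers. -/
theorem not_NT_of_characteristic {n : ℕ} (ih : ∀ m < n, FrobGoal.{u} p m) [Finite S]
    (hcard : Nat.card S = n) (hS : IsPGroup p S) {F : FusionSystem S} (hF : F.IsSaturated p)
    (hfr : Fr p F) (hch : CharP p F) {U : Subgroup Ω} (hUS : U ≤ S) (hUne : U ≠ ⊥)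
    (hUc : (U.subgroupOf S).Characteristic) : ¬ NT p F U := by
  intro hnt
  have hUn : normalizerIn S U = S := by
    apply le_antisymm inf_le_left
    intro s hs
    refine ⟨hs, ?_⟩
    have hnorm : (U.subgroupOf S).Normal := inferInstance
    show s ∈ Subgroup.normalizer (U : Set Ω)
    apply Cfsg.Agent.Lib.H26.mem_normalizer_of_conj_mem
    · intro x hx
      have := hnorm.conj_mem ⟨x, hUS hx⟩ (Subgroup.mem_subgroupOf.2 hx) ⟨s, hs⟩
      exact Subgroup.mem_subgroupOf.1 this
    · intro x hx
      have := hnorm.conj_mem ⟨x, hUS hx⟩ (Subgroup.mem_subgroupOf.2 hx) ⟨s, hs⟩⁻¹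
      have h2 := Subgroup.mem_subgroupOf.1 this
      simpa using h2
  have hUfn : F.IsFullyNormalized U :=
    Cfsg.Agent.Lib.H26.ZJ.isFullyNormalized_of_normalizerIn_eq hUS hUn
  obtain ⟨N, hN, hNsat, hNU, hNfr⟩ := exists_normalizer_on_top_fr hS hF hfr hUfn hUn
  have hNF := Cfsg.Agent.Lib.H26.ZJ.hom_le_of_normalizer (F := F) hN
  have hNch : CharP p N := hch.mono hNF
  have hUsc := isNormal_stronglyClosed hNU
  have hfinU : Finite U := finite_of_le S hUS
  obtain ⟨Ω', _, S', N', θ, hsm, hker, hfac⟩ := exists_factor hS hNsat hUsc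
  have hrange := hsm.2.1
  have hfinS' : Finite S' := finite_S' hrange
  have hS'p : IsPGroup p S' := isPGroup_S' hrange hS
  have hK : N.StronglyClosed (kerSub θ) := hker ▸ hUsc
  have hN'sat : N'.IsSaturated p := isSaturated_of_surjectiveMorphism hS hNsat hsm
  have hN'fr : Fr p N' := by
    rcases hNfr with h | h
    · exact Or.inl h
    · exact Or.inr (SecFree.factor_isSectionFree p hS N hNsat U hNU h θ N' hfac)
  have hlt : Nat.card S' < n := by
    have h1 := card_pre hrange (le_rfl : S' ≤ S')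
    rw [pre_top hrange, hker, hcard] at h1
    have h2 : 1 < Nat.card U := by
      rw [Subgroup.one_lt_card_iff_ne_bot]
      exact hUne
    have h3 : 0 < Nat.card S' := Nat.card_pos
    rw [h1]
    nlinarith
  -- the hypothesis passes to the quotient
  have hN'ch : CharP p N' := by
    intro Q' hQ'S' hQ'ne hQ'c f' hf'
    have hkc : ((kerSub θ).subgroupOf S).Characteristic := by rw [hker]; exact hUc
    have hpc := characteristic_pre hrange hkc hQ'S' hQ'c
    have hpne : preimageAlong θ Q' ≠ ⊥ := by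
      intro h
      apply hUne
      apply le_bot_iff.1
      rw [← h, ← hker]
      exact kerSub_le_pre θ Q'
    obtain ⟨f, hf, hff'⟩ := lift_iso hsm hK hf'
    obtain ⟨k, hk⟩ := hNch _ (preimageAlong_le θ Q') hpne hpc f hf
    refine ⟨k, fun y hy => ?_⟩
    obtain ⟨x, hx, rfl⟩ := exists_al_eq_of_mem hrange hQ'S' hy
    have key : ∀ n : ℕ, ∀ x ∈ preimageAlong θ Q', f'^[n] (al θ x) = al θ (f^[n] x) := by
      intro n
      induction n with
      | zero => intro x _; rfl
      | succ n ih =>
        intro x hx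
        rw [Function.iterate_succ_apply, Function.iterate_succ_apply, hff' x hx,
          ih _ (hf.map_mem hx)]
    rw [key _ x hx, hk x hx]
  have hallN' : AllP p N' := by
    by_cases hS'bot : S' = ⊥
    · exact allP_of_eq_bot hS'bot
    exact ih _ hlt rfl hS'p N' hN'sat hN'fr hN'ch
  obtain ⟨m, hm⟩ := (hS.to_le hUS).exists_card_eq
  have hstab : ∀ (P : Subgroup Ω) (f : Ω → Ω), IsIso N P P f → U ≤ P → (∀ x ∈ U, f x = x) →
      IsPAut p P f := by
    intro P f hf hUP hfix
    exact push_isPAut hsm.1 hallN' hf (hker ▸ hUP) (hker ▸ hfix) (hker ▸ hm)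
  have hallN : AllP p N := by
    intro P f hf
    obtain ⟨g, hg, hgf, hgU⟩ := isNormal_exists_ext hNU hf
    obtain ⟨k, hk⟩ := hNch U hUS hUne hUc g hgU
    have h1 : IsPAut p (P ⊔ U) (g^[p ^ k]) :=
      hstab _ _ (isIso_iterate hg _) le_sup_right hk
    have h2 : IsPAut p (P ⊔ U) g := isPAut_of_iterate k h1
    have h3 : IsPAut p P g := h2.mono le_sup_left
    exact isPAut_congr' hf hgf h3
  exact not_allP_of_NT hUS hN hnt hallN

/-- **Main theorem**. -/
theorem frobGoal_all : ∀ n : ℕ, FrobGoal.{u} p n := by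
  intro n
  induction n using Nat.strong_induction_on with
  | _ n ih =>
    intro Ω _ S _ hcard hS F hF hfr hch
    by_cases hSbot : S = ⊥
    · exact allP_of_eq_bot hSbot
    have hZne : (zFun p).W S ≠ ⊥ := (zFun p).ne_bot S inferInstance hS hSbot
    have hJne : (jFun p).W S ≠ ⊥ := (jFun p).ne_bot S inferInstance hS hSbot
    have hZ : ¬ NT p F ((zFun p).W S) :=
      not_NT_of_characteristic ih hcard hS hF hfr hch ((zFun p).le S) hZne
        (PFun_characteristic (zFun p) S hS)
    have hJ : ¬ NT p F ((jFun p).W S) :=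
      not_NT_of_characteristic ih hcard hS hF hfr hch ((jFun p).le S) hJne
        (PFun_characteristic (jFun p) S hS)
    exact thGoal_all (p := p) n hcard hS F hF hfr (fun h => hZ h.toNT) hJ

end Main

end Cfsg.Agent.Lib.H26.FrobChar
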