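import Mathlib
import Cfsg.Prelude.Def_FusionSystem
import Cfsg.Agent.Lib.H25.Fusion
import Cfsg.Agent.Lib.H26.FusionAbelian
import Cfsg.Agent.Lib.H26.Coprime

set_option autoImplicit false

/-!
Saturated fusion systems over an abelian `S`, continued (helper26): the centre is `C_S(Aut_F(S))`,
the focal subgroup is `[S, Aut_F(S)]`, and `S = Z(F) × foc(F)`.
-/

namespace Cfsg.Agent.Lib.H26

open Cfsg Cfsg.FusionSystem Cfsg.Agent.Lib.H25

variable {Ω : Type*} [Group Ω] {S : Subgroup Ω}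

/-- commutative group structure on an abelian subgroup. -/
@[reducible] def commGroupOfComm (hab : ∀ x ∈ S, ∀ y ∈ S, x * y = y * x) : CommGroup S :=
  { (inferInstance : Group S) with mul_comm := fun a b => Subtype.ext (hab a a.2 b b.2) }

/-- a central subgroup is fixed by `Aut_F(S)`. -/
theorem central_le_fixed (F : FusionSystem S) {Q : Subgroup Ω} (hQ : F.IsCentral Q) :
    Q ≤ (fixedSub (F.autGroup S)).map S.subtype := by
  intro q hq
  have hqS : q ∈ S := hQ.1 hq
  refine ⟨⟨q, hqS⟩, ?_, rfl⟩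
  intro α hα
  have hα' := (mem_autGroup_iff F le_rfl α).1 hα
  obtain ⟨ψ, -, hψS, hψQ⟩ := hQ.2 S _ hα'
  have h1 := hψS ⟨q, hqS⟩
  have h2 := hψQ ⟨q, hq⟩
  have h12 : (Subgroup.inclusion (le_sup_left : S ≤ S ⊔ Q) ⟨q, hqS⟩) =
      Subgroup.inclusion (le_sup_right : Q ≤ S ⊔ Q) ⟨q, hq⟩ := Subtype.ext rfl
  rw [h12, h2] at h1
  apply Subtype.ext
  exact h1.symm

theorem center_eq_of_comm [Finite S] (F : FusionSystem S) (p : ℕ) (hF : F.IsSaturated p)
    (hab : ∀ x ∈ S, ∀ y ∈ S, x * y = y * x) :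
    F.center = (fixedSub (F.autGroup S)).map S.subtype := by
  apply le_antisymm
  · exact sSup_le fun Q hQ => central_le_fixed F hQ
  · apply le_sSup
    have hCS : (fixedSub (F.autGroup S)).map S.subtype ≤ S := Subgroup.map_subtype_le _
    refine ⟨hCS, fun P φ hφ => ?_⟩
    have hP : P ≤ S := hom_le F hφ
    obtain ⟨f, hf, hfφ⟩ := exists_isIso_top_of_comm F p hF hab hφ
    obtain ⟨Q', -, hiso, -⟩ := hf.restrict (sup_le hP hCS)
    obtain ⟨ψ, hψ, hψf, -⟩ := hiso.exists_hom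
    obtain ⟨α, hα, hαf⟩ := exists_mem_autGroup_of_isIso F hf
    refine ⟨ψ, hψ, fun x => ?_, fun c => ?_⟩
    · rw [hψf]; exact hfφ x
    · rw [hψf]
      obtain ⟨c', hc', hcc'⟩ := c.2
      show f (c : Ω) = c
      rw [← hcc']
      show f (c' : Ω) = c'
      rw [← hαf c', hc' α hα]

theorem focal_eq_of_comm [Finite S] (F : FusionSystem S) (p : ℕ) (hF : F.IsSaturated p)
    (hab : ∀ x ∈ S, ∀ y ∈ S, x * y = y * x) :
    F.focalSubgroup = (commSub (F.autGroup S)).map S.subtype := by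
  apply le_antisymm
  · unfold FusionSystem.focalSubgroup
    rw [Subgroup.closure_le]
    rintro _ ⟨P, φ, x, hφ, rfl⟩
    obtain ⟨α, hα, hαφ⟩ := exists_aut_extension_of_comm F p hF hab hφ
    refine ⟨(⟨x, hom_le F hφ x.2⟩ : S)⁻¹ * α ⟨x, hom_le F hφ x.2⟩,
      Subgroup.subset_closure ⟨_, α, hα, rfl⟩, ?_⟩
    show ((x : Ω))⁻¹ * ((α ⟨x, hom_le F hφ x.2⟩ : S) : Ω) = _
    rw [hαφ]
  · rw [Subgroup.map_le_iff_le_comap]
    unfold commSub
    rw [Subgroup.closure_le]
    rintro _ ⟨m, α, hα, rfl⟩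
    show ((m⁻¹ * α m : S) : Ω) ∈ F.focalSubgroup
    apply Subgroup.subset_closure
    exact ⟨S, S.subtype.comp α.toMonoidHom, m, (mem_autGroup_iff F le_rfl α).1 hα, rfl⟩

/-- `S = Z(F) × foc(F)` for a saturated fusion system over a finite abelian `p`-group. -/
theorem center_focal_of_comm [Finite S] (F : FusionSystem S) (p : ℕ) [Fact p.Prime]
    (hS : IsPGroup p S) (hF : F.IsSaturated p) (hab : ∀ x ∈ S, ∀ y ∈ S, x * y = y * x) :
    F.center ⊓ F.focalSubgroup = ⊥ ∧ F.center ⊔ F.focalSubgroup = S := by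
  rw [center_eq_of_comm F p hF hab, focal_eq_of_comm F p hF hab]
  letI := commGroupOfComm hab
  have hcop : (Nat.card (F.autGroup S)).Coprime (Nat.card S) := by
    obtain ⟨n, hn⟩ := hS.exists_card_eq
    rw [hn]
    exact Nat.Coprime.pow_right n (card_autGroup_top_coprime_of_comm F p hF hab)
  have h1 := fixedSub_inf_commSub (F.autGroup S) hcop
  have h2 := fixedSub_sup_commSub (F.autGroup S) hcop
  constructor
  · rw [← Subgroup.map_inf _ _ S.subtype S.subtype_injective]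
    have : fixedSub (F.autGroup S) ⊓ commSub (F.autGroup S) = ⊥ := h1
    rw [this, Subgroup.map_bot]
  · rw [← Subgroup.map_sup]
    have : fixedSub (F.autGroup S) ⊔ commSub (F.autGroup S) = ⊤ := h2
    rw [this, ← MonoidHom.range_eq_map, Subgroup.range_subtype]

end Cfsg.Agent.Lib.H26
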