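import Mathlib
import Cfsg.Prelude.Def_FusionSystem
import Cfsg.Agent.Lib.H25.Fusion
import Cfsg.Agent.Lib.H25.Saturation
import Cfsg.Agent.Lib.H25.SatEquiv
import Cfsg.Agent.Lib.H25.Normal
import Cfsg.Agent.Lib.H1.PGroupBasic
import Cfsg.Agent.Lib.H18.PGroupP4

set_option autoImplicit false

/-!
S5233 (helper26): strongly closed subgroups `P` with `Φ(P) = P'` of order `p`.  Basic facts on
`Z₀ = ⁅P, P⁆`.
-/

namespace Cfsg.Agent.Lib.H26.GXS

open Cfsg Cfsg.FusionSystem Cfsg.Agent.Lib.H25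

variable {Ω : Type*} [Group Ω] {S : Subgroup Ω}

/-- the commutator subgroup of `P`, inside the ambient group -/
theorem map_commutator_eq (P : Subgroup Ω) : (commutator ↥P).map P.subtype = ⁅P, P⁆ := by
  rw [commutator_def, Subgroup.map_commutator, ← MonoidHom.range_eq_map, Subgroup.range_subtype]

theorem card_comm_eq (P : Subgroup Ω) : Nat.card ↥⁅P, P⁆ = Nat.card ↥(commutator ↥P) := by
  rw [← map_commutator_eq]
  exact (Nat.card_congr
    ((commutator ↥P).equivMapOfInjective P.subtype P.subtype_injective).toEquiv).symm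

theorem comm_le (P : Subgroup Ω) : ⁅P, P⁆ ≤ P := by
  rw [Subgroup.commutator_le]
  intro a ha b hb
  exact P.mul_mem (P.mul_mem (P.mul_mem ha hb) (P.inv_mem ha)) (P.inv_mem hb)

theorem comm_mem {P : Subgroup Ω} {a b : Ω} (ha : a ∈ P) (hb : b ∈ P) :
    a * b * a⁻¹ * b⁻¹ ∈ ⁅P, P⁆ := Subgroup.commutator_mem_commutator ha hb

theorem pow_mem_comm [Finite S] {p : ℕ} [Fact p.Prime] (hS : IsPGroup p S) {P : Subgroup Ω}
    (hPS : P ≤ S) (hfr : frattini ↥P = commutator ↥P) {g : Ω} (hg : g ∈ P) : g ^ p ∈ ⁅P, P⁆ := by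
  have hfin : Finite ↥P := finite_of_le S hPS
  have hPp : IsPGroup p ↥P := hS.to_le hPS
  have h1 := Cfsg.Agent.Lib.H1.isPGroup_pow_mem_frattini hPp (⟨g, hg⟩ : ↥P)
  rw [hfr] at h1
  rw [← map_commutator_eq]
  exact ⟨⟨g, hg⟩ ^ p, h1, rfl⟩

/-- elements of `S` normalize `⁅P, P⁆` when they normalize `P` -/
theorem conj_mem_comm {P : Subgroup Ω} {s : Ω} (hs : s ∈ Subgroup.normalizer (P : Set Ω)) {z : Ω}
    (hz : z ∈ ⁅P, P⁆) : s * z * s⁻¹ ∈ ⁅P, P⁆ := by
  have hmap : P.map (MulAut.conj s).toMonoidHom = P := by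
    ext y
    constructor
    · rintro ⟨x, hx, rfl⟩
      exact (Subgroup.mem_normalizer_iff.1 hs x).1 hx
    · intro hy
      refine ⟨s⁻¹ * y * s, ?_, by simp [mul_assoc]⟩
      have := (Subgroup.mem_normalizer_iff.1 (Subgroup.inv_mem _ hs) y).1 hy
      simpa using this
  have h2 : (⁅P, P⁆).map (MulAut.conj s).toMonoidHom = ⁅P, P⁆ := by
    rw [Subgroup.map_commutator, hmap]
  rw [← h2]
  exact ⟨z, hz, rfl⟩

/-- `⁅P, P⁆` of order `p` is central in `S` when `S` normalizes `P`. -/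
theorem comm_central [Finite S] {p : ℕ} [Fact p.Prime] (hS : IsPGroup p S) {P : Subgroup Ω}
    (hPS : P ≤ S) (hN : S ≤ Subgroup.normalizer (P : Set Ω)) (hc : Nat.card ↥⁅P, P⁆ = p)
    {s z : Ω} (hs : s ∈ S) (hz : z ∈ ⁅P, P⁆) : s * z = z * s := by
  have hZS : ⁅P, P⁆ ≤ S := (comm_le P).trans hPS
  let N : Subgroup ↥S := (⁅P, P⁆).subgroupOf S
  have hNn : N.Normal := by
    constructor
    intro n hn g
    rw [Subgroup.mem_subgroupOf] at hn ⊢
    exact conj_mem_comm (hN g.2) hn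
  have hNc : Nat.card N = p := by
    rw [← hc]
    exact Nat.card_congr (Subgroup.subgroupOfEquivOfLe hZS).toEquiv
  have h1 := Cfsg.Agent.Lib.H18.le_center_of_normal_of_card_prime p hS N hNc
  have hzN : (⟨z, hZS hz⟩ : ↥S) ∈ N := by
    rw [Subgroup.mem_subgroupOf]; exact hz
  have h2 := h1 hzN
  rw [Subgroup.mem_center_iff] at h2
  have h3 := h2 ⟨s, hs⟩
  exact congrArg Subtype.val h3

end Cfsg.Agent.Lib.H26.GXS
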