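import Cfsg.Agent.Lib.H26.GXSBasic
import Cfsg.Agent.Lib.H26.MetaSCExt

set_option autoImplicit false

/-!
S5233 (helper26): the core configuration.  `t ∈ P ∖ Z₀` and an isomorphism `f` of the system on
`C_S(t)` with `f t = z ∈ Z₀`, `z ≠ 1`.  Then `B = C_P(t)` is elementary abelian of index `p`.
-/

namespace Cfsg.Agent.Lib.H26.GXS

open Cfsg Cfsg.FusionSystem Cfsg.Agent.Lib.H25 Cfsg.Agent.Lib.H26.MetaSC

variable {Ω : Type*} [Group Ω] {S : Subgroup Ω}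

/-- the core configuration -/
structure Core (F : FusionSystem S) (P : Subgroup Ω) (t z : Ω) (f : Ω → Ω) (C' : Subgroup Ω) :
    Prop where
  ht : t ∈ P
  htz : t ∉ ⁅P, P⁆
  hz : z ∈ ⁅P, P⁆
  hz1 : z ≠ 1
  iso : IsIso F (centralizerIn S (Subgroup.zpowers t)) C' f
  hft : f t = z

/-- the subgroup `C_P(t)` -/
def cen (S P : Subgroup Ω) (t : Ω) : Subgroup Ω := P ⊓ centralizerIn S (Subgroup.zpowers t)

theorem mem_cenS_iff {S : Subgroup Ω} {t g : Ω} :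
    g ∈ centralizerIn S (Subgroup.zpowers t) ↔ g ∈ S ∧ g * t = t * g := by
  unfold centralizerIn
  rw [Subgroup.mem_inf, Subgroup.mem_centralizer_iff]
  constructor
  · rintro ⟨h1, h3⟩
    exact ⟨h1, (h3 t (Subgroup.mem_zpowers t)).symm⟩
  · rintro ⟨h1, h2⟩
    refine ⟨h1, ?_⟩
    intro y hy
    obtain ⟨k, rfl⟩ := Subgroup.mem_zpowers_iff.1 hy
    exact ((Commute.zpow_right (show Commute g t from h2) k).eq).symm

theorem mem_cen_iff {S P : Subgroup Ω} (hPS : P ≤ S) {t g : Ω} :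
    g ∈ cen S P t ↔ g ∈ P ∧ g * t = t * g := by
  unfold cen
  rw [Subgroup.mem_inf, mem_cenS_iff]
  constructor
  · rintro ⟨h1, -, h3⟩
    exact ⟨h1, h3⟩
  · rintro ⟨h1, h2⟩
    exact ⟨h1, hPS h1, h2⟩

section

variable [Finite S] {p : ℕ} [Fact p.Prime] (hS : IsPGroup p S) {F : FusionSystem S}
  {P : Subgroup Ω} (hP : F.StronglyClosed P) (hfr : frattini ↥P = commutator ↥P)
  (hc : Nat.card ↥⁅P, P⁆ = p) {t z : Ω} {f : Ω → Ω} {C' : Subgroup Ω} (hK : Core F P t z f C')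

include hc in
/-- every element of `Z₀` is a power of a nontrivial element of `Z₀` -/
theorem exists_pow_eq {z y : Ω} (hz : z ∈ ⁅P, P⁆) (hz1 : z ≠ 1) (hy : y ∈ ⁅P, P⁆) :
    ∃ k : ℕ, y = z ^ k := by
  have hp : p.Prime := Fact.out
  have hfin : Finite ↥⁅P, P⁆ := Nat.finite_of_card_ne_zero (by rw [hc]; exact hp.pos.ne')
  have hzo : orderOf (⟨z, hz⟩ : ↥⁅P, P⁆) = p := by
    have h1 : orderOf (⟨z, hz⟩ : ↥⁅P, P⁆) ∣ p := hc ▸ orderOf_dvd_natCard _
    rcases (Nat.dvd_prime hp).1 h1 with h | h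
    · exfalso
      rw [orderOf_eq_one_iff] at h
      exact hz1 (congrArg Subtype.val h)
    · exact h
  have htop : Subgroup.zpowers (⟨z, hz⟩ : ↥⁅P, P⁆) = ⊤ := by
    apply Subgroup.eq_top_of_card_eq
    rw [Nat.card_zpowers, hzo, hc]
  have hy' : (⟨y, hy⟩ : ↥⁅P, P⁆) ∈ Subgroup.zpowers (⟨z, hz⟩ : ↥⁅P, P⁆) := by
    rw [htop]; trivial
  obtain ⟨k, hk⟩ := (Subgroup.mem_zpowers_iff.1 hy')
  refine ⟨(k % (p : ℤ)).toNat, ?_⟩
  have hk2 : (⟨z, hz⟩ : ↥⁅P, P⁆) ^ k = (⟨z, hz⟩ : ↥⁅P, P⁆) ^ (k % (p : ℤ)) := by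
    rw [← hzo]; exact (zpow_mod_orderOf _ _).symm
  have hnn : 0 ≤ k % (p : ℤ) := Int.emod_nonneg _ (by exact_mod_cast hp.pos.ne')
  have hk3 : (⟨z, hz⟩ : ↥⁅P, P⁆) ^ (k % (p : ℤ)) = (⟨z, hz⟩ : ↥⁅P, P⁆) ^ (k % (p : ℤ)).toNat := by
    conv_lhs => rw [← Int.toNat_of_nonneg hnn]
    exact zpow_natCast _ _
  have := congrArg Subtype.val (hk.symm.trans (hk2.trans hk3))
  simpa using this

include hS hP hc in
theorem z0_central {s y : Ω} (hs : s ∈ S) (hy : y ∈ ⁅P, P⁆) : s * y = y * s :=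
  comm_central hS hP.1 (stronglyClosed_le_normalizer hP) hc hs hy

include hS hP hc in
theorem z0_le_cenS {y : Ω} (hy : y ∈ ⁅P, P⁆) (t : Ω) (ht : t ∈ S) :
    y ∈ centralizerIn S (Subgroup.zpowers t) := by
  rw [mem_cenS_iff]
  exact ⟨hP.1 (comm_le P hy), (z0_central hS hP hc ht hy).symm⟩

include hP hK in
theorem map_mem_P {g : Ω} (hg : g ∈ cen S P t) : f g ∈ P := by
  obtain ⟨Q', -, hQ', -⟩ := hK.iso.restrict (inf_le_right : cen S P t ≤ _)
  exact stronglyClosed_map_mem hP hQ' inf_le_left hg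

include hK in
theorem t_mem_cenS (htS : t ∈ S) : t ∈ centralizerIn S (Subgroup.zpowers t) := by
  rw [mem_cenS_iff]
  exact ⟨htS, rfl⟩

include hS hP hc hK in
/-- `f` does not map a nontrivial element of `Z₀` into `Z₀`. -/
theorem map_not_mem {y : Ω} (hy : y ∈ ⁅P, P⁆) (hy1 : y ≠ 1) : f y ∉ ⁅P, P⁆ := by
  intro hfy
  have htS : t ∈ S := hP.1 hK.ht
  have hyC := z0_le_cenS hS hP hc hy t htS
  have hzC := z0_le_cenS hS hP hc hK.hz t htS
  have htC := t_mem_cenS hK htS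
  -- z is a power of y, so f z ∈ Z₀
  obtain ⟨k, hk⟩ := exists_pow_eq hc hy hy1 hK.hz
  have hfz : f z ∈ ⁅P, P⁆ := by
    rw [hk, IsIso.map_pow' hK.iso hyC k]
    exact Subgroup.pow_mem _ hfy k
  -- f z is a power of z = f t
  obtain ⟨m, hm⟩ := exists_pow_eq hc hK.hz hK.hz1 hfz
  have hm2 : f z = f (t ^ m) := by
    rw [IsIso.map_pow' hK.iso htC m, hK.hft]; exact hm
  have h1 : z = t ^ m := hK.iso.injOn hzC (Subgroup.pow_mem _ htC m) hm2
  -- then t is a power of z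
  have hp : p.Prime := Fact.out
  have hzp : z ^ p = 1 := by
    have hfin : Finite ↥⁅P, P⁆ := Nat.finite_of_card_ne_zero (by rw [hc]; exact hp.pos.ne')
    have := pow_card_eq_one' (G := ↥⁅P, P⁆) (x := ⟨z, hK.hz⟩)
    rw [hc] at this
    exact congrArg Subtype.val this
  have htp : t ^ p = 1 := by
    have h2 : f (t ^ p) = f 1 := by
      rw [IsIso.map_pow' hK.iso htC p, hK.hft, hzp, hK.iso.map_one]
    exact hK.iso.injOn (Subgroup.pow_mem _ htC p) (Subgroup.one_mem _) h2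
  have hcop : Nat.Coprime m p := by
    rw [Nat.coprime_comm, hp.coprime_iff_not_dvd]
    rintro ⟨q, rfl⟩
    apply hK.hz1
    rw [h1, pow_mul, htp, one_pow]
  obtain ⟨u, -, hu⟩ := Nat.exists_mul_mod_eq_one_of_coprime hcop hp.one_lt
  have h3 : t = z ^ u := by
    rw [h1, ← pow_mul]
    have h4 : t ^ (m * u) = t ^ (m * u % p) := by
      conv_lhs => rw [← Nat.div_add_mod (m * u) p, pow_add, pow_mul, htp, one_pow, one_mul]
    rw [h4, hu, pow_one]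
  exact hK.htz (h3 ▸ Subgroup.pow_mem _ hK.hz u)

end

end Cfsg.Agent.Lib.H26.GXS
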