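import Cfsg.Agent.Lib.H26.GXSCore
import Cfsg.Agent.Lib.H25.Alperin
import Cfsg.Agent.Lib.H25.NormalSeries

set_option autoImplicit false

/-!
S5233 (helper26): in the core configuration, `B = C_P(t)` is elementary abelian of index `p`;
the core configuration exists as soon as `Z₀ = ⁅P, P⁆` is not strongly closed.
-/

namespace Cfsg.Agent.Lib.H26.GXS

open Cfsg Cfsg.FusionSystem Cfsg.Agent.Lib.H25 Cfsg.Agent.Lib.H26.MetaSC

variable {Ω : Type*} [Group Ω] {S : Subgroup Ω}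

theorem cen_le_cenS (S P : Subgroup Ω) (t : Ω) :
    cen S P t ≤ centralizerIn S (Subgroup.zpowers t) := inf_le_right

theorem cen_le (S P : Subgroup Ω) (t : Ω) : cen S P t ≤ P := inf_le_left

section

variable [Finite S] {p : ℕ} [Fact p.Prime] (hS : IsPGroup p S) {F : FusionSystem S}
  {P : Subgroup Ω} (hP : F.StronglyClosed P) (hfr : frattini ↥P = commutator ↥P)
  (hc : Nat.card ↥⁅P, P⁆ = p) {t z : Ω} {f : Ω → Ω} {C' : Subgroup Ω} (hK : Core F P t z f C')

include hS hP hc hK in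
/-- `C_P(t)` is abelian. -/
theorem cen_comm {a b : Ω} (ha : a ∈ cen S P t) (hb : b ∈ cen S P t) : a * b = b * a := by
  by_contra hne
  have haC := cen_le_cenS S P t ha
  have hbC := cen_le_cenS S P t hb
  have hcZ : a * b * a⁻¹ * b⁻¹ ∈ ⁅P, P⁆ := comm_mem ha.1 hb.1
  have hc1 : a * b * a⁻¹ * b⁻¹ ≠ 1 := by
    intro h
    apply hne
    calc a * b = (a * b * a⁻¹ * b⁻¹) * (b * a) := by group
      _ = b * a := by rw [h, one_mul]
  apply map_not_mem hS hP hc hK hcZ hc1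
  have h1 : f (a * b * a⁻¹ * b⁻¹) = f a * f b * (f a)⁻¹ * (f b)⁻¹ := by
    rw [hK.iso.map_mul (mul_mem (mul_mem haC hbC) (inv_mem haC)) (inv_mem hbC),
      hK.iso.map_mul (mul_mem haC hbC) (inv_mem haC), hK.iso.map_mul haC hbC,
      hK.iso.map_inv haC, hK.iso.map_inv hbC]
  rw [h1]
  exact comm_mem (map_mem_P hP hK ha) (map_mem_P hP hK hb)

include hS hP hfr hc hK in
/-- `C_P(t)` has exponent `p`. -/
theorem cen_pow {b : Ω} (hb : b ∈ cen S P t) : b ^ p = 1 := by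
  by_contra hne
  have hbC := cen_le_cenS S P t hb
  have h1 : b ^ p ∈ ⁅P, P⁆ := pow_mem_comm hS hP.1 hfr hb.1
  apply map_not_mem hS hP hc hK h1 hne
  rw [IsIso.map_pow' hK.iso hbC p]
  exact pow_mem_comm hS hP.1 hfr (map_mem_P hP hK hb)

end

section

variable [Finite S] {p : ℕ} [Fact p.Prime] (hS : IsPGroup p S) {F : FusionSystem S}
  {P : Subgroup Ω} (hP : F.StronglyClosed P) (hc : Nat.card ↥⁅P, P⁆ = p) {t : Ω} (ht : t ∈ P)

/-- the homomorphism `a ↦ [a, t]` from `P` to `Z₀` -/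
noncomputable def commHom [Finite S] {p : ℕ} [Fact p.Prime] (hS : IsPGroup p S)
    {F : FusionSystem S} {P : Subgroup Ω} (hP : F.StronglyClosed P)
    (hc : Nat.card ↥⁅P, P⁆ = p) {t : Ω} (ht : t ∈ P) : ↥P →* ↥⁅P, P⁆ where
  toFun a := ⟨a * t * (a : Ω)⁻¹ * t⁻¹, comm_mem a.2 ht⟩
  map_one' := by
    apply Subtype.ext
    simp
  map_mul' a b := by
    apply Subtype.ext
    show ((a : Ω) * b) * t * ((a : Ω) * b)⁻¹ * t⁻¹ =
      ((a : Ω) * t * (a : Ω)⁻¹ * t⁻¹) * ((b : Ω) * t * (b : Ω)⁻¹ * t⁻¹)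
    have h1 : (a : Ω) * ((b : Ω) * t * (b : Ω)⁻¹ * t⁻¹) = ((b : Ω) * t * (b : Ω)⁻¹ * t⁻¹) * a :=
      z0_central hS hP hc (hP.1 a.2) (comm_mem b.2 ht)
    have h2 : ((a : Ω) * t * (a : Ω)⁻¹ * t⁻¹) * ((b : Ω) * t * (b : Ω)⁻¹ * t⁻¹) =
        ((b : Ω) * t * (b : Ω)⁻¹ * t⁻¹) * ((a : Ω) * t * (a : Ω)⁻¹ * t⁻¹) :=
      z0_central hS hP hc (hP.1 (comm_le P (comm_mem a.2 ht))) (comm_mem b.2 ht)
    calc ((a : Ω) * b) * t * ((a : Ω) * b)⁻¹ * t⁻¹
        = ((a : Ω) * ((b : Ω) * t * (b : Ω)⁻¹ * t⁻¹)) * t * (a : Ω)⁻¹ * t⁻¹ := by group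
      _ = (((b : Ω) * t * (b : Ω)⁻¹ * t⁻¹) * a) * t * (a : Ω)⁻¹ * t⁻¹ := by rw [h1]
      _ = ((b : Ω) * t * (b : Ω)⁻¹ * t⁻¹) * ((a : Ω) * t * (a : Ω)⁻¹ * t⁻¹) := by group
      _ = _ := h2.symm

theorem commHom_apply (a : ↥P) :
    ((commHom hS hP hc ht a : ↥⁅P, P⁆) : Ω) = a * t * (a : Ω)⁻¹ * t⁻¹ := rfl

theorem commHom_ker : (commHom hS hP hc ht).ker = (cen S P t).subgroupOf P := by
  ext a
  rw [MonoidHom.mem_ker, Subgroup.mem_subgroupOf, mem_cen_iff hP.1]
  constructor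
  · intro h
    have h1 : (a : Ω) * t * (a : Ω)⁻¹ * t⁻¹ = 1 := by
      rw [← commHom_apply hS hP hc ht a, h]; rfl
    refine ⟨a.2, ?_⟩
    calc (a : Ω) * t = ((a : Ω) * t * (a : Ω)⁻¹ * t⁻¹) * (t * a) := by group
      _ = t * a := by rw [h1, one_mul]
  · rintro ⟨-, h⟩
    apply Subtype.ext
    rw [commHom_apply]
    show (a : Ω) * t * (a : Ω)⁻¹ * t⁻¹ = 1
    rw [h]; group

end

section

variable [Finite S] {p : ℕ} [Fact p.Prime] (hS : IsPGroup p S) {F : FusionSystem S}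
  {P : Subgroup Ω} (hP : F.StronglyClosed P) (hfr : frattini ↥P = commutator ↥P)
  (hc : Nat.card ↥⁅P, P⁆ = p) {t z : Ω} {f : Ω → Ω} {C' : Subgroup Ω} (hK : Core F P t z f C')

include hS hP hc hK in
/-- `C_P(t)` has index `p` in `P`. -/
theorem cen_index : ((cen S P t).subgroupOf P).index = p := by
  have hp : p.Prime := Fact.out
  have hfinZ : Finite ↥⁅P, P⁆ := Nat.finite_of_card_ne_zero (by rw [hc]; exact hp.pos.ne')
  rw [← commHom_ker hS hP hc hK.ht, Subgroup.index_ker]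
  have h1 : Nat.card ↥(commHom hS hP hc hK.ht).range ∣ p := by
    have := Subgroup.card_subgroup_dvd_card (commHom hS hP hc hK.ht).range
    rwa [hc] at this
  rcases (Nat.dvd_prime hp).1 h1 with h | h
  · exfalso
    -- then `P` is abelian
    have h2 : (commHom hS hP hc hK.ht).ker.index = 1 := by rw [Subgroup.index_ker, h]
    rw [Subgroup.index_eq_one, commHom_ker] at h2
    have h3 : P ≤ cen S P t := by
      intro a ha
      have : (⟨a, ha⟩ : ↥P) ∈ (cen S P t).subgroupOf P := by rw [h2]; trivial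
      exact this
    have h4 : ⁅P, P⁆ = ⊥ := by
      rw [Subgroup.commutator_eq_bot_iff_le_centralizer]
      intro a ha
      rw [Subgroup.mem_centralizer_iff]
      intro b hb
      exact cen_comm hS hP hc hK (h3 hb) (h3 ha)
    rw [h4] at hc
    rw [Subgroup.card_bot] at hc
    exact hp.one_lt.ne hc
  · exact h

end

section

variable [Finite S] {p : ℕ} [Fact p.Prime] (hS : IsPGroup p S) {F : FusionSystem S}
  (hF : F.IsSaturated p) {P : Subgroup Ω} (hP : F.StronglyClosed P)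
  (hc : Nat.card ↥⁅P, P⁆ = p)

include hS hP hc in
theorem z0_fullyCentralized : F.IsFullyCentralized ⁅P, P⁆ := by
  have hZS : ⁅P, P⁆ ≤ S := (comm_le P).trans hP.1
  refine ⟨hZS, fun Q _ => ?_⟩
  have h1 : S ≤ centralizerIn S ⁅P, P⁆ := by
    intro s hs
    refine ⟨hs, ?_⟩
    show s ∈ Subgroup.centralizer _
    rw [Subgroup.mem_centralizer_iff]
    intro y hy
    exact (z0_central hS hP hc hs hy).symm
  have hfin : Finite ↥(centralizerIn S ⁅P, P⁆) := finite_of_le S inf_le_left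
  exact Subgroup.card_le_of_le ((inf_le_left : centralizerIn S Q ≤ S).trans h1)

include hS hF hP hc in
theorem z0_receptive : F.IsReceptive ⁅P, P⁆ :=
  isReceptive_of_fullyCentralized hS hF (z0_fullyCentralized hS hP hc)

include hS hF hP hc in
/-- an isomorphism of the system from `Z₀` onto `⟨w⟩` gives a core configuration on `w` -/
theorem core_of_iso {z w : Ω} {f₀ : Ω → Ω} (hz : z ∈ ⁅P, P⁆) (hz1 : z ≠ 1) (hw : w ∈ P)
    (hwz : w ∉ ⁅P, P⁆) (hiso : IsIso F ⁅P, P⁆ (Subgroup.zpowers w) f₀) (hfz : f₀ z = w) :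
    ∃ (f : Ω → Ω) (C' : Subgroup Ω), Core F P w z f C' := by
  obtain ⟨g₀, hg₀, hg₀f, -⟩ := hiso.symm
  have hrec := z0_receptive hS hF hP hc
  have hwS : w ∈ S := hP.1 hw
  have hN : ∀ g ∈ centralizerIn S (Subgroup.zpowers w), g ∈ S ∧
      g ∈ Subgroup.normalizer ((Subgroup.zpowers w : Subgroup Ω) : Set Ω) ∧
      ∃ h ∈ S, ∀ x ∈ Subgroup.zpowers w, g₀ (g * x * g⁻¹) = h * g₀ x * h⁻¹ := by
    intro g hg
    refine ⟨hg.1, Subgroup.centralizer_le_normalizer _ hg.2, 1, S.one_mem, fun x hx => ?_⟩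
    have h1 := (Subgroup.mem_centralizer_iff.1 hg.2) x hx
    have h2 : g * x * g⁻¹ = x := by rw [← h1]; group
    rw [h2]; simp
  obtain ⟨f', N', hiso', hext⟩ := IsReceptive_extend hrec hg₀ _ hN
  refine ⟨f', N', ⟨hw, hwz, hz, hz1, hiso', ?_⟩⟩
  have hwC : w ∈ centralizerIn S (Subgroup.zpowers w) := by
    rw [mem_cenS_iff]; exact ⟨hwS, rfl⟩
  rw [hext w (Subgroup.mem_zpowers w) hwC, ← hfz]
  exact hg₀f z hz

include hS hF hP hc in
/-- If there is no core configuration then `Z₀` is strongly closed. -/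
theorem stronglyClosed_comm_of_no_core
    (hno : ∀ (t z : Ω) (f : Ω → Ω) (C' : Subgroup Ω), ¬ Core F P t z f C') :
    F.StronglyClosed ⁅P, P⁆ := by
  have hp : p.Prime := Fact.out
  have hfinZ : Finite ↥⁅P, P⁆ := Nat.finite_of_card_ne_zero (by rw [hc]; exact hp.pos.ne')
  refine ⟨(comm_le P).trans hP.1, ?_⟩
  intro R hR φ hφ x
  by_contra hx
  have hx1 : (x : Ω) ≠ 1 := by
    intro h
    have : x = 1 := Subtype.ext h
    rw [this, map_one] at hx
    exact hx (Subgroup.one_mem _)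
  have hRe : R = ⁅P, P⁆ := by
    apply Subgroup.eq_of_le_of_card_ge hR
    have h1 : Nat.card ↥R ∣ p := hc ▸ Subgroup.card_dvd_of_le hR
    rcases (Nat.dvd_prime hp).1 h1 with h | h
    · exfalso
      rw [Subgroup.card_eq_one] at h
      have h5 : (x : Ω) ∈ (⊥ : Subgroup Ω) := h ▸ x.2
      rw [Subgroup.mem_bot] at h5
      exact hx1 h5
    · rw [h, hc]
  subst hRe
  have hiso₀ : IsIso F ⁅P, P⁆ φ.range (ext1 φ) := isIso_of_mem F hφ
  have hrange : φ.range = Subgroup.zpowers (φ x) := by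
    apply le_antisymm
    · rintro _ ⟨y, rfl⟩
      obtain ⟨k, hk⟩ := exists_pow_eq hc x.2 hx1 y.2
      have : y = x ^ k := Subtype.ext (by rw [hk]; rfl)
      rw [this, map_pow]
      exact Subgroup.pow_mem _ (Subgroup.mem_zpowers _) k
    · rw [Subgroup.zpowers_le]
      exact ⟨x, rfl⟩
  rw [hrange] at hiso₀
  obtain ⟨f, C', hcore⟩ := core_of_iso hS hF hP hc x.2 hx1
    (hP.2 _ (comm_le P) φ hφ x) hx hiso₀ (ext1_apply φ x)
  exact hno _ _ _ _ hcore

include hS hF hP hc in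
/-- If there is no core configuration then `P` is normal in the system. -/
theorem isNormal_of_no_core
    (hno : ∀ (t z : Ω) (f : Ω → Ω) (C' : Subgroup Ω), ¬ Core F P t z f C') :
    F.IsNormal P := by
  have hsc := stronglyClosed_comm_of_no_core hS hF hP hc hno
  refine isNormal_of_series hS hF
    (fun i => match i with
      | 0 => ⊥
      | 1 => ⁅P, P⁆
      | _ => P) 2 rfl rfl ?_ ?_ ?_
  · intro i hi
    interval_cases i
    · exact bot_le
    · exact comm_le P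
  · intro i hi
    interval_cases i
    · exact stronglyClosed_bot F
    · exact hsc
    · exact hP
  · intro i hi
    interval_cases i
    · show ⁅P, ⁅P, P⁆⁆ ≤ ⊥
      rw [le_bot_iff, Subgroup.commutator_eq_bot_iff_le_centralizer]
      intro a ha
      rw [Subgroup.mem_centralizer_iff]
      intro y hy
      exact (z0_central hS hP hc (hP.1 ha) hy).symm
    · exact le_rfl

end

end Cfsg.Agent.Lib.H26.GXS
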