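import Cfsg.Agent.Lib.H26.GXSCore2

set_option autoImplicit false

/-!
S5233 (helper26): the torus case, preparation.  `p` odd, core configuration, and every element of
`P` outside `B = C_P(t)` has `p`-th power `≠ 1`.
-/

namespace Cfsg.Agent.Lib.H26.GXS

open Cfsg Cfsg.FusionSystem Cfsg.Agent.Lib.H25 Cfsg.Agent.Lib.H26.MetaSC

variable {Ω : Type*} [Group Ω] {S : Subgroup Ω}

/-- integer powers under a function-level isomorphism -/
theorem isIso_map_zpow {F : FusionSystem S} {P Q : Subgroup Ω} {f : Ω → Ω} (h : IsIso F P Q f)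
    {x : Ω} (hx : x ∈ P) (n : ℤ) : f (x ^ n) = f x ^ n := by
  cases n with
  | ofNat n =>
    simp only [Int.ofNat_eq_natCast, zpow_natCast]
    exact IsIso.map_pow' h hx n
  | negSucc n =>
    simp only [zpow_negSucc]
    rw [h.map_inv (P.pow_mem hx _), IsIso.map_pow' h hx]

theorem map_conj_eq_self {B : Subgroup Ω} {x : Ω} (hxN : x ∈ Subgroup.normalizer (B : Set Ω)) :
    B.map (MulAut.conj x).toMonoidHom = B := by
  ext y
  constructor
  · rintro ⟨b, hb, rfl⟩
    exact (Subgroup.mem_normalizer_iff.1 hxN b).1 hb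
  · intro hy
    refine ⟨x⁻¹ * y * x, ?_, by simp [mul_assoc]⟩
    have := (Subgroup.mem_normalizer_iff.1 (Subgroup.inv_mem _ hxN) y).1 hy
    simpa using this

theorem isIso_conj_self {F : FusionSystem S} {B : Subgroup Ω} (hBS : B ≤ S) {x : Ω} (hxS : x ∈ S)
    (hxN : x ∈ Subgroup.normalizer (B : Set Ω)) : IsIso F B B (fun y => x * y * x⁻¹) := by
  have h := IsIso.conj (F := F) hBS hxS
  rwa [map_conj_eq_self hxN] at h

/-- powers of an automorphism induced by conjugation -/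
theorem conj_pow_apply {B : Subgroup Ω} {x : Ω} (σ : MulAut ↥B)
    (hσ : ∀ b : ↥B, ((σ b : ↥B) : Ω) = x * b * x⁻¹) (k : ℕ) (b : ↥B) :
    (((σ ^ k) b : ↥B) : Ω) = x ^ k * b * (x ^ k)⁻¹ := by
  induction k generalizing b with
  | zero => simp
  | succ k ih =>
    rw [pow_succ, MulAut.mul_apply, ih, hσ, pow_succ]
    group

/-- the final commutator computation -/
theorem comm_pow_calc {x w c u : Ω} (hc : x * w * x⁻¹ = c * w) (hcw : c * w = w * c)
    (hxu : x * u * x⁻¹ = u) (j : ℕ) :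
    x * (w ^ j * u) * x⁻¹ * (w ^ j * u)⁻¹ = c ^ j := by
  have h1 : x * w ^ j * x⁻¹ = c ^ j * w ^ j := by
    rw [← conj_pow, hc]
    exact (show Commute c w from hcw).mul_pow j
  calc x * (w ^ j * u) * x⁻¹ * (w ^ j * u)⁻¹
      = (x * w ^ j * x⁻¹) * (x * u * x⁻¹) * u⁻¹ * (w ^ j)⁻¹ := by group
    _ = c ^ j * w ^ j * u * u⁻¹ * (w ^ j)⁻¹ := by rw [h1, hxu]
    _ = c ^ j := by group

section

variable [Finite S] {p : ℕ} [Fact p.Prime] (hS : IsPGroup p S) {F : FusionSystem S}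
  (hF : F.IsSaturated p) {P : Subgroup Ω} (hP : F.StronglyClosed P)
  (hfr : frattini ↥P = commutator ↥P)
  (hc : Nat.card ↥⁅P, P⁆ = p) {t z : Ω} {f : Ω → Ω} {C' : Subgroup Ω} (hK : Core F P t z f C')
  (hno : ∀ y ∈ P, y ∉ cen S P t → y ^ p ≠ 1)

include hS hP hfr hc hK hno in
theorem mem_cen_iff_pow {g : Ω} : g ∈ cen S P t ↔ g ∈ P ∧ g ^ p = 1 := by
  constructor
  · intro hg
    exact ⟨cen_le S P t hg, cen_pow hS hP hfr hc hK hg⟩
  · rintro ⟨hg, hgp⟩
    by_contra h
    exact hno g hg h hgp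

include hS hP hfr hc hK hno in
theorem cen_stronglyClosed : F.StronglyClosed (cen S P t) := by
  refine ⟨(cen_le S P t).trans hP.1, fun R hR φ hφ x => ?_⟩
  rw [mem_cen_iff_pow hS hP hfr hc hK hno]
  refine ⟨hP.2 R (hR.trans (cen_le S P t)) φ hφ x, ?_⟩
  have h1 : (x : Ω) ^ p = 1 := ((mem_cen_iff_pow hS hP hfr hc hK hno).1 (hR x.2)).2
  have h2 : x ^ p = 1 := Subtype.ext (by simpa using h1)
  rw [← map_pow, h2, map_one]

include hS hP hfr hc hK hno in
theorem cen_fullyNormalized : F.IsFullyNormalized (cen S P t) := by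
  have hsc := cen_stronglyClosed hS hP hfr hc hK hno
  refine ⟨hsc.1, fun Q _ => ?_⟩
  rw [stronglyClosed_normalizerIn_eq hsc]
  exact Subgroup.card_le_of_le inf_le_left

include hS hP hfr hc hK hno in
theorem cen_iso : IsIso F (cen S P t) (cen S P t) f := by
  have hsc := cen_stronglyClosed hS hP hfr hc hK hno
  obtain ⟨Q', -, hQ', -⟩ := hK.iso.restrict (cen_le_cenS S P t)
  have hfin : Finite ↥(cen S P t) := finite_of_le S hsc.1
  have hle : Q' ≤ cen S P t := by
    intro y hy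
    obtain ⟨x, hx, rfl⟩ := hQ'.surjOn hy
    exact stronglyClosed_map_mem hsc hQ' le_rfl hx
  have : Q' = cen S P t := Subgroup.eq_of_le_of_card_ge hle hQ'.card_eq.le
  rwa [this] at hQ'

include hS hP hc hK in
theorem z_mem_cen : z ∈ cen S P t := by
  rw [mem_cen_iff hP.1]
  exact ⟨comm_le P hK.hz, (z0_central hS hP hc (hP.1 hK.ht) hK.hz).symm⟩

include hP hK in
theorem t_mem_cen : t ∈ cen S P t := by
  rw [mem_cen_iff hP.1]
  exact ⟨hK.ht, rfl⟩

include hS hF hP hc hK in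
/-- a core configuration on `w = f z` -/
theorem core_w : ∃ (f₂ : Ω → Ω) (C₂ : Subgroup Ω), Core F P (f z) z f₂ C₂ := by
  have hzB := z_mem_cen hS hP hc hK
  have hzC := cen_le_cenS S P t hzB
  have hiso : IsIso F ⁅P, P⁆ (Subgroup.zpowers (f z)) f := by
    apply hK.iso.restrict' (fun y hy => z0_le_cenS hS hP hc hy t (hP.1 hK.ht))
    · intro y hy
      obtain ⟨k, rfl⟩ := exists_pow_eq hc hK.hz hK.hz1 hy
      rw [IsIso.map_pow' hK.iso hzC k]
      exact Subgroup.pow_mem _ (Subgroup.mem_zpowers _) k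
    · intro y hy
      obtain ⟨k, rfl⟩ := Subgroup.mem_zpowers_iff.1 hy
      exact ⟨z ^ k, Subgroup.zpow_mem _ hK.hz k, isIso_map_zpow hK.iso hzC k⟩
  exact core_of_iso hS hF hP hc hK.hz hK.hz1 (map_mem_P hP hK hzB)
    (map_not_mem hS hP hc hK hK.hz hK.hz1) hiso rfl

include hS hF hP hfr hc hK hno in
theorem not_comm_w {x : Ω} (hxP : x ∈ P) (hxB : x ∉ cen S P t) : x * f z ≠ f z * x := by
  intro h
  obtain ⟨f₂, C₂, hK₂⟩ := core_w hS hF hP hc hK
  have hzB := z_mem_cen hS hP hc hK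
  have htB := t_mem_cen hP hK
  have hwB : f z ∈ cen S P t := (cen_iso hS hP hfr hc hK hno).map_mem hzB
  have h1 : x ∈ cen S P (f z) := (mem_cen_iff hP.1).2 ⟨hxP, h⟩
  have h2 : t ∈ cen S P (f z) := (mem_cen_iff hP.1).2 ⟨hK.ht, cen_comm hS hP hc hK htB hwB⟩
  apply hxB
  rw [mem_cen_iff hP.1]
  exact ⟨hxP, cen_comm hS hP hc hK₂ h1 h2⟩

include hS hP hc hK in
/-- `B ⟨x⟩ = P` for `x ∈ P ∖ B` -/
theorem cen_sup_eq {x : Ω} (hxP : x ∈ P) (hxB : x ∉ cen S P t) :
    cen S P t ⊔ Subgroup.zpowers x = P := by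
  have hp : p.Prime := Fact.out
  have hle : cen S P t ⊔ Subgroup.zpowers x ≤ P :=
    sup_le (cen_le S P t) ((Subgroup.zpowers_le).2 hxP)
  apply le_antisymm hle
  have h1 : (cen S P t).relIndex P = p := cen_index hS hP hc hK
  have h2 := Subgroup.relIndex_mul_relIndex (H := cen S P t)
    (K := cen S P t ⊔ Subgroup.zpowers x) (L := P) le_sup_left hle
  rw [h1] at h2
  have h3 : (cen S P t).relIndex (cen S P t ⊔ Subgroup.zpowers x) ≠ 1 := by
    rw [Ne, Subgroup.relIndex_eq_one]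
    intro h
    exact hxB (h (le_sup_right (a := cen S P t) (Subgroup.mem_zpowers x)))
  have h4 : (cen S P t).relIndex (cen S P t ⊔ Subgroup.zpowers x) ∣ p := ⟨_, h2.symm⟩
  rcases (Nat.dvd_prime hp).1 h4 with h | h
  · exact absurd h h3
  · rw [h] at h2
    have h5 : (cen S P t ⊔ Subgroup.zpowers x).relIndex P = 1 := by
      have := Nat.eq_of_mul_eq_mul_left hp.pos (h2.trans (mul_one p).symm)
      exact this
    exact Subgroup.relIndex_eq_one.1 h5

include hS hP hc hK in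
/-- there is an element of `P` outside `B` -/
theorem exists_not_mem_cen : ∃ x ∈ P, x ∉ cen S P t := by
  have hp : p.Prime := Fact.out
  by_contra h
  push_neg at h
  have h1 : ((cen S P t).subgroupOf P).index = p := cen_index hS hP hc hK
  have h2 : (cen S P t).subgroupOf P = ⊤ := by
    rw [eq_top_iff]
    intro a _
    exact h a a.2
  rw [h2, Subgroup.index_top] at h1
  exact hp.one_lt.ne h1

end

end Cfsg.Agent.Lib.H26.GXS
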