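import Cfsg.Agent.Lib.H26.GXSTorus
import Cfsg.Agent.Lib.H24.GXSTORUS
import Cfsg.Agent.Lib.H25.GXSAUT

set_option autoImplicit false

/-!
S5233 (helper26): the torus case.  `p` odd, core configuration, and every element of `P` outside
`B = C_P(t)` has `p`-th power `≠ 1`: contradiction.
-/

namespace Cfsg.Agent.Lib.H26.GXS

open Cfsg Cfsg.FusionSystem Cfsg.Agent.Lib.H25 Cfsg.Agent.Lib.H26.MetaSC

variable {Ω : Type*} [Group Ω] {S : Subgroup Ω}

section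

variable [Finite S] {p : ℕ} [Fact p.Prime] (hS : IsPGroup p S) {F : FusionSystem S}
  (hF : F.IsSaturated p) {P : Subgroup Ω} (hP : F.StronglyClosed P)
  (hfr : frattini ↥P = commutator ↥P)
  (hc : Nat.card ↥⁅P, P⁆ = p) {t z : Ω} {f : Ω → Ω} {C' : Subgroup Ω} (hK : Core F P t z f C')

include hS hP hfr hc hK in
/-- the three properties of `B = C_P(t)` as a subgroup of the group `↥P` -/
theorem cen_sub_props :
    ((cen S P t).subgroupOf P).index = p ∧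
    (∀ a ∈ (cen S P t).subgroupOf P, ∀ b ∈ (cen S P t).subgroupOf P, a * b = b * a) ∧
    (∀ a ∈ (cen S P t).subgroupOf P, a ^ p = 1) := by
  refine ⟨cen_index hS hP hc hK, fun a ha b hb => ?_, fun a ha => ?_⟩
  · exact Subtype.ext (cen_comm hS hP hc hK (Subgroup.mem_subgroupOf.1 ha)
      (Subgroup.mem_subgroupOf.1 hb))
  · apply Subtype.ext
    have := cen_pow hS hP hfr hc hK (Subgroup.mem_subgroupOf.1 ha)
    simpa using this

variable (hp2 : p ≠ 2) (hno : ∀ y ∈ P, y ∉ cen S P t → y ^ p ≠ 1)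

include hS hF hP hfr hc hK hp2 hno in
theorem core_torus_false : False := by
  have hp : p.Prime := Fact.out
  have hsc := cen_stronglyClosed hS hP hfr hc hK hno
  have hBS : cen S P t ≤ S := hsc.1
  have hBn := stronglyClosed_le_normalizer hsc
  have hBfn := cen_fullyNormalized hS hP hfr hc hK hno
  have hfB := cen_iso hS hP hfr hc hK hno
  have hzB := z_mem_cen hS hP hc hK
  have htB := t_mem_cen hP hK
  have hwB : f z ∈ cen S P t := hfB.map_mem hzB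
  obtain ⟨x, hxP, hxB⟩ := exists_not_mem_cen hS hP hc hK
  have hxS : x ∈ S := hP.1 hxP
  have hxN := hBn hxS
  have hxw := not_comm_w hS hF hP hfr hc hK hno hxP hxB
  -- the automorphisms
  obtain ⟨αf, hαf, hαfv⟩ := exists_mem_autGroup_of_isIso F hfB
  obtain ⟨σ, hσ, hσv⟩ := exists_mem_autGroup_of_isIso F (isIso_conj_self (F := F) hBS hxS hxN)
  have hτ : αf * σ * αf⁻¹ ∈ F.autGroup (cen S P t) :=
    Subgroup.mul_mem _ (Subgroup.mul_mem _ hαf hσ) (Subgroup.inv_mem _ hαf)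
  -- hypotheses of TORUS
  have hcomm : ∀ a b : ↥(cen S P t), a * b = b * a := fun a b =>
    Subtype.ext (cen_comm hS hP hc hK a.2 b.2)
  have hB : ∀ b : ↥(cen S P t), b ^ p = 1 := fun b => by
    apply Subtype.ext
    have := cen_pow hS hP hfr hc hK b.2
    simpa using this
  have hσ' : ∀ b : ↥(cen S P t), ∃ k : ℕ, σ b = b * (⟨z, hzB⟩ : ↥(cen S P t)) ^ k := by
    intro b
    have h1 : (b : Ω)⁻¹ * x * ((b : Ω)⁻¹)⁻¹ * x⁻¹ ∈ ⁅P, P⁆ :=
      comm_mem (P.inv_mem (cen_le S P t b.2)) hxP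
    obtain ⟨k, hk⟩ := exists_pow_eq hc hK.hz hK.hz1 h1
    refine ⟨k, Subtype.ext ?_⟩
    rw [hσv]
    show x * (b : Ω) * x⁻¹ = (b : Ω) * z ^ k
    rw [← hk]; group
  have hτ' : ∀ b : ↥(cen S P t), ∃ k : ℕ,
      (αf * σ * αf⁻¹) b = b * (αf ⟨z, hzB⟩) ^ k := by
    intro b
    obtain ⟨k, hk⟩ := hσ' (αf⁻¹ b)
    refine ⟨k, ?_⟩
    rw [MulAut.mul_apply, MulAut.mul_apply, hk, map_mul, map_pow, MulAut.apply_inv_self]
  have hσz : σ ⟨z, hzB⟩ = ⟨z, hzB⟩ := by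
    apply Subtype.ext
    rw [hσv]
    show x * z * x⁻¹ = z
    rw [z0_central hS hP hc hxS hK.hz]; group
  have hτw : (αf * σ * αf⁻¹) (αf ⟨z, hzB⟩) = αf ⟨z, hzB⟩ := by
    rw [MulAut.mul_apply, MulAut.mul_apply, MulAut.inv_apply_self, hσz]
  have hwv : ((αf ⟨z, hzB⟩ : ↥(cen S P t)) : Ω) = f z := hαfv ⟨z, hzB⟩
  have hσw : σ (αf ⟨z, hzB⟩) ≠ αf ⟨z, hzB⟩ := by
    intro h
    have h1 := congrArg Subtype.val h
    rw [hσv, hwv] at h1
    apply hxw
    calc x * f z = (x * f z * x⁻¹) * x := by group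
      _ = f z * x := by rw [h1]
  have hαt : αf ⟨t, htB⟩ = ⟨z, hzB⟩ := Subtype.ext (by rw [hαfv]; exact hK.hft)
  have hτz : (αf * σ * αf⁻¹) ⟨z, hzB⟩ ≠ ⟨z, hzB⟩ := by
    intro h
    rw [MulAut.mul_apply, MulAut.mul_apply, ← hαt, MulAut.inv_apply_self] at h
    have h1 := congrArg Subtype.val (αf.injective h)
    rw [hσv] at h1
    apply hxB
    rw [mem_cen_iff hP.1]
    refine ⟨hxP, ?_⟩
    calc x * t = (x * t * x⁻¹) * x := by group
      _ = t * x := by rw [h1]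
  obtain ⟨d, hd, ⟨k, hk⟩, j, i, hj, hdw⟩ :=
    Cfsg.Agent.Lib.H24.GXS.exists_torus hcomm p hp2 hB σ (αf * σ * αf⁻¹) ⟨z, hzB⟩
      (αf ⟨z, hzB⟩) hσ' hτ' hσz hτw hσw hτz
  have hdA : d ∈ F.autGroup (cen S P t) := by
    refine (Subgroup.closure_le _).2 ?_ hd
    rintro _ (rfl | rfl)
    · exact hσ
    · exact hτ
  have hfd := isIso_of_mem_autGroup F hBS hdA
  have hfdv : ∀ b : ↥(cen S P t),
      ext1 ((cen S P t).subtype.comp d.toMonoidHom) (b : Ω) = ((d b : ↥(cen S P t)) : Ω) :=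
    fun b => ext1_apply _ b
  -- the extension condition
  have hdσ : ∀ b : ↥(cen S P t), d (σ b) = (σ ^ k) (d b) := by
    intro b
    have h1 := congrArg (fun e : MulAut ↥(cen S P t) => e (d b)) hk
    simp only [MulAut.mul_apply, MulAut.inv_apply_self] at h1
    exact h1
  have hh : ∀ b ∈ cen S P t, ext1 ((cen S P t).subtype.comp d.toMonoidHom) (x * b * x⁻¹) =
      x ^ k * ext1 ((cen S P t).subtype.comp d.toMonoidHom) b * (x ^ k)⁻¹ := by
    intro b hb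
    have e1 : x * b * x⁻¹ = ((σ ⟨b, hb⟩ : ↥(cen S P t)) : Ω) := (hσv ⟨b, hb⟩).symm
    rw [e1, hfdv, hfdv ⟨b, hb⟩, hdσ, conj_pow_apply σ hσv]
  obtain ⟨f', N', hiso', hext⟩ :=
    exists_ext hS hF hBfn hfd hxS hxN (S.pow_mem hxS k) hh
  rw [cen_sup_eq hS hP hc hK hxP hxB] at hiso'
  have hfinP : Finite ↥P := finite_of_le S hP.1
  have hN'P : N' = P := by
    apply Subgroup.eq_of_le_of_card_ge
    · intro y hy
      obtain ⟨a, ha, rfl⟩ := hiso'.surjOn hy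
      exact stronglyClosed_map_mem hP hiso' le_rfl ha
    · exact hiso'.card_eq.le
  rw [hN'P] at hiso'
  obtain ⟨β, -, hβv⟩ := exists_mem_autGroup_of_isIso F hiso'
  -- AUT
  obtain ⟨hBi, hBc, hBe⟩ := cen_sub_props hS hP hfr hc hK
  have hc' : Nat.card ↥(commutator ↥P) = p := by rw [← card_comm_eq, hc]
  have hwP : f z ∈ P := cen_le S P t hwB
  have hno' : ∀ y : ↥P, y ∉ (cen S P t).subgroupOf P → y ^ p ≠ 1 := by
    intro y hy hyp
    apply hno y y.2 (fun h => hy (Subgroup.mem_subgroupOf.2 h))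
    have := congrArg Subtype.val hyp
    simpa using this
  have haut := Cfsg.Agent.Lib.H25.GXS.aut_comm_eq p hp2 hfr hc' ((cen S P t).subgroupOf P) hBi hBc
    hBe hno' β ⟨x, hxP⟩ (fun h => hxB (Subgroup.mem_subgroupOf.1 h)) ⟨f z, hwP⟩
    (Subgroup.mem_subgroupOf.2 hwB)
  have haut' := congrArg Subtype.val haut
  simp only [Subgroup.coe_mul, Subgroup.coe_inv] at haut'
  rw [hβv] at haut'
  -- `f' w = d w = w ^ j * z ^ i`
  have hf'w : f' (f z) = f z ^ j * z ^ i := by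
    rw [hext (f z) hwB, ← hwv, hfdv, hdw]
    simp [hwv]
  rw [hf'w] at haut'
  -- the commutator `c = [x, w]`
  have hcZ : x * f z * x⁻¹ * (f z)⁻¹ ∈ ⁅P, P⁆ := comm_mem hxP hwP
  have h1 : x * f z * x⁻¹ = (x * f z * x⁻¹ * (f z)⁻¹) * f z := by group
  have h2 : (x * f z * x⁻¹ * (f z)⁻¹) * f z = f z * (x * f z * x⁻¹ * (f z)⁻¹) :=
    (z0_central hS hP hc (hP.1 hwP) hcZ).symm
  have h3 : x * z ^ i * x⁻¹ = z ^ i := by
    rw [z0_central hS hP hc hxS (Subgroup.pow_mem _ hK.hz i)]; group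
  rw [comm_pow_calc h1 h2 h3 j] at haut'
  -- `c ^ j = c`, `c ≠ 1`, `c ^ p = 1`
  have hc1 : x * f z * x⁻¹ * (f z)⁻¹ ≠ 1 := by
    intro h
    apply hxw
    calc x * f z = (x * f z * x⁻¹ * (f z)⁻¹) * (f z * x) := by group
      _ = f z * x := by rw [h, one_mul]
  have hcp : (x * f z * x⁻¹ * (f z)⁻¹) ^ p = 1 := by
    have hfin : Finite ↥⁅P, P⁆ := Nat.finite_of_card_ne_zero (by rw [hc]; exact hp.pos.ne')
    have := pow_card_eq_one' (G := ↥⁅P, P⁆) (x := ⟨_, hcZ⟩)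
    rw [hc] at this
    exact congrArg Subtype.val this
  have hord : orderOf (x * f z * x⁻¹ * (f z)⁻¹) = p := by
    rcases (Nat.dvd_prime hp).1 (orderOf_dvd_of_pow_eq_one hcp) with h | h
    · exact absurd (orderOf_eq_one_iff.1 h) hc1
    · exact h
  apply hj
  rw [← hord]
  apply pow_eq_pow_iff_modEq.1
  rw [haut', pow_one]

end

end Cfsg.Agent.Lib.H26.GXS
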