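import Cfsg.Agent.Lib.H12.CharSumIrr
import Cfsg.Agent.Lib.H8.GaloisConj
import Cfsg.Agent.Lib.L0.CharInner

/-!
# Galois-stable subcharacters and products `χ · χ^σ` (helper26)

`classInner_galois_ne_one`: if `Φ = Ψ + Δ` with `Ψ, Δ` characters, `Ψ` stable under `g ↦ g ^ k`
(`k` prime to `|G|`), containing the trivial character and of degree `≠ 1`, then
`⟨Φ, Φ ∘ (· ^ k)⟩ ≠ 1`.
-/

set_option autoImplicit false

namespace Cfsg.Agent.Lib.H26.GalProd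

open Cfsg Cfsg.Agent.Lib.L0
open scoped ComplexConjugate

variable {G : Type*} [Group G] [Fintype G]

theorem classInner_galois_ne_one {Φ Ψ Δ : G → ℂ} (k : ℕ) (hk : k.Coprime (Nat.card G))
    (hΨ : IsCharacter G Ψ) (hΔ : IsCharacter G Δ) (hΦ : Φ = Ψ + Δ)
    (hgal : ∀ g, Ψ (g ^ k) = Ψ g) (h1 : classInner Ψ (1 : G → ℂ) ≠ 0) (hdeg : Ψ 1 ≠ 1) :
    classInner Φ (fun g => Φ (g ^ k)) ≠ 1 := by
  classical
  have hone : IsIrrCharacter G (1 : G → ℂ) := isIrrCharacter_one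
  have hone' : IsCharacter G (1 : G → ℂ) := isCharacter_of_irr hone
  set Ψ' : G → ℂ := Ψ - 1 with hΨ'def
  have hΨ' : IsCharacter G Ψ' := Cfsg.Agent.Lib.H12.CharSumIrr.isCharacter_sub_irr hΨ hone h1
  have hΨ'1 : Ψ' 1 ≠ 0 := by
    simp only [hΨ'def, Pi.sub_apply, Pi.one_apply]
    exact sub_ne_zero.mpr hdeg
  set Δk : G → ℂ := fun g => Δ (g ^ k) with hΔk
  have hΔkc : IsCharacter G Δk := Cfsg.Agent.Lib.H8.isCharacter_galoisConj hΔ k hk
  have e1 : Φ = 1 + Ψ' + Δ := by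
    rw [hΦ, hΨ'def]; funext g; simp
  have e2 : (fun g => Φ (g ^ k)) = 1 + Ψ' + Δk := by
    funext g
    simp only [hΦ, hΨ'def, hΔk, Pi.add_apply, Pi.sub_apply, Pi.one_apply, hgal]
    ring
  obtain ⟨m, hm0, hm⟩ := Cfsg.Agent.Lib.H12.CharSumIrr.classInner_self_pos hΨ' hΨ'1
  obtain ⟨a1, ha1⟩ := classInner_char_char_nat hone' hΨ'
  obtain ⟨a2, ha2⟩ := classInner_char_char_nat hone' hΔkc
  obtain ⟨a3, ha3⟩ := classInner_char_char_nat hΨ' hone'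
  obtain ⟨a4, ha4⟩ := classInner_char_char_nat hΨ' hΔkc
  obtain ⟨a5, ha5⟩ := classInner_char_char_nat hΔ hone'
  obtain ⟨a6, ha6⟩ := classInner_char_char_nat hΔ hΨ'
  obtain ⟨a7, ha7⟩ := classInner_char_char_nat hΔ hΔkc
  have h11 : classInner (1 : G → ℂ) (1 : G → ℂ) = 1 := irr_classInner_self hone
  rw [e2, e1]
  simp only [classInner_add_left, classInner_add_right]
  rw [h11, hm, ha1, ha2, ha3, ha4, ha5, ha6, ha7]
  intro h
  have h' : (1 + a3 + a5 + (a1 + m + a6) + (a2 + a4 + a7) : ℕ) = 1 := by exact_mod_cast h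
  omega

end Cfsg.Agent.Lib.H26.GalProd
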