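import Cfsg.Agent.Lib.H26.GalProdA
import Cfsg.Agent.Lib.H23.Ito
import Cfsg.Agent.Lib.H23.FullyRamified
import Cfsg.Agent.Lib.H23.ElemSpan
import Cfsg.Agent.Lib.H8.GaloisClassFun

/-!
# Products `χ · χ^σ`: abelian normal subgroups are central (helper26)
-/

set_option autoImplicit false

namespace Cfsg.Agent.Lib.H26.GalProd

open Cfsg Cfsg.Agent.Lib.L0 Cfsg.Agent.Lib.H23
open scoped ComplexConjugate

variable {G : Type*} [Group G] [Fintype G]

/-- The norm of `χ · χ^(k)` is `⟨|χ|², |χ|² ∘ (· ^ k)⟩`. -/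
theorem classInner_prod_eq (χ : G → ℂ) (k : ℕ) :
    classInner (fun g => χ g * χ (g ^ k)) (fun g => χ g * χ (g ^ k)) =
      classInner (fun g => χ g * conj (χ g))
        (fun g => (fun g => χ g * conj (χ g)) (g ^ k)) := by
  unfold classInner
  congr 1
  refine Finset.sum_congr rfl fun g _ => ?_
  simp only [map_mul, Complex.conj_conj]
  ring

/-- If `χ` is a faithful irreducible character with `⟨|χ|², |χ|² ∘ (· ^ k)⟩ = 1`, then every
abelian normal subgroup is central. -/
theorem abelian_normal_le_center (χ : G → ℂ) (hχ : IsIrrCharacter G χ)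
    (hfaith : ∀ g : G, χ g = χ 1 → g = 1) (k : ℕ) (hk : k.Coprime (Nat.card G))
    (hnorm : classInner (fun g => χ g * conj (χ g))
        (fun g => (fun g => χ g * conj (χ g)) (g ^ k)) = 1)
    (A : Subgroup G) [hN : A.Normal] (hA : ∀ a ∈ A, ∀ b ∈ A, a * b = b * a) :
    A ≤ Subgroup.center G := by
  classical
  have : Fintype A := Fintype.ofFinite _
  have hχc : IsCharacter G χ := isCharacter_of_irr hχ
  have hχA : IsCharacter A (fun n : A => χ n) := isCharacter_restrict A hχc
  have hχ1 : χ 1 ≠ 0 := Cfsg.Agent.Lib.H24.irr_one_ne_zero ⟨χ, hχ⟩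
  obtain ⟨ϑ, hϑ, hcon⟩ := exists_irr_constituent hχA (by simpa using hχ1)
  set T : Subgroup G := inertia A ϑ with hTdef
  have : Fintype T := Fintype.ofFinite _
  have hAT : A ≤ T := le_inertia A (isClassFunction_of_isCharacter (isCharacter_of_irr hϑ))
  obtain ⟨ψ, hψ, hind, -⟩ :=
    clifford_correspondence A T hAT ϑ hϑ (fun g => Iff.rfl) χ hχ hcon
  have hψc : IsCharacter T ψ := isCharacter_of_irr hψ
  have hT : T = ⊤ := by
    by_contra hne
    have hone : IsIrrCharacter T (1 : T → ℂ) := isIrrCharacter_one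
    have hcf : IsClassFunction G χ := isClassFunction_of_isCharacter hχc
    have hcf' : IsClassFunction G (fun g => conj (χ g)) := by
      intro g h
      show conj (χ (h * g * h⁻¹)) = conj (χ g)
      rw [hcf g h]
    -- the character `ψ · conj χ_T` of `T` contains the trivial character
    set β : T → ℂ := ψ * fun t : T => (fun g => conj (χ g)) (t : G) with hβ
    have hβc : IsCharacter T β :=
      isCharacter_mul hψc (isCharacter_conj (isCharacter_restrict T hχc))
    have hβ1 : classInner β (1 : T → ℂ) ≠ 0 := by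
      have h1 : classInner β (1 : T → ℂ) = classInner ψ (fun t : T => χ t) := by
        unfold classInner
        congr 1
        refine Finset.sum_congr rfl fun t _ => ?_
        simp [hβ]
      rw [h1, ← frobenius_reciprocity T ψ χ hcf, hind, irr_classInner_self hχ]
      exact one_ne_zero
    have hΔ0 : IsCharacter T (β - 1) :=
      Cfsg.Agent.Lib.H12.CharSumIrr.isCharacter_sub_irr hβc hone hβ1
    have hπ : IsCharacter G (indFun T (1 : T → ℂ)) := isCharacter_indFun T (isCharacter_of_irr hone)
    have hΔ : IsCharacter G (indFun T (β - 1)) := isCharacter_indFun T hΔ0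
    have hΦ : (fun g => χ g * conj (χ g)) = indFun T (1 : T → ℂ) + indFun T (β - 1) := by
      rw [← indFun_add]
      have : (1 : T → ℂ) + (β - 1) = β := by funext t; simp
      rw [this, hβ, indFun_mul_restrict' T ψ _ hcf', hind]
      rfl
    have hgal : ∀ g, indFun T (1 : T → ℂ) (g ^ k) = indFun T (1 : T → ℂ) g := by
      intro g
      rw [Cfsg.Agent.Lib.H8.indFun_comp_pow T _ hk g]
      rfl
    have h1 : classInner (indFun T (1 : T → ℂ)) (1 : G → ℂ) ≠ 0 := by
      rw [frobenius_reciprocity T _ _ (isClassFunction_of_isCharacter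
        (isCharacter_of_irr (isIrrCharacter_one (G := G))))]
      have : (fun h : T => (1 : G → ℂ) (h : G)) = (1 : T → ℂ) := rfl
      rw [this, irr_classInner_self hone]
      exact one_ne_zero
    have hdeg : indFun T (1 : T → ℂ) 1 ≠ 1 := by
      rw [indFun_one']
      simp only [Pi.one_apply, mul_one]
      intro h
      have : T.index = 1 := by exact_mod_cast h
      exact hne (Subgroup.index_eq_one.mp this)
    exact classInner_galois_ne_one k hk hπ hΔ hΦ hgal h1 hdeg hnorm
  have hinv : ∀ (g : G) (n : A), ϑ ⟨g * n * g⁻¹, hN.conj_mem (n : G) n.2 g⟩ = ϑ n := by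
    intro g n
    have hg : g ∈ T := by rw [hT]; exact Subgroup.mem_top g
    exact hg n
  have hres := restrict_eq_smul_of_invariant A χ hχ ϑ hϑ hcon hinv
  have hab : ∀ a b : A, a * b = b * a := by
    intro a b
    ext
    exact hA a a.2 b b.2
  set e := classInner (fun n : A => χ n) ϑ with he
  have hval : ∀ n : A, ‖χ n‖ = ‖e‖ := by
    intro n
    have := congrFun hres n
    simp only [Pi.smul_apply, smul_eq_mul] at this
    rw [this, norm_mul, norm_irr_eq_one_of_comm hab hϑ n, mul_one]
  intro a ha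
  have hna : ‖χ a‖ = ‖χ 1‖ := by
    rw [hval ⟨a, ha⟩]
    exact (hval 1).symm
  obtain ⟨n, ρ, hirr, hρ⟩ := hχ
  have hscal : ∃ c : ℂ, ρ a = c • 1 := by
    apply (norm_char_eq_finrank_iff ρ a).mp
    rw [hρ, hna, ← hρ, Representation.char_one]
    simp
  obtain ⟨c, hc⟩ := hscal
  rw [Subgroup.mem_center_iff]
  intro g
  have h1 : ρ (g * a * g⁻¹ * a⁻¹) = 1 := by
    have hinv' : ρ a * ρ a⁻¹ = 1 := by rw [← map_mul, mul_inv_cancel, map_one]
    have hg' : ρ g * ρ g⁻¹ = 1 := by rw [← map_mul, mul_inv_cancel, map_one]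
    rw [map_mul, map_mul, map_mul, hc]
    rw [hc] at hinv'
    calc ρ g * c • (1 : Module.End ℂ (Fin n → ℂ)) * ρ g⁻¹ * ρ a⁻¹
        = (ρ g * ρ g⁻¹) * (c • (1 : Module.End ℂ (Fin n → ℂ)) * ρ a⁻¹) := by
          simp only [mul_smul_comm, smul_mul_assoc, mul_one, one_mul, mul_assoc]
      _ = 1 := by rw [hg', hinv', one_mul]
  have h2 : χ (g * a * g⁻¹ * a⁻¹) = χ 1 := by
    rw [← hρ]
    exact (char_eq_char_one_iff ρ _).mpr h1
  have h3 := hfaith _ h2
  have : g * a = a * g := by
    have h4 : g * a * g⁻¹ = a := by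
      have := congrArg (· * a) h3
      simpa using this
    calc g * a = g * a * g⁻¹ * g := by group
      _ = a * g := by rw [h4]
  exact this

end Cfsg.Agent.Lib.H26.GalProd
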