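import Cfsg.Agent.Lib.H23.CentralMul
import Cfsg.Agent.Lib.L0.CharDecomp

/-!
# The span of `ρ(N)` inside `End V` as a subrepresentation (helper26)

For an irreducible faithful representation `ρ` of `G` on `V` and a normal subgroup `N` such that
the character vanishes on the non-central elements of `N`, the span `A` of `ρ(N)` inside `End V`
(with `G` acting by conjugation) has character
`g ↦ c * ∑ x : N, χ (g x g⁻¹ x⁻¹)` with `c = (#(N ∩ Z(G)) * χ(1))⁻¹`.
-/

set_option autoImplicit false

namespace Cfsg.Agent.Lib.H26.GalProd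

open Module LinearMap Representation

section TraceProj

variable {K : Type*} [Field K] {M : Type*} [AddCommGroup M] [Module K M] [FiniteDimensional K M]

/-- The trace of `f` on an invariant subspace `A` is the trace of `f ∘ P` for any projection `P`
onto `A`. -/
theorem trace_restrict_eq_trace_comp (A : Submodule K M) (P f : M →ₗ[K] M)
    (hP : ∀ v, P v ∈ A) (hPA : ∀ a ∈ A, P a = a) (hf : ∀ a ∈ A, f a ∈ A) :
    LinearMap.trace K A (f.restrict hf) = LinearMap.trace K M (f ∘ₗ P) := by
  set P' : M →ₗ[K] A := P.codRestrict A hP with hP'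
  have h1 : f.restrict hf = P' ∘ₗ (f ∘ₗ A.subtype) := by
    ext a
    simp [hP', hPA _ (hf a a.2)]
  have h2 : f ∘ₗ P = (f ∘ₗ A.subtype) ∘ₗ P' := by
    ext v
    simp [hP']
  rw [h1, h2, LinearMap.trace_comp_comm']

end TraceProj

section Span

variable {G : Type*} [Group G] {V : Type*} [AddCommGroup V] [Module ℂ V]
  (ρ : Representation ℂ G V) (N : Subgroup G) [hN : N.Normal]

theorem linHom_rho (g x : G) : (linHom ρ ρ) g (ρ x) = ρ (g * x * g⁻¹) := by
  rw [linHom_apply, map_mul, map_mul]
  rfl

/-- The span of `ρ(N)` in `End V`, as a subrepresentation of the conjugation representation. -/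
def spanSub : Subrepresentation (linHom ρ ρ) where
  toSubmodule := Submodule.span ℂ (Set.range fun x : N => ρ (x : G))
  apply_mem_toSubmodule g v hv := by
    induction hv using Submodule.span_induction with
    | mem T hT =>
      obtain ⟨x, rfl⟩ := hT
      apply Submodule.subset_span
      refine ⟨⟨g * x * g⁻¹, hN.conj_mem _ x.2 g⟩, ?_⟩
      simp only [linHom_rho]
    | zero => simp
    | add a b _ _ ha hb => rw [map_add]; exact Submodule.add_mem _ ha hb
    | smul c a _ ha => rw [map_smul]; exact Submodule.smul_mem _ c ha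

theorem rho_mem_spanSub (x : N) : ρ (x : G) ∈ (spanSub ρ N).toSubmodule :=
  Submodule.subset_span ⟨x, rfl⟩

/-- The functional `T ↦ trace (T * ρ x⁻¹)`. -/
noncomputable def phi (x : G) : Module.End ℂ V →ₗ[ℂ] ℂ :=
  (LinearMap.trace ℂ V) ∘ₗ (LinearMap.mulRight ℂ (ρ x⁻¹))

theorem phi_apply (x : G) (T : Module.End ℂ V) : phi ρ x T = LinearMap.trace ℂ V (T * ρ x⁻¹) := rfl

theorem phi_rho (x y : G) : phi ρ x (ρ y) = ρ.character (y * x⁻¹) := by
  rw [phi_apply, ← map_mul]
  rfl

variable [Fintype N]

/-- The (candidate) projection onto the span of `ρ(N)`. -/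
noncomputable def proj (c : ℂ) : Module.End ℂ V →ₗ[ℂ] Module.End ℂ V :=
  c • ∑ x : N, (phi ρ (x : G)).smulRight (ρ (x : G))

theorem proj_apply (c : ℂ) (T : Module.End ℂ V) :
    proj ρ N c T = c • ∑ x : N, phi ρ (x : G) T • ρ (x : G) := by
  simp [proj, LinearMap.sum_apply]

theorem proj_mem (c : ℂ) (T : Module.End ℂ V) : proj ρ N c T ∈ (spanSub ρ N).toSubmodule := by
  rw [proj_apply]
  apply Submodule.smul_mem
  apply Submodule.sum_mem
  intro x _
  exact Submodule.smul_mem _ _ (rho_mem_spanSub ρ N x)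

theorem linHom_comp_proj (c : ℂ) (g : G) :
    (linHom ρ ρ) g ∘ₗ proj ρ N c =
      c • ∑ x : N, (phi ρ (x : G)).smulRight (ρ (g * x * g⁻¹)) := by
  ext T v
  simp only [LinearMap.comp_apply, proj_apply, map_smul, map_sum, linHom_rho, LinearMap.smul_apply,
    LinearMap.sum_apply, LinearMap.smulRight_apply]

variable [FiniteDimensional ℂ V]

theorem trace_linHom_comp_proj (c : ℂ) (g : G) :
    LinearMap.trace ℂ _ ((linHom ρ ρ) g ∘ₗ proj ρ N c) =
      c * ∑ x : N, ρ.character (g * x * g⁻¹ * (x : G)⁻¹) := by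
  rw [linHom_comp_proj, map_smul, map_sum, smul_eq_mul]
  congr 1
  refine Finset.sum_congr rfl fun x _ => ?_
  rw [LinearMap.trace_smulRight, phi_rho]

end Span

end Cfsg.Agent.Lib.H26.GalProd
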