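import Cfsg.Agent.Lib.H26.GalProdC
import Cfsg.Agent.Lib.H23.CentralChar

/-!
# The projection onto the span of `ρ(N)` and the character of the span (helper26)
-/

set_option autoImplicit false

namespace Cfsg.Agent.Lib.H26.GalProd

open Module LinearMap Representation Cfsg.Agent.Lib.H23

open scoped Classical in
/-- The number of elements of `N` which are central in `G`. -/
noncomputable def zc {G : Type*} [Group G] (N : Subgroup G) [Fintype N] : ℕ :=
  (Finset.univ.filter fun w : N => (w : G) ∈ Subgroup.center G).card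

theorem zc_pos {G : Type*} [Group G] (N : Subgroup G) [Fintype N] : 0 < zc N := by
  classical
  unfold zc
  apply Finset.card_pos.mpr
  exact ⟨1, by simp [Subgroup.one_mem]⟩

open scoped Classical in
theorem zc_lt_card {G : Type*} [Group G] (N : Subgroup G) [Fintype N]
    (h : ∃ x ∈ N, x ∉ Subgroup.center G) : zc N < Fintype.card N := by
  unfold zc
  rw [← Finset.card_univ]
  apply Finset.card_lt_card
  rw [Finset.ssubset_iff_of_subset (Finset.filter_subset _ _)]
  obtain ⟨x, hx, hxc⟩ := h
  refine ⟨⟨x, hx⟩, Finset.mem_univ _, ?_⟩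
  rw [Finset.mem_filter]
  exact fun h' => hxc h'.2

section

variable {G : Type*} [Group G] {V : Type*} [AddCommGroup V] [Module ℂ V] [FiniteDimensional ℂ V]
  (ρ : Representation ℂ G V) [ρ.IsIrreducible]

theorem char_one_ne_zero : ρ.character 1 ≠ 0 := by
  rw [Representation.char_one]
  exact_mod_cast (finrank_pos_of_isIrreducible ρ).ne'

/-- Central elements act by the scalar `χ z / χ 1`. -/
theorem central_smul {z : G} (hz : z ∈ Subgroup.center G) :
    ρ z = (ρ.character z / ρ.character 1) • 1 := by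
  obtain ⟨c, hc⟩ := exists_smul_of_mem_center ρ hz
  have h1 := char_of_eq_smul ρ z hc
  rw [hc, h1, mul_div_assoc, div_self (char_one_ne_zero ρ), mul_one]

/-- `χ(z⁻¹) • ρ (z y) = χ(1) • ρ y` for central `z`. -/
theorem char_inv_smul_rho_mul {z : G} (hz : z ∈ Subgroup.center G) (y : G) :
    ρ.character z⁻¹ • ρ (z * y) = ρ.character 1 • ρ y := by
  have hz' : z⁻¹ ∈ Subgroup.center G := Subgroup.inv_mem _ hz
  obtain ⟨c, hc⟩ := exists_smul_of_mem_center ρ hz
  obtain ⟨c', hc'⟩ := exists_smul_of_mem_center ρ hz'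
  have hcc : c' * c = 1 := by
    have h : ρ z⁻¹ * ρ z = 1 := by rw [← map_mul, inv_mul_cancel, map_one]
    rw [hc, hc', smul_mul_smul_comm, mul_one] at h
    have hV := nontrivial_of_isIrreducible ρ
    have h2 : (c' * c - 1) • (1 : Module.End ℂ V) = 0 := by
      rw [sub_smul, h, one_smul, sub_self]
    rcases smul_eq_zero.mp h2 with h3 | h3
    · exact sub_eq_zero.mp h3
    · exact absurd h3 one_ne_zero
  rw [char_of_eq_smul ρ z⁻¹ hc', map_mul, hc, smul_mul_assoc, one_mul, smul_smul]
  congr 1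
  rw [mul_assoc, mul_comm (ρ.character 1), ← mul_assoc, hcc, one_mul]

variable (N : Subgroup G) [hN : N.Normal] [Fintype N]

/-- The key sum: `∑_{x ∈ N} χ(y x⁻¹) ρ(x) = #(N ∩ Z(G)) χ(1) ρ(y)` when `χ` vanishes on the
non-central elements of `N`. -/
theorem sum_char_smul_rho (hvan : ∀ x ∈ N, x ∉ Subgroup.center G → ρ.character x = 0) (y : N) :
    ∑ x : N, ρ.character ((y : G) * (x : G)⁻¹) • ρ (x : G) =
      ((zc N : ℂ) * ρ.character 1) • ρ (y : G) := by
  classical
  have h1 : ∑ x : N, ρ.character ((y : G) * (x : G)⁻¹) • ρ (x : G) =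
      ∑ w : N, ρ.character ((w : G)⁻¹) • ρ ((w : G) * (y : G)) := by
    apply Fintype.sum_equiv (Equiv.mulRight y⁻¹)
    intro x
    simp only [Equiv.coe_mulRight, Subgroup.coe_mul, Subgroup.coe_inv, mul_inv_rev, inv_inv,
      inv_mul_cancel_right]
  rw [h1]
  have h2 : ∀ w : N, ρ.character ((w : G)⁻¹) • ρ ((w : G) * (y : G)) =
      if (w : G) ∈ Subgroup.center G then ρ.character 1 • ρ (y : G) else 0 := by
    intro w
    split_ifs with hw
    · exact char_inv_smul_rho_mul ρ hw y
    · have : ρ.character ((w : G)⁻¹) = 0 := by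
        apply hvan _ (N.inv_mem w.2)
        intro h
        apply hw
        have := Subgroup.inv_mem _ h
        rwa [inv_inv] at this
      rw [this, zero_smul]
  rw [Finset.sum_congr rfl (fun w _ => h2 w), ← Finset.sum_filter, Finset.sum_const, zc,
    ← Nat.cast_smul_eq_nsmul ℂ, smul_smul]

/-- The normalising constant. -/
noncomputable def c0 : ℂ := ((zc N : ℂ) * ρ.character 1)⁻¹

theorem proj_rho (hvan : ∀ x ∈ N, x ∉ Subgroup.center G → ρ.character x = 0) (y : N) :
    proj ρ N (c0 ρ N) (ρ (y : G)) = ρ (y : G) := by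
  rw [proj_apply]
  simp only [phi_rho]
  rw [sum_char_smul_rho ρ N hvan y, smul_smul, c0, inv_mul_cancel₀, one_smul]
  apply mul_ne_zero
  · exact_mod_cast (zc_pos N).ne'
  · exact char_one_ne_zero ρ

theorem proj_fix (hvan : ∀ x ∈ N, x ∉ Subgroup.center G → ρ.character x = 0)
    (a : Module.End ℂ V) (ha : a ∈ (spanSub ρ N).toSubmodule) :
    proj ρ N (c0 ρ N) a = a := by
  induction ha using Submodule.span_induction with
  | mem T hT =>
    obtain ⟨x, rfl⟩ := hT
    exact proj_rho ρ N hvan x
  | zero => simp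
  | add a b _ _ ha hb => rw [map_add, ha, hb]
  | smul c a _ ha => rw [map_smul, ha]

/-- The character of the span of `ρ(N)`. -/
theorem spanSub_character (hvan : ∀ x ∈ N, x ∉ Subgroup.center G → ρ.character x = 0) (g : G) :
    (spanSub ρ N).toRepresentation.character g =
      c0 ρ N * ∑ x : N, ρ.character (g * x * g⁻¹ * (x : G)⁻¹) := by
  rw [← trace_linHom_comp_proj]
  exact trace_restrict_eq_trace_comp (spanSub ρ N).toSubmodule (proj ρ N (c0 ρ N))
    ((linHom ρ ρ) g) (proj_mem ρ N _) (proj_fix ρ N hvan)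
    (fun a ha => (spanSub ρ N).apply_mem_toSubmodule g ha)

end

end Cfsg.Agent.Lib.H26.GalProd
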