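import Cfsg.Agent.Lib.H26.GalProdD
import Cfsg.Agent.Lib.H8.GaloisClassFun

/-!
# Evaluation of `∑_{x ∈ N} χ([g,x])` and its Galois invariance (helper26)
-/

set_option autoImplicit false

namespace Cfsg.Agent.Lib.H26.GalProd

open Module LinearMap Representation Cfsg.Agent.Lib.H23

section Com

variable {G : Type*} [Group G]

/-- The commutator `g x g⁻¹ x⁻¹`. -/
def com (g x : G) : G := g * x * g⁻¹ * x⁻¹

theorem com_mul (g a b : G) (hb : com g b ∈ Subgroup.center G) :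
    com g (a * b) = com g a * com g b := by
  have h := (Subgroup.mem_center_iff.mp hb) a⁻¹
  unfold com at *
  calc g * (a * b) * g⁻¹ * (a * b)⁻¹
      = g * a * g⁻¹ * ((g * b * g⁻¹ * b⁻¹) * a⁻¹) := by group
    _ = g * a * g⁻¹ * (a⁻¹ * (g * b * g⁻¹ * b⁻¹)) := by rw [h]
    _ = g * a * g⁻¹ * a⁻¹ * (g * b * g⁻¹ * b⁻¹) := by group

theorem com_inv (g a : G) (ha : com g a ∈ Subgroup.center G) :
    com g a⁻¹ = (com g a)⁻¹ := by
  have h := (Subgroup.mem_center_iff.mp (Subgroup.inv_mem _ ha)) a⁻¹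
  unfold com at *
  calc g * a⁻¹ * g⁻¹ * a⁻¹⁻¹ = a⁻¹ * (g * a * g⁻¹ * a⁻¹)⁻¹ * a := by group
    _ = (g * a * g⁻¹ * a⁻¹)⁻¹ * a⁻¹ * a := by rw [h]
    _ = (g * a * g⁻¹ * a⁻¹)⁻¹ := by group

theorem com_one_left (x : G) : com 1 x = 1 := by
  unfold com; group

theorem com_one_right (g : G) : com g 1 = 1 := by
  unfold com; group

theorem com_pow (g x : G) (hx : com g x ∈ Subgroup.center G) (k : ℕ) :
    com (g ^ k) x = (com g x) ^ k := by
  have key : ∀ k : ℕ, g ^ k * x * (g ^ k)⁻¹ = (com g x) ^ k * x := by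
    intro k
    induction k with
    | zero => simp
    | succ k ih =>
      have hc := (Subgroup.mem_center_iff.mp (Subgroup.pow_mem _ hx k)) g
      calc g ^ (k + 1) * x * (g ^ (k + 1))⁻¹
          = g * (g ^ k * x * (g ^ k)⁻¹) * g⁻¹ := by rw [pow_succ']; group
        _ = g * (com g x ^ k * x) * g⁻¹ := by rw [ih]
        _ = (g * com g x ^ k) * x * g⁻¹ := by group
        _ = (com g x ^ k * g) * x * g⁻¹ := by rw [hc]
        _ = com g x ^ k * (g * x * g⁻¹ * x⁻¹) * x := by group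
        _ = com g x ^ (k + 1) * x := by rw [pow_succ]; rfl
  show g ^ k * x * (g ^ k)⁻¹ * x⁻¹ = _
  rw [key k]
  group

variable (N : Subgroup G)

/-- The elements `x` of `N` with `[g, x]` central. -/
def Dsub (g : G) : Subgroup G where
  carrier := {x | x ∈ N ∧ com g x ∈ Subgroup.center G}
  one_mem' := ⟨N.one_mem, by rw [com_one_right]; exact Subgroup.one_mem _⟩
  mul_mem' := by
    rintro a b ⟨ha, ha'⟩ ⟨hb, hb'⟩
    refine ⟨N.mul_mem ha hb, ?_⟩
    rw [com_mul g a b hb']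
    exact Subgroup.mul_mem _ ha' hb'
  inv_mem' := by
    rintro a ⟨ha, ha'⟩
    refine ⟨N.inv_mem ha, ?_⟩
    rw [com_inv g a ha']
    exact Subgroup.inv_mem _ ha'

theorem mem_Dsub {g x : G} : x ∈ Dsub N g ↔ x ∈ N ∧ com g x ∈ Subgroup.center G := Iff.rfl

theorem Dsub_le_pow (g : G) (k : ℕ) : Dsub N g ≤ Dsub N (g ^ k) := by
  rintro x ⟨hx, hx'⟩
  refine ⟨hx, ?_⟩
  rw [com_pow g x hx' k]
  exact Subgroup.pow_mem _ hx' k

theorem Dsub_pow_eq [Finite G] (g : G) {k : ℕ} (hk : k.Coprime (Nat.card G)) :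
    Dsub N (g ^ k) = Dsub N g := by
  apply le_antisymm
  · obtain ⟨m, hm⟩ := exists_pow_eq_self_of_coprime
      (Cfsg.Agent.Lib.H8.coprime_orderOf_of_coprime_card hk g)
    have := Dsub_le_pow N (g ^ k) m
    rwa [hm] at this
  · exact Dsub_le_pow N g k

end Com

section Eta

variable {G : Type*} [Group G] [Finite G] {V : Type*} [AddCommGroup V] [Module ℂ V]
  [FiniteDimensional ℂ V] (ρ : Representation ℂ G V) [ρ.IsIrreducible]

/-- The central character `z ↦ χ z / χ 1`. -/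
noncomputable def om (z : G) : ℂ := ρ.character z / ρ.character 1

theorem om_one : om ρ 1 = 1 := div_self (char_one_ne_zero ρ)

theorem om_mul {z z' : G} (hz' : z' ∈ Subgroup.center G) :
    om ρ (z * z') = om ρ z * om ρ z' := by
  have h := char_mul_center ρ z hz'
  have h1 := char_one_ne_zero ρ
  unfold om
  field_simp
  rw [h]
  ring

theorem om_pow {z : G} (hz : z ∈ Subgroup.center G) (k : ℕ) : om ρ (z ^ k) = om ρ z ^ k := by
  induction k with
  | zero => simp [om_one]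
  | succ k ih => rw [pow_succ, om_mul ρ hz, ih, pow_succ]

theorem om_pow_card {z : G} (hz : z ∈ Subgroup.center G) : om ρ z ^ Nat.card G = 1 := by
  rw [← om_pow ρ hz, pow_card_eq_one', om_one]

theorem om_mul_char (z : G) : ρ.character z = ρ.character 1 * om ρ z := by
  unfold om
  rw [mul_div_cancel₀ _ (char_one_ne_zero ρ)]

variable (N : Subgroup G)

open scoped Classical in
/-- `η_g(x) = ω([g,x])` on `D_g`, and `0` elsewhere. -/
noncomputable def eta (g x : G) : ℂ := if x ∈ Dsub N g then om ρ (com g x) else 0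

theorem eta_of_mem {g x : G} (hx : x ∈ Dsub N g) : eta ρ N g x = om ρ (com g x) := by
  classical
  simp [eta, hx]

theorem eta_of_not_mem {g x : G} (hx : x ∉ Dsub N g) : eta ρ N g x = 0 := by
  classical
  simp [eta, hx]

theorem eta_mul {g y : G} (hy : y ∈ Dsub N g) (x : G) :
    eta ρ N g (y * x) = eta ρ N g y * eta ρ N g x := by
  by_cases hx : x ∈ Dsub N g
  · rw [eta_of_mem ρ N ((Dsub N g).mul_mem hy hx), eta_of_mem ρ N hy, eta_of_mem ρ N hx,
      com_mul g y x hx.2, om_mul ρ hx.2]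
  · have : y * x ∉ Dsub N g := by
      intro h
      apply hx
      have := (Dsub N g).mul_mem ((Dsub N g).inv_mem hy) h
      simpa using this
    rw [eta_of_not_mem ρ N this, eta_of_not_mem ρ N hx, mul_zero]

theorem eta_pow_card {g x : G} (hx : x ∈ Dsub N g) : eta ρ N g x ^ Nat.card G = 1 := by
  rw [eta_of_mem ρ N hx]
  exact om_pow_card ρ hx.2

theorem eta_pow {g x : G} (hx : x ∈ Dsub N g) (k : ℕ) :
    eta ρ N (g ^ k) x = eta ρ N g x ^ k := by
  rw [eta_of_mem ρ N (Dsub_le_pow N g k hx), eta_of_mem ρ N hx, com_pow g x hx.2 k,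
    om_pow ρ hx.2]

theorem eta_cond_iff (g : G) {k : ℕ} (hk : k.Coprime (Nat.card G)) :
    (∀ y ∈ Dsub N (g ^ k), eta ρ N (g ^ k) y = 1) ↔ (∀ y ∈ Dsub N g, eta ρ N g y = 1) := by
  rw [Dsub_pow_eq N g hk]
  constructor
  · intro h y hy
    have h1 := h y hy
    rw [eta_pow ρ N hy k] at h1
    have h2 := eta_pow_card ρ N hy
    have h3 := pow_gcd_eq_one.mpr ⟨h1, h2⟩
    rw [Nat.Coprime.gcd_eq_one hk, pow_one] at h3
    exact h3
  · intro h y hy
    rw [eta_pow ρ N hy k, h y hy, one_pow]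

variable [Fintype N]

theorem sum_eta_eq_zero {g : G} (h : ∃ y ∈ Dsub N g, eta ρ N g y ≠ 1) :
    ∑ x : N, eta ρ N g (x : G) = 0 := by
  obtain ⟨y, hy, hy1⟩ := h
  have hyN : y ∈ N := hy.1
  have h1 : ∑ x : N, eta ρ N g (x : G) = ∑ x : N, eta ρ N g ((y : G) * (x : G)) := by
    symm
    apply Fintype.sum_equiv (Equiv.mulLeft (⟨y, hyN⟩ : N))
    intro x
    rfl
  have h2 : ∑ x : N, eta ρ N g ((y : G) * (x : G)) = eta ρ N g y * ∑ x : N, eta ρ N g (x : G) := by
    rw [Finset.mul_sum]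
    exact Finset.sum_congr rfl fun x _ => eta_mul ρ N hy x
  rw [h2] at h1
  have h3 : (1 - eta ρ N g y) * ∑ x : N, eta ρ N g (x : G) = 0 := by
    rw [sub_mul, one_mul, ← h1, sub_self]
  rcases mul_eq_zero.mp h3 with h4 | h4
  · exact absurd (sub_eq_zero.mp h4).symm hy1
  · exact h4

open scoped Classical in
theorem sum_eta_eq_card {g : G} (h : ∀ y ∈ Dsub N g, eta ρ N g y = 1) :
    ∑ x : N, eta ρ N g (x : G) =
      ((Finset.univ.filter fun x : N => (x : G) ∈ Dsub N g).card : ℂ) := by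
  have h1 : ∀ x : N, eta ρ N g (x : G) = if (x : G) ∈ Dsub N g then 1 else 0 := by
    intro x
    split_ifs with hx
    · exact h _ hx
    · exact eta_of_not_mem ρ N hx
  rw [Finset.sum_congr rfl (fun x _ => h1 x), ← Finset.sum_filter, Finset.sum_const,
    nsmul_eq_mul, mul_one]

/-- The sum of `η_g` over `N` is a natural number. -/
theorem exists_nat_sum_eta (g : G) : ∃ m : ℕ, ∑ x : N, eta ρ N g (x : G) = m := by
  classical
  by_cases h : ∀ y ∈ Dsub N g, eta ρ N g y = 1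
  · exact ⟨_, sum_eta_eq_card ρ N h⟩
  · push Not at h
    exact ⟨0, by rw [sum_eta_eq_zero ρ N h]; simp⟩

/-- Galois invariance of the sum of `η_g`. -/
theorem sum_eta_pow (g : G) {k : ℕ} (hk : k.Coprime (Nat.card G)) :
    ∑ x : N, eta ρ N (g ^ k) (x : G) = ∑ x : N, eta ρ N g (x : G) := by
  classical
  by_cases h : ∀ y ∈ Dsub N g, eta ρ N g y = 1
  · have h' := (eta_cond_iff ρ N g hk).mpr h
    rw [sum_eta_eq_card ρ N h, sum_eta_eq_card ρ N h', Dsub_pow_eq N g hk]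
  · have h' : ¬ ∀ y ∈ Dsub N (g ^ k), eta ρ N (g ^ k) y = 1 := fun h'' =>
      h ((eta_cond_iff ρ N g hk).mp h'')
    push Not at h h'
    rw [sum_eta_eq_zero ρ N h, sum_eta_eq_zero ρ N h']

theorem sum_eta_one : ∑ x : N, eta ρ N 1 (x : G) = (Fintype.card N : ℂ) := by
  have h1 : ∀ x : N, eta ρ N 1 (x : G) = 1 := by
    intro x
    have hx : (x : G) ∈ Dsub N 1 := ⟨x.2, by rw [com_one_left]; exact Subgroup.one_mem _⟩
    rw [eta_of_mem ρ N hx, com_one_left, om_one]
  rw [Finset.sum_congr rfl (fun x _ => h1 x), Finset.sum_const, Finset.card_univ, nsmul_eq_mul,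
    mul_one]

variable [hN : N.Normal]

/-- `∑_{x ∈ N} χ([g,x]) = χ(1) ∑_{x ∈ N} η_g(x)` when `χ` vanishes on the non-central elements of
`N`. -/
theorem sum_char_com (hvan : ∀ x ∈ N, x ∉ Subgroup.center G → ρ.character x = 0) (g : G) :
    ∑ x : N, ρ.character (g * x * g⁻¹ * (x : G)⁻¹) =
      ρ.character 1 * ∑ x : N, eta ρ N g (x : G) := by
  rw [Finset.mul_sum]
  refine Finset.sum_congr rfl fun x _ => ?_
  by_cases hx : (x : G) ∈ Dsub N g
  · rw [eta_of_mem ρ N hx]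
    exact om_mul_char ρ _
  · rw [eta_of_not_mem ρ N hx, mul_zero]
    have hmem : g * x * g⁻¹ * (x : G)⁻¹ ∈ N := N.mul_mem (hN.conj_mem _ x.2 g) (N.inv_mem x.2)
    apply hvan _ hmem
    intro hc
    exact hx ⟨x.2, hc⟩

end Eta

end Cfsg.Agent.Lib.H26.GalProd
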