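import Cfsg.Agent.Lib.H26.GalProdB
import Cfsg.Agent.Lib.H26.GalProdE

/-!
# Products `χ · χ^σ`: normal class-two subgroups with central centre do not exist (helper26)
-/

set_option autoImplicit false

namespace Cfsg.Agent.Lib.H26.GalProd

open Cfsg Cfsg.Agent.Lib.L0 Cfsg.Agent.Lib.H23 Module LinearMap Representation
open scoped ComplexConjugate

theorem class_two_false {G : Type*} [Group G] [Fintype G] {V : Type*} [AddCommGroup V]
    [Module ℂ V] [FiniteDimensional ℂ V] (ρ : Representation ℂ G V) [ρ.IsIrreducible]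
    (hfaith : ∀ g : G, ρ.character g = ρ.character 1 → g = 1) (k : ℕ)
    (hk : k.Coprime (Nat.card G))
    (hnorm : classInner (fun g => ρ.character g * conj (ρ.character g))
        (fun g => (fun g => ρ.character g * conj (ρ.character g)) (g ^ k)) = 1)
    (N : Subgroup G) [hN : N.Normal]
    (hcl2 : ∀ x ∈ N, ∀ y ∈ N, x * y * x⁻¹ * y⁻¹ ∈ Subgroup.center G)
    (hcent : ∀ x ∈ N, (∀ y ∈ N, x * y = y * x) → x ∈ Subgroup.center G)
    (hne : ¬ N ≤ Subgroup.center G) : False := by
  classical
  have : Fintype N := Fintype.ofFinite _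
  have hχ1 := char_one_ne_zero ρ
  -- `χ` vanishes on the non-central elements of `N`
  have hvan : ∀ x ∈ N, x ∉ Subgroup.center G → ρ.character x = 0 := by
    intro x hx hxc
    have hnc : ¬ ∀ y ∈ N, x * y = y * x := fun h => hxc (hcent x hx h)
    push Not at hnc
    obtain ⟨y, hy, hxy⟩ := hnc
    have hzc : x⁻¹ * y⁻¹ * x⁻¹⁻¹ * y⁻¹⁻¹ ∈ Subgroup.center G :=
      hcl2 x⁻¹ (N.inv_mem hx) y⁻¹ (N.inv_mem hy)
    set z := x⁻¹ * y⁻¹ * x⁻¹⁻¹ * y⁻¹⁻¹ with hz
    have hconj : y⁻¹ * x * y⁻¹⁻¹ = x * z := by rw [hz]; group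
    have h1 : ρ.character (x * z) = ρ.character x := by
      rw [← hconj]
      exact Representation.char_conj ρ x y⁻¹
    have h2 := char_mul_center ρ x hzc
    rw [h1] at h2
    by_contra hx0
    have h3 : ρ.character z = ρ.character 1 := by
      have h4 : ρ.character x * ρ.character 1 = ρ.character x * ρ.character z := by
        rw [h2, mul_comm]
      exact (mul_left_cancel₀ hx0 h4).symm
    have h4 := hfaith z h3
    apply hxy
    have h5 : x⁻¹ * y⁻¹ * x * y = 1 := by
      have : z = x⁻¹ * y⁻¹ * x * y := by rw [hz]; group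
      rw [← this]; exact h4
    calc x * y = y * x * (x⁻¹ * y⁻¹ * x * y) := by group
      _ = y * x := by rw [h5, mul_one]
  -- the subrepresentation and a complement
  have hne0 : NeZero (Nat.card G : ℂ) := ⟨by exact_mod_cast (Nat.card_pos (α := G)).ne'⟩
  set U := spanSub ρ N with hU
  obtain ⟨U', hc⟩ := exists_isCompl U
  set Ψ : G → ℂ := U.toRepresentation.character with hΨ
  set Δ : G → ℂ := U'.toRepresentation.character with hΔ
  have hΨc : IsCharacter G Ψ := isCharacter_of_rep _
  have hΔc : IsCharacter G Δ := isCharacter_of_rep _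
  have hΦ : (fun g => ρ.character g * conj (ρ.character g)) = Ψ + Δ := by
    rw [hΨ, hΔ, ← char_eq_add_of_isCompl (linHom ρ ρ) U U' hc]
    funext g
    rw [Representation.char_linHom, Cfsg.Agent.Lib.L0.char_inv, mul_comm]
  -- formula for Ψ
  have hzc0 : (zc N : ℂ) ≠ 0 := by exact_mod_cast (zc_pos N).ne'
  have hform : ∀ g, Ψ g = (zc N : ℂ)⁻¹ * ∑ x : N, eta ρ N g (x : G) := by
    intro g
    rw [hΨ, hU, spanSub_character ρ N hvan g, sum_char_com ρ N hvan g, c0, ← mul_assoc]
    congr 1
    rw [mul_inv, mul_assoc, inv_mul_cancel₀ hχ1, mul_one]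
  have hgal : ∀ g, Ψ (g ^ k) = Ψ g := by
    intro g
    rw [hform, hform, sum_eta_pow ρ N g hk]
  have hΨ1 : Ψ 1 = (zc N : ℂ)⁻¹ * (Fintype.card N : ℂ) := by
    rw [hform, sum_eta_one]
  -- `zc N < |N|`
  have hlt : zc N < Fintype.card N := by
    apply zc_lt_card
    by_contra h
    push Not at h
    exact hne h
  have hdeg : Ψ 1 ≠ 1 := by
    rw [hΨ1]
    intro h
    have h' : (Fintype.card N : ℂ) = (zc N : ℂ) := by
      field_simp at h
      exact h
    have : Fintype.card N = zc N := by exact_mod_cast h'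
    omega
  have h1 : classInner Ψ (1 : G → ℂ) ≠ 0 := by
    choose m hm using fun g => exists_nat_sum_eta ρ N g
    have hm1 : m 1 = Fintype.card N := by
      have := hm 1
      rw [sum_eta_one] at this
      exact_mod_cast this.symm
    have hsum : ∑ g : G, Ψ g * conj ((1 : G → ℂ) g) = (zc N : ℂ)⁻¹ * ((∑ g : G, m g : ℕ) : ℂ) := by
      push_cast
      rw [Finset.mul_sum]
      refine Finset.sum_congr rfl fun g _ => ?_
      rw [hform, hm g]
      simp
    unfold classInner
    rw [hsum]
    apply mul_ne_zero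
    · exact inv_ne_zero (by exact_mod_cast (Nat.card_pos (α := G)).ne')
    · apply mul_ne_zero (inv_ne_zero hzc0)
      have hpos : 0 < ∑ g : G, m g := by
        apply Finset.sum_pos'
        · intro g _; exact Nat.zero_le _
        · exact ⟨1, Finset.mem_univ _, by rw [hm1]; exact Fintype.card_pos⟩
      exact_mod_cast hpos.ne'
  exact classInner_galois_ne_one k hk hΨc hΔc hΦ hgal h1 hdeg hnorm

end Cfsg.Agent.Lib.H26.GalProd
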