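import Cfsg.Agent.Lib.H26.GalProdF
import Cfsg.Prelude.Def_Solvable

/-!
# `χ` faithful irreducible with `χ · χ^σ` irreducible implies `F(G) = Z(G)` (helper26)
-/

set_option autoImplicit false

namespace Cfsg.Agent.Lib.H26.GalProd

open Cfsg Cfsg.Agent.Lib.L0 Cfsg.Agent.Lib.H23
open scoped ComplexConjugate

theorem lcs_normal {G : Type*} [Group G] (N : Subgroup G) [hN : N.Normal] :
    ∀ n : ℕ, (N.lowerCentralSeries n).Normal
  | 0 => by simpa using hN
  | n + 1 => by
    have := lcs_normal N n
    rw [Subgroup.lowerCentralSeries_succ]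
    infer_instance

theorem fitting_eq_center {G : Type*} [Group G] [Finite G] (χ : IrrCharacter G)
    (hfaith : ∀ g : G, (χ : G → ℂ) g = (χ : G → ℂ) 1 → g = 1) (k : ℕ)
    (hk : Nat.Coprime k (Nat.card G))
    (hirr : IsIrrCharacter G (fun g => (χ : G → ℂ) g * (χ : G → ℂ) (g ^ k))) :
    fittingSubgroup G = Subgroup.center G := by
  classical
  have : Fintype G := Fintype.ofFinite G
  have hnorm : classInner (fun g => (χ : G → ℂ) g * conj ((χ : G → ℂ) g))
      (fun g => (fun g => (χ : G → ℂ) g * conj ((χ : G → ℂ) g)) (g ^ k)) = 1 := by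
    rw [← classInner_prod_eq]
    exact irr_classInner_self hirr
  have hab := abelian_normal_le_center (χ : G → ℂ) χ.2 hfaith k hk hnorm
  apply le_antisymm
  · -- every normal nilpotent subgroup is central
    apply sSup_le
    rintro N ⟨hNn, hNnil⟩
    by_contra hNZ
    obtain ⟨n0, hn0⟩ := (Subgroup.isNilpotent_iff_lowerCentralSeries N).mp hNnil
    have hex : ∃ i, N.lowerCentralSeries i ≤ Subgroup.center G := ⟨n0, by rw [hn0]; exact bot_le⟩
    set i := Nat.find hex with hi
    have hi_spec : N.lowerCentralSeries i ≤ Subgroup.center G := Nat.find_spec hex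
    have hi0 : i ≠ 0 := by
      intro h0
      rw [h0, Subgroup.lowerCentralSeries_zero] at hi_spec
      exact hNZ hi_spec
    obtain ⟨j, hj⟩ := Nat.exists_eq_succ_of_ne_zero hi0
    have hjmin : ¬ N.lowerCentralSeries j ≤ Subgroup.center G :=
      Nat.find_min hex (by rw [← hi, hj]; exact Nat.lt_succ_self j)
    set M := N.lowerCentralSeries j with hM
    have hMn : M.Normal := lcs_normal N j
    have hMN : M ≤ N := Subgroup.lowerCentralSeries_le_self N j
    have hcomm : ⁅M, N⁆ ≤ Subgroup.center G := by
      rw [hj, Subgroup.lowerCentralSeries_succ] at hi_spec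
      exact hi_spec
    obtain ⟨n, ρ, hρirr, hρ⟩ := χ.2
    have := hρirr
    apply Cfsg.Agent.Lib.H26.GalProd.class_two_false ρ (by rw [hρ]; exact hfaith) k hk
      (by rw [hρ]; exact hnorm) M
    · intro x hx y hy
      apply hcomm
      have := Subgroup.commutator_mem_commutator hx (hMN hy)
      rwa [commutatorElement_def] at this
    · intro x hx hxc
      -- the centre of `M` is an abelian normal subgroup of `G`
      set C : Subgroup G := M ⊓ Subgroup.centralizer (M : Set G) with hC
      have hCn : C.Normal := by rw [hC]; infer_instance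
      have hCab : ∀ a ∈ C, ∀ b ∈ C, a * b = b * a := by
        intro a ha b hb
        have := (Subgroup.mem_centralizer_iff.mp hb.2) a ha.1
        exact this
      have hxC : x ∈ C := by
        refine ⟨hx, ?_⟩
        show x ∈ Subgroup.centralizer (M : Set G)
        rw [Subgroup.mem_centralizer_iff]
        intro y hy
        exact (hxc y hy).symm
      exact hab C hCab hxC
    · exact hjmin
  · -- the centre is a normal nilpotent subgroup
    apply le_sSup
    refine ⟨inferInstance, ?_⟩
    apply Subgroup.isNilpotent_of_lowerCentralSeries_eq_bot (n := 1)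
    rw [Subgroup.lowerCentralSeries_succ, Subgroup.lowerCentralSeries_zero,
      Subgroup.commutator_eq_bot_iff_le_centralizer]
    exact Subgroup.center_le_centralizer _

end Cfsg.Agent.Lib.H26.GalProd
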