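import Mathlib
import Cfsg.Agent.Lib.H26.GenSys

set_option autoImplicit false

/-!
`F = ⟨C_F(℧¹(Z(S))), N_F(W(S))⟩` for a saturated fusion system `F` over `S` and a functor `W`
with quadratic elements (helper26): every fusion system `E ≤ F` over `S` containing the maps of
`F` between overgroups of `℧¹(Z(S))` that fix it elementwise, and the maps of `F` between
overgroups of `W(S)` that normalize it, contains all maps of `F`.
-/

namespace Cfsg.Agent.Lib.H26.Gen

open Cfsg Cfsg.FusionSystem Cfsg.Agent.Lib.H25 Cfsg.Agent.Lib.H26 Cfsg.Agent.Lib.H26.Nil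
  Cfsg.Agent.Lib.H26.Model Cfsg.Agent.Lib.H26.ZJ Cfsg.Agent.Lib.H26.Ctl

universe u

variable {Ω : Type u} [Group Ω] {S : Subgroup Ω}

theorem vOf_mono_center (p : ℕ) {S T : Subgroup Ω}
    (h : S ⊓ Subgroup.centralizer (S : Set Ω) ≤ T ⊓ Subgroup.centralizer (T : Set Ω)) :
    vOf p S ≤ vOf p T := by
  unfold vOf Cfsg.powerClosure
  apply Subgroup.closure_mono
  rintro y ⟨x, hx, rfl⟩
  exact ⟨x, h hx, rfl⟩

/-- The centre of `S` lies in the centre of the normalizer in `S` of any subgroup of `S`. -/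
theorem center_le_center_normalizerIn {U : Subgroup Ω} (hUS : U ≤ S) :
    S ⊓ Subgroup.centralizer (S : Set Ω) ≤
      normalizerIn S U ⊓ Subgroup.centralizer ((normalizerIn S U : Subgroup Ω) : Set Ω) := by
  intro z hz
  have hzS : z ∈ S := hz.1
  have hzc : ∀ s ∈ S, s * z = z * s := by
    intro s hs
    have h3 : z ∈ Subgroup.centralizer (S : Set Ω) := hz.2
    rw [Subgroup.mem_centralizer_iff] at h3
    exact h3 s hs
  refine ⟨⟨hzS, ?_⟩, ?_⟩
  · show z ∈ Subgroup.normalizer (U : Set Ω)
    rw [Subgroup.mem_normalizer_iff]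
    intro u
    constructor
    · intro hu
      have := hzc u (hUS hu)
      rw [← this, mul_inv_cancel_right]; exact hu
    · intro hu
      have h4 : z * u * z⁻¹ ∈ S := hUS hu
      have h5 : u ∈ S := by
        have := S.mul_mem (S.mul_mem (S.inv_mem hzS) h4) hzS
        simpa [mul_assoc] using this
      have := hzc u h5
      rw [← this, mul_inv_cancel_right] at hu; exact hu
  · show z ∈ Subgroup.centralizer ((normalizerIn S U : Subgroup Ω) : Set Ω)
    rw [Subgroup.mem_centralizer_iff]
    intro t ht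
    exact hzc t ht.1

/-- The hypotheses pass to subsystems. -/
theorem sub_hyps {F E : FusionSystem S} {T : Subgroup Ω} (hTS : T ≤ S) {N : FusionSystem T}
    (hNF : ∀ P : Subgroup Ω, N.Hom P ⊆ F.Hom P) {V V' X : Subgroup Ω} (hVV' : V ≤ V')
    (hC : CGood F E V) (hgood : ZJ.Good F E X) :
    CGood N (resSys N E hTS) V' ∧ ZJ.Good N (resSys N E hTS) X := by
  constructor
  · intro A B g hV'A hg hfix
    rw [isIso_resSys_iff]
    exact ⟨hg, hC A B g (hVV'.trans hV'A) (isIso_of_hom_le hNF hg) (fun x hx => hfix x (hVV' hx))⟩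
  · intro A B g hXA hAT hg hgX
    rw [isIso_resSys_iff]
    exact ⟨hg, hgood A B g hXA (hAT.trans (inf_le_inf_right _ hTS)) (isIso_of_hom_le hNF hg)
      (isIso_of_hom_le hNF hgX)⟩

/-- An automorphism of `P`, as a function-level isomorphism of `E`, belongs to `Aut_E(P)`. -/
theorem mem_autGroup_of_isIso {E : FusionSystem S} {P : Subgroup Ω} (hPS : P ≤ S)
    {α : MulAut P} (h : IsIso E P P (ext1 (P.subtype.comp α.toMonoidHom))) :
    α ∈ E.autGroup P := by
  rw [mem_autGroup_iff _ hPS]
  exact mem_hom_of_isIso E h (fun x => (ext1_apply _ x).symm)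

section main

variable {p : ℕ} [Fact p.Prime] (W : PFun.{u} p)

/-- The inductive statement. -/
def MainG (n : ℕ) : Prop :=
  ∀ {Ω : Type u} [Group Ω] {S : Subgroup Ω} [Finite S], Nat.card S = n → IsPGroup p S →
    ∀ F : FusionSystem S, F.IsSaturated p → ∀ E : FusionSystem S,
      (∀ P : Subgroup Ω, E.Hom P ⊆ F.Hom P) → CGood F E (vOf p S) → ZJ.Good F E (W.W S) →
      ∀ P : Subgroup Ω, F.Hom P ⊆ E.Hom P

/-- The induction hypothesis on the number of maps. -/
def IHk (F : FusionSystem S) : Prop :=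
  ∀ F₁ : FusionSystem S, msize F₁ < msize F → F₁.IsSaturated p → ∀ E₁ : FusionSystem S,
    (∀ P : Subgroup Ω, E₁.Hom P ⊆ F₁.Hom P) → CGood F₁ E₁ (vOf p S) → ZJ.Good F₁ E₁ (W.W S) →
    ∀ P : Subgroup Ω, F₁.Hom P ⊆ E₁.Hom P

/-- Proper saturated subsystems over `S` are contained in `E`. -/
theorem sub_of_smaller [Finite S] {F E : FusionSystem S} (hIHk : IHk W F)
    (hC : CGood F E (vOf p S)) (hN : ZJ.Good F E (W.W S)) {F₁ : FusionSystem S}
    (hF₁F : ∀ P : Subgroup Ω, F₁.Hom P ⊆ F.Hom P) (hsat : F₁.IsSaturated p)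
    (hne : ¬ ∀ P : Subgroup Ω, F.Hom P ⊆ F₁.Hom P) {A B : Subgroup Ω} {g : Ω → Ω}
    (hg : IsIso F₁ A B g) : IsIso E A B g := by
  push Not at hne
  obtain ⟨P, hP⟩ := hne
  obtain ⟨φ, hφ, hφ'⟩ := Set.not_subset.1 hP
  have hlt : msize F₁ < msize F := msize_lt hF₁F hφ hφ'
  obtain ⟨h1, h2⟩ := sub_hyps (le_refl S) hF₁F (le_refl (vOf p S)) hC hN
  have h3 := hIHk F₁ hlt hsat (resSys F₁ E (le_refl S)) (resSys_le F₁ E _) h1 h2
  exact isIso_of_le_resSys h3 hg

variable (hq : ∀ (G : Type u) [Group G] [Finite G] (P : Sylow p G),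
      ¬ (W.W (P : Subgroup G)).Normal → ∃ g : G, g ∈ (P : Subgroup G) ∧ g ∉ pCore p G ∧
        ⁅⁅(Subgroup.center ↥(pCore p G)).map (pCore p G).subtype, Subgroup.zpowers g⁆,
          Subgroup.zpowers g⁆ = ⊥)

include hq in
/-- The main step: a saturated system without nontrivial normal subgroups (the chain argument). -/
theorem chain_gen {n : ℕ} (ih : ∀ m < n, MainG W m) [Finite S] (hcard : Nat.card S = n)
    (hS : IsPGroup p S) (F : FusionSystem S) (hF : F.IsSaturated p) (hIHk : IHk W F)
    (hno : ∀ U : Subgroup Ω, F.IsNormal U → U = ⊥) (E : FusionSystem S)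
    (hEF : ∀ P : Subgroup Ω, E.Hom P ⊆ F.Hom P) (hC : CGood F E (vOf p S))
    (hN : ZJ.Good F E (W.W S)) : ∀ P : Subgroup Ω, F.Hom P ⊆ E.Hom P := by
  have hW₀S : W.W S ≤ S := W.le S
  have hW₀N : normalizerIn S (W.W S) = S := W.normalizerIn_self S hS
  apply alperin_ind hS F hF E
  intro P hP IHhom
  have hPS : P ≤ S := le_of_eq_or_essential hP
  have IHA : ∀ (A B : Subgroup Ω) (f : Ω → Ω), Nat.card P < Nat.card A → IsIso F A B f →
      IsIso E A B f := by
    intro A B f hlt hf
    have hAS := hf.le_left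
    obtain ⟨φ, hφ, h1, h2⟩ := hf
    exact ⟨φ, IHhom A hAS hlt hφ, h1, h2⟩
  intro α hα
  apply mem_autGroup_of_isIso hPS
  have hf := isIso_of_mem_autGroup F hPS hα
  by_cases hPeq : P = S
  · -- automorphisms of `S`
    subst hPeq
    have hfW : IsIso F (W.W P) (W.W P) (ext1 (P.subtype.comp α.toMonoidHom)) := by
      refine hf.restrict' hW₀S (fun y hy => ?_) (fun y hy => ?_)
      · rw [ext1_apply_mem _ (hW₀S hy)]
        exact aut_mem_W W hS α ⟨y, hW₀S hy⟩ hy
      · have h1 := aut_mem_W W hS α⁻¹ ⟨y, hW₀S hy⟩ hy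
        refine ⟨((α⁻¹ ⟨y, hW₀S hy⟩ : P) : Ω), h1, ?_⟩
        rw [ext1_apply]
        show ((α (α⁻¹ ⟨y, hW₀S hy⟩) : P) : Ω) = y
        simp
    exact hN _ _ _ hW₀S (by rw [hW₀N]) hf hfW
  · -- essential subgroups
    have hess : F.IsEssential p P := by
      rcases hP with h | h
      · exact absurd h hPeq
      · exact h
    have hc := hess.1
    have hfn := hess.2.1
    have hCP : centralizerIn S P ≤ P := hc.2 P (isConj_refl F hPS)
    have hPne : P ≠ ⊥ := by
      intro h
      apply hPeq
      apply le_antisymm hPS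
      intro s hs
      apply hCP
      refine ⟨hs, ?_⟩
      show s ∈ Subgroup.centralizer (P : Set Ω)
      rw [Subgroup.mem_centralizer_iff]
      intro y hy
      have hy' : y ∈ P := hy
      rw [h, Subgroup.mem_bot] at hy'
      rw [hy']
      simp
    set T := normalizerIn S P with hTdef
    have hTS : T ≤ S := inf_le_left
    have hfinT : Finite T := finite_of_le S hTS
    have hTp : IsPGroup p T := hS.to_le hTS
    have hPT : P ≤ T := le_normalizerIn hPS
    have hPltT : Nat.card P < Nat.card T := by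
      obtain ⟨y, hyN, hyP⟩ := exists_mem_normalizerIn_not_mem hS hPS hPeq
      exact card_lt_of_lt' inf_le_left (lt_of_le_of_ne hPT (fun h => hyP (h ▸ hyN)))
    have hXT : W.W T ≤ T := W.le T
    have hTne : T ≠ ⊥ := fun h => hPne (le_bot_iff.1 (h ▸ hPT))
    have hXne : W.W T ≠ ⊥ := W.ne_bot T hfinT hTp hTne
    have hTNX : normalizerIn S T ≤ normalizerIn S (W.W T) := W.normalizerIn_le S T hfinT hTp
    have hTNT : T ≤ normalizerIn S T := le_normalizerIn hTS
    have hfinNX : Finite (normalizerIn S (W.W T)) := finite_of_le S inf_le_left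
    have hc1 : Nat.card P < Nat.card (normalizerIn S (W.W T)) :=
      lt_of_lt_of_le hPltT (Subgroup.card_le_of_le (hTNT.trans hTNX))
    -- the chain
    have hfnstep : ∀ U : Subgroup Ω, F.IsFullyNormalized U → U ≠ ⊥ →
        (∀ U₂ : Subgroup Ω, U₂ ≤ S → U₂ ≠ ⊥ →
          Nat.card (normalizerIn S U) < Nat.card (normalizerIn S U₂) → ZJ.Good F E U₂) →
        ZJ.Good F E U := by
      intro U hUfn hUne IH₂
      have hUS := hUfn.1
      intro A B g hUA hAT hg hgU
      obtain ⟨hBT, hNHom⟩ := isNHom_of_normalizes hUA hAT hg hgU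
      by_cases hT : normalizerIn S U = S
      · obtain ⟨N₁, hN₁, hN₁sat, hN₁U⟩ := exists_normalizer_on_top hS hF hUfn hT
        have hN₁F := hom_le_of_normalizer (F := F) hN₁
        have hne : ¬ ∀ P : Subgroup Ω, F.Hom P ⊆ N₁.Hom P := fun hsub =>
          hUne (hno U (isNormal_of_hom_le hUS hN₁ hsub))
        exact sub_of_smaller W hIHk hC hN hN₁F hN₁sat hne (isIso_of_isNHom hN₁ hg hNHom)
      · set T₂ := normalizerIn S U with hT₂def
        have hT₂S : T₂ ≤ S := inf_le_left
        have hfinT₂ : Finite T₂ := finite_of_le S hT₂S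
        have hT₂p : IsPGroup p T₂ := hS.to_le hT₂S
        have hUT₂ : U ≤ T₂ := le_normalizerIn hUS
        have hT₂ne : T₂ ≠ ⊥ := fun h => hUne (le_bot_iff.1 (h ▸ hUT₂))
        have hT₂lt : Nat.card T₂ < n := by
          rw [← hcard]
          exact card_lt_of_lt' le_rfl (lt_of_le_of_ne hT₂S hT)
        have hNs : F.IsNormalizerSystem U (Cfsg.Agent.S5096.normSys F U hUS) := fun _ => rfl
        have hNsat := normalizerSystem_isSaturated hS hF hUfn _ hNs
        have hNF := hom_le_of_normalizer (F := F) hNs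
        have hX₂T : W.W T₂ ≤ T₂ := W.le T₂
        have hX₂ne : W.W T₂ ≠ ⊥ := W.ne_bot T₂ hfinT₂ hT₂p hT₂ne
        have hT₂NX : normalizerIn S T₂ ≤ normalizerIn S (W.W T₂) :=
          W.normalizerIn_le S T₂ hfinT₂ hT₂p
        have hT₂NT : T₂ ≤ normalizerIn S T₂ := le_normalizerIn hT₂S
        have hlt : Nat.card T₂ < Nat.card (normalizerIn S (W.W T₂)) := by
          obtain ⟨y, hyN, hyT⟩ := exists_mem_normalizerIn_not_mem hS hT₂S hT
          have h1 : T₂ < normalizerIn S T₂ := lt_of_le_of_ne hT₂NT (fun h => hyT (h ▸ hyN))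
          have hfinNX₂ : Finite (normalizerIn S (W.W T₂)) := finite_of_le S inf_le_left
          exact lt_of_lt_of_le (card_lt_of_lt' inf_le_left h1) (Subgroup.card_le_of_le hT₂NX)
        have hgood := IH₂ (W.W T₂) (hX₂T.trans hT₂S) hX₂ne hlt
        have hVV : vOf p S ≤ vOf p T₂ := vOf_mono_center p (center_le_center_normalizerIn hUS)
        obtain ⟨h1, h2⟩ := sub_hyps hT₂S hNF hVV hC hgood
        have h3 := ih _ hT₂lt rfl hT₂p _ hNsat (resSys _ E hT₂S) (resSys_le _ E _) h1 h2
        exact isIso_of_le_resSys h3 (isIso_of_isNHom hNs hg hNHom)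
    have hgoodX : ZJ.Good F E (W.W T) :=
      good_all_gen hS hF hEF hfnstep IHA _ (W.W T) (hXT.trans hTS) hXne hc1 rfl
    -- the model of `N_F(P)`
    have hNs : F.IsNormalizerSystem P (Cfsg.Agent.S5096.normSys F P hPS) := fun _ => rfl
    have hNsat := normalizerSystem_isSaturated hS hF hfn _ hNs
    have hNF := hom_le_of_normalizer (F := F) hNs
    have hNP : (Cfsg.Agent.S5096.normSys F P hPS).IsNormal P := normalizerSystem_isNormal hPS hNs
    have hCTP : centralizerIn T P ≤ P := fun y hy => hCP ⟨hTS hy.1, hy.2⟩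
    have hVV : vOf p S ≤ vOf p T := vOf_mono_center p (center_le_center_normalizerIn hPS)
    obtain ⟨h1, h2⟩ := sub_hyps hTS hNF hVV hC hgoodX
    have h3 := gen_of_constrained W hq hTp hNsat hNP hCTP (resSys _ E hTS) h1 h2
    obtain ⟨-, hNHom⟩ := isNHom_of_normalizes (le_refl P) hPT hf hf
    exact isIso_of_le_resSys h3 (isIso_of_isNHom hNs hf hNHom)

/-- Maps of `F'` normalizing `U'` lift to maps of the normalizer system of the preimage of
`U'`. -/
theorem push_of_normalizes [Finite S] {Ω' : Type u} [Group Ω'] {S' : Subgroup Ω'}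
    {F : FusionSystem S} {F' : FusionSystem S'} {θ : S →* Ω'}
    (hsm : F.IsSurjectiveMorphism F' θ) (hK : F.StronglyClosed (kerSub θ)) (E : FusionSystem S)
    (hEF : ∀ P : Subgroup Ω, E.Hom P ⊆ F.Hom P) {U' : Subgroup Ω'}
    (hNS : normalizerIn S (preimageAlong θ U') = S) {N : FusionSystem S}
    (hN : ∀ P : Subgroup Ω, N.Hom P = F.normalizerHom (preimageAlong θ U') P)
    (hNE : ∀ (A B : Subgroup Ω) (g : Ω → Ω), IsIso N A B g → IsIso E A B g)
    {A' B' : Subgroup Ω'} {g' : Ω' → Ω'} (hU'A' : U' ≤ A') (hg' : IsIso F' A' B' g')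
    (hg'U : ∀ x ∈ U', g' x ∈ U') : IsIso (pushSys hsm hK E hEF) A' B' g' := by
  rw [isIso_pushSys_iff]
  refine ⟨hg', ?_⟩
  obtain ⟨g, hg, hgg'⟩ := lift_iso hsm hK hg'
  refine ⟨g, hNE _ _ _ ?_, hgg'⟩
  have hUA : preimageAlong θ U' ≤ preimageAlong θ A' := pre_mono θ hU'A'
  have hmap : ∀ x ∈ preimageAlong θ U', g x ∈ preimageAlong θ U' := by
    intro x hx
    refine (mem_pre_iff θ U' _).2 ⟨hg.le_right (hg.map_mem (hUA hx)), ?_⟩
    rw [← hgg' x (hUA hx)]
    exact hg'U _ ((mem_pre_iff θ U' x).1 hx).2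
  obtain ⟨U₁, -, hU₁, -⟩ := hg.restrict hUA
  have hU₁eq : U₁ = preimageAlong θ U' := IsIso.eq_of_map_mem hU₁ hmap
  rw [hU₁eq] at hU₁
  have hAT : preimageAlong θ A' ≤ normalizerIn S (preimageAlong θ U') := by
    rw [hNS]; exact preimageAlong_le θ A'
  obtain ⟨-, hNHom⟩ := isNHom_of_normalizes hUA hAT hg hU₁
  exact isIso_of_isNHom hN hg hNHom

/-- To show `F ≤ E` it suffices to consider the maps between overgroups of a normal subgroup. -/
theorem hom_sub_of_ext {F E : FusionSystem S} {Q : Subgroup Ω} (hQ : F.IsNormal Q)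
    (h : ∀ (A B : Subgroup Ω) (g : Ω → Ω), Q ≤ A → IsIso F A B g → IsIso E A B g) :
    ∀ P : Subgroup Ω, F.Hom P ⊆ E.Hom P := by
  intro P φ hφ
  have hf := isIso_of_mem F hφ
  obtain ⟨g, hg, hgf, -⟩ := isNormal_exists_ext hQ hf
  have hgE := h _ _ g le_sup_right hg
  obtain ⟨B', -, h4, -⟩ := hgE.restrict (le_sup_left : P ≤ P ⊔ Q)
  apply mem_hom_of_isIso E h4
  intro x
  rw [hgf x x.2, ext1_apply]

include hq in
/-- **Case B**: a saturated system with a nontrivial normal subgroup. -/
theorem caseB_gen {n : ℕ} (ih : ∀ m < n, MainG W m) [Finite S] (hcard : Nat.card S = n)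
    (hS : IsPGroup p S) (F : FusionSystem S) (hF : F.IsSaturated p) (hIHk : IHk W F)
    (E : FusionSystem S) (hEF : ∀ P : Subgroup Ω, E.Hom P ⊆ F.Hom P)
    (hC : CGood F E (vOf p S)) (hN : ZJ.Good F E (W.W S)) :
    ∀ j : ℕ, ∀ Q : Subgroup Ω, F.IsNormal Q → Q ≠ ⊥ → Nat.card S - Nat.card Q = j →
      ∀ P : Subgroup Ω, F.Hom P ⊆ E.Hom P := by
  intro j
  induction j using Nat.strong_induction_on with
  | _ j IH =>
    intro Q hQ hQne hj
    by_cases hCQ : centralizerIn S Q ≤ Q
    · exact gen_of_constrained W hq hS hF hQ hCQ E hC hN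
    have hQS := hQ.1
    have hQsc := isNormal_stronglyClosed hQ
    have hQn : S ≤ Subgroup.normalizer (Q : Set Ω) := stronglyClosed_le_normalizer hQsc
    have hfinQ : Finite Q := finite_of_le S hQS
    -- `R = Q C_S(Q)`
    set C := centralizerIn S Q with hCdef
    have hCS : C ≤ S := inf_le_left
    have hCn : S ≤ Subgroup.normalizer (C : Set Ω) := le_normalizer_centralizerIn hQn
    have hRS : Q ⊔ C ≤ S := sup_le hQS hCS
    have hRn : S ≤ Subgroup.normalizer ((Q ⊔ C : Subgroup Ω) : Set Ω) :=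
      le_normalizer_sup hQn hCn
    have hNSR : normalizerIn S (Q ⊔ C) = S := inf_eq_left.2 hRn
    have hRfn : F.IsFullyNormalized (Q ⊔ C) := isFullyNormalized_of_normalizerIn_eq hRS hNSR
    have hQR : Q < Q ⊔ C := by
      refine lt_of_le_of_ne le_sup_left (fun h => hCQ ?_)
      rw [h]
      exact le_sup_right
    have hcardR : Nat.card Q < Nat.card (Q ⊔ C : Subgroup Ω) := card_lt_of_lt' hRS hQR
    have hcardRS : Nat.card (Q ⊔ C : Subgroup Ω) ≤ Nat.card S := Subgroup.card_le_of_le hRS
    have hRne : Q ⊔ C ≠ ⊥ := fun h => hQne (le_bot_iff.1 (h ▸ le_sup_left))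
    obtain ⟨N₁, hN₁, hN₁sat, hN₁R⟩ := exists_normalizer_on_top hS hF hRfn hNSR
    have hN₁F := hom_le_of_normalizer (F := F) hN₁
    by_cases hsub₁ : ∀ P : Subgroup Ω, F.Hom P ⊆ N₁.Hom P
    · exact IH (Nat.card S - Nat.card (Q ⊔ C : Subgroup Ω)) (by omega) (Q ⊔ C)
        (isNormal_of_hom_le hRS hN₁ hsub₁) hRne rfl
    have h1 : ∀ (A B : Subgroup Ω) (g : Ω → Ω), IsIso N₁ A B g → IsIso E A B g :=
      fun A B g hg => sub_of_smaller W hIHk hC hN hN₁F hN₁sat hsub₁ hg
    -- `D = S C_F(Q)`
    have hDsat := scSys_isSaturated (F := F) hQS hQn hS hF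
    have hDF := scSys_le (F := F) hQS hQn
    by_cases hsubD : ∀ P : Subgroup Ω, F.Hom P ⊆ (scSys F Q hQS hQn).Hom P
    · by_cases hVQ : vOf p S ≤ Q
      · -- every map fixes `vOf p S`
        apply hom_sub_of_ext hQ
        intro A B g hQA hg
        have hgD : IsIso (scSys F Q hQS hQn) A B g := isIso_of_hom_le hsubD hg
        obtain ⟨s, hs, hsq⟩ := scSys_res hQS hQn hgD hQA
        apply hC A B g (hVQ.trans hQA) hg
        intro x hx
        rw [hsq x (hVQ hx)]
        have h3 : x ∈ Subgroup.centralizer (S : Set Ω) := (vOf_le p S hx).2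
        rw [Subgroup.mem_centralizer_iff] at h3
        rw [h3 s hs, mul_inv_cancel_right]
      -- the quotient
      obtain ⟨Ω', hΩ', S', F', θ, hsm, hker, hfac⟩ := exists_factor hS hF hQsc
      have hrange := hsm.2.1
      have hmor := hsm.1
      have hfinS' : Finite S' := finite_S' hrange
      have hS'p : IsPGroup p S' := isPGroup_S' hrange hS
      have hF'sat : F'.IsSaturated p := isSaturated_of_surjectiveMorphism hS hF hsm
      have hK : F.StronglyClosed (kerSub θ) := by rw [hker]; exact hQsc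
      have hcardS' : Nat.card S = Nat.card Q * Nat.card S' := by
        have := card_pre hrange (le_refl S')
        rwa [pre_top hrange, hker] at this
      have hQ1 : 1 < Nat.card Q := one_lt_card_of_ne_bot hQne
      have hS'pos : 0 < Nat.card S' := Nat.card_pos
      have hS'lt : Nat.card S' < n := by
        rw [← hcard, hcardS']
        nlinarith
      have hS'ne : S' ≠ ⊥ := by
        intro h
        have h2 : Nat.card S' = 1 := by rw [h]; exact Subgroup.card_bot
        have h3 : Nat.card Q = Nat.card S := by rw [hcardS', h2, mul_one]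
        omega
      -- the preimage `X` of `W(S')`
      have hX'S' : W.W S' ≤ S' := W.le S'
      have hX'ne : W.W S' ≠ ⊥ := W.ne_bot S' hfinS' hS'p hS'ne
      set X := preimageAlong θ (W.W S') with hXdef
      have hXS : X ≤ S := preimageAlong_le θ _
      have hXn : S ≤ Subgroup.normalizer (X : Set Ω) := by
        have key : ∀ g ∈ S, ∀ x ∈ X, g * x * g⁻¹ ∈ X := by
          intro g hg x hx
          obtain ⟨hxS, hx'⟩ := (mem_pre_iff θ _ x).1 hx
          refine (mem_pre_iff θ _ _).2 ⟨S.mul_mem (S.mul_mem hg hxS) (S.inv_mem hg), ?_⟩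
          rw [al_conj θ hg hxS]
          have hgS' : al θ g ∈ S' := al_mem_S' hrange hg
          have h2 : al θ g ∈ Subgroup.normalizer ((W.W S' : Subgroup Ω') : Set Ω') :=
            W.normalizer_le S' hfinS' hS'p (Subgroup.le_normalizer hgS')
          exact (Subgroup.mem_normalizer_iff.1 h2 _).1 hx'
        intro g hg
        rw [Subgroup.mem_normalizer_iff]
        intro x
        refine ⟨fun hx => key g hg x hx, fun hx => ?_⟩
        have := key g⁻¹ (S.inv_mem hg) _ hx
        simpa [mul_assoc] using this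
      have hNSX : normalizerIn S X = S := inf_eq_left.2 hXn
      have hXfn : F.IsFullyNormalized X := isFullyNormalized_of_normalizerIn_eq hXS hNSX
      have hQX : Q < X := by
        have hle : Q ≤ X := by rw [← hker]; exact kerSub_le_pre θ _
        refine lt_of_le_of_ne hle (fun h => hX'ne ?_)
        apply pre_injective hrange hX'S' bot_le
        show X = kerSub θ
        rw [hker, h]
      have hcardX : Nat.card Q < Nat.card X := card_lt_of_lt' hXS hQX
      have hcardXS : Nat.card X ≤ Nat.card S := Subgroup.card_le_of_le hXS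
      have hXne : X ≠ ⊥ := fun h => hQne (le_bot_iff.1 (h ▸ hQX.le))
      obtain ⟨N₂, hN₂, hN₂sat, hN₂X⟩ := exists_normalizer_on_top hS hF hXfn hNSX
      have hN₂F := hom_le_of_normalizer (F := F) hN₂
      by_cases hsub₂ : ∀ P : Subgroup Ω, F.Hom P ⊆ N₂.Hom P
      · exact IH (Nat.card S - Nat.card X) (by omega) X
          (isNormal_of_hom_le hXS hN₂ hsub₂) hXne rfl
      have h2 : ∀ (A B : Subgroup Ω) (g : Ω → Ω), IsIso N₂ A B g → IsIso E A B g :=
        fun A B g hg => sub_of_smaller W hIHk hC hN hN₂F hN₂sat hsub₂ hg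
      -- the preimage `Y` of `vOf p S'`
      have hY'Z : vOf p S' ≤ S' ⊓ Subgroup.centralizer (S' : Set Ω') := vOf_le p S'
      have hY'S' : vOf p S' ≤ S' := hY'Z.trans inf_le_left
      set Y := preimageAlong θ (vOf p S') with hYdef
      have hYS : Y ≤ S := preimageAlong_le θ _
      have hYn : S ≤ Subgroup.normalizer (Y : Set Ω) := by
        have key : ∀ g ∈ S, ∀ x ∈ Y, g * x * g⁻¹ ∈ Y := by
          intro g hg x hx
          obtain ⟨hxS, hx'⟩ := (mem_pre_iff θ _ x).1 hx
          refine (mem_pre_iff θ _ _).2 ⟨S.mul_mem (S.mul_mem hg hxS) (S.inv_mem hg), ?_⟩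
          rw [al_conj θ hg hxS]
          have hgS' : al θ g ∈ S' := al_mem_S' hrange hg
          have h3 : al θ x ∈ Subgroup.centralizer (S' : Set Ω') := (hY'Z hx').2
          rw [Subgroup.mem_centralizer_iff] at h3
          rw [h3 _ hgS', mul_inv_cancel_right]
          exact hx'
        intro g hg
        rw [Subgroup.mem_normalizer_iff]
        intro x
        refine ⟨fun hx => key g hg x hx, fun hx => ?_⟩
        have := key g⁻¹ (S.inv_mem hg) _ hx
        simpa [mul_assoc] using this
      have hNSY : normalizerIn S Y = S := inf_eq_left.2 hYn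
      have hYfn : F.IsFullyNormalized Y := isFullyNormalized_of_normalizerIn_eq hYS hNSY
      have hVY : vOf p S ≤ Y := by
        unfold vOf Cfsg.powerClosure
        rw [Subgroup.closure_le]
        rintro y ⟨x, hx, rfl⟩
        have hxS : x ∈ S := hx.1
        have hxc : x ∈ Subgroup.centralizer (S : Set Ω) := hx.2
        rw [Subgroup.mem_centralizer_iff] at hxc
        have hx' : al θ x ∈ S' ⊓ Subgroup.centralizer (S' : Set Ω') := by
          refine ⟨al_mem_S' hrange hxS, ?_⟩
          show al θ x ∈ Subgroup.centralizer (S' : Set Ω')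
          rw [Subgroup.mem_centralizer_iff]
          intro t ht
          obtain ⟨s, hs, rfl⟩ := exists_al_eq hrange ht
          rw [← al_mul θ hs hxS, ← al_mul θ hxS hs, hxc s hs]
        have hpow : al θ (x ^ p ^ 1) = (al θ x) ^ p ^ 1 := by
          rw [al_apply θ (S.pow_mem hxS _), al_apply θ hxS]
          have : (⟨x ^ p ^ 1, S.pow_mem hxS _⟩ : S) = (⟨x, hxS⟩ : S) ^ p ^ 1 := rfl
          rw [this, map_pow]
        refine (mem_pre_iff θ _ _).2 ⟨S.pow_mem hxS _, ?_⟩
        rw [hpow]
        exact Subgroup.subset_closure ⟨al θ x, hx', rfl⟩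
      have hQY : Q < Y := by
        have hle : Q ≤ Y := by rw [← hker]; exact kerSub_le_pre θ _
        refine lt_of_le_of_ne hle (fun h => hVQ ?_)
        rw [h]; exact hVY
      have hcardY : Nat.card Q < Nat.card Y := card_lt_of_lt' hYS hQY
      have hcardYS : Nat.card Y ≤ Nat.card S := Subgroup.card_le_of_le hYS
      have hYne : Y ≠ ⊥ := fun h => hQne (le_bot_iff.1 (h ▸ hQY.le))
      obtain ⟨N₃, hN₃, hN₃sat, hN₃Y⟩ := exists_normalizer_on_top hS hF hYfn hNSY
      have hN₃F := hom_le_of_normalizer (F := F) hN₃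
      by_cases hsub₃ : ∀ P : Subgroup Ω, F.Hom P ⊆ N₃.Hom P
      · exact IH (Nat.card S - Nat.card Y) (by omega) Y
          (isNormal_of_hom_le hYS hN₃ hsub₃) hYne rfl
      have h3 : ∀ (A B : Subgroup Ω) (g : Ω → Ω), IsIso N₃ A B g → IsIso E A B g :=
        fun A B g hg => sub_of_smaller W hIHk hC hN hN₃F hN₃sat hsub₃ hg
      -- the image of `E`
      have hC' : CGood F' (pushSys hsm hK E hEF) (vOf p S') := by
        intro A' B' g' hVA' hg' hfix
        apply push_of_normalizes hsm hK E hEF hNSY hN₃ h3 hVA' hg'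
        intro x hx
        rw [hfix x hx]; exact hx
      have hN' : ZJ.Good F' (pushSys hsm hK E hEF) (W.W S') := by
        intro A' B' g' hXA' _ hg' hg'X
        exact push_of_normalizes hsm hK E hEF hNSX hN₂ h2 hXA' hg' (fun x hx => hg'X.map_mem hx)
      have hF'E' := ih _ hS'lt rfl hS'p F' hF'sat (pushSys hsm hK E hEF)
        (pushSys_le hsm hK E hEF) hC' hN'
      -- Alperin
      apply alperin_ind hS F hF E
      intro P hP IHhom
      have hPS : P ≤ S := le_of_eq_or_essential hP
      have IHA : ∀ (A B : Subgroup Ω) (f : Ω → Ω), Nat.card P < Nat.card A → IsIso F A B f →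
          IsIso E A B f := by
        intro A B f hlt hf
        have hAS := hf.le_left
        obtain ⟨φ, hφ, h1, h2⟩ := hf
        exact ⟨φ, IHhom A hAS hlt hφ, h1, h2⟩
      intro α hα
      apply mem_autGroup_of_isIso hPS
      have hf := isIso_of_mem_autGroup F hPS hα
      set f := ext1 (P.subtype.comp α.toMonoidHom) with hfdef
      by_cases hQP : Q ≤ P
      · obtain ⟨f', hf', hff'⟩ := push_iso hmor hf
        have hE' : IsIso (pushSys hsm hK E hEF) (imageAlong θ P) (imageAlong θ P) f' :=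
          isIso_of_hom_le hF'E' hf'
        rw [isIso_pushSys_iff] at hE'
        obtain ⟨-, e, he, hee'⟩ := hE'
        have hpre : preimageAlong θ (imageAlong θ P) = P :=
          pre_image hPS (by rw [hker]; exact hQP)
        rw [hpre] at he hee'
        obtain ⟨e', he', he'e, hee''⟩ := he.symm
        have hδ : IsIso F P P (f ∘ e') := (isIso_mono hEF he').trans hf
        have htriv : ∀ y ∈ P, y⁻¹ * (f ∘ e') y ∈ Q := by
          intro y hy
          have hz : e' y ∈ P := he'.map_mem hy
          have e1 := hff' _ hz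
          have e2 := hee' _ hz
          rw [hee'' y hy] at e2
          have e3 : al θ y = al θ ((f ∘ e') y) := by
            show al θ y = al θ (f (e' y))
            rw [← e1, e2]
          rw [← hker]
          exact inv_mul_mem_kerSub θ (hPS hy) (hPS (hδ.map_mem hy)) e3
        have hact : ∀ f₁ : Ω → Ω, IsIso F P P f₁ → ∃ s ∈ S, ∀ x ∈ Q, f₁ x = s * x * s⁻¹ :=
          fun f₁ h => scSys_res hQS hQn (isIso_of_hom_le hsubD h) hQP
        have hPfn : F.IsFullyNormalized P := by
          rcases hP with h | hess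
          · rw [h]
            exact isFullyNormalized_of_normalizerIn_eq le_rfl
              (inf_eq_left.2 Subgroup.le_normalizer)
          · exact hess.2.1
        obtain ⟨s, hs, hδs⟩ := exists_conj_of_trivial_mod hS hF hPfn hQP hQn hact hδ htriv
        have hδE : IsIso E P P (f ∘ e') := by
          have h5 : IsIso E P _ (fun x => s * x * s⁻¹) := IsIso.conj hPS hs
          have h6 := h5.congr (fun x hx => (hδs x hx).symm)
          have h7 := IsIso.target_eq (isIso_mono hEF h6) hδ (fun _ _ => rfl)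
          rw [h7] at h6
          exact h6
        refine (he.trans hδE).congr (fun x hx => ?_)
        show f (e' (e x)) = f x
        rw [he'e x hx]
      · obtain ⟨g, hg, hgf, -⟩ := isNormal_exists_ext hQ hf
        have hsupS : P ⊔ Q ≤ S := sup_le hPS hQS
        have hlt : Nat.card P < Nat.card (P ⊔ Q : Subgroup Ω) := by
          apply card_lt_of_lt' hsupS
          refine lt_of_le_of_ne le_sup_left (fun h => hQP ?_)
          rw [h]; exact le_sup_right
        have hgE := IHA _ _ g hlt hg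
        refine (hgE.restrict' le_sup_left (fun x hx => ?_) (fun y hy => ?_)).congr hgf
        · rw [hgf x hx]
          exact hf.map_mem hx
        · obtain ⟨x, hx, rfl⟩ := hf.surjOn hy
          exact ⟨x, hx, hgf x hx⟩
    · -- `D` is smaller: decompose
      have h2 : ∀ (A B : Subgroup Ω) (g : Ω → Ω), IsIso (scSys F Q hQS hQn) A B g →
          IsIso E A B g :=
        fun A B g hg => sub_of_smaller W hIHk hC hN hDF hDsat hsubD hg
      apply hom_sub_of_ext hQ
      intro A B g hQA hg
      obtain ⟨β, γ, P'', hβ, hβN, hQP'', hγ, hγfix, hgγβ⟩ := decompose hS hF hQ hg hQA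
      have hβN₁ : IsIso N₁ A P'' β := isIso_of_isNHom hN₁ hβ hβN
      have hγD : IsIso (scSys F Q hQS hQn) P'' B γ :=
        isIso_scSys_of_fix hQS hQn hγ hQP'' hγfix
      exact ((h1 _ _ _ hβN₁).trans (h2 _ _ _ hγD)).congr (fun x hx => (hgγβ x hx).symm)

include hq in
/-- **Generation**: a fusion system `E ≤ F` over `S` containing the maps of `F` between
overgroups of `℧¹(Z(S))` fixing it elementwise and the maps of `F` between overgroups of `W(S)`
normalizing it contains all maps of `F`. -/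
theorem main_gen : ∀ n : ℕ, MainG W n := by
  intro n
  induction n using Nat.strong_induction_on with
  | _ n ih =>
    intro Ω _ S _ hcard hS
    have inner : ∀ k : ℕ, ∀ F : FusionSystem S, msize F = k → F.IsSaturated p →
        ∀ E : FusionSystem S, (∀ P : Subgroup Ω, E.Hom P ⊆ F.Hom P) → CGood F E (vOf p S) →
        ZJ.Good F E (W.W S) → ∀ P : Subgroup Ω, F.Hom P ⊆ E.Hom P := by
      intro k
      induction k using Nat.strong_induction_on with
      | _ k IHk' =>
        intro F hk hF E hEF hC hN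
        have hIHk : IHk W F :=
          fun F₁ hlt hsat E₁ hE₁ hC₁ hN₁ => IHk' (msize F₁) (hk ▸ hlt) F₁ rfl hsat E₁ hE₁ hC₁ hN₁
        by_cases hnorm : ∃ U : Subgroup Ω, F.IsNormal U ∧ U ≠ ⊥
        · obtain ⟨U, hU, hUne⟩ := hnorm
          exact caseB_gen W hq ih hcard hS F hF hIHk E hEF hC hN _ U hU hUne rfl
        · have hno : ∀ U : Subgroup Ω, F.IsNormal U → U = ⊥ := by
            intro U hU
            by_contra hne
            exact hnorm ⟨U, hU, hne⟩
          exact chain_gen W hq ih hcard hS F hF hIHk hno E hEF hC hN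
    intro F hF E hEF hC hN
    exact inner _ F rfl hF E hEF hC hN

end main

end Cfsg.Agent.Lib.H26.Gen
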