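import Mathlib
import Cfsg.Prelude.Def_FusionSystem
import Cfsg.Prelude.Def_FusionComponents
import Cfsg.Agent.Lib.H25.Fusion
import Cfsg.Agent.Lib.H25.Normal
import Cfsg.Agent.Lib.H25.Alperin
import Cfsg.Agent.Lib.H25.SatEquiv
import Cfsg.Agent.Lib.H25.Hyperfocal
import Cfsg.Agent.Lib.H25.Factor
import Cfsg.Agent.S5144

set_option autoImplicit false
set_option linter.unusedSectionVars false

/-!
An analogue of Grün's lemma for fusion systems: if `hyp(F) = S` then `F/Z(F)` has trivial centre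
(helper26).
-/

namespace Cfsg.Agent.Lib.H26

open Cfsg Cfsg.FusionSystem Cfsg.Agent.Lib.H25

variable {Ω : Type*} [Group Ω] {S : Subgroup Ω} {Ω' : Type*} [Group Ω'] {S' : Subgroup Ω'}

/-- A map of the system defined on a subgroup containing a central subgroup `Z` fixes `Z`. -/
theorem isCentral_fixed {F : FusionSystem S} {Z : Subgroup Ω} (hZ : F.IsCentral Z)
    {R B : Subgroup Ω} {g : Ω → Ω} (hg : IsIso F R B g) (hZR : Z ≤ R) :
    ∀ z ∈ Z, g z = z := by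
  intro z hz
  obtain ⟨φ, hφ, hφg, -⟩ := hg
  obtain ⟨ψ, -, hψR, hψZ⟩ := hZ.2 R φ hφ
  have h1 := hψR ⟨z, hZR hz⟩
  have h2 := hψZ ⟨z, hz⟩
  have h12 : Subgroup.inclusion (le_sup_left : R ≤ R ⊔ Z) ⟨z, hZR hz⟩ =
      Subgroup.inclusion (le_sup_right : Z ≤ R ⊔ Z) ⟨z, hz⟩ := Subtype.ext rfl
  rw [h12, h2] at h1
  rw [← hφg ⟨z, hZR hz⟩]
  exact h1.symm

/-- Lifting the extension property of a central subgroup `Q'` of the factor system `F/Z`:
an automorphism `f` of `T' ≥ Z` in `F` agrees modulo `Z` with a map of `F` defined on a subgroup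
containing `T'` and `x`, which moves `x` only by an element of `Z`. -/
theorem exists_lift_mod [Finite S] {F : FusionSystem S} {E : FusionSystem S'} {Z : Subgroup Ω}
    (hZc : F.IsCentral Z) (θ : S →* Ω') (hE : F.IsFactorSystem Z θ E) {Q' : Subgroup Ω'}
    (hQ' : E.IsCentral Q') {x : Ω} (hxS : x ∈ S) (hxQ' : θ ⟨x, hxS⟩ ∈ Q') {T' : Subgroup Ω}
    (hTS : T' ≤ S) (hZT : Z ≤ T') {f : Ω → Ω} (hf : IsIso F T' T' f) :
    ∃ (R B : Subgroup Ω) (g : Ω → Ω), IsIso F R B g ∧ T' ≤ R ∧ x ∈ R ∧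
      (∀ u ∈ T', (f u)⁻¹ * g u ∈ Z) ∧ x⁻¹ * g x ∈ Z := by
  obtain ⟨hZS, hker, hrange, hHom⟩ := hE
  have hfZ := isCentral_fixed hZc hf hZT
  obtain ⟨φ, hφ, hφf, hφr⟩ := hf
  have hφS : ∀ u : T', φ u ∈ S := fun u => hom_mem_S F hφ u
  have hk : ∀ u : T', θ ⟨u, hTS u.2⟩ = 1 → θ ⟨φ u, hφS u⟩ = 1 := by
    intro u hu
    rw [hker] at hu ⊢
    show φ u ∈ Z
    rw [hφf u, hfZ _ hu]
    exact hu
  -- the induced map on the image of `T'`
  obtain ⟨φ', hφ'⟩ : ∃ φ' : ↥(imageAlong θ T') →* Ω', φ' = inducedHom θ hTS φ hφS hk := ⟨_, rfl⟩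
  have hpre : preimageAlong θ (imageAlong θ T') = T' := by
    rw [preimageAlong_imageAlong θ hker hZS hTS, sup_eq_left.2 hZT]
  have hφ'E : φ' ∈ E.Hom (imageAlong θ T') := by
    rw [hHom]
    refine ⟨hrange ▸ Subgroup.map_le_range _ _, _, hom_cast F hpre.symm hφ, ?_⟩
    refine ⟨preimageAlong_le θ _, fun u => hφS _, fun u => ?_, fun u => ?_⟩
    · exact ((mem_preimageAlong_iff θ _ _).1 u.2).2
    · have hu : (u : Ω) ∈ T' := (le_of_eq hpre) u.2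
      have := inducedHom_apply θ hTS φ hφS hk ⟨u, hu⟩
        ((mem_imageAlong_iff θ T' _).2 ⟨u, hTS hu, hu, rfl⟩)
      rw [hφ']
      exact this
  -- extend to `Q'`
  obtain ⟨ψ', hψ', hψ'P, hψ'Q⟩ := hQ'.2 _ φ' hφ'E
  rw [hHom] at hψ'
  obtain ⟨-, ψ, hψ, hR, hψS, hRmem, hind⟩ := hψ'
  have hTR : T' ≤ preimageAlong θ (imageAlong θ T' ⊔ Q') := by
    intro u hu
    rw [mem_preimageAlong_iff]
    exact ⟨hTS hu, (le_sup_left : imageAlong θ T' ≤ _)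
      ((mem_imageAlong_iff θ T' _).2 ⟨u, hTS hu, hu, rfl⟩)⟩
  have hxR : x ∈ preimageAlong θ (imageAlong θ T' ⊔ Q') := by
    rw [mem_preimageAlong_iff]
    exact ⟨hxS, (le_sup_right : Q' ≤ _) hxQ'⟩
  refine ⟨_, ψ.range, ext1 ψ, isIso_of_mem F hψ, hTR, hxR, fun u hu => ?_, ?_⟩
  · rw [ext1_apply_mem ψ (hTR hu)]
    have h1 := hind ⟨u, hTR hu⟩
    have hmem : θ ⟨u, hTS hu⟩ ∈ imageAlong θ T' :=
      (mem_imageAlong_iff θ T' _).2 ⟨u, hTS hu, hu, rfl⟩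
    have h2 := hψ'P ⟨θ ⟨u, hTS hu⟩, hmem⟩
    have h3 : φ' ⟨θ ⟨u, hTS hu⟩, hmem⟩ = θ ⟨φ ⟨u, hu⟩, hφS _⟩ := by
      rw [hφ']
      exact inducedHom_apply θ hTS φ hφS hk ⟨u, hu⟩ hmem
    have h4 : θ ⟨ψ ⟨u, hTR hu⟩, hψS _⟩ = θ ⟨φ ⟨u, hu⟩, hφS _⟩ := by
      rw [← h1, ← h3, ← h2]
      rfl
    have h5 : θ (⟨φ ⟨u, hu⟩, hφS _⟩⁻¹ * ⟨ψ ⟨u, hTR hu⟩, hψS _⟩) = 1 := by
      rw [map_mul, map_inv, h4, inv_mul_cancel]
    have h6 := (hker _).1 h5
    rw [← hφf ⟨u, hu⟩]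
    exact h6
  · rw [ext1_apply_mem ψ hxR]
    have h1 := hind ⟨x, hxR⟩
    have h2 := hψ'Q ⟨θ ⟨x, hxS⟩, hxQ'⟩
    have h4 : θ ⟨ψ ⟨x, hxR⟩, hψS _⟩ = θ ⟨x, hxS⟩ := by
      rw [← h1]
      exact h2
    have h5 : θ (⟨x, hxS⟩⁻¹ * ⟨ψ ⟨x, hxR⟩, hψS _⟩) = 1 := by
      rw [map_mul, map_inv, h4, inv_mul_cancel]
    exact (hker _).1 h5

/-- Pure group theory: if `⁅x, g⁆` and `⁅x, u⁆` commute with `g`, `u` and each other, then
`⁅x, g u g⁻¹⁆ = ⁅x, u⁆`. -/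
theorem comm_conj_eq {G : Type*} [Group G] (x g u : G)
    (hag : Commute (x * g * x⁻¹ * g⁻¹) g) (hau : Commute (x * g * x⁻¹ * g⁻¹) u)
    (hbg : Commute (x * u * x⁻¹ * u⁻¹) g)
    (hab : Commute (x * g * x⁻¹ * g⁻¹) (x * u * x⁻¹ * u⁻¹)) :
    x * (g * u * g⁻¹) * x⁻¹ * (g * u * g⁻¹)⁻¹ = x * u * x⁻¹ * u⁻¹ := by
  obtain ⟨a, ha⟩ : ∃ a : G, a = x * g * x⁻¹ * g⁻¹ := ⟨_, rfl⟩
  obtain ⟨b, hb⟩ : ∃ b : G, b = x * u * x⁻¹ * u⁻¹ := ⟨_, rfl⟩
  rw [← ha] at hag hau hab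
  rw [← hb] at hbg hab ⊢
  have h1 : x * g * x⁻¹ = a * g := by rw [ha]; group
  have h2 : x * u * x⁻¹ = b * u := by rw [hb]; group
  have haw : Commute a (g * u * g⁻¹) := (hag.mul_right hau).mul_right hag.inv_right
  calc x * (g * u * g⁻¹) * x⁻¹ * (g * u * g⁻¹)⁻¹
      = (x * g * x⁻¹) * (x * u * x⁻¹) * (x * g * x⁻¹)⁻¹ * (g * u * g⁻¹)⁻¹ := by group
    _ = (a * g) * (b * u) * (a * g)⁻¹ * (g * u * g⁻¹)⁻¹ := by rw [h1, h2]
    _ = a * (g * b) * u * g⁻¹ * a⁻¹ * (g * u * g⁻¹)⁻¹ := by group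
    _ = a * (b * g) * u * g⁻¹ * a⁻¹ * (g * u * g⁻¹)⁻¹ := by rw [hbg.eq]
    _ = (a * b) * (g * u * g⁻¹) * a⁻¹ * (g * u * g⁻¹)⁻¹ := by group
    _ = (b * a) * (g * u * g⁻¹) * a⁻¹ * (g * u * g⁻¹)⁻¹ := by rw [hab.eq]
    _ = b * (a * (g * u * g⁻¹)) * a⁻¹ * (g * u * g⁻¹)⁻¹ := by group
    _ = b * ((g * u * g⁻¹) * a) * a⁻¹ * (g * u * g⁻¹)⁻¹ := by rw [haw.eq]
    _ = b := by group

/-- Pure group theory: central factors drop out of commutators. -/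
theorem comm_central_cancel {G : Type*} [Group G] (x a z₁ z₂ : G) (h2a : Commute z₂ a)
    (h21 : Commute z₂ z₁) (h1x : Commute z₁ x) :
    (x * z₂) * (a * z₁) * (x * z₂)⁻¹ * (a * z₁)⁻¹ = x * a * x⁻¹ * a⁻¹ := by
  have h2 : Commute z₂ (a * z₁) := h2a.mul_right h21
  calc (x * z₂) * (a * z₁) * (x * z₂)⁻¹ * (a * z₁)⁻¹
      = x * (z₂ * (a * z₁)) * z₂⁻¹ * x⁻¹ * (a * z₁)⁻¹ := by group
    _ = x * ((a * z₁) * z₂) * z₂⁻¹ * x⁻¹ * (a * z₁)⁻¹ := by rw [h2.eq]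
    _ = x * a * (z₁ * x⁻¹) * z₁⁻¹ * a⁻¹ := by group
    _ = x * a * (x⁻¹ * z₁) * z₁⁻¹ * a⁻¹ := by rw [h1x.inv_right.eq]
    _ = x * a * x⁻¹ * a⁻¹ := by group

/-- Grün's lemma for fusion systems, main step: an element of `S` whose image is central in the
factor system `F/Z` (with `Z` central in `F`) is central in `F`, provided `hyp(F) = S`. -/
theorem isCentral_of_factor_central [Finite S] {p : ℕ} [Fact p.Prime] (hS : IsPGroup p S)
    {F : FusionSystem S} (hF : F.IsSaturated p) (hperf : F.hyperfocalSubgroup p = S)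
    {Z : Subgroup Ω} (hZc : F.IsCentral Z) (θ : S →* Ω') {E : FusionSystem S'}
    (hE : F.IsFactorSystem Z θ E) {Q' : Subgroup Ω'} (hQ' : E.IsCentral Q') {x : Ω}
    (hxS : x ∈ S) (hxQ' : θ ⟨x, hxS⟩ ∈ Q') : F.IsCentral (Subgroup.zpowers x) := by
  have hZS : Z ≤ S := hZc.1
  have hker := hE.2.1
  have hrange := hE.2.2.1
  have hZcent : ∀ z ∈ Z, ∀ s ∈ S, Commute z s := by
    intro z hz s hs
    have h1 : Z ≤ F.center := le_sSup hZc
    have h2 := center_le_centralizer F (h1 hz)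
    exact ((Subgroup.mem_centralizer_iff.1 h2) s hs).symm
  have hk : ∀ s ∈ S, x * s * x⁻¹ * s⁻¹ ∈ Z := by
    intro s hs
    have h1 : Q' ≤ E.center := le_sSup hQ'
    have h2 := center_le_centralizer E (h1 hxQ')
    have hsS' : θ ⟨s, hs⟩ ∈ S' := by
      rw [← hrange]
      exact ⟨_, rfl⟩
    have h3 := (Subgroup.mem_centralizer_iff.1 h2) _ hsS'
    have h4 : θ (⟨x, hxS⟩ * ⟨s, hs⟩ * ⟨x, hxS⟩⁻¹ * ⟨s, hs⟩⁻¹) = 1 := by
      rw [map_mul, map_mul, map_mul, map_inv, map_inv, ← h3]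
      group
    exact (hker _).1 h4
  have hZT : ∀ T' : Subgroup Ω, (T' = S ∨ F.IsEssential p T') → Z ≤ T' := by
    intro T' hT'
    rcases hT' with rfl | hess
    · exact hZS
    · have hc := hess.1.2 T' (isConj_refl F hess.1.1)
      intro z hz
      apply hc
      refine ⟨hZS hz, ?_⟩
      show z ∈ Subgroup.centralizer (T' : Set Ω)
      rw [Subgroup.mem_centralizer_iff]
      intro t ht
      exact ((hZcent z hz t (hess.1.1 ht)).eq).symm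
  -- Step 2: the commutator map `u ↦ ⁅x, u⁆` is invariant under the maps of `F`
  have key2 : ∀ (P : Subgroup Ω) (φ : P →* Ω), φ ∈ F.Hom P →
      ∀ u : P, x * φ u * x⁻¹ * (φ u)⁻¹ = x * (u : Ω) * x⁻¹ * (u : Ω)⁻¹ := by
    refine alperin_pred hS F hF
      (fun P φ => ∀ u : P, x * φ u * x⁻¹ * (φ u)⁻¹ = x * (u : Ω) * x⁻¹ * (u : Ω)⁻¹) ?_ ?_ ?_ ?_
    · intro P g hP hg u
      rw [conjHom_apply]
      have huS : (u : Ω) ∈ S := hP u.2
      exact comm_conj_eq x g u (hZcent _ (hk g hg) g hg) (hZcent _ (hk g hg) u huS)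
        (hZcent _ (hk u huS) g hg) (hZcent _ (hk g hg) _ (hZS (hk u huS)))
    · intro P Q φ ψ h _ _ hφ hψ u
      show x * ψ ⟨φ u, h u⟩ * x⁻¹ * (ψ ⟨φ u, h u⟩)⁻¹ = _
      rw [hψ ⟨φ u, h u⟩]
      exact hφ u
    · rintro P φ ψ _ _ hψφ hφ ⟨y, u, rfl⟩
      rw [hψφ u]
      exact (hφ u).symm
    · intro T' hT' α hα u
      have hT'S : T' ≤ S := le_of_eq_or_essential hT'
      have hZT' := hZT T' hT'
      have hf := isIso_of_mem_autGroup F hT'S hα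
      obtain ⟨R, B, g, hg, hT'R, hxR, hgu, hgx⟩ :=
        exists_lift_mod hZc θ hE hQ' hxS hxQ' hT'S hZT' hf
      obtain ⟨a, ha⟩ : ∃ a : Ω, a = ((α u : T') : Ω) := ⟨_, rfl⟩
      show x * ((α u : T') : Ω) * x⁻¹ * ((α u : T') : Ω)⁻¹ = _
      rw [← ha]
      have haS : a ∈ S := by rw [ha]; exact hT'S (α u).2
      have hz₁ : a⁻¹ * g (u : Ω) ∈ Z := by
        have := hgu u u.2
        rw [ext1_apply] at this
        rw [ha]
        exact this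
      have huR : (u : Ω) ∈ R := hT'R u.2
      have hkU : x * (u : Ω) * x⁻¹ * (u : Ω)⁻¹ ∈ Z := hk u (hT'S u.2)
      have hgk := isCentral_fixed hZc hg (hZT'.trans hT'R) _ hkU
      have hgk' : g (x * (u : Ω) * x⁻¹ * (u : Ω)⁻¹) = g x * g u * (g x)⁻¹ * (g u)⁻¹ := by
        rw [hg.map_mul (R.mul_mem (R.mul_mem hxR huR) (R.inv_mem hxR)) (R.inv_mem huR),
          hg.map_mul (R.mul_mem hxR huR) (R.inv_mem hxR), hg.map_mul hxR huR,
          hg.map_inv hxR, hg.map_inv huR]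
      rw [hgk'] at hgk
      have e1 : g x = x * (x⁻¹ * g x) := by group
      have e2 : g (u : Ω) = a * (a⁻¹ * g (u : Ω)) := by group
      rw [e1, e2, comm_central_cancel x a _ _ (hZcent _ hgx a haS) (hZcent _ hgx _ (hZS hz₁))
        (hZcent _ hz₁ x hxS)] at hgk
      exact hgk
  -- `x` is central in `S`
  have hxc : ∀ s ∈ S, Commute s x := by
    have hle : F.hyperfocalSubgroup p ≤ Subgroup.centralizer ({x} : Set Ω) := by
      unfold hyperfocalSubgroup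
      rw [Subgroup.closure_le]
      rintro _ ⟨P, α, u, hP, -, rfl⟩
      rw [SetLike.mem_coe, Subgroup.mem_centralizer_iff]
      intro y hy
      rw [Set.mem_singleton_iff] at hy
      subst hy
      have hφ := (mem_autGroup_iff F hP (α : MulAut P)).1 α.2
      have h := key2 P _ hφ u
      obtain ⟨a, ha⟩ : ∃ a : Ω, a = (((α : MulAut P) u : P) : Ω) := ⟨_, rfl⟩
      have h' : y * a * y⁻¹ * a⁻¹ = y * (u : Ω) * y⁻¹ * (u : Ω)⁻¹ := by rw [ha]; exact h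
      rw [← ha]
      have h'' : a * y⁻¹ * a⁻¹ = (u : Ω) * y⁻¹ * (u : Ω)⁻¹ := by
        have := congrArg (fun t => y⁻¹ * t) h'
        simpa [mul_assoc] using this
      have hc : Commute ((u : Ω)⁻¹ * a) y⁻¹ := by
        show (u : Ω)⁻¹ * a * y⁻¹ = y⁻¹ * ((u : Ω)⁻¹ * a)
        calc (u : Ω)⁻¹ * a * y⁻¹ = (u : Ω)⁻¹ * (a * y⁻¹ * a⁻¹) * a := by group
          _ = (u : Ω)⁻¹ * ((u : Ω) * y⁻¹ * (u : Ω)⁻¹) * a := by rw [h'']
          _ = y⁻¹ * ((u : Ω)⁻¹ * a) := by group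
      have hc' : Commute ((u : Ω)⁻¹ * a) y := by
        have := hc.inv_right
        rwa [inv_inv] at this
      exact hc'.eq.symm
    rw [hperf] at hle
    intro s hs
    have := (Subgroup.mem_centralizer_iff.1 (hle hs)) x (Set.mem_singleton x)
    exact this.symm
  -- Step 3
  apply isCentral_of_essential hS hF
  intro T' hT'
  have hT'S : T' ≤ S := le_of_eq_or_essential hT'
  have hZT' := hZT T' hT'
  have hfinT' : Finite T' := finite_of_le S hT'S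
  have hxT' : x ∈ T' := by
    rcases hT' with rfl | hess
    · exact hxS
    · have hc := hess.1.2 T' (isConj_refl F hess.1.1)
      apply hc
      refine ⟨hxS, ?_⟩
      show x ∈ Subgroup.centralizer (T' : Set Ω)
      rw [Subgroup.mem_centralizer_iff]
      intro t ht
      exact (hxc t (hess.1.1 ht)).eq
  -- automorphisms of order prime to `p` fix `x`
  have hfix : ∀ β ∈ F.autGroup T', (orderOf β).Coprime p → β ⟨x, hxT'⟩ = ⟨x, hxT'⟩ := by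
    intro β hβ hβo
    have hf := isIso_of_mem_autGroup F hT'S hβ
    obtain ⟨R, B, g, hg, hT'R, hxR, hgu, hgx⟩ :=
      exists_lift_mod hZc θ hE hQ' hxS hxQ' hT'S hZT' hf
    have h1 := hgu x hxT'
    rw [ext1_apply_mem _ hxT'] at h1
    have h1' : ((β ⟨x, hxT'⟩ : T') : Ω)⁻¹ * g x ∈ Z := h1
    have hz : x⁻¹ * ((β ⟨x, hxT'⟩ : T') : Ω) ∈ Z := by
      have := Z.mul_mem hgx (Z.inv_mem h1')
      have e : x⁻¹ * g x * (((β ⟨x, hxT'⟩ : T') : Ω)⁻¹ * g x)⁻¹ =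
          x⁻¹ * ((β ⟨x, hxT'⟩ : T') : Ω) := by group
      rwa [e] at this
    obtain ⟨z, hzdef⟩ : ∃ z : T', z = ⟨x, hxT'⟩⁻¹ * β ⟨x, hxT'⟩ := ⟨_, rfl⟩
    have hzZ : (z : Ω) ∈ Z := by rw [hzdef]; exact hz
    have hβz : β z = z := by
      have := isCentral_fixed hZc hf hZT' _ hzZ
      rw [ext1_apply_mem _ z.2] at this
      exact Subtype.ext this
    have hβx : β ⟨x, hxT'⟩ = ⟨x, hxT'⟩ * z := by rw [hzdef]; group
    have hpow : ∀ n : ℕ, (β ^ n) ⟨x, hxT'⟩ = ⟨x, hxT'⟩ * z ^ n := by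
      intro n
      induction n with
      | zero => simp
      | succ n ih =>
        rw [pow_succ', MulAut.mul_apply, ih, map_mul, map_pow, hβz, hβx, pow_succ']
        group
    have h2 := hpow (orderOf β)
    rw [pow_orderOf_eq_one, MulAut.one_apply] at h2
    have h3 : z ^ orderOf β = 1 := by
      have := congrArg (fun t => (⟨x, hxT'⟩ : T')⁻¹ * t) h2
      simpa using this.symm
    have h4 : orderOf z ∣ orderOf β := orderOf_dvd_of_pow_eq_one h3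
    obtain ⟨k, hk'⟩ := (hS.to_le hT'S) z
    have h5 : orderOf z ∣ p ^ k := orderOf_dvd_of_pow_eq_one hk'
    have h6 : orderOf z = 1 :=
      Nat.Coprime.eq_one_of_dvd (Nat.Coprime.coprime_dvd_left h4 (Nat.Coprime.pow_right k hβo)) h5
    have h7 : z = 1 := orderOf_eq_one_iff.1 h6
    rw [hβx, h7, mul_one]
  have hfixO : ∀ u : F.autGroup T', u ∈ pResidual p (F.autGroup T') →
      (u : MulAut T') ⟨x, hxT'⟩ = ⟨x, hxT'⟩ := by
    intro u hu
    unfold pResidual at hu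
    induction hu using Subgroup.closure_induction with
    | mem a ha =>
      apply hfix _ a.2
      rw [Subgroup.orderOf_coe]
      exact ha
    | one => rfl
    | mul a b _ _ iha ihb =>
      show (a : MulAut T') ((b : MulAut T') ⟨x, hxT'⟩) = _
      rw [ihb, iha]
    | inv a _ iha =>
      show (a : MulAut T')⁻¹ ⟨x, hxT'⟩ = _
      rw [MulAut.inv_apply, MulEquiv.symm_apply_eq]
      exact iha.symm
  have hfn : F.IsFullyNormalized T' := isFullyNormalized_of_eq_or_essential hT'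
  have hfa : F.IsFullyAutomized p T' := (fullyNormalized_props hS hF hfn).2
  refine ⟨Subgroup.zpowers_le.2 hxT', fun α hα v hv => ?_⟩
  obtain ⟨g, hg, u, hu, hαu⟩ := exists_conj_mul_pResidual hfa ⟨α, hα⟩
  have hαx : α ⟨x, hxT'⟩ = ⟨x, hxT'⟩ := by
    apply Subtype.ext
    have := hαu ⟨x, hxT'⟩
    rw [hfixO u hu] at this
    rw [this]
    show g * x * g⁻¹ = x
    rw [(hxc g hg.1).eq]
    group
  obtain ⟨n, hn⟩ := hv
  have hvx : v = (⟨x, hxT'⟩ : T') ^ n := by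
    apply Subtype.ext
    rw [Subgroup.coe_zpow]
    exact hn.symm
  rw [hvx, map_zpow, hαx]

end Cfsg.Agent.Lib.H26
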