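import Mathlib
import Cfsg.Agent.Lib.H17.HJDefs

/-!
# S3313 piece GAUSS: `x² = 1` has 12 or 20 solutions in an extraspecial group of order 32
-/

set_option autoImplicit false

namespace Cfsg.Agent.Lib.H26.HJ

open Cfsg Cfsg.Agent.Lib.H17.HJ

/-- abstract form on a finite group `P` of order 32 with the elementwise extraspecial structure -/
theorem gauss_aux {P : Type*} [Group P] [Fintype P] [DecidableEq P] (z : P) (hz1 : z ≠ 1)
    (hz2 : z * z = 1) (hzc : ∀ x : P, z * x = x * z) (hcard : Fintype.card P = 32)
    (hsq : ∀ x : P, x * x = 1 ∨ x * x = z)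
    (hcomm : ∀ x y : P, x * y = y * x ∨ x * y = z * (y * x))
    (hcen : ∀ x : P, (∀ y, x * y = y * x) → x = 1 ∨ x = z) :
    (Finset.univ.filter (fun x : P => x * x = 1)).card = 12 ∨
      (Finset.univ.filter (fun x : P => x * x = 1)).card = 20 := by
  set f : P → ℤ := fun x => if x * x = 1 then 1 else -1 with hf
  set c : P → P → ℤ := fun d x => if d * x = x * d then 1 else -1 with hc
  have hff : ∀ x, f x * f x = 1 := by
    intro x; simp only [hf]; split_ifs <;> norm_num
  have hnc : ∀ d x : P, d * x = z * (x * d) → d * x ≠ x * d := by
    intro d x h h'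
    rw [h'] at h
    apply hz1
    have := mul_right_cancel (a := 1) (b := x * d) (c := z) (by rw [one_mul]; exact h)
    exact this.symm
  -- (1) f (x d) = f x f d c(d,x)
  have h1 : ∀ x d : P, f (x * d) = f x * f d * c d x := by
    intro x d
    rcases hcomm d x with h | h
    · have hsq' : (x * d) * (x * d) = (x * x) * (d * d) := by
        calc x * d * (x * d) = x * (d * x) * d := by group
          _ = x * (x * d) * d := by rw [h]
          _ = x * x * (d * d) := by group
      have hc1 : c d x = 1 := by simp only [hc]; rw [if_pos h]
      rw [hc1, mul_one]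
      simp only [hf]
      rw [hsq']
      rcases hsq x with hx | hx <;> rcases hsq d with hd | hd
      · simp [hx, hd]
      · simp [hx, hd, hz1]
      · simp [hx, hd, hz1]
      · simp [hx, hd, hz2, hz1]
    · have hsq' : (x * d) * (x * d) = z * ((x * x) * (d * d)) := by
        calc x * d * (x * d) = x * (d * x) * d := by group
          _ = x * (z * (x * d)) * d := by rw [h]
          _ = (x * z) * (x * d * d) := by group
          _ = (z * x) * (x * d * d) := by rw [hzc x]
          _ = z * (x * x * (d * d)) := by group
      have hc1 : c d x = -1 := by simp only [hc]; rw [if_neg (hnc d x h)]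
      rw [hc1]
      simp only [hf]
      rw [hsq']
      rcases hsq x with hx | hx <;> rcases hsq d with hd | hd
      · simp [hx, hd, hz1]
      · simp [hx, hd, hz2, hz1]
      · simp [hx, hd, hz2, hz1]
      · simp [hx, hd, hz2, hz1]
  -- (2) c(d, ·) is multiplicative
  have h2 : ∀ d x y : P, c d (x * y) = c d x * c d y := by
    intro d x y
    rcases hcomm d x with hx | hx <;> rcases hcomm d y with hy | hy
    · have h : d * (x * y) = x * y * d := by
        calc d * (x * y) = d * x * y := by group
          _ = x * d * y := by rw [hx]
          _ = x * (d * y) := by group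
          _ = x * (y * d) := by rw [hy]
          _ = x * y * d := by group
      simp only [hc]
      rw [if_pos h, if_pos hx, if_pos hy]; norm_num
    · have h : d * (x * y) = z * (x * y * d) := by
        calc d * (x * y) = d * x * y := by group
          _ = x * d * y := by rw [hx]
          _ = x * (d * y) := by group
          _ = x * (z * (y * d)) := by rw [hy]
          _ = (x * z) * (y * d) := by group
          _ = (z * x) * (y * d) := by rw [hzc x]
          _ = z * (x * y * d) := by group
      simp only [hc]
      rw [if_neg (hnc _ _ h), if_pos hx, if_neg (hnc _ _ hy)]; norm_num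
    · have h : d * (x * y) = z * (x * y * d) := by
        calc d * (x * y) = d * x * y := by group
          _ = z * (x * d) * y := by rw [hx]
          _ = z * (x * (d * y)) := by group
          _ = z * (x * (y * d)) := by rw [hy]
          _ = z * (x * y * d) := by group
      simp only [hc]
      rw [if_neg (hnc _ _ h), if_neg (hnc _ _ hx), if_pos hy]; norm_num
    · have h : d * (x * y) = x * y * d := by
        calc d * (x * y) = d * x * y := by group
          _ = z * (x * d) * y := by rw [hx]
          _ = z * (x * (d * y)) := by group
          _ = z * (x * (z * (y * d))) := by rw [hy]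
          _ = z * ((x * z) * (y * d)) := by group
          _ = z * ((z * x) * (y * d)) := by rw [hzc x]
          _ = (z * z) * (x * y * d) := by group
          _ = x * y * d := by rw [hz2, one_mul]
      simp only [hc]
      rw [if_pos h, if_neg (hnc _ _ hx), if_neg (hnc _ _ hy)]; norm_num
  -- (3) sums of c
  have h3 : ∀ d : P, (∑ x, c d x) * f d =
      (if d = 1 then 32 else 0) + (if d = z then 32 else 0) := by
    intro d
    by_cases hd : ∀ y, d * y = y * d
    · have hs : ∑ x, c d x = 32 := by
        have : ∀ x, c d x = 1 := fun x => by simp only [hc]; rw [if_pos (hd x)]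
        simp only [this]
        rw [Finset.sum_const, Finset.card_univ, hcard]; norm_num
      rw [hs]
      rcases hcen d hd with rfl | rfl
      · have : (1 : P) ≠ z := fun h => hz1 h.symm
        simp [hf, this]
      · simp [hf, hz2, hz1]
    · push Not at hd
      obtain ⟨y₀, hy₀⟩ := hd
      have hcy : c d y₀ = -1 := by simp only [hc]; rw [if_neg hy₀]
      have hs : ∑ x, c d x = 0 := by
        have h4 : ∑ x, c d x = ∑ x, c d (x * y₀) :=
          (Fintype.sum_equiv (Equiv.mulRight y₀) _ _ (fun x => rfl)).symm
        have h5 : ∑ x, c d (x * y₀) = - ∑ x, c d x := by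
          rw [← Finset.sum_neg_distrib]
          refine Finset.sum_congr rfl fun x _ => ?_
          rw [h2, hcy]; ring
        linarith
      have hd1 : d ≠ 1 := by
        rintro rfl; exact hy₀ (by simp)
      have hdz : d ≠ z := by
        rintro rfl; exact hy₀ (hzc y₀)
      rw [hs, if_neg hd1, if_neg hdz]; norm_num
  -- (4) the square of the sum
  have h4 : (∑ x, f x) * (∑ x, f x) = 64 := by
    rw [Finset.sum_mul_sum]
    have h5 : ∀ x : P, ∑ y, f x * f y = ∑ d, f d * c d x := by
      intro x
      rw [← Fintype.sum_equiv (Equiv.mulLeft x) (fun d => f x * f (x * d)) (fun y => f x * f y)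
        (fun d => rfl)]
      refine Finset.sum_congr rfl fun d _ => ?_
      rw [h1, ← mul_assoc, ← mul_assoc, hff, one_mul]
    simp_rw [h5]
    rw [Finset.sum_comm]
    have h6 : ∀ d : P, ∑ x, f d * c d x = (∑ x, c d x) * f d := by
      intro d; rw [← Finset.mul_sum, mul_comm]
    simp_rw [h6, h3]
    rw [Finset.sum_add_distrib, Finset.sum_ite_eq', Finset.sum_ite_eq']
    simp
  -- (5) the sum in terms of the count
  have h5 : ∑ x, f x = 2 * ((Finset.univ.filter (fun x : P => x * x = 1)).card : ℤ) - 32 := by
    have h6 : ∀ x : P, f x = 2 * (if x * x = 1 then 1 else 0) - 1 := by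
      intro x; simp only [hf]; split_ifs <;> norm_num
    simp_rw [h6]
    rw [Finset.sum_sub_distrib, ← Finset.mul_sum, Finset.card_filter]
    simp only [Finset.sum_const, Finset.card_univ, hcard]
    push_cast
    ring
  rw [h5] at h4
  set N : ℤ := ((Finset.univ.filter (fun x : P => x * x = 1)).card : ℤ) with hN
  have h6 : (N - 12) * (N - 20) = 0 := by nlinarith
  rcases mul_eq_zero.mp h6 with h | h
  · left; have : N = 12 := by linarith
    rw [hN] at this
    exact_mod_cast this
  · right; have : N = 20 := by linarith
    rw [hN] at this
    exact_mod_cast this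

/-- GAUSS. -/
theorem card_sq_eq_one {G : Type*} [Group G] {z : G} {Q : Subgroup G} (hQ : QData z Q) :
    Nat.card {x : G // x ∈ Q ∧ x * x = 1} = 12 ∨ Nat.card {x : G // x ∈ Q ∧ x * x = 1} = 20 := by
  classical
  have hfin : Finite ↥Q := Nat.finite_of_card_ne_zero (by rw [hQ.card]; norm_num)
  have hft : Fintype ↥Q := Fintype.ofFinite _
  have hcard : Fintype.card ↥Q = 32 := by rw [← Nat.card_eq_fintype_card]; exact hQ.card
  have key := gauss_aux (P := ↥Q) ⟨z, hQ.z_mem⟩
    (fun h => hQ.z_ne (by simpa using congrArg Subtype.val h))
    (Subtype.ext (by simpa using hQ.z_sq))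
    (fun x => Subtype.ext (by simpa using hQ.z_comm x x.2))
    hcard
    (fun x => by
      rcases hQ.sq x x.2 with h | h
      · left; exact Subtype.ext (by simpa using h)
      · right; exact Subtype.ext (by simpa using h))
    (fun x y => by
      rcases hQ.comm x x.2 y y.2 with h | h
      · left; exact Subtype.ext (by simpa using h)
      · right; exact Subtype.ext (by simpa using h))
    (fun x hx => by
      have := hQ.center x x.2 (fun y hy => by
        have := congrArg Subtype.val (hx ⟨y, hy⟩)
        simpa using this)
      rcases this with h | h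
      · left; exact Subtype.ext (by simpa using h)
      · right; exact Subtype.ext (by simpa using h))
  have heq : Nat.card {x : G // x ∈ Q ∧ x * x = 1} =
      (Finset.univ.filter (fun x : ↥Q => x * x = 1)).card := by
    rw [← Fintype.card_subtype, ← Nat.card_eq_fintype_card]
    apply Nat.card_congr
    exact
      { toFun := fun x => ⟨⟨x.1, x.2.1⟩, Subtype.ext (by simpa using x.2.2)⟩
        invFun := fun x => ⟨x.1.1, x.1.2, by simpa using congrArg Subtype.val x.2⟩
        left_inv := fun x => rfl
        right_inv := fun x => rfl }
  rw [heq]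
  exact key

end Cfsg.Agent.Lib.H26.HJ
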