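import Mathlib
import Cfsg.Agent.Lib.H17.HJDefs
import Cfsg.Agent.Lib.H26.HJGAUSS

/-!
# S3313 piece FPF5: an element of order 5 acting non-trivially on `Q` forces 12 solutions of `x² = 1`
-/

set_option autoImplicit false

namespace Cfsg.Agent.Lib.H26.HJ

open Cfsg Cfsg.Agent.Lib.H17.HJ

/-- abstract form: an automorphism `φ` of order dividing 5 of a group `P` of order 32, fixing `z`,
non-trivial; the number of solutions of `x² = 1` is `≡ 2 mod 5` as soon as the fixed points of `φ`
are `{1, z}`, which is forced by `|C_P(φ)| ∣ 32`, `≡ 2 mod 5`, `≠ 32`. -/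
theorem fpf5_aux {P : Type*} [Group P] [Fintype P] [DecidableEq P] (z : P) (hz1 : z ≠ 1)
    (hz2 : z * z = 1) (hcard : Fintype.card P = 32) (φ : P ≃* P)
    (hφ5 : ∀ x, φ (φ (φ (φ (φ x)))) = x) (hφz : φ z = z) (hφne : ∃ x, φ x ≠ x)
    (hN : (Finset.univ.filter (fun x : P => x * x = 1)).card = 12 ∨
      (Finset.univ.filter (fun x : P => x * x = 1)).card = 20) :
    (Finset.univ.filter (fun x : P => x * x = 1)).card = 12 := by
  haveI : Fact (Nat.Prime 5) := ⟨by norm_num⟩
  set f : Equiv.Perm P := φ.toEquiv with hf
  set f' : Function.End P := fun x => φ x with hf'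
  have hf5' : f' ^ 5 ^ 1 = 1 := by
    funext x
    show (f' ^ 5 ^ 1) x = x
    rw [pow_one]
    exact hφ5 x
  -- fixed points of f on P
  have h1 := Equiv.Perm.card_fixedPoints_modEq (f := f') (p := 5) (n := 1) hf5'
  -- the fixed points form a subgroup
  set C : Subgroup P :=
    { carrier := {x | φ x = x}
      one_mem' := map_one φ
      mul_mem' := by
        intro a b ha hb
        simp only [Set.mem_ofPred_eq] at ha hb ⊢
        rw [map_mul, ha, hb]
      inv_mem' := by
        intro a ha
        simp only [Set.mem_ofPred_eq] at ha ⊢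
        rw [map_inv, ha] } with hC
  have hCfix : Fintype.card (Function.fixedPoints f') = Nat.card ↥C := by
    rw [← Nat.card_eq_fintype_card]
    rfl
  have hCdvd : Nat.card ↥C ∣ 32 := by
    have := Subgroup.card_subgroup_dvd_card C
    rwa [Nat.card_eq_fintype_card (α := P), hcard] at this
  have hCne : Nat.card ↥C ≠ 32 := by
    intro h
    have htop : C = ⊤ := by
      apply Subgroup.eq_top_of_card_eq
      rw [h, Nat.card_eq_fintype_card, hcard]
    obtain ⟨x, hx⟩ := hφne
    apply hx
    have : x ∈ C := by rw [htop]; exact Subgroup.mem_top x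
    exact this
  have hC2 : Nat.card ↥C = 2 := by
    rw [hcard, hCfix] at h1
    have h32 : (32 : ℕ) = 2 ^ 5 := by norm_num
    rw [h32, Nat.dvd_prime_pow Nat.prime_two] at hCdvd
    obtain ⟨k, hk, hk'⟩ := hCdvd
    have h1' : 32 % 5 = Nat.card ↥C % 5 := h1
    rw [hk'] at h1' hCne ⊢
    interval_cases k
    · norm_num at h1'
    · rfl
    · norm_num at h1'
    · norm_num at h1'
    · norm_num at h1'
    · exact absurd rfl hCne
  -- C = {1, z}
  have hCmem : ∀ x : P, φ x = x → x = 1 ∨ x = z := by
    intro x hx
    by_contra hcon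
    push Not at hcon
    have hsub : ({1, z, x} : Finset P) ⊆ Finset.univ.filter (fun y : P => φ y = y) := by
      intro y hy
      simp only [Finset.mem_insert, Finset.mem_singleton] at hy
      simp only [Finset.mem_filter, Finset.mem_univ, true_and]
      rcases hy with rfl | rfl | rfl
      · exact map_one φ
      · exact hφz
      · exact hx
    have h3 : ({1, z, x} : Finset P).card = 3 := by
      rw [Finset.card_insert_of_notMem, Finset.card_pair (fun h => hcon.2 h.symm)]
      simp only [Finset.mem_insert, Finset.mem_singleton]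
      rintro (h | h)
      · exact hz1 h.symm
      · exact hcon.1 h.symm
    have h4 : (Finset.univ.filter (fun y : P => φ y = y)).card = 2 := by
      rw [← hC2, ← Fintype.card_subtype, ← Nat.card_eq_fintype_card]
      rfl
    have := Finset.card_le_card hsub
    omega
  -- the permutation induced on the solutions of x² = 1
  have hT : ∀ x : P, (f x) * (f x) = 1 ↔ x * x = 1 := by
    intro x
    show φ x * φ x = 1 ↔ x * x = 1
    rw [← map_mul]
    constructor
    · intro h
      have := φ.injective (h.trans (map_one φ).symm)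
      exact this
    · intro h; rw [h, map_one]
  set g := f.subtypePerm (p := fun x : P => x * x = 1) hT with hg
  set g' : Function.End {x : P // x * x = 1} := fun x => g x with hg'
  have hg5 : g' ^ 5 ^ 1 = 1 := by
    funext x
    show (g' ^ 5 ^ 1) x = x
    rw [pow_one]
    apply Subtype.ext
    exact hφ5 x
  have h5 := Equiv.Perm.card_fixedPoints_modEq (f := g') (p := 5) (n := 1) hg5
  have hfixT : Fintype.card (Function.fixedPoints g') = 2 := by
    have : Fintype.card (Function.fixedPoints g') =
        (Finset.univ.filter (fun x : {x : P // x * x = 1} => x.1 = 1 ∨ x.1 = z)).card := by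
      rw [← Fintype.card_subtype]
      apply Fintype.card_congr
      refine Equiv.subtypeEquivRight ?_
      intro x
      constructor
      · intro hx
        have : φ x.1 = x.1 := congrArg Subtype.val hx
        exact hCmem x.1 this
      · intro hx
        apply Subtype.ext
        show φ x.1 = x.1
        rcases hx with h | h
        · rw [h]; exact map_one φ
        · rw [h]; exact hφz
    rw [this]
    have : (Finset.univ.filter (fun x : {x : P // x * x = 1} => x.1 = 1 ∨ x.1 = z)) =
        {⟨1, by simp⟩, ⟨z, hz2⟩} := by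
      ext x
      simp only [Finset.mem_filter, Finset.mem_univ, true_and, Finset.mem_insert,
        Finset.mem_singleton, Subtype.ext_iff]
    rw [this, Finset.card_pair]
    intro h
    exact hz1 (congrArg Subtype.val h).symm
  rw [hfixT, Fintype.card_subtype] at h5
  rcases hN with h | h
  · exact h
  · rw [h] at h5
    exact absurd h5 (by decide)

/-- FPF5. -/
theorem card_sq_eq_one_twelve {G : Type*} [Group G] {z : G} {Q : Subgroup G} (hQ : QData z Q)
    (k : G) (hk : orderOf k = 5) (hkz : k * z = z * k) (hkQ : ∀ q ∈ Q, k * q * k⁻¹ ∈ Q)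
    (hkc : ¬ ∀ q ∈ Q, k * q = q * k) :
    Nat.card {x : G // x ∈ Q ∧ x * x = 1} = 12 := by
  classical
  have hfin : Finite ↥Q := Nat.finite_of_card_ne_zero (by rw [hQ.card]; norm_num)
  have hft : Fintype ↥Q := Fintype.ofFinite _
  have hcard : Fintype.card ↥Q = 32 := by rw [← Nat.card_eq_fintype_card]; exact hQ.card
  have hk5 : k ^ 5 = 1 := by rw [← hk]; exact pow_orderOf_eq_one k
  -- the inverse conjugation also preserves Q
  have hinj : Function.Injective (fun q : ↥Q => (⟨k * q * k⁻¹, hkQ q q.2⟩ : ↥Q)) := by
    intro a b h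
    have := congrArg Subtype.val h
    simp only at this
    apply Subtype.ext
    exact mul_left_cancel (mul_right_cancel this)
  have hsurj := (Finite.injective_iff_surjective.mp hinj)
  have hkQ' : ∀ q ∈ Q, k⁻¹ * q * k ∈ Q := by
    intro q hq
    obtain ⟨q', hq'⟩ := hsurj ⟨q, hq⟩
    have := congrArg Subtype.val hq'
    simp only at this
    have h2 : k⁻¹ * q * k = q' := by rw [← this]; group
    rw [h2]; exact q'.2
  set φ : ↥Q ≃* ↥Q :=
    { toFun := fun q => ⟨k * q * k⁻¹, hkQ q q.2⟩
      invFun := fun q => ⟨k⁻¹ * q * k, hkQ' q q.2⟩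
      left_inv := fun q => by apply Subtype.ext; simp only; group
      right_inv := fun q => by apply Subtype.ext; simp only; group
      map_mul' := fun a b => by
        apply Subtype.ext
        simp only [Subgroup.coe_mul]
        group } with hφ
  have heq : Nat.card {x : G // x ∈ Q ∧ x * x = 1} =
      (Finset.univ.filter (fun x : ↥Q => x * x = 1)).card := by
    rw [← Fintype.card_subtype, ← Nat.card_eq_fintype_card]
    apply Nat.card_congr
    exact
      { toFun := fun x => ⟨⟨x.1, x.2.1⟩, Subtype.ext (by simpa using x.2.2)⟩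
        invFun := fun x => ⟨x.1.1, x.1.2, by simpa using congrArg Subtype.val x.2⟩
        left_inv := fun x => rfl
        right_inv := fun x => rfl }
  have hG := card_sq_eq_one hQ
  rw [heq] at hG ⊢
  refine fpf5_aux (P := ↥Q) ⟨z, hQ.z_mem⟩
    (fun h => hQ.z_ne (by simpa using congrArg Subtype.val h))
    (Subtype.ext (by simpa using hQ.z_sq)) hcard φ ?_ ?_ ?_ hG
  · intro x
    apply Subtype.ext
    show k * (k * (k * (k * (k * (x : G) * k⁻¹) * k⁻¹) * k⁻¹) * k⁻¹) * k⁻¹ = x
    have : k * (k * (k * (k * (k * (x : G) * k⁻¹) * k⁻¹) * k⁻¹) * k⁻¹) * k⁻¹ =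
        (MulAut.conj k ^ 5) (x : G) := by
      simp only [pow_succ, pow_zero, one_mul, MulAut.mul_apply, MulAut.conj_apply]
    rw [this, ← map_pow, hk5, map_one]; rfl
  · apply Subtype.ext
    show k * z * k⁻¹ = z
    rw [hkz]; group
  · by_contra hcon
    push Not at hcon
    apply hkc
    intro q hq
    have := congrArg Subtype.val (hcon ⟨q, hq⟩)
    have h2 : k * q * k⁻¹ = q := this
    have := congrArg (fun t => t * k) h2
    simpa using this

end Cfsg.Agent.Lib.H26.HJ
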