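import Mathlib
import Cfsg.Agent.Lib.H17.HJDefs

/-!
# S3313 piece NOE8: with 12 solutions of `x² = 1`, an involution `u ≠ z` of `Q` commutes with
exactly the 4 solutions `1, z, u, u z`
-/

set_option autoImplicit false

namespace Cfsg.Agent.Lib.H26.HJ

open Cfsg Cfsg.Agent.Lib.H17.HJ

section aux

variable {P : Type*} [Group P] (z : P) (hz1 : z ≠ 1) (hz2 : z * z = 1)
  (hzc : ∀ x : P, z * x = x * z) (hcomm : ∀ x y : P, x * y = y * x ∨ x * y = z * (y * x))

include hz1 in
theorem ne_of_eq_z_mul (d x : P) (h : d * x = z * (x * d)) : d * x ≠ x * d := by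
  intro h'
  rw [h'] at h
  apply hz1
  have := mul_right_cancel (a := 1) (b := x * d) (c := z) (by rw [one_mul]; exact h)
  exact this.symm

include hz1 hz2 hzc hcomm in
theorem comm_mul_iff (d x y : P) :
    d * (x * y) = x * y * d ↔ (d * x = x * d ↔ d * y = y * d) := by
  rcases hcomm d x with hx | hx <;> rcases hcomm d y with hy | hy
  · have h : d * (x * y) = x * y * d := by
      calc d * (x * y) = d * x * y := by group
        _ = x * d * y := by rw [hx]
        _ = x * (d * y) := by group
        _ = x * (y * d) := by rw [hy]
        _ = x * y * d := by group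
    simp [h, hx, hy]
  · have h : d * (x * y) = z * (x * y * d) := by
      calc d * (x * y) = d * x * y := by group
        _ = x * d * y := by rw [hx]
        _ = x * (d * y) := by group
        _ = x * (z * (y * d)) := by rw [hy]
        _ = (x * z) * (y * d) := by group
        _ = (z * x) * (y * d) := by rw [hzc x]
        _ = z * (x * y * d) := by group
    have h1 := ne_of_eq_z_mul z hz1 _ _ h
    have h2 := ne_of_eq_z_mul z hz1 _ _ hy
    simp [h1, hx, h2]
  · have h : d * (x * y) = z * (x * y * d) := by
      calc d * (x * y) = d * x * y := by group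
        _ = z * (x * d) * y := by rw [hx]
        _ = z * (x * (d * y)) := by group
        _ = z * (x * (y * d)) := by rw [hy]
        _ = z * (x * y * d) := by group
    have h1 := ne_of_eq_z_mul z hz1 _ _ h
    have h2 := ne_of_eq_z_mul z hz1 _ _ hx
    simp [h1, h2, hy]
  · have h : d * (x * y) = x * y * d := by
      calc d * (x * y) = d * x * y := by group
        _ = z * (x * d) * y := by rw [hx]
        _ = z * (x * (d * y)) := by group
        _ = z * (x * (z * (y * d))) := by rw [hy]
        _ = z * ((x * z) * (y * d)) := by group
        _ = z * ((z * x) * (y * d)) := by rw [hzc x]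
        _ = (z * z) * (x * y * d) := by group
        _ = x * y * d := by rw [hz2, one_mul]
    have h1 := ne_of_eq_z_mul z hz1 _ _ hx
    have h2 := ne_of_eq_z_mul z hz1 _ _ hy
    simp [h, h1, h2]

include hzc hcomm in
theorem sq_mul_of_not_comm (u x : P) (hu2 : u * u = 1) (hx : u * x ≠ x * u) :
    (x * u) * (x * u) = z * (x * x) := by
  have h : u * x = z * (x * u) := by
    rcases hcomm u x with h | h
    · exact absurd h hx
    · exact h
  calc x * u * (x * u) = x * (u * x) * u := by group
    _ = x * (z * (x * u)) * u := by rw [h]
    _ = (x * z) * (x * (u * u)) := by group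
    _ = (z * x) * (x * (u * u)) := by rw [hzc x]
    _ = z * (x * x) := by rw [hu2]; group

variable [Fintype P] [DecidableEq P]

include hz1 hz2 hzc hcomm in
theorem noe8_aux (hcard : Fintype.card P = 32) (hsq : ∀ x : P, x * x = 1 ∨ x * x = z)
    (hcen : ∀ x : P, (∀ y, x * y = y * x) → x = 1 ∨ x = z)
    (h12 : (Finset.univ.filter (fun x : P => x * x = 1)).card = 12) (u w : P)
    (hu2 : u * u = 1) (hw2 : w * w = 1) (hu1 : u ≠ 1) (huz : u ≠ z) (huw : u * w = w * u) :
    w = 1 ∨ w = z ∨ w = u ∨ w = u * z := by
  -- `u` is not central
  obtain ⟨y₀, hy₀⟩ : ∃ y₀, u * y₀ ≠ y₀ * u := by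
    by_contra hcon
    push Not at hcon
    rcases hcen u hcon with h | h
    · exact hu1 h
    · exact huz h
  have hcm := comm_mul_iff z hz1 hz2 hzc hcomm
  -- the non-commuting elements: 16
  set A := Finset.univ.filter (fun x : P => u * x ≠ x * u) with hA
  set C := Finset.univ.filter (fun x : P => u * x = x * u) with hC
  have hAC : A.card + C.card = 32 := by
    rw [← hcard, ← Finset.card_univ, add_comm]
    exact Finset.card_filter_add_card_filter_not (s := Finset.univ) (fun x : P => u * x = x * u)
  have hAC' : A.card = C.card := by
    apply Finset.card_bij (fun x _ => x * y₀)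
    · intro x hx
      simp only [hA, hC, Finset.mem_filter, Finset.mem_univ, true_and] at hx ⊢
      rw [hcm]
      simp [hx, hy₀]
    · intro x _ y _ h
      exact mul_right_cancel h
    · intro y hy
      refine ⟨y * y₀⁻¹, ?_, by group⟩
      simp only [hA, hC, Finset.mem_filter, Finset.mem_univ, true_and] at hy ⊢
      intro h
      have h2 := (hcm u (y * y₀⁻¹) y₀).mp (by rw [inv_mul_cancel_right]; exact hy)
      exact hy₀ (h2.mp h)
  have hA16 : A.card = 16 := by omega
  -- solutions among the non-commuting elements: 8
  set SA := A.filter (fun x : P => x * x = 1) with hSA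
  set TA := A.filter (fun x : P => ¬ x * x = 1) with hTA
  have hST : SA.card + TA.card = 16 := by
    rw [← hA16]
    exact Finset.card_filter_add_card_filter_not (s := A) (fun x : P => x * x = 1)
  have hST' : SA.card = TA.card := by
    apply Finset.card_bij (fun x _ => x * u)
    · intro x hx
      simp only [hSA, hTA, hA, Finset.mem_filter, Finset.mem_univ, true_and] at hx ⊢
      refine ⟨?_, ?_⟩
      · intro h
        have := (hcm u x u).mp h
        exact hx.1 (this.mpr rfl)
      · rw [sq_mul_of_not_comm z hzc hcomm u x hu2 hx.1, hx.2, mul_one]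
        exact hz1
    · intro x _ y _ h
      exact mul_right_cancel h
    · intro y hy
      simp only [hSA, hTA, hA, Finset.mem_filter, Finset.mem_univ, true_and] at hy ⊢
      have hyu : u * (y * u) ≠ y * u * u := by
        intro h
        have := (hcm u y u).mp h
        exact hy.1 (this.mpr rfl)
      refine ⟨y * u, ⟨hyu, ?_⟩, by rw [mul_assoc, hu2, mul_one]⟩
      rw [sq_mul_of_not_comm z hzc hcomm u y hu2 hy.1]
      rcases hsq y with h | h
      · exact absurd h hy.2
      · rw [h, hz2]
  have hSA8 : SA.card = 8 := by omega
  -- solutions commuting with u: 4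
  set SC := C.filter (fun x : P => x * x = 1) with hSC
  have hsplit : SA.card + SC.card = 12 := by
    rw [← h12]
    have h1 : (Finset.univ.filter (fun x : P => x * x = 1)) = SA ∪ SC := by
      ext x
      simp only [hSA, hSC, hA, hC, Finset.mem_filter, Finset.mem_univ, true_and, Finset.mem_union]
      tauto
    rw [h1, Finset.card_union_of_disjoint]
    rw [Finset.disjoint_left]
    intro x hx hx'
    simp only [hSA, hSC, hA, hC, Finset.mem_filter, Finset.mem_univ, true_and] at hx hx'
    exact hx.1 hx'.1
  have hSC4 : SC.card = 4 := by omega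
  have hzu : z * u = u * z := hzc u
  have hsub : ({1, z, u, u * z} : Finset P) ⊆ SC := by
    intro x hx
    simp only [Finset.mem_insert, Finset.mem_singleton] at hx
    simp only [hSC, hC, Finset.mem_filter, Finset.mem_univ, true_and]
    rcases hx with rfl | rfl | rfl | rfl
    · simp
    · exact ⟨(hzc u).symm, hz2⟩
    · exact ⟨rfl, hu2⟩
    · refine ⟨by rw [mul_assoc, hzu, ← mul_assoc], ?_⟩
      calc u * z * (u * z) = u * (z * u) * z := by group
        _ = u * (u * z) * z := by rw [hzu]
        _ = (u * u) * (z * z) := by group
        _ = 1 := by rw [hu2, hz2, one_mul]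
  have hcard4 : ({1, z, u, u * z} : Finset P).card = 4 := by
    have h1 : (1 : P) ≠ z := fun h => hz1 h.symm
    have h2 : (1 : P) ≠ u := fun h => hu1 h.symm
    have h3 : (1 : P) ≠ u * z := by
      intro h
      apply huz
      have : u * z = z * z := by rw [← h, hz2]
      exact mul_right_cancel this
    have h4 : z ≠ u := fun h => huz h.symm
    have h5 : z ≠ u * z := by
      intro h
      apply hu1
      have : 1 * z = u * z := by rw [one_mul]; exact h
      exact (mul_right_cancel this).symm
    have h6 : u ≠ u * z := by
      intro h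
      apply hz1
      have : u * 1 = u * z := by rw [mul_one]; exact h
      exact (mul_left_cancel this).symm
    rw [Finset.card_insert_of_notMem, Finset.card_insert_of_notMem, Finset.card_pair h6]
    · simp only [Finset.mem_insert, Finset.mem_singleton]; tauto
    · simp only [Finset.mem_insert, Finset.mem_singleton]; tauto
  have heq : ({1, z, u, u * z} : Finset P) = SC :=
    Finset.eq_of_subset_of_card_le hsub (by rw [hSC4, hcard4])
  have hw : w ∈ SC := by
    simp only [hSC, hC, Finset.mem_filter, Finset.mem_univ, true_and]
    exact ⟨huw, hw2⟩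
  rw [← heq] at hw
  simpa only [Finset.mem_insert, Finset.mem_singleton] using hw

end aux

/-- NOE8. -/
theorem invol_comm {G : Type*} [Group G] {z : G} {Q : Subgroup G} (hQ : QData z Q)
    (h12 : Nat.card {x : G // x ∈ Q ∧ x * x = 1} = 12) (u w : G) (hu : u ∈ Q) (hw : w ∈ Q)
    (hu2 : u * u = 1) (hw2 : w * w = 1) (hu1 : u ≠ 1) (huz : u ≠ z) (huw : u * w = w * u) :
    w = 1 ∨ w = z ∨ w = u ∨ w = u * z := by
  classical
  have hfin : Finite ↥Q := Nat.finite_of_card_ne_zero (by rw [hQ.card]; norm_num)
  have hft : Fintype ↥Q := Fintype.ofFinite _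
  have hcard : Fintype.card ↥Q = 32 := by rw [← Nat.card_eq_fintype_card]; exact hQ.card
  have heq : Nat.card {x : G // x ∈ Q ∧ x * x = 1} =
      (Finset.univ.filter (fun x : ↥Q => x * x = 1)).card := by
    rw [← Fintype.card_subtype, ← Nat.card_eq_fintype_card]
    apply Nat.card_congr
    exact
      { toFun := fun x => ⟨⟨x.1, x.2.1⟩, Subtype.ext (by simpa using x.2.2)⟩
        invFun := fun x => ⟨x.1.1, x.1.2, by simpa using congrArg Subtype.val x.2⟩
        left_inv := fun x => rfl
        right_inv := fun x => rfl }
  rw [heq] at h12
  have key := noe8_aux (P := ↥Q) ⟨z, hQ.z_mem⟩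
    (fun h => hQ.z_ne (by simpa using congrArg Subtype.val h))
    (Subtype.ext (by simpa using hQ.z_sq))
    (fun x => Subtype.ext (by simpa using hQ.z_comm x x.2))
    (fun x y => by
      rcases hQ.comm x x.2 y y.2 with h | h
      · left; exact Subtype.ext (by simpa using h)
      · right; exact Subtype.ext (by simpa using h))
    hcard
    (fun x => by
      rcases hQ.sq x x.2 with h | h
      · left; exact Subtype.ext (by simpa using h)
      · right; exact Subtype.ext (by simpa using h))
    (fun x hx => by
      have := hQ.center x x.2 (fun y hy => by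
        have := congrArg Subtype.val (hx ⟨y, hy⟩)
        simpa using this)
      rcases this with h | h
      · left; exact Subtype.ext (by simpa using h)
      · right; exact Subtype.ext (by simpa using h))
    h12 ⟨u, hu⟩ ⟨w, hw⟩ (Subtype.ext (by simpa using hu2)) (Subtype.ext (by simpa using hw2))
    (fun h => hu1 (by simpa using congrArg Subtype.val h))
    (fun h => huz (by simpa using congrArg Subtype.val h))
    (Subtype.ext (by simpa using huw))
  rcases key with h | h | h | h
  · left; simpa using congrArg Subtype.val h
  · right; left; simpa using congrArg Subtype.val h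
  · right; right; left; simpa using congrArg Subtype.val h
  · right; right; right; simpa using congrArg Subtype.val h

end Cfsg.Agent.Lib.H26.HJ
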