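import Mathlib
import Cfsg.Agent.Lib.H4.HT.Defs

set_option autoImplicit false

/-! # S3371 piece STAR (helper26): the swapping elements for `p = 2` -/

namespace Cfsg.Agent.Lib.H26.HT

open Cfsg.Agent.Lib.H4.HT

variable {q : ℕ} {V : Type*} [AddCommGroup V] [Module (ZMod q) V] {G : Type*} [Group G]

theorem eq_zero_of_eq_neg [Fact q.Prime] (hq2 : 2 ≠ q) {v : V} (h : v = -v) : v = 0 := by
  have h2 : (2 : ZMod q) ≠ 0 := by
    intro e
    have h1 : ((2 : ℕ) : ZMod q) = 0 := by exact_mod_cast e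
    rw [ZMod.natCast_eq_zero_iff] at h1
    have hq : q.Prime := Fact.out
    have := (Nat.prime_dvd_prime_iff_eq hq Nat.prime_two).mp h1
    exact hq2 this.symm
  have h3 : (2 : ZMod q) • v = 0 := by
    rw [two_smul]
    nth_rewrite 1 [h]
    exact neg_add_cancel v
  rcases smul_eq_zero.mp h3 with h4 | h4
  · exact (h2 h4).elim
  · exact h4

theorem two_star [Fact q.Prime] [Finite G] (hq2 : 2 ≠ q) (ρ : G →* (V ≃ₗ[ZMod q] V)) (hE : EqStab ρ)
    (z b : G) (hz : z ∈ Subgroup.center G) (hzneg : ∀ v : V, ρ z v = -v) (hb2 : b * b = 1)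
    (hconj : ∀ g : G, g * b * g⁻¹ = b ∨ g * b * g⁻¹ = b * z) (w₁ w₂ : V) (h₁ : w₁ ≠ 0) (h₂ : w₂ ≠ 0)
    (hw₁ : ρ b w₁ = w₁) (hw₂ : ρ b w₂ = -w₂) :
    (∃ x : G, x * b * x⁻¹ = b * z ∧ ρ x w₁ = w₂ ∧ ρ x w₂ = w₁) ∧
      2 * Nat.card ↥(stab ρ w₁ ⊓ stab ρ w₂) = Nat.card (stab ρ w₁) := by
  have hzc : ∀ g : G, g * z = z * g := fun g => Subgroup.mem_center_iff.mp hz g
  -- commutation facts
  have hK : ∀ g : G, g * b * g⁻¹ = b → ∀ v : V, ρ b (ρ g v) = ρ g (ρ b v) := by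
    intro g hg v
    have : b * g = g * b := by
      calc b * g = (g * b * g⁻¹) * g := by rw [hg]
        _ = g * b := by group
    rw [← rho_mul, ← rho_mul, this]
  have hnK : ∀ g : G, g * b * g⁻¹ = b * z → ∀ v : V, ρ b (ρ g v) = -(ρ g (ρ b v)) := by
    intro g hg v
    have e1 : g * b = b * z * g := by
      calc g * b = (g * b * g⁻¹) * g := by group
        _ = b * z * g := by rw [hg]
    have e2 : ρ g (ρ b v) = ρ b (ρ z (ρ g v)) := by
      rw [← rho_mul, ← rho_mul, ← rho_mul, e1, mul_assoc]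
    rw [e2, hzneg, map_neg, neg_neg]
  -- `v = w₁ + w₂ ≠ 0`
  have hv : w₁ + w₂ ≠ 0 := by
    intro e
    have e1 : w₁ = -w₂ := eq_neg_of_add_eq_zero_left e
    have e2 : ρ b w₁ = ρ b (-w₂) := by rw [← e1]
    rw [hw₁, map_neg, hw₂, neg_neg] at e2
    apply h₂
    apply eq_zero_of_eq_neg hq2
    exact e2.symm.trans e1
  have hcard := hE (w₁ + w₂) w₁ hv h₁
  -- elements of the stabiliser of `v` inside `K`
  have c1 : ∀ g : G, ρ g (w₁ + w₂) = w₁ + w₂ → g * b * g⁻¹ = b → ρ g w₁ = w₁ ∧ ρ g w₂ = w₂ := by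
    intro g hg hgK
    rw [map_add] at hg
    have hd : ρ g w₁ - w₁ = w₂ - ρ g w₂ := by
      rw [sub_eq_sub_iff_add_eq_add, hg, add_comm]
    have hb1 : ρ b (ρ g w₁ - w₁) = ρ g w₁ - w₁ := by
      rw [map_sub, hK g hgK, hw₁]
    have hb2' : ρ b (ρ g w₁ - w₁) = -(ρ g w₁ - w₁) := by
      rw [hd, map_sub, hK g hgK, hw₂, map_neg]
      abel
    have h0 : ρ g w₁ - w₁ = 0 := eq_zero_of_eq_neg hq2 (hb1.symm.trans hb2')
    refine ⟨sub_eq_zero.mp h0, ?_⟩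
    rw [h0] at hd
    exact (sub_eq_zero.mp hd.symm).symm
  have c2 : ∀ g : G, ρ g (w₁ + w₂) = w₁ + w₂ → g * b * g⁻¹ = b * z →
      ρ g w₁ = w₂ ∧ ρ g w₂ = w₁ := by
    intro g hg hgK
    rw [map_add] at hg
    have hd : ρ g w₁ - w₂ = w₁ - ρ g w₂ := by
      rw [sub_eq_sub_iff_add_eq_add, hg]
    have hb1 : ρ b (ρ g w₁ - w₂) = -(ρ g w₁ - w₂) := by
      rw [map_sub, hnK g hgK, hw₁, hw₂]
      abel
    have hb2' : ρ b (ρ g w₁ - w₂) = ρ g w₁ - w₂ := by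
      rw [hd, map_sub, hnK g hgK, hw₁, hw₂, map_neg, neg_neg]
    have h0 : ρ g w₁ - w₂ = 0 := eq_zero_of_eq_neg hq2 (hb2'.symm.trans hb1)
    refine ⟨sub_eq_zero.mp h0, ?_⟩
    rw [h0] at hd
    exact (sub_eq_zero.mp hd.symm).symm
  -- `b` separates the stabilisers
  have hbw₁ : b ∈ stab ρ w₁ := hw₁
  have hbw₂ : b ∉ stab ρ w₂ := by
    intro h
    have : ρ b w₂ = w₂ := h
    rw [hw₂] at this
    exact h₂ (eq_zero_of_eq_neg hq2 this.symm)
  have hlt : Nat.card ↥(stab ρ w₁ ⊓ stab ρ w₂) < Nat.card (stab ρ w₁) := by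
    by_contra hcon
    push Not at hcon
    have e : stab ρ w₁ ⊓ stab ρ w₂ = stab ρ w₁ :=
      Subgroup.eq_of_le_of_card_ge inf_le_left hcon
    have hb : b ∈ stab ρ w₁ ⊓ stab ρ w₂ := by rw [e]; exact hbw₁
    exact hbw₂ hb.2
  -- some element of the stabiliser of `v` is outside `K`
  obtain ⟨x, hxv, hxK⟩ : ∃ x : G, ρ x (w₁ + w₂) = w₁ + w₂ ∧ x * b * x⁻¹ = b * z := by
    by_contra hcon
    push Not at hcon
    have hle : stab ρ (w₁ + w₂) ≤ stab ρ w₁ ⊓ stab ρ w₂ := by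
      intro g hg
      have hgK : g * b * g⁻¹ = b := by
        rcases hconj g with h | h
        · exact h
        · exact (hcon g hg h).elim
      exact c1 g hg hgK
    have := Subgroup.card_le_of_le hle
    omega
  refine ⟨⟨x, hxK, c2 x hxv hxK⟩, ?_⟩
  -- index two
  have hxb : x⁻¹ * b * x = b * z⁻¹ := by
    have : b = x⁻¹ * (x * b * x⁻¹) * x := by group
    rw [hxK] at this
    calc x⁻¹ * b * x = x⁻¹ * b * x * (z * z⁻¹) := by rw [mul_inv_cancel, mul_one]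
      _ = x⁻¹ * b * (x * z) * z⁻¹ := by group
      _ = x⁻¹ * b * (z * x) * z⁻¹ := by rw [hzc x]
      _ = (x⁻¹ * (b * z) * x) * z⁻¹ := by group
      _ = b * z⁻¹ := by rw [← this]
  have hz1 : z ≠ 1 := by
    intro e
    have := hzneg w₁
    rw [e, rho_one] at this
    exact h₁ (eq_zero_of_eq_neg hq2 this)
  have hinf : ∀ g : G, g ∈ stab ρ w₁ ⊓ stab ρ w₂ ↔ g ∈ stab ρ (w₁ + w₂) ∧ g * b * g⁻¹ = b := by
    intro g
    constructor
    · rintro ⟨h1, h2⟩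
      have h1' : ρ g w₁ = w₁ := h1
      have h2' : ρ g w₂ = w₂ := h2
      refine ⟨by change ρ g (w₁ + w₂) = w₁ + w₂; rw [map_add, h1', h2'], ?_⟩
      rcases hconj g with h | h
      · exact h
      · exfalso
        have := hnK g h w₁
        rw [hw₁, h1', hw₁] at this
        exact h₁ (eq_zero_of_eq_neg hq2 this)
    · rintro ⟨h1, h2⟩
      exact c1 g h1 h2
  have hHS : stab ρ w₁ ⊓ stab ρ w₂ ≤ stab ρ (w₁ + w₂) := fun g hg => ((hinf g).mp hg).1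
  have hidx : ((stab ρ w₁ ⊓ stab ρ w₂).subgroupOf (stab ρ (w₁ + w₂))).index = 2 := by
    rw [Subgroup.index_eq_two_iff]
    refine ⟨⟨x⁻¹, (stab ρ (w₁ + w₂)).inv_mem hxv⟩, ?_⟩
    intro g
    have hgS : (g : G) ∈ stab ρ (w₁ + w₂) := g.2
    have hgx : ((g : G) * x⁻¹) ∈ stab ρ (w₁ + w₂) :=
      (stab ρ (w₁ + w₂)).mul_mem hgS ((stab ρ (w₁ + w₂)).inv_mem hxv)
    have e1 : ((g : G) * x⁻¹) * b * ((g : G) * x⁻¹)⁻¹ = ((g : G) * b * (g : G)⁻¹) * z⁻¹ := by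
      have : ((g : G) * x⁻¹) * b * ((g : G) * x⁻¹)⁻¹ = (g : G) * (x⁻¹ * b * x) * (g : G)⁻¹ := by group
      rw [this, hxb]
      calc (g : G) * (b * z⁻¹) * (g : G)⁻¹ = (g : G) * b * (z⁻¹ * (g : G)⁻¹) := by group
        _ = (g : G) * b * ((g : G)⁻¹ * z⁻¹) := by
            have : z⁻¹ * (g : G)⁻¹ = (g : G)⁻¹ * z⁻¹ := by
              rw [← mul_inv_rev, ← mul_inv_rev, hzc]
            rw [this]
        _ = (g : G) * b * (g : G)⁻¹ * z⁻¹ := by group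
    simp only [Subgroup.mem_subgroupOf, Subgroup.coe_mul]
    change Xor (((g : G) * x⁻¹) ∈ stab ρ w₁ ⊓ stab ρ w₂) ((g : G) ∈ stab ρ w₁ ⊓ stab ρ w₂)
    rw [hinf, hinf]
    rcases hconj (g : G) with h | h
    · right
      refine ⟨⟨hgS, h⟩, ?_⟩
      rintro ⟨-, h'⟩
      rw [e1, h] at h'
      apply hz1
      have : z⁻¹ = 1 := by
        have := congrArg (fun t => b⁻¹ * t) h'
        simpa using this
      exact inv_eq_one.mp this
    · left
      refine ⟨⟨hgx, ?_⟩, ?_⟩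
      · rw [e1, h]; group
      · rintro ⟨-, h'⟩
        rw [h] at h'
        apply hz1
        have := congrArg (fun t => b⁻¹ * t) h'
        simpa using this
  have h3 := Subgroup.card_mul_index ((stab ρ w₁ ⊓ stab ρ w₂).subgroupOf (stab ρ (w₁ + w₂)))
  rw [hidx, Nat.card_congr (Subgroup.subgroupOfEquivOfLe hHS).toEquiv] at h3
  rw [← hcard, ← h3, mul_comm]

end Cfsg.Agent.Lib.H26.HT
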