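import Mathlib
import Cfsg.Agent.Lib.H21.Hall4Defs

/-!
# S4221 piece ORB: finset combinatorics of two commuting involutions
-/

set_option autoImplicit false

namespace Cfsg.Agent.Lib.H26.Hall4

open Equiv Cfsg.Agent.Lib.H21.Hall4

variable {α : Type*} [Fintype α] [DecidableEq α] {G : Subgroup (Perm α)}

theorem invol_apply (u : Perm α) (hu : u * u = 1) (x : α) : u (u x) = x := by
  have := congrArg (fun p : Perm α => p x) hu
  simpa using this

theorem comm_apply (u v : Perm α) (huv : u * v = v * u) (x : α) : u (v x) = v (u x) := by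
  have := congrArg (fun p : Perm α => p x) huv
  simpa using this

/-- Partition of `α` by the stabilizer in `{1,u,v,uv}`. -/
theorem orbit_count (u v : Perm α) (hu : u * u = 1) (hv : v * v = 1) (huv : u * v = v * u) :
    Fintype.card α + 2 * (Finset.univ.filter (fun x => u x = x ∧ v x = x)).card =
      nfix u + nfix v + nfix (u * v) + (reg u v).card := by
  have hu' := invol_apply u hu
  have hc := comm_apply u v huv
  have key : ∀ x : α, 1 + 2 * (if (u x = x ∧ v x = x) then 1 else 0) =
      (if u x = x then 1 else 0) + (if v x = x then 1 else 0) +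
        (if (u * v) x = x then 1 else 0) +
        (if (u x ≠ x ∧ v x ≠ x ∧ (u * v) x ≠ x) then 1 else 0) := by
    intro x
    have h1 : u x = x → v x = x → (u * v) x = x := by
      intro h1 h2; rw [Perm.mul_apply, h2, h1]
    have h2 : u x = x → (u * v) x = x → v x = x := by
      intro h1 h2
      rw [Perm.mul_apply] at h2
      have h3 : u (u (v x)) = u x := by rw [h2]
      rw [hu', h1] at h3
      exact h3
    have h3 : v x = x → (u * v) x = x → u x = x := by
      intro h1 h2
      rw [Perm.mul_apply, h1] at h2
      exact h2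
    by_cases hP : u x = x <;> by_cases hQ : v x = x <;> by_cases hW : (u * v) x = x
    all_goals first
      | (exfalso; exact hW (h1 hP hQ))
      | (exfalso; exact hQ (h2 hP hW))
      | (exfalso; exact hP (h3 hQ hW))
      | (simp only [Perm.mul_apply] at hW ⊢; simp [hP, hQ, hW])
  unfold nfix reg
  simp only [Finset.card_filter]
  rw [← Finset.card_univ, Finset.card_eq_sum_ones, Finset.mul_sum, ← Finset.sum_add_distrib,
    ← Finset.sum_add_distrib, ← Finset.sum_add_distrib, ← Finset.sum_add_distrib]
  exact Finset.sum_congr rfl fun x _ => key x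

theorem nfix_split (u v : Perm α) :
    nfix u = (Finset.univ.filter (fun x => u x = x ∧ v x = x)).card +
      (Finset.univ.filter (fun x => u x = x ∧ v x ≠ x)).card := by
  unfold nfix
  simp only [Finset.card_filter]
  rw [← Finset.sum_add_distrib]
  refine Finset.sum_congr rfl fun x _ => ?_
  by_cases hP : u x = x <;> by_cases hQ : v x = x <;> simp [hP, hQ]

/-- `v` acts without fixed points on `Fix u ∖ Fix v`. -/
theorem even_fix_diff (u v : Perm α) (hv : v * v = 1) (huv : u * v = v * u) :
    Even (Finset.univ.filter (fun x => u x = x ∧ v x ≠ x)).card := by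
  have hv' := invol_apply v hv
  have hc := comm_apply u v huv
  have h := Finset.sum_involution
    (s := Finset.univ.filter (fun x => u x = x ∧ v x ≠ x)) (f := fun _ => (1 : ZMod 2))
    (fun x _ => v x) (fun _ _ => by decide)
    (fun x hx _ => (Finset.mem_filter.mp hx).2.2)
    (fun x hx => by
      have hx' := (Finset.mem_filter.mp hx).2
      refine Finset.mem_filter.mpr ⟨Finset.mem_univ _, ?_, ?_⟩
      · rw [hc, hx'.1]
      · rw [hv']; exact fun h => hx'.2 h.symm)
    (fun x _ => hv' x)
  rw [Finset.sum_const, nsmul_one] at h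
  exact ZMod.natCast_eq_zero_iff_even.mp h

/-- `{1,u,v,uv}` acts freely on the regular points. -/
theorem four_dvd_reg (u v : Perm α) (hu : u * u = 1) (hv : v * v = 1) (huv : u * v = v * u) :
    4 ∣ (reg u v).card := by
  have hu' := invol_apply u hu
  have hv' := invol_apply v hv
  have hc := comm_apply u v huv
  have hreg : ∀ x, x ∈ reg u v ↔ u x ≠ x ∧ v x ≠ x ∧ u (v x) ≠ x := fun x => by
    rw [mem_reg, Perm.mul_apply]
  have hregu : ∀ x ∈ reg u v, u x ∈ reg u v := by
    intro x hx
    rw [hreg] at hx ⊢
    obtain ⟨h1, h2, h3⟩ := hx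
    refine ⟨?_, ?_, ?_⟩
    · rw [hu']; exact fun h => h1 h.symm
    · rw [← hc]
      intro h
      exact h2 (u.injective h)
    · rw [← hc, hu']
      intro h
      apply h3
      rw [h, hu']
  have hregv : ∀ x ∈ reg u v, v x ∈ reg u v := by
    intro x hx
    rw [hreg] at hx ⊢
    obtain ⟨h1, h2, h3⟩ := hx
    refine ⟨?_, ?_, ?_⟩
    · rw [hc]
      intro h
      exact h1 (v.injective h)
    · rw [hv']; exact fun h => h2 h.symm
    · rw [hv']
      intro h
      apply h3
      rw [← h, hu']
  set f : α → Finset α := fun x => {x, u x, v x, u (v x)} with hf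
  have hfu : ∀ x, f (u x) = f x := by
    intro x
    simp only [hf]
    rw [hu', ← hc, hu']
    ext y
    simp only [Finset.mem_insert, Finset.mem_singleton]
    tauto
  have hfv : ∀ x, f (v x) = f x := by
    intro x
    simp only [hf]
    rw [hv']
    ext y
    simp only [Finset.mem_insert, Finset.mem_singleton]
    tauto
  have hfeq : ∀ x y, y ∈ f x → f y = f x := by
    intro x y hy
    simp only [hf, Finset.mem_insert, Finset.mem_singleton] at hy
    rcases hy with rfl | rfl | rfl | rfl
    · rfl
    · exact hfu x
    · exact hfv x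
    · rw [hfu, hfv]
  have hsub : ∀ x ∈ reg u v, ∀ y ∈ f x, y ∈ reg u v := by
    intro x hx y hy
    simp only [hf, Finset.mem_insert, Finset.mem_singleton] at hy
    rcases hy with rfl | rfl | rfl | rfl
    · exact hx
    · exact hregu _ hx
    · exact hregv _ hx
    · exact hregu _ (hregv _ hx)
  have hcard : ∀ x ∈ reg u v, (f x).card = 4 := by
    intro x hx
    rw [hreg] at hx
    obtain ⟨h1, h2, h3⟩ := hx
    have h4 : u x ≠ v x := by
      intro h
      apply h3
      rw [← h, hu']
    have h5 : u x ≠ u (v x) := by
      intro h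
      exact h2 (u.injective h).symm
    have h6 : v x ≠ u (v x) := by
      intro h
      rw [hc] at h
      exact h1 (v.injective h).symm
    simp only [hf]
    rw [Finset.card_insert_of_notMem, Finset.card_insert_of_notMem, Finset.card_pair h6]
    · simp only [Finset.mem_insert, Finset.mem_singleton]
      tauto
    · simp only [Finset.mem_insert, Finset.mem_singleton]
      intro h
      rcases h with h | h | h
      · exact h1 h.symm
      · exact h2 h.symm
      · exact h3 h.symm
  have key := Finset.card_eq_sum_card_fiberwise (s := reg u v) (t := (reg u v).image f) (f := f)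
    (fun x hx => Finset.mem_coe.2 (Finset.mem_image_of_mem f (Finset.mem_coe.1 hx)))
  rw [key]
  apply Finset.dvd_sum
  intro b hb
  obtain ⟨x, hx, rfl⟩ := Finset.mem_image.mp hb
  have h7 : (reg u v).filter (fun y => f y = f x) = f x := by
    ext y
    simp only [Finset.mem_filter]
    constructor
    · rintro ⟨_, h⟩
      rw [← h]
      simp [hf]
    · intro hy
      exact ⟨hsub x hx y hy, hfeq x y hy⟩
  rw [h7, hcard x hx]

end Cfsg.Agent.Lib.H26.Hall4
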