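import Mathlib
import Cfsg.Agent.Lib.H22.HigCPAIR
import Cfsg.Agent.Lib.H26.HigPAIRG
import Cfsg.Agent.Lib.H26.HigQUOT

/-!
# S3050 piece STEP: if `Q / Z(Q)` is abelian then `Q = ker π` is abelian
-/

set_option autoImplicit false

namespace Cfsg.Agent.Lib.H26.Hig

open Matrix

theorem comm_step {K : Type*} [Field K] [Fintype K] {n : ℕ} (hn : 2 ≤ n)
    (hK : Fintype.card K = 2 ^ n) {G : Type*} [Group G] [Finite G]
    (π : G →* SpecialLinearGroup (Fin 2) K) (hπ : Function.Surjective π)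
    (hQ : IsPGroup 2 ↥π.ker) (x : G) (hx3 : x ^ 3 = 1) (hx1 : π x ≠ 1)
    (hfpf : ∀ q ∈ π.ker, x * q * x⁻¹ = q → q = 1)
    (Z : Subgroup G) [Z.Normal] (hZ : Z = π.ker ⊓ Subgroup.centralizer (π.ker : Set G))
    (hZker : Z ≤ π.ker)
    (hIH : ∀ a ∈ (QuotientGroup.lift Z π hZker).ker, ∀ b ∈ (QuotientGroup.lift Z π hZker).ker,
      a * b = b * a) :
    ∀ a ∈ π.ker, ∀ b ∈ π.ker, a * b = b * a := by
  obtain ⟨hsurj, hmem, hP', hx'3, hx'1, hfpf', -⟩ :=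
    quot_data π hπ hQ x hx3 hx1 hfpf Z hZker
  -- Z centralizes Q
  have hcen : ∀ q ∈ π.ker, ∀ z ∈ Z, q * z = z * q := by
    intro q hq z hz
    rw [hZ] at hz
    exact Subgroup.mem_centralizer_iff.mp (Subgroup.mem_inf.mp hz).2 q hq
  -- commutators of Q lie in Z
  have hab : ∀ a ∈ π.ker, ∀ b ∈ π.ker, a * b * a⁻¹ * b⁻¹ ∈ Z := by
    intro a ha b hb
    rw [← QuotientGroup.eq_one_iff]
    have h1 := hIH (a : G ⧸ Z) ((hmem a).mpr ha) (b : G ⧸ Z) ((hmem b).mpr hb)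
    rw [QuotientGroup.mk_mul, QuotientGroup.mk_mul, QuotientGroup.mk_mul, QuotientGroup.mk_inv,
      QuotientGroup.mk_inv, h1]
    group
  obtain ⟨c, hc, hc1, hc2⟩ := Cfsg.Agent.Lib.H22.Hig.exists_comm_pairing π.ker Z hZker hcen hab
    (QuotientGroup.lift Z π hZker).ker hmem
  have key : ∀ u v, c u v = 1 := by
    refine pairing_groups hn hK
      (QuotientGroup.lift Z π hZker) hsurj π hπ
      (QuotientGroup.lift Z π hZker).ker hP' hIH hIH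
      Z (hQ.to_le hZker)
      (fun a ha b hb => hcen a (hZker ha) b hb)
      (fun q hq a ha => hcen q hq a ha)
      (x : G ⧸ Z) hx'3 hx'1 hfpf'
      x hx3 hx1 (fun a ha => hfpf a (hZker ha))
      c hc1 hc2 ?_
    intro g₁ g₂ hg u v u' v' hu' hv'
    obtain ⟨g', rfl⟩ := QuotientGroup.mk_surjective g₁
    obtain ⟨a, ha⟩ := QuotientGroup.mk_surjective (u : G ⧸ Z)
    obtain ⟨b, hb⟩ := QuotientGroup.mk_surjective (v : G ⧸ Z)
    have haQ : a ∈ π.ker := (hmem a).mp (ha ▸ u.2)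
    have hbQ : b ∈ π.ker := (hmem b).mp (hb ▸ v.2)
    have hu'' : (u' : G ⧸ Z) = ((g' * a * g'⁻¹ : G) : G ⧸ Z) := by
      rw [hu', ← ha]; simp
    have hv'' : (v' : G ⧸ Z) = ((g' * b * g'⁻¹ : G) : G ⧸ Z) := by
      rw [hv', ← hb]; simp
    rw [hc _ _ u' v' hu'' hv'', hc a b u v ha.symm hb.symm]
    -- g' = g₂ k with k ∈ Q
    have hk : g₂⁻¹ * g' ∈ π.ker := by
      rw [MonoidHom.mem_ker, map_mul, map_inv, ← hg, QuotientGroup.lift_mk, inv_mul_cancel]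
    have hzc := hab a haQ b hbQ
    have h1 := hcen _ hk _ hzc
    have h2 : g' * a * g'⁻¹ * (g' * b * g'⁻¹) * (g' * a * g'⁻¹)⁻¹ * (g' * b * g'⁻¹)⁻¹ =
        g₂ * ((g₂⁻¹ * g') * (a * b * a⁻¹ * b⁻¹) * (g₂⁻¹ * g')⁻¹) * g₂⁻¹ := by group
    rw [h2, h1, mul_inv_cancel_right]
  intro a ha b hb
  have h1 := hc a b ⟨(a : G ⧸ Z), (hmem a).mpr ha⟩ ⟨(b : G ⧸ Z), (hmem b).mpr hb⟩ rfl rfl
  rw [key] at h1
  have h2 : a * b * a⁻¹ * b⁻¹ = 1 := by
    rw [← h1]; rfl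
  have h3 := congrArg (fun t => t * b * a) h2
  simp only [one_mul] at h3
  rw [← h3]; group

end Cfsg.Agent.Lib.H26.Hig
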