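import Mathlib
import Cfsg.Agent.Lib.H26.HigQUOT
import Cfsg.Agent.Lib.H26.HigSTEP

/-!
# S3050 piece MAINCOMM: `ker π` is abelian (strong induction on its order)
-/

set_option autoImplicit false

namespace Cfsg.Agent.Lib.H26.Hig

open Matrix

universe v

theorem ker_comm_aux {K : Type*} [Field K] [Fintype K] {n : ℕ} (hn : 2 ≤ n)
    (hK : Fintype.card K = 2 ^ n) :
    ∀ (N : ℕ) (G : Type v) [Group G] [Finite G]
      (π : G →* SpecialLinearGroup (Fin 2) K) (_ : Function.Surjective π)
      (_ : IsPGroup 2 ↥π.ker) (x : G) (_ : x ^ 3 = 1) (_ : π x ≠ 1)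
      (_ : ∀ q ∈ π.ker, x * q * x⁻¹ = q → q = 1), Nat.card ↥π.ker = N →
      ∀ a ∈ π.ker, ∀ b ∈ π.ker, a * b = b * a := by
  intro N
  induction N using Nat.strong_induction_on with
  | _ N ih =>
    intro G _ _ π hπ hQ x hx3 hx1 hfpf hN
    by_cases htriv : π.ker = ⊥
    · intro a ha b hb
      rw [htriv, Subgroup.mem_bot] at ha hb
      rw [ha, hb]
    · -- the centre of Q, as a subgroup of G
      have hZn : (π.ker ⊓ Subgroup.centralizer (π.ker : Set G)).Normal := inferInstance
      have hZker : π.ker ⊓ Subgroup.centralizer (π.ker : Set G) ≤ π.ker := inf_le_left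
      have : Fact (Nat.Prime 2) := ⟨Nat.prime_two⟩
      have hnt : Nontrivial ↥π.ker := by
        rw [← Finite.one_lt_card_iff_nontrivial, Subgroup.one_lt_card_iff_ne_bot]
        exact htriv
      have hcnt := hQ.center_nontrivial
      obtain ⟨z, hz⟩ := exists_ne (1 : ↥(Subgroup.center ↥π.ker))
      have hzZ : ((z : ↥π.ker) : G) ∈ π.ker ⊓ Subgroup.centralizer (π.ker : Set G) := by
        refine Subgroup.mem_inf.mpr ⟨(z : ↥π.ker).2, ?_⟩
        rw [Subgroup.mem_centralizer_iff]
        intro q hq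
        have h1 := Subgroup.mem_center_iff.mp z.2 ⟨q, hq⟩
        have h2 := congrArg Subtype.val h1
        simpa using h2
      have hz1 : ((z : ↥π.ker) : G) ≠ 1 := by
        intro h
        apply hz
        apply Subtype.ext
        apply Subtype.ext
        simpa using h
      have hZcard : 1 < Nat.card ↥(π.ker ⊓ Subgroup.centralizer (π.ker : Set G)) := by
        rw [Subgroup.one_lt_card_iff_ne_bot]
        intro hbot
        rw [hbot, Subgroup.mem_bot] at hzZ
        exact hz1 hzZ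
      obtain ⟨hsurj, hmem, hP', hx'3, hx'1, hfpf', hcard⟩ :=
        quot_data π hπ hQ x hx3 hx1 hfpf (π.ker ⊓ Subgroup.centralizer (π.ker : Set G)) hZker
      have hlt : Nat.card ↥(QuotientGroup.lift (π.ker ⊓ Subgroup.centralizer (π.ker : Set G))
          π hZker).ker < N := by
        rw [← hN, ← hcard]
        have hpos : 0 < Nat.card ↥(QuotientGroup.lift
            (π.ker ⊓ Subgroup.centralizer (π.ker : Set G)) π hZker).ker := Nat.card_pos
        nlinarith
      have hIH := ih _ hlt (G ⧸ (π.ker ⊓ Subgroup.centralizer (π.ker : Set G)))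
        (QuotientGroup.lift (π.ker ⊓ Subgroup.centralizer (π.ker : Set G)) π hZker) hsurj hP'
        ((x : G) : G ⧸ (π.ker ⊓ Subgroup.centralizer (π.ker : Set G))) hx'3 hx'1 hfpf' rfl
      exact comm_step hn hK π hπ hQ x hx3 hx1 hfpf
        (π.ker ⊓ Subgroup.centralizer (π.ker : Set G)) rfl hZker hIH

theorem ker_comm {K : Type*} [Field K] [Fintype K] {n : ℕ} (hn : 2 ≤ n)
    (hK : Fintype.card K = 2 ^ n) {G : Type*} [Group G] [Finite G]
    (π : G →* SpecialLinearGroup (Fin 2) K) (hπ : Function.Surjective π)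
    (hQ : IsPGroup 2 ↥π.ker) (x : G) (hx3 : x ^ 3 = 1) (hx1 : π x ≠ 1)
    (hfpf : ∀ q ∈ π.ker, x * q * x⁻¹ = q → q = 1) :
    ∀ a ∈ π.ker, ∀ b ∈ π.ker, a * b = b * a :=
  ker_comm_aux hn hK _ G π hπ hQ x hx3 hx1 hfpf rfl

end Cfsg.Agent.Lib.H26.Hig
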