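import Mathlib
import Cfsg.Prelude.Def_FusionSystem
import Cfsg.Agent.Lib.H25.Fusion
import Cfsg.Agent.Lib.H25.Normal
import Cfsg.Agent.Lib.H25.Alperin
import Cfsg.Agent.Lib.H25.ExtMod

set_option autoImplicit false
set_option linter.unusedSectionVars false

/-!
The hyperfocal subgroup of a saturated fusion system acts on a strongly closed subgroup `T` through
`O^p(Aut_F(T)) Inn(T)` (helper26).
-/

namespace Cfsg.Agent.Lib.H26

open Cfsg Cfsg.FusionSystem Cfsg.Agent.Lib.H25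

variable {Ω : Type*} [Group Ω] {S : Subgroup Ω}

/-- An automorphism of `P` in the system of order prime to `p` extends, modulo the strongly closed
subgroup `T`, to an automorphism of `P T` in the system of order prime to `p`. -/
theorem exists_extMod_aut_coprime [Finite S] {p : ℕ} [Fact p.Prime] (hS : IsPGroup p S)
    {F : FusionSystem S} (hF : F.IsSaturated p) {T : Subgroup Ω} (hT : F.StronglyClosed T)
    {P : Subgroup Ω} (hP : P ≤ S) {α : MulAut P} (hα : α ∈ F.autGroup P)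
    (hcop : (orderOf α).Coprime p) :
    ∃ β ∈ F.autGroup (P ⊔ T), (orderOf β).Coprime p ∧
      ∀ a : P, ((α a : P) : Ω)⁻¹ * ((β (Subgroup.inclusion le_sup_left a) : ↥(P ⊔ T)) : Ω) ∈ T := by
  have hTS := hT.1
  have hPTS : P ⊔ T ≤ S := sup_le hP hTS
  have hfinPT : Finite ↥(P ⊔ T) := finite_of_le S hPTS
  have hiso := isIso_of_mem_autGroup F hP hα
  obtain ⟨g, R, hg, hgf⟩ := exists_extMod hS hF hT hiso
  have hgT : IsIso F T T g := stronglyClosed_isIso_self hT hg le_sup_right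
  have hgP : ∀ a : P, ((α a : P) : Ω)⁻¹ * g (a : Ω) ∈ T := by
    intro a
    have := hgf a a.2
    rwa [ext1_apply] at this
  have hpre : P ⊔ T ≤ hg.pre (P ⊔ T) := by
    apply sup_le
    · intro a ha
      refine ⟨(le_sup_left : P ≤ P ⊔ T) ha, ?_⟩
      have e : g a = ((α ⟨a, ha⟩ : P) : Ω) * (((α ⟨a, ha⟩ : P) : Ω)⁻¹ * g a) := by group
      rw [e]
      exact Subgroup.mul_mem _ ((le_sup_left : P ≤ P ⊔ T) (α ⟨a, ha⟩).2)
        ((le_sup_right : T ≤ P ⊔ T) (hgP ⟨a, ha⟩))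
    · intro a ha
      exact ⟨(le_sup_right : T ≤ P ⊔ T) ha, (le_sup_right : T ≤ P ⊔ T) (hgT.map_mem ha)⟩
  have hRle : R ≤ P ⊔ T := by
    intro y hy
    obtain ⟨x, hx, rfl⟩ := hg.surjOn hy
    exact (hpre hx).2
  have hR : R = P ⊔ T := Subgroup.eq_of_le_of_card_ge hRle (le_of_eq hg.card_eq)
  rw [hR] at hg
  obtain ⟨ψ, hψ, hψg⟩ := exists_mem_autGroup_of_isIso F hg
  -- congruence of powers
  have hψT : ∀ t : ↥(P ⊔ T), (t : Ω) ∈ T → ((ψ t : ↥(P ⊔ T)) : Ω) ∈ T := by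
    intro t ht
    rw [hψg]
    exact hgT.map_mem ht
  have hpow : ∀ j : ℕ, ∀ a : P,
      (((α ^ j) a : P) : Ω)⁻¹ * (((ψ ^ j) (Subgroup.inclusion le_sup_left a) : ↥(P ⊔ T)) : Ω) ∈ T := by
    intro j
    induction j with
    | zero =>
      intro a
      simp
    | succ j ih =>
      intro a
      rw [pow_succ', pow_succ', MulAut.mul_apply, MulAut.mul_apply]
      obtain ⟨b, hb⟩ : ∃ b : P, b = (α ^ j) a := ⟨_, rfl⟩
      obtain ⟨z, hz⟩ : ∃ z : ↥(P ⊔ T), z = (ψ ^ j) (Subgroup.inclusion le_sup_left a) := ⟨_, rfl⟩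
      have ht := ih a
      rw [← hb, ← hz] at ht ⊢
      have hzb : z = Subgroup.inclusion le_sup_left b *
          ⟨(b : Ω)⁻¹ * (z : Ω), (le_sup_right : T ≤ P ⊔ T) ht⟩ := by
        apply Subtype.ext
        show (z : Ω) = (b : Ω) * ((b : Ω)⁻¹ * (z : Ω))
        group
      have h1 : ((α b : P) : Ω)⁻¹ * ((ψ (Subgroup.inclusion le_sup_left b) : ↥(P ⊔ T)) : Ω) ∈ T := by
        rw [hψg]
        exact hgP b
      have h2 := hψT ⟨(b : Ω)⁻¹ * (z : Ω), (le_sup_right : T ≤ P ⊔ T) ht⟩ ht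
      rw [hzb, map_mul]
      have e : ((α b : P) : Ω)⁻¹ * ((ψ (Subgroup.inclusion le_sup_left b) *
          ψ ⟨(b : Ω)⁻¹ * (z : Ω), (le_sup_right : T ≤ P ⊔ T) ht⟩ : ↥(P ⊔ T)) : Ω) =
          (((α b : P) : Ω)⁻¹ * ((ψ (Subgroup.inclusion le_sup_left b) : ↥(P ⊔ T)) : Ω)) *
            ((ψ ⟨(b : Ω)⁻¹ * (z : Ω), (le_sup_right : T ≤ P ⊔ T) ht⟩ : ↥(P ⊔ T)) : Ω) := by
        push_cast
        group
      rw [e]
      exact T.mul_mem h1 h2
  -- the `p'`-part
  have hψfin : orderOf ψ ≠ 0 := (orderOf_pos ψ).ne'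
  obtain ⟨k, o', ho', ho⟩ := Nat.exists_eq_pow_mul_and_not_dvd hψfin p (Fact.out : p.Prime).one_lt.ne'
  have hcop' : (p ^ k).Coprime (orderOf α) := (Nat.Coprime.pow_right k hcop).symm
  obtain ⟨m, hm⟩ := exists_pow_eq_self_of_coprime hcop'
  refine ⟨ψ ^ (p ^ k * m), Subgroup.pow_mem _ hψ _, ?_, fun a => ?_⟩
  · have h1 : (ψ ^ (p ^ k * m)) ^ o' = 1 := by
      rw [← pow_mul, mul_right_comm, ← ho, pow_mul, pow_orderOf_eq_one, one_pow]
    have h2 : orderOf (ψ ^ (p ^ k * m)) ∣ o' := orderOf_dvd_of_pow_eq_one h1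
    have h3 : o'.Coprime p :=
      ((Nat.Prime.coprime_iff_not_dvd (Fact.out : p.Prime)).2 ho').symm
    exact Nat.Coprime.coprime_dvd_left h2 h3
  · have := hpow (p ^ k * m) a
    rwa [pow_mul, hm] at this

/-- Restriction of an automorphism in the system of `R ≥ T` to the strongly closed subgroup `T`. -/
theorem exists_restrict_aut [Finite S] {F : FusionSystem S} {T : Subgroup Ω}
    (hT : F.StronglyClosed T) {R : Subgroup Ω} (hTR : T ≤ R) (hRS : R ≤ S) {β : MulAut R}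
    (hβ : β ∈ F.autGroup R) :
    ∃ γ ∈ F.autGroup T, orderOf γ ∣ orderOf β ∧
      ∀ t : T, ((γ t : T) : Ω) = ((β (Subgroup.inclusion hTR t) : R) : Ω) := by
  have hiso := isIso_of_mem_autGroup F hRS hβ
  have hT' := stronglyClosed_isIso_self hT hiso hTR
  obtain ⟨γ, hγ, hγf⟩ := exists_mem_autGroup_of_isIso F hT'
  have hγβ : ∀ t : T, ((γ t : T) : Ω) = ((β (Subgroup.inclusion hTR t) : R) : Ω) := by
    intro t
    rw [hγf, ext1_apply_mem _ (hTR t.2)]
    rfl
  have hpow : ∀ n : ℕ, ∀ t : T,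
      (((γ ^ n) t : T) : Ω) = (((β ^ n) (Subgroup.inclusion hTR t) : R) : Ω) := by
    intro n
    induction n with
    | zero => intro t; simp
    | succ n ih =>
      intro t
      rw [pow_succ', pow_succ', MulAut.mul_apply, MulAut.mul_apply, hγβ]
      congr 2
      apply Subtype.ext
      exact ih t
  refine ⟨γ, hγ, ?_, hγβ⟩
  apply orderOf_dvd_of_pow_eq_one
  ext t
  rw [hpow, pow_orderOf_eq_one]
  rfl

/-- The hyperfocal subgroup acts on a strongly closed subgroup `T` through `O^p(Aut_F(T)) Inn(T)`. -/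
theorem hyperfocal_acts [Finite S] {p : ℕ} [Fact p.Prime] (hS : IsPGroup p S)
    {F : FusionSystem S} (hF : F.IsSaturated p) {T : Subgroup Ω} (hT : F.StronglyClosed T) :
    ∀ x ∈ F.hyperfocalSubgroup p, ∃ α ∈ ((pResidual p ↥(F.autGroup T)).map (F.autGroup T).subtype ⊔
      Inn ↥T : Subgroup (MulAut ↥T)), ∀ t : ↥T, ((α t : ↥T) : Ω) = x * (t : Ω) * x⁻¹ := by
  have hTS := hT.1
  obtain ⟨N, hN⟩ : ∃ N : Subgroup (MulAut ↥T),
      N = (pResidual p ↥(F.autGroup T)).map (F.autGroup T).subtype ⊔ Inn ↥T := ⟨_, rfl⟩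
  rw [← hN]
  have hN1 : ∀ γ : MulAut T, γ ∈ F.autGroup T → (orderOf γ).Coprime p → γ ∈ N := by
    intro γ hγ hγo
    rw [hN]
    refine (le_sup_left : _ ≤ _ ⊔ Inn ↥T) ⟨⟨γ, hγ⟩, ?_, rfl⟩
    apply Subgroup.subset_closure
    show (orderOf (⟨γ, hγ⟩ : F.autGroup T)).Coprime p
    rw [← Subgroup.orderOf_coe]
    exact hγo
  have hN2 : ∀ t : T, MulAut.conj t ∈ N := by
    intro t
    rw [hN]
    exact (le_sup_right : Inn ↥T ≤ _) ⟨t, rfl⟩
  let X : Subgroup Ω :=
    { carrier := {x | ∃ α ∈ N, ∀ t : T, ((α t : T) : Ω) = x * (t : Ω) * x⁻¹}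
      one_mem' := ⟨1, N.one_mem, fun t => by simp⟩
      mul_mem' := by
        rintro x y ⟨α, hα, hαx⟩ ⟨β, hβ, hβy⟩
        refine ⟨α * β, N.mul_mem hα hβ, fun t => ?_⟩
        show ((α (β t) : T) : Ω) = _
        rw [hαx, hβy]
        group
      inv_mem' := by
        rintro x ⟨α, hα, hαx⟩
        refine ⟨α⁻¹, N.inv_mem hα, fun t => ?_⟩
        have h := hαx (α⁻¹ t)
        have h2 : α (α⁻¹ t) = t := by simp
        rw [h2] at h
        rw [h]
        group }
  -- the key step: automorphisms of order prime to `p`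
  have key : ∀ (P : Subgroup Ω), P ≤ S → ∀ α : F.autGroup P, (orderOf α).Coprime p →
      ∀ u : P, (u : Ω)⁻¹ * (((α : MulAut P) u : P) : Ω) ∈ X := by
    intro P hP α hαo u
    have hαo' : (orderOf (α : MulAut P)).Coprime p := by
      rw [Subgroup.orderOf_coe]
      exact hαo
    obtain ⟨β₀, hβ₀, hβ₀o, hβ₀α⟩ := exists_extMod_aut_coprime hS hF hT hP α.2 hαo'
    have hPTS : P ⊔ T ≤ S := sup_le hP hTS
    obtain ⟨β, hβ, hβo, hββ₀⟩ := exists_restrict_aut hT le_sup_right hPTS hβ₀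
    have hβcop : (orderOf β).Coprime p := Nat.Coprime.coprime_dvd_left hβo hβ₀o
    -- conjugation by `u` on `T`
    have huS : (u : Ω) ∈ S := hP u.2
    have hγiso : IsIso F T T (fun x => (u : Ω) * x * (u : Ω)⁻¹) :=
      stronglyClosed_isIso_self hT (IsIso.conj (F := F) le_rfl huS) hTS
    obtain ⟨γ, hγ, hγu⟩ := exists_mem_autGroup_of_isIso F hγiso
    -- notation
    obtain ⟨v, hv⟩ : ∃ v : ↥(P ⊔ T), v = β₀ (Subgroup.inclusion le_sup_left u) := ⟨_, rfl⟩
    have ht₀ : (((α : MulAut P) u : P) : Ω)⁻¹ * (v : Ω) ∈ T := by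
      rw [hv]
      exact hβ₀α u
    -- first piece: `u⁻¹ v`
    have h1 : (u : Ω)⁻¹ * (v : Ω) ∈ X := by
      refine ⟨γ⁻¹ * β * γ * β⁻¹, ?_, fun t => ?_⟩
      · have hc : γ⁻¹ * β * γ ∈ N := by
          apply hN1
          · exact Subgroup.mul_mem _ (Subgroup.mul_mem _ (Subgroup.inv_mem _ hγ) hβ) hγ
          · have : orderOf (γ⁻¹ * β * γ) = orderOf β := by
              have := orderOf_injective (MulAut.conj γ⁻¹).toMonoidHom
                (MulAut.conj γ⁻¹).injective β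
              rw [← this]
              simp [MulAut.conj_apply]
            rw [this]
            exact hβcop
        exact N.mul_mem hc (N.inv_mem (hN1 β hβ hβcop))
      · show (((γ⁻¹ (β (γ (β⁻¹ t)))) : T) : Ω) = _
        obtain ⟨s, hs⟩ : ∃ s : T, s = β⁻¹ t := ⟨_, rfl⟩
        rw [← hs]
        have hβs : β s = t := by rw [hs]; simp
        -- `β (γ s) = v * t * v⁻¹`
        have e1 : ((β (γ s) : T) : Ω) = (v : Ω) * (t : Ω) * (v : Ω)⁻¹ := by
          rw [hββ₀]
          have e2 : Subgroup.inclusion (le_sup_right : T ≤ P ⊔ T) (γ s) =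
              Subgroup.inclusion le_sup_left u * Subgroup.inclusion le_sup_right s *
                (Subgroup.inclusion le_sup_left u)⁻¹ := by
            apply Subtype.ext
            show ((γ s : T) : Ω) = (u : Ω) * (s : Ω) * (u : Ω)⁻¹
            exact hγu s
          rw [e2, map_mul, map_mul, map_inv, ← hv]
          have e3 : ((β₀ (Subgroup.inclusion le_sup_right s) : ↥(P ⊔ T)) : Ω) = (t : Ω) := by
            rw [← hββ₀, hβs]
          push_cast
          rw [e3]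
        -- `γ⁻¹ w = u⁻¹ w u`
        obtain ⟨w, hw⟩ : ∃ w : T, w = β (γ s) := ⟨_, rfl⟩
        rw [← hw] at e1 ⊢
        have e4 := hγu (γ⁻¹ w)
        have e5 : γ (γ⁻¹ w) = w := by simp
        rw [e5] at e4
        have e6 : ((γ⁻¹ w : T) : Ω) = (u : Ω)⁻¹ * (w : Ω) * (u : Ω) := by
          rw [e4]
          group
        rw [e6, e1]
        group
    -- second piece: an element of `T`
    have h2 : ((((α : MulAut P) u : P) : Ω)⁻¹ * (v : Ω))⁻¹ ∈ X := by
      apply X.inv_mem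
      refine ⟨MulAut.conj ⟨_, ht₀⟩, hN2 _, fun t => ?_⟩
      rfl
    have e : (u : Ω)⁻¹ * (((α : MulAut P) u : P) : Ω) =
        ((u : Ω)⁻¹ * (v : Ω)) * ((((α : MulAut P) u : P) : Ω)⁻¹ * (v : Ω))⁻¹ := by group
    rw [e]
    exact X.mul_mem h1 h2
  -- all of `O^p(Aut_F(P))`
  have key2 : ∀ (P : Subgroup Ω), P ≤ S → ∀ α : F.autGroup P, α ∈ pResidual p (F.autGroup P) →
      ∀ u : P, (u : Ω)⁻¹ * (((α : MulAut P) u : P) : Ω) ∈ X := by
    intro P hP α hα
    unfold pResidual at hα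
    induction hα using Subgroup.closure_induction with
    | mem a ha => exact key P hP a ha
    | one =>
      intro u
      have : (u : Ω)⁻¹ * ((((1 : F.autGroup P) : MulAut P) u : P) : Ω) = 1 := by simp
      rw [this]
      exact X.one_mem
    | mul a b _ _ iha ihb =>
      intro u
      have := X.mul_mem (ihb u) (iha ((b : MulAut P) u))
      have e : (u : Ω)⁻¹ * ((((a * b : F.autGroup P) : MulAut P) u : P) : Ω) =
          ((u : Ω)⁻¹ * (((b : MulAut P) u : P) : Ω)) *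
            ((((b : MulAut P) u : P) : Ω)⁻¹ *
              (((a : MulAut P) ((b : MulAut P) u) : P) : Ω)) := by
        show (u : Ω)⁻¹ * (((a : MulAut P) ((b : MulAut P) u) : P) : Ω) = _
        group
      rw [e]
      exact this
    | inv a _ iha =>
      intro u
      have := X.inv_mem (iha ((a : MulAut P)⁻¹ u))
      have e1 : (a : MulAut P) ((a : MulAut P)⁻¹ u) = u := by simp
      rw [e1] at this
      have e : (u : Ω)⁻¹ * ((((a⁻¹ : F.autGroup P) : MulAut P) u : P) : Ω) =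
          ((((a : MulAut P)⁻¹ u : P) : Ω)⁻¹ * (u : Ω))⁻¹ := by
        show (u : Ω)⁻¹ * ((((a : MulAut P)⁻¹) u : P) : Ω) = _
        group
      rw [e]
      exact this
  have hle : F.hyperfocalSubgroup p ≤ X := by
    unfold hyperfocalSubgroup
    rw [Subgroup.closure_le]
    rintro _ ⟨P, α, u, hP, hα, rfl⟩
    exact key2 P hP α hα u
  intro x hx
  exact hle hx

end Cfsg.Agent.Lib.H26
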