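import Mathlib
import Cfsg.Prelude.Def_FusionSystem
import Cfsg.Prelude.Def_FusionComponents
import Cfsg.Agent.Lib.H25.Hyperfocal
import Cfsg.Agent.Lib.H26.FactorAut
import Cfsg.Agent.Lib.H26.HyperfocalAction

set_option autoImplicit false
set_option linter.unusedSectionVars false

/-!
The hyperfocal subgroup of a factor system: `hyp(F/T) = hyp(F)T/T` (helper26).
-/

namespace Cfsg.Agent.Lib.H26

open Cfsg Cfsg.FusionSystem Cfsg.Agent.Lib.H25

/-- An element of a finite group whose image has order prime to `p` can be replaced by an element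
of order prime to `p` with the same image. -/
theorem exists_coprime_preimage {A B : Type*} [Group A] [Group B] [Finite A] (p : ℕ)
    [Fact p.Prime] (f : A →* B) (a : A) (h : (orderOf (f a)).Coprime p) :
    ∃ a' : A, (orderOf a').Coprime p ∧ f a' = f a := by
  have hfin : orderOf a ≠ 0 := (orderOf_pos a).ne'
  obtain ⟨k, o', ho', ho⟩ := Nat.exists_eq_pow_mul_and_not_dvd hfin p (Fact.out : p.Prime).one_lt.ne'
  have hcop' : (p ^ k).Coprime (orderOf (f a)) := (Nat.Coprime.pow_right k h).symm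
  obtain ⟨m, hm⟩ := exists_pow_eq_self_of_coprime hcop'
  refine ⟨a ^ (p ^ k * m), ?_, ?_⟩
  · have h1 : (a ^ (p ^ k * m)) ^ o' = 1 := by
      rw [← pow_mul, mul_right_comm, ← ho, pow_mul, pow_orderOf_eq_one, one_pow]
    have h2 : orderOf (a ^ (p ^ k * m)) ∣ o' := orderOf_dvd_of_pow_eq_one h1
    have h3 : o'.Coprime p :=
      ((Nat.Prime.coprime_iff_not_dvd (Fact.out : p.Prime)).2 ho').symm
    exact Nat.Coprime.coprime_dvd_left h2 h3
  · rw [map_pow, pow_mul, hm]

variable {Ω : Type*} [Group Ω] {S : Subgroup Ω} {Ω' : Type*} [Group Ω'] {S' : Subgroup Ω'}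

/-- Version of `exists_extMod_aut_coprime` with the source of the extension given up to equality. -/
theorem exists_extMod_aut_coprime' [Finite S] {p : ℕ} [Fact p.Prime] (hS : IsPGroup p S)
    {F : FusionSystem S} (hF : F.IsSaturated p) {T : Subgroup Ω} (hT : F.StronglyClosed T)
    {P : Subgroup Ω} (hP : P ≤ S) {α : MulAut P} (hα : α ∈ F.autGroup P)
    (hcop : (orderOf α).Coprime p) {R : Subgroup Ω} (hR : R = P ⊔ T) :
    ∃ β ∈ F.autGroup R, (orderOf β).Coprime p ∧
      ∀ a : P, ∃ h : (a : Ω) ∈ R, ((α a : P) : Ω)⁻¹ * ((β ⟨a, h⟩ : R) : Ω) ∈ T := by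
  subst hR
  obtain ⟨β, hβ, hβo, hβα⟩ := exists_extMod_aut_coprime hS hF hT hP hα hcop
  exact ⟨β, hβ, hβo, fun a => ⟨(le_sup_left : P ≤ P ⊔ T) a.2, hβα a⟩⟩

theorem hyperfocal_factor [Finite S] {p : ℕ} [Fact p.Prime] (hS : IsPGroup p S)
    {F : FusionSystem S} (hF : F.IsSaturated p) {T : Subgroup Ω} (hT : F.StronglyClosed T)
    (θ : S →* Ω') {E : FusionSystem S'} (hE : F.IsFactorSystem T θ E) :
    E.hyperfocalSubgroup p = ((F.hyperfocalSubgroup p).subgroupOf S).map θ := by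
  have hTS := hE.1
  have hker := hE.2.1
  have hrange := hE.2.2.1
  apply le_antisymm
  · -- `hyp(F/T) ≤ θ(hyp(F))`
    obtain ⟨Z, hZ⟩ : ∃ Z : Subgroup Ω', Z = ((F.hyperfocalSubgroup p).subgroupOf S).map θ :=
      ⟨_, rfl⟩
    rw [← hZ]
    unfold hyperfocalSubgroup
    rw [Subgroup.closure_le]
    rintro _ ⟨P', α', y, hP'S', hα', rfl⟩
    have hP' : P' ≤ θ.range := hrange ▸ hP'S'
    have hPS := preimageAlong_le θ P'
    have hfinP : Finite ↥(preimageAlong θ P') := finite_of_le S hPS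
    have hfinA : Finite ↥(F.autGroup (preimageAlong θ P')) := inferInstance
    revert y
    unfold pResidual at hα'
    induction hα' using Subgroup.closure_induction with
    | mem a' ha' =>
      intro y
      obtain ⟨β, hβ⟩ := autMap_surj θ hT hE hP' a'.2
      have hcop : (orderOf (autMap θ hT hker hP' β)).Coprime p := by
        rw [hβ, Subgroup.orderOf_coe]
        exact ha'
      obtain ⟨β₁, hβ₁o, hβ₁⟩ := exists_coprime_preimage p (autMap θ hT hker hP') β hcop
      obtain ⟨x, rfl⟩ := thetaP_surjective θ hP' y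
      have h1 : ((a' : MulAut P') (thetaP θ P' x)) = thetaP θ P' ((β₁ : MulAut _) x) := by
        rw [← hβ, ← hβ₁, autMap_apply]
      rw [h1]
      have hgen := mem_hyperfocal_gen F p hPS β₁ (Subgroup.subset_closure hβ₁o) x
      rw [hZ]
      refine ⟨⟨(x : Ω)⁻¹ * (((β₁ : MulAut _) x : ↥(preimageAlong θ P')) : Ω),
        S.mul_mem (S.inv_mem (hPS x.2)) (hPS (_ : ↥(preimageAlong θ P')).2)⟩,
        Subgroup.mem_subgroupOf.2 hgen, ?_⟩
      rw [thetaP_apply, thetaP_apply, ← map_inv, ← map_mul]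
      rfl
    | one =>
      intro y
      have : (y : Ω')⁻¹ * ((((1 : E.autGroup P') : MulAut P') y : P') : Ω') = 1 := by simp
      rw [this]
      exact Z.one_mem
    | mul a b _ _ iha ihb =>
      intro y
      have := Z.mul_mem (ihb y) (iha ((b : MulAut P') y))
      have e : (y : Ω')⁻¹ * ((((a * b : E.autGroup P') : MulAut P') y : P') : Ω') =
          ((y : Ω')⁻¹ * (((b : MulAut P') y : P') : Ω')) *
            ((((b : MulAut P') y : P') : Ω')⁻¹ *
              (((a : MulAut P') ((b : MulAut P') y) : P') : Ω')) := by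
        show (y : Ω')⁻¹ * (((a : MulAut P') ((b : MulAut P') y) : P') : Ω') = _
        group
      rw [e]
      exact this
    | inv a _ iha =>
      intro y
      have := Z.inv_mem (iha ((a : MulAut P')⁻¹ y))
      have e1 : (a : MulAut P') ((a : MulAut P')⁻¹ y) = y := by simp
      rw [e1] at this
      have e : (y : Ω')⁻¹ * ((((a⁻¹ : E.autGroup P') : MulAut P') y : P') : Ω') =
          ((((a : MulAut P')⁻¹ y : P') : Ω')⁻¹ * (y : Ω'))⁻¹ := by
        show (y : Ω')⁻¹ * ((((a : MulAut P')⁻¹) y : P') : Ω') = _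
        group
      rw [e]
      exact this
  · -- `θ(hyp(F)) ≤ hyp(F/T)`
    have key : F.hyperfocalSubgroup p ≤ preimageAlong θ (E.hyperfocalSubgroup p) := by
      obtain ⟨Y, hY⟩ : ∃ Y : Subgroup Ω, Y = preimageAlong θ (E.hyperfocalSubgroup p) := ⟨_, rfl⟩
      rw [← hY]
      have hYmem : ∀ x : Ω, x ∈ Y ↔ ∃ hxS : x ∈ S, θ ⟨x, hxS⟩ ∈ E.hyperfocalSubgroup p := by
        intro x
        rw [hY]
        exact mem_preimageAlong_iff θ _ x
      unfold hyperfocalSubgroup
      rw [Subgroup.closure_le]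
      rintro _ ⟨P₀, α, u, hP₀, hα, rfl⟩
      revert u
      unfold pResidual at hα
      induction hα using Subgroup.closure_induction with
      | mem a ha =>
        intro u
        have hao : (orderOf (a : MulAut P₀)).Coprime p := by
          rw [Subgroup.orderOf_coe]
          exact ha
        have hR : preimageAlong θ (imageAlong θ (P₀ ⊔ T)) = P₀ ⊔ T :=
          (preimageAlong_imageAlong θ hker hTS (sup_le hP₀ hTS)).trans
            (by rw [sup_assoc, sup_idem])
        obtain ⟨β₀, hβ₀, hβ₀o, hβ₀α⟩ := exists_extMod_aut_coprime' hS hF hT hP₀ a.2 hao hR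
        obtain ⟨hu, ht₀⟩ := hβ₀α u
        have hP' : imageAlong θ (P₀ ⊔ T) ≤ θ.range := Subgroup.map_le_range _ _
        have hP'S' : imageAlong θ (P₀ ⊔ T) ≤ S' := hrange ▸ hP'
        have hβ'mem := autMap_mem θ hT hE hP' ⟨β₀, hβ₀⟩
        have hβ'o : (orderOf (⟨autMap θ hT hker hP' ⟨β₀, hβ₀⟩, hβ'mem⟩ :
            E.autGroup (imageAlong θ (P₀ ⊔ T)))).Coprime p := by
          rw [← Subgroup.orderOf_coe]
          have h1 : orderOf (autMap θ hT hker hP' ⟨β₀, hβ₀⟩) ∣
              orderOf (⟨β₀, hβ₀⟩ : F.autGroup (preimageAlong θ (imageAlong θ (P₀ ⊔ T)))) :=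
            orderOf_map_dvd _ _
          rw [← Subgroup.orderOf_coe] at h1
          exact Nat.Coprime.coprime_dvd_left h1 hβ₀o
        have hgen := mem_hyperfocal_gen E p hP'S' _ (Subgroup.subset_closure hβ'o)
          (thetaP θ _ ⟨u, hu⟩)
        have hgen' : ((thetaP θ _ ⟨(u : Ω), hu⟩ : ↥(imageAlong θ (P₀ ⊔ T))) : Ω')⁻¹ *
            ((autMap θ hT hker hP' ⟨β₀, hβ₀⟩ (thetaP θ _ ⟨(u : Ω), hu⟩) :
              ↥(imageAlong θ (P₀ ⊔ T))) : Ω') ∈ E.hyperfocalSubgroup p := hgen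
        rw [autMap_apply, thetaP_apply, thetaP_apply, ← map_inv, ← map_mul] at hgen'
        have huS : (u : Ω) ∈ S := hP₀ u.2
        have hauS : (((a : MulAut P₀) u : P₀) : Ω) ∈ S := hP₀ (_ : P₀).2
        refine (hYmem _).2 ⟨S.mul_mem (S.inv_mem huS) hauS, ?_⟩
        have hβuS : ((β₀ ⟨(u : Ω), hu⟩ : ↥(preimageAlong θ (imageAlong θ (P₀ ⊔ T)))) : Ω) ∈ S :=
          preimageAlong_le θ _ (_ : ↥(preimageAlong θ (imageAlong θ (P₀ ⊔ T)))).2
        have e : (⟨(u : Ω)⁻¹ * (((a : MulAut P₀) u : P₀) : Ω), S.mul_mem (S.inv_mem huS) hauS⟩ : S) =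
            (⟨(u : Ω), huS⟩⁻¹ * ⟨_, hβuS⟩) *
              (⟨(((a : MulAut P₀) u : P₀) : Ω)⁻¹ *
                ((β₀ ⟨(u : Ω), hu⟩ : ↥(preimageAlong θ (imageAlong θ (P₀ ⊔ T)))) : Ω),
                S.mul_mem (S.inv_mem hauS) hβuS⟩ : S)⁻¹ := by
          apply Subtype.ext
          show (u : Ω)⁻¹ * (((a : MulAut P₀) u : P₀) : Ω) = _
          push_cast
          group
        have hθ1 : θ (⟨(((a : MulAut P₀) u : P₀) : Ω)⁻¹ *
            ((β₀ ⟨(u : Ω), hu⟩ : ↥(preimageAlong θ (imageAlong θ (P₀ ⊔ T)))) : Ω),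
            S.mul_mem (S.inv_mem hauS) hβuS⟩ : S) = 1 := (hker _).2 ht₀
        rw [e, map_mul θ, map_inv θ (⟨_, S.mul_mem (S.inv_mem hauS) hβuS⟩ : S), hθ1, inv_one,
          mul_one]
        exact hgen'
      | one =>
        intro u
        have : (u : Ω)⁻¹ * ((((1 : F.autGroup P₀) : MulAut P₀) u : P₀) : Ω) = 1 := by simp
        rw [this]
        exact Y.one_mem
      | mul a b _ _ iha ihb =>
        intro u
        have := Y.mul_mem (ihb u) (iha ((b : MulAut P₀) u))
        have e : (u : Ω)⁻¹ * ((((a * b : F.autGroup P₀) : MulAut P₀) u : P₀) : Ω) =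
            ((u : Ω)⁻¹ * (((b : MulAut P₀) u : P₀) : Ω)) *
              ((((b : MulAut P₀) u : P₀) : Ω)⁻¹ *
                (((a : MulAut P₀) ((b : MulAut P₀) u) : P₀) : Ω)) := by
          show (u : Ω)⁻¹ * (((a : MulAut P₀) ((b : MulAut P₀) u) : P₀) : Ω) = _
          group
        rw [e]
        exact this
      | inv a _ iha =>
        intro u
        have := Y.inv_mem (iha ((a : MulAut P₀)⁻¹ u))
        have e1 : (a : MulAut P₀) ((a : MulAut P₀)⁻¹ u) = u := by simp
        rw [e1] at this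
        have e : (u : Ω)⁻¹ * ((((a⁻¹ : F.autGroup P₀) : MulAut P₀) u : P₀) : Ω) =
            ((((a : MulAut P₀)⁻¹ u : P₀) : Ω)⁻¹ * (u : Ω))⁻¹ := by
          show (u : Ω)⁻¹ * ((((a : MulAut P₀)⁻¹) u : P₀) : Ω) = _
          group
        rw [e]
        exact this
    rw [Subgroup.map_le_iff_le_comap]
    intro s hs
    rw [Subgroup.mem_subgroupOf] at hs
    obtain ⟨hsS, hs'⟩ := (mem_preimageAlong_iff θ _ _).1 (key hs)
    exact hs'

end Cfsg.Agent.Lib.H26
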