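import Mathlib

set_option autoImplicit false

/-!
Generic lemmas on a subgroup `H` of prime index `p` in a subgroup `K` normalizing it, everything
inside an ambient group (helper26).
-/

namespace Cfsg.Agent.Lib.H26.IndexPrime

variable {G : Type*} [Group G] {p : ℕ} [Fact p.Prime] {H K : Subgroup G}

theorem normal_subgroupOf (hn : K ≤ Subgroup.normalizer (H : Set G)) :
    (H.subgroupOf K).Normal := by
  refine ⟨fun n hn' g => ?_⟩
  rw [Subgroup.mem_subgroupOf] at hn' ⊢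
  exact (Subgroup.mem_normalizer_iff.1 (hn g.2) _).1 hn'

theorem conj_mem (hn : K ≤ Subgroup.normalizer (H : Set G)) {k h : G} (hk : k ∈ K) (hh : h ∈ H) :
    k * h * k⁻¹ ∈ H := (Subgroup.mem_normalizer_iff.1 (hn hk) _).1 hh

theorem card_quotient (hn : K ≤ Subgroup.normalizer (H : Set G))
    (hidx : (H.subgroupOf K).index = p) :
    haveI := normal_subgroupOf hn
    Nat.card (↥K ⧸ H.subgroupOf K) = p := by
  rw [← Subgroup.index_eq_card, hidx]

/-- Every element of `K` is congruent to a power of `x` modulo `H`. -/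
theorem exists_pow_inv_mul_mem (hn : K ≤ Subgroup.normalizer (H : Set G))
    (hidx : (H.subgroupOf K).index = p) {x : G} (hxK : x ∈ K) (hxH : x ∉ H) {k : G} (hk : k ∈ K) :
    ∃ j : ℕ, (x ^ j)⁻¹ * k ∈ H := by
  haveI := normal_subgroupOf hn
  have hcardq := card_quotient hn hidx
  have hx1 : ((⟨x, hxK⟩ : K) : ↥K ⧸ H.subgroupOf K) ≠ 1 := by
    intro hh
    rw [QuotientGroup.eq_one_iff, Subgroup.mem_subgroupOf] at hh
    exact hxH hh
  have htop := zpowers_eq_top_of_prime_card hcardq hx1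
  have hmem : ((⟨k, hk⟩ : K) : ↥K ⧸ H.subgroupOf K) ∈
      Subgroup.zpowers ((⟨x, hxK⟩ : K) : ↥K ⧸ H.subgroupOf K) := by
    rw [htop]; exact Subgroup.mem_top _
  haveI : Finite (↥K ⧸ H.subgroupOf K) := Nat.finite_of_card_ne_zero (by
    rw [hcardq]; exact (Fact.out : p.Prime).ne_zero)
  rw [← mem_powers_iff_mem_zpowers] at hmem
  obtain ⟨j, hj⟩ := hmem
  have hj' : ((⟨x, hxK⟩ ^ j : K) : ↥K ⧸ H.subgroupOf K) =
      ((⟨k, hk⟩ : K) : ↥K ⧸ H.subgroupOf K) := by
    rw [QuotientGroup.mk_pow]; exact hj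
  rw [QuotientGroup.eq] at hj'
  rw [Subgroup.mem_subgroupOf] at hj'
  refine ⟨j, ?_⟩
  simpa using hj'

/-- `K = H ⟨x⟩`. -/
theorem decomp (hn : K ≤ Subgroup.normalizer (H : Set G))
    (hidx : (H.subgroupOf K).index = p) {x : G} (hxK : x ∈ K) (hxH : x ∉ H) {k : G} (hk : k ∈ K) :
    ∃ h ∈ H, ∃ j : ℕ, k = h * x ^ j := by
  obtain ⟨j, hj⟩ := exists_pow_inv_mul_mem hn hidx hxK hxH hk
  refine ⟨x ^ j * ((x ^ j)⁻¹ * k) * (x ^ j)⁻¹, conj_mem hn (K.pow_mem hxK j) hj, j, ?_⟩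
  group

/-- `p`-th powers of elements of `K` lie in `H`. -/
theorem pow_mem (hn : K ≤ Subgroup.normalizer (H : Set G))
    (hidx : (H.subgroupOf K).index = p) {x : G} (hxK : x ∈ K) : x ^ p ∈ H := by
  haveI := normal_subgroupOf hn
  have hcardq := card_quotient hn hidx
  have h1 : ((⟨x, hxK⟩ : K) : ↥K ⧸ H.subgroupOf K) ^ p = 1 := by
    rw [← hcardq]
    exact pow_card_eq_one'
  rw [← QuotientGroup.mk_pow, QuotientGroup.eq_one_iff, Subgroup.mem_subgroupOf] at h1
  simpa using h1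

/-- Commutators of elements of `K` lie in `H`. -/
theorem comm_mem (hn : K ≤ Subgroup.normalizer (H : Set G))
    (hidx : (H.subgroupOf K).index = p) {a b : G} (ha : a ∈ K) (hb : b ∈ K) :
    a * b * a⁻¹ * b⁻¹ ∈ H := by
  haveI := normal_subgroupOf hn
  have hcardq := card_quotient hn hidx
  haveI : IsCyclic (↥K ⧸ H.subgroupOf K) := isCyclic_of_prime_card hcardq
  have hcomm : ∀ u v : ↥K ⧸ H.subgroupOf K, u * v = v * u := fun u v =>
    (IsCyclic.commGroup (α := ↥K ⧸ H.subgroupOf K)).mul_comm u v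
  have h1 : ((⟨a, ha⟩ * ⟨b, hb⟩ * ⟨a, ha⟩⁻¹ * ⟨b, hb⟩⁻¹ : K) : ↥K ⧸ H.subgroupOf K) = 1 := by
    rw [QuotientGroup.mk_mul, QuotientGroup.mk_mul, QuotientGroup.mk_mul, QuotientGroup.mk_inv,
      QuotientGroup.mk_inv, hcomm (⟨a, ha⟩ : K) (⟨b, hb⟩ : K)]
    group
  rw [QuotientGroup.eq_one_iff, Subgroup.mem_subgroupOf] at h1
  exact h1

/-- Converse: `K = H⟨x⟩` with `x ∉ H`, `x ^ p ∈ H` gives index `p`. -/
theorem index_eq_of_decomp (hn : K ≤ Subgroup.normalizer (H : Set G)) {x : G} (hxK : x ∈ K)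
    (hxH : x ∉ H) (hxp : x ^ p ∈ H) (hdec : ∀ k ∈ K, ∃ j : ℤ, (x ^ j)⁻¹ * k ∈ H) :
    (H.subgroupOf K).index = p := by
  haveI := normal_subgroupOf hn
  rw [Subgroup.index_eq_card]
  set xb : ↥K ⧸ H.subgroupOf K := ((⟨x, hxK⟩ : K) : ↥K ⧸ H.subgroupOf K) with hxb
  have hx1 : xb ≠ 1 := by
    intro hh
    rw [hxb, QuotientGroup.eq_one_iff, Subgroup.mem_subgroupOf] at hh
    exact hxH hh
  have hxbp : xb ^ p = 1 := by
    rw [hxb, ← QuotientGroup.mk_pow, QuotientGroup.eq_one_iff, Subgroup.mem_subgroupOf]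
    simpa using hxp
  have hord : orderOf xb = p := orderOf_eq_prime hxbp hx1
  have hall : ∀ y : ↥K ⧸ H.subgroupOf K, y ∈ Subgroup.zpowers xb := by
    intro y
    obtain ⟨⟨k, hk⟩, rfl⟩ := QuotientGroup.mk_surjective y
    obtain ⟨j, hj⟩ := hdec k hk
    refine ⟨j, ?_⟩
    show xb ^ j = _
    rw [hxb, ← QuotientGroup.mk_zpow, QuotientGroup.eq, Subgroup.mem_subgroupOf]
    simpa using hj
  rw [← hord]
  exact (orderOf_eq_card_of_forall_mem_zpowers hall).symm

/-- In a finite `p`-group, a subgroup of index `p` is normal. -/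
theorem le_normalizer_of_isPGroup [Finite K] (hK : IsPGroup p K) (hHK : H ≤ K)
    (hidx : (H.subgroupOf K).index = p) : K ≤ Subgroup.normalizer (H : Set G) := by
  have hpp : p.Prime := Fact.out
  obtain ⟨n, hn⟩ := (IsPGroup.iff_card (p := p) (G := K)).1 hK
  have hn0 : n ≠ 0 := by
    rintro rfl
    rw [pow_zero] at hn
    have := (H.subgroupOf K).index_dvd_card
    rw [hidx, hn, Nat.dvd_one] at this
    exact hpp.one_lt.ne' this
  have hmin : (Nat.card K).minFac = p := by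
    rw [hn]
    exact hpp.pow_minFac hn0
  haveI : (H.subgroupOf K).Normal :=
    Subgroup.normal_of_index_eq_minFac_card (by rw [hidx, hmin])
  intro k hk
  rw [Subgroup.mem_normalizer_iff]
  intro h
  constructor
  · intro hh
    have h1 : (⟨h, hHK hh⟩ : K) ∈ H.subgroupOf K := Subgroup.mem_subgroupOf.2 hh
    have h2 := Subgroup.Normal.conj_mem (inferInstance : (H.subgroupOf K).Normal) _ h1 ⟨k, hk⟩
    exact Subgroup.mem_subgroupOf.1 h2
  · intro hh
    have hhK : h ∈ K := by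
      have h3 : k * h * k⁻¹ ∈ K := hHK hh
      have : h = k⁻¹ * (k * h * k⁻¹) * k := by group
      rw [this]
      exact K.mul_mem (K.mul_mem (K.inv_mem hk) h3) hk
    have h1 : (⟨k * h * k⁻¹, hHK hh⟩ : K) ∈ H.subgroupOf K := Subgroup.mem_subgroupOf.2 hh
    have h2 := Subgroup.Normal.conj_mem (inferInstance : (H.subgroupOf K).Normal) _ h1 ⟨k, hk⟩⁻¹
    have h3 := Subgroup.mem_subgroupOf.1 h2
    have e : ((⟨k, hk⟩⁻¹ * ⟨k * h * k⁻¹, hHK hh⟩ * (⟨k, hk⟩⁻¹)⁻¹ : K) : G) = h := by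
      show k⁻¹ * (k * h * k⁻¹) * (k⁻¹)⁻¹ = h
      group
    rwa [e] at h3

/-- Cardinality: `|K| = p |H|`. -/
theorem card_eq [Finite K] (hHK : H ≤ K) (hidx : (H.subgroupOf K).index = p) :
    Nat.card K = p * Nat.card H := by
  have h1 := (H.subgroupOf K).index_mul_card
  have h2 : Nat.card (H.subgroupOf K) = Nat.card H :=
    Nat.card_congr (Subgroup.subgroupOfEquivOfLe hHK).toEquiv
  rw [h2, hidx] at h1
  exact h1.symm

/-- From cardinalities to the index. -/
theorem index_of_card [Finite K] (hHK : H ≤ K) (hcard : Nat.card K = p * Nat.card H) :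
    (H.subgroupOf K).index = p := by
  have h1 := (H.subgroupOf K).index_mul_card
  have h2 : Nat.card (H.subgroupOf K) = Nat.card H :=
    Nat.card_congr (Subgroup.subgroupOfEquivOfLe hHK).toEquiv
  haveI : Finite H := Finite.of_injective _ (Subgroup.inclusion_injective hHK)
  rw [h2, hcard] at h1
  have hpos : 0 < Nat.card H := Nat.card_pos
  exact Nat.eq_of_mul_eq_mul_right hpos h1

/-- Two distinct subgroups of index `p`, one of them normal: their intersection has index `p` in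
the other one. -/
theorem relIndex_inf_of_index_prime {B₀ B₁ : Subgroup G} [B₁.Normal] (h0 : B₀.index = p)
    (h1 : B₁.index = p) (hne : B₀ ≠ B₁) : (B₀ ⊓ B₁).relIndex B₀ = p := by
  have hpp : p.Prime := Fact.out
  have hsup : B₀ ⊔ B₁ = ⊤ := by
    have hd : (B₀ ⊔ B₁).index ∣ p := by
      rw [← h0]
      exact Subgroup.index_dvd_of_le le_sup_left
    rcases (Nat.dvd_prime hpp).1 hd with h2 | h2
    · exact Subgroup.index_eq_one.1 h2
    · exfalso
      apply hne
      have e0 := Subgroup.relIndex_mul_index (le_sup_left : B₀ ≤ B₀ ⊔ B₁)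
      have e1 := Subgroup.relIndex_mul_index (le_sup_right : B₁ ≤ B₀ ⊔ B₁)
      rw [h2, h0] at e0
      rw [h2, h1] at e1
      have r0 : B₀.relIndex (B₀ ⊔ B₁) = 1 := by
        have : B₀.relIndex (B₀ ⊔ B₁) * p = 1 * p := by rw [e0, one_mul]
        exact Nat.eq_of_mul_eq_mul_right hpp.pos this
      have r1 : B₁.relIndex (B₀ ⊔ B₁) = 1 := by
        have : B₁.relIndex (B₀ ⊔ B₁) * p = 1 * p := by rw [e1, one_mul]
        exact Nat.eq_of_mul_eq_mul_right hpp.pos this
      have l0 : B₀ ⊔ B₁ ≤ B₀ := Subgroup.relIndex_eq_one.1 r0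
      have l1 : B₀ ⊔ B₁ ≤ B₁ := Subgroup.relIndex_eq_one.1 r1
      exact le_antisymm (le_sup_left.trans l1) (le_sup_right.trans l0)
  rw [inf_comm, Subgroup.inf_relIndex_right, ← Subgroup.relIndex_sup_right (H := B₀) (K := B₁), hsup,
    Subgroup.relIndex_top_right, h1]

end Cfsg.Agent.Lib.H26.IndexPrime
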