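import Mathlib
import Cfsg.Prelude.Def_FusionSystem
import Cfsg.Agent.Lib.H25.Fusion
import Cfsg.Agent.Lib.H25.Saturation
import Cfsg.Agent.Lib.H25.Alperin
import Cfsg.Agent.Lib.H25.SatEquiv

set_option autoImplicit false
set_option linter.unusedSectionVars false

/-!
A subsystem `F'` of a saturated system `F` over the same `S` whose automorphism groups are normal
in those of `F` and with `Aut_{F'}(S) = Aut_F(S)` is all of `F` (Frattini argument; helper26).
-/

namespace Cfsg.Agent.Lib.H26

open Cfsg Cfsg.FusionSystem Cfsg.Agent.Lib.H25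

variable {Ω : Type*} [Group Ω] {S : Subgroup Ω}

/-- The key step: for a fully automized receptive `R < S`, if all maps of `F` on strictly larger
subgroups lie in `F'`, and `Aut_{F'}(R) ⊴ Aut_F(R)`, then `Aut_F(R) ≤ Aut_{F'}(R)`. -/
theorem autGroup_le_of_frattini [Finite S] {p : ℕ} [Fact p.Prime] (hS : IsPGroup p S)
    {F F' : FusionSystem S} (hle : F' ≤ F) {R : Subgroup Ω} (hfa : F.IsFullyAutomized p R)
    (hrec : F.IsReceptive R) (hRne : R ≠ S)
    (hN : ∀ β ∈ F.autGroup R, ∀ γ ∈ F'.autGroup R, β * γ * β⁻¹ ∈ F'.autGroup R)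
    (IH : ∀ Q : Subgroup Ω, R < Q → F.Hom Q ⊆ F'.Hom Q) :
    F.autGroup R ≤ F'.autGroup R := by
  have hRS : R ≤ S := hrec.1
  have hfinR : Finite R := finite_of_le S hRS
  have hA'A : F'.autGroup R ≤ F.autGroup R := by
    intro α hα
    rw [mem_autGroup_iff F' hRS] at hα
    rw [mem_autGroup_iff F hRS]
    exact hle R hα
  obtain ⟨-, Psyl, hPsyl⟩ := hfa
  have hNnormal : ((F'.autGroup R).subgroupOf (F.autGroup R)).Normal := by
    constructor
    intro c hc a
    rw [Subgroup.mem_subgroupOf] at hc ⊢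
    exact hN a a.2 c hc
  have hPN : (Psyl : Subgroup (F.autGroup R)) ≤ (F'.autGroup R).subgroupOf (F.autGroup R) := by
    rw [hPsyl]
    intro a ha
    rw [Subgroup.mem_subgroupOf] at ha ⊢
    exact autInducedBy_le_autGroup F' hRS ha
  have hfrat := Sylow.normalizer_sup_eq_top' Psyl hPN
  obtain ⟨g, hgN, hgR⟩ := exists_mem_normalizerIn_not_mem hS hRS hRne
  -- the automorphism of `R` induced by `g`
  obtain ⟨γg, hγgA, hγg⟩ := exists_mem_autGroup_of_isIso F (isIso_conj_normalizer F hRS hgN)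
  have hγgS : γg ∈ autInducedBy S R := (mem_autInducedBy_iff S R γg).2 ⟨g, hgN.1, hγg⟩
  intro α hα
  have hmem : (⟨α, hα⟩ : F.autGroup R) ∈ (⊤ : Subgroup (F.autGroup R)) := trivial
  rw [← hfrat] at hmem
  obtain ⟨b, hb, c, hc, hbc⟩ := Subgroup.mem_sup_of_normal_right.1 hmem
  rw [Subgroup.mem_subgroupOf] at hc
  -- `b` extends to a larger subgroup
  have hbF' : (b : MulAut R) ∈ F'.autGroup R := by
    have h1 : (⟨γg, hγgA⟩ : F.autGroup R) ∈ (Psyl : Subgroup (F.autGroup R)) := by
      rw [hPsyl]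
      exact Subgroup.mem_subgroupOf.2 hγgS
    have h2 := (Subgroup.mem_normalizer_iff.1 hb _).1 h1
    rw [hPsyl, Subgroup.mem_subgroupOf] at h2
    obtain ⟨h, hh, hconj⟩ := (mem_autInducedBy_iff S R _).1 h2
    have hgext : g ∈ extender S R (R.subtype.comp (b : MulAut R).toMonoidHom) := by
      rw [mem_extender_iff]
      refine ⟨hgN.1, hgN.2, h, hh, fun x hx => ?_⟩
      have h3 := hconj ((b : MulAut R) x)
      have h4 : (((b * ⟨γg, hγgA⟩ * b⁻¹ : F.autGroup R) : MulAut R) ((b : MulAut R) x)) =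
          (b : MulAut R) (γg x) := by
        show (b : MulAut R) (γg ((b : MulAut R)⁻¹ ((b : MulAut R) x))) = _
        simp
      rw [h4] at h3
      show (((b : MulAut R) ⟨g * x * g⁻¹, hx⟩ : R) : Ω) = h * (((b : MulAut R) x : R) : Ω) * h⁻¹
      rw [← h3]
      congr 2
      exact Subtype.ext (hγg x).symm
    have hext := mem_extGens_of_extender hrec b.2 hgext hgR
    obtain ⟨Q, hlt, φ, hφ, hφb⟩ := hext
    exact extGens_subset_autGroup F' R ⟨Q, hlt, φ, IH Q hlt hφ, hφb⟩
  have : α = (b : MulAut R) * (c : MulAut R) := by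
    have := congrArg Subtype.val hbc
    exact this.symm
  rw [this]
  exact Subgroup.mul_mem _ hbF' hc

/-- Frattini-type criterion for `F' = F`. -/
theorem hom_subset_of_frattini [Finite S] {p : ℕ} [Fact p.Prime] (hS : IsPGroup p S)
    {F F' : FusionSystem S} (hF : F.IsSaturated p) (hle : F' ≤ F)
    (hN : ∀ R : Subgroup Ω, R ≤ S → ∀ β ∈ F.autGroup R, ∀ γ ∈ F'.autGroup R,
      β * γ * β⁻¹ ∈ F'.autGroup R)
    (htop : F.autGroup S ≤ F'.autGroup S) : ∀ P : Subgroup Ω, F.Hom P ⊆ F'.Hom P := by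
  have key : ∀ n : ℕ, ∀ P : Subgroup Ω, P ≤ S → Nat.card S - Nat.card P = n →
      F.Hom P ⊆ F'.Hom P := by
    intro n
    induction n using Nat.strong_induction_on with
    | _ n ih =>
      intro P hPS hn
      have IH : ∀ Q' : Subgroup Ω, Q' ≤ S → Nat.card P < Nat.card Q' → F.Hom Q' ⊆ F'.Hom Q' := by
        intro Q' hQ'S hlt
        have hle' : Nat.card Q' ≤ Nat.card S := Subgroup.card_le_of_le hQ'S
        exact ih (Nat.card S - Nat.card Q') (by omega) Q' hQ'S rfl
      have IH' : ∀ (Q' Q'' : Subgroup Ω) (k : Ω → Ω), Nat.card P < Nat.card Q' →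
          IsIso F Q' Q'' k → IsIso F' Q' Q'' k := by
        intro Q' Q'' k hlt hk
        obtain ⟨ψ, hψ, hψk, hr⟩ := hk
        exact ⟨ψ, IH Q' (hom_le F hψ) hlt hψ, hψk, hr⟩
      suffices hsuff : ∀ (Q : Subgroup Ω) (f : Ω → Ω), IsIso F P Q f → IsIso F' P Q f by
        intro φ hφ
        exact mem_hom_of_isIso F' (hsuff _ _ (isIso_of_mem F hφ)) (fun x => (ext1_apply φ x).symm)
      intro Q f hf
      by_cases hPeq : P = S
      · have hQS : Q ≤ S := hf.le_right
        have hcard := hf.card_eq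
        have hQeq : Q = S := by
          apply Subgroup.eq_of_le_of_card_ge hQS
          rw [← hcard, hPeq]
        have hQP : Q = P := hQeq.trans hPeq.symm
        subst hQP
        subst hPeq
        exact isIso_of_autGroup_le htop hf
      · have hcardPQ := hf.card_eq
        have hQS : Q ≤ S := hf.le_right
        have hPlt : Nat.card P < Nat.card S :=
          card_lt_of_lt' le_rfl (lt_of_le_of_ne hPS hPeq)
        have hQne : Q ≠ S := by
          intro h
          rw [h] at hcardPQ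
          omega
        obtain ⟨R, hPR, hRfa, hRrec⟩ := hF P hPS
        obtain ⟨f₀, hf₀⟩ := (isConj_iff F).1 hPR
        have hcardPR := hf₀.card_eq
        have hRS : R ≤ S := hRrec.1
        have hRne : R ≠ S := by
          intro h
          rw [h] at hcardPR
          omega
        have claimA : F.autGroup R ≤ F'.autGroup R := by
          apply autGroup_le_of_frattini hS hle hRfa hRrec hRne (hN R hRS)
          intro Q' hlt φ hφ
          have hQ'S : Q' ≤ S := hom_le F hφ
          have hc : Nat.card P < Nat.card Q' := by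
            rw [hcardPR]
            exact card_lt_of_lt' hQ'S hlt
          exact IH Q' hQ'S hc hφ
        -- the two normalizer maps
        obtain ⟨f₁, N₁, hf₁N, -, hf₁⟩ := exists_normalizer_map hS hRfa hRrec hPR
        have hQR : F.IsConj Q R := isConj_trans F (isConj_symm F hf.isConj) hPR
        obtain ⟨f₂, N₂, hf₂N, -, hf₂⟩ := exists_normalizer_map hS hRfa hRrec hQR
        have hPN : P < normalizerIn S P := by
          obtain ⟨g, hgN, hgP⟩ := exists_mem_normalizerIn_not_mem hS hPS hPeq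
          refine lt_of_le_of_ne (fun x hx => ⟨hPS hx, Subgroup.le_normalizer hx⟩) ?_
          intro h
          exact hgP (h ▸ hgN)
        have hQN : Q < normalizerIn S Q := by
          obtain ⟨g, hgN, hgQ⟩ := exists_mem_normalizerIn_not_mem hS hQS hQne
          refine lt_of_le_of_ne (fun x hx => ⟨hQS hx, Subgroup.le_normalizer hx⟩) ?_
          intro h
          exact hgQ (h ▸ hgN)
        have hc₁ : Nat.card P < Nat.card (normalizerIn S P) := card_lt_of_lt' inf_le_left hPN
        have hc₂ : Nat.card P < Nat.card (normalizerIn S Q) := by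
          rw [hcardPQ]; exact card_lt_of_lt' inf_le_left hQN
        have hE₁ : IsIso F' P R f₁ :=
          (IH' _ _ _ hc₁ hf₁N).restrict' hPN.le (fun x hx => hf₁.map_mem hx) (fun y hy => hf₁.surjOn hy)
        have hE₂ : IsIso F' Q R f₂ :=
          (IH' _ _ _ hc₂ hf₂N).restrict' hQN.le (fun x hx => hf₂.map_mem hx) (fun y hy => hf₂.surjOn hy)
        obtain ⟨g₁, hg₁, hg₁f₁, hf₁g₁⟩ := hf₁.symm
        obtain ⟨g₂, hg₂, hg₂f₂, hf₂g₂⟩ := hE₂.symm
        have hα : IsIso F R R (f₂ ∘ f ∘ g₁) := (hg₁.trans hf).trans hf₂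
        have hαE : IsIso F' R R (f₂ ∘ f ∘ g₁) := isIso_of_autGroup_le claimA hα
        have hfin : IsIso F' P Q (g₂ ∘ (f₂ ∘ f ∘ g₁) ∘ f₁) := (hE₁.trans hαE).trans hg₂
        refine hfin.congr (fun x hx => ?_)
        show g₂ (f₂ (f (g₁ (f₁ x)))) = f x
        rw [hg₁f₁ x hx, hg₂f₂ _ (hf.map_mem hx)]
  intro P φ hφ
  exact key _ P (hom_le F hφ) rfl hφ

end Cfsg.Agent.Lib.H26
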