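import Mathlib
import Cfsg.Prelude.Def_FusionSystem
import Cfsg.Agent.Lib.H25.Fusion
import Cfsg.Agent.Lib.H25.Normal
import Cfsg.Agent.Lib.H25.Alperin

set_option autoImplicit false
set_option linter.unusedSectionVars false

/-!
Transport of maps and of normal subgroups of an invariant subsystem `E ≤ F` over `T` by the
elements of `Aut_F(T)` (helper26).
-/

namespace Cfsg.Agent.Lib.H26

open Cfsg Cfsg.FusionSystem Cfsg.Agent.Lib.H25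

variable {Ω : Type*} [Group Ω] {S : Subgroup Ω}

/-- The image `α(P ∩ T)` of a subgroup under an automorphism `α` of `T`. -/
def imgA {T : Subgroup Ω} (α : MulAut T) (P : Subgroup Ω) : Subgroup Ω :=
  (P.subgroupOf T).map (T.subtype.comp α.toMonoidHom)

theorem mem_imgA {T : Subgroup Ω} (α : MulAut T) (P : Subgroup Ω) (y : Ω) :
    y ∈ imgA α P ↔ ∃ x : T, (x : Ω) ∈ P ∧ ((α x : T) : Ω) = y := by
  constructor
  · rintro ⟨x, hx, rfl⟩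
    exact ⟨x, Subgroup.mem_subgroupOf.1 hx, rfl⟩
  · rintro ⟨x, hx, rfl⟩
    exact ⟨x, Subgroup.mem_subgroupOf.2 hx, rfl⟩

theorem imgA_le {T : Subgroup Ω} (α : MulAut T) (P : Subgroup Ω) : imgA α P ≤ T := by
  intro y hy
  obtain ⟨x, -, rfl⟩ := (mem_imgA α P y).1 hy
  exact (α x).2

theorem imgA_mono {T : Subgroup Ω} (α : MulAut T) {P Q : Subgroup Ω} (h : P ≤ Q) :
    imgA α P ≤ imgA α Q := by
  intro y hy
  obtain ⟨x, hx, rfl⟩ := (mem_imgA α P y).1 hy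
  exact (mem_imgA α Q _).2 ⟨x, h hx, rfl⟩

theorem imgA_imgA {T : Subgroup Ω} (α β : MulAut T) (P : Subgroup Ω) :
    imgA α (imgA β P) = imgA (α * β) P := by
  ext y
  rw [mem_imgA, mem_imgA]
  constructor
  · rintro ⟨x, hx, rfl⟩
    obtain ⟨z, hz, hzx⟩ := (mem_imgA β P _).1 hx
    refine ⟨z, hz, ?_⟩
    have : β z = x := Subtype.ext hzx
    rw [MulAut.mul_apply, this]
  · rintro ⟨x, hx, rfl⟩
    exact ⟨β x, (mem_imgA β P _).2 ⟨x, hx, rfl⟩, rfl⟩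

theorem imgA_one {T : Subgroup Ω} {P : Subgroup Ω} (hPT : P ≤ T) :
    imgA (1 : MulAut T) P = P := by
  ext y
  rw [mem_imgA]
  constructor
  · rintro ⟨x, hx, rfl⟩
    exact hx
  · intro hy
    exact ⟨⟨y, hPT hy⟩, hy, rfl⟩

theorem imgA_sup {T : Subgroup Ω} (α : MulAut T) {P Q : Subgroup Ω} (hPT : P ≤ T) (hQT : Q ≤ T) :
    imgA α (P ⊔ Q) = imgA α P ⊔ imgA α Q := by
  unfold imgA
  rw [Subgroup.subgroupOf_sup hPT hQT, Subgroup.map_sup]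

theorem imgA_inv_cancel {T : Subgroup Ω} (α : MulAut T) {P : Subgroup Ω} (hPT : P ≤ T) :
    imgA α (imgA α⁻¹ P) = P := by
  rw [imgA_imgA, mul_inv_cancel, imgA_one hPT]

/-- Transport of a map of the invariant subsystem `E` by an element of `Aut_F(T)`. -/
theorem invariant_transport {T : Subgroup Ω} {E : FusionSystem T} {F : FusionSystem S}
    (hinv : E.IsInvariantIn F) {P : Subgroup Ω} (hPT : P ≤ T) {φ : P →* Ω} (hφ : φ ∈ E.Hom P)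
    {α : MulAut T} (hα : α ∈ F.autGroup T) :
    ∃ (g : Ω → Ω) (B : Subgroup Ω), IsIso E (imgA α P) B g ∧
      ∀ (x : T) (hx : (x : Ω) ∈ P), ∃ h : φ ⟨x, hx⟩ ∈ T,
        g ((α x : T) : Ω) = ((α ⟨φ ⟨x, hx⟩, h⟩ : T) : Ω) := by
  obtain ⟨χ, hχ, hχval⟩ := hinv.2.2.1 P hPT φ hφ α hα
  refine ⟨ext1 χ, χ.range, isIso_of_mem E hχ, fun x hx => ?_⟩
  have hφT : φ ⟨x, hx⟩ ∈ T := (E.le_of_mem hφ).2 ⟨x, hx⟩
  refine ⟨hφT, ?_⟩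
  have hmem : ((α x : T) : Ω) ∈ imgA α P := (mem_imgA α P _).2 ⟨x, hx, rfl⟩
  have h1 := hχval ⟨x, hx⟩ hφT hmem
  rw [ext1_apply_mem χ hmem]
  exact h1

/-- The image under `α ∈ Aut_F(T)` of a subgroup normal in the invariant subsystem `E` is normal
in `E`. -/
theorem imgA_isNormal {T : Subgroup Ω} {E : FusionSystem T} {F : FusionSystem S}
    (hinv : E.IsInvariantIn F) {Q : Subgroup Ω} (hQ : E.IsNormal Q) {α : MulAut T}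
    (hα : α ∈ F.autGroup T) : E.IsNormal (imgA α Q) := by
  have hQT : Q ≤ T := hQ.1
  have hα' : α⁻¹ ∈ F.autGroup T := Subgroup.inv_mem _ hα
  apply isNormal_of_ext (imgA_le α Q)
  intro P φ hφ
  have hPT : P ≤ T := (E.le_of_mem hφ).1
  obtain ⟨g₀, B₀, hg₀, hg₀val⟩ := invariant_transport hinv hPT hφ hα'
  obtain ⟨g₁, hg₁, hg₁P, hg₁Q⟩ := isNormal_exists_ext hQ hg₀
  obtain ⟨ψ₁, hψ₁, hψ₁g, -⟩ := hg₁.exists_hom
  have hP₁T : imgA α⁻¹ P ≤ T := imgA_le _ _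
  have hP₁QT : imgA α⁻¹ P ⊔ Q ≤ T := sup_le hP₁T hQT
  obtain ⟨g₂, B₂, hg₂, hg₂val⟩ := invariant_transport hinv hP₁QT hψ₁ hα
  rw [imgA_sup α hP₁T hQT, imgA_inv_cancel α hPT] at hg₂
  refine ⟨g₂, B₂, hg₂, ?_, ?_, ?_⟩
  · intro x
    obtain ⟨y, hy⟩ : ∃ y : T, y = α⁻¹ ⟨x, hPT x.2⟩ := ⟨_, rfl⟩
    have hyP₁ : (y : Ω) ∈ imgA α⁻¹ P := (mem_imgA _ _ _).2 ⟨⟨x, hPT x.2⟩, x.2, by rw [hy]⟩
    have hyPQ : (y : Ω) ∈ imgA α⁻¹ P ⊔ Q := (le_sup_left : imgA α⁻¹ P ≤ _) hyP₁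
    have hαy : α y = ⟨x, hPT x.2⟩ := by rw [hy]; simp
    obtain ⟨h2, h2val⟩ := hg₂val y hyPQ
    have e1 : ((α y : T) : Ω) = (x : Ω) := by rw [hαy]
    rw [e1] at h2val
    rw [h2val]
    obtain ⟨h0, h0val⟩ := hg₀val ⟨x, hPT x.2⟩ x.2
    have e2 : ψ₁ ⟨(y : Ω), hyPQ⟩ = ((α⁻¹ ⟨φ ⟨((⟨x, hPT x.2⟩ : T) : Ω), x.2⟩, h0⟩ : T) : Ω) := by
      rw [hψ₁g, hg₁P _ hyP₁, hy]
      exact h0val
    have e3 : (⟨ψ₁ ⟨(y : Ω), hyPQ⟩, h2⟩ : T) = α⁻¹ ⟨φ ⟨((⟨x, hPT x.2⟩ : T) : Ω), x.2⟩, h0⟩ :=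
      Subtype.ext e2
    rw [e3]
    simp
  · intro x hx
    obtain ⟨q, hq, rfl⟩ := (mem_imgA α Q x).1 hx
    have hqPQ : (q : Ω) ∈ imgA α⁻¹ P ⊔ Q := (le_sup_right : Q ≤ _) hq
    obtain ⟨h2, h2val⟩ := hg₂val q hqPQ
    rw [h2val]
    refine (mem_imgA α Q _).2 ⟨_, ?_, rfl⟩
    show ψ₁ ⟨(q : Ω), hqPQ⟩ ∈ Q
    rw [hψ₁g]
    exact hg₁Q.map_mem hq
  · intro y hy
    obtain ⟨q', hq', rfl⟩ := (mem_imgA α Q y).1 hy
    obtain ⟨q, hq, hqq'⟩ := hg₁Q.surjOn hq'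
    have hqT : q ∈ T := hQT hq
    have hqPQ : q ∈ imgA α⁻¹ P ⊔ Q := (le_sup_right : Q ≤ _) hq
    refine ⟨((α ⟨q, hqT⟩ : T) : Ω), (mem_imgA α Q _).2 ⟨⟨q, hqT⟩, hq, rfl⟩, ?_⟩
    obtain ⟨h2, h2val⟩ := hg₂val ⟨q, hqT⟩ hqPQ
    rw [h2val]
    congr 2
    apply Subtype.ext
    show ψ₁ ⟨q, hqPQ⟩ = (q' : Ω)
    rw [hψ₁g]
    exact hqq'

end Cfsg.Agent.Lib.H26
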