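import Mathlib
import Cfsg.Prelude
import Cfsg.Agent.Lib.L0.CharOps
import Cfsg.Agent.Lib.L0.CharInd
import Cfsg.Agent.Lib.L0.CharIndChar
import Cfsg.Agent.Lib.H23.Ito
import Cfsg.Agent.Lib.H23.DegreeDvd
import Cfsg.Agent.Lib.H12.CharSumIrr
import Cfsg.Agent.Lib.H24.CharOrth
import Cfsg.Agent.Lib.H24.CharDefl
import Cfsg.Agent.Lib.H24.CentralMod
import Cfsg.Agent.Lib.H26.DegGraphD

/-!
# Isaacs–Passman: abelian subgroups of index at most `(b!)²`, part A (helper26)

`bdeg G` is the largest irreducible character degree of the finite group `G`.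
Basic properties; an irreducible character of degree `bdeg G` of a subgroup extends to `G`.
-/

set_option autoImplicit false

universe u

namespace Cfsg.Agent.Lib.H26.IsaPass

open Cfsg Cfsg.Agent.Lib.L0 Cfsg.Agent.Lib.H23 Cfsg.Agent.Lib.H24
open scoped ComplexConjugate

section basic

variable {G : Type u} [Group G]

/-- The largest irreducible character degree. -/
noncomputable def bdeg (G : Type u) [Group G] : ℕ :=
  sSup (Set.range fun χ : IrrCharacter G => charDegree (χ : G → ℂ))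

variable [Finite G]

theorem bddAbove_range :
    BddAbove (Set.range fun χ : IrrCharacter G => charDegree (χ : G → ℂ)) := by
  haveI : Finite (IrrCharacter G) := finite_irr
  exact (Set.finite_range _).bddAbove

theorem charDegree_le_bdeg {χ : G → ℂ} (hχ : IsIrrCharacter G χ) : charDegree χ ≤ bdeg G :=
  le_csSup bddAbove_range ⟨⟨χ, hχ⟩, rfl⟩

theorem exists_irr_bdeg : ∃ χ : G → ℂ, IsIrrCharacter G χ ∧ charDegree χ = bdeg G := by
  have hne : (Set.range fun χ : IrrCharacter G => charDegree (χ : G → ℂ)).Nonempty :=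
    ⟨_, ⟨⟨1, L0.isIrrCharacter_one⟩, rfl⟩⟩
  obtain ⟨χ, hχ⟩ := Nat.sSup_mem hne bddAbove_range
  exact ⟨χ, χ.2, hχ⟩

theorem one_le_bdeg : 1 ≤ bdeg G := by
  obtain ⟨χ, hχ, h⟩ := exists_irr_bdeg (G := G)
  rw [← h]
  exact H23.charDegree_pos χ hχ

theorem bdeg_eq_of_isGreatest {b : ℕ}
    (hb : IsGreatest {d : ℕ | ∃ χ : IrrCharacter G, charDegree (χ : G → ℂ) = d} b) :
    b = bdeg G := by
  apply le_antisymm
  · obtain ⟨χ, hχ⟩ := hb.1
    rw [← hχ]
    exact charDegree_le_bdeg χ.2
  · obtain ⟨χ, hχ, h⟩ := exists_irr_bdeg (G := G)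
    rw [← h]
    exact hb.2 ⟨⟨χ, hχ⟩, rfl⟩

end basic

section ext

variable {G : Type u} [Group G] [Fintype G]

/-- An irreducible constituent of `ψ^G`, where `ψ(1) = bdeg G`, restricts to `ψ`. -/
theorem restrict_eq_of_constituent (H : Subgroup G) [Fintype H] {ψ : H → ℂ}
    (hψ : IsIrrCharacter H ψ) (hdeg : charDegree ψ = bdeg G) {χ : G → ℂ}
    (hχ : IsIrrCharacter G χ) (hcon : classInner (indFun H ψ) χ ≠ 0) (h : H) : χ h = ψ h := by
  have hcl := isClassFunction_of_isCharacter (isCharacter_of_irr hχ)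
  have h1 : classInner ψ (fun h : H => χ h) ≠ 0 := by
    rw [← frobenius_reciprocity H ψ χ hcl]
    exact hcon
  have h2 : classInner (fun h : H => χ h) ψ ≠ 0 := by
    intro h0
    apply h1
    rw [← classInner_conj_symm, h0, map_zero]
  have hres : IsCharacter H (fun h : H => χ h) := isCharacter_restrict H (isCharacter_of_irr hχ)
  have h3 := Cfsg.Agent.Lib.H12.CharSumIrr.isCharacter_sub_irr hres hψ h2
  have h4 : ((fun h : H => χ h) - ψ) 1 = 0 := by
    obtain ⟨n, hn⟩ := isCharacter_apply_one h3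
    have e1 : ((fun h : H => χ h) - ψ) 1 = χ 1 - ψ 1 := rfl
    rw [e1, H23.apply_one_eq_charDegree χ hχ, H23.apply_one_eq_charDegree ψ hψ, hdeg] at hn
    have hle := charDegree_le_bdeg hχ
    have h5 : ((charDegree χ : ℤ) : ℂ) - ((bdeg G : ℤ) : ℂ) = ((n : ℤ) : ℂ) := by
      push_cast; exact hn
    have h6 : (charDegree χ : ℤ) - (bdeg G : ℤ) = (n : ℤ) := by exact_mod_cast h5
    have h7 : n = 0 := by omega
    rw [e1, H23.apply_one_eq_charDegree χ hχ, H23.apply_one_eq_charDegree ψ hψ, hdeg, hn, h7]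
    simp
  have h5 := Cfsg.Agent.Lib.H26.DegGraph.eq_zero_of_isCharacter_of_apply_one h3 h4
  have h6 := congrFun h5 h
  simp only [Pi.sub_apply, Pi.zero_apply] at h6
  exact sub_eq_zero.mp h6

/-- An irreducible character of a subgroup whose degree is `bdeg G` extends to `G`. -/
theorem exists_extension (H : Subgroup G) [Fintype H] {ψ : H → ℂ}
    (hψ : IsIrrCharacter H ψ) (hdeg : charDegree ψ = bdeg G) :
    ∃ χ : G → ℂ, IsIrrCharacter G χ ∧ charDegree χ = bdeg G ∧ ∀ h : H, χ h = ψ h := by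
  have hind : IsCharacter G (indFun H ψ) := isCharacter_indFun H (isCharacter_of_irr hψ)
  have h1 : indFun H ψ 1 ≠ 0 := by
    rw [H23.indFun_one']
    have := H23.apply_one_eq_charDegree ψ hψ
    rw [this]
    have hpos := H23.charDegree_pos ψ hψ
    have hidx : H.index ≠ 0 := Subgroup.index_ne_zero_of_finite
    have : ((H.index : ℂ) * (charDegree ψ : ℂ)) ≠ 0 := by
      apply mul_ne_zero
      · exact_mod_cast hidx
      · exact_mod_cast hpos.ne'
    exact this
  obtain ⟨χ, hχ, hcon⟩ := exists_irr_constituent hind h1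
  refine ⟨χ, hχ, ?_, restrict_eq_of_constituent H hψ hdeg hχ hcon⟩
  have h2 := restrict_eq_of_constituent H hψ hdeg hχ hcon 1
  have h3 : χ 1 = ψ 1 := h2
  rw [H23.apply_one_eq_charDegree χ hχ, H23.apply_one_eq_charDegree ψ hψ, hdeg] at h3
  exact_mod_cast h3

/-- Monotonicity for subgroups. -/
theorem bdeg_subgroup_le (H : Subgroup G) : bdeg H ≤ bdeg G := by
  classical
  haveI : Fintype H := Fintype.ofFinite H
  obtain ⟨ψ, hψ, hdeg⟩ := exists_irr_bdeg (G := H)
  have hind : IsCharacter G (indFun H ψ) := isCharacter_indFun H (isCharacter_of_irr hψ)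
  have h1 : indFun H ψ 1 ≠ 0 := by
    rw [H23.indFun_one', H23.apply_one_eq_charDegree ψ hψ]
    have hpos := H23.charDegree_pos ψ hψ
    have hidx : H.index ≠ 0 := Subgroup.index_ne_zero_of_finite
    apply mul_ne_zero
    · exact_mod_cast hidx
    · exact_mod_cast hpos.ne'
  obtain ⟨χ, hχ, hcon⟩ := exists_irr_constituent hind h1
  have hcl := isClassFunction_of_isCharacter (isCharacter_of_irr hχ)
  have h2 : classInner (fun h : H => χ h) ψ ≠ 0 := by
    intro h0
    apply hcon
    rw [frobenius_reciprocity H ψ χ hcl, ← classInner_conj_symm, h0, map_zero]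
  have hres : IsCharacter H (fun h : H => χ h) := isCharacter_restrict H (isCharacter_of_irr hχ)
  have h3 := Cfsg.Agent.Lib.H12.CharSumIrr.isCharacter_sub_irr hres hψ h2
  obtain ⟨n, hn⟩ := isCharacter_apply_one h3
  have e1 : ((fun h : H => χ h) - ψ) 1 = χ 1 - ψ 1 := rfl
  rw [e1, H23.apply_one_eq_charDegree χ hχ, H23.apply_one_eq_charDegree ψ hψ] at hn
  have h5 : ((charDegree χ : ℤ) : ℂ) - ((charDegree ψ : ℤ) : ℂ) = ((n : ℤ) : ℂ) := by
    push_cast; exact hn
  have h6 : (charDegree χ : ℤ) - (charDegree ψ : ℤ) = (n : ℤ) := by exact_mod_cast h5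
  have hle := charDegree_le_bdeg hχ
  rw [← hdeg]
  omega

end ext

section quot

variable {G : Type u} [Group G] [Finite G]

/-- Monotonicity for quotients. -/
theorem bdeg_quotient_le (K : Subgroup G) [K.Normal] : bdeg (G ⧸ K) ≤ bdeg G := by
  obtain ⟨θ, hθ, hdeg⟩ := exists_irr_bdeg (G := G ⧸ K)
  rw [← hdeg, ← charDegree_inflIrr K ⟨θ, hθ⟩]
  exact charDegree_le_bdeg (inflIrr K ⟨θ, hθ⟩).2

/-- Monotonicity along surjective homomorphisms. -/
theorem bdeg_le_of_surjective {Q : Type u} [Group Q] [Finite Q] (f : G →* Q)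
    (hf : Function.Surjective f) : bdeg Q ≤ bdeg G := by
  obtain ⟨θ, hθ, hdeg⟩ := exists_irr_bdeg (G := Q)
  have h1 := isIrrCharacter_comp_of_surjective f hf hθ
  have h2 : charDegree (θ ∘ f) = charDegree θ := by
    unfold charDegree
    simp only [Function.comp_apply, map_one]
  rw [← hdeg, ← h2]
  exact charDegree_le_bdeg h1

end quot

section vanish

variable {H : Type u} [Group H] [Fintype H]

/-- If an irreducible character vanishes off a subgroup `K`, then `|H : K| ≤ ψ(1)²`. -/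
theorem index_le_of_vanish {ψ : H → ℂ} (hψ : IsIrrCharacter H ψ) (K : Subgroup H)
    (hv : ∀ h : H, h ∉ K → ψ h = 0) : K.index ≤ charDegree ψ ^ 2 := by
  classical
  have h1 := sum_mul_conj_eq_card hψ
  have h2 : ∀ g : H, (ψ g * conj (ψ g)).re ≤ if g ∈ K then ((charDegree ψ : ℝ)) ^ 2 else 0 := by
    intro g
    split_ifs with hg
    · have hn := isCharacter_norm_le (isCharacter_of_irr hψ) g
      rw [H23.apply_one_eq_charDegree ψ hψ] at hn
      have e : (ψ g * conj (ψ g)).re = ‖ψ g‖ ^ 2 := by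
        rw [Complex.mul_conj, ← Complex.sq_norm]
        norm_cast
      rw [e]
      have hn' : ‖ψ g‖ ≤ (charDegree ψ : ℝ) := by
        have : ‖((charDegree ψ : ℕ) : ℂ)‖ = (charDegree ψ : ℝ) := by simp
        rw [← this]; exact hn
      exact pow_le_pow_left₀ (norm_nonneg _) hn' 2
    · rw [hv g hg]; simp
  have h3 : ((Nat.card H : ℂ)).re ≤ ∑ g : H, if g ∈ K then ((charDegree ψ : ℝ)) ^ 2 else 0 := by
    rw [← h1, Complex.re_sum]
    exact Finset.sum_le_sum (fun g _ => h2 g)
  rw [Finset.sum_ite, Finset.sum_const_zero, add_zero, Finset.sum_const, nsmul_eq_mul] at h3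
  have h4 : (Finset.univ.filter (fun g : H => g ∈ K)).card = Nat.card K := by
    rw [Nat.card_eq_fintype_card, Fintype.card_subtype]
  rw [h4] at h3
  have h5 : (Nat.card H : ℝ) ≤ (Nat.card K : ℝ) * (charDegree ψ : ℝ) ^ 2 := by
    simpa using h3
  have h6 : Nat.card H ≤ Nat.card K * charDegree ψ ^ 2 := by exact_mod_cast h5
  rw [← Subgroup.index_mul_card K] at h6
  have hpos : 0 < Nat.card K := Nat.card_pos
  nlinarith [h6, hpos]

end vanish

end Cfsg.Agent.Lib.H26.IsaPass
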