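import Mathlib
import Cfsg.Prelude
import Cfsg.Agent.Lib.H26.IsaPassA

/-!
# Isaacs–Passman, part B (helper26)

An irreducible character of a subgroup `H` of degree `bdeg G` vanishes off the core of `H`.
-/

set_option autoImplicit false

universe u

namespace Cfsg.Agent.Lib.H26.IsaPass

open Cfsg Cfsg.Agent.Lib.L0 Cfsg.Agent.Lib.H23 Cfsg.Agent.Lib.H24
open scoped ComplexConjugate

variable {G : Type u} [Group G] [Fintype G]

/-- `ψ^G` restricted to `H` is `|G : H| ψ` when `ψ(1) = bdeg G`. -/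
theorem indFun_apply_coe_of_bdeg (H : Subgroup G) [Fintype H] {ψ : H → ℂ}
    (hψ : IsIrrCharacter H ψ) (hdeg : charDegree ψ = bdeg G) (h : H) :
    indFun H ψ h = (H.index : ℂ) * ψ h := by
  classical
  haveI : Fintype (IrrCharacter G) := Fintype.ofFinite _
  have hexp := classFunction_expansion (indFun H ψ) (indFun_isClassFunction H ψ)
  set c : IrrCharacter G → ℂ := fun χ => classInner (indFun H ψ) (χ : G → ℂ) with hc
  have hval : ∀ h' : H, indFun H ψ h' = (∑ χ : IrrCharacter G, c χ) * ψ h' := by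
    intro h'
    have h1 := congrFun hexp (h' : G)
    rw [Finset.sum_apply] at h1
    rw [h1, Finset.sum_mul]
    refine Finset.sum_congr rfl fun χ _ => ?_
    rw [Pi.smul_apply, smul_eq_mul]
    by_cases h0 : c χ = 0
    · have h0' : classInner (indFun H ψ) (χ : G → ℂ) = 0 := h0
      rw [h0', h0, zero_mul, zero_mul]
    · rw [restrict_eq_of_constituent H hψ hdeg χ.2 h0 h']
  have h1 := hval 1
  have h2 : indFun H ψ ((1 : H) : G) = (H.index : ℂ) * ψ 1 := H23.indFun_one' H ψ
  rw [h2] at h1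
  have hne : ψ 1 ≠ 0 := by
    rw [H23.apply_one_eq_charDegree ψ hψ]
    exact_mod_cast (H23.charDegree_pos ψ hψ).ne'
  have h3 : (H.index : ℂ) = ∑ χ : IrrCharacter G, c χ := mul_right_cancel₀ hne h1
  rw [hval h, h3]

/-- **Vanishing off the core.**  If `ψ ∈ Irr(H)` has degree `bdeg G` and `ψ(h) ≠ 0`, then every
conjugate of `h` lies in `H`. -/
theorem conj_mem_of_ne_zero (H : Subgroup G) [Fintype H] {ψ : H → ℂ}
    (hψ : IsIrrCharacter H ψ) (hdeg : charDegree ψ = bdeg G) (h : H) (hne : ψ h ≠ 0) (x : G) :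
    x⁻¹ * (h : G) * x ∈ H := by
  classical
  obtain ⟨χ, hχ, -, hext⟩ := exists_extension H hψ hdeg
  have hcl := isClassFunction_of_isCharacter (isCharacter_of_irr hχ)
  have h1 := indFun_apply_coe_of_bdeg H hψ hdeg h
  rw [indFun_apply] at h1
  have h2 : ∀ y : G, extendByZero H ψ (y⁻¹ * (h : G) * y) =
      if y⁻¹ * (h : G) * y ∈ H then ψ h else 0 := by
    intro y
    split_ifs with hy
    · rw [extendByZero_apply_of_mem H ψ hy, ← hext ⟨_, hy⟩]
      have := hcl (h : G) y⁻¹
      rw [inv_inv] at this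
      show χ (y⁻¹ * (h : G) * y) = ψ h
      rw [this, hext h]
    · exact extendByZero_apply_not_mem H ψ hy
  rw [Finset.sum_congr rfl (fun y _ => h2 y), Finset.sum_ite, Finset.sum_const_zero, add_zero,
    Finset.sum_const, nsmul_eq_mul] at h1
  set S := Finset.univ.filter (fun y : G => y⁻¹ * (h : G) * y ∈ H) with hS
  have hHpos : (Nat.card H : ℂ) ≠ 0 := by exact_mod_cast (Nat.card_pos (α := H)).ne'
  have h3 : (S.card : ℂ) = (Nat.card G : ℂ) := by
    have h4 : (S.card : ℂ) * ψ h = (Nat.card H : ℂ) * ((H.index : ℂ) * ψ h) := by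
      rw [← h1]
      field_simp
    have h5 : (Nat.card H : ℂ) * (H.index : ℂ) = (Nat.card G : ℂ) := by
      rw [← Subgroup.index_mul_card H]
      push_cast
      ring
    rw [← mul_assoc, h5] at h4
    exact mul_right_cancel₀ hne h4
  have h6 : S.card = Fintype.card G := by
    rw [Nat.card_eq_fintype_card] at h3
    exact_mod_cast h3
  have h7 : S = Finset.univ := Finset.eq_univ_of_card S h6
  have h8 : x ∈ S := by rw [h7]; exact Finset.mem_univ x
  rw [hS, Finset.mem_filter] at h8
  exact h8.2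

end Cfsg.Agent.Lib.H26.IsaPass
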