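import Mathlib
import Cfsg.Prelude
import Cfsg.Agent.Lib.H26.IsaPassA
import Cfsg.Agent.Lib.H24.CharGallagher
import Cfsg.Agent.Lib.H24.PGalConj1

/-!
# Isaacs–Passman, part C (helper26)

If `K ⊴ G` and `G ⧸ K` is nonabelian then `2 * bdeg K ≤ bdeg G`.
-/

set_option autoImplicit false

universe u

namespace Cfsg.Agent.Lib.H26.IsaPass

open Cfsg Cfsg.Agent.Lib.L0 Cfsg.Agent.Lib.H23 Cfsg.Agent.Lib.H24
open scoped ComplexConjugate

variable {G : Type u} [Group G] [Fintype G]

/-- If `φ` is a constituent of `χ_K` of the same degree, then `χ_K = φ`. -/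
theorem restrict_eq_of_degree_eq (K : Subgroup G) [Fintype K] {χ : G → ℂ}
    (hχ : IsIrrCharacter G χ) {φ : K → ℂ} (hφ : IsIrrCharacter K φ)
    (hcon : classInner (fun k : K => χ k) φ ≠ 0) (hdeg : charDegree χ = charDegree φ) (k : K) :
    χ k = φ k := by
  have hres : IsCharacter K (fun k : K => χ k) := isCharacter_restrict K (isCharacter_of_irr hχ)
  have h3 := Cfsg.Agent.Lib.H12.CharSumIrr.isCharacter_sub_irr hres hφ hcon
  have h4 : ((fun k : K => χ k) - φ) 1 = 0 := by
    have e1 : ((fun k : K => χ k) - φ) 1 = χ 1 - φ 1 := rfl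
    rw [e1, H23.apply_one_eq_charDegree χ hχ, H23.apply_one_eq_charDegree φ hφ, hdeg, sub_self]
  have h5 := Cfsg.Agent.Lib.H26.DegGraph.eq_zero_of_isCharacter_of_apply_one h3 h4
  have h6 := congrFun h5 k
  simp only [Pi.sub_apply, Pi.zero_apply] at h6
  exact sub_eq_zero.mp h6

theorem two_mul_bdeg_le (K : Subgroup G) [hK : K.Normal] (hKc : ¬ commutator G ≤ K) :
    2 * bdeg K ≤ bdeg G := by
  classical
  haveI : Fintype K := Fintype.ofFinite K
  obtain ⟨φ, hφ, hdeg⟩ := exists_irr_bdeg (G := K)
  have hind : IsCharacter G (indFun K φ) := isCharacter_indFun K (isCharacter_of_irr hφ)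
  have h1 : indFun K φ 1 ≠ 0 := by
    rw [H23.indFun_one', H23.apply_one_eq_charDegree φ hφ]
    have hpos := H23.charDegree_pos φ hφ
    have hidx : K.index ≠ 0 := Subgroup.index_ne_zero_of_finite
    apply mul_ne_zero
    · exact_mod_cast hidx
    · exact_mod_cast hpos.ne'
  obtain ⟨χ, hχ, hcon0⟩ := exists_irr_constituent hind h1
  have hcl := isClassFunction_of_isCharacter (isCharacter_of_irr hχ)
  have hcon : classInner (fun k : K => χ k) φ ≠ 0 := by
    intro h0
    apply hcon0
    rw [frobenius_reciprocity K φ χ hcl, ← classInner_conj_symm, h0, map_zero]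
  have hdvd := Cfsg.Agent.Lib.H26.DegGraph.charDegree_dvd_of_constituent K hχ hφ hcon
  have hχle := charDegree_le_bdeg hχ
  have hχpos := H23.charDegree_pos χ hχ
  have hφpos := H23.charDegree_pos φ hφ
  rw [← hdeg]
  by_cases heq : charDegree χ = charDegree φ
  · -- `χ` extends `φ`; use Gallagher
    have hext : ∀ k : K, χ k = φ k := restrict_eq_of_degree_eq K hχ hφ hcon heq
    obtain ⟨c, hc, hcK⟩ : ∃ c ∈ commutator G, c ∉ K := by
      by_contra hno
      push Not at hno
      exact hKc hno
    obtain ⟨β, hβK, -, hβdeg⟩ := PGalConj.exists_nonlinear K hc hcK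
    have hβ1 : ∀ k : K, (β : G → ℂ) k = (β : G → ℂ) 1 := fun k => PGalConj.mem_ker.mp (hβK k.2)
    have hβne : (β : G → ℂ) 1 ≠ 0 := irr_one_ne_zero β
    have hone : IsIrrCharacter K (fun _ : K => (1 : ℂ)) := H24.isIrrCharacter_one
    have hβcon : classInner (indFun K (fun _ : K => (1 : ℂ))) (β : G → ℂ) ≠ 0 := by
      rw [frobenius_reciprocity K _ _ (isClassFunction_irr β)]
      have e : (fun k : K => (β : G → ℂ) k) = (β : G → ℂ) 1 • (fun _ : K => (1 : ℂ)) := by
        funext k
        rw [hβ1 k]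
        simp
      rw [e, classInner_smul_right, irr_classInner_self hone, mul_one]
      simpa using hβne
    have hprod : IsIrrCharacter K ((fun _ : K => (1 : ℂ)) * φ) := by
      have : (fun _ : K => (1 : ℂ)) * φ = φ := by
        funext k; simp
      rw [this]; exact hφ
    have hφinv : ∀ (g : G) (n : K), φ ⟨g * n * g⁻¹, hK.conj_mem (n : G) n.2 g⟩ = φ n := by
      intro g n
      rw [← hext, ← hext]
      exact hcl (n : G) g
    have hG := gallagher_orthonormal K (fun _ : K => (1 : ℂ)) φ hone (fun _ _ => rfl) hφinv hprod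
      χ hχ hext β β hβcon hβcon
    rw [if_pos rfl] at hG
    have hirr : IsIrrCharacter G ((β : G → ℂ) * χ) :=
      isIrrCharacter_of_classInner_self_eq_one
        (isCharacter_mul (isCharacter_of_irr β.2) (isCharacter_of_irr hχ)) hG
    have hle := charDegree_le_bdeg hirr
    have hd : charDegree ((β : G → ℂ) * χ) = charDegree (β : G → ℂ) * charDegree χ := by
      apply H23.charDegree_eq_of_apply_one
      rw [Pi.mul_apply, H23.apply_one_eq_charDegree _ β.2, H23.apply_one_eq_charDegree χ hχ]
      push_cast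
      ring
    rw [hd, heq] at hle
    have hβpos := H24.charDegree_pos β
    have hβ2 : 2 ≤ charDegree (β : G → ℂ) := by omega
    calc 2 * charDegree φ ≤ charDegree (β : G → ℂ) * charDegree φ :=
          Nat.mul_le_mul_right _ hβ2
      _ ≤ bdeg G := hle
  · obtain ⟨m, hm⟩ := hdvd
    have hm2 : 2 ≤ m := by
      rcases Nat.lt_or_ge m 2 with h | h
      · interval_cases m
        · rw [mul_zero] at hm; omega
        · rw [mul_one] at hm; exact absurd hm heq
      · exact h
    calc 2 * charDegree φ = charDegree φ * 2 := by ring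
      _ ≤ charDegree φ * m := Nat.mul_le_mul_left _ hm2
      _ = charDegree χ := hm.symm
      _ ≤ bdeg G := hχle

end Cfsg.Agent.Lib.H26.IsaPass
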