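import Mathlib
import Cfsg.Prelude
import Cfsg.Agent.Lib.H26.IsaPassA
import Cfsg.Agent.Lib.H26.DegGraphA
import Cfsg.Agent.Lib.H24.PGalConj1

/-!
# Isaacs–Passman, part D (helper26)

The case where `G ⧸ M` has a nontrivial centre (the `p`-group case of Isaacs 12.3).
-/

set_option autoImplicit false

universe u

namespace Cfsg.Agent.Lib.H26.IsaPass

open Cfsg Cfsg.Agent.Lib.L0 Cfsg.Agent.Lib.H23 Cfsg.Agent.Lib.H24
open Cfsg.Agent.Lib.H26.DegGraph
open scoped ComplexConjugate

variable {G : Type u} [Group G] [Fintype G]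

/-- Norm computation: if `Θ` vanishes off `H`, has constant absolute value `t` on `H`, and
`χ_H` is irreducible, then `[χΘ, χΘ] = t² / |G : H|`. -/
theorem classInner_mul_of_vanish (H : Subgroup G) [Fintype H] {χ Θ : G → ℂ} {ψ : H → ℂ}
    (hψ : IsIrrCharacter H ψ) (hext : ∀ h : H, χ h = ψ h) (t : ℂ)
    (hv : ∀ g : G, g ∉ H → Θ g = 0) (hc : ∀ g : G, g ∈ H → Θ g * conj (Θ g) = t)
    : classInner (χ * Θ) (χ * Θ) = (Nat.card G : ℂ)⁻¹ * (t * (Nat.card H : ℂ)) := by
  classical
  unfold classInner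
  congr 1
  have h1 : ∀ g : G, (χ * Θ) g * conj ((χ * Θ) g) =
      if g ∈ H then t * (χ g * conj (χ g)) else 0 := by
    intro g
    split_ifs with hg
    · rw [Pi.mul_apply, map_mul, ← hc g hg]; ring
    · rw [Pi.mul_apply, hv g hg]; simp
  rw [Finset.sum_congr rfl (fun g _ => h1 g), ← Finset.sum_filter]
  have h2 := Finset.sum_subtype (Finset.univ.filter (fun g : G => g ∈ H)) (p := fun g => g ∈ H)
    (F := (inferInstance : Fintype H)) (by simp) (fun g => t * (χ g * conj (χ g)))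
  rw [h2, ← Finset.mul_sum]
  congr 1
  have h3 := sum_mul_conj_eq_card hψ
  rw [← h3]
  exact Finset.sum_congr rfl (fun h _ => by rw [hext h])

theorem central_case (M : Subgroup G) [hM : M.Normal] (hU : UniqueMinComm (G ⧸ M))
    (hZ : Subgroup.center (G ⧸ M) ≠ ⊥) :
    ∃ H : Subgroup G, H ≠ ⊤ ∧ H.index ≤ bdeg G ^ 2 ∧ bdeg H < bdeg G := by
  classical
  obtain ⟨hcne, hmin⟩ := hU
  have hcZ : commutator (G ⧸ M) ≤ Subgroup.center (G ⧸ M) := hmin _ inferInstance hZ
  obtain ⟨c, hc, hc1⟩ : ∃ c ∈ commutator (G ⧸ M), c ≠ 1 := by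
    by_contra hno
    push Not at hno
    apply hcne
    rw [eq_bot_iff]
    intro x hx
    rw [Subgroup.mem_bot]
    exact hno x hx
  obtain ⟨θ, -, -, hθdeg⟩ := PGalConj.exists_nonlinear (⊥ : Subgroup (G ⧸ M)) hc
    (by rw [Subgroup.mem_bot]; exact hc1)
  have hcZc : commutator (G ⧸ M) ≤ PGalConj.Zc θ :=
    hcZ.trans (PGalConj.center_le_relCenter _)
  have hvan := PGalConj.vanish_off_Zc θ hcZc
  have hsq := PGalConj.sq_mul_card_Zc θ hvan
  set f := QuotientGroup.mk' M with hf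
  have hfs : Function.Surjective f := QuotientGroup.mk'_surjective M
  set H : Subgroup G := (PGalConj.Zc θ).comap f with hH
  have hidx : H.index = charDegree (θ : G ⧸ M → ℂ) ^ 2 := by
    rw [hH, Subgroup.index_comap_of_surjective _ hfs]
    have h1 := Subgroup.index_mul_card (PGalConj.Zc θ)
    rw [← hsq] at h1
    have hpos : 0 < Nat.card (PGalConj.Zc θ) := Nat.card_pos
    exact Nat.eq_of_mul_eq_mul_right hpos h1
  have hθpos := H24.charDegree_pos θ
  have hθ2 : 2 ≤ charDegree (θ : G ⧸ M → ℂ) := by omega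
  have hθle : charDegree (θ : G ⧸ M → ℂ) ≤ bdeg G :=
    (charDegree_le_bdeg θ.2).trans (bdeg_quotient_le M)
  refine ⟨H, ?_, ?_, ?_⟩
  · intro htop
    rw [htop, Subgroup.index_top] at hidx
    nlinarith
  · rw [hidx]
    exact Nat.pow_le_pow_left hθle 2
  · by_contra hnot
    push Not at hnot
    have hHle := bdeg_subgroup_le H
    have hHeq : bdeg H = bdeg G := le_antisymm hHle hnot
    have : Fintype H := Fintype.ofFinite H
    obtain ⟨ψ, hψ, hψdeg⟩ := exists_irr_bdeg (G := H)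
    rw [hHeq] at hψdeg
    obtain ⟨χ, hχ, hχdeg, hext⟩ := exists_extension H hψ hψdeg
    set Θ : G → ℂ := (θ : G ⧸ M → ℂ) ∘ f with hΘ
    have hΘirr : IsIrrCharacter G Θ := isIrrCharacter_comp_of_surjective f hfs θ.2
    have hΘ1 : Θ 1 = (charDegree (θ : G ⧸ M → ℂ) : ℂ) := by
      rw [hΘ, Function.comp_apply, map_one, H23.apply_one_eq_charDegree _ θ.2]
    have hv : ∀ g : G, g ∉ H → Θ g = 0 := by
      intro g hg
      exact hvan (f g) (fun h => hg (Subgroup.mem_comap.mpr h))
    have hcst : ∀ g : G, g ∈ H → Θ g * conj (Θ g) =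
        ((charDegree (θ : G ⧸ M → ℂ) : ℂ)) ^ 2 := by
      intro g hg
      have h1 := mul_conj_of_commutator_ker θ.2 (f g) (PGalConj.mem_Zc.mp (Subgroup.mem_comap.mp hg))
      rw [H23.apply_one_eq_charDegree _ θ.2] at h1
      exact h1
    have hnorm := classInner_mul_of_vanish H hψ hext _ hv hcst
    have hcard : (Nat.card G : ℂ) = ((charDegree (θ : G ⧸ M → ℂ) : ℂ)) ^ 2 * (Nat.card H : ℂ) := by
      rw [← Subgroup.index_mul_card H, hidx]
      push_cast
      ring
    have hGne : (Nat.card G : ℂ) ≠ 0 := by exact_mod_cast (Nat.card_pos (α := G)).ne'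
    rw [← hcard, inv_mul_cancel₀ hGne] at hnorm
    have hirr : IsIrrCharacter G (χ * Θ) :=
      isIrrCharacter_of_classInner_self_eq_one
        (isCharacter_mul (isCharacter_of_irr hχ) (isCharacter_of_irr hΘirr)) hnorm
    have hle := charDegree_le_bdeg hirr
    have hd : charDegree (χ * Θ) = charDegree χ * charDegree (θ : G ⧸ M → ℂ) := by
      apply H23.charDegree_eq_of_apply_one
      rw [Pi.mul_apply, H23.apply_one_eq_charDegree χ hχ, hΘ1]
      push_cast
      ring
    rw [hd, hχdeg] at hle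
    have hb := one_le_bdeg (G := G)
    nlinarith

end Cfsg.Agent.Lib.H26.IsaPass
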