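import Mathlib
import Cfsg.Prelude
import Cfsg.Agent.Lib.H26.IsaPassA
import Cfsg.Agent.Lib.H26.IsaPassC
import Cfsg.Agent.Lib.H26.DegGraphC
import Cfsg.Agent.Lib.H1.TDFpf

/-!
# Isaacs–Passman, part E (helper26)

Arithmetic with factorials, and the Frobenius case of Isaacs 12.3.
-/

set_option autoImplicit false

universe u

namespace Cfsg.Agent.Lib.H26.IsaPass

open Cfsg Cfsg.Agent.Lib.L0 Cfsg.Agent.Lib.H23 Cfsg.Agent.Lib.H24
open Cfsg.Agent.Lib.H26.DegGraph
open scoped ComplexConjugate Nat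

section arith

theorem arith_lt {b c : ℕ} (hb : 1 ≤ b) (hc : c < b) : b ^ 2 * (c !) ^ 2 ≤ (b !) ^ 2 := by
  obtain ⟨k, rfl⟩ : ∃ k, b = k + 1 := ⟨b - 1, by omega⟩
  have h1 : c ! ≤ k ! := Nat.factorial_le (by omega)
  rw [Nat.factorial_succ, mul_pow]
  exact Nat.mul_le_mul_left _ (Nat.pow_le_pow_left h1 2)

theorem arith_three {b c : ℕ} (hb : 3 ≤ b) (hc : 2 * c ≤ b) : b ^ 3 * (c !) ^ 2 ≤ (b !) ^ 2 := by
  obtain ⟨k, rfl⟩ : ∃ k, b = k + 2 := ⟨b - 2, by omega⟩
  have h1 : c ! ≤ k ! := Nat.factorial_le (by omega)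
  have h2 : (c !) ^ 2 ≤ (k !) ^ 2 := Nat.pow_le_pow_left h1 2
  rw [Nat.factorial_succ, Nat.factorial_succ]
  have h3 : (k + 2) ^ 3 ≤ ((k + 1 + 1) * (k + 1)) ^ 2 := by
    have hk : 1 ≤ k := by omega
    nlinarith [hk, sq_nonneg (k : ℤ)]
  calc (k + 2) ^ 3 * (c !) ^ 2 ≤ ((k + 1 + 1) * (k + 1)) ^ 2 * (k !) ^ 2 :=
        Nat.mul_le_mul h3 h2
    _ = ((k + 1 + 1) * ((k + 1) * k !)) ^ 2 := by ring

theorem arith_five {b c : ℕ} (hb : 5 ≤ b) (hc : 2 * c ≤ b) : b ^ 4 * (c !) ^ 2 ≤ (b !) ^ 2 := by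
  obtain ⟨k, rfl⟩ : ∃ k, b = k + 3 := ⟨b - 3, by omega⟩
  have h1 : c ! ≤ k ! := Nat.factorial_le (by omega)
  have h2 : (c !) ^ 2 ≤ (k !) ^ 2 := Nat.pow_le_pow_left h1 2
  rw [Nat.factorial_succ, Nat.factorial_succ, Nat.factorial_succ]
  have h3 : (k + 3) ^ 4 ≤ ((k + 2 + 1) * ((k + 1 + 1) * (k + 1))) ^ 2 := by
    have hk : 2 ≤ k := by omega
    have h4 : (k + 3) ≤ (k + 1 + 1) * (k + 1) := by nlinarith
    calc (k + 3) ^ 4 = ((k + 3) * (k + 3)) ^ 2 := by ring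
      _ ≤ ((k + 2 + 1) * ((k + 1 + 1) * (k + 1))) ^ 2 :=
        Nat.pow_le_pow_left (Nat.mul_le_mul_left _ h4) 2
  calc (k + 3) ^ 4 * (c !) ^ 2 ≤ ((k + 2 + 1) * ((k + 1 + 1) * (k + 1))) ^ 2 * (k !) ^ 2 :=
        Nat.mul_le_mul h3 h2
    _ = ((k + 2 + 1) * ((k + 1 + 1) * ((k + 1) * k !))) ^ 2 := by ring

end arith

section frob

variable {G : Type u} [Group G] [Fintype G]

/-- Characters of the abelian group `N ⧸ M` separate points. -/
theorem exists_trivOn_apply_ne_one (N : Subgroup G) [hN : N.Normal] (M : Subgroup G)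
    [hM : M.Normal] (hab : ∀ a ∈ N, ∀ b ∈ N, a * b * a⁻¹ * b⁻¹ ∈ M) (n : N)
    (hn : (n : G) ∉ M) : ∃ μ ∈ trivOn N M, μ n ≠ 1 := by
  letI : CommGroup (N ⧸ M.subgroupOf N) :=
    { (inferInstance : Group (N ⧸ M.subgroupOf N)) with mul_comm := quot_comm N M hab }
  have hb : (QuotientGroup.mk n : N ⧸ M.subgroupOf N) ≠ 1 := by
    rw [Ne, QuotientGroup.eq_one_iff, Subgroup.mem_subgroupOf]
    exact hn
  haveI : NeZero ((Monoid.exponent (N ⧸ M.subgroupOf N) : ℕ) : ℂ) := by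
    constructor
    have : Monoid.exponent (N ⧸ M.subgroupOf N) ≠ 0 := Monoid.exponent_ne_zero_of_finite
    exact_mod_cast this
  obtain ⟨ph, hph⟩ :=
    CommGroup.exists_apply_ne_one_of_hasEnoughRootsOfUnity (N ⧸ M.subgroupOf N) ℂ hb
  refine ⟨ph.comp (QuotientGroup.mk' (M.subgroupOf N)), ?_, ?_⟩
  · intro m hm
    rw [MonoidHom.comp_apply]
    have : QuotientGroup.mk' (M.subgroupOf N) m = 1 :=
      (QuotientGroup.eq_one_iff m).mpr (Subgroup.mem_subgroupOf.mpr hm)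
    rw [this, map_one]
  · intro h1
    apply hph
    simpa using h1

theorem frobenius_case (M N : Subgroup G) [hM : M.Normal] [hN : N.Normal] (hMN : M ≤ N)
    (hne : M ≠ N) (hNtop : N ≠ ⊤) (hMc : ¬ commutator G ≤ M)
    (hab : ∀ a ∈ N, ∀ b ∈ N, a * b * a⁻¹ * b⁻¹ ∈ M)
    (q : ℕ) (hq : q.Prime) (hexp : ∀ a ∈ N, a ^ q ∈ M)
    (hfp : ∀ g, g ∉ N → ∀ n ∈ N, g * n * g⁻¹ * n⁻¹ ∈ M → n ∈ M) :
    ∃ H : Subgroup G, H ≠ ⊤ ∧ H.index * ((bdeg H) !) ^ 2 ≤ ((bdeg G) !) ^ 2 := by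
  classical
  have : Fintype N := Fintype.ofFinite N
  have hb1 := one_le_bdeg (G := G)
  -- `|G : N| ≤ b`
  have hidx_le : N.index ≤ bdeg G := by
    have hone : IsIrrCharacter N (fun _ : N => (1 : ℂ)) := H24.isIrrCharacter_one
    have hd1 : charDegree (fun _ : N => (1 : ℂ)) = 1 :=
      H23.charDegree_eq_of_apply_one (by simp)
    rcases isaacs_12_4 N M hMN hne hab hfp q hq hexp _ hone with ⟨χ, hχ, hdeg⟩ | hdvd
    · rw [hd1, mul_one] at hdeg
      rw [← hdeg]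
      exact charDegree_le_bdeg hχ
    · rw [hd1] at hdvd
      exact absurd (Nat.le_of_dvd one_pos hdvd) (by have := hq.two_le; omega)
  have hidx2 : 2 ≤ N.index := by
    have h0 : N.index ≠ 0 := Subgroup.index_ne_zero_of_finite
    have h1 : N.index ≠ 1 := fun h => hNtop (Subgroup.index_eq_one.mp h)
    omega
  by_cases hlt : bdeg N < bdeg G
  · refine ⟨N, hNtop, ?_⟩
    have h1 := arith_lt hb1 hlt
    have h2 : N.index ≤ bdeg G ^ 2 := by nlinarith
    calc N.index * ((bdeg N) !) ^ 2 ≤ bdeg G ^ 2 * ((bdeg N) !) ^ 2 :=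
          Nat.mul_le_mul_right _ h2
      _ ≤ ((bdeg G) !) ^ 2 := h1
  · have hNeq : bdeg N = bdeg G := le_antisymm (bdeg_subgroup_le N) (not_lt.mp hlt)
    obtain ⟨ψ, hψ, hψdeg⟩ := exists_irr_bdeg (G := N)
    rw [hNeq] at hψdeg
    letI := linAction N
    have D := twistData N M hab hfp
    have hcl := isClassFunction_of_isCharacter (isCharacter_of_irr hψ)
    rcases D.exists_regular_or_stable ψ (fun g hg a _ => conjFun_smul_of_mem N hcl hg a) with
      hst | ⟨a, -, hreg⟩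
    · -- stable case
      have hqb : q ∣ bdeg G := by
        rw [← hψdeg]
        exact dvd_degree_of_stable N M hMN hne hab q hq hexp ψ hψ hst
      have hvan : ∀ n : N, n ∉ M.subgroupOf N → ψ n = 0 := by
        intro n hn
        rw [Subgroup.mem_subgroupOf] at hn
        obtain ⟨μ, hμ, hμn⟩ := exists_trivOn_apply_ne_one N M hab n hn
        have h1 := congrFun (hst μ hμ) n
        rw [linAction_smul_apply] at h1
        by_contra h0
        apply hμn
        have h2 : ((μ n : ℂˣ) : ℂ) * ψ n = 1 * ψ n := by rw [one_mul]; exact h1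
        have h3 := mul_right_cancel₀ h0 h2
        exact Units.ext h3
      have hrel : M.relIndex N ≤ bdeg G ^ 2 := by
        have := index_le_of_vanish hψ (M.subgroupOf N) hvan
        rw [hψdeg] at this
        exact this
      have hMidx : M.index = M.relIndex N * N.index := (Subgroup.relIndex_mul_index hMN).symm
      have hqN : ¬ q ∣ N.index :=
        Cfsg.Agent.Lib.H1.TD.not_dvd_index_of_fpf M N hMN hne hfp q hq hexp
      have hb3 : 3 ≤ bdeg G := by
        have hq2 := hq.two_le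
        have hqle : q ≤ bdeg G := Nat.le_of_dvd (by omega) hqb
        by_contra hlt3
        have hb2 : bdeg G = 2 := by omega
        have hq2' : q = 2 := by omega
        have hN2 : N.index = 2 := by omega
        apply hqN
        rw [hq2', hN2]
      have h2c := two_mul_bdeg_le M hMc
      refine ⟨M, fun h => hMc (h ▸ le_top), ?_⟩
      have h3 := arith_three hb3 h2c
      have h4 : M.index ≤ bdeg G ^ 3 := by
        rw [hMidx]
        calc M.relIndex N * N.index ≤ bdeg G ^ 2 * bdeg G := Nat.mul_le_mul hrel hidx_le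
          _ = bdeg G ^ 3 := by ring
      calc M.index * ((bdeg M) !) ^ 2 ≤ bdeg G ^ 3 * ((bdeg M) !) ^ 2 :=
            Nat.mul_le_mul_right _ h4
        _ ≤ ((bdeg G) !) ^ 2 := h3
    · -- regular case: impossible
      exfalso
      obtain ⟨χ, hχ, hdeg⟩ := exists_irr_of_regular N ψ hψ a hreg
      have hle := charDegree_le_bdeg hχ
      rw [hdeg, hψdeg] at hle
      nlinarith

end frob

end Cfsg.Agent.Lib.H26.IsaPass
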