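import Mathlib
import Cfsg.Prelude
import Cfsg.Agent.Lib.H26.IsaPassA
import Cfsg.Agent.Lib.H26.IsaPassB
import Cfsg.Agent.Lib.H26.IsaPassC
import Cfsg.Agent.Lib.H26.IsaPassE
import Cfsg.Agent.Lib.H26.DegGraphA

/-!
# Isaacs–Passman, part F (helper26)

A nontrivial finite group has a nontrivial conjugacy class of size at most `bdeg² `; the case
where `(G ⧸ M)'` is nonabelian.
-/

set_option autoImplicit false

universe u

namespace Cfsg.Agent.Lib.H26.IsaPass

open Cfsg Cfsg.Agent.Lib.L0 Cfsg.Agent.Lib.H23 Cfsg.Agent.Lib.H24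
open Cfsg.Agent.Lib.H26.DegGraph
open scoped ComplexConjugate Nat

section count

variable {Q : Type u} [Group Q] [Fintype Q]


/-- `∑_x |C(x)| = k(Q) |Q|`. -/
theorem sum_card_centralizer :
    ∑ x : Q, Nat.card (Subgroup.centralizer ({x} : Set Q)) =
      Nat.card (ConjClasses Q) * Nat.card Q := by
  classical
  rw [← card_comm_eq_card_conjClasses_mul_card Q]
  rw [Nat.card_congr (Equiv.subtypeProdEquivSigmaSubtype (fun x y : Q => Commute x y))]
  rw [Nat.card_eq_fintype_card, Fintype.card_sigma]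
  refine Finset.sum_congr rfl fun x _ => ?_
  rw [Nat.card_eq_fintype_card]
  apply Fintype.card_congr
  refine Equiv.subtypeEquivRight fun y => ?_
  rw [Subgroup.mem_centralizer_iff]
  constructor
  · intro h
    exact (h x rfl)
  · intro h z hz
    rw [Set.mem_singleton_iff] at hz
    rw [hz]; exact h

/-- `|Q| ≤ 1 + (k - 1) b²`. -/
theorem card_le_of_bdeg : Nat.card Q + bdeg Q ^ 2 ≤ 1 + Nat.card (ConjClasses Q) * bdeg Q ^ 2 := by
  classical
  have : Fintype (IrrCharacter Q) := Fintype.ofFinite _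
  have h1 := sum_irr_one_sq (G := Q)
  have h2 : ∑ χ : IrrCharacter Q, charDegree (χ : Q → ℂ) ^ 2 = Nat.card Q := by
    have : ((∑ χ : IrrCharacter Q, charDegree (χ : Q → ℂ) ^ 2 : ℕ) : ℂ) = (Nat.card Q : ℂ) := by
      rw [← h1]
      push_cast
      refine Finset.sum_congr rfl fun χ _ => ?_
      rw [H23.apply_one_eq_charDegree _ χ.2]
    exact_mod_cast this
  set χ₀ : IrrCharacter Q := ⟨1, L0.isIrrCharacter_one⟩ with hχ₀
  have hd0 : charDegree (χ₀ : Q → ℂ) = 1 := H23.charDegree_eq_of_apply_one (by simp [hχ₀])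
  rw [← Finset.add_sum_erase _ _ (Finset.mem_univ χ₀), hd0] at h2
  have h3 : ∑ χ ∈ Finset.univ.erase χ₀, charDegree (χ : Q → ℂ) ^ 2 ≤
      (Finset.univ.erase χ₀).card * bdeg Q ^ 2 := by
    rw [← smul_eq_mul]
    apply Finset.sum_le_card_nsmul
    intro χ _
    exact Nat.pow_le_pow_left (charDegree_le_bdeg χ.2) 2
  rw [Finset.card_erase_of_mem (Finset.mem_univ χ₀), Finset.card_univ,
    ← Nat.card_eq_fintype_card, card_irr_eq_card_conjClasses] at h3
  have hk : 1 ≤ Nat.card (ConjClasses Q) := Nat.card_pos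
  obtain ⟨k, hk'⟩ : ∃ k, Nat.card (ConjClasses Q) = k + 1 := ⟨_, (Nat.sub_add_cancel hk).symm⟩
  rw [hk'] at h3 ⊢
  simp only [Nat.add_sub_cancel] at h3
  rw [← h2]
  nlinarith

theorem exists_small_class (hQ : Nontrivial Q) :
    ∃ x : Q, x ≠ 1 ∧ (Subgroup.centralizer ({x} : Set Q)).index ≤ bdeg Q ^ 2 := by
  classical
  by_contra hno
  push Not at hno
  set c := bdeg Q with hc
  set n := Nat.card Q with hn
  have hk : 1 ≤ Nat.card (ConjClasses Q) := Nat.card_pos
  obtain ⟨k, hk'⟩ : ∃ k, Nat.card (ConjClasses Q) = k + 1 := ⟨_, (Nat.sub_add_cancel hk).symm⟩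
  have h1 := card_le_of_bdeg (Q := Q)
  have h2 := sum_card_centralizer (Q := Q)
  rw [hk'] at h1 h2
  rw [← Finset.add_sum_erase _ _ (Finset.mem_univ (1 : Q))] at h2
  have hc1 : Nat.card (Subgroup.centralizer ({1} : Set Q)) = n := by
    have : Subgroup.centralizer ({1} : Set Q) = ⊤ := by
      ext x; simp [Subgroup.mem_centralizer_iff]
    rw [this, Subgroup.card_top]
  rw [hc1] at h2
  have h3 : ∀ x ∈ Finset.univ.erase (1 : Q),
      (c ^ 2 + 1) * Nat.card (Subgroup.centralizer ({x} : Set Q)) ≤ n := by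
    intro x hx
    have hx1 : x ≠ 1 := Finset.ne_of_mem_erase hx
    have h4 := hno x hx1
    have h5 := Subgroup.index_mul_card (Subgroup.centralizer ({x} : Set Q))
    rw [hn, ← h5]
    exact Nat.mul_le_mul_right _ h4
  have h6 : (c ^ 2 + 1) * ∑ x ∈ Finset.univ.erase (1 : Q),
      Nat.card (Subgroup.centralizer ({x} : Set Q)) ≤ (Finset.univ.erase (1 : Q)).card * n := by
    rw [Finset.mul_sum, ← smul_eq_mul ((Finset.univ.erase (1 : Q)).card)]
    exact Finset.sum_le_card_nsmul _ _ _ h3
  rw [Finset.card_erase_of_mem (Finset.mem_univ _), Finset.card_univ,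
    ← Nat.card_eq_fintype_card, ← hn] at h6
  have hn1 : 2 ≤ n := by
    rw [hn, Nat.card_eq_fintype_card]
    exact Fintype.one_lt_card
  -- Σ_{x≠1} |C(x)| = k n
  have h7 : ∑ x ∈ Finset.univ.erase (1 : Q),
      Nat.card (Subgroup.centralizer ({x} : Set Q)) = k * n := by
    have : n + ∑ x ∈ Finset.univ.erase (1 : Q),
      Nat.card (Subgroup.centralizer ({x} : Set Q)) = n + k * n := by rw [h2]; ring
    exact Nat.add_left_cancel this
  rw [h7] at h6
  -- (c²+1) k n ≤ (n-1) n  ⇒ (c²+1) k ≤ n - 1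
  have h8 : (c ^ 2 + 1) * k + 1 ≤ n := by
    have hpos : 0 < n := by omega
    have : ((c ^ 2 + 1) * k) * n ≤ (n - 1) * n := by
      calc ((c ^ 2 + 1) * k) * n = (c ^ 2 + 1) * (k * n) := by ring
        _ ≤ (n - 1) * n := h6
    have := Nat.le_of_mul_le_mul_right this hpos
    omega
  -- n + c² ≤ 1 + (k+1) c²
  have h9 : n ≤ 1 + k * c ^ 2 := by
    have : n + c ^ 2 ≤ 1 + (k + 1) * c ^ 2 := h1
    nlinarith
  have hk0 : k = 0 := by
    by_contra hk0
    have : 1 ≤ k := Nat.one_le_iff_ne_zero.mpr hk0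
    nlinarith
  subst hk0
  omega


end count

section centerless

variable {G : Type u} [Group G] [Fintype G]

theorem centerless_case (M : Subgroup G) [hM : M.Normal] (hMc : ¬ commutator G ≤ M)
    (hU : UniqueMinComm (G ⧸ M))
    (hna : ¬ ∀ a ∈ commutator (G ⧸ M), ∀ b ∈ commutator (G ⧸ M), a * b = b * a)
    (h5 : 5 ≤ bdeg G) :
    ∃ H : Subgroup G, H ≠ ⊤ ∧ H.index * ((bdeg H) !) ^ 2 ≤ ((bdeg G) !) ^ 2 := by
  classical
  obtain ⟨hcne, hmin⟩ := hU
  set f := QuotientGroup.mk' M with hf
  have hfs : Function.Surjective f := QuotientGroup.mk'_surjective M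
  have hb1 := one_le_bdeg (G := G)
  -- the centralizer of the commutator subgroup is trivial
  have hC : Subgroup.centralizer (commutator (G ⧸ M) : Set (G ⧸ M)) = ⊥ := by
    by_contra hCne
    have h1 := hmin _ (inferInstance : (Subgroup.centralizer
      (commutator (G ⧸ M) : Set (G ⧸ M))).Normal) hCne
    apply hna
    intro a ha b hb
    have h2 := h1 ha
    rw [Subgroup.mem_centralizer_iff] at h2
    exact (h2 b hb).symm
  haveI : Nontrivial (G ⧸ M) := by
    by_contra hnt
    rw [not_nontrivial_iff_subsingleton] at hnt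
    apply hcne
    exact Subsingleton.elim _ _
  obtain ⟨x, hx1, hxidx⟩ := exists_small_class (Q := G ⧸ M) inferInstance
  set H : Subgroup G := (Subgroup.centralizer ({x} : Set (G ⧸ M))).comap f with hH
  have hidx : H.index ≤ bdeg G ^ 2 := by
    rw [hH, Subgroup.index_comap_of_surjective _ hfs]
    exact hxidx.trans (Nat.pow_le_pow_left (bdeg_quotient_le M) 2)
  have hMH : M ≤ H := by
    intro m hm
    rw [hH, Subgroup.mem_comap]
    have : f m = 1 := (QuotientGroup.eq_one_iff m).mpr hm
    rw [this]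
    exact Subgroup.one_mem _
  have hHtop : H ≠ ⊤ := by
    intro htop
    apply hx1
    have hxC : x ∈ Subgroup.centralizer (commutator (G ⧸ M) : Set (G ⧸ M)) := by
      rw [Subgroup.mem_centralizer_iff]
      intro y _
      obtain ⟨g, rfl⟩ := hfs y
      have hg : g ∈ H := by rw [htop]; exact Subgroup.mem_top g
      rw [hH, Subgroup.mem_comap, Subgroup.mem_centralizer_iff] at hg
      exact (hg x rfl).symm
    rw [hC, Subgroup.mem_bot] at hxC
    exact hxC
  by_cases hlt : bdeg H < bdeg G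
  · refine ⟨H, hHtop, ?_⟩
    calc H.index * ((bdeg H) !) ^ 2 ≤ bdeg G ^ 2 * ((bdeg H) !) ^ 2 :=
          Nat.mul_le_mul_right _ hidx
      _ ≤ ((bdeg G) !) ^ 2 := arith_lt hb1 hlt
  · have hHeq : bdeg H = bdeg G := le_antisymm (bdeg_subgroup_le H) (not_lt.mp hlt)
    have : Fintype H := Fintype.ofFinite H
    obtain ⟨ψ, hψ, hψdeg⟩ := exists_irr_bdeg (G := H)
    rw [hHeq] at hψdeg
    have hvan : ∀ h : H, h ∉ M.subgroupOf H → ψ h = 0 := by
      intro h hh
      by_contra hne
      apply hh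
      rw [Subgroup.mem_subgroupOf]
      have hconj := conj_mem_of_ne_zero H hψ hψdeg h hne
      -- all conjugates of `x` commute with `f h`
      have hle : Subgroup.normalClosure ({x} : Set (G ⧸ M)) ≤
          Subgroup.centralizer ({f (h : G)} : Set (G ⧸ M)) := by
        rw [Subgroup.normalClosure, Subgroup.closure_le]
        intro y hy
        rw [Group.mem_conjugatesOfSet_iff] at hy
        obtain ⟨a, ha, hay⟩ := hy
        rw [Set.mem_singleton_iff] at ha
        subst ha
        rw [isConj_iff] at hay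
        obtain ⟨c, rfl⟩ := hay
        obtain ⟨g, rfl⟩ := hfs c
        have h1 : g⁻¹ * (h : G) * g ∈
            (Subgroup.centralizer ({a} : Set (G ⧸ M))).comap f := hconj g
        rw [Subgroup.mem_comap, Subgroup.mem_centralizer_iff] at h1
        have h2 := h1 a rfl
        rw [map_mul, map_mul, map_inv] at h2
        rw [SetLike.mem_coe, Subgroup.mem_centralizer_iff]
        intro z hz
        rw [Set.mem_singleton_iff] at hz
        subst hz
        -- h2 : a * ((f g)⁻¹ * f h * f g) = (f g)⁻¹ * f h * f g * a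
        have h3 : f (h : G) * (f g * a * (f g)⁻¹) = (f g * a * (f g)⁻¹) * f (h : G) := by
          have e1 : f (h : G) * (f g * a * (f g)⁻¹) =
              f g * (((f g)⁻¹ * f (h : G) * f g) * a) * (f g)⁻¹ := by group
          have e2 : (f g * a * (f g)⁻¹) * f (h : G) =
              f g * (a * ((f g)⁻¹ * f (h : G) * f g)) * (f g)⁻¹ := by group
          rw [e1, e2, h2]
        exact h3
      have hncl : Subgroup.normalClosure ({x} : Set (G ⧸ M)) ≠ ⊥ := by
        intro hbot
        apply hx1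
        have : x ∈ Subgroup.normalClosure ({x} : Set (G ⧸ M)) :=
          Subgroup.subset_normalClosure (Set.mem_singleton x)
        rw [hbot, Subgroup.mem_bot] at this
        exact this
      have hcle := (hmin _ (inferInstance : (Subgroup.normalClosure
        ({x} : Set (G ⧸ M))).Normal) hncl).trans hle
      have hfC : f (h : G) ∈ Subgroup.centralizer (commutator (G ⧸ M) : Set (G ⧸ M)) := by
        rw [Subgroup.mem_centralizer_iff]
        intro y hy
        have := hcle hy
        rw [Subgroup.mem_centralizer_iff] at this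
        exact (this _ rfl).symm
      rw [hC, Subgroup.mem_bot] at hfC
      exact (QuotientGroup.eq_one_iff _).mp hfC
    have hrel : M.relIndex H ≤ bdeg G ^ 2 := by
      have := index_le_of_vanish hψ (M.subgroupOf H) hvan
      rw [hψdeg] at this
      exact this
    have hMidx : M.index = M.relIndex H * H.index := (Subgroup.relIndex_mul_index hMH).symm
    have h2c := two_mul_bdeg_le M hMc
    refine ⟨M, fun h => hMc (h ▸ le_top), ?_⟩
    have h4 : M.index ≤ bdeg G ^ 4 := by
      rw [hMidx]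
      calc M.relIndex H * H.index ≤ bdeg G ^ 2 * bdeg G ^ 2 := Nat.mul_le_mul hrel hidx
        _ = bdeg G ^ 4 := by ring
    calc M.index * ((bdeg M) !) ^ 2 ≤ bdeg G ^ 4 * ((bdeg M) !) ^ 2 :=
          Nat.mul_le_mul_right _ h4
      _ ≤ ((bdeg G) !) ^ 2 := arith_five h5 h2c

end centerless

end Cfsg.Agent.Lib.H26.IsaPass
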