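import Mathlib
import Cfsg.Prelude
import Cfsg.Agent.Lib.H26.IsaPassA
import Cfsg.Agent.Lib.H23.DetChar
import Cfsg.Agent.Lib.H24.PGalConj1
import Cfsg.Agent.Lib.H1.TDMain

/-!
# Isaacs–Passman, part G (helper26): a nontrivial perfect group has an irreducible character
of degree at least 5.
-/

set_option autoImplicit false

universe u

namespace Cfsg.Agent.Lib.H26.IsaPass

open Cfsg Cfsg.Agent.Lib.L0 Cfsg.Agent.Lib.H23 Cfsg.Agent.Lib.H24
open scoped ComplexConjugate

/-- A `2 × 2` complex matrix of determinant one squaring to one is scalar. -/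
theorem scalar_of_sq_eq_one (M : Matrix (Fin 2) (Fin 2) ℂ) (h2 : M * M = 1) (hd : M.det = 1) :
    ∃ s : ℂ, M = s • (1 : Matrix (Fin 2) (Fin 2) ℂ) := by
  have hch := Matrix.aeval_self_charpoly M
  rw [Matrix.charpoly_fin_two, hd] at hch
  simp only [map_add, map_sub, map_mul, map_pow, Polynomial.aeval_X, Polynomial.aeval_C,
    map_one] at hch
  rw [sq, h2] at hch
  have h3 : (algebraMap ℂ (Matrix (Fin 2) (Fin 2) ℂ)) M.trace * M = (2 : ℂ) • 1 := by
    have : (1 : Matrix (Fin 2) (Fin 2) ℂ) -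
        (algebraMap ℂ (Matrix (Fin 2) (Fin 2) ℂ)) M.trace * M + 1 = 0 := hch
    have e : (algebraMap ℂ (Matrix (Fin 2) (Fin 2) ℂ)) M.trace * M =
      1 + 1 - ((1 : Matrix (Fin 2) (Fin 2) ℂ) -
        (algebraMap ℂ (Matrix (Fin 2) (Fin 2) ℂ)) M.trace * M + 1) := by abel
    rw [e, this, sub_zero, two_smul]
  have h4 : M.trace • M = (2 : ℂ) • 1 := by
    rw [← h3, Algebra.algebraMap_eq_smul_one, Matrix.smul_mul, Matrix.one_mul]
  have ht : M.trace ≠ 0 := by
    intro h0
    rw [h0, zero_smul] at h4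
    have := congrFun (congrFun h4 0) 0
    simp at this
  refine ⟨M.trace⁻¹ * 2, ?_⟩
  have h5 : M = (M.trace)⁻¹ • (M.trace • M) := by
    rw [smul_smul, inv_mul_cancel₀ ht, one_smul]
  rw [← smul_smul, ← h4]
  exact h5

/-- The same for linear maps of `Fin 2 → ℂ`. -/
theorem scalar_of_sq_eq_one' (f : (Fin 2 → ℂ) →ₗ[ℂ] (Fin 2 → ℂ)) (h2 : f * f = 1)
    (hd : LinearMap.det f = 1) : ∃ s : ℂ, f = s • (1 : (Fin 2 → ℂ) →ₗ[ℂ] (Fin 2 → ℂ)) := by
  have hM2 : LinearMap.toMatrix' f * LinearMap.toMatrix' f = 1 := by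
    rw [← LinearMap.toMatrix'_mul, h2, LinearMap.toMatrix'_one]
  have hMd : (LinearMap.toMatrix' f).det = 1 := by
    rw [LinearMap.det_toMatrix', hd]
  obtain ⟨s, hs⟩ := scalar_of_sq_eq_one _ hM2 hMd
  refine ⟨s, ?_⟩
  apply LinearMap.toMatrix'.injective
  rw [hs, map_smul, LinearMap.toMatrix'_one]

section perfect

variable {P : Type u} [Group P] [Finite P]

theorem derivedSeries_eq_top_of_perfect (hP : commutator P = ⊤) (n : ℕ) :
    derivedSeries P n = ⊤ := by
  induction n with
  | zero => rfl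
  | succ n ih =>
    rw [derivedSeries_succ, ih]
    exact hP

theorem commutator_quotient_eq_top (hP : commutator P = ⊤) (L : Subgroup P) [L.Normal] :
    commutator (P ⧸ L) = ⊤ := by
  have h := Subgroup.map_commutator (⊤ : Subgroup P) ⊤ (QuotientGroup.mk' L)
  rw [← MonoidHom.range_eq_map, MonoidHom.range_eq_top.mpr (QuotientGroup.mk'_surjective L),
    ← commutator_def, ← commutator_def, hP, ← MonoidHom.range_eq_map,
    MonoidHom.range_eq_top.mpr (QuotientGroup.mk'_surjective L)] at h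
  exact h.symm

end perfect

end Cfsg.Agent.Lib.H26.IsaPass

namespace Cfsg.Agent.Lib.H26.IsaPass

open Cfsg Cfsg.Agent.Lib.L0 Cfsg.Agent.Lib.H23 Cfsg.Agent.Lib.H24

section perfect2

variable {P : Type u} [Group P] [Finite P]

/-- An involution lies in the centre of every irreducible character of degree two of a
perfect group. -/
theorem mem_Zc_of_degree_two (hP : commutator P = ⊤) (χ : IrrCharacter P)
    (h2 : charDegree (χ : P → ℂ) = 2) (τ : P) (hτ : τ * τ = 1) : τ ∈ PGalConj.Zc χ := by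
  obtain ⟨n, ρ, hirr, hρ⟩ := χ.2
  have hn : n = 2 := by
    have h1 := H23.apply_one_eq_charDegree (χ : P → ℂ) χ.2
    rw [h2, ← hρ, Representation.char_one, Module.finrank_fin_fun] at h1
    exact_mod_cast h1
  subst hn
  have hdet : ∀ g : P, LinearMap.det (ρ g) = 1 := by
    intro g
    have hg : g ∈ (detHom ρ).ker :=
      Abelianization.commutator_subset_ker (detHom ρ) (by rw [hP]; trivial)
    have h := MonoidHom.mem_ker.mp hg
    rw [← detHom_apply, h]
    rfl
  have hsq : ρ τ * ρ τ = 1 := by rw [← map_mul, hτ, map_one]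
  obtain ⟨s, hs⟩ := scalar_of_sq_eq_one' (ρ τ) hsq (hdet τ)
  rw [PGalConj.mem_Zc]
  intro g
  have hcomm : ρ (τ * g) = ρ (g * τ) := by
    rw [map_mul, map_mul, hs, smul_mul_assoc, mul_smul_comm, one_mul, mul_one]
  have h1 : ρ (τ * g * τ⁻¹ * g⁻¹) = ρ 1 := by
    have e : τ * g * τ⁻¹ * g⁻¹ = (τ * g) * (τ⁻¹ * g⁻¹) := by group
    rw [e, map_mul, hcomm, ← map_mul]
    have e2 : g * τ * (τ⁻¹ * g⁻¹) = 1 := by group
    rw [e2]
  rw [← hρ]
  unfold Representation.character
  rw [h1]

end perfect2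

end Cfsg.Agent.Lib.H26.IsaPass

namespace Cfsg.Agent.Lib.H26.IsaPass

open Cfsg Cfsg.Agent.Lib.L0 Cfsg.Agent.Lib.H23 Cfsg.Agent.Lib.H24

theorem five_le_bdeg_aux : ∀ (n : ℕ) (P : Type u) [Group P] [Finite P], Nat.card P = n →
    commutator P = ⊤ → Nontrivial P → 5 ≤ bdeg P := by
  intro n
  induction n using Nat.strong_induction_on with
  | _ n ih =>
    intro P _ _ hn hP hnt
    by_contra hlt
    push_neg at hlt
    by_cases h2 : ∃ χ : IrrCharacter P, charDegree (χ : P → ℂ) = 2
    · obtain ⟨χ, h2⟩ := h2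
      have hdvd : 2 ∣ Nat.card P := by
        have := H23.charDegree_dvd_card (χ : P → ℂ) χ.2
        rwa [h2] at this
      haveI : Fact (Nat.Prime 2) := ⟨Nat.prime_two⟩
      obtain ⟨τ, hτ⟩ := exists_prime_orderOf_dvd_card' 2 hdvd
      have hττ : τ * τ = 1 := by rw [← sq, ← hτ, pow_orderOf_eq_one]
      have hτ1 : τ ≠ 1 := by
        intro h
        rw [h, orderOf_one] at hτ
        omega
      have hmem := mem_Zc_of_degree_two hP χ h2 τ hττ
      have hLbot : PGalConj.Zc χ ≠ ⊥ := by
        intro h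
        rw [h, Subgroup.mem_bot] at hmem
        exact hτ1 hmem
      have hLtop : PGalConj.Zc χ ≠ ⊤ := by
        intro h
        have hle : commutator P ≤ PGalConj.ker χ := by
          rw [commutator_eq_closure, Subgroup.closure_le]
          rintro _ ⟨a, b, rfl⟩
          have ha : a ∈ PGalConj.Zc χ := by rw [h]; trivial
          have := PGalConj.mem_Zc.mp ha b
          exact PGalConj.mem_ker.mpr this
        have := PGalConj.linear_of_commutator_le_ker χ hle
        omega
      have hQ : commutator (P ⧸ PGalConj.Zc χ) = ⊤ := commutator_quotient_eq_top hP _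
      have hQnt : Nontrivial (P ⧸ PGalConj.Zc χ) := by
        by_contra hns
        rw [not_nontrivial_iff_subsingleton] at hns
        exact hLtop (QuotientGroup.subgroup_eq_top_of_subsingleton _ hns)
      have hcard : Nat.card (P ⧸ PGalConj.Zc χ) < n := by
        have h1 := Subgroup.card_eq_card_quotient_mul_card_subgroup (PGalConj.Zc χ)
        have h2 : 1 < Nat.card (PGalConj.Zc χ) := (Subgroup.one_lt_card_iff_ne_bot _).mpr hLbot
        have h3 : 0 < Nat.card (P ⧸ PGalConj.Zc χ) := Nat.card_pos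
        rw [← hn, h1]
        nlinarith
      have h5 := ih _ hcard (P ⧸ PGalConj.Zc χ) rfl hQ hQnt
      have h6 := bdeg_quotient_le (PGalConj.Zc χ)
      omega
    · have hcd : Cfsg.Agent.Lib.H1.TD.cd P ⊆ {1, 3, 4} := by
        rintro d ⟨χ, rfl⟩
        have h1 := H24.charDegree_pos χ
        have h4 := charDegree_le_bdeg χ.2
        have h5 : charDegree (χ : P → ℂ) ≠ 2 := fun h => h2 ⟨χ, h⟩
        simp only [Set.mem_insert_iff, Set.mem_singleton_iff]
        omega
      have h3 := Cfsg.Agent.Lib.H1.TD.three_degrees hcd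
      rw [derivedSeries_eq_top_of_perfect hP] at h3
      have hss : Subsingleton P :=
        Subgroup.subsingleton_iff.mp (subsingleton_iff_bot_eq_top.mp h3.symm)
      exact absurd hss (not_subsingleton P)

/-- A nontrivial perfect finite group has an irreducible character of degree at least `5`. -/
theorem five_le_bdeg_of_perfect {P : Type u} [Group P] [Finite P] (hP : commutator P = ⊤)
    (hnt : Nontrivial P) : 5 ≤ bdeg P :=
  five_le_bdeg_aux (Nat.card P) P rfl hP hnt

end Cfsg.Agent.Lib.H26.IsaPass
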