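import Mathlib
import Cfsg.Prelude
import Cfsg.Agent.Lib.H26.IsaPassA
import Cfsg.Agent.Lib.H26.IsaPassD
import Cfsg.Agent.Lib.H26.IsaPassE
import Cfsg.Agent.Lib.H26.IsaPassF
import Cfsg.Agent.Lib.H26.IsaPassG
import Cfsg.Agent.Lib.H26.DegGraphA
import Cfsg.Agent.Lib.H1.TDQuot

/-!
# Isaacs–Passman, part H (helper26): a finite group whose irreducible character degrees are at
most `b` has an abelian subgroup of index at most `(b!)²` (Isaacs, Theorem 12.26).
-/

set_option autoImplicit false

universe u

namespace Cfsg.Agent.Lib.H26.IsaPass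

open Cfsg Cfsg.Agent.Lib.L0 Cfsg.Agent.Lib.H23 Cfsg.Agent.Lib.H24
open Cfsg.Agent.Lib.H26.DegGraph
open scoped Nat commutatorElement

/-- If the commutator subgroup is the unique minimal normal subgroup and is nonabelian, then it
is perfect. -/
theorem commutator_commutator_eq_top {Q : Type u} [Group Q] (hU : UniqueMinComm Q)
    (hna : ¬ ∀ a ∈ commutator Q, ∀ b ∈ commutator Q, a * b = b * a) :
    commutator (commutator Q) = ⊤ := by
  obtain ⟨hcne, hmin⟩ := hU
  have hne : ⁅commutator Q, commutator Q⁆ ≠ ⊥ := by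
    intro h
    apply hna
    intro a ha b hb
    have h1 : ⁅a, b⁆ ∈ ⁅commutator Q, commutator Q⁆ := Subgroup.commutator_mem_commutator ha hb
    rw [h, Subgroup.mem_bot] at h1
    exact commutatorElement_eq_one_iff_mul_comm.mp h1
  have hle := hmin _ (inferInstance : (⁅commutator Q, commutator Q⁆).Normal) hne
  apply Subgroup.map_injective (commutator Q).subtype_injective
  rw [Subgroup.map_subtype_commutator, ← MonoidHom.range_eq_map, Subgroup.range_subtype]
  exact le_antisymm (Subgroup.commutator_le_self _) hle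

theorem isSolvable_of_commutator_abelian {Q : Type u} [Group Q]
    (hab : ∀ a ∈ commutator Q, ∀ b ∈ commutator Q, a * b = b * a) : Group.IsSolvable Q := by
  rw [Group.isSolvable_def]
  refine ⟨2, ?_⟩
  rw [derivedSeries_succ, derivedSeries_one, Subgroup.commutator_eq_bot_iff_le_centralizer]
  intro a ha
  rw [Subgroup.mem_centralizer_iff]
  intro b hb
  exact hab b hb a ha

/-- The inductive step of the Isaacs–Passman theorem. -/
theorem exists_subgroup_step {G : Type u} [Group G] [Fintype G] (hG : commutator G ≠ ⊥) :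
    ∃ H : Subgroup G, H ≠ ⊤ ∧ H.index * ((bdeg H) !) ^ 2 ≤ ((bdeg G) !) ^ 2 := by
  classical
  obtain ⟨M, hMn, hMc, hU⟩ := Cfsg.Agent.Lib.H1.TD.exists_normal_umc hG
  have := hMn
  have hnt : Nontrivial (G ⧸ M) := by
    by_contra hnt
    rw [not_nontrivial_iff_subsingleton] at hnt
    apply hU.1
    exact Subsingleton.elim _ _
  by_cases hZ : Subgroup.center (G ⧸ M) = ⊥
  · by_cases hab : ∀ a ∈ commutator (G ⧸ M), ∀ b ∈ commutator (G ⧸ M), a * b = b * a
    · haveI : Group.IsSolvable (G ⧸ M) := isSolvable_of_commutator_abelian hab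
      obtain ⟨q, hq, hcase⟩ := Cfsg.Agent.Lib.H1.TD.pullback_umc M hU
      rcases hcase with ⟨k, hk⟩ | ⟨N, hNn, hMN, hne, hNtop, hcN, habN, hexp, hfp⟩
      · exfalso
        haveI : Fact q.Prime := ⟨hq⟩
        have hp : IsPGroup q (G ⧸ M) := by
          apply IsPGroup.of_card (n := k)
          rw [← Subgroup.index_eq_card, hk]
        have h1 := hp.center_nontrivial
        rw [hZ] at h1
        exact not_nontrivial _ h1
      · have := hNn
        exact frobenius_case M N hMN hne hNtop hMc habN q hq hexp hfp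
    · have hperf := commutator_commutator_eq_top hU hab
      have hPnt : Nontrivial (commutator (G ⧸ M)) := by
        rw [Subgroup.nontrivial_iff_ne_bot]
        exact hU.1
      have h5 := five_le_bdeg_of_perfect hperf hPnt
      have h6 := bdeg_subgroup_le (commutator (G ⧸ M))
      have h7 := bdeg_quotient_le M
      exact centerless_case M hMc hU hab (by omega)
  · obtain ⟨H, hH, hidx, hlt⟩ := central_case M hU hZ
    refine ⟨H, hH, ?_⟩
    calc H.index * ((bdeg H) !) ^ 2 ≤ bdeg G ^ 2 * ((bdeg H) !) ^ 2 :=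
          Nat.mul_le_mul_right _ hidx
      _ ≤ ((bdeg G) !) ^ 2 := arith_lt one_le_bdeg hlt

theorem exists_abelian_aux : ∀ (n : ℕ) (G : Type u) [Group G] [Finite G], Nat.card G = n →
    ∃ A : Subgroup G, (∀ x ∈ A, ∀ y ∈ A, x * y = y * x) ∧ A.index ≤ ((bdeg G) !) ^ 2 := by
  intro n
  induction n using Nat.strong_induction_on with
  | _ n ih =>
    intro G _ _ hn
    classical
    have : Fintype G := Fintype.ofFinite G
    by_cases hG : commutator G = ⊥
    · refine ⟨⊤, ?_, ?_⟩
      · intro x _ y _
        have h1 : ⁅x, y⁆ ∈ commutator G :=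
          Subgroup.commutator_mem_commutator (Subgroup.mem_top x) (Subgroup.mem_top y)
        rw [hG, Subgroup.mem_bot] at h1
        exact commutatorElement_eq_one_iff_mul_comm.mp h1
      · rw [Subgroup.index_top]
        exact Nat.one_le_pow _ _ (Nat.factorial_pos _)
    · obtain ⟨H, hH, hle⟩ := exists_subgroup_step hG
      have hcard : Nat.card H < n := by
        rw [← hn]
        have h1 := H.card_mul_index
        have h2 : 1 < H.index := by
          have h3 : H.index ≠ 1 := fun h => hH (Subgroup.index_eq_one.mp h)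
          have h4 : H.index ≠ 0 := Subgroup.index_ne_zero_of_finite
          omega
        have h3 : 0 < Nat.card H := Nat.card_pos
        nlinarith
      obtain ⟨A', hA', hidx'⟩ := ih _ hcard H rfl
      refine ⟨A'.map H.subtype, ?_, ?_⟩
      · rintro _ ⟨x, hx, rfl⟩ _ ⟨y, hy, rfl⟩
        have h1 := hA' x hx y hy
        rw [← map_mul, ← map_mul, h1]
      · rw [Subgroup.index_map_subtype]
        calc A'.index * H.index ≤ ((bdeg H) !) ^ 2 * H.index := Nat.mul_le_mul_right _ hidx'
          _ = H.index * ((bdeg H) !) ^ 2 := mul_comm _ _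
          _ ≤ ((bdeg G) !) ^ 2 := hle

/-- **Isaacs–Passman** (Isaacs 12.26). -/
theorem exists_abelian_index_le {G : Type u} [Group G] [Finite G] :
    ∃ A : Subgroup G, (∀ x ∈ A, ∀ y ∈ A, x * y = y * x) ∧ A.index ≤ ((bdeg G) !) ^ 2 :=
  exists_abelian_aux (Nat.card G) G rfl

end Cfsg.Agent.Lib.H26.IsaPass
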