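import Mathlib
import Cfsg.Agent.Lib.H7.K4Defs
import Cfsg.Agent.Lib.H8.GenChar

/-!
# S3805 piece PARS (helper7 blueprint): Parseval for two generalized characters
-/

set_option autoImplicit false

namespace Cfsg.Agent.Lib.H26.K4

open Cfsg Cfsg.Agent.Lib.H7.K4
open scoped ComplexConjugate
open Cfsg.Agent.Lib.L0 Cfsg.Agent.Lib.H24 Cfsg.Agent.Lib.H8

section ind
variable {G : Type*} [Group G] [Fintype G]

/-- PARS.  Parseval for two generalized characters. -/
theorem sum_mul_of_genChar [Fintype (IrrCharacter G)] {θ θ' : G → ℂ}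
    (hθ : IsGeneralizedCharacter G θ) (hθ' : IsGeneralizedCharacter G θ')
    (c c' : IrrCharacter G → ℤ)
    (hc : ∀ ξ : IrrCharacter G, classInner θ (ξ : G → ℂ) = c ξ)
    (hc' : ∀ ξ : IrrCharacter G, classInner θ' (ξ : G → ℂ) = c' ξ) :
    classInner θ θ' = ((∑ ξ : IrrCharacter G, c ξ * c' ξ : ℤ) : ℂ) := by
  conv_lhs => rw [genChar_expansion hθ c hc]
  rw [classInner_sum_left]
  push_cast
  apply Finset.sum_congr rfl
  intro ξ _
  rw [classInner_smul_left]
  have h2 : Cfsg.classInner (ξ : G → ℂ) θ' = (c' ξ : ℂ) := by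
    rw [← classInner_conj_symm, hc', map_intCast]
  rw [h2]

end ind

end Cfsg.Agent.Lib.H26.K4
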