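import Mathlib
import Cfsg.Agent.Lib.H7.K4Defs
import Cfsg.Agent.Lib.H8.DadeInd
import Cfsg.Agent.Lib.H8.GenChar
import Cfsg.Agent.Lib.L0.CharOps
import Cfsg.Agent.Lib.H26.K4PARS

/-!
# S3805 piece TAB (helper7 blueprint), abstract form: the table `t, a, b` from the other pieces
-/

set_option autoImplicit false
set_option maxRecDepth 100000

namespace Cfsg.Agent.Lib.H26.K4

open Cfsg Cfsg.Agent.Lib.H7.K4
open scoped ComplexConjugate
open Cfsg.Agent.Lib.L0 Cfsg.Agent.Lib.H24 Cfsg.Agent.Lib.H8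

theorem gam0_conj : ∀ s t : S33, gam0 (t * s * t⁻¹) = gam0 s := by decide
theorem r0_conj : ∀ s t : S33, r0 (t * s * t⁻¹) = r0 s := by decide
theorem c0_conj : ∀ s t : S33, c0 (t * s * t⁻¹) = c0 s := by decide
theorem gam0_zero : ∀ s : S33, s ^ 4 = 1 → gam0 s = 0 := by decide
theorem r0_zero : ∀ s : S33, s ^ 4 = 1 → r0 s = 0 := by decide
theorem c0_zero : ∀ s : S33, s ^ 4 = 1 → c0 s = 0 := by decide


section ind
variable {G : Type*} [Group G] [Fintype G]

theorem conj_eq_intCast {w : ℂ} {k : ℤ} (hw : conj w = (k : ℂ)) : w = (k : ℂ) := by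
  have := congrArg conj hw
  rwa [Complex.conj_conj, map_intCast] at this

/-- TAB, from the other pieces as hypotheses. -/
theorem exists_tab_of (h : Hyp G) [Fintype (IrrCharacter G)]
    (LOC1 : IsGeneralizedCharacter S33 (toC gam0) ∧ IsGeneralizedCharacter S33 (toC r0) ∧
      IsGeneralizedCharacter S33 (toC c0))
    (LOC2 : classInner (toC gam0) (toC gam0) = 9 ∧ classInner (toC r0) (toC r0) = 3 ∧
      classInner (toC c0) (toC c0) = 3 ∧ classInner (toC r0) (toC c0) = 1 ∧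
      classInner (toC gam0) (toC r0) = 3 ∧ classInner (toC gam0) (toC c0) = 3)
    (LOC3 : ∀ F : S33 → ℂ, IsClassFunction S33 F →
      classInner (toC gam0) F = conj (F (c3, c3)) ∧
      classInner (toC r0) F = (conj (F (c3, c3)) - conj (F (c3, 1))) / 3 ∧
      classInner (toC c0) F = (conj (F (c3, c3)) - conj (F (1, c3))) / 3)
    (TR : ∀ f : S33 → ℤ, IsGeneralizedCharacter S33 (toC f) →
      IsGeneralizedCharacter ↥h.N (h.pull f))
    (IND1 : ∀ f g : S33 → ℤ, (∀ s t : S33, g (t * s * t⁻¹) = g s) →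
      (∀ s : S33, s ^ 4 = 1 → f s = 0) → (∀ s : S33, s ^ 4 = 1 → g s = 0) →
      classInner (indFun h.N (h.pull f)) (indFun h.N (h.pull g)) = classInner (toC f) (toC g))
    (IND2 : ∀ (f : S33 → ℤ) (F : G → ℂ), IsClassFunction G F →
      classInner (indFun h.N (h.pull f)) F = classInner (toC f) (fun s => F (h.el s)) ∧
      IsClassFunction S33 (fun s => F (h.el s))) :
    ∃ t a b : IrrCharacter G → ℤ,
      (∀ χ : IrrCharacter G, (χ : G → ℂ) h.z = (t χ : ℂ)) ∧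
      (∀ χ : IrrCharacter G, (χ : G → ℂ) h.x = ((t χ - 3 * a χ : ℤ) : ℂ)) ∧
      (∀ χ : IrrCharacter G, (χ : G → ℂ) h.y = ((t χ - 3 * b χ : ℤ) : ℂ)) ∧
      ∑ χ : IrrCharacter G, t χ ^ 2 = 9 ∧ ∑ χ : IrrCharacter G, a χ ^ 2 = 3 ∧
      ∑ χ : IrrCharacter G, b χ ^ 2 = 3 ∧ ∑ χ : IrrCharacter G, a χ * b χ = 1 ∧
      ∑ χ : IrrCharacter G, t χ * a χ = 3 ∧ ∑ χ : IrrCharacter G, t χ * b χ = 3 ∧
      t ⟨1, Cfsg.Agent.Lib.L0.isIrrCharacter_one⟩ = 1 ∧
      a ⟨1, Cfsg.Agent.Lib.L0.isIrrCharacter_one⟩ = 0 ∧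
      b ⟨1, Cfsg.Agent.Lib.L0.isIrrCharacter_one⟩ = 0 := by
  classical
  have hΓg : IsGeneralizedCharacter G (indFun h.N (h.pull gam0)) :=
    isGeneralizedCharacter_indFun' h.N (TR gam0 LOC1.1)
  have hRg : IsGeneralizedCharacter G (indFun h.N (h.pull r0)) :=
    isGeneralizedCharacter_indFun' h.N (TR r0 LOC1.2.1)
  have hCg : IsGeneralizedCharacter G (indFun h.N (h.pull c0)) :=
    isGeneralizedCharacter_indFun' h.N (TR c0 LOC1.2.2)
  have ht : ∀ ξ : IrrCharacter G, ∃ c : ℤ,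
      classInner (indFun h.N (h.pull gam0)) (ξ : G → ℂ) = c :=
    fun ξ => genChar_classInner_irr_int hΓg ξ.2
  have ha : ∀ ξ : IrrCharacter G, ∃ c : ℤ,
      classInner (indFun h.N (h.pull r0)) (ξ : G → ℂ) = c :=
    fun ξ => genChar_classInner_irr_int hRg ξ.2
  have hb : ∀ ξ : IrrCharacter G, ∃ c : ℤ,
      classInner (indFun h.N (h.pull c0)) (ξ : G → ℂ) = c :=
    fun ξ => genChar_classInner_irr_int hCg ξ.2
  choose t ht using ht
  choose a ha using ha
  choose b hb using hb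
  -- values
  have hz : ∀ χ : IrrCharacter G, (χ : G → ℂ) h.z = (t χ : ℂ) := by
    intro χ
    have hcl : IsClassFunction G (χ : G → ℂ) :=
      isClassFunction_of_isCharacter (isCharacter_of_irr χ.2)
    obtain ⟨h1, h2⟩ := IND2 gam0 (χ : G → ℂ) hcl
    obtain ⟨l1, -, -⟩ := LOC3 _ h2
    rw [ht χ, l1] at h1
    exact conj_eq_intCast h1.symm
  have hx : ∀ χ : IrrCharacter G, (χ : G → ℂ) h.x = ((t χ - 3 * a χ : ℤ) : ℂ) := by
    intro χ
    have hcl : IsClassFunction G (χ : G → ℂ) :=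
      isClassFunction_of_isCharacter (isCharacter_of_irr χ.2)
    obtain ⟨h1, h2⟩ := IND2 r0 (χ : G → ℂ) hcl
    obtain ⟨-, l2, -⟩ := LOC3 _ h2
    rw [ha χ, l2] at h1
    have hz' : conj ((χ : G → ℂ) (h.el (c3, c3))) = (t χ : ℂ) := by
      have := hz χ
      unfold Hyp.z at this
      rw [this, map_intCast]
    rw [hz'] at h1
    have h3 : conj ((χ : G → ℂ) (h.el (c3, 1))) = ((t χ - 3 * a χ : ℤ) : ℂ) := by
      push_cast
      linear_combination (3 : ℂ) * h1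
    exact conj_eq_intCast h3
  have hy : ∀ χ : IrrCharacter G, (χ : G → ℂ) h.y = ((t χ - 3 * b χ : ℤ) : ℂ) := by
    intro χ
    have hcl : IsClassFunction G (χ : G → ℂ) :=
      isClassFunction_of_isCharacter (isCharacter_of_irr χ.2)
    obtain ⟨h1, h2⟩ := IND2 c0 (χ : G → ℂ) hcl
    obtain ⟨-, -, l3⟩ := LOC3 _ h2
    rw [hb χ, l3] at h1
    have hz' : conj ((χ : G → ℂ) (h.el (c3, c3))) = (t χ : ℂ) := by
      have := hz χ
      unfold Hyp.z at this
      rw [this, map_intCast]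
    rw [hz'] at h1
    have h3 : conj ((χ : G → ℂ) (h.el (1, c3))) = ((t χ - 3 * b χ : ℤ) : ℂ) := by
      push_cast
      linear_combination (3 : ℂ) * h1
    exact conj_eq_intCast h3
  -- Gram sums
  have s1 : ∑ χ : IrrCharacter G, t χ ^ 2 = 9 := by
    have := sum_mul_of_genChar hΓg hΓg t t ht ht
    rw [IND1 gam0 gam0 gam0_conj gam0_zero gam0_zero, LOC2.1] at this
    have h9 : ((∑ ξ : IrrCharacter G, t ξ * t ξ : ℤ) : ℂ) = ((9 : ℤ) : ℂ) := by
      rw [← this]; norm_num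
    have := Int.cast_injective h9
    rw [← this]
    exact Finset.sum_congr rfl fun _ _ => by ring
  have s2 : ∑ χ : IrrCharacter G, a χ ^ 2 = 3 := by
    have := sum_mul_of_genChar hRg hRg a a ha ha
    rw [IND1 r0 r0 r0_conj r0_zero r0_zero, LOC2.2.1] at this
    have h9 : ((∑ ξ : IrrCharacter G, a ξ * a ξ : ℤ) : ℂ) = ((3 : ℤ) : ℂ) := by
      rw [← this]; norm_num
    have := Int.cast_injective h9
    rw [← this]
    exact Finset.sum_congr rfl fun _ _ => by ring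
  have s3 : ∑ χ : IrrCharacter G, b χ ^ 2 = 3 := by
    have := sum_mul_of_genChar hCg hCg b b hb hb
    rw [IND1 c0 c0 c0_conj c0_zero c0_zero, LOC2.2.2.1] at this
    have h9 : ((∑ ξ : IrrCharacter G, b ξ * b ξ : ℤ) : ℂ) = ((3 : ℤ) : ℂ) := by
      rw [← this]; norm_num
    have := Int.cast_injective h9
    rw [← this]
    exact Finset.sum_congr rfl fun _ _ => by ring
  have s4 : ∑ χ : IrrCharacter G, a χ * b χ = 1 := by
    have := sum_mul_of_genChar hRg hCg a b ha hb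
    rw [IND1 r0 c0 c0_conj r0_zero c0_zero, LOC2.2.2.2.1] at this
    have h9 : ((∑ ξ : IrrCharacter G, a ξ * b ξ : ℤ) : ℂ) = ((1 : ℤ) : ℂ) := by
      rw [← this]; norm_num
    exact Int.cast_injective h9
  have s5 : ∑ χ : IrrCharacter G, t χ * a χ = 3 := by
    have := sum_mul_of_genChar hΓg hRg t a ht ha
    rw [IND1 gam0 r0 r0_conj gam0_zero r0_zero, LOC2.2.2.2.2.1] at this
    have h9 : ((∑ ξ : IrrCharacter G, t ξ * a ξ : ℤ) : ℂ) = ((3 : ℤ) : ℂ) := by
      rw [← this]; norm_num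
    exact Int.cast_injective h9
  have s6 : ∑ χ : IrrCharacter G, t χ * b χ = 3 := by
    have := sum_mul_of_genChar hΓg hCg t b ht hb
    rw [IND1 gam0 c0 c0_conj gam0_zero c0_zero, LOC2.2.2.2.2.2] at this
    have h9 : ((∑ ξ : IrrCharacter G, t ξ * b ξ : ℤ) : ℂ) = ((3 : ℤ) : ℂ) := by
      rw [← this]; norm_num
    exact Int.cast_injective h9
  -- the trivial character
  have o1 : t ⟨1, Cfsg.Agent.Lib.L0.isIrrCharacter_one⟩ = 1 := by
    have := hz ⟨1, Cfsg.Agent.Lib.L0.isIrrCharacter_one⟩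
    simp only [Pi.one_apply] at this
    have h9 : ((t ⟨1, Cfsg.Agent.Lib.L0.isIrrCharacter_one⟩ : ℤ) : ℂ) = ((1 : ℤ) : ℂ) := by
      rw [← this]; norm_num
    exact Int.cast_injective h9
  have o2 : a ⟨1, Cfsg.Agent.Lib.L0.isIrrCharacter_one⟩ = 0 := by
    have := hx ⟨1, Cfsg.Agent.Lib.L0.isIrrCharacter_one⟩
    simp only [Pi.one_apply] at this
    have h9 : (((t ⟨1, Cfsg.Agent.Lib.L0.isIrrCharacter_one⟩ -
        3 * a ⟨1, Cfsg.Agent.Lib.L0.isIrrCharacter_one⟩ : ℤ)) : ℂ) = ((1 : ℤ) : ℂ) := by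
      rw [← this]; norm_num
    have := Int.cast_injective h9
    omega
  have o3 : b ⟨1, Cfsg.Agent.Lib.L0.isIrrCharacter_one⟩ = 0 := by
    have := hy ⟨1, Cfsg.Agent.Lib.L0.isIrrCharacter_one⟩
    simp only [Pi.one_apply] at this
    have h9 : (((t ⟨1, Cfsg.Agent.Lib.L0.isIrrCharacter_one⟩ -
        3 * b ⟨1, Cfsg.Agent.Lib.L0.isIrrCharacter_one⟩ : ℤ)) : ℂ) = ((1 : ℤ) : ℂ) := by
      rw [← this]; norm_num
    have := Int.cast_injective h9
    omega
  exact ⟨t, a, b, hz, hx, hy, s1, s2, s3, s4, s5, s6, o1, o2, o3⟩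

end ind

end Cfsg.Agent.Lib.H26.K4
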