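import Mathlib
import Cfsg.Agent.Lib.H7.K4Defs
import Cfsg.Agent.Lib.H26.K4TABAux
import Cfsg.Agent.Lib.H3.K4LOC1
import Cfsg.Agent.Lib.H3.K4LOC2
import Cfsg.Agent.Lib.H3.K4LOC3
import Cfsg.Agent.Lib.H1.K4IND

/-!
# S3805 piece TAB (helper7 blueprint): the table `t, a, b`
-/

set_option autoImplicit false

namespace Cfsg.Agent.Lib.H26.K4

open Cfsg Cfsg.Agent.Lib.H7.K4
open scoped ComplexConjugate

section ind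
variable {G : Type*} [Group G] [Fintype G]

/-- TAB.  The table: `t χ = ⟨Γ, χ⟩`, `a χ = ⟨R, χ⟩`, `b χ = ⟨C, χ⟩` with
`Γ, R, C = indFun N (pull gam0 / r0 / c0)`.  From LOC1-3, TR, IND1-2, PARS. -/
theorem exists_tab (h : Hyp G) [Fintype (IrrCharacter G)] :
    ∃ t a b : IrrCharacter G → ℤ,
      (∀ χ : IrrCharacter G, (χ : G → ℂ) h.z = (t χ : ℂ)) ∧
      (∀ χ : IrrCharacter G, (χ : G → ℂ) h.x = ((t χ - 3 * a χ : ℤ) : ℂ)) ∧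
      (∀ χ : IrrCharacter G, (χ : G → ℂ) h.y = ((t χ - 3 * b χ : ℤ) : ℂ)) ∧
      ∑ χ : IrrCharacter G, t χ ^ 2 = 9 ∧ ∑ χ : IrrCharacter G, a χ ^ 2 = 3 ∧
      ∑ χ : IrrCharacter G, b χ ^ 2 = 3 ∧ ∑ χ : IrrCharacter G, a χ * b χ = 1 ∧
      ∑ χ : IrrCharacter G, t χ * a χ = 3 ∧ ∑ χ : IrrCharacter G, t χ * b χ = 3 ∧
      t ⟨1, Cfsg.Agent.Lib.L0.isIrrCharacter_one⟩ = 1 ∧
      a ⟨1, Cfsg.Agent.Lib.L0.isIrrCharacter_one⟩ = 0 ∧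
      b ⟨1, Cfsg.Agent.Lib.L0.isIrrCharacter_one⟩ = 0 :=
  exists_tab_of h Cfsg.Agent.Lib.H3.K4.isGenChar_loc Cfsg.Agent.Lib.H3.K4.gram_loc
    (fun F hF => Cfsg.Agent.Lib.H3.K4.inner_loc F hF)
    (fun f hf => Cfsg.Agent.Lib.H1.K4.isGenChar_pull h f hf)
    (fun f g hg hf0 hg0 => Cfsg.Agent.Lib.H1.K4.inner_ind_ind h f g hg hf0 hg0)
    (fun f F hF => Cfsg.Agent.Lib.H1.K4.inner_ind_class h f F hF)

end ind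

end Cfsg.Agent.Lib.H26.K4
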