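import Mathlib

/-!
# S4539 piece LAT (architect helper28): `exists_int_coords`

Integer coordinates for a finite family of vectors of complex rank 2 whose Gram matrix
(with respect to a positive definite Hermitian form) is integral up to a factor `N`.
-/

set_option autoImplicit false

namespace Cfsg.Agent.Lib.H26.KB

open scoped ComplexConjugate
open Module

section Form

variable {E : Type*} [AddCommGroup E] [Module ℂ E] (ip : E → E → ℂ)

theorem ip_add_right (hadd : ∀ u v w : E, ip (u + v) w = ip u w + ip v w)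
    (hconj : ∀ u w : E, conj (ip u w) = ip w u) (u v w : E) :
    ip u (v + w) = ip u v + ip u w := by
  rw [← hconj, hadd, map_add, hconj, hconj]

theorem ip_smul_right (hsmul : ∀ (r : ℂ) (u w : E), ip (r • u) w = r * ip u w)
    (hconj : ∀ u w : E, conj (ip u w) = ip w u) (r : ℂ) (u w : E) :
    ip u (r • w) = conj r * ip u w := by
  rw [← hconj, hsmul, map_mul, hconj]

theorem ip_zero_left (hsmul : ∀ (r : ℂ) (u w : E), ip (r • u) w = r * ip u w) (w : E) :
    ip 0 w = 0 := by
  have := hsmul 0 0 w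
  simpa using this

theorem ip_zero_right (hsmul : ∀ (r : ℂ) (u w : E), ip (r • u) w = r * ip u w)
    (hconj : ∀ u w : E, conj (ip u w) = ip w u) (u : E) :
    ip u 0 = 0 := by
  rw [← hconj, ip_zero_left ip hsmul, map_zero]

theorem ip_zsmul_left (hsmul : ∀ (r : ℂ) (u w : E), ip (r • u) w = r * ip u w)
    (n : ℤ) (u w : E) : ip (n • u) w = (n : ℂ) * ip u w := by
  rw [← Int.cast_smul_eq_zsmul ℂ, hsmul]

theorem ip_zsmul_right (hsmul : ∀ (r : ℂ) (u w : E), ip (r • u) w = r * ip u w)
    (hconj : ∀ u w : E, conj (ip u w) = ip w u) (n : ℤ) (u w : E) :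
    ip u (n • w) = (n : ℂ) * ip u w := by
  rw [← Int.cast_smul_eq_zsmul ℂ, ip_smul_right ip hsmul hconj, map_intCast]

theorem ip_sum_left (hadd : ∀ u v w : E, ip (u + v) w = ip u w + ip v w)
    (hsmul : ∀ (r : ℂ) (u w : E), ip (r • u) w = r * ip u w)
    {ι : Type*} (s : Finset ι) (g : ι → E) (w : E) :
    ip (∑ k ∈ s, g k) w = ∑ k ∈ s, ip (g k) w := by
  classical
  induction s using Finset.induction_on with
  | empty => simp [ip_zero_left ip hsmul]
  | insert a s ha ih => rw [Finset.sum_insert ha, Finset.sum_insert ha, hadd, ih]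

theorem ip_sum_right (hadd : ∀ u v w : E, ip (u + v) w = ip u w + ip v w)
    (hsmul : ∀ (r : ℂ) (u w : E), ip (r • u) w = r * ip u w)
    (hconj : ∀ u w : E, conj (ip u w) = ip w u)
    {ι : Type*} (s : Finset ι) (g : ι → E) (u : E) :
    ip u (∑ k ∈ s, g k) = ∑ k ∈ s, ip u (g k) := by
  classical
  induction s using Finset.induction_on with
  | empty => simp [ip_zero_right ip hsmul hconj]
  | insert a s ha ih =>
    rw [Finset.sum_insert ha, Finset.sum_insert ha, ip_add_right ip hadd hconj, ih]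

end Form

theorem exists_int_coords {E : Type*} [AddCommGroup E] [Module ℂ E] {I : Type*} [Finite I]
    (ip : E → E → ℂ)
    (hadd : ∀ u v w : E, ip (u + v) w = ip u w + ip v w)
    (hsmul : ∀ (r : ℂ) (u w : E), ip (r • u) w = r * ip u w)
    (hconj : ∀ u w : E, conj (ip u w) = ip w u)
    (hpos : ∀ u : E, u ≠ 0 → 0 < (ip u u).re)
    (f : I → E) (N : ℕ) (hN : 0 < N)
    (hint : ∀ i j : I, ∃ n : ℤ, (N : ℂ) * ip (f i) (f j) = n)
    (hrank : Module.finrank ℂ (Submodule.span ℂ (Set.range f)) = 2) :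
    ∃ (D₁ D₂ : I → ℤ) (a b c : ℤ),
      (∀ x y : ℤ, (x ≠ 0 ∨ y ≠ 0) → 0 < a * x * x + 2 * b * x * y + c * y * y) ∧
      ∀ i j : I, (N : ℂ) * ip (f i) (f j) =
        ((a * D₁ i * D₁ j + b * (D₁ i * D₂ j + D₂ i * D₁ j) + c * D₂ i * D₂ j : ℤ) : ℂ) := by
  classical
  have hQ : Module ℚ E := Module.compHom E (algebraMap ℚ ℂ)
  have hTF : IsAddTorsionFree E := .of_module_rat _
  clear hQ
  -- the lattice
  let L : Submodule ℤ E := Submodule.span ℤ (Set.range f)
  have hLfin : Module.Finite ℤ L := Module.Finite.span_of_finite ℤ (Set.finite_range f)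
  obtain ⟨n, bs⟩ : Σ n : ℕ, Basis (Fin n) ℤ L := Module.basisOfFiniteTypeTorsionFree'
  -- integrality of the form on the lattice
  have hintL : ∀ u ∈ L, ∀ w ∈ L, ∃ m : ℤ, (N : ℂ) * ip u w = m := by
    intro u hu w hw
    refine Submodule.span_induction₂
      (p := fun u w _ _ => ∃ m : ℤ, (N : ℂ) * ip u w = m) ?_ ?_ ?_ ?_ ?_ ?_ ?_ hu hw
    · rintro _ _ ⟨i, rfl⟩ ⟨j, rfl⟩
      exact hint i j
    · intro y _
      exact ⟨0, by simp [ip_zero_left ip hsmul]⟩
    · intro x _
      exact ⟨0, by simp [ip_zero_right ip hsmul hconj]⟩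
    · rintro x y z _ _ _ ⟨m1, h1⟩ ⟨m2, h2⟩
      exact ⟨m1 + m2, by rw [hadd, mul_add, h1, h2]; push_cast; ring⟩
    · rintro x y z _ _ _ ⟨m1, h1⟩ ⟨m2, h2⟩
      exact ⟨m1 + m2, by rw [ip_add_right ip hadd hconj, mul_add, h1, h2]; push_cast; ring⟩
    · rintro r x y _ _ ⟨m1, h1⟩
      exact ⟨r * m1, by rw [ip_zsmul_left ip hsmul, mul_left_comm, h1]; push_cast; ring⟩
    · rintro r x y _ _ ⟨m1, h1⟩
      exact ⟨r * m1, by rw [ip_zsmul_right ip hsmul hconj, mul_left_comm, h1]; push_cast; ring⟩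
  -- the basis vectors in `E`
  let v : Fin n → E := fun k => ((bs k : L) : E)
  have hvL : ∀ k, v k ∈ L := fun k => (bs k).2
  -- Gram matrix
  let Γ : Matrix (Fin n) (Fin n) ℤ := fun k l => (hintL _ (hvL k) _ (hvL l)).choose
  have hΓ : ∀ k l, (N : ℂ) * ip (v k) (v l) = (Γ k l : ℂ) :=
    fun k l => (hintL _ (hvL k) _ (hvL l)).choose_spec
  have hN0 : (N : ℂ) ≠ 0 := by exact_mod_cast hN.ne'
  -- ℤ-independence in `E`
  have hZind : ∀ c : Fin n → ℤ, (∑ k, c k • v k) = 0 → ∀ k, c k = 0 := by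
    intro c hc
    have hli := bs.linearIndependent
    rw [Fintype.linearIndependent_iff] at hli
    apply hli c
    apply Subtype.ext
    rw [Submodule.coe_sum]
    simpa [v] using hc
  -- ℂ-independence
  have hli : LinearIndependent ℂ v := by
    rw [Fintype.linearIndependent_iff]
    intro g hg
    by_contra hne
    have h1 : ∀ l, ∑ k, g k * (Γ k l : ℂ) = 0 := by
      intro l
      have h0 : (N : ℂ) * ip (∑ k, g k • v k) (v l) = 0 := by
        rw [hg, ip_zero_left ip hsmul, mul_zero]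
      rw [ip_sum_left ip hadd hsmul, Finset.mul_sum] at h0
      rw [← h0]
      apply Finset.sum_congr rfl
      intro k _
      rw [hsmul, ← hΓ k l]
      ring
    have hdetC : (Γ.map (Int.castRingHom ℂ)).det = 0 := by
      rw [← Matrix.exists_vecMul_eq_zero_iff]
      refine ⟨g, ?_, ?_⟩
      · intro h0
        apply hne
        intro k
        exact congrFun h0 k
      · ext l
        simpa [Matrix.vecMul, dotProduct] using h1 l
    have hdetZ : Γ.det = 0 := by
      have h2 : ((Γ.det : ℤ) : ℂ) = 0 := by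
        rw [← hdetC]
        exact (Int.castRingHom ℂ).map_det Γ
      exact_mod_cast h2
    obtain ⟨c, hc0, hc⟩ := Matrix.exists_vecMul_eq_zero_iff.mpr hdetZ
    let u : E := ∑ k, c k • v k
    have hu_ip : ∀ l, ip u (v l) = 0 := by
      intro l
      have h3 : (N : ℂ) * ip u (v l) = 0 := by
        show (N : ℂ) * ip (∑ k, c k • v k) (v l) = 0
        rw [ip_sum_left ip hadd hsmul, Finset.mul_sum]
        have h4 : ∀ k ∈ Finset.univ, (N : ℂ) * ip (c k • v k) (v l) = ((c k * Γ k l : ℤ) : ℂ) := by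
          intro k _
          rw [ip_zsmul_left ip hsmul, mul_left_comm, hΓ k l]
          push_cast
          ring
        rw [Finset.sum_congr rfl h4, ← Int.cast_sum]
        have h5 : (∑ k, c k * Γ k l) = 0 := by
          have := congrFun hc l
          simpa [Matrix.vecMul, dotProduct] using this
        rw [h5, Int.cast_zero]
      exact (mul_eq_zero.mp h3).resolve_left hN0
    have huu : ip u u = 0 := by
      show ip u (∑ k, c k • v k) = 0
      rw [ip_sum_right ip hadd hsmul hconj]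
      apply Finset.sum_eq_zero
      intro k _
      rw [ip_zsmul_right ip hsmul hconj, hu_ip k, mul_zero]
    have hu0 : u = 0 := by
      by_contra h
      have := hpos u h
      rw [huu] at this
      simp at this
    have := hZind c hu0
    exact hc0 (funext this)
  -- the two spans agree
  have hspan : Submodule.span ℂ (Set.range v) = Submodule.span ℂ (Set.range f) := by
    apply le_antisymm
    · rw [Submodule.span_le]
      rintro _ ⟨k, rfl⟩
      exact Submodule.span_subset_span ℤ ℂ _ (hvL k)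
    · rw [Submodule.span_le]
      rintro _ ⟨i, rfl⟩
      have hfi : f i ∈ L := Submodule.subset_span ⟨i, rfl⟩
      have h1 := bs.sum_repr ⟨f i, hfi⟩
      have h2 : f i = ∑ k, (bs.repr ⟨f i, hfi⟩ k) • v k := by
        have := congrArg (Subtype.val) h1
        rw [Submodule.coe_sum] at this
        simpa [v] using this.symm
      rw [SetLike.mem_coe, h2]
      apply Submodule.sum_mem
      intro k _
      rw [← Int.cast_smul_eq_zsmul ℂ]
      exact Submodule.smul_mem _ _ (Submodule.subset_span ⟨k, rfl⟩)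
  have hn2 : n = 2 := by
    have := finrank_span_eq_card hli
    rw [hspan, hrank] at this
    simpa using this.symm
  subst hn2
  -- coordinates
  have hfL : ∀ i, f i ∈ L := fun i => Submodule.subset_span ⟨i, rfl⟩
  have hcoord : ∀ i, f i = (bs.repr ⟨f i, hfL i⟩ 0) • v 0 + (bs.repr ⟨f i, hfL i⟩ 1) • v 1 := by
    intro i
    have h1 := bs.sum_repr ⟨f i, hfL i⟩
    have := congrArg (Subtype.val) h1
    rw [Submodule.coe_sum, Fin.sum_univ_two] at this
    simpa [v] using this.symm
  have hsymm : Γ 1 0 = Γ 0 1 := by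
    have h1 : ((Γ 1 0 : ℤ) : ℂ) = ((Γ 0 1 : ℤ) : ℂ) := by
      rw [← hΓ 1 0, ← hconj (v 0) (v 1)]
      have : conj ((N : ℂ) * ip (v 0) (v 1)) = (N : ℂ) * conj (ip (v 0) (v 1)) := by
        rw [map_mul, Complex.conj_natCast]
      rw [← this, hΓ 0 1, map_intCast]
    exact_mod_cast h1
  have hexp : ∀ x1 x2 y1 y2 : ℤ,
      (N : ℂ) * ip (x1 • v 0 + x2 • v 1) (y1 • v 0 + y2 • v 1) =
        ((Γ 0 0 * x1 * y1 + Γ 0 1 * (x1 * y2 + x2 * y1) + Γ 1 1 * x2 * y2 : ℤ) : ℂ) := by
    intro x1 x2 y1 y2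
    rw [hadd, ip_add_right ip hadd hconj, ip_add_right ip hadd hconj,
      ip_zsmul_left ip hsmul, ip_zsmul_left ip hsmul, ip_zsmul_left ip hsmul,
      ip_zsmul_left ip hsmul, ip_zsmul_right ip hsmul hconj, ip_zsmul_right ip hsmul hconj,
      ip_zsmul_right ip hsmul hconj, ip_zsmul_right ip hsmul hconj]
    have e00 := hΓ 0 0
    have e01 := hΓ 0 1
    have e10 := hΓ 1 0
    have e11 := hΓ 1 1
    rw [hsymm] at e10
    push_cast
    rw [← e00, ← e01, ← e11]
    have : (N : ℂ) * ip (v 1) (v 0) = (N : ℂ) * ip (v 0) (v 1) := by rw [e10, e01]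
    linear_combination (x2 * y1 : ℂ) * this
  refine ⟨fun i => bs.repr ⟨f i, hfL i⟩ 0, fun i => bs.repr ⟨f i, hfL i⟩ 1,
    Γ 0 0, Γ 0 1, Γ 1 1, ?_, ?_⟩
  · intro x y hxy
    have hu : x • v 0 + y • v 1 ≠ 0 := by
      intro h0
      have := hZind ![x, y] (by rw [Fin.sum_univ_two]; simpa using h0)
      have hx := this 0
      have hy := this 1
      simp at hx hy
      rcases hxy with h | h
      · exact h hx
      · exact h hy
    have h1 := hpos _ hu
    have h2 := hexp x y x y
    have h3 : ((N : ℂ) * ip (x • v 0 + y • v 1) (x • v 0 + y • v 1)).re =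
        (N : ℝ) * (ip (x • v 0 + y • v 1) (x • v 0 + y • v 1)).re := by
      simp [Complex.mul_re]
    rw [h2] at h3
    have h4 : (0 : ℝ) < (N : ℝ) * (ip (x • v 0 + y • v 1) (x • v 0 + y • v 1)).re :=
      mul_pos (by exact_mod_cast hN) h1
    rw [← h3, Complex.intCast_re] at h4
    have h5 : (0 : ℤ) < Γ 0 0 * x * x + Γ 0 1 * (x * y + y * x) + Γ 1 1 * y * y := by
      exact_mod_cast h4
    linarith [h5]
  · intro i j
    conv_lhs => rw [hcoord i, hcoord j]
    rw [hexp]
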