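import Mathlib
import Cfsg.Agent.Lib.H24.CharKer
import Cfsg.Agent.Lib.H20.KPPDefs
import Cfsg.Agent.Lib.H12.KPPF1
import Cfsg.Agent.Lib.H14.KPPRESK

/-!
# S4591 piece CENT (helper26, twin), parametric in F2:
`C_L(P) = 1` for a normal `p'`-subgroup `L ≤ kerPP p`.
`hF2` is the EXACT statement of `exists_pprime_over_invariant` (piece F2).
-/

set_option autoImplicit false

namespace Cfsg.Agent.Lib.H26.KPP

open Cfsg Cfsg.Agent.Lib.L0 Cfsg.Agent.Lib.H23 Cfsg.Agent.Lib.H24 Cfsg.Agent.Lib.H20.KPP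

variable {G : Type*} [Group G] [Fintype G] (p : ℕ) [hp : Fact p.Prime]

/-- CENT = F1 + F2 + RESK, with F2 as a hypothesis. -/
theorem inf_centralizer_eq_bot_of_le_kerPP_of
    (hF2 : ∀ (P : Sylow p G) (L : Subgroup G) [L.Normal] [Fintype L]
      (_ : (Nat.card L).Coprime p) (θ : IrrCharacter L)
      (_ : ∀ s ∈ (P : Subgroup G), ∀ g g' : L, (g' : G) = s * g * s⁻¹ →
        (θ : L → ℂ) g' = (θ : L → ℂ) g),
      ∃ χ : IrrCharacter G, ¬ p ∣ charDegree (χ : G → ℂ) ∧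
        classInner (fun n : L => (χ : G → ℂ) n) (θ : L → ℂ) ≠ 0)
    (P : Sylow p G) (L : Subgroup G) [L.Normal]
    (hc : (Nat.card L).Coprime p) (hle : L ≤ kerPP p) :
    L ⊓ Subgroup.centralizer ((P : Subgroup G) : Set G) = ⊥ := by
  classical
  haveI : Fintype L := Fintype.ofFinite L
  by_contra hne
  obtain ⟨θ, hinv, hθne⟩ := Cfsg.Agent.Lib.H12.KPP.exists_invariant_irr_ne_one p P L hc hne
  obtain ⟨χ, hdeg, hcon⟩ := hF2 P L hc θ hinv
  apply hθne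
  apply irr_eq_trivial_of_charKer_eq_top θ.2
  rw [eq_top_iff]
  intro x _
  rw [mem_charKer]
  refine Cfsg.Agent.Lib.H14.KPP.constituent_apply_eq L (χ : G → ℂ) (isCharacter_of_irr χ.2)
    (θ : L → ℂ) θ.2 hcon x ?_
  exact (mem_kerPP p (x : G)).mp (hle x.2) χ hdeg

end Cfsg.Agent.Lib.H26.KPP
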