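import Mathlib

set_option autoImplicit false

/-!
# Orbit counting lemmas for `p`-group actions
-/

namespace Cfsg.Agent.Lib.H26.Kul

open MulAction

/-- If `d` divides the index of every stabilizer, then `d` divides the size of the set. -/
theorem dvd_card_of_dvd_index_stabilizer {P X : Type*} [Group P] [Finite P] [MulAction P X]
    [Finite X] (d : ℕ) (h : ∀ x : X, d ∣ (stabilizer P x).index) : d ∣ Nat.card X := by
  classical
  haveI : Fintype (Quotient (orbitRel P X)) := Fintype.ofFinite _
  have e := selfEquivSigmaOrbitsQuotientStabilizer P X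
  rw [Nat.card_congr e, Nat.card_sigma]
  apply Finset.dvd_sum
  intro ω _
  rw [← Subgroup.index_eq_card]
  exact h _

variable (p : ℕ) [hp : Fact p.Prime]

/-- A `p`-group acting without fixed points on a finite set: `p` divides the size. -/
theorem dvd_card_of_no_fixedPoints {P X : Type*} [Group P] [Finite P] (hP : IsPGroup p P)
    [MulAction P X] [Finite X] (h : ∀ x : X, x ∉ fixedPoints P X) : p ∣ Nat.card X := by
  have h1 := hP.card_modEq_card_fixedPoints X
  haveI : IsEmpty (fixedPoints P X) := ⟨fun x => h x.1 x.2⟩
  have h2 : Nat.card (fixedPoints P X) = 0 := Nat.card_of_isEmpty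
  rw [h2] at h1
  exact (Nat.modEq_zero_iff_dvd).mp h1

/-- Weighted fixed point congruence: an invariant weight vanishing on the fixed points has total
divisible by `p`. -/
theorem dvd_sum_of_invariant {P Z : Type*} [Group P] [Finite P] (hP : IsPGroup p P)
    [MulAction P Z] [Fintype Z] (v : Z → ℕ) (hinv : ∀ (g : P) (z : Z), v (g • z) = v z)
    (hfix : ∀ z, z ∈ fixedPoints P Z → v z = 0) : p ∣ ∑ z, v z := by
  classical
  have h1 := Finset.sum_comp (s := (Finset.univ : Finset Z)) (fun n : ℕ => n) v
  rw [h1]
  apply Finset.dvd_sum
  intro n _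
  rcases Nat.eq_zero_or_pos n with hn | hn
  · rw [hn, smul_zero]; exact dvd_zero _
  · rw [smul_eq_mul]
    apply Dvd.dvd.mul_right
    -- the level set is an invariant subset without fixed points
    let S : SubMulAction P Z :=
      { carrier := {z | v z = n}
        smul_mem' := fun g z hz => by
          show v (g • z) = n
          rw [hinv]; exact hz }
    have h2 : p ∣ Nat.card S := by
      apply dvd_card_of_no_fixedPoints p hP
      intro z hz
      have hz' : (z : Z) ∈ fixedPoints P Z := by
        intro g
        have := hz g
        exact congrArg Subtype.val this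
      have h3 := hfix _ hz'
      have h4 : v (z : Z) = n := z.2
      omega
    have h5 : Nat.card S = (Finset.univ.filter fun a : Z => v a = n).card := by
      rw [Nat.card_eq_fintype_card, ← Fintype.card_subtype]
      exact Fintype.card_congr (Equiv.refl _)
    rwa [h5] at h2

/-- Lemma W: an invariant weight with values divisible by `p`, vanishing on the fixed points, has
total divisible by `p²`. -/
theorem sq_dvd_sum_of_invariant {P Z : Type*} [Group P] [Finite P] (hP : IsPGroup p P)
    [MulAction P Z] [Fintype Z] (w : Z → ℕ) (hinv : ∀ (g : P) (z : Z), w (g • z) = w z)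
    (hdvd : ∀ z, p ∣ w z) (hfix : ∀ z, z ∈ fixedPoints P Z → w z = 0) : p ^ 2 ∣ ∑ z, w z := by
  have h1 : ∑ z, w z = p * ∑ z, w z / p := by
    rw [Finset.mul_sum]
    apply Finset.sum_congr rfl
    intro z _
    exact (Nat.mul_div_cancel' (hdvd z)).symm
  rw [h1, pow_two]
  apply Nat.mul_dvd_mul_left
  apply dvd_sum_of_invariant p hP (fun z => w z / p)
  · intro g z
    show w (g • z) / p = w z / p
    rw [hinv]
  · intro z hz
    show w z / p = 0
    rw [hfix z hz, Nat.zero_div]

end Cfsg.Agent.Lib.H26.Kul
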