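import Mathlib

set_option autoImplicit false

/-!
# Conjugation action of a subgroup on the subgroups of a given order
-/

namespace Cfsg.Agent.Lib.H26.Kul

variable {G : Type*} [Group G]

/-- The conjugate `g K g⁻¹` of a subgroup. -/
def cj (g : G) (K : Subgroup G) : Subgroup G := K.map (MulAut.conj g).toMonoidHom

theorem mem_cj {g x : G} {K : Subgroup G} : x ∈ cj g K ↔ g⁻¹ * x * g ∈ K := by
  unfold cj
  rw [Subgroup.mem_map]
  constructor
  · rintro ⟨y, hy, rfl⟩
    have : g⁻¹ * (MulAut.conj g).toMonoidHom y * g = y := by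
      show g⁻¹ * (g * y * g⁻¹) * g = y
      group
    rw [this]; exact hy
  · intro h
    refine ⟨g⁻¹ * x * g, h, ?_⟩
    show g * (g⁻¹ * x * g) * g⁻¹ = x
    group

theorem conj_mem_cj {g x : G} {K : Subgroup G} (hx : x ∈ K) : g * x * g⁻¹ ∈ cj g K := by
  rw [mem_cj]
  have : g⁻¹ * (g * x * g⁻¹) * g = x := by group
  rw [this]; exact hx

theorem cj_one (K : Subgroup G) : cj 1 K = K := by
  ext x; rw [mem_cj]; simp

theorem cj_mul (g h : G) (K : Subgroup G) : cj (g * h) K = cj g (cj h K) := by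
  ext x
  rw [mem_cj, mem_cj, mem_cj]
  have : (g * h)⁻¹ * x * (g * h) = h⁻¹ * (g⁻¹ * x * g) * h := by group
  rw [this]

theorem cj_inv_cj (g : G) (K : Subgroup G) : cj g⁻¹ (cj g K) = K := by
  rw [← cj_mul, inv_mul_cancel, cj_one]

theorem cj_cj_inv (g : G) (K : Subgroup G) : cj g (cj g⁻¹ K) = K := by
  rw [← cj_mul, mul_inv_cancel, cj_one]

theorem card_cj (g : G) (K : Subgroup G) : Nat.card (cj g K) = Nat.card K :=
  (Nat.card_congr (K.equivMapOfInjective (MulAut.conj g).toMonoidHom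
    (MulAut.conj g).injective).toEquiv).symm

theorem cj_mono (g : G) {K L : Subgroup G} (h : K ≤ L) : cj g K ≤ cj g L :=
  Subgroup.map_mono h

theorem cj_le_cj_iff (g : G) {K L : Subgroup G} : cj g K ≤ cj g L ↔ K ≤ L := by
  constructor
  · intro h
    have := cj_mono g⁻¹ h
    rwa [cj_inv_cj, cj_inv_cj] at this
  · exact cj_mono g

theorem cj_eq_self_iff {g : G} {K : Subgroup G} :
    cj g K = K ↔ g ∈ Subgroup.normalizer (K : Set G) :=
  Subgroup.mem_normalizer_iff_map_conj_eq.symm

theorem cj_eq_self_of_mem {g : G} {K : Subgroup G} (hg : g ∈ K) : cj g K = K :=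
  cj_eq_self_iff.mpr (Subgroup.le_normalizer hg)

theorem cj_sup (g : G) (K L : Subgroup G) : cj g (K ⊔ L) = cj g K ⊔ cj g L :=
  Subgroup.map_sup K L _

theorem cj_inf (g : G) (K L : Subgroup G) : cj g (K ⊓ L) = cj g K ⊓ cj g L :=
  Subgroup.map_inf K L _ (MulAut.conj g).injective

theorem cj_normalizer (g : G) (K : Subgroup G) :
    cj g (Subgroup.normalizer (K : Set G)) = Subgroup.normalizer (cj g K : Set G) := by
  ext x
  rw [mem_cj, ← cj_eq_self_iff, ← cj_eq_self_iff]
  constructor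
  · intro h
    have : x = g * (g⁻¹ * x * g) * g⁻¹ := by group
    rw [this, cj_mul, cj_mul, ← cj_mul g⁻¹, inv_mul_cancel, cj_one, h]
  · intro h
    rw [cj_mul, cj_mul, h, cj_inv_cj]

theorem le_normalizer_cj {g : G} {K Q : Subgroup G} (h : Q ≤ Subgroup.normalizer (K : Set G)) :
    cj g Q ≤ Subgroup.normalizer (cj g K : Set G) := by
  rw [← cj_normalizer]; exact cj_mono g h

/-- The subgroups of order `n`. -/
abbrev SubN (G : Type*) [Group G] (n : ℕ) : Type _ := {K : Subgroup G // Nat.card K = n}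

/-- Conjugation action of a subgroup `Q` on the subgroups of order `n`. -/
instance conjAction (Q : Subgroup G) (n : ℕ) : MulAction Q (SubN G n) where
  smul g K := ⟨cj (g : G) K.1, by rw [card_cj]; exact K.2⟩
  one_smul K := Subtype.ext (cj_one K.1)
  mul_smul g h K := Subtype.ext (cj_mul (g : G) (h : G) K.1)

theorem smul_val (Q : Subgroup G) (n : ℕ) (g : Q) (K : SubN G n) :
    (g • K).1 = cj (g : G) K.1 := rfl

theorem mem_stabilizer_iff (Q : Subgroup G) (n : ℕ) (g : Q) (K : SubN G n) :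
    g ∈ MulAction.stabilizer Q K ↔ (g : G) ∈ Subgroup.normalizer (K.1 : Set G) := by
  rw [MulAction.mem_stabilizer_iff, ← cj_eq_self_iff]
  constructor
  · intro h; exact congrArg Subtype.val h
  · intro h; exact Subtype.ext h

theorem stabilizer_eq (Q : Subgroup G) (n : ℕ) (K : SubN G n) :
    MulAction.stabilizer Q K = (Subgroup.normalizer (K.1 : Set G)).subgroupOf Q := by
  ext g
  rw [mem_stabilizer_iff, Subgroup.mem_subgroupOf]

theorem mem_fixedPoints_iff (Q : Subgroup G) (n : ℕ) (K : SubN G n) :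
    K ∈ MulAction.fixedPoints Q (SubN G n) ↔ Q ≤ Subgroup.normalizer (K.1 : Set G) := by
  rw [MulAction.mem_fixedPoints]
  constructor
  · intro h g hg
    have := h ⟨g, hg⟩
    exact cj_eq_self_iff.mp (congrArg Subtype.val this)
  · intro h g
    exact Subtype.ext (cj_eq_self_iff.mpr (h g.2))

end Cfsg.Agent.Lib.H26.Kul
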