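import Mathlib

set_option autoImplicit false

/-!
# Counting subgroups of index `p` through homomorphisms to the cyclic group of order `p`
-/

namespace Cfsg.Agent.Lib.H26.Kul

variable {G : Type*} [Group G]

/-- The annihilator of a subgroup in the dual `Hom(G, C_p)`. -/
def ann (p : ℕ) (X : Subgroup G) : Subgroup (G →* Multiplicative (ZMod p)) where
  carrier := {f | ∀ x ∈ X, f x = 1}
  one_mem' := fun _ _ => rfl
  mul_mem' := by
    intro f g hf hg x hx
    rw [MonoidHom.mul_apply, hf x hx, hg x hx, one_mul]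
  inv_mem' := by
    intro f hf x hx
    rw [MonoidHom.inv_apply, hf x hx, inv_one]

theorem mem_ann {p : ℕ} {X : Subgroup G} {f : G →* Multiplicative (ZMod p)} :
    f ∈ ann p X ↔ ∀ x ∈ X, f x = 1 := Iff.rfl

theorem mem_ann_iff_le_ker {p : ℕ} {X : Subgroup G} {f : G →* Multiplicative (ZMod p)} :
    f ∈ ann p X ↔ X ≤ f.ker := by
  constructor
  · intro h x hx; exact MonoidHom.mem_ker.mpr (h x hx)
  · intro h x hx; exact MonoidHom.mem_ker.mp (h hx)

theorem ann_mono {p : ℕ} {X Y : Subgroup G} (h : X ≤ Y) : ann p Y ≤ ann p X :=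
  fun _ hf x hx => hf x (h hx)

variable (p : ℕ) [hp : Fact p.Prime]

theorem pow_p_eq_one (y : Multiplicative (ZMod p)) : y ^ p = 1 := by
  have : (p : ℕ) • (Multiplicative.toAdd y) = 0 := by
    rw [nsmul_eq_mul, ZMod.natCast_self, zero_mul]
  rw [← ofAdd_toAdd y, ← ofAdd_nsmul, this, ofAdd_zero]

theorem card_mult_zmod : Nat.card (Multiplicative (ZMod p)) = p := by
  rw [Nat.card_eq_fintype_card]
  simp [ZMod.card]

instance finite_dual [Finite G] : Finite (G →* Multiplicative (ZMod p)) :=
  Finite.of_injective (fun f => (f : G → Multiplicative (ZMod p))) DFunLike.coe_injective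

theorem isPGroup_dual : IsPGroup p (G →* Multiplicative (ZMod p)) := by
  intro f
  refine ⟨1, ?_⟩
  ext x
  rw [pow_one, MonoidHom.pow_apply, pow_p_eq_one]
  rfl

theorem exists_card_ann [Finite G] (X : Subgroup G) : ∃ e : ℕ, Nat.card (ann p X) = p ^ e :=
  IsPGroup.iff_card.mp ((isPGroup_dual p).to_subgroup (ann p X))

/-- The kernel of a nontrivial character has index `p`. -/
theorem index_ker_of_ne_one (f : G →* Multiplicative (ZMod p)) (hf : f ≠ 1) : f.ker.index = p := by
  rw [Subgroup.index_ker]
  haveI : Fact (Nat.card (Multiplicative (ZMod p))).Prime := ⟨by rw [card_mult_zmod]; exact hp.out⟩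
  have h := f.range.eq_bot_or_eq_top_of_prime_card
  rcases h with h | h
  · exfalso
    apply hf
    ext x
    have : f x ∈ f.range := ⟨x, rfl⟩
    rw [h, Subgroup.mem_bot] at this
    rw [this]; rfl
  · rw [h, Subgroup.card_top, card_mult_zmod]

/-- Two subgroups of the same finite index, one inside the other, coincide. -/
theorem eq_of_le_of_index_eq [Finite G] {H K : Subgroup G} (h : H ≤ K) (hi : H.index = K.index) :
    H = K := by
  apply Subgroup.eq_of_le_of_card_ge h
  have h1 := Subgroup.card_mul_index H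
  have h2 := Subgroup.card_mul_index K
  rw [hi] at h1
  have hpos : 0 < K.index := Nat.pos_of_ne_zero Subgroup.index_ne_zero_of_finite
  have : Nat.card H = Nat.card K := Nat.eq_of_mul_eq_mul_right hpos (h1.trans h2.symm)
  exact this.ge

/-- A character killing a subgroup of index `p` is trivial or has exactly that kernel. -/
theorem ker_eq_of_mem_ann [Finite G] {H : Subgroup G} (hH : H.index = p)
    {f : G →* Multiplicative (ZMod p)} (hf : f ∈ ann p H) (hf1 : f ≠ 1) : f.ker = H := by
  symm
  apply eq_of_le_of_index_eq (mem_ann_iff_le_ker.mp hf)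
  rw [hH, index_ker_of_ne_one p f hf1]

/-- The annihilator of a normal subgroup of index `p` has order `p`. -/
theorem card_ann_of_index [Finite G] (H : Subgroup G) [hn : H.Normal] (hH : H.index = p) :
    Nat.card (ann p H) = p := by
  obtain ⟨e, he⟩ := exists_card_ann p H
  -- a nontrivial element
  have hq : Nat.card (G ⧸ H) = p := by rw [← Subgroup.index_eq_card, hH]
  let φ : G ⧸ H ≃* Multiplicative (ZMod p) := mulEquivOfPrimeCardEq hq (card_mult_zmod p)
  let f₀ : G →* Multiplicative (ZMod p) := φ.toMonoidHom.comp (QuotientGroup.mk' H)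
  have hf₀ : f₀ ∈ ann p H := by
    intro x hx
    show φ (QuotientGroup.mk' H x) = 1
    rw [QuotientGroup.mk'_apply, (QuotientGroup.eq_one_iff x).mpr hx, map_one]
  have hne : H ≠ ⊤ := by
    intro h
    rw [h, Subgroup.index_top] at hH
    exact hp.out.one_lt.ne hH
  obtain ⟨g, hg⟩ : ∃ g : G, g ∉ H := by
    by_contra hcon
    push Not at hcon
    exact hne (eq_top_iff.mpr fun x _ => hcon x)
  have hf₀1 : f₀ ≠ 1 := by
    intro h
    have h1 : f₀ g = 1 := by rw [h]; rfl
    have h2 : φ (QuotientGroup.mk' H g) = 1 := h1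
    rw [map_eq_one_iff φ φ.injective, QuotientGroup.mk'_apply, QuotientGroup.eq_one_iff] at h2
    exact hg h2
  -- at most p elements: evaluation at g is injective
  have hinj : Function.Injective (fun f : ann p H => (f : G →* Multiplicative (ZMod p)) g) := by
    intro f f' hff
    have hff' : (f : G →* Multiplicative (ZMod p)) g = (f' : G →* Multiplicative (ZMod p)) g := hff
    by_contra hne'
    have hd : (f⁻¹ * f' : ann p H) ≠ 1 := by
      intro h
      apply hne'
      exact (inv_mul_eq_one.mp h)
    have hd' : ((f⁻¹ * f' : ann p H) : G →* Multiplicative (ZMod p)) ≠ 1 := by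
      intro h
      apply hd
      exact Subtype.ext h
    have hk := ker_eq_of_mem_ann p hH (f⁻¹ * f' : ann p H).2 hd'
    apply hg
    rw [← hk, MonoidHom.mem_ker]
    show ((f : G →* Multiplicative (ZMod p))⁻¹ * (f' : G →* Multiplicative (ZMod p))) g = 1
    rw [MonoidHom.mul_apply, MonoidHom.inv_apply, hff', inv_mul_cancel]
  have hle : Nat.card (ann p H) ≤ p := by
    have := Nat.card_le_card_of_injective _ hinj
    rwa [card_mult_zmod] at this
  have hge : 2 ≤ Nat.card (ann p H) := by
    haveI : Nontrivial (ann p H) := ⟨⟨⟨f₀, hf₀⟩, 1, fun h => hf₀1 (congrArg Subtype.val h)⟩⟩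
    exact Finite.one_lt_card
  rw [he] at hle hge ⊢
  rcases e with _ | e
  · simp at hge
  · rcases e with _ | e
    · simp
    · exfalso
      have : p ^ (e + 1 + 1) = p ^ e * p * p := by ring
      rw [this] at hle
      have hp2 := hp.out.two_le
      have hpos : 1 ≤ p ^ e := pow_pos hp.out.pos e
      have h1 : p * p ≤ p ^ e * p * p := by
        calc p * p = 1 * p * p := by ring
          _ ≤ p ^ e * p * p := by gcongr
      have h2 : 2 * p ≤ p * p := by gcongr
      omega

theorem card_ne_one_ann [Finite G] (X : Subgroup G) :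
    Nat.card {f : ann p X // f ≠ 1} + 1 = Nat.card (ann p X) := by
  classical
  rw [← Finite.card_option]
  exact Nat.card_congr (Equiv.optionSubtypeNe (1 : ann p X))

/-- The normal subgroups of index `p` containing `X`. -/
abbrev MaxOver (p : ℕ) (X : Subgroup G) : Type _ :=
  {H : Subgroup G // H.Normal ∧ H.index = p ∧ X ≤ H}

instance [Finite G] (X : Subgroup G) : Finite (MaxOver p X) := Subtype.finite

/-- The kernel map from nontrivial characters killing `X` to the normal subgroups of index `p`
containing `X`. -/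
noncomputable def kerMap [Finite G] (X : Subgroup G) : {f : ann p X // f ≠ 1} → MaxOver p X :=
  fun f => ⟨(f.1.1 : G →* Multiplicative (ZMod p)).ker, MonoidHom.normal_ker _,
    index_ker_of_ne_one p f.1.1 (fun h => f.2 (Subtype.ext h)),
    mem_ann_iff_le_ker.mp f.1.2⟩

noncomputable def fiberEquiv [Finite G] (X : Subgroup G) (H : MaxOver p X) :
    {a : {f : ann p X // f ≠ 1} // kerMap p X a = H} ≃ {f : ann p H.1 // f ≠ 1} where
  toFun a := ⟨⟨a.1.1.1, by
      have h := congrArg Subtype.val a.2
      simp only [kerMap] at h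
      exact mem_ann_iff_le_ker.mpr h.ge⟩, by
      intro h
      apply a.1.2
      apply Subtype.ext
      exact congrArg (fun f : ann p H.1 => (f : G →* Multiplicative (ZMod p))) h⟩
  invFun f := ⟨⟨⟨f.1.1, ann_mono H.2.2.2 f.1.2⟩, by
      intro h
      apply f.2
      apply Subtype.ext
      exact congrArg (fun f : ann p X => (f : G →* Multiplicative (ZMod p))) h⟩, by
      apply Subtype.ext
      simp only [kerMap]
      exact ker_eq_of_mem_ann p H.2.2.1 f.1.2 (fun h => f.2 (Subtype.ext h))⟩
  left_inv a := rfl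
  right_inv f := rfl

/-- **Dual count**: `(p - 1) * #{normal subgroups of index p over X} + 1 = #ann X`. -/
theorem card_ann_eq [Finite G] (X : Subgroup G) :
    (p - 1) * Nat.card (MaxOver p X) + 1 = Nat.card (ann p X) := by
  classical
  rw [← card_ne_one_ann p X]
  congr 1
  haveI : Fintype (MaxOver p X) := Fintype.ofFinite _
  rw [Nat.card_congr (Equiv.sigmaFiberEquiv (kerMap p X)).symm, Nat.card_sigma]
  have : ∀ H : MaxOver p X, Nat.card {a : {f : ann p X // f ≠ 1} // kerMap p X a = H} = p - 1 := by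
    intro H
    rw [Nat.card_congr (fiberEquiv p X H)]
    haveI := H.2.1
    have h1 := card_ne_one_ann p H.1
    rw [card_ann_of_index p H.1 H.2.2.1] at h1
    omega
  rw [Finset.sum_congr rfl (fun H _ => this H), Finset.sum_const, Finset.card_univ,
    Nat.card_eq_fintype_card, smul_eq_mul, mul_comm]

/-- The subgroups of index `p` containing `X`. -/
abbrev IdxOver (p : ℕ) (X : Subgroup G) : Type _ :=
  {H : Subgroup G // H.index = p ∧ X ≤ H}

instance [Finite G] (X : Subgroup G) : Finite (IdxOver p X) := Subtype.finite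

theorem normal_of_index_eq [Finite G] (hG : IsPGroup p G) (H : Subgroup G) (hH : H.index = p) :
    H.Normal := by
  apply Subgroup.normal_of_index_eq_minFac_card
  obtain ⟨m, hm⟩ := IsPGroup.iff_card.mp hG
  have hm0 : m ≠ 0 := by
    rintro rfl
    rw [pow_zero] at hm
    have := Subgroup.index_dvd_card H
    rw [hm, hH, Nat.dvd_one] at this
    exact hp.out.one_lt.ne' this
  rw [hH, hm, hp.out.pow_minFac hm0]

/-- In a `p`-group, `IdxOver` and `MaxOver` coincide. -/
noncomputable def idxOverEquiv [Finite G] (hG : IsPGroup p G) (X : Subgroup G) :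
    IdxOver p X ≃ MaxOver p X where
  toFun H := ⟨H.1, normal_of_index_eq p hG H.1 H.2.1, H.2.1, H.2.2⟩
  invFun H := ⟨H.1, H.2.2.1, H.2.2.2⟩
  left_inv _ := rfl
  right_inv _ := rfl

theorem card_ann_eq' [Finite G] (hG : IsPGroup p G) (X : Subgroup G) :
    (p - 1) * Nat.card (IdxOver p X) + 1 = Nat.card (ann p X) := by
  rw [Nat.card_congr (idxOverEquiv p hG X), card_ann_eq]

theorem exists_idxOver [Finite G] (hG : IsPGroup p G) (X : Subgroup G) (hX : X ≠ ⊤) :
    Nonempty (IdxOver p X) := by
  obtain ⟨m, hm⟩ := IsPGroup.iff_card.mp hG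
  obtain ⟨n, hn⟩ := IsPGroup.iff_card.mp (hG.to_subgroup X)
  have hlt : n < m := by
    by_contra hcon
    push Not at hcon
    apply hX
    apply Subgroup.eq_top_of_le_card
    rw [hm, hn]
    exact Nat.pow_le_pow_right hp.out.pos hcon
  obtain ⟨K, hK, hXK⟩ := Sylow.exists_subgroup_card_pow_prime_le p
    (show p ^ (m - 1) ∣ Nat.card G by rw [hm]; exact pow_dvd_pow p (Nat.sub_le m 1)) X hn
    (by omega)
  refine ⟨⟨K, ?_, hXK⟩⟩
  have h1 := Subgroup.card_mul_index K
  rw [hK, hm] at h1
  have h2 : p ^ m = p ^ (m - 1) * p := by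
    rw [← pow_succ]; congr 1; omega
  rw [h2] at h1
  exact Nat.eq_of_mul_eq_mul_left (pow_pos hp.out.pos _) h1

theorem one_le_card_idxOver [Finite G] (hG : IsPGroup p G) (X : Subgroup G) (hX : X ≠ ⊤) :
    1 ≤ Nat.card (IdxOver p X) := by
  haveI := exists_idxOver p hG X hX
  exact Nat.one_le_iff_ne_zero.mpr Nat.card_pos.ne'

/-- The trichotomy on the order of the annihilator. -/
theorem card_ann_cases [Finite G] (hG : IsPGroup p G) (X : Subgroup G) (hX : X ≠ ⊤) :
    (Nat.card (ann p X) = p ∧ Nat.card (IdxOver p X) = 1) ∨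
      (p ^ 2 ∣ Nat.card (ann p X) ∧ Nat.card (IdxOver p X) ≠ 1) := by
  obtain ⟨e, he⟩ := exists_card_ann p X
  have h1 := card_ann_eq' p hG X
  have h2 := one_le_card_idxOver p hG X hX
  have hp1 : 1 ≤ p - 1 := by have := hp.out.two_le; omega
  rw [he] at h1
  rcases e with _ | e
  · exfalso
    rw [pow_zero] at h1
    have : (p - 1) * Nat.card (IdxOver p X) = 0 := by omega
    rcases Nat.mul_eq_zero.mp this with h | h <;> omega
  · rcases e with _ | e
    · left
      rw [zero_add, pow_one] at h1
      refine ⟨by rw [he]; simp, ?_⟩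
      have : (p - 1) * Nat.card (IdxOver p X) = (p - 1) * 1 := by have := hp.out.two_le; omega
      exact Nat.eq_of_mul_eq_mul_left hp1 this
    · right
      refine ⟨by rw [he]; exact pow_dvd_pow p (by omega), ?_⟩
      intro h
      rw [h] at h1
      have h3 : p ^ (e + 1 + 1) = p ^ e * p * p := by ring
      have hp2 := hp.out.two_le
      have hpos : 1 ≤ p ^ e := pow_pos hp.out.pos e
      have h4 : p * p ≤ p ^ e * p * p := by
        calc p * p = 1 * p * p := by ring
          _ ≤ p ^ e * p * p := by gcongr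
      have h5 : 2 * p ≤ p * p := by gcongr
      omega

theorem card_idxOver_modEq_one [Finite G] (hG : IsPGroup p G) (X : Subgroup G) (hX : X ≠ ⊤) :
    Nat.card (IdxOver p X) ≡ 1 [MOD p] := by
  have h1 := card_ann_eq' p hG X
  have hdvd : p ∣ Nat.card (ann p X) := by
    rcases card_ann_cases p hG X hX with h | h
    · rw [h.1]
    · exact dvd_trans (dvd_pow_self p two_ne_zero) h.1
  have hp2 := hp.out.two_le
  apply Nat.ModEq.cancel_left_of_coprime (c := p - 1)
  · exact (Nat.coprime_self_sub_right (by omega)).mpr (Nat.coprime_one_right p)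
  · apply Nat.ModEq.add_right_cancel' 1
    rw [h1]
    have : (p - 1) * 1 + 1 = p := by omega
    rw [this]
    exact (Nat.modEq_zero_iff_dvd.mpr hdvd).trans (Nat.modEq_zero_iff_dvd.mpr dvd_rfl).symm

theorem card_idxOver_modEq_sq [Finite G] (hG : IsPGroup p G) (X : Subgroup G)
    (hdvd : p ^ 2 ∣ Nat.card (ann p X)) :
    Nat.card (IdxOver p X) ≡ 1 + p [MOD p ^ 2] := by
  have h1 := card_ann_eq' p hG X
  have hp2 := hp.out.two_le
  apply Nat.ModEq.cancel_left_of_coprime (c := p - 1)
  · apply Nat.Coprime.pow_left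
    exact (Nat.coprime_self_sub_right (by omega)).mpr (Nat.coprime_one_right p)
  · apply Nat.ModEq.add_right_cancel' 1
    rw [h1]
    have : (p - 1) * (1 + p) + 1 = p ^ 2 := by
      obtain ⟨q, rfl⟩ : ∃ q, p = q + 1 := ⟨p - 1, by omega⟩
      simp only [Nat.add_sub_cancel]
      ring
    rw [this]
    exact (Nat.modEq_zero_iff_dvd.mpr hdvd).trans (Nat.modEq_zero_iff_dvd.mpr dvd_rfl).symm

end Cfsg.Agent.Lib.H26.Kul
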