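import Mathlib
import Cfsg.Agent.Lib.H26.KulDual
import Cfsg.Agent.Lib.H17.Wielandt

set_option autoImplicit false

/-!
# Hall's enumeration principle modulo `p²` for subgroups of given order
-/

namespace Cfsg.Agent.Lib.H26.Kul

open Cfsg.Agent.Lib.H17.Wielandt

/-- Double counting. -/
theorem sum_card_comm {A B : Type*} [Fintype A] [Fintype B] (R : A → B → Prop) :
    ∑ a, Nat.card {b // R a b} = ∑ b, Nat.card {a // R a b} := by
  classical
  rw [← Nat.card_sigma, ← Nat.card_sigma]
  exact Nat.card_congr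
    { toFun := fun x => ⟨x.2.1, x.1, x.2.2⟩
      invFun := fun x => ⟨x.2.1, x.1, x.2.2⟩
      left_inv := fun _ => rfl
      right_inv := fun _ => rfl }

variable {G : Type*} [Group G]

/-- Subgroups of `H` of given order, as subgroups of `G` inside `H`. -/
noncomputable def subEquiv (H : Subgroup G) (n : ℕ) :
    {K : Subgroup H // Nat.card K = n} ≃ {K : Subgroup G // Nat.card K = n ∧ K ≤ H} where
  toFun K := ⟨K.1.map H.subtype, by
    rw [Nat.card_congr (K.1.equivMapOfInjective H.subtype H.subtype_injective).symm.toEquiv]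
    exact K.2, Subgroup.map_subtype_le K.1⟩
  invFun K := ⟨K.1.subgroupOf H, by
    rw [Nat.card_congr (Subgroup.subgroupOfEquivOfLe K.2.2).toEquiv]; exact K.2.1⟩
  left_inv K := Subtype.ext (Subgroup.comap_map_eq_self_of_injective H.subtype_injective K.1)
  right_inv K := Subtype.ext (Subgroup.map_subgroupOf_eq_of_le K.2.2)

theorem card_sub_eq (H : Subgroup G) (n : ℕ) :
    Nat.card {K : Subgroup H // Nat.card K = n} =
      Nat.card {K : {K : Subgroup G // Nat.card K = n} // K.1 ≤ H} := by
  rw [Nat.card_congr (subEquiv H n)]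
  exact Nat.card_congr
    { toFun := fun K => ⟨⟨K.1, K.2.1⟩, K.2.2⟩
      invFun := fun K => ⟨K.1.1, K.1.2, K.2⟩
      left_inv := fun _ => rfl
      right_inv := fun _ => rfl }

variable (p : ℕ) [hp : Fact p.Prime]

/-- `Σ_H s_k(H) = Σ_K μ(K)`. -/
theorem sum_sk_eq [Finite G] (k : ℕ) [Fintype (IdxOver p (⊥ : Subgroup G))]
    [Fintype {K : Subgroup G // Nat.card K = p ^ k}] :
    ∑ H : IdxOver p (⊥ : Subgroup G), Nat.card {K : Subgroup H.1 // Nat.card K = p ^ k} =
      ∑ K : {K : Subgroup G // Nat.card K = p ^ k}, Nat.card (IdxOver p K.1) := by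
  have h := sum_card_comm (fun (H : IdxOver p (⊥ : Subgroup G))
    (K : {K : Subgroup G // Nat.card K = p ^ k}) => K.1 ≤ H.1)
  rw [Finset.sum_congr rfl (fun H _ => card_sub_eq H.1 (p ^ k)), h]
  apply Finset.sum_congr rfl
  intro K _
  exact Nat.card_congr
    { toFun := fun H => ⟨H.1.1, H.1.2.1, H.2⟩
      invFun := fun H => ⟨⟨H.1, H.2.1, bot_le⟩, H.2.2⟩
      left_inv := fun _ => rfl
      right_inv := fun _ => rfl }

/-- The common kernel of a subgroup of the dual. -/
def perp (B : Subgroup (G →* Multiplicative (ZMod p))) : Subgroup G :=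
  ⨅ f : B, (f.1 : G →* Multiplicative (ZMod p)).ker

theorem mem_perp {B : Subgroup (G →* Multiplicative (ZMod p))} {x : G} :
    x ∈ perp p B ↔ ∀ f ∈ B, f x = 1 := by
  unfold perp
  rw [Subgroup.mem_iInf]
  constructor
  · intro h f hf; exact MonoidHom.mem_ker.mp (h ⟨f, hf⟩)
  · intro h f; exact MonoidHom.mem_ker.mpr (h f.1 f.2)

theorem le_ann_iff_le_perp {B : Subgroup (G →* Multiplicative (ZMod p))} {K : Subgroup G} :
    B ≤ ann p K ↔ K ≤ perp p B := by
  constructor
  · intro h x hx
    rw [mem_perp]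
    intro f hf
    exact h hf x hx
  · intro h f hf x hx
    exact (mem_perp p).mp (h hx) f hf

/-- The common kernel of a subgroup of order `p²` of the dual has index at most `p²`. -/
theorem index_perp_le [Finite G] (B : Subgroup (G →* Multiplicative (ZMod p)))
    (hB : Nat.card B = p ^ 2) : (perp p B).index ≤ p ^ 2 := by
  have hp2 := hp.out.two_le
  -- a nontrivial element
  have hBnt : B ≠ ⊥ := by
    intro h
    rw [h, Subgroup.card_bot] at hB
    have : 2 * 2 ≤ p ^ 2 := by rw [pow_two]; exact Nat.mul_le_mul hp2 hp2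
    omega
  obtain ⟨f₁, hf₁, hf₁1⟩ := (Subgroup.ne_bot_iff_exists_ne_one).mp hBnt |>.imp
    (fun f h => h) |> fun ⟨f, h⟩ => (⟨f.1, f.2, fun h' => h (Subtype.ext h')⟩ :
      ∃ f : G →* Multiplicative (ZMod p), f ∈ B ∧ f ≠ 1)
  have hord : orderOf f₁ = p := by
    apply orderOf_eq_prime
    · ext x
      rw [MonoidHom.pow_apply, pow_p_eq_one]; rfl
    · exact hf₁1
  have hC : Nat.card (Subgroup.zpowers f₁) = p := by rw [Nat.card_zpowers, hord]
  have hCB : Subgroup.zpowers f₁ ≤ B := (Subgroup.zpowers_le).mpr hf₁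
  obtain ⟨f₂, hf₂, hf₂C⟩ : ∃ f₂ ∈ B, f₂ ∉ Subgroup.zpowers f₁ := by
    by_contra hcon
    push Not at hcon
    have : B = Subgroup.zpowers f₁ := le_antisymm hcon hCB
    rw [this, hC] at hB
    have : p * 2 ≤ p ^ 2 := by rw [pow_two]; exact Nat.mul_le_mul le_rfl hp2
    omega
  have hf₂1 : f₂ ≠ 1 := fun h => hf₂C (h ▸ Subgroup.one_mem _)
  -- the two kernels
  have hle : (f₁.ker ⊓ f₂.ker) ≤ perp p B := by
    intro x hx
    rw [mem_perp]
    -- the characters killing x form a subgroup containing f₁ f₂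
    have h1 : f₁ ∈ ann p (Subgroup.zpowers x) := by
      rw [mem_ann_iff_le_ker, Subgroup.zpowers_le]; exact hx.1
    have h2 : f₂ ∈ ann p (Subgroup.zpowers x) := by
      rw [mem_ann_iff_le_ker, Subgroup.zpowers_le]; exact hx.2
    have hBle : B ≤ ann p (Subgroup.zpowers x) := by
      -- B = zpowers f₁ ⊔ zpowers f₂
      have hsup : Subgroup.zpowers f₁ ⊔ Subgroup.zpowers f₂ ≤ B :=
        sup_le hCB ((Subgroup.zpowers_le).mpr hf₂)
      have hlt : Subgroup.zpowers f₁ < Subgroup.zpowers f₁ ⊔ Subgroup.zpowers f₂ := by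
        refine lt_of_le_of_ne le_sup_left ?_
        intro h
        apply hf₂C
        rw [h]
        exact (le_sup_right : Subgroup.zpowers f₂ ≤ _) (Subgroup.mem_zpowers f₂)
      have hcard : Nat.card (Subgroup.zpowers f₁ ⊔ Subgroup.zpowers f₂ : Subgroup _) = p ^ 2 := by
        have hd : Nat.card (Subgroup.zpowers f₁ ⊔ Subgroup.zpowers f₂ : Subgroup _) ∣ p ^ 2 := by
          rw [← hB]; exact Subgroup.card_dvd_of_le hsup
        obtain ⟨j, hj, hjc⟩ := (Nat.dvd_prime_pow hp.out).mp hd
        have hgt : p < Nat.card (Subgroup.zpowers f₁ ⊔ Subgroup.zpowers f₂ : Subgroup _) := by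
          have := lt_of_le_of_ne (Subgroup.card_le_of_le hlt.le)
            (fun h => hlt.ne (Subgroup.eq_of_le_of_card_ge hlt.le h.ge))
          rwa [hC] at this
        rw [hjc] at hgt ⊢
        have : 1 < j := by
          by_contra hcon
          push Not at hcon
          have : p ^ j ≤ p ^ 1 := Nat.pow_le_pow_right hp.out.pos hcon
          rw [pow_one] at this
          omega
        have : j = 2 := by omega
        rw [this]
      have : Subgroup.zpowers f₁ ⊔ Subgroup.zpowers f₂ = B :=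
        Subgroup.eq_of_le_of_card_ge hsup (by rw [hcard, hB])
      rw [← this]
      exact sup_le ((Subgroup.zpowers_le).mpr h1) ((Subgroup.zpowers_le).mpr h2)
    intro f hf
    exact hBle hf x (Subgroup.mem_zpowers x)
  calc (perp p B).index ≤ (f₁.ker ⊓ f₂.ker).index :=
        Nat.le_of_dvd (Nat.pos_of_ne_zero Subgroup.index_ne_zero_of_finite)
          (Subgroup.index_dvd_of_le hle)
    _ ≤ f₁.ker.index * f₂.ker.index := Subgroup.index_inf_le
    _ = p ^ 2 := by
        rw [index_ker_of_ne_one p f₁ hf₁1, index_ker_of_ne_one p f₂ hf₂1, pow_two]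

/-- Subgroups of order `p²` of the dual inside the annihilator of `K`. -/
abbrev NuSet (p : ℕ) (K : Subgroup G) : Type _ :=
  {B : {B : Subgroup (G →* Multiplicative (ZMod p)) // Nat.card B = p ^ 2} // B.1 ≤ ann p K}

theorem card_idxOver_modEq_nu [Finite G] (hG : IsPGroup p G) (K : Subgroup G) (hK : K ≠ ⊤) :
    Nat.card (IdxOver p K) ≡ 1 + p * Nat.card (NuSet p K) [MOD p ^ 2] := by
  have hp2 := hp.out.two_le
  rcases card_ann_cases p hG K hK with ⟨h1, h2⟩ | ⟨h1, h2⟩
  · have : IsEmpty (NuSet p K) := by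
      refine ⟨fun B => ?_⟩
      have := Subgroup.card_le_of_le B.2
      rw [B.1.2, h1] at this
      have : p * 2 ≤ p ^ 2 := by rw [pow_two]; exact Nat.mul_le_mul le_rfl hp2
      omega
    rw [h2, Nat.card_of_isEmpty, mul_zero, add_zero]
  · have h3 := card_idxOver_modEq_sq p hG K h1
    refine h3.trans ?_
    apply Nat.ModEq.add_left
    have h4 : Nat.card (NuSet p K) ≡ 1 [MOD p] := by
      have : Nat.card (NuSet p K) =
          Nat.card {B : Subgroup (ann p K) // Nat.card B = p ^ 2} := by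
        rw [card_sub_eq]
      rw [this]
      exact card_subgroups_modEq_one p 2 h1
    have := Nat.ModEq.mul_left' p h4
    rw [mul_one, ← pow_two] at this
    exact this.symm

theorem card_le_perp_modEq [Finite G] (hG : IsPGroup p G) (m k : ℕ) (hm : Nat.card G = p ^ m)
    (hk : k + 2 ≤ m) (B : {B : Subgroup (G →* Multiplicative (ZMod p)) // Nat.card B = p ^ 2}) :
    Nat.card {K : {K : Subgroup G // Nat.card K = p ^ k} // B.1 ≤ ann p K.1} ≡ 1 [MOD p] := by
  have : Nat.card {K : {K : Subgroup G // Nat.card K = p ^ k} // B.1 ≤ ann p K.1} =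
      Nat.card {K : Subgroup (perp p B.1) // Nat.card K = p ^ k} := by
    rw [card_sub_eq]
    exact Nat.card_congr
      { toFun := fun K => ⟨K.1, (le_ann_iff_le_perp p).mp K.2⟩
        invFun := fun K => ⟨K.1, (le_ann_iff_le_perp p).mpr K.2⟩
        left_inv := fun _ => rfl
        right_inv := fun _ => rfl }
  rw [this]
  apply card_subgroups_modEq_one
  obtain ⟨j, hj⟩ := IsPGroup.iff_card.mp (hG.to_subgroup (perp p B.1))
  rw [hj]
  apply pow_dvd_pow
  -- index ≤ p² forces j ≥ m - 2
  have h1 := Subgroup.card_mul_index (perp p B.1)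
  rw [hj, hm] at h1
  have h2 := index_perp_le p B.1 B.2
  by_contra hcon
  push Not at hcon
  have h3 : j + 3 ≤ m := by omega
  have h4 : p ^ m = p ^ j * p ^ (m - j) := by rw [← pow_add]; congr 1; omega
  rw [h4] at h1
  have h5 := Nat.eq_of_mul_eq_mul_left (pow_pos hp.out.pos j) h1
  rw [h5] at h2
  have h6 : p ^ 3 ≤ p ^ (m - j) := Nat.pow_le_pow_right hp.out.pos (by omega)
  have h7 : p ^ 2 < p ^ 3 := Nat.pow_lt_pow_right hp.out.one_lt (by norm_num)
  omega

/-- **Hall's enumeration principle modulo `p²`** for the subgroups of order `p ^ k`. -/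
theorem sum_sk_modEq [Finite G] (hG : IsPGroup p G) (m k : ℕ) (hm : Nat.card G = p ^ m)
    (hk : k + 2 ≤ m) (hnc : Nat.card (IdxOver p (⊥ : Subgroup G)) ≠ 1)
    [Fintype (IdxOver p (⊥ : Subgroup G))] :
    ∑ H : IdxOver p (⊥ : Subgroup G), Nat.card {K : Subgroup H.1 // Nat.card K = p ^ k} ≡
      Nat.card {K : Subgroup G // Nat.card K = p ^ k} + p [MOD p ^ 2] := by
  classical
  haveI : Fintype {K : Subgroup G // Nat.card K = p ^ k} := Fintype.ofFinite _
  haveI : Fintype {B : Subgroup (G →* Multiplicative (ZMod p)) // Nat.card B = p ^ 2} :=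
    Fintype.ofFinite _
  rw [sum_sk_eq]
  have hKtop : ∀ K : {K : Subgroup G // Nat.card K = p ^ k}, K.1 ≠ ⊤ := by
    intro K h
    have := K.2
    rw [h, Subgroup.card_top, hm] at this
    have := Nat.pow_right_injective hp.out.two_le this
    omega
  have h1 : ∑ K : {K : Subgroup G // Nat.card K = p ^ k}, Nat.card (IdxOver p K.1) ≡
      ∑ K : {K : Subgroup G // Nat.card K = p ^ k}, (1 + p * Nat.card (NuSet p K.1)) [MOD p ^ 2] := by
    have := (Nat.ModEq.sum (s := Finset.univ) (n := p ^ 2)
      (f := fun K : {K : Subgroup G // Nat.card K = p ^ k} => Nat.card (IdxOver p K.1))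
      (g := fun K => 1 + p * Nat.card (NuSet p K.1))
      (fun K _ => card_idxOver_modEq_nu p hG K.1 (hKtop K)))
    exact this
  refine h1.trans ?_
  rw [Finset.sum_add_distrib, Finset.sum_const, Finset.card_univ, smul_eq_mul, mul_one,
    ← Finset.mul_sum, ← Nat.card_eq_fintype_card]
  apply Nat.ModEq.add_left
  -- Σ_K ν(K) ≡ 1 mod p
  have h2 : ∑ K : {K : Subgroup G // Nat.card K = p ^ k}, Nat.card (NuSet p K.1) ≡ 1 [MOD p] := by
    have h3 := sum_card_comm (fun (K : {K : Subgroup G // Nat.card K = p ^ k})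
      (B : {B : Subgroup (G →* Multiplicative (ZMod p)) // Nat.card B = p ^ 2}) => B.1 ≤ ann p K.1)
    rw [h3]
    have h4 : ∑ B : {B : Subgroup (G →* Multiplicative (ZMod p)) // Nat.card B = p ^ 2},
        Nat.card {K : {K : Subgroup G // Nat.card K = p ^ k} // B.1 ≤ ann p K.1} ≡
        ∑ _B : {B : Subgroup (G →* Multiplicative (ZMod p)) // Nat.card B = p ^ 2}, 1 [MOD p] :=
      Nat.ModEq.sum (fun B _ => card_le_perp_modEq p hG m k hm hk B)
    refine h4.trans ?_
    rw [Finset.sum_const, Finset.card_univ, smul_eq_mul, mul_one, ← Nat.card_eq_fintype_card]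
    apply card_subgroups_modEq_one
    -- p² divides the order of the dual
    have hbt : (⊥ : Subgroup G) ≠ ⊤ := by
      intro h
      have h5 : Nat.card G = 1 := by
        rw [← Subgroup.card_top (G := G), ← h, Subgroup.card_bot]
      rw [hm] at h5
      have : m = 0 := by
        by_contra hm0
        have : 2 ≤ p ^ m := le_trans hp.out.two_le (Nat.le_self_pow hm0 p)
        omega
      omega
    rcases card_ann_cases p hG ⊥ hbt with ⟨_, h6⟩ | ⟨h6, _⟩
    · exact absurd h6 hnc
    · have : Nat.card (ann p (⊥ : Subgroup G)) = Nat.card (G →* Multiplicative (ZMod p)) := by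
        have : ann p (⊥ : Subgroup G) = ⊤ := by
          rw [eq_top_iff]
          intro f _ x hx
          rw [Subgroup.mem_bot] at hx
          rw [hx, map_one]
        rw [this, Subgroup.card_top]
      rwa [this] at h6
  have := Nat.ModEq.mul_left' p h2
  rw [mul_one, ← pow_two] at this
  exact this

end Cfsg.Agent.Lib.H26.Kul
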