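import Mathlib
import Cfsg.Agent.Lib.H26.KulPairs
import Cfsg.Agent.Lib.H26.KulConj
import Cfsg.Agent.Lib.H26.KulAct

set_option autoImplicit false

/-!
# P. Hall's reduction: `s_a(G) ≡ s_a(P) (mod p²)` for a Sylow `p`-subgroup `P`
-/

namespace Cfsg.Agent.Lib.H26.Kul

open Cfsg.Agent.Lib.H17.Wielandt MulAction

variable {G : Type*} [Group G] [Finite G] (p : ℕ) [hp : Fact p.Prime]

/-- **Lemma N**: the number of subgroups of order `p ^ a` inside `M'` normalized by the `p`-group
`Q` (which normalizes `M'`) is `≡ 1 mod p`. -/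
theorem card_normalized_modEq_one (Q M' : Subgroup G) (hQ : IsPGroup p Q)
    (hQM : Q ≤ Subgroup.normalizer (M' : Set G)) (a : ℕ) (hdvd : p ^ a ∣ Nat.card M') :
    Nat.card {K : SubN G (p ^ a) // K.1 ≤ M' ∧ Q ≤ Subgroup.normalizer (K.1 : Set G)} ≡
      1 [MOD p] := by
  let S : SubMulAction Q (SubN G (p ^ a)) :=
    { carrier := {K | K.1 ≤ M'}
      smul_mem' := fun g K hK => by
        show cj (g : G) K.1 ≤ M'
        have := cj_mono (g : G) hK
        rwa [cj_eq_self_iff.mpr (hQM g.2)] at this }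
  have h1 := hQ.card_modEq_card_fixedPoints S
  have h2 : Nat.card S = Nat.card {K : Subgroup M' // Nat.card K = p ^ a} := by
    rw [card_sub_eq]
    exact Nat.card_congr (Equiv.refl _)
  have h3 : Nat.card (fixedPoints Q S) =
      Nat.card {K : SubN G (p ^ a) // K.1 ≤ M' ∧ Q ≤ Subgroup.normalizer (K.1 : Set G)} := by
    apply Nat.card_congr
    exact
      { toFun := fun K => ⟨K.1.1, K.1.2, by
          rw [← mem_fixedPoints_iff]
          intro g
          exact congrArg Subtype.val (K.2 g)⟩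
        invFun := fun K => ⟨⟨K.1, K.2.1⟩, by
          intro g
          apply Subtype.ext
          exact (mem_fixedPoints_iff Q (p ^ a) K.1).mpr K.2.2 g⟩
        left_inv := fun _ => rfl
        right_inv := fun _ => rfl }
  rw [h2, h3] at h1
  exact h1.symm.trans (card_subgroups_modEq_one p a hdvd)

theorem card_subtype_split {α : Type*} [Finite α] (A B : α → Prop) :
    Nat.card {x // A x} = Nat.card {x // A x ∧ B x} + Nat.card {x // A x ∧ ¬ B x} := by
  classical
  rw [← Nat.card_congr (Equiv.subtypeSubtypeEquivSubtypeInter A B),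
    ← Nat.card_congr (Equiv.subtypeSubtypeEquivSubtypeInter A (fun x => ¬ B x)), ← Nat.card_sum]
  exact Nat.card_congr (Equiv.sumCompl (fun x : {x // A x} => B x.1)).symm

theorem card_subgroupOf_eq (H K : Subgroup G) :
    Nat.card (H.subgroupOf K) = Nat.card (K ⊓ H : Subgroup G) := by
  rw [← Subgroup.inf_subgroupOf_left]
  exact Nat.card_congr (Subgroup.subgroupOfEquivOfLe inf_le_left).toEquiv

/-- The standing hypotheses: `P` has order `p ^ n` and no `p`-subgroup is larger. -/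
structure SylowLike (P : Subgroup G) (n : ℕ) : Prop where
  card_eq : Nat.card P = p ^ n
  card_le : ∀ R : Subgroup G, IsPGroup p R → Nat.card R ≤ p ^ n

namespace SylowLike

variable {p} {P : Subgroup G} {n : ℕ} (h : SylowLike p P n)
include h

theorem isPGroup : IsPGroup p P := IsPGroup.of_card h.card_eq

/-- A `p`-subgroup normalized by `P` lies in `P`. -/
theorem le_of_le_normalizer {K : Subgroup G} (hK : IsPGroup p K)
    (hPK : P ≤ Subgroup.normalizer (K : Set G)) : K ≤ P := by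
  have h1 : IsPGroup p (K ⊔ P : Subgroup G) := hK.to_sup_of_normal_left' h.isPGroup hPK
  have h2 := h.card_le _ h1
  have h3 : P = K ⊔ P := Subgroup.eq_of_le_of_card_ge le_sup_right (by rw [h.card_eq]; exact h2)
  rw [h3]; exact le_sup_left

/-- The stabilizer index formula. -/
theorem index_stabilizer_mul (a : ℕ) (K : SubN G (p ^ a)) :
    (stabilizer P K).index *
      Nat.card (P ⊓ Subgroup.normalizer (K.1 : Set G) : Subgroup G) = p ^ n := by
  rw [stabilizer_eq, ← card_subgroupOf_eq, mul_comm, Subgroup.card_mul_index, h.card_eq]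

theorem inf_normalizer_ne {K : Subgroup G} (hK : IsPGroup p K) (hKP : ¬ K ≤ P) :
    P ⊓ Subgroup.normalizer (K : Set G) ≠ P := by
  intro h1
  apply hKP
  apply h.le_of_le_normalizer hK
  rw [← h1]; exact inf_le_right

/-- A `p`-subgroup properly containing a subgroup of order `p ^ (n - 1)` has order `p ^ n`. -/
theorem card_eq_of_lt {M R : Subgroup G} (hR : IsPGroup p R) (hM : Nat.card M * p = p ^ n)
    (hlt : M < R) : Nat.card R = p ^ n := by
  obtain ⟨j, hj⟩ := IsPGroup.iff_card.mp hR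
  have h1 := h.card_le R hR
  have h2 : Nat.card M < Nat.card R := lt_of_le_of_ne (Subgroup.card_le_of_le hlt.le)
    (fun h => hlt.ne (Subgroup.eq_of_le_of_card_ge hlt.le h.ge))
  rw [hj] at h1 h2 ⊢
  have h3 : p ^ n < p ^ j * p := by rw [← hM]; exact Nat.mul_lt_mul_of_pos_right h2 hp.out.pos
  rw [← pow_succ] at h3
  have h4 : n < j + 1 := (Nat.pow_lt_pow_iff_right hp.out.one_lt).mp h3
  have h5 : j ≤ n := (Nat.pow_le_pow_iff_right hp.out.one_lt).mp h1
  have : j = n := by omega
  rw [this]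

/-- A proper `p`-subgroup of `P` containing a subgroup of order `p ^ (n-1)` has that order. -/
theorem card_mul_of_between {M₀ M : Subgroup G} (hM₀ : Nat.card M₀ * p = p ^ n) (h01 : M₀ ≤ M)
    (hMP : M ≤ P) (hne : M ≠ P) : Nat.card M * p = p ^ n := by
  have hMp : IsPGroup p M := h.isPGroup.to_le hMP
  obtain ⟨j, hj⟩ := IsPGroup.iff_card.mp hMp
  have h1 : Nat.card M < p ^ n := by
    rw [← h.card_eq]
    exact lt_of_le_of_ne (Subgroup.card_le_of_le hMP)
      (fun h' => hne (Subgroup.eq_of_le_of_card_ge hMP h'.ge))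
  have h2 := Subgroup.card_le_of_le h01
  rw [hj] at h1 h2 ⊢
  have h3 : p ^ n ≤ p ^ j * p := by rw [← hM₀]; exact Nat.mul_le_mul_right p h2
  rw [← pow_succ] at h3 ⊢
  have h4 : n ≤ j + 1 := (Nat.pow_le_pow_iff_right hp.out.one_lt).mp h3
  have h5 : j < n := (Nat.pow_lt_pow_iff_right hp.out.one_lt).mp h1
  have : j + 1 = n := by omega
  rw [this]

end SylowLike

/-- The relation between a subgroup `K` of order `p ^ a` outside `P` and the unique `p`-subgroup
`Q` of maximal order containing `K` as a normal subgroup and meeting `P` in index `p`. -/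
def Rel (P : Subgroup G) (n a : ℕ) (K : SubN G (p ^ a)) (Q : SubN G (p ^ n)) : Prop :=
  K.1 ≤ Q.1 ∧ Q.1 ≤ Subgroup.normalizer (K.1 : Set G) ∧ ¬ K.1 ≤ P ∧
    Nat.card (P ⊓ Q.1 : Subgroup G) * p = p ^ n

section rel

variable {p} {P : Subgroup G} {n : ℕ} (h : SylowLike p P n) {a : ℕ}
include h

theorem rel_imp {K : SubN G (p ^ a)} {Q : SubN G (p ^ n)} (hR : Rel p P n a K Q) :
    Nat.card (P ⊓ Subgroup.normalizer (K.1 : Set G) : Subgroup G) * p = p ^ n ∧
      Q.1 = K.1 ⊔ (P ⊓ Subgroup.normalizer (K.1 : Set G)) := by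
  obtain ⟨h1, h2, h3, h4⟩ := hR
  have hK : IsPGroup p K.1 := IsPGroup.of_card K.2
  have hQ : IsPGroup p Q.1 := IsPGroup.of_card Q.2
  have h5 : P ⊓ Q.1 ≤ P ⊓ Subgroup.normalizer (K.1 : Set G) := inf_le_inf_left P h2
  have h6 := h.card_mul_of_between h4 h5 inf_le_left (h.inf_normalizer_ne hK h3)
  refine ⟨h6, ?_⟩
  have h7 : P ⊓ Q.1 = P ⊓ Subgroup.normalizer (K.1 : Set G) := by
    apply Subgroup.eq_of_le_of_card_ge h5
    have := h6.trans h4.symm
    exact (Nat.eq_of_mul_eq_mul_right hp.out.pos this).le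
  have h8 : K.1 ⊔ (P ⊓ Subgroup.normalizer (K.1 : Set G)) ≤ Q.1 := by
    rw [← h7]; exact sup_le h1 inf_le_right
  have h9 : P ⊓ Subgroup.normalizer (K.1 : Set G) <
      K.1 ⊔ (P ⊓ Subgroup.normalizer (K.1 : Set G)) := by
    refine lt_of_le_of_ne le_sup_right ?_
    intro h'
    apply h3
    have : K.1 ≤ P ⊓ Subgroup.normalizer (K.1 : Set G) := by rw [h']; exact le_sup_left
    exact this.trans inf_le_left
  have h10 := h.card_eq_of_lt (hQ.to_le h8) h6 h9
  exact (Subgroup.eq_of_le_of_card_ge h8 (by rw [h10, Q.2])).symm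

theorem rel_of_cond (K : SubN G (p ^ a)) (hKP : ¬ K.1 ≤ P)
    (hc : Nat.card (P ⊓ Subgroup.normalizer (K.1 : Set G) : Subgroup G) * p = p ^ n) :
    ∃ Q : SubN G (p ^ n), Rel p P n a K Q := by
  have hK : IsPGroup p K.1 := IsPGroup.of_card K.2
  set M := P ⊓ Subgroup.normalizer (K.1 : Set G) with hM
  have hMp : IsPGroup p M := h.isPGroup.to_le inf_le_left
  have h1 : IsPGroup p (K.1 ⊔ M : Subgroup G) :=
    hK.to_sup_of_normal_left' hMp inf_le_right
  have h9 : M < K.1 ⊔ M := by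
    refine lt_of_le_of_ne le_sup_right ?_
    intro h'
    apply hKP
    have : K.1 ≤ M := by rw [h']; exact le_sup_left
    exact this.trans inf_le_left
  have h10 := h.card_eq_of_lt h1 hc h9
  refine ⟨⟨K.1 ⊔ M, h10⟩, le_sup_left, sup_le Subgroup.le_normalizer inf_le_right, hKP, ?_⟩
  have : P ⊓ (K.1 ⊔ M) = M := by
    apply le_antisymm
    · exact inf_le_inf_left P (sup_le Subgroup.le_normalizer inf_le_right)
    · exact le_inf inf_le_left le_sup_right
  show Nat.card (P ⊓ (K.1 ⊔ M) : Subgroup G) * p = p ^ n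
  rw [this]; exact hc

theorem card_partner (K : SubN G (p ^ a)) [Decidable (¬ K.1 ≤ P ∧
    Nat.card (P ⊓ Subgroup.normalizer (K.1 : Set G) : Subgroup G) * p = p ^ n)] :
    Nat.card {Q : SubN G (p ^ n) // Rel p P n a K Q} =
      if (¬ K.1 ≤ P ∧
        Nat.card (P ⊓ Subgroup.normalizer (K.1 : Set G) : Subgroup G) * p = p ^ n) then 1 else 0 := by
  split_ifs with hc
  · rw [Nat.card_eq_one_iff_unique]
    obtain ⟨Q₀, hQ₀⟩ := rel_of_cond h K hc.1 hc.2
    refine ⟨⟨fun Q₁ Q₂ => ?_⟩, ⟨⟨Q₀, hQ₀⟩⟩⟩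
    apply Subtype.ext
    apply Subtype.ext
    rw [(rel_imp h Q₁.2).2, (rel_imp h Q₂.2).2]
  · haveI : IsEmpty {Q : SubN G (p ^ n) // Rel p P n a K Q} := by
      refine ⟨fun Q => hc ⟨Q.2.2.2.1, (rel_imp h Q.2).1⟩⟩
    exact Nat.card_of_isEmpty

theorem rel_smul (g : P) {K : SubN G (p ^ a)} {Q : SubN G (p ^ n)} (hR : Rel p P n a K Q) :
    Rel p P n a (g • K) (g • Q) := by
  obtain ⟨h1, h2, h3, h4⟩ := hR
  refine ⟨cj_mono (g : G) h1, le_normalizer_cj h2, ?_, ?_⟩
  · intro h5
    apply h3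
    have h6 := cj_mono (g : G)⁻¹ h5
    rw [smul_val, cj_inv_cj, cj_eq_self_of_mem (P.inv_mem g.2)] at h6
    exact h6
  · have : P ⊓ (g • Q).1 = cj (g : G) (P ⊓ Q.1) := by
      rw [cj_inf, cj_eq_self_of_mem g.2]; rfl
    rw [this, card_cj]
    exact h4

/-- The weight of `Q`: the number of `K` related to it. -/
noncomputable def wt (p : ℕ) (P : Subgroup G) (n a : ℕ) (Q : SubN G (p ^ n)) : ℕ :=
  Nat.card {K : SubN G (p ^ a) // Rel p P n a K Q}

theorem wt_smul (g : P) (Q : SubN G (p ^ n)) : wt p P n a (g • Q) = wt p P n a Q := by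
  unfold wt
  symm
  apply Nat.card_congr
  exact
    { toFun := fun K => ⟨g • K.1, rel_smul h g K.2⟩
      invFun := fun K => ⟨g⁻¹ • K.1, by
        have := rel_smul h g⁻¹ K.2
        rwa [inv_smul_smul] at this⟩
      left_inv := fun K => Subtype.ext (inv_smul_smul g K.1)
      right_inv := fun K => Subtype.ext (smul_inv_smul g K.1) }

theorem wt_eq_zero_of_fixed (Q : SubN G (p ^ n)) (hQ : Q ∈ fixedPoints P (SubN G (p ^ n))) :
    wt p P n a Q = 0 := by
  unfold wt
  haveI : IsEmpty {K : SubN G (p ^ a) // Rel p P n a K Q} := by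
    refine ⟨fun K => ?_⟩
    obtain ⟨h1, h2, h3, h4⟩ := K.2
    have h5 : Q.1 ≤ P := h.le_of_le_normalizer (IsPGroup.of_card Q.2)
      ((mem_fixedPoints_iff P (p ^ n) Q).mp hQ)
    have h6 : P ⊓ Q.1 = Q.1 := inf_eq_right.mpr h5
    rw [h6, Q.2] at h4
    have := hp.out.one_lt
    have h7 : 0 < p ^ n := pow_pos hp.out.pos n
    nlinarith
  exact Nat.card_of_isEmpty

theorem dvd_wt (ha : a + 1 ≤ n) (Q : SubN G (p ^ n)) : p ∣ wt p P n a Q := by
  unfold wt
  by_cases hc : Nat.card (P ⊓ Q.1 : Subgroup G) * p = p ^ n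
  · set M := P ⊓ Q.1 with hM
    have hQp : IsPGroup p Q.1 := IsPGroup.of_card Q.2
    -- Q normalizes M
    have hQM : Q.1 ≤ Subgroup.normalizer (M : Set G) := by
      rw [← Subgroup.normal_subgroupOf_iff_le_normalizer (inf_le_right : M ≤ Q.1)]
      apply normal_of_index_eq p hQp
      have h1 := Subgroup.card_mul_index (M.subgroupOf Q.1)
      have hQc : Nat.card Q.1 = p ^ n := Q.2
      have h2 : Nat.card (M.subgroupOf Q.1) = Nat.card M := by
        rw [card_subgroupOf_eq, inf_eq_right.mpr (inf_le_right : M ≤ Q.1)]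
      have h3 : Nat.card M * (M.subgroupOf Q.1).index = Nat.card M * p := by
        rw [← h2, h1, hQc, h2, hc]
      exact Nat.eq_of_mul_eq_mul_left Nat.card_pos h3
    have hA := card_normalized_modEq_one p Q.1 Q.1 hQp Subgroup.le_normalizer a
      (by rw [Q.2]; exact pow_dvd_pow p (by omega))
    have hMcard : Nat.card M = p ^ (n - 1) := by
      have : p ^ n = p ^ (n - 1) * p := by rw [← pow_succ]; congr 1; omega
      rw [this] at hc
      exact Nat.eq_of_mul_eq_mul_right hp.out.pos hc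
    have hB := card_normalized_modEq_one p Q.1 M hQp hQM a
      (by rw [hMcard]; exact pow_dvd_pow p (by omega))
    -- split A according to K ≤ P
    have hsplit : Nat.card {K : SubN G (p ^ a) // K.1 ≤ Q.1 ∧
          Q.1 ≤ Subgroup.normalizer (K.1 : Set G)} =
        Nat.card {K : SubN G (p ^ a) // K.1 ≤ M ∧ Q.1 ≤ Subgroup.normalizer (K.1 : Set G)} +
        Nat.card {K : SubN G (p ^ a) // Rel p P n a K Q} := by
      classical
      rw [← Nat.card_sum]
      apply Nat.card_congr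
      exact
        { toFun := fun K =>
            if hKP : K.1.1 ≤ P then Sum.inl ⟨K.1, le_inf hKP K.2.1, K.2.2⟩
            else Sum.inr ⟨K.1, K.2.1, K.2.2, hKP, hc⟩
          invFun := fun K => Sum.elim
            (fun K => ⟨K.1, K.2.1.trans inf_le_right, K.2.2⟩)
            (fun K => ⟨K.1, K.2.1, K.2.2.1⟩) K
          left_inv := fun K => by
            by_cases hKP : K.1.1 ≤ P
            · simp [hKP]
            · simp [hKP]
          right_inv := fun K => by
            rcases K with K | K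
            · have : K.1.1 ≤ P := K.2.1.trans inf_le_left
              simp [this]
            · have : ¬ K.1.1 ≤ P := K.2.2.2.1
              simp [this] }
    rw [hsplit] at hA
    have h2 : 1 + Nat.card {K : SubN G (p ^ a) // Rel p P n a K Q} ≡ 1 + 0 [MOD p] :=
      ((hB.symm.add_right _).trans hA)
    exact (Nat.modEq_zero_iff_dvd).mp (Nat.ModEq.add_left_cancel' 1 h2)
  · haveI : IsEmpty {K : SubN G (p ^ a) // Rel p P n a K Q} := ⟨fun K => hc K.2.2.2.2⟩
    rw [Nat.card_of_isEmpty]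
    exact dvd_zero p

theorem sq_dvd_card_out1 (ha : a + 1 ≤ n) :
    p ^ 2 ∣ Nat.card {K : SubN G (p ^ a) // ¬ K.1 ≤ P ∧
      Nat.card (P ⊓ Subgroup.normalizer (K.1 : Set G) : Subgroup G) * p = p ^ n} := by
  classical
  haveI : Fintype (SubN G (p ^ a)) := Fintype.ofFinite _
  haveI : Fintype (SubN G (p ^ n)) := Fintype.ofFinite _
  have h1 := sum_card_comm (fun (K : SubN G (p ^ a)) (Q : SubN G (p ^ n)) => Rel p P n a K Q)
  have h2 : ∑ K : SubN G (p ^ a), Nat.card {Q : SubN G (p ^ n) // Rel p P n a K Q} =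
      Nat.card {K : SubN G (p ^ a) // ¬ K.1 ≤ P ∧
        Nat.card (P ⊓ Subgroup.normalizer (K.1 : Set G) : Subgroup G) * p = p ^ n} := by
    rw [Finset.sum_congr rfl (fun K _ => card_partner h K), Finset.sum_boole,
      Nat.card_eq_fintype_card, Fintype.card_subtype]
    simp
  rw [← h2, h1]
  haveI : Finite P := inferInstance
  exact sq_dvd_sum_of_invariant p h.isPGroup (fun Q => wt p P n a Q)
    (fun g Q => wt_smul h g Q) (fun Q => dvd_wt h ha Q) (fun Q hQ => wt_eq_zero_of_fixed h Q hQ)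

theorem cond_smul (g : P) (K : SubN G (p ^ a)) :
    (¬ (g • K).1 ≤ P ∧
      Nat.card (P ⊓ Subgroup.normalizer ((g • K).1 : Set G) : Subgroup G) * p ≠ p ^ n) ↔
    (¬ K.1 ≤ P ∧
      Nat.card (P ⊓ Subgroup.normalizer (K.1 : Set G) : Subgroup G) * p ≠ p ^ n) := by
  have e1 : (g • K).1 ≤ P ↔ K.1 ≤ P := by
    rw [smul_val]
    constructor
    · intro h5
      have h6 := cj_mono (g : G)⁻¹ h5
      rwa [cj_inv_cj, cj_eq_self_of_mem (P.inv_mem g.2)] at h6
    · intro h5
      have h6 := cj_mono (g : G) h5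
      rwa [cj_eq_self_of_mem g.2] at h6
  have e2 : Nat.card (P ⊓ Subgroup.normalizer ((g • K).1 : Set G) : Subgroup G) =
      Nat.card (P ⊓ Subgroup.normalizer (K.1 : Set G) : Subgroup G) := by
    have : P ⊓ Subgroup.normalizer ((g • K).1 : Set G) =
        cj (g : G) (P ⊓ Subgroup.normalizer (K.1 : Set G)) := by
      rw [cj_inf, cj_eq_self_of_mem g.2, cj_normalizer]; rfl
    rw [this, card_cj]
  rw [e1, e2]

theorem sq_dvd_card_out2 :
    p ^ 2 ∣ Nat.card {K : SubN G (p ^ a) // ¬ K.1 ≤ P ∧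
      Nat.card (P ⊓ Subgroup.normalizer (K.1 : Set G) : Subgroup G) * p ≠ p ^ n} := by
  let S : SubMulAction P (SubN G (p ^ a)) :=
    { carrier := {K | ¬ K.1 ≤ P ∧
        Nat.card (P ⊓ Subgroup.normalizer (K.1 : Set G) : Subgroup G) * p ≠ p ^ n}
      smul_mem' := fun g K hK => (cond_smul h g K).mpr hK }
  have h1 : p ^ 2 ∣ Nat.card S := by
    apply dvd_card_of_dvd_index_stabilizer (P := P) (X := S)
    intro K
    rw [SubMulAction.stabilizer_of_subMul]
    have hK : ¬ K.1.1 ≤ P ∧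
      Nat.card (P ⊓ Subgroup.normalizer (K.1.1 : Set G) : Subgroup G) * p ≠ p ^ n := K.2
    have h2 := h.index_stabilizer_mul a K.1
    have hMp : IsPGroup p (P ⊓ Subgroup.normalizer (K.1.1 : Set G) : Subgroup G) :=
      h.isPGroup.to_le inf_le_left
    obtain ⟨j, hj⟩ := IsPGroup.iff_card.mp hMp
    obtain ⟨i, hi⟩ := h.isPGroup.index (stabilizer P K.1)
    rw [hj, hi, ← pow_add] at h2
    have h3 : i + j = n := Nat.pow_right_injective hp.out.two_le h2
    rw [hi]
    apply pow_dvd_pow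
    -- i ≠ 0 since K ≰ P, i ≠ 1 since the second condition
    by_contra hcon
    push Not at hcon
    have hi01 : i = 0 ∨ i = 1 := by omega
    rcases hi01 with rfl | rfl
    · -- index 1: M = P
      apply h.inf_normalizer_ne (IsPGroup.of_card K.1.2) hK.1
      apply Subgroup.eq_of_le_of_card_ge inf_le_left
      rw [h.card_eq, hj]
      have : j = n := by omega
      rw [this]
    · apply hK.2
      rw [hj, ← pow_succ]
      congr 1
      omega
  exact h1

/-- **P. Hall's reduction** in abstract form. -/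
theorem card_subN_modEq (ha : a + 1 ≤ n) :
    Nat.card (SubN G (p ^ a)) ≡ Nat.card {K : Subgroup P // Nat.card K = p ^ a} [MOD p ^ 2] := by
  classical
  -- split according to K ≤ P
  have h1 : Nat.card (SubN G (p ^ a)) = Nat.card {K : SubN G (p ^ a) // K.1 ≤ P} +
      Nat.card {K : SubN G (p ^ a) // ¬ K.1 ≤ P} := by
    rw [← Nat.card_sum]
    exact Nat.card_congr (Equiv.sumCompl (fun K : SubN G (p ^ a) => K.1 ≤ P)).symm
  have h2 : Nat.card {K : SubN G (p ^ a) // ¬ K.1 ≤ P} =
      Nat.card {K : SubN G (p ^ a) // ¬ K.1 ≤ P ∧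
        Nat.card (P ⊓ Subgroup.normalizer (K.1 : Set G) : Subgroup G) * p = p ^ n} +
      Nat.card {K : SubN G (p ^ a) // ¬ K.1 ≤ P ∧
        Nat.card (P ⊓ Subgroup.normalizer (K.1 : Set G) : Subgroup G) * p ≠ p ^ n} :=
    card_subtype_split (fun K : SubN G (p ^ a) => ¬ K.1 ≤ P)
      (fun K => Nat.card (P ⊓ Subgroup.normalizer (K.1 : Set G) : Subgroup G) * p = p ^ n)
  rw [h1, h2, ← card_sub_eq]
  obtain ⟨c1, hc1⟩ := sq_dvd_card_out1 h ha
  obtain ⟨c2, hc2⟩ := sq_dvd_card_out2 (a := a) h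
  rw [hc1, hc2]
  have : Nat.card {K : Subgroup P // Nat.card K = p ^ a} + (p ^ 2 * c1 + p ^ 2 * c2) =
      Nat.card {K : Subgroup P // Nat.card K = p ^ a} + p ^ 2 * (c1 + c2) := by ring
  rw [this]
  exact (Nat.modEq_iff_dvd' (Nat.le_add_right _ _)).mpr (by simp) |>.symm

end rel

theorem sylowLike_of_sylow (P : Sylow p G) :
    SylowLike p (P : Subgroup G) ((Nat.card G).factorization p) where
  card_eq := P.card_eq_multiplicity
  card_le R hR := by
    obtain ⟨j, hj⟩ := IsPGroup.iff_card.mp hR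
    rw [hj]
    apply Nat.pow_le_pow_right hp.out.pos
    have h1 : p ^ j ∣ Nat.card G := hj ▸ Subgroup.card_subgroup_dvd_card R
    exact (hp.out.pow_dvd_iff_le_factorization Nat.card_pos.ne').mp h1

/-- **P. Hall's reduction**: the number of subgroups of order `p ^ a` of `G` is congruent modulo
`p²` to the number of those of a Sylow `p`-subgroup, if `p ^ (a + 1)` divides `|G|`. -/
theorem card_subN_modEq_sylow (P : Sylow p G) (a : ℕ) (hdvd : p ^ (a + 1) ∣ Nat.card G) :
    Nat.card {K : Subgroup G // Nat.card K = p ^ a} ≡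
      Nat.card {K : Subgroup (P : Subgroup G) // Nat.card K = p ^ a} [MOD p ^ 2] :=
  card_subN_modEq (sylowLike_of_sylow p P)
    ((hp.out.pow_dvd_iff_le_factorization Nat.card_pos.ne').mp hdvd)

end Cfsg.Agent.Lib.H26.Kul
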