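import Mathlib
import Cfsg.Agent.Lib.H26.KulPairs
import Cfsg.Agent.S0127

set_option autoImplicit false

/-!
# Kulakoff's theorem for odd primes
-/

namespace Cfsg.Agent.Lib.H26.Kul

universe u

/-- In a finite cyclic group, subgroups of the same order coincide. -/
theorem eq_of_card_eq_of_isCyclic {G : Type*} [Group G] [Finite G] [IsCyclic G]
    (K₁ K₂ : Subgroup G) (h : Nat.card K₁ = Nat.card K₂) : K₁ = K₂ := by
  classical
  haveI : Fintype G := Fintype.ofFinite G
  have key : ∀ K : Subgroup G, (K : Set G) = {x : G | x ^ Nat.card K = 1} := by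
    intro K
    have hd : 0 < Nat.card K := Nat.card_pos
    apply Set.eq_of_subset_of_ncard_le
    · intro x hx
      have := pow_card_eq_one' (G := K) (x := ⟨x, hx⟩)
      exact congrArg Subtype.val this
    · have h1 := IsCyclic.card_pow_eq_one_le (α := G) hd
      have h2 : ({x : G | x ^ Nat.card K = 1} : Set G).ncard =
          (Finset.univ.filter fun a : G => a ^ Nat.card K = 1).card := by
        rw [← Set.ncard_coe_finset]
        congr 1
        ext x
        simp
      rw [h2]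
      have h3 : (K : Set G).ncard = Nat.card K := (Nat.card_coe_set_eq _).symm
      rw [h3]
      exact h1
    · exact Set.toFinite _
  apply SetLike.coe_injective
  rw [key K₁, key K₂, h]

theorem card_sk_of_isCyclic {G : Type*} [Group G] [Finite G] [IsCyclic G] (p k : ℕ)
    [Fact p.Prime] (hdvd : p ^ k ∣ Nat.card G) :
    Nat.card {K : Subgroup G // Nat.card K = p ^ k} = 1 := by
  obtain ⟨K, hK⟩ := Sylow.exists_subgroup_card_pow_prime p hdvd
  rw [Nat.card_eq_one_iff_unique]
  refine ⟨⟨fun K₁ K₂ => ?_⟩, ⟨⟨K, hK⟩⟩⟩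
  apply Subtype.ext
  exact eq_of_card_eq_of_isCyclic K₁.1 K₂.1 (K₁.2.trans K₂.2.symm)

variable {G : Type*} [Group G] (p : ℕ) [hp : Fact p.Prime]

/-- A noncyclic `p`-group has more than one maximal subgroup. -/
theorem card_idxOver_bot_ne_one [Finite G] (hG : IsPGroup p G) (hnc : ¬ IsCyclic G) :
    Nat.card (IdxOver p (⊥ : Subgroup G)) ≠ 1 := by
  intro h
  rw [Nat.card_eq_one_iff_unique] at h
  obtain ⟨hs, ⟨H₀⟩⟩ := h
  have hH₀ : H₀.1 ≠ ⊤ := by
    intro h
    have := H₀.2.1
    rw [h, Subgroup.index_top] at this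
    exact hp.out.one_lt.ne this
  obtain ⟨x, hx⟩ : ∃ x : G, x ∉ H₀.1 := by
    by_contra hcon
    push Not at hcon
    exact hH₀ (eq_top_iff.mpr fun x _ => hcon x)
  have hz : Subgroup.zpowers x ≠ ⊤ := by
    intro h
    apply hnc
    exact isCyclic_iff_exists_zpowers_eq_top.mpr ⟨x, h⟩
  obtain ⟨H⟩ := exists_idxOver p hG (Subgroup.zpowers x) hz
  have : (⟨H.1, H.2.1, bot_le⟩ : IdxOver p (⊥ : Subgroup G)) = H₀ := Subsingleton.elim _ _
  apply hx
  rw [← this]
  exact H.2.2 (Subgroup.mem_zpowers x)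

theorem sq_dvd_card_ann_bot [Finite G] (hG : IsPGroup p G) (hnc : ¬ IsCyclic G) :
    p ^ 2 ∣ Nat.card (ann p (⊥ : Subgroup G)) := by
  have hbt : (⊥ : Subgroup G) ≠ ⊤ := by
    intro h
    apply hnc
    haveI : Subsingleton G := by
      exact ⟨fun a b => by
        have ha : a ∈ (⊤ : Subgroup G) := Subgroup.mem_top a
        have hb : b ∈ (⊤ : Subgroup G) := Subgroup.mem_top b
        rw [← h, Subgroup.mem_bot] at ha hb
        rw [ha, hb]⟩
    infer_instance
  rcases card_ann_cases p hG ⊥ hbt with ⟨_, h6⟩ | ⟨h6, _⟩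
  · exact absurd h6 (card_idxOver_bot_ne_one p hG hnc)
  · exact h6

/-- Subgroups of order `p ^ (m - 1)` are the subgroups of index `p`. -/
theorem card_sk_pred [Finite G] (m : ℕ) (hm : Nat.card G = p ^ (m + 1)) :
    Nat.card {K : Subgroup G // Nat.card K = p ^ m} = Nat.card (IdxOver p (⊥ : Subgroup G)) := by
  have key : ∀ K : Subgroup G, Nat.card K = p ^ m ↔ K.index = p := by
    intro K
    have h1 := Subgroup.card_mul_index K
    rw [hm, pow_succ] at h1
    constructor
    · intro h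
      rw [h] at h1
      exact Nat.eq_of_mul_eq_mul_left (pow_pos hp.out.pos m) h1
    · intro h
      rw [h] at h1
      exact Nat.eq_of_mul_eq_mul_right hp.out.pos h1
  exact Nat.card_congr
    { toFun := fun K => ⟨K.1, (key K.1).mp K.2, bot_le⟩
      invFun := fun K => ⟨K.1, (key K.1).mpr K.2.1⟩
      left_inv := fun _ => rfl
      right_inv := fun _ => rfl }

theorem card_of_idxOver [Finite G] (m : ℕ) (hm : Nat.card G = p ^ (m + 1))
    (H : IdxOver p (⊥ : Subgroup G)) : Nat.card H.1 = p ^ m := by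
  have h1 := Subgroup.card_mul_index H.1
  rw [hm, H.2.1, pow_succ] at h1
  exact Nat.eq_of_mul_eq_mul_right hp.out.pos h1

/-- The basic recursion: `s_k(G) + c p ≡ 1 + p (mod p²)` where `c` is the number of cyclic maximal
subgroups, provided the noncyclic maximal subgroups satisfy the congruence. -/
theorem key_odd [Finite G] (hG : IsPGroup p G) (m k : ℕ) (hm : Nat.card G = p ^ (m + 1))
    (hk : k + 1 ≤ m) (hnc : ¬ IsCyclic G)
    (IH : ∀ H : IdxOver p (⊥ : Subgroup G), ¬ IsCyclic H.1 →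
      Nat.card {K : Subgroup H.1 // Nat.card K = p ^ k} ≡ 1 + p [MOD p ^ 2]) :
    Nat.card {K : Subgroup G // Nat.card K = p ^ k} +
      Nat.card {H : IdxOver p (⊥ : Subgroup G) // IsCyclic H.1} * p ≡ 1 + p [MOD p ^ 2] := by
  classical
  haveI : Fintype (IdxOver p (⊥ : Subgroup G)) := Fintype.ofFinite _
  have h1 := sum_sk_modEq p hG (m + 1) k hm (by omega) (card_idxOver_bot_ne_one p hG hnc)
  have h2 : ∀ H : IdxOver p (⊥ : Subgroup G),
      Nat.card {K : Subgroup H.1 // Nat.card K = p ^ k} + (if IsCyclic H.1 then p else 0) ≡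
        1 + p [MOD p ^ 2] := by
    intro H
    by_cases hc : IsCyclic H.1
    · rw [if_pos hc]
      haveI := hc
      rw [card_sk_of_isCyclic p k (by rw [card_of_idxOver p m hm H]; exact pow_dvd_pow p (by omega))]
    · rw [if_neg hc, add_zero]
      exact IH H hc
  have h3 : ∑ H : IdxOver p (⊥ : Subgroup G),
      (Nat.card {K : Subgroup H.1 // Nat.card K = p ^ k} + (if IsCyclic H.1 then p else 0)) ≡
      ∑ _H : IdxOver p (⊥ : Subgroup G), (1 + p) [MOD p ^ 2] :=
    Nat.ModEq.sum (fun H _ => h2 H)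
  rw [Finset.sum_add_distrib, Finset.sum_const, Finset.card_univ, smul_eq_mul,
    ← Nat.card_eq_fintype_card] at h3
  have h4 : ∑ H : IdxOver p (⊥ : Subgroup G), (if IsCyclic H.1 then p else 0) =
      Nat.card {H : IdxOver p (⊥ : Subgroup G) // IsCyclic H.1} * p := by
    rw [Finset.sum_ite, Finset.sum_const, Finset.sum_const_zero, add_zero, smul_eq_mul,
      Nat.card_eq_fintype_card, Fintype.card_subtype]
  rw [h4] at h3
  have h5 : Nat.card (IdxOver p (⊥ : Subgroup G)) * (1 + p) ≡ (1 + p) + p [MOD p ^ 2] := by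
    have h6 := card_idxOver_modEq_sq p hG ⊥ (sq_dvd_card_ann_bot p hG hnc)
    have h7 := h6.mul_right (1 + p)
    refine h7.trans ?_
    have : (1 + p) * (1 + p) = (1 + p) + p + p ^ 2 := by ring
    rw [this]
    exact Nat.modEq_iff_dvd' (Nat.le_add_right _ _) |>.mpr (by simp) |>.symm
  -- combine
  have h8 : Nat.card {K : Subgroup G // Nat.card K = p ^ k} + p +
      Nat.card {H : IdxOver p (⊥ : Subgroup G) // IsCyclic H.1} * p ≡ (1 + p) + p [MOD p ^ 2] :=
    ((h1.symm.add_right _).trans h3).trans h5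
  have h9 : Nat.card {K : Subgroup G // Nat.card K = p ^ k} + p +
      Nat.card {H : IdxOver p (⊥ : Subgroup G) // IsCyclic H.1} * p =
      (Nat.card {K : Subgroup G // Nat.card K = p ^ k} +
      Nat.card {H : IdxOver p (⊥ : Subgroup G) // IsCyclic H.1} * p) + p := by ring
  rw [h9] at h8
  exact Nat.ModEq.add_right_cancel' p h8

/-- If all elements of order dividing `p` lie in a subgroup `W`, the subgroups of order `p` of `G`
are those of `W`. -/
theorem card_s1_eq_of_le [Finite G] (W : Subgroup G) (hW : ∀ x : G, x ^ p = 1 → x ∈ W) :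
    Nat.card {K : Subgroup G // Nat.card K = p ^ 1} =
      Nat.card {K : Subgroup W // Nat.card K = p ^ 1} := by
  rw [Nat.card_congr (subEquiv W (p ^ 1))]
  exact Nat.card_congr
    { toFun := fun K => ⟨K.1, K.2, fun x hx => hW x (by
        have h1 : (⟨x, hx⟩ : K.1) ^ Nat.card K.1 = 1 := pow_card_eq_one'
        have h2 : Nat.card K.1 = p := by rw [K.2, pow_one]
        rw [h2] at h1
        exact congrArg Subtype.val h1)⟩
      invFun := fun K => ⟨K.1, K.2.1⟩
      left_inv := fun _ => rfl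
      right_inv := fun _ => rfl }

/-- **Kulakoff's theorem** for odd primes. -/
theorem kulakoff_odd (hp2 : p ≠ 2) :
    ∀ (m : ℕ) (G : Type u) [Group G] [Finite G], Nat.card G = p ^ m → ¬ IsCyclic G →
      ∀ k : ℕ, 1 ≤ k → k < m →
        Nat.card {H : Subgroup G // Nat.card H = p ^ k} ≡ 1 + p [MOD p ^ 2] := by
  intro m
  induction m using Nat.strong_induction_on with
  | _ m ih =>
  intro G _ _ hm hnc k hk1 hkm
  have hG : IsPGroup p G := IsPGroup.of_card hm
  obtain ⟨m', rfl⟩ : ∃ m', m = m' + 1 := ⟨m - 1, by omega⟩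
  by_cases hkm' : k = m'
  · subst hkm'
    rw [card_sk_pred p k hm]
    exact card_idxOver_modEq_sq p hG ⊥ (sq_dvd_card_ann_bot p hG hnc)
  have hk2 : k + 1 ≤ m' := by omega
  have IH : ∀ k' : ℕ, 1 ≤ k' → k' + 1 ≤ m' → ∀ H : IdxOver p (⊥ : Subgroup G), ¬ IsCyclic H.1 →
      Nat.card {K : Subgroup H.1 // Nat.card K = p ^ k'} ≡ 1 + p [MOD p ^ 2] := by
    intro k' hk1' hk2' H hH
    exact ih m' (by omega) H.1 (card_of_idxOver p m' hm H) hH k' hk1' (by omega)
  have key := fun k' hk1' hk2' => key_odd p hG m' k' hm hk2' hnc (IH k' hk1' hk2')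
  by_cases hc : Nat.card {H : IdxOver p (⊥ : Subgroup G) // IsCyclic H.1} = 0
  · have := key k hk1 hk2
    rwa [hc, zero_mul, add_zero] at this
  -- a cyclic maximal subgroup exists
  have hne : Nonempty {H : IdxOver p (⊥ : Subgroup G) // IsCyclic H.1} := by
    by_contra hcon
    rw [not_nonempty_iff] at hcon
    exact hc Nat.card_of_isEmpty
  obtain ⟨⟨C, hC⟩⟩ := hne
  obtain ⟨hEA, hΩ⟩ := Cfsg.Agent.S0127.result hp2 hG hnc C.1 hC C.2.1
  set W := Subgroup.closure {x : G | x ^ p = 1} with hWdef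
  have hWnc : ¬ IsCyclic W := by
    intro hcyc
    obtain ⟨g, hg⟩ := (isCyclic_iff_exists_orderOf_eq_natCard (α := W)).mp hcyc
    have h1 : (g : G) ^ p = 1 := hEA.2 g.1 g.2
    have h2 : g ^ p = 1 := Subtype.ext h1
    have h3 := orderOf_dvd_of_pow_eq_one h2
    rw [hg, hΩ] at h3
    have h4 := Nat.le_of_dvd hp.out.pos h3
    have : p * 2 ≤ p ^ 2 := by rw [pow_two]; exact Nat.mul_le_mul le_rfl hp.out.two_le
    have := hp.out.pos
    omega
  have hs1 : Nat.card {K : Subgroup G // Nat.card K = p ^ 1} ≡ 1 + p [MOD p ^ 2] := by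
    rw [card_s1_eq_of_le p W (fun x hx => Subgroup.subset_closure hx)]
    exact ih 2 (by omega) W hΩ hWnc 1 le_rfl (by norm_num)
  have hk1' := key 1 le_rfl (by omega)
  have hcp : Nat.card {H : IdxOver p (⊥ : Subgroup G) // IsCyclic H.1} * p ≡ 0 [MOD p ^ 2] := by
    have := (hs1.add_right _).symm.trans hk1'
    exact Nat.ModEq.add_left_cancel' (1 + p) (by simpa using this)
  have := key k hk1 hk2
  have h2 := (Nat.ModEq.add_left _ hcp).symm.trans this
  simpa using h2

end Cfsg.Agent.Lib.H26.Kul
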