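import Mathlib
import Cfsg.Agent.Lib.H26.KulOdd
import Cfsg.Agent.Lib.H20.OrderCount1
import Cfsg.Agent.Lib.H22.MaxClass2

set_option autoImplicit false

/-!
# 2-groups with a cyclic maximal subgroup: parity of the number of cyclic maximal subgroups
-/

namespace Cfsg.Agent.Lib.H26.Kul

open scoped commutatorElement

universe u

section general

variable {G : Type*} [Group G]

/-- Commutators lie in every subgroup of index two. -/
theorem commutator_le_of_index_two (H : Subgroup G) (h : H.index = 2) : commutator G ≤ H := by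
  rw [commutator_def, Subgroup.commutator_le]
  intro x _ y _
  rw [commutatorElement_def, Subgroup.mul_mem_iff_of_index_two h,
    Subgroup.mul_mem_iff_of_index_two h, Subgroup.mul_mem_iff_of_index_two h, inv_mem_iff,
    inv_mem_iff]
  tauto

/-- In a noncyclic finite 2-group, the index of the derived subgroup is divisible by 4. -/
theorem four_dvd_index_commutator [Finite G] (hG : IsPGroup 2 G) (hnc : ¬ IsCyclic G) :
    4 ∣ (commutator G).index := by
  have h1 := card_idxOver_bot_ne_one 2 hG hnc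
  have hbt : (⊥ : Subgroup G) ≠ ⊤ := by
    intro h
    apply hnc
    haveI : Subsingleton G := by
      exact ⟨fun a b => by
        have ha : a ∈ (⊤ : Subgroup G) := Subgroup.mem_top a
        have hb : b ∈ (⊤ : Subgroup G) := Subgroup.mem_top b
        rw [← h, Subgroup.mem_bot] at ha hb
        rw [ha, hb]⟩
    infer_instance
  obtain ⟨H₁⟩ := exists_idxOver 2 hG ⊥ hbt
  have : ∃ H₂ : IdxOver 2 (⊥ : Subgroup G), H₂ ≠ H₁ := by
    by_contra hcon
    push Not at hcon
    apply h1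
    rw [Nat.card_eq_one_iff_unique]
    exact ⟨⟨fun a b => (hcon a).trans (hcon b).symm⟩, ⟨H₁⟩⟩
  obtain ⟨H₂, hne⟩ := this
  have hle : commutator G ≤ H₁.1 ⊓ H₂.1 :=
    le_inf (commutator_le_of_index_two H₁.1 H₁.2.1) (commutator_le_of_index_two H₂.1 H₂.2.1)
  have hdvd := Subgroup.index_dvd_of_le hle
  refine dvd_trans ?_ hdvd
  -- index of the intersection
  have h2 : (H₁.1 ⊓ H₂.1).index = (H₂.1.relIndex H₁.1) * 2 := by
    have e := Subgroup.relIndex_mul_index (inf_le_left : H₁.1 ⊓ H₂.1 ≤ H₁.1)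
    rw [Subgroup.inf_relIndex_left, H₁.2.1] at e
    exact e.symm
  rw [h2]
  have h3 : H₂.1.relIndex H₁.1 ≠ 1 := by
    intro h
    rw [Subgroup.relIndex_eq_one] at h
    apply hne
    apply Subtype.ext
    exact (eq_of_le_of_index_eq h (H₁.2.1.trans H₂.2.1.symm)).symm
  have h4 : H₂.1.relIndex H₁.1 ∣ 2 := by
    haveI := normal_of_index_eq 2 hG H₂.1 H₂.2.1
    have := Subgroup.relIndex_dvd_index_of_normal H₂.1 H₁.1
    rwa [H₂.2.1] at this
  have h5 : H₂.1.relIndex H₁.1 = 2 := by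
    rcases (Nat.dvd_prime Nat.prime_two).mp h4 with h | h
    · exact absurd h h3
    · exact h
  rw [h5]

end general

section cyc

variable {G : Type*} [Group G] {n : ℕ} {a : G}

theorem zpow_eq_one_iff (ha : orderOf a = 2 ^ (n + 2)) (k : ℤ) :
    a ^ k = 1 ↔ ((2 : ℤ) ^ (n + 2)) ∣ k := by
  rw [← orderOf_dvd_iff_zpow_eq_one, ha]
  push_cast
  rfl

theorem index_zpowers_of_card [Finite G] (hcard : Nat.card G = 2 ^ (n + 3))
    (ha : orderOf a = 2 ^ (n + 2)) : (Subgroup.zpowers a).index = 2 := by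
  have h := Subgroup.card_mul_index (Subgroup.zpowers a)
  rw [Nat.card_zpowers, ha, hcard, pow_succ 2 (n + 2)] at h
  exact Nat.eq_of_mul_eq_mul_left (pow_pos two_pos _) h

theorem exists_zpow_sq (hidx : (Subgroup.zpowers a).index = 2) (g : G) :
    ∃ s : ℤ, g * g = a ^ s := by
  have := Subgroup.mul_self_mem_of_index_two hidx g
  obtain ⟨s, hs⟩ := Subgroup.mem_zpowers_iff.mp this
  exact ⟨s, hs.symm⟩

theorem exists_zpow_conj (hidx : (Subgroup.zpowers a).index = 2) (g : G) :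
    ∃ r : ℤ, g⁻¹ * a * g = a ^ r := by
  have hN : (Subgroup.zpowers a).Normal := Subgroup.normal_of_index_eq_two hidx
  have := hN.conj_mem' a (Subgroup.mem_zpowers a) g
  obtain ⟨r, hr⟩ := Subgroup.mem_zpowers_iff.mp this
  exact ⟨r, hr.symm⟩

/-- `g ^ (2 ^ (j+1)) = a ^ (s * 2 ^ j)` when `g * g = a ^ s`. -/
theorem pow_two_pow_succ (g : G) (s : ℤ) (hs : g * g = a ^ s) (j : ℕ) :
    g ^ (2 ^ (j + 1)) = a ^ (s * ((2 : ℤ) ^ j)) := by
  rw [pow_succ' 2 j, pow_mul, pow_two, hs, ← zpow_natCast, ← zpow_mul]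
  push_cast
  rfl

theorem orderOf_eq_iff (ha : orderOf a = 2 ^ (n + 2)) (g : G) (s : ℤ) (hs : g * g = a ^ s) :
    orderOf g = 2 ^ (n + 2) ↔ s % 4 = 2 := by
  have e1 : g ^ (2 ^ (n + 1)) = 1 ↔ (4 : ℤ) ∣ s := by
    rw [pow_two_pow_succ g s hs n, zpow_eq_one_iff ha]
    have : ((2 : ℤ) ^ (n + 2)) = 4 * 2 ^ n := by ring
    rw [this]
    exact mul_dvd_mul_iff_right (pow_ne_zero _ two_ne_zero)
  have e2 : g ^ (2 ^ (n + 2)) = 1 ↔ (2 : ℤ) ∣ s := by
    rw [pow_two_pow_succ g s hs (n + 1), zpow_eq_one_iff ha]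
    have : ((2 : ℤ) ^ (n + 2)) = 2 * 2 ^ (n + 1) := by ring
    rw [this]
    exact mul_dvd_mul_iff_right (pow_ne_zero _ two_ne_zero)
  constructor
  · intro h
    have h2 : (2 : ℤ) ∣ s := e2.mp (by rw [← h]; exact pow_orderOf_eq_one g)
    have h4 : ¬ (4 : ℤ) ∣ s := by
      intro h4
      have := orderOf_dvd_of_pow_eq_one (e1.mpr h4)
      rw [h] at this
      have := (Nat.pow_dvd_pow_iff_le_right (by norm_num : 1 < 2)).mp this
      omega
    omega
  · intro h
    exact orderOf_eq_prime_pow (fun h1 => by have := e1.mp h1; omega) (e2.mpr (by omega))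

theorem even_of_not_isCyclic [Finite G] (hcard : Nat.card G = 2 ^ (n + 3))
    (ha : orderOf a = 2 ^ (n + 2)) (hnc : ¬ IsCyclic G) (g : G) (s : ℤ) (hs : g * g = a ^ s) :
    (2 : ℤ) ∣ s := by
  by_contra hodd
  have e2 : g ^ (2 ^ (n + 2)) = 1 ↔ (2 : ℤ) ∣ s := by
    rw [pow_two_pow_succ g s hs (n + 1), zpow_eq_one_iff ha]
    have : ((2 : ℤ) ^ (n + 2)) = 2 * 2 ^ (n + 1) := by ring
    rw [this]
    exact mul_dvd_mul_iff_right (pow_ne_zero _ two_ne_zero)
  have h1 : orderOf g ∣ 2 ^ (n + 3) := hcard ▸ orderOf_dvd_natCard g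
  obtain ⟨j, hj, hj'⟩ := (Nat.dvd_prime_pow Nat.prime_two).mp h1
  have hj3 : j = n + 3 := by
    by_contra hne
    apply hodd
    rw [← e2]
    apply orderOf_dvd_iff_pow_eq_one.mp
    rw [hj']
    exact pow_dvd_pow 2 (by omega)
  apply hnc
  apply isCyclic_of_orderOf_eq_card g
  rw [hj', hj3, hcard]

theorem conj_eq_of_not_mem (hidx : (Subgroup.zpowers a).index = 2) (x g : G)
    (hx : x ∉ Subgroup.zpowers a) (hg : g ∉ Subgroup.zpowers a) :
    g⁻¹ * a * g = x⁻¹ * a * x := by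
  have h1 : x⁻¹ * g ∈ Subgroup.zpowers a := by
    rw [Subgroup.mul_mem_iff_of_index_two hidx, inv_mem_iff]
    tauto
  obtain ⟨j, hj⟩ := Subgroup.mem_zpowers_iff.mp h1
  obtain ⟨r, hr⟩ := exists_zpow_conj hidx x
  have hg' : g = x * a ^ j := by rw [hj]; group
  rw [hg', mul_inv_rev, hr]
  calc (a ^ j)⁻¹ * x⁻¹ * a * (x * a ^ j) = (a ^ j)⁻¹ * (x⁻¹ * a * x) * a ^ j := by group
    _ = (a ^ j)⁻¹ * a ^ r * a ^ j := by rw [hr]
    _ = a ^ r := by rw [← zpow_neg, ← zpow_add, ← zpow_add]; congr 1; ring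

theorem odd_of_conj (ha : orderOf a = 2 ^ (n + 2)) (x : G) (r : ℤ) (hr : x⁻¹ * a * x = a ^ r) :
    r % 2 = 1 := by
  by_contra hcon
  have h2 : (2 : ℤ) ∣ r := by omega
  have h1 : (a ^ r) ^ (2 ^ (n + 1)) = 1 := by
    rw [← zpow_natCast, ← zpow_mul, zpow_eq_one_iff ha]
    push_cast
    have : ((2 : ℤ) ^ (n + 2)) = 2 * 2 ^ (n + 1) := by ring
    rw [this]
    exact mul_dvd_mul h2 dvd_rfl
  rw [← hr] at h1
  have h3 : (x⁻¹ * a * x) ^ (2 ^ (n + 1)) = x⁻¹ * a ^ (2 ^ (n + 1)) * x := by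
    have := conj_pow (a := x⁻¹) (b := a) (i := 2 ^ (n + 1))
    rwa [inv_inv] at this
  rw [h3] at h1
  have h4 : a ^ (2 ^ (n + 1)) = 1 := by
    have : a ^ (2 ^ (n + 1)) = x * (x⁻¹ * a ^ (2 ^ (n + 1)) * x) * x⁻¹ := by group
    rw [this, h1]
    group
  have := orderOf_dvd_of_pow_eq_one h4
  rw [ha] at this
  have := (Nat.pow_dvd_pow_iff_le_right (by norm_num : 1 < 2)).mp this
  omega

theorem mul_sq_eq (g : G) (s r : ℤ) (hs : g * g = a ^ s) (hr : g⁻¹ * a * g = a ^ r) :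
    (g * a) * (g * a) = a ^ (s + r + 1) := by
  have : (g * a) * (g * a) = (g * g) * (g⁻¹ * a * g) * a := by group
  rw [this, hs, hr, zpow_add, zpow_add, zpow_one]

end cyc

section count

variable {G : Type*} [Group G] [Finite G] {n : ℕ} {a : G}

theorem card_split {α : Type*} [Finite α] (A B : α → Prop) :
    Nat.card {x // A x} = Nat.card {x // A x ∧ B x} + Nat.card {x // A x ∧ ¬ B x} := by
  classical
  rw [← Nat.card_congr (Equiv.subtypeSubtypeEquivSubtypeInter A B),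
    ← Nat.card_congr (Equiv.subtypeSubtypeEquivSubtypeInter A (fun x => ¬ B x)), ← Nat.card_sum]
  exact Nat.card_congr (Equiv.sumCompl (fun x : {x // A x} => B x.1)).symm

theorem card_mem_orderOf (ha : orderOf a = 2 ^ (n + 2)) :
    Nat.card {x : G // x ∈ Subgroup.zpowers a ∧ orderOf x = 2 ^ (n + 2)} = 2 ^ (n + 1) := by
  classical
  haveI : Fintype (Subgroup.zpowers a) := Fintype.ofFinite _
  have hc : Fintype.card (Subgroup.zpowers a) = 2 ^ (n + 2) := by
    rw [← Nat.card_eq_fintype_card, Nat.card_zpowers, ha]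
  have h1 := IsCyclic.card_orderOf_eq_totient (α := Subgroup.zpowers a) (d := 2 ^ (n + 2))
    (by rw [hc])
  rw [Nat.totient_prime_pow_succ Nat.prime_two] at h1
  have h2 : Nat.card {y : Subgroup.zpowers a // orderOf y = 2 ^ (n + 2)} = 2 ^ (n + 1) := by
    rw [Nat.card_eq_fintype_card, Fintype.card_subtype, h1]
    simp
  rw [← h2]
  refine Nat.card_congr ((Equiv.subtypeSubtypeEquivSubtypeInter
    (fun x : G => x ∈ Subgroup.zpowers a) (fun x => orderOf x = 2 ^ (n + 2))).symm.trans ?_)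
  exact Equiv.subtypeEquivRight (fun y => by rw [Subgroup.orderOf_coe])

theorem card_not_mem_zpowers (hcard : Nat.card G = 2 ^ (n + 3)) (ha : orderOf a = 2 ^ (n + 2)) :
    Nat.card {x : G // x ∉ Subgroup.zpowers a} = 2 ^ (n + 2) := by
  have h1 := card_split (fun _ : G => True) (fun x => x ∈ Subgroup.zpowers a)
  have h2 : Nat.card {x : G // True} = 2 ^ (n + 3) := by
    rw [← hcard]
    exact Nat.card_congr (Equiv.subtypeUnivEquiv (fun _ => trivial))
  have h3 : Nat.card {x : G // True ∧ x ∈ Subgroup.zpowers a} = 2 ^ (n + 2) := by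
    rw [← ha, ← Nat.card_zpowers]
    exact Nat.card_congr (Equiv.subtypeEquivRight (fun x => by simp))
  have h4 : Nat.card {x : G // True ∧ x ∉ Subgroup.zpowers a} =
      Nat.card {x : G // x ∉ Subgroup.zpowers a} :=
    Nat.card_congr (Equiv.subtypeEquivRight (fun x => by simp))
  rw [h2, h3, h4, pow_succ 2 (n + 2)] at h1
  omega

theorem card_orderOf_total (ha : orderOf a = 2 ^ (n + 2)) :
    Nat.card {x : G // orderOf x = 2 ^ (n + 2)} = 2 ^ (n + 1) +
      Nat.card {x : G // x ∉ Subgroup.zpowers a ∧ orderOf x = 2 ^ (n + 2)} := by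
  rw [card_split (fun x : G => orderOf x = 2 ^ (n + 2)) (fun x => x ∈ Subgroup.zpowers a),
    ← card_mem_orderOf ha]
  congr 1
  · exact Nat.card_congr (Equiv.subtypeEquivRight (fun x => and_comm))
  · exact Nat.card_congr (Equiv.subtypeEquivRight (fun x => and_comm))

theorem orderOf_mul_iff_of_mod_one (hcard : Nat.card G = 2 ^ (n + 3))
    (ha : orderOf a = 2 ^ (n + 2)) (hnc : ¬ IsCyclic G) (x : G) (hx : x ∉ Subgroup.zpowers a)
    (r : ℤ) (hr : x⁻¹ * a * x = a ^ r) (h1 : r % 4 = 1) (g : G)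
    (hg : g ∉ Subgroup.zpowers a) :
    orderOf (g * a) = 2 ^ (n + 2) ↔ ¬ orderOf g = 2 ^ (n + 2) := by
  have hidx := index_zpowers_of_card hcard ha
  obtain ⟨s, hs⟩ := exists_zpow_sq hidx g
  have hs2 := even_of_not_isCyclic hcard ha hnc g s hs
  have hr' : g⁻¹ * a * g = a ^ r := (conj_eq_of_not_mem hidx x g hx hg).trans hr
  rw [orderOf_eq_iff ha (g * a) _ (mul_sq_eq g s r hs hr'), orderOf_eq_iff ha g s hs]
  omega

theorem orderOf_mul_iff_of_mod_three (hcard : Nat.card G = 2 ^ (n + 3))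
    (ha : orderOf a = 2 ^ (n + 2)) (x : G) (hx : x ∉ Subgroup.zpowers a)
    (r : ℤ) (hr : x⁻¹ * a * x = a ^ r) (h3 : r % 4 = 3) (g : G)
    (hg : g ∉ Subgroup.zpowers a) :
    orderOf (g * a) = 2 ^ (n + 2) ↔ orderOf g = 2 ^ (n + 2) := by
  have hidx := index_zpowers_of_card hcard ha
  obtain ⟨s, hs⟩ := exists_zpow_sq hidx g
  have hr' : g⁻¹ * a * g = a ^ r := (conj_eq_of_not_mem hidx x g hx hg).trans hr
  rw [orderOf_eq_iff ha (g * a) _ (mul_sq_eq g s r hs hr'), orderOf_eq_iff ha g s hs]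
  omega

theorem card_outer_of_mod_one (hcard : Nat.card G = 2 ^ (n + 3))
    (ha : orderOf a = 2 ^ (n + 2)) (hnc : ¬ IsCyclic G) (x : G) (hx : x ∉ Subgroup.zpowers a)
    (r : ℤ) (hr : x⁻¹ * a * x = a ^ r) (h1 : r % 4 = 1) :
    Nat.card {g : G // g ∉ Subgroup.zpowers a ∧ orderOf g = 2 ^ (n + 2)} = 2 ^ (n + 1) := by
  have key := orderOf_mul_iff_of_mod_one hcard ha hnc x hx r hr h1
  have hmem : ∀ g : G, g * a ∉ Subgroup.zpowers a ↔ g ∉ Subgroup.zpowers a := fun g => by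
    rw [Subgroup.mul_mem_cancel_right _ (Subgroup.mem_zpowers a)]
  have hmem' : ∀ g : G, g * a⁻¹ ∉ Subgroup.zpowers a ↔ g ∉ Subgroup.zpowers a := fun g => by
    rw [Subgroup.mul_mem_cancel_right _ (inv_mem (Subgroup.mem_zpowers a))]
  have e : {g : G // g ∉ Subgroup.zpowers a ∧ orderOf g = 2 ^ (n + 2)} ≃
      {g : G // g ∉ Subgroup.zpowers a ∧ ¬ orderOf g = 2 ^ (n + 2)} :=
    { toFun := fun g => ⟨g.1 * a, (hmem g.1).mpr g.2.1, fun h => ((key g.1 g.2.1).mp h) g.2.2⟩
      invFun := fun g => ⟨g.1 * a⁻¹, (hmem' g.1).mpr g.2.1, by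
        have := key (g.1 * a⁻¹) ((hmem' g.1).mpr g.2.1)
        rw [inv_mul_cancel_right] at this
        by_contra hcon
        exact g.2.2 (this.mpr hcon)⟩
      left_inv := fun g => by simp
      right_inv := fun g => by simp }
  have h2 := card_split (fun g : G => g ∉ Subgroup.zpowers a) (fun g => orderOf g = 2 ^ (n + 2))
  rw [card_not_mem_zpowers hcard ha, ← Nat.card_congr e] at h2
  have h3 : (2 : ℕ) ^ (n + 2) = 2 ^ (n + 1) * 2 := by ring
  omega

theorem card_outer_of_mod_three (hcard : Nat.card G = 2 ^ (n + 3))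
    (ha : orderOf a = 2 ^ (n + 2)) (x : G) (hx : x ∉ Subgroup.zpowers a)
    (r : ℤ) (hr : x⁻¹ * a * x = a ^ r) (h3 : r % 4 = 3) :
    Nat.card {g : G // g ∉ Subgroup.zpowers a ∧ orderOf g = 2 ^ (n + 2)} = 0 ∨
    Nat.card {g : G // g ∉ Subgroup.zpowers a ∧ orderOf g = 2 ^ (n + 2)} = 2 ^ (n + 2) := by
  have key := orderOf_mul_iff_of_mod_three hcard ha x hx r hr h3
  have hidx := index_zpowers_of_card hcard ha
  by_cases hA : IsEmpty {g : G // g ∉ Subgroup.zpowers a ∧ orderOf g = 2 ^ (n + 2)}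
  · left
    exact Nat.card_of_isEmpty
  · right
    rw [not_isEmpty_iff] at hA
    obtain ⟨g₀, hg₀, ho₀⟩ := hA
    have hall : ∀ k : ℕ, orderOf (g₀ * a ^ k) = 2 ^ (n + 2) := by
      intro k
      induction k with
      | zero => simpa using ho₀
      | succ k ih =>
        have hm : g₀ * a ^ k ∉ Subgroup.zpowers a := by
          rw [Subgroup.mul_mem_cancel_right _ (Subgroup.pow_mem _ (Subgroup.mem_zpowers a) k)]
          exact hg₀
        have := (key (g₀ * a ^ k) hm).mpr ih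
        rwa [mul_assoc, ← pow_succ] at this
    refine Eq.trans ?_ (card_not_mem_zpowers hcard ha)
    apply Nat.card_congr
    apply Equiv.subtypeEquivRight
    intro g
    constructor
    · exact fun h => h.1
    · intro hg
      refine ⟨hg, ?_⟩
      have h1 : g₀⁻¹ * g ∈ Subgroup.zpowers a := by
        rw [Subgroup.mul_mem_iff_of_index_two hidx, inv_mem_iff]
        tauto
      rw [← mem_powers_iff_mem_zpowers, Submonoid.mem_powers_iff] at h1
      obtain ⟨k, hk⟩ := h1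
      have : g = g₀ * a ^ k := by rw [hk]; group
      rw [this]
      exact hall k

theorem card_cyclic_of_mod_one (hcard : Nat.card G = 2 ^ (n + 3))
    (ha : orderOf a = 2 ^ (n + 2)) (hnc : ¬ IsCyclic G) (x : G) (hx : x ∉ Subgroup.zpowers a)
    (r : ℤ) (hr : x⁻¹ * a * x = a ^ r) (h1 : r % 4 = 1) :
    Nat.card {T : Subgroup G // IsCyclic T ∧ Nat.card T = 2 ^ (n + 2)} = 2 := by
  have h2 := Cfsg.Agent.Lib.H20.OrdCnt.card_orderOf_eq_totient_mul (G := G) (2 ^ (n + 2))
  rw [card_orderOf_total ha, card_outer_of_mod_one hcard ha hnc x hx r hr h1,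
    Nat.totient_prime_pow_succ Nat.prime_two] at h2
  have h3 : (2 : ℕ) ^ (n + 1) * 2 = 2 ^ (n + 1) * (2 - 1) *
      Nat.card {T : Subgroup G // IsCyclic T ∧ Nat.card T = 2 ^ (n + 2)} := by
    rw [← h2]; ring
  have h4 : (2 : ℕ) ^ (n + 1) * (2 - 1) = 2 ^ (n + 1) := by norm_num
  rw [h4] at h3
  exact (Nat.eq_of_mul_eq_mul_left (pow_pos two_pos _) h3).symm

theorem card_cyclic_of_mod_three (hcard : Nat.card G = 2 ^ (n + 3))
    (ha : orderOf a = 2 ^ (n + 2)) (x : G) (hx : x ∉ Subgroup.zpowers a)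
    (r : ℤ) (hr : x⁻¹ * a * x = a ^ r) (h3 : r % 4 = 3) :
    Nat.card {T : Subgroup G // IsCyclic T ∧ Nat.card T = 2 ^ (n + 2)} = 1 ∨
    Nat.card {T : Subgroup G // IsCyclic T ∧ Nat.card T = 2 ^ (n + 2)} = 3 := by
  have h2 := Cfsg.Agent.Lib.H20.OrdCnt.card_orderOf_eq_totient_mul (G := G) (2 ^ (n + 2))
  rw [card_orderOf_total ha, Nat.totient_prime_pow_succ Nat.prime_two] at h2
  have h4 : (2 : ℕ) ^ (n + 1) * (2 - 1) = 2 ^ (n + 1) := by norm_num
  rw [h4] at h2
  rcases card_outer_of_mod_three hcard ha x hx r hr h3 with h | h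
  · left
    rw [h, add_zero] at h2
    have : (2 : ℕ) ^ (n + 1) * 1 = 2 ^ (n + 1) *
        Nat.card {T : Subgroup G // IsCyclic T ∧ Nat.card T = 2 ^ (n + 2)} := by
      rw [← h2, mul_one]
    exact (Nat.eq_of_mul_eq_mul_left (pow_pos two_pos _) this).symm
  · right
    rw [h] at h2
    have : (2 : ℕ) ^ (n + 1) * 3 = 2 ^ (n + 1) *
        Nat.card {T : Subgroup G // IsCyclic T ∧ Nat.card T = 2 ^ (n + 2)} := by
      rw [← h2]; ring
    exact (Nat.eq_of_mul_eq_mul_left (pow_pos two_pos _) this).symm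

end count

section mc

variable {G : Type u} [Group G] [Finite G] {n : ℕ}

theorem orderOf_zpow_of_mod_four {a : G} (ha : orderOf a = 2 ^ (n + 2)) (k : ℤ) (hk : k % 4 = 2) :
    orderOf (a ^ k) = 2 ^ (n + 1) := by
  apply orderOf_eq_prime_pow
  · rw [← zpow_natCast, ← zpow_mul, zpow_eq_one_iff ha]
    push_cast
    have : ((2 : ℤ) ^ (n + 2)) = 4 * 2 ^ n := by ring
    rw [this, mul_dvd_mul_iff_right (pow_ne_zero _ two_ne_zero)]
    omega
  · rw [← zpow_natCast, ← zpow_mul, zpow_eq_one_iff ha]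
    push_cast
    have : ((2 : ℤ) ^ (n + 2)) = 2 * 2 ^ (n + 1) := by ring
    rw [this, mul_dvd_mul_iff_right (pow_ne_zero _ two_ne_zero)]
    omega

theorem orderOf_zpow_of_mod_eight {a : G} (ha : orderOf a = 2 ^ (n + 3)) (k : ℤ)
    (hk : k % 8 = 4) : orderOf (a ^ k) = 2 ^ (n + 1) := by
  apply orderOf_eq_prime_pow
  · rw [← zpow_natCast, ← zpow_mul, zpow_eq_one_iff (n := n + 1) ha]
    push_cast
    have : ((2 : ℤ) ^ (n + 1 + 2)) = 8 * 2 ^ n := by ring
    rw [this, mul_dvd_mul_iff_right (pow_ne_zero _ two_ne_zero)]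
    omega
  · rw [← zpow_natCast, ← zpow_mul, zpow_eq_one_iff (n := n + 1) ha]
    push_cast
    have : ((2 : ℤ) ^ (n + 1 + 2)) = 4 * 2 ^ (n + 1) := by ring
    rw [this, mul_dvd_mul_iff_right (pow_ne_zero _ two_ne_zero)]
    omega

/-- A noncyclic group of order `2 ^ (j+2)` whose derived subgroup contains an element of order
`2 ^ j` has `|G : G'| = 4`. -/
theorem index_commutator_eq_four_of_orderOf {j : ℕ} (hcard : Nat.card G = 2 ^ (j + 2))
    (hnc : ¬ IsCyclic G) (w : G) (hw : w ∈ commutator G) (ho : orderOf w = 2 ^ j) :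
    (commutator G).index = 4 := by
  have hG : IsPGroup 2 G := IsPGroup.of_card hcard
  have h1 := four_dvd_index_commutator hG hnc
  have h2 : 2 ^ j ∣ Nat.card (commutator G) := ho ▸ Subgroup.orderOf_dvd_natCard _ hw
  obtain ⟨q, hq⟩ := h2
  have h3 := Subgroup.card_mul_index (commutator G)
  rw [hcard, hq] at h3
  have h4 : q * (commutator G).index = 4 := by
    have : (2 : ℕ) ^ j * (q * (commutator G).index) = 2 ^ j * 4 := by
      rw [← mul_assoc, h3]; ring
    exact Nat.eq_of_mul_eq_mul_left (pow_pos two_pos _) this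
  have h5 : (commutator G).index ∣ 4 := Dvd.intro_left _ h4
  exact Nat.dvd_antisymm h5 h1

theorem exists_conj_mod_three (hcard : Nat.card G = 2 ^ (n + 3))
    (hidx : (commutator G).index = 4) :
    ∃ a x : G, orderOf a = 2 ^ (n + 2) ∧ x ∉ Subgroup.zpowers a ∧
      ∃ r : ℤ, x⁻¹ * a * x = a ^ r ∧ r % 4 = 3 := by
  obtain ⟨a, y, hD, _⟩ := Cfsg.Agent.Lib.H22.exists_maxClassData n G hcard hidx
  refine ⟨a, y⁻¹, hD.orderOf_a, fun h => hD.not_mem (inv_mem_iff.mp h), ?_⟩
  rw [inv_inv]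
  rcases hD.conj with h | ⟨hn, h⟩
  · exact ⟨-1, by rw [h, zpow_neg_one], by norm_num⟩
  · refine ⟨-1 + 2 ^ (n + 1), ?_, ?_⟩
    · rw [h, zpow_add, zpow_neg_one]
      congr 1
      rw [← zpow_natCast]
      push_cast
      rfl
    · obtain ⟨n', rfl⟩ : ∃ n', n = n' + 1 := ⟨n - 1, by omega⟩
      have : ((2 : ℤ) ^ (n' + 1 + 1)) = 4 * 2 ^ n' := by ring
      rw [this]
      omega

theorem card_cyclic_of_index_commutator_eq (hcard : Nat.card G = 2 ^ (n + 3))
    (hidx : (commutator G).index = 4) :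
    Nat.card {T : Subgroup G // IsCyclic T ∧ Nat.card T = 2 ^ (n + 2)} = 1 ∨
    Nat.card {T : Subgroup G // IsCyclic T ∧ Nat.card T = 2 ^ (n + 2)} = 3 := by
  obtain ⟨a, x, ha, hx, r, hr, h3⟩ := exists_conj_mod_three hcard hidx
  exact card_cyclic_of_mod_three hcard ha x hx r hr h3

theorem card_cyclic_of_index_commutator_ne (hcard : Nat.card G = 2 ^ (n + 3))
    (hnc : ¬ IsCyclic G) (hidx : (commutator G).index ≠ 4) :
    Nat.card {T : Subgroup G // IsCyclic T ∧ Nat.card T = 2 ^ (n + 2)} = 0 ∨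
    Nat.card {T : Subgroup G // IsCyclic T ∧ Nat.card T = 2 ^ (n + 2)} = 2 := by
  by_cases hE : IsEmpty {T : Subgroup G // IsCyclic T ∧ Nat.card T = 2 ^ (n + 2)}
  · left
    exact Nat.card_of_isEmpty
  right
  rw [not_isEmpty_iff] at hE
  obtain ⟨T, hTc, hT⟩ := hE
  obtain ⟨g, hg⟩ := hTc.exists_generator
  have ha : orderOf (g : G) = 2 ^ (n + 2) := by
    rw [Subgroup.orderOf_coe, orderOf_eq_card_of_forall_mem_zpowers hg, hT]
  have hidx2 := index_zpowers_of_card hcard ha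
  obtain ⟨x, hx⟩ : ∃ x : G, x ∉ Subgroup.zpowers (g : G) := by
    by_contra hcon
    push Not at hcon
    have : Subgroup.zpowers (g : G) = ⊤ := eq_top_iff.mpr fun x _ => hcon x
    rw [this, Subgroup.index_top] at hidx2
    omega
  obtain ⟨r, hr⟩ := exists_zpow_conj hidx2 x
  have hodd := odd_of_conj ha x r hr
  have hr4 : r % 4 = 1 := by
    by_contra hne
    have h3 : r % 4 = 3 := by omega
    apply hidx
    apply index_commutator_eq_four_of_orderOf (j := n + 1) hcard hnc ((g : G) ^ (r - 1))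
    · have : (g : G) ^ (r - 1) = ⁅x⁻¹, (g : G)⁆ := by
        rw [commutatorElement_def, inv_inv, hr, zpow_sub, zpow_one]
      rw [this]
      exact Subgroup.commutator_mem_commutator (Subgroup.mem_top _) (Subgroup.mem_top _)
    · exact orderOf_zpow_of_mod_four ha (r - 1) (by omega)
  exact card_cyclic_of_mod_one hcard ha hnc x hx r hr hr4

/-- In a 2-group of maximal class of order at least 16, every noncyclic maximal subgroup is again
of maximal class. -/
theorem index_commutator_of_maximal (hcard : Nat.card G = 2 ^ (n + 4))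
    (hidx : (commutator G).index = 4) (H : Subgroup G) (hH : H.index = 2)
    (hHnc : ¬ IsCyclic H) : (commutator H).index = 4 := by
  obtain ⟨a, x, ha, hx, r, hr, h3⟩ := exists_conj_mod_three (n := n + 1) hcard hidx
  have hidx2 := index_zpowers_of_card (n := n + 1) hcard ha
  have hcH : Nat.card H = 2 ^ (n + 3) := by
    have h := Subgroup.card_mul_index H
    rw [hH, hcard, pow_succ 2 (n + 3)] at h
    exact Nat.eq_of_mul_eq_mul_right two_pos h
  -- an element of `H` outside `⟨a⟩`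
  obtain ⟨g, hgH, hgC⟩ : ∃ g ∈ H, g ∉ Subgroup.zpowers a := by
    by_contra hcon
    push Not at hcon
    have hle : H ≤ Subgroup.zpowers a := hcon
    have := eq_of_le_of_index_eq hle (hH.trans hidx2.symm)
    apply hHnc
    rw [this]
    infer_instance
  have hr' : g⁻¹ * a * g = a ^ r := (conj_eq_of_not_mem hidx2 x g hx hgC).trans hr
  have haa : a * a ∈ H := Subgroup.mul_self_mem_of_index_two hH a
  have hw : ⁅g⁻¹, a * a⁆ = a ^ (2 * r - 2) := by
    have : ⁅g⁻¹, a * a⁆ = (g⁻¹ * a * g) * (g⁻¹ * a * g) * (a * a)⁻¹ := by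
      rw [commutatorElement_def]; group
    rw [this, hr', ← zpow_add, mul_inv_rev, ← zpow_neg_one, ← zpow_add, ← zpow_add]
    congr 1
    ring
  have ho : orderOf (⁅g⁻¹, a * a⁆) = 2 ^ (n + 1) := by
    rw [hw]
    exact orderOf_zpow_of_mod_eight ha _ (by omega)
  apply index_commutator_eq_four_of_orderOf (j := n + 1) hcH hHnc
    ⁅(⟨g⁻¹, inv_mem hgH⟩ : H), ⟨a * a, haa⟩⁆
  · exact Subgroup.commutator_mem_commutator (Subgroup.mem_top _) (Subgroup.mem_top _)
  · rw [← Subgroup.orderOf_coe]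
    exact ho

end mc

end Cfsg.Agent.Lib.H26.Kul
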