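import Mathlib
import Cfsg.Agent.Lib.H26.KulTwoA
import Cfsg.Agent.Lib.H21.SecRank2B

set_option autoImplicit false

/-!
# Groups of order 16 with derived subgroup of order 2: nonabelian maximal subgroups
-/

namespace Cfsg.Agent.Lib.H26.Kul

open scoped commutatorElement

universe u

section small

/-- A group whose centre has index dividing 2 is commutative. -/
theorem comm_of_index_center_dvd_two {M : Type*} [Group M]
    (h : (Subgroup.center M).index ∣ 2) (a b : M) : a * b = b * a := by
  haveI : IsCyclic (M ⧸ Subgroup.center M) := isCyclic_of_card_dvd_prime (p := 2) h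
  exact (isMulCommutative_of_isCyclic_quotient_center_self M).is_comm.comm a b

/-- A group of order 8 with at least three central elements is commutative. -/
theorem comm_of_card_eight {M : Type*} [Group M] [Finite M] (h8 : Nat.card M = 8)
    (h3 : 3 ≤ Nat.card (Subgroup.center M)) (a b : M) : a * b = b * a := by
  apply comm_of_index_center_dvd_two
  have h1 := Subgroup.card_mul_index (Subgroup.center M)
  rw [h8] at h1
  have h2 : Nat.card (Subgroup.center M) ∣ 2 ^ 3 := Dvd.intro _ h1
  obtain ⟨j, hj, hj'⟩ := (Nat.dvd_prime_pow Nat.prime_two).mp h2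
  rw [hj'] at h1 h3
  interval_cases j
  · norm_num at h3
  · norm_num at h3
  · have : (Subgroup.center M).index = 2 := by omega
    rw [this]
  · have : (Subgroup.center M).index = 1 := by omega
    rw [this]
    norm_num

end small

section E16

variable {E : Type*} [Group E]

/-- The commutator map `g ↦ ⁅g, x⁆` is a homomorphism when commutators are central. -/
def commHom (hcz : ∀ c ∈ commutator E, ∀ x : E, c * x = x * c) (x : E) : E →* E :=
  MonoidHom.mk' (fun g => ⁅g, x⁆) (by
    intro g h
    have hm : ⁅h, x⁆ ∈ commutator E :=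
      Subgroup.commutator_mem_commutator (Subgroup.mem_top _) (Subgroup.mem_top _)
    have h1 : ⁅g * h, x⁆ = g * ⁅h, x⁆ * g⁻¹ * ⁅g, x⁆ := by
      simp only [commutatorElement_def]; group
    have h2 : g * ⁅h, x⁆ * g⁻¹ = ⁅h, x⁆ := by
      rw [← hcz _ hm g, mul_inv_cancel_right]
    rw [h1, h2, hcz _ hm])

theorem commHom_apply (hcz : ∀ c ∈ commutator E, ∀ x : E, c * x = x * c) (x g : E) :
    commHom hcz x g = ⁅g, x⁆ := rfl

theorem mem_ker_commHom (hcz : ∀ c ∈ commutator E, ∀ x : E, c * x = x * c) (x g : E) :
    g ∈ (commHom hcz x).ker ↔ g * x = x * g := by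
  rw [MonoidHom.mem_ker, commHom_apply, commutatorElement_eq_one_iff_mul_comm]

theorem index_ker_commHom_dvd [Finite E] (hcz : ∀ c ∈ commutator E, ∀ x : E, c * x = x * c)
    (hc2 : Nat.card (commutator E) = 2) (x : E) : (commHom hcz x).ker.index ∣ 2 := by
  rw [Subgroup.index_ker, ← hc2]
  apply Subgroup.card_dvd_of_le
  rintro _ ⟨g, rfl⟩
  rw [commHom_apply]
  exact Subgroup.commutator_mem_commutator (Subgroup.mem_top _) (Subgroup.mem_top _)

end E16

section E16b

variable {E : Type*} [Group E] [Finite E]

theorem card_commutator_of_sixteen (hcard : Nat.card E = 16)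
    (hidx : (commutator E).index = 8) : Nat.card (commutator E) = 2 := by
  have := Subgroup.card_mul_index (commutator E)
  rw [hidx, hcard] at this
  omega

theorem not_comm_of_sixteen (hcard : Nat.card E = 16)
    (hidx : (commutator E).index = 8) : ¬ ∀ a b : E, a * b = b * a := by
  intro h
  have := card_commutator_of_sixteen hcard hidx
  rw [Cfsg.Agent.Lib.H22.commutator_eq_bot_of_comm h, Subgroup.card_bot] at this
  omega

theorem index_center_of_sixteen (hcard : Nat.card E = 16)
    (hidx : (commutator E).index = 8) : (Subgroup.center E).index = 4 := by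
  classical
  have hc2 := card_commutator_of_sixteen hcard hidx
  have hnc := not_comm_of_sixteen hcard hidx
  have hcz : ∀ c ∈ commutator E, ∀ x : E, c * x = x * c := fun c hc x =>
    Cfsg.Agent.Lib.H21.SecRank2.central_of_normal_card_two (commutator E) hc2 c hc x
  have hZ2 : ¬ (Subgroup.center E).index ∣ 2 := fun h => hnc (comm_of_index_center_dvd_two h)
  obtain ⟨x, hx⟩ : ∃ x : E, x ∉ Subgroup.center E := by
    by_contra hcon
    push Not at hcon
    exact hnc fun a b => ((Subgroup.mem_center_iff.mp (hcon b)) a)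
  set M := (commHom hcz x).ker with hM
  have hMidx : M.index = 2 := by
    rcases (Nat.dvd_prime Nat.prime_two).mp (index_ker_commHom_dvd hcz hc2 x) with h | h
    · exfalso
      apply hx
      rw [Subgroup.index_eq_one] at h
      rw [Subgroup.mem_center_iff]
      intro g
      have : g ∈ M := by rw [hM, h]; exact Subgroup.mem_top g
      exact (mem_ker_commHom hcz x g).mp this
    · exact h
  have hMcard : Nat.card M = 8 := by
    have := Subgroup.card_mul_index M
    rw [hMidx, hcard] at this
    omega
  have hxM : x ∈ M := (mem_ker_commHom hcz x x).mpr rfl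
  -- a nontrivial commutator
  obtain ⟨z, hz, hz1⟩ : ∃ z ∈ commutator E, z ≠ 1 := by
    by_contra hcon
    push Not at hcon
    have : commutator E = ⊥ := (Subgroup.eq_bot_iff_forall _).mpr hcon
    rw [this, Subgroup.card_bot] at hc2
    omega
  have hzM : z ∈ M := (mem_ker_commHom hcz x z).mpr (hcz z hz x)
  have hzx : z ≠ x := by
    intro h
    apply hx
    rw [← h, Subgroup.mem_center_iff]
    exact fun g => (hcz z hz g).symm
  have hx1 : x ≠ 1 := by
    intro h
    apply hx
    rw [h]
    exact Subgroup.one_mem _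
  -- `M` is commutative
  have hMcomm : ∀ u v : M, u * v = v * u := by
    apply comm_of_card_eight hMcard
    haveI : Fintype (Subgroup.center M) := Fintype.ofFinite _
    rw [Nat.card_eq_fintype_card]
    apply Nat.succ_le_of_lt
    rw [Fintype.two_lt_card_iff]
    have hzc : (⟨z, hzM⟩ : M) ∈ Subgroup.center M := by
      rw [Subgroup.mem_center_iff]
      intro g
      apply Subtype.ext
      exact (hcz z hz g.1).symm
    have hxc : (⟨x, hxM⟩ : M) ∈ Subgroup.center M := by
      rw [Subgroup.mem_center_iff]
      intro g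
      apply Subtype.ext
      exact (mem_ker_commHom hcz x g.1).mp g.2
    refine ⟨1, ⟨⟨z, hzM⟩, hzc⟩, ⟨⟨x, hxM⟩, hxc⟩, ?_, ?_, ?_⟩
    · intro h
      apply hz1
      have := congrArg (fun t : Subgroup.center M => ((t : M) : E)) h
      exact this.symm
    · intro h
      apply hx1
      have := congrArg (fun t : Subgroup.center M => ((t : M) : E)) h
      exact this.symm
    · intro h
      apply hzx
      exact congrArg (fun t : Subgroup.center M => ((t : M) : E)) h
  -- an element outside `M`
  obtain ⟨y, hy⟩ : ∃ y : E, y ∉ M := by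
    by_contra hcon
    push Not at hcon
    have : M = ⊤ := eq_top_iff.mpr fun g _ => hcon g
    rw [this, Subgroup.index_top] at hMidx
    omega
  set M' := (commHom hcz y).ker with hM'
  have hK : M ⊓ M' ≤ Subgroup.center E := by
    intro k hk
    rw [Subgroup.mem_center_iff]
    have hkM : k ∈ M := hk.1
    have hky : k * y = y * k := (mem_ker_commHom hcz y k).mp hk.2
    have hkm : ∀ m ∈ M, m * k = k * m := fun m hm =>
      congrArg Subtype.val (hMcomm ⟨m, hm⟩ ⟨k, hkM⟩)
    intro g
    by_cases hg : g ∈ M
    · exact hkm g hg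
    · have h1 : g * y⁻¹ ∈ M := by
        rw [Subgroup.mul_mem_iff_of_index_two hMidx, inv_mem_iff]
        tauto
      have h2 := hkm _ h1
      calc g * k = (g * y⁻¹) * (y * k) := by group
        _ = (g * y⁻¹) * (k * y) := by rw [hky]
        _ = ((g * y⁻¹) * k) * y := by group
        _ = (k * (g * y⁻¹)) * y := by rw [h2]
        _ = k * g := by group
  have hKidx : (M ⊓ M').index ≤ 4 := by
    have h1 := Subgroup.index_inf_le (H := M) (K := M')
    have h2 : M'.index ≤ 2 := Nat.le_of_dvd two_pos (index_ker_commHom_dvd hcz hc2 y)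
    rw [hMidx] at h1
    calc (M ⊓ M').index ≤ 2 * M'.index := h1
      _ ≤ 2 * 2 := Nat.mul_le_mul_left 2 h2
  have hZidx : (Subgroup.center E).index ≤ 4 :=
    le_trans (Nat.le_of_dvd (Nat.pos_of_ne_zero Subgroup.index_ne_zero_of_finite)
      (Subgroup.index_dvd_of_le hK)) hKidx
  have h16 : (Subgroup.center E).index ∣ 2 ^ 4 := by
    have := Subgroup.index_dvd_card (Subgroup.center E)
    rw [hcard] at this
    exact this
  obtain ⟨j, hj, hj'⟩ := (Nat.dvd_prime_pow Nat.prime_two).mp h16
  rw [hj'] at hZidx hZ2 ⊢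
  interval_cases j
  · exact absurd (by norm_num) hZ2
  · exact absurd (by norm_num) hZ2
  · norm_num
  · norm_num at hZidx
  · norm_num at hZidx

theorem commutator_eq_bot_iff_center_le (hcard : Nat.card E = 16)
    (hidx : (commutator E).index = 8) (H : Subgroup E) (hH : H.index = 2) :
    ⁅H, H⁆ = ⊥ ↔ Subgroup.center E ≤ H := by
  have hnc := not_comm_of_sixteen hcard hidx
  have hZ := index_center_of_sixteen hcard hidx
  have hHcard : Nat.card H = 8 := by
    have := Subgroup.card_mul_index H
    rw [hH, hcard] at this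
    omega
  have hZcard : Nat.card (Subgroup.center E) = 4 := by
    have := Subgroup.card_mul_index (Subgroup.center E)
    rw [hZ, hcard] at this
    omega
  constructor
  · intro hab
    by_contra hle
    obtain ⟨c, hcZ, hcH⟩ := SetLike.not_le_iff_exists.mp hle
    apply hnc
    have hHc : ∀ u ∈ H, ∀ v ∈ H, u * v = v * u := by
      intro u hu v hv
      have := Subgroup.commutator_mem_commutator hu hv
      rw [hab, Subgroup.mem_bot, commutatorElement_eq_one_iff_mul_comm] at this
      exact this
    have hdec : ∀ g : E, ∃ m ∈ H, ∃ d ∈ Subgroup.center E, g = m * d := by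
      intro g
      by_cases hg : g ∈ H
      · exact ⟨g, hg, 1, Subgroup.one_mem _, (mul_one g).symm⟩
      · refine ⟨g * c⁻¹, ?_, c, hcZ, by group⟩
        rw [Subgroup.mul_mem_iff_of_index_two hH, inv_mem_iff]
        tauto
    intro a b
    obtain ⟨m₁, hm₁, d₁, hd₁, rfl⟩ := hdec a
    obtain ⟨m₂, hm₂, d₂, hd₂, rfl⟩ := hdec b
    have e1 := Subgroup.mem_center_iff.mp hd₁
    have e2 := Subgroup.mem_center_iff.mp hd₂
    calc m₁ * d₁ * (m₂ * d₂) = m₁ * (d₁ * m₂) * d₂ := by group
      _ = m₁ * (m₂ * d₁) * d₂ := by rw [e1 m₂]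
      _ = (m₁ * m₂) * (d₁ * d₂) := by group
      _ = (m₂ * m₁) * (d₂ * d₁) := by rw [hHc m₁ hm₁ m₂ hm₂, ← e1 d₂]
      _ = m₂ * (m₁ * d₂) * d₁ := by group
      _ = m₂ * (d₂ * m₁) * d₁ := by rw [e2 m₁]
      _ = m₂ * d₂ * (m₁ * d₁) := by group
  · intro hle
    have hcomm : ∀ u v : H, u * v = v * u := by
      apply comm_of_card_eight hHcard
      have h1 : (Subgroup.center E).subgroupOf H ≤ Subgroup.center H := by
        intro u hu
        rw [Subgroup.mem_subgroupOf] at hu
        rw [Subgroup.mem_center_iff]
        intro g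
        apply Subtype.ext
        exact Subgroup.mem_center_iff.mp hu g.1
      have h2 : Nat.card ((Subgroup.center E).subgroupOf H) = 4 := by
        rw [← hZcard]
        exact Nat.card_congr (Subgroup.subgroupOfEquivOfLe hle).toEquiv
      have := Subgroup.card_le_of_le h1
      omega
    rw [Subgroup.commutator_eq_bot_iff_le_centralizer]
    intro u hu
    rw [Subgroup.mem_centralizer_iff]
    intro v hv
    exact congrArg Subtype.val (hcomm ⟨v, hv⟩ ⟨u, hu⟩)

theorem even_card_nonabelian_maximal (hcard : Nat.card E = 16)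
    (hidx : (commutator E).index = 8) :
    Even (Nat.card {M : IdxOver 2 (⊥ : Subgroup E) // ⁅M.1, M.1⁆ ≠ ⊥}) := by
  have hG : IsPGroup 2 E := IsPGroup.of_card (n := 4) (by rw [hcard]; norm_num)
  have hZ := index_center_of_sixteen hcard hidx
  have h1 := card_split (fun _ : IdxOver 2 (⊥ : Subgroup E) => True)
    (fun M => Subgroup.center E ≤ M.1)
  have e0 : Nat.card {M : IdxOver 2 (⊥ : Subgroup E) // True} =
      Nat.card (IdxOver 2 (⊥ : Subgroup E)) :=
    Nat.card_congr (Equiv.subtypeUnivEquiv (fun _ => trivial))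
  have e1 : Nat.card {M : IdxOver 2 (⊥ : Subgroup E) // True ∧ Subgroup.center E ≤ M.1} =
      Nat.card (IdxOver 2 (Subgroup.center E)) :=
    Nat.card_congr
      { toFun := fun M => ⟨M.1.1, M.1.2.1, M.2.2⟩
        invFun := fun M => ⟨⟨M.1, M.2.1, bot_le⟩, trivial, M.2.2⟩
        left_inv := fun _ => rfl
        right_inv := fun _ => rfl }
  have e2 : Nat.card {M : IdxOver 2 (⊥ : Subgroup E) // True ∧ ¬ Subgroup.center E ≤ M.1} =
      Nat.card {M : IdxOver 2 (⊥ : Subgroup E) // ⁅M.1, M.1⁆ ≠ ⊥} := by
    apply Nat.card_congr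
    apply Equiv.subtypeEquivRight
    intro M
    rw [true_and, Ne, commutator_eq_bot_iff_center_le hcard hidx M.1 M.2.1]
  rw [e0, e1, e2] at h1
  have hbt : (⊥ : Subgroup E) ≠ ⊤ := by
    intro h
    have := congrArg (fun K : Subgroup E => Nat.card K) h
    simp only [Subgroup.card_bot, Subgroup.card_top, hcard] at this
    omega
  have hZt : Subgroup.center E ≠ ⊤ := by
    intro h
    rw [h, Subgroup.index_top] at hZ
    omega
  have m1 := card_idxOver_modEq_one 2 hG ⊥ hbt
  have m2 := card_idxOver_modEq_one 2 hG (Subgroup.center E) hZt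
  rw [Nat.even_iff]
  unfold Nat.ModEq at m1 m2
  omega

end E16b

end Cfsg.Agent.Lib.H26.Kul
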