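import Mathlib
import Cfsg.Agent.Lib.H26.KulTwoB

set_option autoImplicit false

/-!
# Maximal subgroups of maximal class in a 2-group that is not of maximal class
-/

namespace Cfsg.Agent.Lib.H26.Kul

open scoped commutatorElement

universe u

section B

/-- The derived subgroup of a 2-group of maximal class is cyclic, with explicit order. -/
theorem exists_commutator_eq_zpowers {H : Type u} [Group H] [Finite H] {n : ℕ}
    (hcard : Nat.card H = 2 ^ (n + 3)) (hidx : (commutator H).index = 4) :
    ∃ w : H, commutator H = Subgroup.zpowers w ∧ orderOf w = 2 ^ (n + 1) := by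
  obtain ⟨a, x, ha, hx, r, hr, h3⟩ := exists_conj_mod_three hcard hidx
  have hw : a ^ (r - 1) = ⁅x⁻¹, a⁆ := by
    rw [commutatorElement_def, inv_inv, hr, zpow_sub, zpow_one]
  have ho : orderOf (a ^ (r - 1)) = 2 ^ (n + 1) := orderOf_zpow_of_mod_four ha (r - 1) (by omega)
  have hmem : a ^ (r - 1) ∈ commutator H := by
    rw [hw]
    exact Subgroup.commutator_mem_commutator (Subgroup.mem_top _) (Subgroup.mem_top _)
  have hc : Nat.card (commutator H) = 2 ^ (n + 1) := by
    have h := Subgroup.card_mul_index (commutator H)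
    rw [hidx, hcard] at h
    have e : (2 : ℕ) ^ (n + 3) = 2 ^ (n + 1) * 4 := by ring
    rw [e] at h
    exact Nat.eq_of_mul_eq_mul_right (by norm_num) h
  refine ⟨a ^ (r - 1), ?_, ho⟩
  symm
  apply Subgroup.eq_of_le_of_card_ge
  · rw [Subgroup.zpowers_le]; exact hmem
  · rw [Nat.card_zpowers, ho, hc]

variable {G : Type*} [Group G] [Finite G]

theorem le_zpowers_sq_of_ne {j : ℕ} {d : G} (hd : orderOf d = 2 ^ (j + 1)) (K : Subgroup G)
    (hK : K ≤ Subgroup.zpowers d) (hne : K ≠ Subgroup.zpowers d) :
    K ≤ Subgroup.zpowers (d ^ 2) := by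
  have hfin : IsOfFinOrder d := by
    rw [← orderOf_pos_iff, hd]; exact pow_pos two_pos _
  intro k hk
  have h1 := hK hk
  rw [← hfin.mem_powers_iff_mem_zpowers, Submonoid.mem_powers_iff] at h1
  obtain ⟨i, rfl⟩ := h1
  rcases Nat.even_or_odd i with ⟨t, ht⟩ | hodd
  · rw [ht, ← two_mul, pow_mul]
    exact Subgroup.pow_mem _ (Subgroup.mem_zpowers _) t
  · exfalso
    apply hne
    apply le_antisymm hK
    have hcop : (orderOf d).Coprime i := by
      rw [hd]
      apply Nat.Coprime.pow_left
      exact Nat.coprime_two_left.mpr hodd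
    have ho := hcop.orderOf_pow
    have : Subgroup.zpowers (d ^ i) = Subgroup.zpowers d := by
      apply Subgroup.eq_of_le_of_card_ge
      · rw [Subgroup.zpowers_le]
        exact Subgroup.pow_mem _ (Subgroup.mem_zpowers d) i
      · rw [Nat.card_zpowers, Nat.card_zpowers, ho]
    rw [← this, Subgroup.zpowers_le]
    exact hk

theorem normal_zpowers_sq {d : G} (hN : (Subgroup.zpowers d).Normal) :
    (Subgroup.zpowers (d ^ 2)).Normal := by
  constructor
  intro t ht g
  obtain ⟨i, rfl⟩ := Subgroup.mem_zpowers_iff.mp ht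
  have h1 : g * d * g⁻¹ ∈ Subgroup.zpowers d := hN.conj_mem d (Subgroup.mem_zpowers d) g
  obtain ⟨k, hk⟩ := Subgroup.mem_zpowers_iff.mp h1
  have h3 : g * d ^ 2 * g⁻¹ = (d ^ 2) ^ k := by
    rw [← conj_pow, ← hk, ← zpow_natCast, ← zpow_natCast, ← zpow_mul, ← zpow_mul, mul_comm]
  have h2 : g * (d ^ 2) ^ i * g⁻¹ = ((d ^ 2) ^ k) ^ i := by
    rw [← conj_zpow, h3]
  rw [h2]
  exact Subgroup.zpow_mem _ (Subgroup.zpow_mem _ (Subgroup.mem_zpowers _) k) i

theorem card_zpowers_sq {j : ℕ} {d : G} (hd : orderOf d = 2 ^ (j + 1)) :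
    Nat.card (Subgroup.zpowers (d ^ 2)) = 2 ^ j := by
  rw [Nat.card_zpowers, orderOf_pow_of_dvd two_ne_zero (by rw [hd, pow_succ]; exact dvd_mul_left _ _),
    hd, pow_succ]
  exact Nat.mul_div_cancel _ two_pos

end B

section transfer

variable {G : Type u} [Group G] [Finite G] {n : ℕ}

theorem card_commutator_subgroup (H : Subgroup G) :
    Nat.card (commutator H) = Nat.card (⁅H, H⁆ : Subgroup G) := by
  rw [← Subgroup.map_subtype_commutator]
  exact (Subgroup.card_map_of_injective (Subgroup.subtype_injective H)).symm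

/-- In a noncyclic 2-group of order at least 16 that is not of maximal class, the number of
maximal subgroups of maximal class is even. -/
theorem even_card_maxClass_maximal (hcard : Nat.card G = 2 ^ (n + 4)) (hnc : ¬ IsCyclic G)
    (hidx : (commutator G).index ≠ 4) :
    Even (Nat.card {H : IdxOver 2 (⊥ : Subgroup G) // (commutator H.1).index = 4}) := by
  by_cases hE : IsEmpty {H : IdxOver 2 (⊥ : Subgroup G) // (commutator H.1).index = 4}
  · rw [Nat.card_of_isEmpty]
    exact Even.zero
  rw [not_isEmpty_iff] at hE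
  obtain ⟨H₀, hH₀⟩ := hE
  have hG : IsPGroup 2 G := IsPGroup.of_card hcard
  have hcH : ∀ H : IdxOver 2 (⊥ : Subgroup G), Nat.card H.1 = 2 ^ (n + 3) :=
    fun H => card_of_idxOver 2 (n + 3) hcard H
  obtain ⟨w, hw, how⟩ := exists_commutator_eq_zpowers (hcH H₀) hH₀
  set d : G := (w : G) with hd
  have hod : orderOf d = 2 ^ (n + 1) := by rw [hd, Subgroup.orderOf_coe]; exact how
  have hD : ⁅H₀.1, H₀.1⁆ = Subgroup.zpowers d := by
    rw [← Subgroup.map_subtype_commutator, hw, MonoidHom.map_zpowers]
    rfl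
  have hDidx : (Subgroup.zpowers d).index = 8 := by
    have h := Subgroup.card_mul_index (Subgroup.zpowers d)
    rw [Nat.card_zpowers, hod, hcard] at h
    have e : (2 : ℕ) ^ (n + 4) = 2 ^ (n + 1) * 8 := by ring
    rw [e] at h
    exact Nat.eq_of_mul_eq_mul_left (pow_pos two_pos _) h
  have hDle : Subgroup.zpowers d ≤ commutator G := by
    rw [← hD, commutator_def]
    exact Subgroup.commutator_mono le_top le_top
  have hGidx : (commutator G).index = 8 := by
    have h1 := Subgroup.index_dvd_of_le hDle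
    rw [hDidx] at h1
    have h2 := four_dvd_index_commutator hG hnc
    have h3 : (commutator G).index ∣ 2 ^ 3 := h1
    obtain ⟨j, hj, hj'⟩ := (Nat.dvd_prime_pow Nat.prime_two).mp h3
    rw [hj'] at h2 hidx ⊢
    interval_cases j
    · norm_num at h2
    · norm_num at h2
    · exact absurd rfl hidx
    · rfl
  have hGD : commutator G = Subgroup.zpowers d :=
    (eq_of_le_of_index_eq hDle (hDidx.trans hGidx.symm)).symm
  set T := Subgroup.zpowers (d ^ 2) with hT
  have hDn : (Subgroup.zpowers d).Normal := hGD ▸ (inferInstance : (commutator G).Normal)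
  haveI hTn : T.Normal := normal_zpowers_sq hDn
  have hTcard : Nat.card T = 2 ^ n := card_zpowers_sq hod
  have hTD : T ≤ Subgroup.zpowers d :=
    Subgroup.zpowers_le.mpr (Subgroup.pow_mem _ (Subgroup.mem_zpowers d) 2)
  have hTidx : T.index = 16 := by
    have h := Subgroup.card_mul_index T
    rw [hTcard, hcard] at h
    have e : (2 : ℕ) ^ (n + 4) = 2 ^ n * 16 := by ring
    rw [e] at h
    exact Nat.eq_of_mul_eq_mul_left (pow_pos two_pos _) h
  have hf : Function.Surjective (QuotientGroup.mk' T) := QuotientGroup.mk'_surjective T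
  have hker : (QuotientGroup.mk' T).ker = T := QuotientGroup.ker_mk' T
  have hEcard : Nat.card (G ⧸ T) = 16 := by rw [← hTidx]; rfl
  have hEidx : (commutator (G ⧸ T)).index = 8 := by
    have : commutator (G ⧸ T) = (commutator G).map (QuotientGroup.mk' T) := by
      rw [commutator_def, commutator_def, Subgroup.map_commutator, ← MonoidHom.range_eq_map,
        MonoidHom.range_eq_top.mpr hf]
    rw [this, Subgroup.index_map_eq _ hf (by rw [hker, hGD]; exact hTD)]
    exact hGidx
  have hev := even_card_nonabelian_maximal hEcard hEidx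
  have hTle : ∀ H : IdxOver 2 (⊥ : Subgroup G), (QuotientGroup.mk' T).ker ≤ H.1 := fun H => by
    rw [hker]
    exact hTD.trans (hGD ▸ commutator_le_of_index_two H.1 H.2.1)
  let e : IdxOver 2 (⊥ : Subgroup G) ≃ IdxOver 2 (⊥ : Subgroup (G ⧸ T)) :=
    { toFun := fun H => ⟨H.1.map (QuotientGroup.mk' T), by
        rw [Subgroup.index_map_eq _ hf (hTle H)]; exact H.2.1, bot_le⟩
      invFun := fun M => ⟨M.1.comap (QuotientGroup.mk' T), by
        rw [Subgroup.index_comap_of_surjective _ hf]; exact M.2.1, bot_le⟩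
      left_inv := fun H => Subtype.ext (Subgroup.comap_map_eq_self (hTle H))
      right_inv := fun M => Subtype.ext (Subgroup.map_comap_eq_self_of_surjective hf M.1) }
  have crit : ∀ H : IdxOver 2 (⊥ : Subgroup G),
      (commutator H.1).index = 4 ↔ ⁅(e H).1, (e H).1⁆ ≠ ⊥ := by
    intro H
    have he : (e H).1 = H.1.map (QuotientGroup.mk' T) := rfl
    rw [he, ← Subgroup.map_commutator, Ne, Subgroup.map_eq_bot_iff, hker]
    have hle : ⁅H.1, H.1⁆ ≤ Subgroup.zpowers d := by
      rw [← hGD, commutator_def]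
      exact Subgroup.commutator_mono le_top le_top
    have h1 : (commutator H.1).index = 4 ↔ ⁅H.1, H.1⁆ = Subgroup.zpowers d := by
      have hmul := Subgroup.card_mul_index (commutator H.1)
      rw [hcH H, card_commutator_subgroup] at hmul
      have e8 : (2 : ℕ) ^ (n + 3) = 2 ^ (n + 1) * 4 := by ring
      constructor
      · intro h4
        rw [h4, e8] at hmul
        have := Nat.eq_of_mul_eq_mul_right (by norm_num) hmul
        apply Subgroup.eq_of_le_of_card_ge hle
        rw [Nat.card_zpowers, hod, this]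
      · intro heq
        rw [heq, Nat.card_zpowers, hod, e8] at hmul
        exact Nat.eq_of_mul_eq_mul_left (pow_pos two_pos _) hmul
    rw [h1]
    constructor
    · intro heq hle'
      rw [heq] at hle'
      have := Subgroup.card_le_of_le hle'
      rw [hTcard, Nat.card_zpowers, hod] at this
      have : (2 : ℕ) ^ n < 2 ^ (n + 1) := Nat.pow_lt_pow_right (by norm_num) (by omega)
      omega
    · intro hnle
      by_contra hne
      exact hnle (le_zpowers_sq_of_ne hod _ hle hne)
  rw [Nat.card_congr (e.subtypeEquiv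
    (q := fun M : IdxOver 2 (⊥ : Subgroup (G ⧸ T)) => ⁅M.1, M.1⁆ ≠ ⊥) crit)]
  exact hev

end transfer

end Cfsg.Agent.Lib.H26.Kul
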