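import Mathlib
import Cfsg.Agent.Lib.H26.KulTwoC

set_option autoImplicit false

/-!
# Kulakoff's theorem for `p = 2`
-/

namespace Cfsg.Agent.Lib.H26.Kul

open scoped commutatorElement

universe u

section prep

variable {G : Type*} [Group G] [Finite G]

theorem card_cyclic_idxOver {n : ℕ} (hcard : Nat.card G = 2 ^ (n + 3)) :
    Nat.card {H : IdxOver 2 (⊥ : Subgroup G) // IsCyclic H.1} =
      Nat.card {T : Subgroup G // IsCyclic T ∧ Nat.card T = 2 ^ (n + 2)} := by
  apply Nat.card_congr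
  exact
    { toFun := fun H => ⟨H.1.1, H.2, card_of_idxOver 2 (n + 2) hcard H.1⟩
      invFun := fun T => ⟨⟨T.1, by
        have h := Subgroup.card_mul_index T.1
        rw [T.2.2, hcard, pow_succ 2 (n + 2)] at h
        exact Nat.eq_of_mul_eq_mul_left (pow_pos two_pos _) h, bot_le⟩, T.2.1⟩
      left_inv := fun _ => rfl
      right_inv := fun _ => rfl }

/-- The top case: the number of maximal subgroups of a noncyclic 2-group. -/
theorem card_sk_top (hG : IsPGroup 2 G) (hnc : ¬ IsCyclic G) (j : ℕ)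
    (hcard : Nat.card G = 2 ^ (j + 1)) :
    Nat.card {K : Subgroup G // Nat.card K = 2 ^ j} ≡ 1 + 2 [MOD 2 ^ 2] := by
  rw [card_sk_pred 2 j hcard]
  exact card_idxOver_modEq_sq 2 hG ⊥ (sq_dvd_card_ann_bot 2 hG hnc)

/-- A cyclic group of order at least 8 does not have `|G : G'| = 4`. -/
theorem not_isCyclic_of_index_commutator {j : ℕ} (hcard : Nat.card G = 2 ^ (j + 3))
    (hidx : (commutator G).index = 4) : ¬ IsCyclic G := by
  intro hc
  have hcomm : ∀ a b : G, a * b = b * a := fun a b => by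
    haveI := hc
    exact (IsCyclic.commGroup (α := G)).mul_comm a b
  rw [Cfsg.Agent.Lib.H22.commutator_eq_bot_of_comm hcomm, Subgroup.index_bot, hcard] at hidx
  have : (2 : ℕ) ^ 3 ≤ 2 ^ (j + 3) := Nat.pow_le_pow_right two_pos (by omega)
  omega

/-- The basic recursion for `p = 2`. -/
theorem key_two (hG : IsPGroup 2 G) (m k : ℕ) (hm : Nat.card G = 2 ^ (m + 1))
    (hk : k + 1 ≤ m) (hnc : ¬ IsCyclic G) (P : IdxOver 2 (⊥ : Subgroup G) → Prop)
    (hP : ∀ H, P H → ¬ IsCyclic H.1)
    (IH1 : ∀ H : IdxOver 2 (⊥ : Subgroup G), ¬ IsCyclic H.1 → ¬ P H →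
      Nat.card {K : Subgroup H.1 // Nat.card K = 2 ^ k} ≡ 1 + 2 [MOD 2 ^ 2])
    (IH2 : ∀ H : IdxOver 2 (⊥ : Subgroup G), ¬ IsCyclic H.1 → P H →
      Nat.card {K : Subgroup H.1 // Nat.card K = 2 ^ k} ≡ 1 [MOD 2 ^ 2]) :
    Nat.card {K : Subgroup G // Nat.card K = 2 ^ k} +
      2 * (Nat.card {H : IdxOver 2 (⊥ : Subgroup G) // IsCyclic H.1} +
        Nat.card {H : IdxOver 2 (⊥ : Subgroup G) // P H}) ≡ 1 + 2 [MOD 2 ^ 2] := by
  classical
  haveI : Fintype (IdxOver 2 (⊥ : Subgroup G)) := Fintype.ofFinite _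
  have h1 := sum_sk_modEq 2 hG (m + 1) k hm (by omega) (card_idxOver_bot_ne_one 2 hG hnc)
  have h2 : ∀ H : IdxOver 2 (⊥ : Subgroup G),
      Nat.card {K : Subgroup H.1 // Nat.card K = 2 ^ k} +
        ((if IsCyclic H.1 then 2 else 0) + (if P H then 2 else 0)) ≡ 1 + 2 [MOD 2 ^ 2] := by
    intro H
    by_cases hc : IsCyclic H.1
    · have hnP : ¬ P H := fun h => hP H h hc
      rw [if_pos hc, if_neg hnP]
      haveI := hc
      rw [card_sk_of_isCyclic 2 k (by rw [card_of_idxOver 2 m hm H]; exact pow_dvd_pow 2 (by omega))]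
    · rw [if_neg hc]
      by_cases hPH : P H
      · rw [if_pos hPH]
        exact Nat.ModEq.add_right _ (IH2 H hc hPH)
      · rw [if_neg hPH]
        exact IH1 H hc hPH
  have h3 : ∑ H : IdxOver 2 (⊥ : Subgroup G),
      (Nat.card {K : Subgroup H.1 // Nat.card K = 2 ^ k} +
        ((if IsCyclic H.1 then 2 else 0) + (if P H then 2 else 0))) ≡
      ∑ _H : IdxOver 2 (⊥ : Subgroup G), (1 + 2) [MOD 2 ^ 2] :=
    Nat.ModEq.sum (fun H _ => h2 H)
  rw [Finset.sum_add_distrib, Finset.sum_add_distrib, Finset.sum_const, Finset.card_univ,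
    smul_eq_mul, ← Nat.card_eq_fintype_card] at h3
  have h4 : ∑ H : IdxOver 2 (⊥ : Subgroup G), (if IsCyclic H.1 then 2 else 0) =
      2 * Nat.card {H : IdxOver 2 (⊥ : Subgroup G) // IsCyclic H.1} := by
    rw [Finset.sum_ite, Finset.sum_const, Finset.sum_const_zero, add_zero, smul_eq_mul,
      Nat.card_eq_fintype_card, Fintype.card_subtype, mul_comm]
  have h4' : ∑ H : IdxOver 2 (⊥ : Subgroup G), (if P H then 2 else 0) =
      2 * Nat.card {H : IdxOver 2 (⊥ : Subgroup G) // P H} := by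
    rw [Finset.sum_ite, Finset.sum_const, Finset.sum_const_zero, add_zero, smul_eq_mul,
      Nat.card_eq_fintype_card, Fintype.card_subtype, mul_comm]
  rw [h4, h4'] at h3
  have h6 := card_idxOver_modEq_sq 2 hG ⊥ (sq_dvd_card_ann_bot 2 hG hnc)
  have h7 := (h1.symm.add_right
    (2 * Nat.card {H : IdxOver 2 (⊥ : Subgroup G) // IsCyclic H.1} +
      2 * Nat.card {H : IdxOver 2 (⊥ : Subgroup G) // P H})).trans h3
  unfold Nat.ModEq at h6 h7 ⊢
  have e : (2 : ℕ) ^ 2 = 4 := by norm_num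
  rw [e] at h6 h7 ⊢
  omega

end prep

/-- **Kulakoff's theorem for `p = 2`**, together with the companion congruence for 2-groups of
maximal class. -/
theorem kulakoff_two :
    ∀ (m : ℕ) (G : Type u) [Group G] [Finite G], Nat.card G = 2 ^ m → ¬ IsCyclic G →
      (((commutator G).index ≠ 4 ∨ m ≤ 2) → ∀ k : ℕ, 1 ≤ k → k < m →
        Nat.card {H : Subgroup G // Nat.card H = 2 ^ k} ≡ 1 + 2 [MOD 2 ^ 2]) ∧
      ((commutator G).index = 4 → 3 ≤ m → ∀ k : ℕ, 1 ≤ k → k + 2 ≤ m →
        Nat.card {H : Subgroup G // Nat.card H = 2 ^ k} ≡ 1 [MOD 2 ^ 2]) := by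
  intro m
  induction m using Nat.strong_induction_on with
  | _ m ih =>
  intro G _ _ hm hnc
  have hG : IsPGroup 2 G := IsPGroup.of_card hm
  have hm0 : m ≠ 0 := by
    intro h
    apply hnc
    rw [h, pow_zero] at hm
    haveI : Subsingleton G := (Nat.card_eq_one_iff_unique.mp hm).1
    infer_instance
  obtain ⟨m', rfl⟩ : ∃ m', m = m' + 1 := ⟨m - 1, by omega⟩
  -- the recursion
  have hrec : ∀ k : ℕ, 1 ≤ k → k + 1 ≤ m' →
      Nat.card {K : Subgroup G // Nat.card K = 2 ^ k} +
      2 * (Nat.card {H : IdxOver 2 (⊥ : Subgroup G) // IsCyclic H.1} +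
        Nat.card {H : IdxOver 2 (⊥ : Subgroup G) //
          (commutator H.1).index = 4 ∧ k + 2 ≤ m'}) ≡ 1 + 2 [MOD 2 ^ 2] := by
    intro k hk1 hk2
    apply key_two hG m' k hm hk2 hnc
    · rintro H ⟨h4, hk3⟩
      obtain ⟨j, rfl⟩ : ∃ j, m' = j + 3 := ⟨m' - 3, by omega⟩
      exact not_isCyclic_of_index_commutator (card_of_idxOver 2 (j + 3) hm H) h4
    · intro H hHnc hnP
      by_cases hk3 : k + 2 ≤ m'
      · have h4 : (commutator H.1).index ≠ 4 := fun h => hnP ⟨h, hk3⟩
        exact (ih m' (by omega) H.1 (card_of_idxOver 2 m' hm H) hHnc).1 (Or.inl h4) k hk1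
          (by omega)
      · have hkm : m' = k + 1 := by omega
        subst hkm
        exact card_sk_top (IsPGroup.of_card (card_of_idxOver 2 (k + 1) hm H)) hHnc k
          (card_of_idxOver 2 (k + 1) hm H)
    · rintro H hHnc ⟨h4, hk3⟩
      exact (ih m' (by omega) H.1 (card_of_idxOver 2 m' hm H) hHnc).2 h4 (by omega) k hk1 hk3
  have hmu := card_idxOver_modEq_sq 2 hG ⊥ (sq_dvd_card_ann_bot 2 hG hnc)
  have e4 : (2 : ℕ) ^ 2 = 4 := by norm_num
  constructor
  · intro h k hk1 hk2
    by_cases hkm : k = m'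
    · subst hkm
      exact card_sk_top hG hnc k hm
    have hk3 : k + 1 ≤ m' := by omega
    have h4 : (commutator G).index ≠ 4 := by
      rcases h with h | h
      · exact h
      · omega
    have key := hrec k hk1 hk3
    obtain ⟨n, rfl⟩ : ∃ n, m' = n + 2 := ⟨m' - 2, by omega⟩
    -- `c` is even
    have hc : Nat.card {H : IdxOver 2 (⊥ : Subgroup G) // IsCyclic H.1} % 2 = 0 := by
      rw [card_cyclic_idxOver (n := n) hm]
      rcases card_cyclic_of_index_commutator_ne (n := n) hm hnc h4 with h | h <;> rw [h]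
    -- `b` is even
    have hb : Nat.card {H : IdxOver 2 (⊥ : Subgroup G) //
          (commutator H.1).index = 4 ∧ k + 2 ≤ n + 2} % 2 = 0 := by
      by_cases hk4 : k + 2 ≤ n + 2
      · obtain ⟨n', rfl⟩ : ∃ n', n = n' + 1 := ⟨n - 1, by omega⟩
        have := even_card_maxClass_maximal (n := n') hm hnc h4
        rw [Nat.even_iff] at this
        rw [← this]
        congr 1
        apply Nat.card_congr
        apply Equiv.subtypeEquivRight
        intro H
        exact ⟨fun h => h.1, fun h => ⟨h, hk4⟩⟩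
      · haveI : IsEmpty {H : IdxOver 2 (⊥ : Subgroup G) //
            (commutator H.1).index = 4 ∧ k + 2 ≤ n + 2} := ⟨fun H => hk4 H.2.2⟩
        rw [Nat.card_of_isEmpty]
    unfold Nat.ModEq at key ⊢
    rw [e4] at key ⊢
    omega
  · intro h4 hm3 k hk1 hk2
    have hk3 : k + 1 ≤ m' := by omega
    have key := hrec k hk1 hk3
    obtain ⟨n, rfl⟩ : ∃ n, m' = n + 2 := ⟨m' - 2, by omega⟩
    have hodd : (Nat.card {H : IdxOver 2 (⊥ : Subgroup G) // IsCyclic H.1} +
        Nat.card {H : IdxOver 2 (⊥ : Subgroup G) //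
          (commutator H.1).index = 4 ∧ k + 2 ≤ n + 2}) % 2 = 1 := by
      by_cases hk4 : k + 2 ≤ n + 2
      · obtain ⟨n', rfl⟩ : ∃ n', n = n' + 1 := ⟨n - 1, by omega⟩
        have hsplit := card_split (fun _ : IdxOver 2 (⊥ : Subgroup G) => True)
          (fun H => IsCyclic H.1)
        have e0 : Nat.card {M : IdxOver 2 (⊥ : Subgroup G) // True} =
            Nat.card (IdxOver 2 (⊥ : Subgroup G)) :=
          Nat.card_congr (Equiv.subtypeUnivEquiv (fun _ => trivial))
        have e1 : Nat.card {H : IdxOver 2 (⊥ : Subgroup G) // True ∧ IsCyclic H.1} =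
            Nat.card {H : IdxOver 2 (⊥ : Subgroup G) // IsCyclic H.1} :=
          Nat.card_congr (Equiv.subtypeEquivRight (fun H => by simp))
        have e2 : Nat.card {H : IdxOver 2 (⊥ : Subgroup G) // True ∧ ¬ IsCyclic H.1} =
            Nat.card {H : IdxOver 2 (⊥ : Subgroup G) //
              (commutator H.1).index = 4 ∧ k + 2 ≤ n' + 1 + 2} := by
          apply Nat.card_congr
          apply Equiv.subtypeEquivRight
          intro H
          constructor
          · rintro ⟨-, hHnc⟩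
            exact ⟨index_commutator_of_maximal (n := n') hm h4 H.1 H.2.1 hHnc, hk4⟩
          · rintro ⟨hH4, -⟩
            exact ⟨trivial, not_isCyclic_of_index_commutator (j := n')
              (card_of_idxOver 2 (n' + 1 + 2) hm H) hH4⟩
        rw [e0, e1, e2] at hsplit
        rw [← hsplit]
        unfold Nat.ModEq at hmu
        rw [e4] at hmu
        omega
      · haveI : IsEmpty {H : IdxOver 2 (⊥ : Subgroup G) //
            (commutator H.1).index = 4 ∧ k + 2 ≤ n + 2} := ⟨fun H => hk4 H.2.2⟩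
        have hb0 : Nat.card {H : IdxOver 2 (⊥ : Subgroup G) //
            (commutator H.1).index = 4 ∧ k + 2 ≤ n + 2} = 0 := Nat.card_of_isEmpty
        rw [hb0, add_zero, card_cyclic_idxOver (n := n) hm]
        rcases card_cyclic_of_index_commutator_eq (n := n) hm h4 with h | h <;> rw [h]
    unfold Nat.ModEq at key ⊢
    rw [e4] at key ⊢
    omega

end Cfsg.Agent.Lib.H26.Kul
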