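import Cfsg.Agent.Lib.H27.LCDefs
import Cfsg.Agent.Lib.H4.LCCode

/-!
# S0406 piece LC-SHB (helper26, for architect helper27)

The even minimal vectors of a `LeechLike` lattice that are not `≡ 0 mod 4`: `(±2^8, 0^16)` on the support of a
weight-8 codeword, at most `128` per codeword.
-/

set_option autoImplicit false

namespace Cfsg.Agent.Lib.H26.LC

open Cfsg.Agent.Lib.H27.LC

variable {Λ : AddSubgroup (Fin 24 → ℤ)}

/-- the codeword attached to an even vector: halves mod 2 -/
def halfMod (c : Fin 24 → ℤ) : Fin 24 → ZMod 2 := fun i => ((c i / 2 : ℤ) : ZMod 2)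

theorem halfMod_eq_zero_iff (c : Fin 24 → ℤ) (i : Fin 24) : halfMod c i = 0 ↔ (c i / 2) % 2 = 0 :=
  Cfsg.Agent.Lib.H4.LC.intCast_zmod_two_eq_zero_iff _

/-- the set of LC-SHB -/
def shapeB (Λ : AddSubgroup (Fin 24 → ℤ)) : Set (Fin 24 → ℤ) :=
  {c | c ∈ Λ ∧ nrm c = 32 ∧ (∀ i, (2 : ℤ) ∣ c i) ∧ ∃ i, ¬ (4 : ℤ) ∣ c i}

theorem halfMod_mem {c : Fin 24 → ℤ} (hc : c ∈ shapeB Λ) : halfMod c ∈ codeOf Λ := by
  rw [mem_codeOf]
  refine ⟨fun i => c i / 2, ?_, fun i => rfl⟩
  have e : (fun i => 2 * (c i / 2)) = c := by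
    funext i
    have := hc.2.2.1 i
    omega
  rw [e]
  exact hc.1

theorem halfMod_ne_zero {c : Fin 24 → ℤ} (hc : c ∈ shapeB Λ) : halfMod c ≠ 0 := by
  obtain ⟨i, hi⟩ := hc.2.2.2
  intro h0
  have h1 : halfMod c i = 0 := by rw [h0]; rfl
  rw [halfMod_eq_zero_iff] at h1
  have := hc.2.2.1 i
  omega

theorem shapeB_struct (h : LeechLike Λ) {c : Fin 24 → ℤ} (hc : c ∈ shapeB Λ) :
    hammingNorm (halfMod c) = 8 ∧
      ∀ i, (halfMod c i ≠ 0 → c i = 2 ∨ c i = -2) ∧ (halfMod c i = 0 → c i = 0) := by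
  have h8 := Cfsg.Agent.Lib.H4.LC.eight_le_weight h (halfMod_mem hc) (halfMod_ne_zero hc)
  -- the halves
  have hd : ∀ i, c i = 2 * (c i / 2) := fun i => by
    have := hc.2.2.1 i
    omega
  have hsumd : ∑ i, (c i / 2) ^ 2 = 8 := by
    have h1 : nrm c = 4 * ∑ i, (c i / 2) ^ 2 := by
      unfold nrm
      rw [Finset.mul_sum]
      refine Finset.sum_congr rfl fun i _ => ?_
      conv_lhs => rw [hd i]
      ring
    have h2 := hc.2.1
    omega
  have hwt : (hammingNorm (halfMod c) : ℤ) = ∑ i, (if (c i / 2) % 2 = 0 then (0 : ℤ) else 1) := by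
    unfold hammingNorm
    rw [Finset.card_filter]
    push_cast
    refine Finset.sum_congr rfl fun i _ => ?_
    by_cases h0 : (c i / 2) % 2 = 0
    · rw [if_pos h0, if_neg (not_not.2 ((halfMod_eq_zero_iff c i).2 h0))]
    · rw [if_neg h0, if_pos (fun h1 => h0 ((halfMod_eq_zero_iff c i).1 h1))]
  have hnn : ∀ i, 0 ≤ (c i / 2) ^ 2 - (if (c i / 2) % 2 = 0 then (0 : ℤ) else 1) := by
    intro i
    by_cases h0 : (c i / 2) % 2 = 0
    · rw [if_pos h0]; have := sq_nonneg (c i / 2); omega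
    · rw [if_neg h0]
      have h1 : c i / 2 ≠ 0 := by intro h2; rw [h2] at h0; simp at h0
      have h2 : 0 < (c i / 2) ^ 2 := by positivity
      omega
  have hsum0 : ∑ i, ((c i / 2) ^ 2 - (if (c i / 2) % 2 = 0 then (0 : ℤ) else 1)) = 0 := by
    have h1 : ∑ i, ((c i / 2) ^ 2 - (if (c i / 2) % 2 = 0 then (0 : ℤ) else 1)) =
        8 - (hammingNorm (halfMod c) : ℤ) := by
      rw [Finset.sum_sub_distrib, hsumd, hwt]
    have h2 : 0 ≤ ∑ i, ((c i / 2) ^ 2 - (if (c i / 2) % 2 = 0 then (0 : ℤ) else 1)) :=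
      Finset.sum_nonneg fun i _ => hnn i
    have h3 : (8 : ℤ) ≤ (hammingNorm (halfMod c) : ℤ) := by exact_mod_cast h8
    omega
  have hall := (Finset.sum_eq_zero_iff_of_nonneg (fun i _ => hnn i)).1 hsum0
  constructor
  · have h1 : ∑ i, ((c i / 2) ^ 2 - (if (c i / 2) % 2 = 0 then (0 : ℤ) else 1)) =
        8 - (hammingNorm (halfMod c) : ℤ) := by
      rw [Finset.sum_sub_distrib, hsumd, hwt]
    omega
  · intro i
    have hi := hall i (Finset.mem_univ i)
    constructor
    · intro hne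
      have h0 : ¬ (c i / 2) % 2 = 0 := fun h1 => hne ((halfMod_eq_zero_iff c i).2 h1)
      rw [if_neg h0] at hi
      have h1 : (c i / 2 - 1) * (c i / 2 + 1) = 0 := by ring_nf; omega
      have := hd i
      rcases mul_eq_zero.1 h1 with h2 | h2
      · left; omega
      · right; omega
    · intro h0
      rw [if_pos ((halfMod_eq_zero_iff c i).1 h0)] at hi
      have h1 : (c i / 2) ^ 2 = 0 := by omega
      have h2 : c i / 2 = 0 := by simpa using h1
      have := hd i
      omega

/-- two vectors of `shapeB` with the same codeword that agree outside `i0` are equal -/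
theorem shapeB_eq_of_agree (h : LeechLike Λ) {c c' : Fin 24 → ℤ} (hc : c ∈ shapeB Λ) (hc' : c' ∈ shapeB Λ)
    (hw : halfMod c = halfMod c') (i0 : Fin 24) (hag : ∀ i, i ≠ i0 → c i = c' i) : c = c' := by
  have hs := (shapeB_struct h hc).2
  have hs' := (shapeB_struct h hc').2
  -- the difference is 4 y
  have h4 : ∀ i, (4 : ℤ) ∣ c i - c' i := by
    intro i
    by_cases h0 : halfMod c i = 0
    · have h1 := (hs i).2 h0
      have h2 := (hs' i).2 (by rw [← hw]; exact h0)
      rw [h1, h2]; simp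
    · have h1 := (hs i).1 h0
      have h2 := (hs' i).1 (by rw [← hw]; exact h0)
      rcases h1 with h1 | h1 <;> rcases h2 with h2 | h2 <;> rw [h1, h2] <;> norm_num
  have hmem : (fun i => 4 * ((c i - c' i) / 4)) ∈ Λ := by
    have e : (fun i => 4 * ((c i - c' i) / 4)) = c - c' := by
      funext i
      have := h4 i
      simp only [Pi.sub_apply]
      omega
    rw [e]
    exact Λ.sub_mem hc.1 hc'.1
  have hev := Cfsg.Agent.Lib.H4.LC.sum_even_of_four_mul_mem h _ hmem
  have hsum : ∑ i, (c i - c' i) / 4 = (c i0 - c' i0) / 4 := by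
    refine Finset.sum_eq_single i0 (fun i _ hi => ?_) (fun hi => absurd (Finset.mem_univ i0) hi)
    rw [hag i hi]; simp
  rw [hsum] at hev
  funext i
  by_cases hi : i = i0
  · subst hi
    have h4i := h4 i
    by_cases h0 : halfMod c i = 0
    · have h1 := (hs i).2 h0
      have h2 := (hs' i).2 (by rw [← hw]; exact h0)
      rw [h1, h2]
    · have h1 := (hs i).1 h0
      have h2 := (hs' i).1 (by rw [← hw]; exact h0)
      rcases h1 with h1 | h1 <;> rcases h2 with h2 | h2 <;> rw [h1, h2] at hev ⊢ <;> omega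
  · exact hag i hi

/-- **LC-SHB**: at most `128` even minimal vectors, not `≡ 0 mod 4`, per weight-8 codeword. -/
theorem ncard_shapeB_le (h : LeechLike Λ) :
    {c : Fin 24 → ℤ | c ∈ Λ ∧ nrm c = 32 ∧ (∀ i, (2 : ℤ) ∣ c i) ∧ ∃ i, ¬ (4 : ℤ) ∣ c i}.ncard ≤
      128 * {w : Fin 24 → ZMod 2 | w ∈ codeOf Λ ∧ hammingNorm w = 8}.ncard := by
  classical
  change (shapeB Λ).ncard ≤ _
  have hfinB : (shapeB Λ).Finite := (finite_nrm_eq 32).subset fun c hc => hc.2.1
  have hfinW : {w : Fin 24 → ZMod 2 | w ∈ codeOf Λ ∧ hammingNorm w = 8}.Finite := Set.toFinite _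
  rw [Set.ncard_eq_toFinset_card _ hfinB, Set.ncard_eq_toFinset_card _ hfinW]
  refine Finset.card_le_mul_card_image_of_maps_to (f := halfMod) ?_ 128 ?_
  · intro c hc
    rw [Set.Finite.mem_toFinset] at hc ⊢
    exact ⟨halfMod_mem hc, (shapeB_struct h hc).1⟩
  · intro w hw
    rw [Set.Finite.mem_toFinset] at hw
    -- the support
    set T : Finset (Fin 24) := Finset.univ.filter fun i => w i ≠ 0 with hT
    have hTcard : T.card = 8 := hw.2
    have hTne : T.Nonempty := Finset.card_pos.1 (by omega)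
    obtain ⟨i0, hi0⟩ := hTne
    have hcard : ((T.erase i0).powerset).card = 128 := by
      rw [Finset.card_powerset, Finset.card_erase_of_mem hi0, hTcard]
      norm_num
    rw [← hcard]
    refine Finset.card_le_card_of_injOn (fun c => (T.erase i0).filter fun i => c i = 2) ?_ ?_
    · intro c _
      simp only [Finset.coe_powerset, Set.mem_preimage, Set.mem_powerset_iff, Finset.coe_subset]
      exact Finset.filter_subset _ _
    · intro c hc c' hc' hcc
      simp only [Finset.coe_filter, Set.mem_ofPred_eq, Set.Finite.mem_toFinset] at hc hc'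
      obtain ⟨hcB, hcw⟩ := hc
      obtain ⟨hcB', hcw'⟩ := hc'
      refine shapeB_eq_of_agree h hcB hcB' (hcw.trans hcw'.symm) i0 fun i hi => ?_
      have hs := (shapeB_struct h hcB).2 i
      have hs' := (shapeB_struct h hcB').2 i
      by_cases h0 : w i = 0
      · rw [hs.2 (by rw [hcw]; exact h0), hs'.2 (by rw [hcw']; exact h0)]
      · have hiT : i ∈ T.erase i0 := Finset.mem_erase.2 ⟨hi, by rw [hT]; simp [h0]⟩
        have hiff : c i = 2 ↔ c' i = 2 := by
          have h1 : i ∈ (T.erase i0).filter (fun i => c i = 2) ↔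
              i ∈ (T.erase i0).filter (fun i => c' i = 2) := by
            simp only at hcc
            rw [hcc]
          simpa [hiT] using h1
        have h1 := hs.1 (by rw [hcw]; exact h0)
        have h2 := hs'.1 (by rw [hcw']; exact h0)
        rcases h1 with h1 | h1 <;> rcases h2 with h2 | h2
        · rw [h1, h2]
        · exfalso; have := hiff.1 h1; omega
        · exfalso; have := hiff.2 h2; omega
        · rw [h1, h2]

end Cfsg.Agent.Lib.H26.LC
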