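import Cfsg.Agent.Lib.H27.LCDefs

/-!
# S0406 piece LC-SHC (helper26, for architect helper27)

The odd minimal vectors of a `LeechLike` lattice: `(±3, ±1^23)`, at most `24 · |code|` of them.
-/

set_option autoImplicit false

namespace Cfsg.Agent.Lib.H26.LC

open Cfsg.Agent.Lib.H27.LC

variable {Λ : AddSubgroup (Fin 24 → ℤ)}

/-- an odd integer has square `≥ 1` and `8 ∣ x² - 1` -/
theorem odd_sq_aux {x : ℤ} (hx : ¬ (2 : ℤ) ∣ x) : 0 ≤ x ^ 2 - 1 ∧ (8 : ℤ) ∣ x ^ 2 - 1 := by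
  have h1 : x % 2 = 1 := by omega
  obtain ⟨k, hk⟩ : ∃ k, x = 2 * k + 1 := ⟨x / 2, by omega⟩
  subst hk
  constructor
  · have hk : 0 ≤ k * (k + 1) := by
      rcases le_or_gt 0 k with h | h
      · exact mul_nonneg h (by omega)
      · have h1 : 0 ≤ -k := by omega
        have h2 : 0 ≤ -(k + 1) := by omega
        nlinarith [mul_nonneg h1 h2]
    nlinarith
  · have : (2 * k + 1) ^ 2 - 1 = 4 * (k * (k + 1)) := by ring
    rw [this]
    have h2 : (2 : ℤ) ∣ k * (k + 1) := by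
      rcases Int.emod_two_eq_zero_or_one k with h | h
      · exact Dvd.dvd.mul_right (by omega) _
      · exact Dvd.dvd.mul_left (by omega) _
    obtain ⟨m, hm⟩ := h2
    rw [hm]
    exact ⟨m, by ring⟩

/-- all coordinates of a vector of `Λ` with one odd coordinate are odd -/
theorem all_odd (h : LeechLike Λ) {c : Fin 24 → ℤ} (hc : c ∈ Λ) (h0 : ¬ (2 : ℤ) ∣ c 0) (i : Fin 24) :
    ¬ (2 : ℤ) ∣ c i := by
  have := h.hpar c hc i 0
  omega

/-- shape of an odd vector of norm 32: one `±3`, the rest `±1` -/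
theorem shapeC_struct {c : Fin 24 → ℤ} (hodd : ∀ i, ¬ (2 : ℤ) ∣ c i) (hn : nrm c = 32) :
    ∃ i, c i ^ 2 = 9 ∧ ∀ j, j ≠ i → c j ^ 2 = 1 := by
  have hsum : ∑ i, (c i ^ 2 - 1) = 8 := by
    rw [Finset.sum_sub_distrib]
    unfold nrm at hn
    rw [hn]
    simp
  have hnn : ∀ i, 0 ≤ c i ^ 2 - 1 := fun i => (odd_sq_aux (hodd i)).1
  have hdv : ∀ i, (8 : ℤ) ∣ c i ^ 2 - 1 := fun i => (odd_sq_aux (hodd i)).2
  -- some term is positive
  have hex : ∃ i, c i ^ 2 - 1 ≠ 0 := by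
    by_contra hcon
    push Not at hcon
    have : ∑ i, (c i ^ 2 - 1) = 0 := Finset.sum_eq_zero fun i _ => hcon i
    omega
  obtain ⟨i, hi⟩ := hex
  have hi8 : 8 ≤ c i ^ 2 - 1 := by
    have h1 := hnn i
    have h2 := hdv i
    omega
  have hsplit : ∑ j, (c j ^ 2 - 1) = (c i ^ 2 - 1) + ∑ j ∈ Finset.univ.erase i, (c j ^ 2 - 1) := by
    exact (Finset.add_sum_erase _ (fun j => c j ^ 2 - 1) (Finset.mem_univ i)).symm
  have hrest_nn : 0 ≤ ∑ j ∈ Finset.univ.erase i, (c j ^ 2 - 1) :=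
    Finset.sum_nonneg fun j _ => hnn j
  have hrest0 : ∑ j ∈ Finset.univ.erase i, (c j ^ 2 - 1) = 0 := by omega
  have hi9 : c i ^ 2 = 9 := by omega
  refine ⟨i, hi9, fun j hj => ?_⟩
  have := (Finset.sum_eq_zero_iff_of_nonneg (fun j _ => hnn j)).1 hrest0 j
    (Finset.mem_erase.2 ⟨hj, Finset.mem_univ j⟩)
  omega

/-- the vectors of `Λ` of shape `(±3 at i, ±1 elsewhere)` -/
def shapeCAt (Λ : AddSubgroup (Fin 24 → ℤ)) (i : Fin 24) : Set (Fin 24 → ℤ) :=
  {c | c ∈ Λ ∧ c i ^ 2 = 9 ∧ ∀ j, j ≠ i → c j ^ 2 = 1}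

theorem sq_eq_nine {x : ℤ} (h : x ^ 2 = 9) : x = 3 ∨ x = -3 := by
  have h1 : (x - 3) * (x + 3) = 0 := by ring_nf; omega
  rcases mul_eq_zero.1 h1 with h2 | h2
  · left; omega
  · right; omega

theorem sq_eq_one' {x : ℤ} (h : x ^ 2 = 1) : x = 1 ∨ x = -1 := by
  have h1 : (x - 1) * (x + 1) = 0 := by ring_nf; omega
  rcases mul_eq_zero.1 h1 with h2 | h2
  · left; omega
  · right; omega

theorem shapeCAt_odd {i : Fin 24} {c : Fin 24 → ℤ} (hc : c ∈ shapeCAt Λ i) (j : Fin 24) :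
    ¬ (2 : ℤ) ∣ c j := by
  by_cases hj : j = i
  · subst hj
    rcases sq_eq_nine hc.2.1 with h | h <;> rw [h] <;> omega
  · rcases sq_eq_one' (hc.2.2 j hj) with h | h <;> rw [h] <;> omega

theorem ncard_shapeCAt_le (i : Fin 24) : (shapeCAt Λ i).ncard ≤ Nat.card (codeOf Λ) := by
  rcases Set.eq_empty_or_nonempty (shapeCAt Λ i) with hemp | ⟨c₁, hc₁⟩
  · rw [hemp]; simp
  · have hfin : ((codeOf Λ : Submodule (ZMod 2) (Fin 24 → ZMod 2)) : Set (Fin 24 → ZMod 2)).Finite :=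
      Set.toFinite _
    have key : (shapeCAt Λ i).ncard ≤
        ((codeOf Λ : Submodule (ZMod 2) (Fin 24 → ZMod 2)) : Set (Fin 24 → ZMod 2)).ncard := by
      refine Set.ncard_le_ncard_of_injOn
        (fun c : Fin 24 → ℤ => fun j => (((c j - c₁ j) / 2 : ℤ) : ZMod 2)) ?_ ?_ hfin
      · intro c hc
        show (fun j => (((c j - c₁ j) / 2 : ℤ) : ZMod 2)) ∈ codeOf Λ
        rw [mem_codeOf]
        refine ⟨fun j => (c j - c₁ j) / 2, ?_, fun j => rfl⟩
        have e : (fun j => 2 * ((c j - c₁ j) / 2)) = c - c₁ := by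
          funext j
          have h1 := shapeCAt_odd hc j
          have h2 := shapeCAt_odd hc₁ j
          simp only [Pi.sub_apply]
          omega
        rw [e]
        exact Λ.sub_mem hc.1 hc₁.1
      · intro c hc d hd hcd
        funext j
        have hj := congrFun hcd j
        simp only at hj
        rw [ZMod.intCast_eq_intCast_iff_dvd_sub] at hj
        have h1 := shapeCAt_odd hc j
        have h2 := shapeCAt_odd hc₁ j
        have h3 := shapeCAt_odd hd j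
        have h4 : (4 : ℤ) ∣ c j - d j := by
          have : ((2 : ℕ) : ℤ) = 2 := rfl
          rw [this] at hj
          omega
        by_cases hji : j = i
        · subst hji
          rcases sq_eq_nine hc.2.1 with h5 | h5 <;> rcases sq_eq_nine hd.2.1 with h6 | h6 <;>
            rw [h5, h6] at h4 ⊢ <;> omega
        · rcases sq_eq_one' (hc.2.2 j hji) with h5 | h5 <;>
            rcases sq_eq_one' (hd.2.2 j hji) with h6 | h6 <;>
            rw [h5, h6] at h4 ⊢ <;> omega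
    rwa [← Nat.card_coe_set_eq] at key

/-- **LC-SHC**: at most `24 · |code|` odd minimal vectors. -/
theorem ncard_shapeC_le (h : LeechLike Λ) :
    {c : Fin 24 → ℤ | c ∈ Λ ∧ nrm c = 32 ∧ ¬ (2 : ℤ) ∣ c 0}.ncard ≤ 24 * Nat.card (codeOf Λ) := by
  classical
  have hsub : {c : Fin 24 → ℤ | c ∈ Λ ∧ nrm c = 32 ∧ ¬ (2 : ℤ) ∣ c 0} ⊆ ⋃ i, shapeCAt Λ i := by
    intro c hc
    obtain ⟨i, hi9, hi1⟩ := shapeC_struct (fun i => all_odd h hc.1 hc.2.2 i) hc.2.1
    exact Set.mem_iUnion.2 ⟨i, hc.1, hi9, hi1⟩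
  have hfinA : ∀ i, (shapeCAt Λ i).Finite := by
    intro i
    refine (finite_nrm_le 32).subset ?_
    intro c hc
    show nrm c ≤ 32
    unfold nrm
    rw [← Finset.add_sum_erase _ _ (Finset.mem_univ i), hc.2.1]
    have : ∑ j ∈ Finset.univ.erase i, c j ^ 2 = ∑ j ∈ Finset.univ.erase i, (1 : ℤ) :=
      Finset.sum_congr rfl fun j hj => hc.2.2 j (Finset.ne_of_mem_erase hj)
    rw [this]
    simp
  have hfinU : (⋃ i, shapeCAt Λ i).Finite := Set.finite_iUnion hfinA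
  calc {c : Fin 24 → ℤ | c ∈ Λ ∧ nrm c = 32 ∧ ¬ (2 : ℤ) ∣ c 0}.ncard
      ≤ (⋃ i, shapeCAt Λ i).ncard := Set.ncard_le_ncard hsub hfinU
    _ ≤ ∑ i : Fin 24, (shapeCAt Λ i).ncard := by
        have e : (⋃ i, shapeCAt Λ i) = ↑(Finset.univ.biUnion fun i => (hfinA i).toFinset) := by
          ext c; simp
        rw [e, Set.ncard_coe_finset]
        refine le_trans Finset.card_biUnion_le ?_
        refine Finset.sum_le_sum fun i _ => ?_
        rw [Set.ncard_eq_toFinset_card _ (hfinA i)]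
    _ ≤ ∑ _i : Fin 24, Nat.card (codeOf Λ) := Finset.sum_le_sum fun i _ => ncard_shapeCAt_le i
    _ = 24 * Nat.card (codeOf Λ) := by simp

end Cfsg.Agent.Lib.H26.LC
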