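import Mathlib
import Cfsg.Agent.Lib.H26.MC3Defs

/-!
helper26: S4079 piece A0: an automorphism `σ` with `σ^p = 1` acts on a `σ`-invariant cyclic subgroup of a
`p`-group as a power map `c ↦ c^l` with `l ≡ 1 (mod p)`.
-/

set_option autoImplicit false

namespace Cfsg.Agent.Lib.H26.MC3

universe u

variable {p : ℕ} [hp : Fact p.Prime] {L : Type u} [Group L] [Finite L]

theorem exists_pow_map {σ : MulAut L} (hL : IsPGroup p L) (hσ : σ ^ p = 1) (C : Subgroup L)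
    (hC : IsCyclic ↥C) (hinv : ∀ c ∈ C, σ c ∈ C) : ∃ l : ℕ, l % p = 1 ∧ ∀ c ∈ C, σ c = c ^ l := by
  have hpp : p.Prime := hp.out
  obtain ⟨⟨c0, hc0C⟩, hgen⟩ := hC.exists_generator
  have hgen' : ∀ c ∈ C, ∃ t : ℕ, c = c0 ^ t := by
    intro c hc
    have h1 := hgen ⟨c, hc⟩
    obtain ⟨t, ht⟩ := (mem_powers_iff_mem_zpowers (x := (⟨c0, hc0C⟩ : ↥C))).mpr h1
    refine ⟨t, ?_⟩
    have := congrArg Subtype.val ht
    simpa using this.symm
  by_cases hc01 : c0 = 1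
  · refine ⟨1, Nat.mod_eq_of_lt hpp.one_lt, ?_⟩
    intro c hc
    obtain ⟨t, rfl⟩ := hgen' c hc
    rw [hc01]; simp
  obtain ⟨l, hl⟩ := hgen' (σ c0) (hinv c0 hc0C)
  have hall : ∀ c ∈ C, σ c = c ^ l := by
    intro c hc
    obtain ⟨t, rfl⟩ := hgen' c hc
    rw [map_pow, hl, ← pow_mul, ← pow_mul, mul_comm]
  refine ⟨l, ?_, hall⟩
  -- σ^k c0 = c0^(l^k)
  have hiter : ∀ k : ℕ, (σ ^ k) c0 = c0 ^ l ^ k := by
    intro k
    induction k with
    | zero => simp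
    | succ k ih =>
      rw [pow_succ', MulAut.mul_apply, ih, map_pow, hl, ← pow_mul, ← pow_succ']
  have h2 := hiter p
  rw [hσ, MulAut.one_apply] at h2
  -- orderOf c0 ∣ l^p - 1
  have hlpos : 1 ≤ l ^ p := by
    rcases Nat.eq_zero_or_pos (l ^ p) with h0 | h0
    · rw [h0, pow_zero] at h2; exact absurd h2 hc01
    · exact h0
  have h3 : orderOf c0 ∣ l ^ p - 1 := by
    rw [orderOf_dvd_iff_pow_eq_one]
    have : c0 ^ (l ^ p - 1) * c0 = c0 := by
      rw [← pow_succ, Nat.sub_add_cancel hlpos]; exact h2.symm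
    exact mul_eq_right.mp this
  have h4 : p ∣ orderOf c0 := by
    obtain ⟨f, hf⟩ := hL c0
    have h5 : orderOf c0 ∣ p ^ f := orderOf_dvd_of_pow_eq_one hf
    obtain ⟨g, _, hg⟩ := (Nat.dvd_prime_pow hpp).mp h5
    rcases Nat.eq_zero_or_pos g with rfl | hgpos
    · rw [pow_zero, orderOf_eq_one_iff] at hg; exact absurd hg hc01
    · rw [hg]; exact dvd_pow_self p hgpos.ne'
  have h6 : p ∣ l ^ p - 1 := h4.trans h3
  have h7 : ((l ^ p : ℕ) : ZMod p) = 1 := by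
    have := (ZMod.natCast_eq_zero_iff (l ^ p - 1) p).mpr h6
    rw [Nat.cast_sub hlpos, Nat.cast_one, sub_eq_zero] at this
    exact this
  rw [Nat.cast_pow, ZMod.pow_card] at h7
  have h8 : ((l : ℕ) : ZMod p) = ((1 : ℕ) : ZMod p) := by rw [h7, Nat.cast_one]
  rw [ZMod.natCast_eq_natCast_iff'] at h8
  rw [h8]; exact Nat.mod_eq_of_lt hpp.one_lt

end Cfsg.Agent.Lib.H26.MC3
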