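import Mathlib
import Cfsg.Agent.Lib.H26.MC3Defs

/-!
helper26: S4079 piece G9: a nontrivial metacyclic `p`-group without cyclic subgroups of index `p` has
order at least `p^4`.
-/

set_option autoImplicit false

namespace Cfsg.Agent.Lib.H26.MC3

universe u

variable {p : ℕ} [hp : Fact p.Prime] {L : Type u} [Group L] [Finite L]

/-- under `Hyp`, `L` is not cyclic -/
theorem not_isCyclic (h : Hyp p L) : ¬ IsCyclic L := by
  intro hc
  have hpp : p.Prime := hp.out
  haveI := h.hnt
  obtain ⟨m, hm⟩ := IsPGroup.iff_card.mp h.hL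
  have hm0 : m ≠ 0 := by
    intro h0
    rw [h0, pow_zero] at hm
    have : 1 < Nat.card L := Finite.one_lt_card
    omega
  obtain ⟨m', rfl⟩ := Nat.exists_eq_succ_of_ne_zero hm0
  obtain ⟨C, hC⟩ := Sylow.exists_subgroup_card_pow_prime p (G := L) (n := m')
    (by rw [hm]; exact pow_dvd_pow p (Nat.le_succ m'))
  have hidx : C.index = p := by
    have h1 := Subgroup.card_mul_index C
    rw [hC, hm, pow_succ] at h1
    exact Nat.eq_of_mul_eq_mul_left (pow_pos hpp.pos m') h1
  have hCc : IsCyclic ↥C := by
    haveI := hc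
    infer_instance
  exact h.hnc C hCc hidx

/-- G9 -/
theorem four_le (h : Hyp p L) {m : ℕ} (hm : Nat.card L = p ^ m) : 4 ≤ m := by
  have hpp : p.Prime := hp.out
  have hp1 : 1 < p := hpp.one_lt
  obtain ⟨N, hNn, hNc, hQ⟩ := h.hmc
  obtain ⟨r, hr⟩ := IsPGroup.iff_card.mp (h.hL.to_subgroup N)
  obtain ⟨s, hs⟩ := IsPGroup.iff_card.mp (h.hL.to_quotient N)
  have hcard : Nat.card L = Nat.card (L ⧸ N) * Nat.card N :=
    Subgroup.card_eq_card_quotient_mul_card_subgroup N
  have hm' : m = s + r := by
    rw [hm, hs, hr, ← pow_add] at hcard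
    exact Nat.pow_right_injective hp1 hcard
  have hidxN : N.index = p ^ s := by rw [Subgroup.index_eq_card, hs]
  -- s ≥ 2
  have hs2 : 2 ≤ s := by
    by_contra hlt
    push Not at hlt
    interval_cases s
    · -- N = ⊤
      rw [pow_zero] at hidxN
      have hN : N = ⊤ := Subgroup.index_eq_one.mp hidxN
      apply not_isCyclic h
      rw [hN] at hNc
      exact isCyclic_of_surjective _ (Subgroup.topEquiv (G := L)).surjective
    · rw [pow_one] at hidxN
      exact h.hnc N hNc hidxN
  -- r ≥ 2
  have hr2 : 2 ≤ r := by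
    by_contra hlt
    push Not at hlt
    obtain ⟨q, hq⟩ := hQ.exists_generator
    obtain ⟨b, rfl⟩ := QuotientGroup.mk_surjective q
    -- order of bN is p^s
    have hob : orderOf (QuotientGroup.mk b : L ⧸ N) = p ^ s := by
      rw [orderOf_eq_card_of_forall_mem_zpowers hq, hs]
    have hdvd : p ^ s ∣ orderOf b := by
      rw [← hob]
      exact orderOf_dvd_of_pow_eq_one (by rw [← QuotientGroup.mk_pow, pow_orderOf_eq_one]; rfl)
    set B := Subgroup.zpowers b with hB
    have hBc : IsCyclic ↥B := by rw [hB]; infer_instance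
    have hBcard : Nat.card ↥B = orderOf b := Nat.card_zpowers b
    obtain ⟨j, hj⟩ := IsPGroup.iff_card.mp (h.hL.to_subgroup B)
    have hsj : s ≤ j := by
      rw [hBcard] at hj
      rw [hj] at hdvd
      exact (Nat.pow_dvd_pow_iff_le_right hp1).mp hdvd
    have hjm : j ≤ m := by
      have := Subgroup.card_subgroup_dvd_card B
      rw [hj, hm] at this
      exact (Nat.pow_dvd_pow_iff_le_right hp1).mp this
    have hidxB : B.index = p ^ (m - j) := by
      have h1 := Subgroup.card_mul_index B
      rw [hj, hm] at h1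
      have h2 : p ^ m = p ^ j * p ^ (m - j) := by rw [← pow_add, Nat.add_sub_cancel' hjm]
      rw [h2] at h1
      exact Nat.eq_of_mul_eq_mul_left (pow_pos hpp.pos j) h1
    have hmj : m - j ≤ 1 := by omega
    interval_cases hk : m - j
    · rw [pow_zero] at hidxB
      have hBt : B = ⊤ := Subgroup.index_eq_one.mp hidxB
      apply not_isCyclic h
      rw [hBt] at hBc
      exact isCyclic_of_surjective _ (Subgroup.topEquiv (G := L)).surjective
    · rw [pow_one] at hidxB
      exact h.hnc B hBc hidxB
  omega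

end Cfsg.Agent.Lib.H26.MC3
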