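import Mathlib
import Cfsg.Agent.Lib.H26.MC3Defs
import Cfsg.Agent.Lib.H26.MC3Nm
import Cfsg.Agent.Lib.H26.MC3A0
import Cfsg.Agent.Lib.H26.MC3G1
import Cfsg.Agent.Lib.H26.MC3G9
import Cfsg.Agent.Lib.H10.MC3G3
import Cfsg.Agent.Lib.H11.MC3A1
import Cfsg.Agent.Lib.H11.MC3A1cd
import Cfsg.Agent.Lib.H15.MC3A6
import Cfsg.Agent.Lib.H19.MC3G2
import Cfsg.Agent.Lib.H19.MC3G8
import Cfsg.Agent.Lib.H21.MC3A5
import Cfsg.Agent.Lib.H22.MC3A7
import Cfsg.Agent.Lib.H22.MC3B1
import Cfsg.Agent.Lib.H25.MC3A2
import Cfsg.Agent.Lib.H1.MC3G6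
import Cfsg.Agent.Lib.H1.MC3G7
import Cfsg.Agent.S3879

/-!
S4079: assembly of the pieces (blueprint `tools/blueprints/S4079.md`).
-/

set_option autoImplicit false

namespace Cfsg.Agent.Lib.H26.MC3

open SemidirectProduct
open Cfsg.Agent.Lib.H10.MC3 (exists_pow_eq)
open Cfsg.Agent.Lib.H11.MC3 (card_Zf comm_mem_Zf)
open Cfsg.Agent.Lib.H15.MC3 (Fx_le_Zf)
open Cfsg.Agent.Lib.H19.MC3 (card_Om exists_adjust)
open Cfsg.Agent.Lib.H21.MC3 (p_eq_three)
open Cfsg.Agent.Lib.H22.MC3 (class_eq_of_centralizer moves_of_class)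
open Cfsg.Agent.Lib.H25.MC3 (card_commutator_le)
open Cfsg.Agent.Lib.H1.MC3 (commutator_comm_Om mul_pow_mod)

universe u

variable {p : ℕ} [hp : Fact p.Prime] {L : Type u} [Group L] [Finite L]

/-- the group-level facts -/
theorem facts (h : Hyp p L) : Facts p L where
  mul_pow_eq_one := fun hg hk => mul_pow_eq_one h.hp2 h.hL h.hmc hg hk
  mem_Om_iff := mem_Om_iff h.hp2 h.hL h.hmc
  card_Om := card_Om h
  exists_pow_eq := fun he => exists_pow_eq h he
  comm_pow_eq_one := comm_pow_eq_one h.hp2 h.hL h.hmc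
  isCyclic_commutator := isCyclic_commutator h.hmc
  commutator_comm_Om := fun hc he => commutator_comm_Om h.hp2 h.hL h.hmc hc he
  mul_pow_mod := mul_pow_mod h.hp2 h.hL h.hmc
  exists_adjust := fun hc hy => exists_adjust h.hp2 h.hL h.hmc hc hy

/-- the first-level `σ`-facts -/
theorem sfacts (h : Hyp p L) {σ : MulAut L} (hm : Mov p σ) : SFacts p σ := by
  have h1 := card_Zf h hm (facts h)
  have h2 := comm_mem_Zf h hm (facts h) h1.1
  exact ⟨fun C hC hinv => exists_pow_map h.hL hm.hσ C hC hinv, h1.1, h1.2, h2.1, h2.2⟩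

/-- the `p`-th power map is an endomorphism -/
theorem mul_pow_hom (h : Hyp p L) {σ : MulAut L} (hm : Mov p σ) (g k : L) :
    (g * k) ^ p = g ^ p * k ^ p := by
  have hK := card_commutator_le h hm (facts h) (sfacts h hm)
  obtain ⟨d, hd, hgk⟩ := mul_pow_mod h.hp2 h.hL h.hmc g k
  have hd1 : d ^ p = 1 := by
    have hpp : p.Prime := hp.out
    have hdvd : Nat.card ↥(commutator L) ∣ p := by
      obtain ⟨n, hn⟩ := IsPGroup.iff_card.mp (h.hL.to_subgroup (commutator L))
      rw [hn] at hK ⊢
      have hn1 : n ≤ 1 := by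
        by_contra hlt
        push Not at hlt
        have : p ^ 2 ≤ p ^ n := Nat.pow_le_pow_right hpp.pos hlt
        have h3 : p < p ^ 2 := by
          calc p = p ^ 1 := (pow_one p).symm
            _ < p ^ 2 := Nat.pow_lt_pow_right hpp.one_lt (by norm_num)
        omega
      calc p ^ n ∣ p ^ 1 := pow_dvd_pow p hn1
        _ = p := pow_one p
    have h4 : (⟨d, hd⟩ : ↥(commutator L)) ^ Nat.card ↥(commutator L) = 1 := pow_card_eq_one'
    obtain ⟨t, ht⟩ := hdvd
    have h5 : (⟨d, hd⟩ : ↥(commutator L)) ^ p = 1 := by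
      rw [ht, pow_mul, h4, one_pow]
    have := congrArg Subtype.val h5
    simpa using this
  rw [hgk, hd1, mul_one]

theorem p_eq_three' (h : Hyp p L) {σ : MulAut L} (hm : Mov p σ) :
    p = 3 ∧ ∃ y : L, y ^ p ∈ Zf p σ ∧ y ^ p ≠ 1 ∧ (y⁻¹ * σ y) ^ p = 1 ∧ y⁻¹ * σ y ∉ Zf p σ :=
  p_eq_three h hm (facts h) (sfacts h hm) (mul_pow_hom h hm)

theorem Fx_le_Zf' (h : Hyp p L) {σ : MulAut L} (hm : Mov p σ) : Fx σ ≤ Zf p σ :=
  Fx_le_Zf h hm (facts h) (sfacts h hm) (mul_pow_hom h hm) (p_eq_three' h hm).2

/-- the semidirect product of the statement -/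
abbrev SD (a : MulAut L) : Type u :=
  SemidirectProduct L ↥(Subgroup.zpowers a) (Subgroup.zpowers a).subtype

instance finite_SD (a : MulAut L) : Finite (SD a) :=
  Finite.of_equiv _ (SemidirectProduct.equivProd (φ := (Subgroup.zpowers a).subtype)).symm

/-- the element `s = inr a` -/
noncomputable def sElt (a : MulAut L) : SD a := inr ⟨a, Subgroup.mem_zpowers a⟩

theorem sElt_conj (a : MulAut L) (l : L) : sElt a * inl l * (sElt a)⁻¹ = inl (a l) := by
  unfold sElt
  rw [← map_inv, ← inl_aut]
  rfl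

theorem card_SD (a : MulAut L) (ha : orderOf a = p) {m : ℕ} (hm : Nat.card L = p ^ m) :
    Nat.card (SD a) = p ^ (m + 1) := by
  rw [SemidirectProduct.card, hm, Nat.card_zpowers, ha, pow_succ]

theorem sElt_pow (a : MulAut L) (k : ℕ) :
    (sElt a) ^ k = inr ⟨a ^ k, Subgroup.pow_mem _ (Subgroup.mem_zpowers a) k⟩ := by
  unfold sElt
  rw [← map_pow]
  rfl

theorem inr_mem_zpowers (a : MulAut L) (g : ↥(Subgroup.zpowers a)) :
    (inr g : SD a) ∈ Subgroup.zpowers (sElt a) := by
  obtain ⟨g, hg⟩ := g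
  obtain ⟨k, rfl⟩ := Subgroup.mem_zpowers_iff.mp hg
  refine Subgroup.mem_zpowers_iff.mpr ⟨k, ?_⟩
  unfold sElt
  rw [← map_zpow]
  rfl

/-- `→` direction: the class of the semidirect product. -/
theorem semidirect_class (h : Hyp p L) {a : MulAut L} (ha : orderOf a = p) (hm : Mov p a)
    {m : ℕ} (hcard : Nat.card L = p ^ m) : Group.nilpotencyClass (SD a) = m := by
  have hp1 : 1 < p := hp.out.one_lt
  refine class_eq_of_centralizer (p := p) (card_SD a ha hcard) ((Zf p a).map inl) ?_ ?_
    (sElt a) ?_ ?_ ?_ ?_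
  · rw [Subgroup.card_map_of_injective inl_injective]
    exact (sfacts h hm).card_Zf
  · -- central
    intro z hz
    obtain ⟨z0, hz0, rfl⟩ := Subgroup.mem_map.mp hz
    rw [Subgroup.mem_center_iff]
    intro t
    have hzc : z0 ∈ Subgroup.center L := (sfacts h hm).Zf_le_center hz0
    have hzf : a z0 = z0 := hz0.2
    have hs : sElt a * inl z0 = inl z0 * sElt a := by
      have := sElt_conj a z0
      rw [hzf] at this
      calc sElt a * inl z0 = sElt a * inl z0 * (sElt a)⁻¹ * sElt a := by group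
        _ = inl z0 * sElt a := by rw [this]
    -- t = inl l * inr g, inr g ∈ zpowers s
    rw [← inl_left_mul_inr_right t]
    have h1 : (inl t.left : SD a) * inl z0 = inl z0 * inl t.left := by
      rw [← map_mul, ← map_mul, (Subgroup.mem_center_iff.mp hzc) t.left]
    have h2 : (inr t.right : SD a) * inl z0 = inl z0 * inr t.right := by
      obtain ⟨k, hk⟩ := Subgroup.mem_zpowers_iff.mp (inr_mem_zpowers a t.right)
      rw [← hk]
      exact ((Commute.zpow_left (show Commute (sElt a) (inl z0) from hs) k)).eq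
    calc (inl t.left : SD a) * inr t.right * inl z0 = inl t.left * (inr t.right * inl z0) := by group
      _ = inl t.left * (inl z0 * inr t.right) := by rw [h2]
      _ = (inl t.left * inl z0) * inr t.right := by group
      _ = (inl z0 * inl t.left) * inr t.right := by rw [h1]
      _ = inl z0 * (inl t.left * inr t.right) := by group
  · -- s^p = 1
    rw [sElt_pow]
    have : a ^ p = 1 := by rw [← ha]; exact pow_orderOf_eq_one a
    have h2 : (⟨a ^ p, Subgroup.pow_mem _ (Subgroup.mem_zpowers a) p⟩ : ↥(Subgroup.zpowers a)) = 1 :=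
      Subtype.ext this
    rw [h2, map_one]
  · -- s ≠ 1
    intro h1
    have h2 := congrArg (fun t : SD a => t.right) h1
    have h3 : (⟨a, Subgroup.mem_zpowers a⟩ : ↥(Subgroup.zpowers a)) = 1 := h2
    have h4 : a = 1 := congrArg Subtype.val h3
    rw [h4, orderOf_one] at ha
    omega
  · -- s^k ∈ Z → s^k = 1
    intro k hk
    obtain ⟨z0, _, hz⟩ := Subgroup.mem_map.mp hk
    have h2 := congrArg (fun t : SD a => t.right) hz
    have h3 : (1 : ↥(Subgroup.zpowers a)) = ((sElt a) ^ k).right := h2
    apply SemidirectProduct.ext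
    · rw [sElt_pow]; rfl
    · rw [← h3]; rfl
  · -- centralizer
    intro t ht
    rw [← inl_left_mul_inr_right t]
    refine Subgroup.mul_mem _ (Subgroup.mem_sup_left ?_)
      (Subgroup.mem_sup_right (inr_mem_zpowers a t.right))
    refine Subgroup.mem_map.mpr ⟨t.left, ?_, rfl⟩
    apply Fx_le_Zf' h hm
    rw [mem_Fx]
    -- s t s⁻¹ = t
    have hc : sElt a * t * (sElt a)⁻¹ = t := by rw [← ht]; group
    have hl := congrArg (fun t : SD a => t.left) hc
    have : (sElt a * t * (sElt a)⁻¹).left = a t.left := by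
      simp only [SemidirectProduct.mul_left, SemidirectProduct.inv_left, sElt]
      simp
    rw [← this]
    exact hl

/-- the image of `L` in the semidirect product -/
theorem map_top_inl (a : MulAut L) : (⊤ : Subgroup L).map (inl : L →* SD a) = (inl : L →* SD a).range := by
  rw [← MonoidHom.range_eq_map]

theorem range_inl_normal (a : MulAut L) : ((inl : L →* SD a).range).Normal := by
  rw [range_inl_eq_ker_rightHom]
  infer_instance

theorem card_range_inl (a : MulAut L) : Nat.card ↥((inl : L →* SD a).range) = Nat.card L := by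
  rw [← map_top_inl, Subgroup.card_map_of_injective inl_injective, Subgroup.card_top]

theorem index_range_inl (a : MulAut L) (ha : orderOf a = p) : ((inl : L →* SD a).range).index = p := by
  have h1 := Subgroup.card_mul_index ((inl : L →* SD a).range)
  rw [card_range_inl, SemidirectProduct.card, Nat.card_zpowers, ha] at h1
  have hpos : 0 < Nat.card L := Nat.card_pos
  exact Nat.eq_of_mul_eq_mul_left hpos h1

theorem sElt_not_mem (a : MulAut L) (ha : orderOf a = p) : sElt a ∉ (inl : L →* SD a).range := by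
  intro hmem
  rw [range_inl_eq_ker_rightHom, MonoidHom.mem_ker] at hmem
  unfold sElt at hmem
  rw [rightHom_inr] at hmem
  have h4 : a = 1 := congrArg Subtype.val hmem
  rw [h4, orderOf_one] at ha
  have := hp.out.one_lt
  omega

/-- `←` direction. -/
theorem semidirect_moves (h : Hyp p L) {a : MulAut L} (ha : orderOf a = p)
    {m : ℕ} (hcard : Nat.card L = p ^ m) (hclass : Group.nilpotencyClass (SD a) = m) :
    ∃ x : L, x ^ p = 1 ∧ a x ≠ x := by
  have hSp : IsPGroup p (SD a) := IsPGroup.of_card (card_SD a ha hcard)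
  haveI := range_inl_normal a
  -- E-hat
  have hEn : ((Om p L).map (inl : L →* SD a)).Normal := by
    constructor
    intro e he t
    obtain ⟨e0, he0, rfl⟩ := Subgroup.mem_map.mp he
    rw [mem_Om_iff h.hp2 h.hL h.hmc] at he0
    refine Subgroup.mem_map.mpr ⟨t.left * (((Subgroup.zpowers a).subtype t.right) e0) * t.left⁻¹, ?_, ?_⟩
    · rw [mem_Om_iff h.hp2 h.hL h.hmc]
      have h1 : ((((Subgroup.zpowers a).subtype t.right) e0)) ^ p = 1 := by
        rw [← map_pow, he0, map_one]
      calc (t.left * (((Subgroup.zpowers a).subtype t.right) e0) * t.left⁻¹) ^ p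
          = t.left * ((((Subgroup.zpowers a).subtype t.right) e0)) ^ p * t.left⁻¹ := by
            rw [← MulAut.conj_apply, ← map_pow, MulAut.conj_apply]
        _ = 1 := by rw [h1]; group
    · rw [map_mul, map_mul, inl_aut, map_inv]
      conv_rhs => rw [← inl_left_mul_inr_right t]
      simp only [mul_inv_rev, mul_assoc, map_inv]
  haveI := hEn
  obtain ⟨e, he, hmove⟩ := moves_of_class (p := p) hSp ((inl : L →* SD a).range) (index_range_inl a ha)
    (by rw [card_range_inl]; exact hcard) (four_le h hcard) hclass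
    ((Om p L).map (inl : L →* SD a)) (Subgroup.map_le_range _ _)
    (by rw [Subgroup.card_map_of_injective inl_injective]; exact card_Om h)
    (by
      intro e he
      obtain ⟨e0, he0, rfl⟩ := Subgroup.mem_map.mp he
      rw [mem_Om_iff h.hp2 h.hL h.hmc] at he0
      rw [← map_pow, he0, map_one])
    (by
      rw [← map_top_inl, ← Subgroup.map_commutator]
      haveI := isCyclic_commutator h.hmc
      have hc : IsCyclic ↥(commutator L) := isCyclic_commutator h.hmc
      rw [commutator_def] at hc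
      exact isCyclic_of_surjective (((inl : L →* SD a).subgroupMap ⁅(⊤ : Subgroup L), ⊤⁆))
        (MonoidHom.subgroupMap_surjective _ _))
    (by
      have h1 : (inl : L →* SD a).range ⊓ Subgroup.centralizer ((inl : L →* SD a).range : Set (SD a))
          = (Subgroup.center L).map inl := by
        ext t
        constructor
        · rintro ⟨⟨l, rfl⟩, hc⟩
          refine Subgroup.mem_map.mpr ⟨l, ?_, rfl⟩
          rw [Subgroup.mem_center_iff]
          intro g
          have := hc (inl g) ⟨g, rfl⟩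
          rw [← map_mul, ← map_mul] at this
          exact inl_injective this
        · intro ht
          obtain ⟨l, hl, rfl⟩ := Subgroup.mem_map.mp ht
          refine ⟨⟨l, rfl⟩, ?_⟩
          rintro _ ⟨g, rfl⟩
          rw [← map_mul, ← map_mul, (Subgroup.mem_center_iff.mp hl) g]
      have h2 : ⁅(inl : L →* SD a).range, (inl : L →* SD a).range⁆ = (commutator L).map inl := by
        rw [commutator_def, Subgroup.map_commutator, map_top_inl]
      rw [h1, h2, card_range_inl, Subgroup.card_map_of_injective inl_injective,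
        Subgroup.card_map_of_injective inl_injective]
      have h3 := Cfsg.Agent.S3879.result h.hp2 h.hL h.hmc
      rw [← h3]
      exact (Subgroup.card_mul_index (Subgroup.center L)).symm)
    (sElt a) (sElt_not_mem a ha)
  obtain ⟨e0, he0, rfl⟩ := Subgroup.mem_map.mp he
  rw [mem_Om_iff h.hp2 h.hL h.hmc] at he0
  refine ⟨e0, he0, ?_⟩
  intro hfix
  apply hmove
  rw [sElt_conj, hfix]

end Cfsg.Agent.Lib.H26.MC3
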