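import Mathlib

/-!
# S4245 piece K3 (helper26; architect helper24): `central_of_involution`

The involution of a cyclic group `B` normalized by `A` is central in `A`: a cyclic group has exactly
`φ(2) = 1` element of order `2` (`IsCyclic.card_orderOf_eq_totient`), and `a z a⁻¹ ∈ B` has order `2`.
Mathlib only.
-/

set_option autoImplicit false

namespace Cfsg.Agent.Lib.H26.MI

/-- In a finite cyclic group two elements of order `2` are equal. -/
theorem eq_of_orderOf_eq_two_of_isCyclic {C : Type*} [Group C] [Finite C] [IsCyclic C] (x y : C)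
    (hx : orderOf x = 2) (hy : orderOf y = 2) : x = y := by
  classical
  haveI : Fintype C := Fintype.ofFinite C
  have h2 : 2 ∣ Fintype.card C := by
    have := orderOf_dvd_card (x := x)
    rwa [hx] at this
  have hcard := IsCyclic.card_orderOf_eq_totient (α := C) h2
  rw [Nat.totient_two] at hcard
  have hle : (Finset.univ.filter fun a : C => orderOf a = 2).card ≤ 1 := hcard.le
  rw [Finset.card_le_one] at hle
  exact hle x (by simp [hx]) y (by simp [hy])

/-- K3. The involution of a cyclic group normalized by `A` is central in `A`. -/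
theorem central_of_involution {G : Type*} [Group G] [Finite G] (A B : Subgroup G)
    (hn : A ≤ Subgroup.normalizer (B : Set G)) (hB : IsCyclic B) (z : G) (hz : z ∈ B) (hz2 : orderOf z = 2) :
    ∀ a ∈ A, a * z = z * a := by
  intro a ha
  have hna : a ∈ Subgroup.normalizer (B : Set G) := hn ha
  have hw : a * z * a⁻¹ ∈ B := (Subgroup.mem_normalizer_iff.mp hna z).mp hz
  haveI := hB
  have h1 : orderOf (⟨z, hz⟩ : B) = 2 := by
    rw [← Subgroup.orderOf_coe]; exact hz2
  have h2 : orderOf (⟨a * z * a⁻¹, hw⟩ : B) = 2 := by
    rw [← Subgroup.orderOf_coe]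
    show orderOf (a * z * a⁻¹) = 2
    have hsc : SemiconjBy a z (a * z * a⁻¹) := by
      unfold SemiconjBy; group
    rw [← SemiconjBy.orderOf_eq a hsc]
    exact hz2
  have heq := eq_of_orderOf_eq_two_of_isCyclic (⟨a * z * a⁻¹, hw⟩ : B) ⟨z, hz⟩ h2 h1
  have heq' : a * z * a⁻¹ = z := congrArg Subtype.val heq
  calc a * z = a * z * a⁻¹ * a := by group
    _ = z * a := by rw [heq']

end Cfsg.Agent.Lib.H26.MI
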