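import Mathlib
import Cfsg.Agent.Lib.H16.Metacyclic

set_option autoImplicit false

/-!
A metacyclic `p`-group of the form `(C × C) × H` with `C ≠ 1` has `H = 1` (helper26, for S5287).
-/

namespace Cfsg.Agent.Lib.H26.MetaSup

theorem exists_orderOf_eq_prime {Y : Type*} [Group Y] [Finite Y] {p : ℕ} [hp : Fact p.Prime]
    (hY : IsPGroup p Y) [Nontrivial Y] : ∃ y : Y, orderOf y = p := by
  obtain ⟨n, hn⟩ := hY.exists_card_eq
  have hn0 : n ≠ 0 := by
    rintro rfl
    have h1 : 1 < Nat.card Y := Finite.one_lt_card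
    rw [hn, pow_zero] at h1
    exact lt_irrefl _ h1
  have : p ∣ Nat.card Y := by rw [hn]; exact dvd_pow_self p hn0
  exact exists_prime_orderOf_dvd_card' p this

theorem pow_eq_one_of_mem_zpowers {Y : Type*} [Group Y] {c y : Y} {p : ℕ} (hc : c ^ p = 1)
    (hy : y ∈ Subgroup.zpowers c) : y ^ p = 1 := by
  obtain ⟨k, rfl⟩ := Subgroup.mem_zpowers_iff.1 hy
  rw [← zpow_natCast, ← zpow_mul, mul_comm, zpow_mul, zpow_natCast, hc, one_zpow]

theorem subsingleton_of_metacyclic_prod {C H : Type} [Group C] [Group H] [Finite C] [Finite H]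
    {p : ℕ} [hp : Fact p.Prime] (hC : IsPGroup p C) [Nontrivial C] (hH : IsPGroup p H)
    (hm : Cfsg.IsMetacyclic ((C × C) × H)) : Subsingleton H := by
  by_contra hns
  rw [not_subsingleton_iff_nontrivial] at hns
  obtain ⟨c, hc⟩ := exists_orderOf_eq_prime hC
  obtain ⟨h, hh⟩ := exists_orderOf_eq_prime hH
  have hcp : c ^ p = 1 := by rw [← hc]; exact pow_orderOf_eq_one c
  have hhp : h ^ p = 1 := by rw [← hh]; exact pow_orderOf_eq_one h
  obtain ⟨E, hE⟩ : ∃ E : Subgroup ((C × C) × H),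
    E = ((Subgroup.zpowers c).prod (Subgroup.zpowers c)).prod (Subgroup.zpowers h) := ⟨_, rfl⟩
  have hcard : Nat.card E = p * p * p := by
    rw [hE, Nat.card_congr (Subgroup.prodEquiv _ _).toEquiv, Nat.card_prod,
      Nat.card_congr (Subgroup.prodEquiv _ _).toEquiv, Nat.card_prod, Nat.card_zpowers,
      Nat.card_zpowers, hc, hh]
  have hexp : ∀ q : E, q ^ p = 1 := by
    rintro ⟨q, hq⟩
    rw [hE] at hq
    obtain ⟨⟨h1, h2⟩, h3⟩ := hq
    apply Subtype.ext
    show q ^ p = 1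
    apply Prod.ext
    · apply Prod.ext
      · exact pow_eq_one_of_mem_zpowers hcp h1
      · exact pow_eq_one_of_mem_zpowers hcp h2
    · exact pow_eq_one_of_mem_zpowers hhp h3
  have hle := Cfsg.Agent.Lib.H16.Meta.card_le_sq_of_pow_eq_one
    (Cfsg.Agent.Lib.H16.Meta.isMetacyclic_sub hm E) hp.out.pos hexp
  rw [hcard] at hle
  have h2 := hp.out.two_le
  nlinarith

end Cfsg.Agent.Lib.H26.MetaSup
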