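import Mathlib

set_option autoImplicit false

/-!
Primes with prescribed `2`-parts of `p ± 1` (Dirichlet), for S5287 (helper26).
-/

namespace Cfsg.Agent.Lib.H26.MetaSup

/-- For `j ≥ 3` there is an odd prime `p` with `p (p² - 1) = 2^j m`, `m` odd. -/
theorem exists_prime_quat (j : ℕ) (hj : 3 ≤ j) :
    ∃ p : ℕ, p.Prime ∧ Odd p ∧ ∃ m : ℕ, Odd m ∧ p * (p ^ 2 - 1) = 2 ^ j * m := by
  obtain ⟨i, rfl⟩ : ∃ i, j = i + 3 := ⟨j - 3, by omega⟩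
  have hcop : Nat.Coprime (2 ^ (i + 2) + 1) (2 ^ (i + 3)) := by
    apply Nat.Coprime.pow_right
    rw [Nat.coprime_two_right]
    exact ⟨2 ^ (i + 1), by ring⟩
  obtain ⟨p, hpgt, hpp, hmod⟩ := Nat.forall_exists_prime_gt_and_modEq (2 ^ (i + 2) + 1)
    (q := 2 ^ (i + 3)) (a := 2 ^ (i + 2) + 1) (by positivity) hcop
  have hdvd : 2 ^ (i + 3) ∣ p - (2 ^ (i + 2) + 1) :=
    (Nat.modEq_iff_dvd' hpgt.le).1 hmod.symm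
  obtain ⟨t, ht⟩ := hdvd
  have hp : p = 2 ^ (i + 2) + 1 + 2 ^ (i + 3) * t := by omega
  have hodd : Odd p := by
    rw [hp]
    exact ⟨2 ^ (i + 1) + 2 ^ (i + 2) * t, by ring⟩
  refine ⟨p, hpp, hodd, p * ((1 + 2 * t) * (2 ^ (i + 1) + 1 + 2 ^ (i + 2) * t)) , ?_, ?_⟩
  · apply hodd.mul
    apply Odd.mul
    · exact ⟨t, by ring⟩
    · exact ⟨2 ^ i + 2 ^ (i + 1) * t, by ring⟩
  · have h1 : p ^ 2 - 1 = 2 ^ (i + 3) * ((1 + 2 * t) * (2 ^ (i + 1) + 1 + 2 ^ (i + 2) * t)) := by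
      have : p ^ 2 = 2 ^ (i + 3) * ((1 + 2 * t) * (2 ^ (i + 1) + 1 + 2 ^ (i + 2) * t)) + 1 := by
        rw [hp]; ring
      omega
    rw [h1]; ring

/-- For `m ≥ 2` there is a prime `p ≡ 3 (mod 4)` with `p + 1 = 2^m a`, `a` odd. -/
theorem exists_prime_qd (m : ℕ) (hm : 2 ≤ m) :
    ∃ p : ℕ, p.Prime ∧ p % 4 = 3 ∧ ∃ a : ℕ, Odd a ∧ p + 1 = 2 ^ m * a := by
  obtain ⟨i, rfl⟩ : ∃ i, m = i + 2 := ⟨m - 2, by omega⟩
  have h1le : 1 ≤ 2 ^ (i + 2) := Nat.one_le_two_pow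
  have hcop : Nat.Coprime (2 ^ (i + 2) - 1) (2 ^ (i + 3)) := by
    apply Nat.Coprime.pow_right
    rw [Nat.coprime_two_right]
    refine ⟨2 ^ (i + 1) - 1, ?_⟩
    have : 2 ^ (i + 2) = 2 * 2 ^ (i + 1) := by ring
    have h2 : 1 ≤ 2 ^ (i + 1) := Nat.one_le_two_pow
    omega
  obtain ⟨p, hpgt, hpp, hmod⟩ := Nat.forall_exists_prime_gt_and_modEq (2 ^ (i + 2) - 1)
    (q := 2 ^ (i + 3)) (a := 2 ^ (i + 2) - 1) (by positivity) hcop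
  have hdvd : 2 ^ (i + 3) ∣ p - (2 ^ (i + 2) - 1) :=
    (Nat.modEq_iff_dvd' hpgt.le).1 hmod.symm
  obtain ⟨t, ht⟩ := hdvd
  have hp : p + 1 = 2 ^ (i + 2) + 2 ^ (i + 3) * t := by omega
  refine ⟨p, hpp, ?_, 1 + 2 * t, ⟨t, by ring⟩, ?_⟩
  · have h4 : 2 ^ (i + 2) = 4 * 2 ^ i := by ring
    have h8 : 2 ^ (i + 3) * t = 4 * (2 ^ (i + 1) * t) := by ring
    have hpos : 1 ≤ 2 ^ i := Nat.one_le_two_pow
    omega
  · rw [hp]; ring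

end Cfsg.Agent.Lib.H26.MetaSup
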