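import Mathlib
import Cfsg.Prelude.Def_FusionSystem
import Cfsg.Agent.Lib.H25.RealizedNormal
import Cfsg.Agent.Lib.H25.Normal
import Cfsg.Agent.Lib.H6.GL2S

set_option autoImplicit false

/-!
Pulling back the fusion system of a group along an injective homomorphism `ι : S →* G`, and a
criterion for `S` not to be normal in a system realized in this way (helper26, for S5287).
-/

namespace Cfsg.Agent.Lib.H26.MetaSup

open Cfsg Cfsg.FusionSystem Cfsg.Agent.Lib.H25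

variable {Ω : Type*} [Group Ω] {S : Subgroup Ω} {G : Type*} [Group G]

theorem ι_congr (ι : S →* G) {a b : Ω} (ha : a ∈ S) (hb : b ∈ S) (h : a = b) :
    ι ⟨a, ha⟩ = ι ⟨b, hb⟩ := by
  subst h
  rfl

/-- The fusion system over `S` induced by conjugation in `G`, read through `ι`. -/
def pullSystem (ι : S →* G) (hinj : Function.Injective ι) : FusionSystem S where
  Hom P := {φ | ∃ (hP : P ≤ S) (hφ : ∀ x : P, φ x ∈ S), ∃ g : G, ∀ x : P,
    ι ⟨φ x, hφ x⟩ = g * ι ⟨x, hP x.2⟩ * g⁻¹}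
  le_of_mem := by
    rintro P φ ⟨hP, hφ, -⟩
    exact ⟨hP, hφ⟩
  injective_of_mem := by
    rintro P φ ⟨hP, hφ, g, hg⟩ a b hab
    have h1 : ι ⟨φ a, hφ a⟩ = ι ⟨φ b, hφ b⟩ := by
      congr 1
      exact Subtype.ext hab
    rw [hg, hg] at h1
    have h2 := hinj (mul_left_cancel (mul_right_cancel h1))
    exact Subtype.ext (congrArg (fun s : S => (s : Ω)) h2)
  conj_mem := by
    intro P g hP hg
    have hmem : ∀ x : P, conjHom P g x ∈ S := fun x =>
      S.mul_mem (S.mul_mem hg (hP x.2)) (S.inv_mem hg)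
    refine ⟨hP, hmem, ι ⟨g, hg⟩, fun x => ?_⟩
    rw [← map_inv, ← map_mul, ← map_mul]
    rfl
  comp_mem := by
    rintro P Q φ ψ ⟨hP, hφ, g, hg⟩ ⟨hQ, hψ, k, hk⟩ h
    refine ⟨hP, fun x => hψ _, k * g, fun x => ?_⟩
    have h1 := hk (φ.codRestrict Q h x)
    have h2 := hg x
    show ι ⟨ψ (φ.codRestrict Q h x), _⟩ = _
    rw [h1]
    have h3 : (⟨((φ.codRestrict Q h x : Q) : Ω), hQ (φ.codRestrict Q h x).2⟩ : S) =
        ⟨φ x, hφ x⟩ := rfl
    rw [h3, h2, mul_inv_rev]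
    group
  inv_mem := by
    rintro P φ ⟨hP, hφ, g, hg⟩
    have hφinj : Function.Injective φ := by
      intro a b hab
      have h1 : ι ⟨φ a, hφ a⟩ = ι ⟨φ b, hφ b⟩ := by
        congr 1
        exact Subtype.ext hab
      rw [hg, hg] at h1
      have h2 := hinj (mul_left_cancel (mul_right_cancel h1))
      exact Subtype.ext (congrArg (fun s : S => (s : Ω)) h2)
    let e : P ≃* φ.range := MonoidHom.ofInjective hφinj
    refine ⟨P.subtype.comp e.symm.toMonoidHom, ⟨?_, ?_, g⁻¹, ?_⟩, ?_⟩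
    · rintro _ ⟨x, rfl⟩
      exact hφ x
    · intro y
      exact hP (e.symm y).2
    · intro y
      obtain ⟨x, hx⟩ : ∃ x : P, e x = y := e.surjective y
      subst hx
      have h1 : (P.subtype.comp e.symm.toMonoidHom) (e x) = (x : Ω) := by
        show ((e.symm (e x) : P) : Ω) = x
        rw [MulEquiv.symm_apply_apply]
      have h2 : ι ⟨(P.subtype.comp e.symm.toMonoidHom) (e x), hP (e.symm (e x)).2⟩ =
          ι ⟨x, hP x.2⟩ := ι_congr ι _ _ h1
      have h3 : ι ⟨((e x : φ.range) : Ω), hφ x⟩ = g * ι ⟨x, hP x.2⟩ * g⁻¹ := hg x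
      have h4 : ι ⟨x, hP x.2⟩ = g⁻¹ * ι ⟨((e x : φ.range) : Ω), hφ x⟩ * g⁻¹⁻¹ := by
        rw [h3]; group
      exact h2.trans h4
    · intro x
      show ((e.symm ⟨φ x, ⟨x, rfl⟩⟩ : P) : Ω) = x
      have : (⟨φ x, ⟨x, rfl⟩⟩ : φ.range) = e x := rfl
      rw [this, MulEquiv.symm_apply_apply]

theorem pullSystem_isRealizedBy (ι : S →* G) (hinj : Function.Injective ι) :
    (pullSystem ι hinj).IsRealizedBy ι := by
  refine ⟨hinj, fun P hP φ hφ => ⟨?_, ?_⟩⟩
  · rintro ⟨_, _, g, hg⟩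
    exact ⟨g, hg⟩
  · rintro ⟨g, hg⟩
    exact ⟨hP, hφ, g, hg⟩

theorem pullSystem_isSaturated [Finite G] {p : ℕ} [Fact p.Prime] (ι : S →* G)
    (hinj : Function.Injective ι) (T : Sylow p G) (hT : (T : Subgroup G) = ι.range) :
    (pullSystem ι hinj).IsSaturated p :=
  isSaturated_of_isRealizedBy (pullSystem_isRealizedBy ι hinj) T hT

section NonNormal

theorem conj_iterate (h y : G) (k : ℕ) :
    (fun z => h * z * h⁻¹)^[k] y = h ^ k * y * (h ^ k)⁻¹ := by
  induction k generalizing y with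
  | zero => simp
  | succ k ih =>
    rw [Function.iterate_succ_apply', ih, pow_succ']
    group

/-- The core of the criterion: a `2`-subgroup of the image of `S` with an element of order
dividing three acting nontrivially on it. -/
theorem not_isNormal_core {F : FusionSystem S} {ι : S →* G} (hreal : F.IsRealizedBy ι)
    (hA : IsPGroup 2 (MulAut ↥S)) (Q : Subgroup G) (hQ : Q ≤ ι.range) (h x : G)
    (hh : ∀ y ∈ Q, h * y * h⁻¹ ∈ Q) (h3 : h ^ 3 = 1) (hx : x ∈ Q) (hne : h * x * h⁻¹ ≠ x) :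
    ¬ F.IsNormal S := by
  intro hN
  have hinj := hreal.1
  obtain ⟨K, hK⟩ : ∃ K : Subgroup S, K = Q.comap ι := ⟨_, rfl⟩
  obtain ⟨R, hR⟩ : ∃ R : Subgroup Ω, R = K.map S.subtype := ⟨_, rfl⟩
  have hRS : R ≤ S := by
    rw [hR]; exact Subgroup.map_subtype_le K
  have hRmem : ∀ r : R, ι ⟨r, hRS r.2⟩ ∈ Q := by
    rintro ⟨r, hr⟩
    rw [hR] at hr
    obtain ⟨k, hk, rfl⟩ := hr
    rw [hK] at hk
    exact hk
  have hpre : ∀ r : R, ∃ s : S, ι s = h * ι ⟨r, hRS r.2⟩ * h⁻¹ := fun r =>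
    hQ (hh _ (hRmem r))
  choose σ hσ using hpre
  have hσ1 : σ 1 = 1 := by
    apply hinj
    rw [hσ, map_one]
    have : (⟨((1 : R) : Ω), hRS (1 : R).2⟩ : S) = 1 := rfl
    rw [this, map_one]
    group
  have hσmul : ∀ a b : R, σ (a * b) = σ a * σ b := by
    intro a b
    apply hinj
    rw [hσ, map_mul, hσ, hσ]
    have : (⟨((a * b : R) : Ω), hRS (a * b).2⟩ : S) = ⟨a, hRS a.2⟩ * ⟨b, hRS b.2⟩ := rfl
    rw [this, map_mul]
    group
  let φ : R →* Ω :=
    { toFun := fun r => (σ r : Ω)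
      map_one' := by rw [hσ1]; rfl
      map_mul' := by
        intro a b
        rw [hσmul]; rfl }
  have hφmem : φ ∈ F.Hom R :=
    (hreal.2 R hRS φ (fun r => (σ r).2)).2 ⟨h, fun r => hσ r⟩
  have hiso := isIso_of_mem F hφmem
  obtain ⟨f, -, hfφ, hfS⟩ := isNormal_exists_ext hN hiso
  obtain ⟨α, hα, hαf⟩ := exists_mem_autGroup_of_isIso F hfS
  obtain ⟨m, hm⟩ := hA α
  have key : ∀ s : S, ι s ∈ Q → ι (α s) = h * ι s * h⁻¹ := by
    intro s hs
    have hsR : (s : Ω) ∈ R := by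
      rw [hR]
      refine ⟨s, ?_, rfl⟩
      rw [hK]
      exact hs
    have h1 : ((α s : S) : Ω) = f s := hαf s
    have h2 : f s = ext1 φ s := hfφ s hsR
    have h3' : ext1 φ (s : Ω) = φ ⟨s, hsR⟩ := ext1_apply_mem φ hsR
    have h4 : α s = σ ⟨s, hsR⟩ := Subtype.ext (h1.trans (h2.trans h3'))
    rw [h4, hσ]
  have key2 : ∀ k : ℕ, ∀ s : S, ι s ∈ Q →
      ι ((α ^ k) s) = (fun z => h * z * h⁻¹)^[k] (ι s) ∧ ι ((α ^ k) s) ∈ Q := by
    intro k
    induction k with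
    | zero =>
      intro s hs
      exact ⟨rfl, hs⟩
    | succ k ih =>
      intro s hs
      obtain ⟨h1, h2⟩ := ih s hs
      have h5 : (α ^ (k + 1)) s = α ((α ^ k) s) := by
        rw [pow_succ', MulAut.mul_apply]
      rw [h5, key _ h2, Function.iterate_succ_apply', h1]
      refine ⟨rfl, ?_⟩
      rw [← h1]
      exact hh _ h2
  obtain ⟨s₀, hs₀⟩ := hQ hx
  have hs₀Q : ι s₀ ∈ Q := by rw [hs₀]; exact hx
  have p1 : Function.IsPeriodicPt (fun z => h * z * h⁻¹) (2 ^ m) x := by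
    have := (key2 (2 ^ m) s₀ hs₀Q).1
    rw [hm, MulAut.one_apply, hs₀] at this
    exact this.symm
  have p2 : Function.IsPeriodicPt (fun z => h * z * h⁻¹) 3 x := by
    show (fun z => h * z * h⁻¹)^[3] x = x
    rw [conj_iterate, h3]
    group
  have p3 := p1.gcd p2
  have hg : Nat.gcd (2 ^ m) 3 = 1 := Nat.Coprime.pow_left m (by norm_num)
  rw [hg] at p3
  exact hne p3

/-- The criterion: the realized system on a Sylow `2`-subgroup is not `S`-normal when some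
`2`-subgroup of `G` carries a nontrivial action of an element of order three and `Aut(S)` is a
`2`-group. -/
theorem not_isNormal_of_oddAct [Finite G] {F : FusionSystem S} {ι : S →* G}
    (hreal : F.IsRealizedBy ι) (T : Sylow 2 G) (hT : (T : Subgroup G) = ι.range)
    (hA : IsPGroup 2 (MulAut ↥S)) (Q : Subgroup G) (hQ : IsPGroup 2 Q) (h x : G)
    (hh : ∀ y ∈ Q, h * y * h⁻¹ ∈ Q) (h3 : h ^ 3 = 1) (hx : x ∈ Q) (hne : h * x * h⁻¹ ≠ x) :
    ¬ F.IsNormal S := by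
  haveI : Fact (Nat.Prime 2) := ⟨Nat.prime_two⟩
  obtain ⟨g, hg⟩ := Cfsg.Agent.Lib.H6.GL2S.exists_conj_mem_sylow T Q hQ
  apply not_isNormal_core hreal hA (Q.map (MulAut.conj g).toMonoidHom) ?_ (g * h * g⁻¹)
    (g * x * g⁻¹) ?_ ?_ ⟨x, hx, rfl⟩ ?_
  · rintro _ ⟨y, hy, rfl⟩
    rw [← hT]
    exact hg y hy
  · rintro _ ⟨y, hy, rfl⟩
    refine ⟨h * y * h⁻¹, hh y hy, ?_⟩
    simp only [MulEquiv.coe_toMonoidHom, MulAut.conj_apply]
    group
  · rw [conj_pow, h3]
    group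
  · intro hcon
    apply hne
    have h1 : g * h * g⁻¹ * (g * x * g⁻¹) * (g * h * g⁻¹)⁻¹ = g * (h * x * h⁻¹) * g⁻¹ := by group
    rw [h1] at hcon
    exact mul_left_cancel (mul_right_cancel hcon)

end NonNormal

end Cfsg.Agent.Lib.H26.MetaSup
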