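import Mathlib
import Cfsg.Agent.Lib.H6.QD

set_option autoImplicit false

/-!
Two quasi-dihedral groups of the same order are isomorphic (on top of helper6's normal form);
helper26, for S5287.
-/

namespace Cfsg.Agent.Lib.H26.MetaSup

open Cfsg.Agent.Lib.H6.QD

variable {n : ℕ}

/-- the coordinate map -/
def qdCoord {S : Type*} [Group S] (P : Pres S n) : ZMod (2 ^ n) × Bool → S
  | (i, false) => P.R i
  | (i, true) => P.SR i

/-- the multiplication in coordinates -/
def qdMul (n : ℕ) : ZMod (2 ^ n) × Bool → ZMod (2 ^ n) × Bool → ZMod (2 ^ n) × Bool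
  | (i, false), (j, false) => (i + j, false)
  | (i, false), (j, true) => (i + j, true)
  | (i, true), (j, false) => (i + mm n * j, true)
  | (i, true), (j, true) => (i + mm n * j, false)

theorem qdCoord_mul {S : Type*} [Group S] (P : Pres S n) (a b : ZMod (2 ^ n) × Bool) :
    qdCoord P a * qdCoord P b = qdCoord P (qdMul n a b) := by
  obtain ⟨i, s⟩ := a
  obtain ⟨j, t⟩ := b
  cases s <;> cases t
  · exact P.R_mul_R i j
  · exact P.R_mul_SR i j
  · exact P.SR_mul_R i j
  · exact P.SR_mul_SR i j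

theorem qdCoord_bijective {S : Type*} [Group S] [Finite S] (P : Pres S n) :
    Function.Bijective (qdCoord P) := by
  constructor
  · rintro ⟨i, s⟩ ⟨j, t⟩ h
    cases s <;> cases t
    · rw [P.R_injective h]
    · exact absurd h.symm (P.SR_ne_R j i)
    · exact absurd h (P.SR_ne_R i j)
    · rw [P.SR_injective h]
  · intro s
    rcases P.cases s with ⟨i, rfl⟩ | ⟨i, rfl⟩
    · exact ⟨(i, false), rfl⟩
    · exact ⟨(i, true), rfl⟩

/-- quasi-dihedral groups with the same parameter are isomorphic -/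
theorem nonempty_mulEquiv_of_pres {S₁ S₂ : Type*} [Group S₁] [Group S₂] [Finite S₁] [Finite S₂]
    (P₁ : Pres S₁ n) (P₂ : Pres S₂ n) : Nonempty (S₁ ≃* S₂) := by
  let e₁ := Equiv.ofBijective _ (qdCoord_bijective P₁)
  let e₂ := Equiv.ofBijective _ (qdCoord_bijective P₂)
  refine ⟨{ e₁.symm.trans e₂ with map_mul' := ?_ }⟩
  intro s t
  obtain ⟨a, rfl⟩ := e₁.surjective s
  obtain ⟨b, rfl⟩ := e₁.surjective t
  have h1 : e₁ a * e₁ b = e₁ (qdMul n a b) := qdCoord_mul P₁ a b
  show e₂ (e₁.symm (e₁ a * e₁ b)) = e₂ (e₁.symm (e₁ a)) * e₂ (e₁.symm (e₁ b))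
  rw [h1, Equiv.symm_apply_apply, Equiv.symm_apply_apply, Equiv.symm_apply_apply]
  exact (qdCoord_mul P₂ a b).symm

/-- quasi-dihedral groups of the same order are isomorphic -/
theorem nonempty_mulEquiv_of_qd {S₁ S₂ : Type*} [Group S₁] [Group S₂] [Finite S₁] [Finite S₂]
    (h₁ : Cfsg.IsQuasiDihedral S₁) (h₂ : Cfsg.IsQuasiDihedral S₂)
    (hc : Nat.card S₁ = Nat.card S₂) : Nonempty (S₁ ≃* S₂) := by
  obtain ⟨n₁, ⟨P₁⟩⟩ := exists_pres h₁
  obtain ⟨n₂, ⟨P₂⟩⟩ := exists_pres h₂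
  have h : n₁ = n₂ := by
    have h1 := P₁.card
    have h2 := P₂.card
    rw [hc, h2] at h1
    have := Nat.pow_right_injective (le_refl 2) h1
    omega
  subst h
  exact nonempty_mulEquiv_of_pres P₁ P₂

end Cfsg.Agent.Lib.H26.MetaSup
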