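import Mathlib

set_option autoImplicit false

/-!
Embedding a quotient of a Sylow subgroup into the quotient of the group by a normal subgroup
(helper26, for S5287).
-/

namespace Cfsg.Agent.Lib.H26.MetaSup

variable {G : Type*} [Group G]

theorem exists_quot_embedding {T D : Type*} [Group T] [Group D] [Finite G] {p : ℕ}
    [Fact p.Prime] (ι : T →* G) (P : Sylow p G) (hP : (P : Subgroup G) = ι.range)
    (N : Subgroup G) [N.Normal] (κ : T →* D) (hκ : Function.Surjective κ)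
    (hker : ∀ t : T, κ t = 1 ↔ ι t ∈ N) :
    ∃ δ : D →* G ⧸ N, Function.Injective δ ∧
      (∃ P' : Sylow p (G ⧸ N), (P' : Subgroup (G ⧸ N)) = δ.range) ∧
      ∀ t : T, δ (κ t) = QuotientGroup.mk' N (ι t) := by
  let g : T →* G ⧸ N := (QuotientGroup.mk' N).comp ι
  have hle : κ.ker ≤ g.ker := by
    intro t ht
    rw [MonoidHom.mem_ker] at ht ⊢
    show QuotientGroup.mk' N (ι t) = 1
    rw [QuotientGroup.mk'_apply, QuotientGroup.eq_one_iff]
    exact (hker t).1 ht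
  let δ := κ.liftOfSurjective hκ ⟨g, hle⟩
  have hδ : ∀ t, δ (κ t) = g t := fun t => κ.liftOfRightInverse_comp_apply _ _ ⟨g, hle⟩ t
  refine ⟨δ, ?_, ?_, hδ⟩
  · rw [injective_iff_map_eq_one]
    intro d hd
    obtain ⟨t, rfl⟩ := hκ d
    rw [hδ] at hd
    rw [hker]
    exact (QuotientGroup.eq_one_iff _).1 hd
  · refine ⟨P.mapSurjective (QuotientGroup.mk'_surjective N), ?_⟩
    rw [Sylow.coe_mapSurjective, hP]
    ext y
    constructor
    · rintro ⟨_, ⟨t, rfl⟩, rfl⟩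
      exact ⟨κ t, hδ t⟩
    · rintro ⟨d, rfl⟩
      obtain ⟨t, rfl⟩ := hκ d
      exact ⟨ι t, ⟨t, rfl⟩, (hδ t).symm⟩

end Cfsg.Agent.Lib.H26.MetaSup
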