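import Mathlib

set_option autoImplicit false

/-!
The quaternion group `⟨I, J⟩` in `SL₂(F)` (`2 ≠ 0`, `c² + d² = -1`) and the Hurwitz element of
order three normalizing it (helper26, for S5287).
-/

namespace Cfsg.Agent.Lib.H26.MetaSup

open Matrix

/-- A `2`-subgroup `Q` with an element `h` of order dividing three normalizing it and moving
`x ∈ Q` by more than `N`. -/
def OddAct (G : Type*) [Group G] (N : Subgroup G) : Prop :=
  ∃ (Q : Subgroup G) (h x : G), IsPGroup 2 Q ∧ (∀ y ∈ Q, h * y * h⁻¹ ∈ Q) ∧ h ^ 3 = 1 ∧ x ∈ Q ∧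
    h * x * h⁻¹ * x⁻¹ ∉ N

theorem OddAct.map {G G' : Type*} [Group G] [Group G'] (f : G →* G') {N : Subgroup G}
    (hN : ∀ g : G, f g = 1 → g ∈ N) (h : OddAct G N) : OddAct G' ⊥ := by
  obtain ⟨Q, h, x, hQ, hh, h3, hx, hne⟩ := h
  refine ⟨Q.map f, f h, f x, hQ.map f, ?_, ?_, ⟨x, hx, rfl⟩, ?_⟩
  · rintro _ ⟨y, hy, rfl⟩
    exact ⟨h * y * h⁻¹, hh y hy, by simp⟩
  · rw [← map_pow, h3, map_one]
  · rw [Subgroup.mem_bot]
    intro hcon
    apply hne
    apply hN
    rw [map_mul, map_mul, map_mul, map_inv, map_inv]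
    exact hcon

section SLTwo

variable {F : Type*} [Field F]

local notation "SL2" => SpecialLinearGroup (Fin 2) F

theorem sl2_mul_val (g h : SL2) (i j : Fin 2) :
    ((g * h : SL2) : Matrix (Fin 2) (Fin 2) F) i j =
      (g : Matrix (Fin 2) (Fin 2) F) i 0 * (h : Matrix (Fin 2) (Fin 2) F) 0 j +
      (g : Matrix (Fin 2) (Fin 2) F) i 1 * (h : Matrix (Fin 2) (Fin 2) F) 1 j := by
  simp [Matrix.mul_apply, Fin.sum_univ_two]

theorem sl2_ext {g h : SL2}
    (h00 : (g : Matrix (Fin 2) (Fin 2) F) 0 0 = (h : Matrix (Fin 2) (Fin 2) F) 0 0)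
    (h01 : (g : Matrix (Fin 2) (Fin 2) F) 0 1 = (h : Matrix (Fin 2) (Fin 2) F) 0 1)
    (h10 : (g : Matrix (Fin 2) (Fin 2) F) 1 0 = (h : Matrix (Fin 2) (Fin 2) F) 1 0)
    (h11 : (g : Matrix (Fin 2) (Fin 2) F) 1 1 = (h : Matrix (Fin 2) (Fin 2) F) 1 1) : g = h := by
  apply Subtype.ext
  ext i j
  fin_cases i <;> fin_cases j <;> assumption

/-- the element `i` -/
def qI : SL2 := ⟨!![0, -1; 1, 0], by simp [Matrix.det_fin_two_of]⟩

/-- the element `j` -/
def qJ (c d : F) (hcd : c ^ 2 + d ^ 2 = -1) : SL2 :=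
  ⟨!![c, d; d, -c], by rw [Matrix.det_fin_two_of]; linear_combination -hcd⟩

/-- the element `k = i j` -/
def qK (c d : F) (hcd : c ^ 2 + d ^ 2 = -1) : SL2 :=
  ⟨!![-d, c; c, d], by rw [Matrix.det_fin_two_of]; linear_combination -hcd⟩

/-- the Hurwitz element `(-1 + i + j + k) / 2` -/
def qW (c d : F) (hcd : c ^ 2 + d ^ 2 = -1) (h2 : (2 : F) ≠ 0) : SL2 :=
  ⟨!![2⁻¹ * (-1 + c - d), 2⁻¹ * (-1 + c + d); 2⁻¹ * (1 + c + d), 2⁻¹ * (-1 - c + d)], by
    rw [Matrix.det_fin_two_of]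
    field_simp
    linear_combination -2 * hcd⟩

variable (c d : F) (hcd : c ^ 2 + d ^ 2 = -1) (h2 : (2 : F) ≠ 0)

theorem qI_val : ((qI : SL2) : Matrix (Fin 2) (Fin 2) F) = !![0, -1; 1, 0] := rfl
theorem qJ_val : ((qJ c d hcd : SL2) : Matrix (Fin 2) (Fin 2) F) = !![c, d; d, -c] := rfl
theorem qK_val : ((qK c d hcd : SL2) : Matrix (Fin 2) (Fin 2) F) = !![-d, c; c, d] := rfl
theorem qW_val : ((qW c d hcd h2 : SL2) : Matrix (Fin 2) (Fin 2) F) =
    !![2⁻¹ * (-1 + c - d), 2⁻¹ * (-1 + c + d); 2⁻¹ * (1 + c + d), 2⁻¹ * (-1 - c + d)] := rfl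

theorem qI_mul_qJ : (qI : SL2) * qJ c d hcd = qK c d hcd := by
  apply sl2_ext <;> simp [sl2_mul_val, qI_val, qJ_val, qK_val]

theorem qW_mul_qI : qW c d hcd h2 * qI = qK c d hcd * qW c d hcd h2 := by
  apply sl2_ext <;> simp [sl2_mul_val, qI_val, qK_val, qW_val] <;> field_simp <;>
    first | ring1 | linear_combination (-2 : F) * hcd | linear_combination (2 : F) * hcd |
      linear_combination hcd | linear_combination -hcd

theorem qW_mul_qJ : qW c d hcd h2 * qJ c d hcd = qI * qW c d hcd h2 := by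
  apply sl2_ext <;> simp [sl2_mul_val, qI_val, qJ_val, qW_val] <;> field_simp <;>
    first | ring1 | linear_combination (-2 : F) * hcd | linear_combination (2 : F) * hcd |
      linear_combination hcd | linear_combination -hcd

/-- the inverse of the Hurwitz element -/
def qW2 (c d : F) (hcd : c ^ 2 + d ^ 2 = -1) (h2 : (2 : F) ≠ 0) : SL2 :=
  ⟨!![2⁻¹ * (-1 - c + d), 2⁻¹ * (1 - c - d); 2⁻¹ * (-1 - c - d), 2⁻¹ * (-1 + c - d)], by
    rw [Matrix.det_fin_two_of]
    field_simp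
    linear_combination -2 * hcd⟩

theorem qW2_val : ((qW2 c d hcd h2 : SL2) : Matrix (Fin 2) (Fin 2) F) =
    !![2⁻¹ * (-1 - c + d), 2⁻¹ * (1 - c - d); 2⁻¹ * (-1 - c - d), 2⁻¹ * (-1 + c - d)] := rfl

theorem qW_mul_qW : qW c d hcd h2 * qW c d hcd h2 = qW2 c d hcd h2 := by
  apply sl2_ext <;> simp [sl2_mul_val, qW_val, qW2_val] <;> field_simp <;>
    first | ring1 | linear_combination (-2 : F) * hcd | linear_combination (2 : F) * hcd |
      linear_combination hcd | linear_combination -hcd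

theorem qW2_mul_qW : qW2 c d hcd h2 * qW c d hcd h2 = 1 := by
  apply sl2_ext <;> simp [sl2_mul_val, qW_val, qW2_val] <;> field_simp <;>
    first | ring1 | linear_combination (-2 : F) * hcd | linear_combination (2 : F) * hcd |
      linear_combination hcd | linear_combination -hcd | linear_combination (-4 : F) * hcd |
      linear_combination (4 : F) * hcd

theorem qW_pow_three : qW c d hcd h2 ^ 3 = 1 := by
  rw [pow_succ, pow_two, qW_mul_qW, qW2_mul_qW]

/-- the inverse of `i` -/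
def qIinv : SL2 := ⟨!![0, 1; -1, 0], by simp [Matrix.det_fin_two_of]⟩

theorem qIinv_val : ((qIinv : SL2) : Matrix (Fin 2) (Fin 2) F) = !![0, 1; -1, 0] := rfl

theorem qI_inv : (qI : SL2)⁻¹ = qIinv := by
  apply inv_eq_of_mul_eq_one_right
  apply sl2_ext <;> simp [sl2_mul_val, qI_val, qIinv_val]

theorem qI_pow_four : (qI : SL2) ^ 4 = 1 := by
  have h : (qI : SL2) * qI * (qI * qI) = 1 := by
    apply sl2_ext <;> simp [sl2_mul_val, qI_val]
  rw [show (4 : ℕ) = 2 + 2 from rfl, pow_add, pow_two]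
  exact h

theorem qJ_pow_four : qJ c d hcd ^ 4 = 1 := by
  have h : qJ c d hcd * qJ c d hcd * (qJ c d hcd * qJ c d hcd) = 1 := by
    apply sl2_ext <;> simp [sl2_mul_val, qJ_val] <;>
      first | ring1 | linear_combination (c ^ 2 + d ^ 2 - 1) * hcd
  rw [show (4 : ℕ) = 2 + 2 from rfl, pow_add, pow_two]
  exact h

theorem qJ_conj_qI : qJ c d hcd * qI * (qJ c d hcd)⁻¹ = (qI : SL2)⁻¹ := by
  rw [mul_inv_eq_iff_eq_mul, qI_inv]
  apply sl2_ext <;> simp [sl2_mul_val, qI_val, qJ_val, qIinv_val]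

theorem qK_qI_ne (h2 : (2 : F) ≠ 0) : qK c d hcd * qI ≠ qI * qK c d hcd := by
  intro h
  have h00 := congrArg (fun x : SL2 => x.1 0 0) h
  have h01 := congrArg (fun x : SL2 => x.1 0 1) h
  simp only [sl2_mul_val, qI_val, qK_val] at h00 h01
  simp at h00 h01
  have hc : c = 0 := by
    have : (2 : F) * c = 0 := by linear_combination h00
    exact (mul_eq_zero.1 this).resolve_left h2
  have hd : d = 0 := by
    have : (2 : F) * d = 0 := by linear_combination h01
    exact (mul_eq_zero.1 this).resolve_left h2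
  rw [hc, hd] at hcd
  have : (0 : F) = -1 := by linear_combination hcd
  have h1 : (1 : F) = 0 := by linear_combination this
  exact one_ne_zero h1

end SLTwo

section General

variable {G : Type*} [Group G]

theorem isPGroup_zpowers_of_pow {g : G} {p k : ℕ} (h : g ^ p ^ k = 1) :
    IsPGroup p (Subgroup.zpowers g) := by
  rintro ⟨y, hy⟩
  obtain ⟨n, rfl⟩ := Subgroup.mem_zpowers_iff.1 hy
  refine ⟨k, Subtype.ext ?_⟩
  show (g ^ n) ^ p ^ k = 1
  rw [← zpow_natCast, ← _root_.zpow_mul, mul_comm, _root_.zpow_mul, zpow_natCast, h, _root_.one_zpow]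

theorem mem_normalizer_zpowers_of_conj_eq_inv {g a : G} (h : g * a * g⁻¹ = a⁻¹) :
    g ∈ Subgroup.normalizer ((Subgroup.zpowers a : Subgroup G) : Set G) := by
  have h' : g⁻¹ * a * g = a⁻¹ := by
    have : a = g⁻¹ * a⁻¹ * g := by rw [← h]; group
    calc g⁻¹ * a * g = (g⁻¹ * a⁻¹ * g)⁻¹ := by group
      _ = a⁻¹ := by rw [← this]
  rw [Subgroup.mem_normalizer_iff]
  intro y
  constructor
  · intro hy
    obtain ⟨n, rfl⟩ := Subgroup.mem_zpowers_iff.1 hy
    have : g * a ^ n * g⁻¹ = (a⁻¹) ^ n := by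
      rw [← h, conj_zpow]
    rw [this]
    exact Subgroup.zpow_mem _ (Subgroup.inv_mem _ (Subgroup.mem_zpowers a)) n
  · intro hy
    obtain ⟨n, hn⟩ := Subgroup.mem_zpowers_iff.1 hy
    have : y = g⁻¹ * a ^ n * g := by rw [hn]; group
    have h2 : g⁻¹ * a ^ n * g = (a⁻¹) ^ n := by
      have := conj_zpow (a := g⁻¹) (b := a) (i := n)
      rw [inv_inv] at this
      rw [← this, h']
    rw [this, h2]
    exact Subgroup.zpow_mem _ (Subgroup.inv_mem _ (Subgroup.mem_zpowers a)) n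

theorem OddAct.mono {N M : Subgroup G} (hMN : M ≤ N) (h : OddAct G N) : OddAct G M := by
  obtain ⟨Q, h, x, hQ, hh, h3, hx, hne⟩ := h
  exact ⟨Q, h, x, hQ, hh, h3, hx, fun hc => hne (hMN hc)⟩

end General

section Main

variable {F : Type*} [Field F]

local notation "SL2" => SpecialLinearGroup (Fin 2) F

/-- the quaternion group in `SL₂(F)` carries an action of order three, nontrivial modulo the
centre. -/
theorem oddAct_SL2 (c d : F) (hcd : c ^ 2 + d ^ 2 = -1) (h2 : (2 : F) ≠ 0) :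
    OddAct SL2 (Subgroup.center SL2) := by
  obtain ⟨Q, hQdef⟩ : ∃ Q : Subgroup SL2,
    Q = Subgroup.zpowers (qI : SL2) ⊔ Subgroup.zpowers (qJ c d hcd) := ⟨_, rfl⟩
  have hIQ : (qI : SL2) ∈ Q := by
    rw [hQdef]; exact Subgroup.mem_sup_left (Subgroup.mem_zpowers _)
  have hJQ : qJ c d hcd ∈ Q := by
    rw [hQdef]; exact Subgroup.mem_sup_right (Subgroup.mem_zpowers _)
  have hKQ : qK c d hcd ∈ Q := by
    rw [← qI_mul_qJ]; exact Q.mul_mem hIQ hJQ
  have hWI : qW c d hcd h2 * qI * (qW c d hcd h2)⁻¹ = qK c d hcd := by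
    rw [mul_inv_eq_iff_eq_mul]; exact qW_mul_qI c d hcd h2
  have hWJ : qW c d hcd h2 * qJ c d hcd * (qW c d hcd h2)⁻¹ = qI := by
    rw [mul_inv_eq_iff_eq_mul]; exact qW_mul_qJ c d hcd h2
  refine ⟨Q, qW c d hcd h2, qI, ?_, ?_, qW_pow_three c d hcd h2, hIQ, ?_⟩
  · rw [hQdef]
    apply IsPGroup.to_sup_of_normal_left'
    · exact isPGroup_zpowers_of_pow (k := 2) (qI_pow_four)
    · exact isPGroup_zpowers_of_pow (k := 2) (qJ_pow_four c d hcd)
    · rw [Subgroup.zpowers_le]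
      exact mem_normalizer_zpowers_of_conj_eq_inv (qJ_conj_qI c d hcd)
  · have hle : Q ≤ Q.comap (MulAut.conj (qW c d hcd h2)).toMonoidHom := by
      rw [hQdef, sup_le_iff, Subgroup.zpowers_le, Subgroup.zpowers_le, ← hQdef]
      constructor
      · show qW c d hcd h2 * qI * (qW c d hcd h2)⁻¹ ∈ Q
        rw [hWI]; exact hKQ
      · show qW c d hcd h2 * qJ c d hcd * (qW c d hcd h2)⁻¹ ∈ Q
        rw [hWJ]; exact hIQ
    intro y hy
    exact hle hy
  · rw [hWI]
    intro hcen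
    rw [Subgroup.mem_center_iff] at hcen
    have h1 := hcen qI
    apply qK_qI_ne c d hcd h2
    have h3 : qI * (qK c d hcd * (qI : SL2)⁻¹) * qI = qK c d hcd * (qI : SL2)⁻¹ * qI * qI := by
      rw [h1]
    have h4 : qK c d hcd * (qI : SL2)⁻¹ * qI * qI = qK c d hcd * qI := by group
    have h5 : qI * (qK c d hcd * (qI : SL2)⁻¹) * qI = qI * qK c d hcd := by group
    rw [h4, h5] at h3
    exact h3.symm

end Main

end Cfsg.Agent.Lib.H26.MetaSup
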