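import Mathlib
import Cfsg.Agent.Lib.H26.MSPull
import Cfsg.Agent.Lib.H26.MSQuot
import Cfsg.Agent.Lib.H26.MSSL2
import Cfsg.Agent.Lib.H26.MSPrime
import Cfsg.Agent.Lib.H26.MSAut
import Cfsg.Agent.Lib.H26.MSQDIso
import Cfsg.Agent.Lib.H2.SL2Quat
import Cfsg.Agent.Lib.H12.CardSL
import Cfsg.Agent.Lib.H6.GL2Syl

set_option autoImplicit false

/-!
Saturated fusion systems over generalized quaternion, dihedral and semidihedral groups in which
the whole group is not normal (helper26, for S5287).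
-/

namespace Cfsg.Agent.Lib.H26.MetaSup

open Cfsg Cfsg.FusionSystem Matrix

variable {Ω : Type*} [Group Ω] {S : Subgroup Ω}

/-- The general existence statement. -/
theorem exists_nonNormal_of {G : Type*} [Group G] [Finite G] (P : Sylow 2 G) (ι : S →* G)
    (hinj : Function.Injective ι) (hP : (P : Subgroup G) = ι.range)
    (hA : IsPGroup 2 (MulAut ↥S)) (hO : OddAct G ⊥) :
    ∃ F : FusionSystem S, F.IsSaturated 2 ∧ ¬ F.IsNormal S := by
  haveI : Fact (Nat.Prime 2) := ⟨Nat.prime_two⟩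
  obtain ⟨Q, h, x, hQ, hh, h3, hx, hne⟩ := hO
  refine ⟨pullSystem ι hinj, pullSystem_isSaturated ι hinj P hP, ?_⟩
  apply not_isNormal_of_oddAct (pullSystem_isRealizedBy ι hinj) P hP hA Q hQ h x hh h3 hx
  intro hc
  apply hne
  rw [Subgroup.mem_bot, hc, mul_inv_cancel]

/-- The version with an isomorphism onto the Sylow subgroup. -/
theorem exists_nonNormal_of_equiv {G : Type*} [Group G] [Finite G] (P : Sylow 2 G)
    (e : ↥S ≃* ↥(P : Subgroup G)) (hA : IsPGroup 2 (MulAut ↥S)) (hO : OddAct G ⊥) :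
    ∃ F : FusionSystem S, F.IsSaturated 2 ∧ ¬ F.IsNormal S := by
  apply exists_nonNormal_of P ((P : Subgroup G).subtype.comp e.toMonoidHom) ?_ ?_ hA hO
  · exact (Subgroup.subtype_injective _).comp e.injective
  · ext g
    constructor
    · intro hg
      exact ⟨e.symm ⟨g, hg⟩, by simp⟩
    · rintro ⟨s, rfl⟩
      exact (e s).2

section Fields

variable (p : ℕ) [hp : Fact p.Prime]

theorem two_ne_zero_zmod (hodd : Odd p) : (2 : ZMod p) ≠ 0 := by
  intro h
  have h2 : ((2 : ℕ) : ZMod p) = 0 := by push_cast; exact h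
  rw [ZMod.natCast_eq_zero_iff] at h2
  have := Nat.le_of_dvd (by norm_num) h2
  have h1 := hp.out.two_le
  have : p = 2 := by omega
  subst this
  exact absurd hodd (by decide)

theorem oddAct_SL2_zmod (hodd : Odd p) :
    OddAct (SpecialLinearGroup (Fin 2) (ZMod p))
      (Subgroup.center (SpecialLinearGroup (Fin 2) (ZMod p))) := by
  obtain ⟨c, d, hcd⟩ := ZMod.sq_add_sq p (-1)
  exact oddAct_SL2 c d hcd (two_ne_zero_zmod p hodd)

theorem oddAct_GL2_zmod (hodd : Odd p) : OddAct (GL (Fin 2) (ZMod p)) ⊥ := by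
  apply OddAct.map (Matrix.SpecialLinearGroup.toGL) ?_ ((oddAct_SL2_zmod p hodd).mono bot_le)
  intro g hg
  rw [Subgroup.mem_bot]
  apply Subtype.ext
  have := congrArg (fun u : GL (Fin 2) (ZMod p) => (u : Matrix (Fin 2) (Fin 2) (ZMod p))) hg
  simpa using this

theorem oddAct_PSL2_zmod (hodd : Odd p) :
    OddAct (SpecialLinearGroup (Fin 2) (ZMod p) ⧸
      Subgroup.center (SpecialLinearGroup (Fin 2) (ZMod p))) ⊥ := by
  apply OddAct.map (QuotientGroup.mk' _) ?_ (oddAct_SL2_zmod p hodd)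
  intro g hg
  exact (QuotientGroup.eq_one_iff g).1 hg

end Fields

section QuatDih

/-- the quotient map from the generalized quaternion group onto the dihedral group -/
def quatToDihedral (n : ℕ) : QuaternionGroup n →* DihedralGroup n where
  toFun
    | QuaternionGroup.a i => DihedralGroup.r (ZMod.castHom (dvd_mul_left n 2) (ZMod n) i)
    | QuaternionGroup.xa i => DihedralGroup.sr (ZMod.castHom (dvd_mul_left n 2) (ZMod n) i)
  map_one' := by
    rw [QuaternionGroup.one_def, DihedralGroup.one_def]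
    simp
  map_mul' := by
    rintro (i | i) (j | j)
    · simp [QuaternionGroup.a_mul_a, DihedralGroup.r_mul_r]
    · simp [QuaternionGroup.a_mul_xa, DihedralGroup.r_mul_sr]
    · simp [QuaternionGroup.xa_mul_a, DihedralGroup.sr_mul_r]
    · simp [QuaternionGroup.xa_mul_xa, DihedralGroup.sr_mul_sr]

theorem quatToDihedral_a (n : ℕ) (i : ZMod (2 * n)) : quatToDihedral n (QuaternionGroup.a i) =
    DihedralGroup.r (ZMod.castHom (dvd_mul_left n 2) (ZMod n) i) := rfl

theorem quatToDihedral_xa (n : ℕ) (i : ZMod (2 * n)) : quatToDihedral n (QuaternionGroup.xa i) =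
    DihedralGroup.sr (ZMod.castHom (dvd_mul_left n 2) (ZMod n) i) := rfl

theorem quatToDihedral_surjective (n : ℕ) : Function.Surjective (quatToDihedral n) := by
  have hs := ZMod.ringHom_surjective (ZMod.castHom (dvd_mul_left n 2) (ZMod n))
  rintro (i | i)
  · obtain ⟨k, rfl⟩ := hs i
    exact ⟨QuaternionGroup.a k, rfl⟩
  · obtain ⟨k, rfl⟩ := hs i
    exact ⟨QuaternionGroup.xa k, rfl⟩

theorem castHom_eq_zero_iff (n : ℕ) [NeZero n] (i : ZMod (2 * n)) :
    ZMod.castHom (dvd_mul_left n 2) (ZMod n) i = 0 ↔ i + i = 0 := by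
  have h1 : ZMod.castHom (dvd_mul_left n 2) (ZMod n) i = ((i.val : ℕ) : ZMod n) := by
    rw [ZMod.castHom_apply, ZMod.cast_eq_val]
  have h2 : i + i = ((2 * i.val : ℕ) : ZMod (2 * n)) := by
    push_cast
    rw [ZMod.natCast_zmod_val]; ring
  rw [h1, h2, ZMod.natCast_eq_zero_iff, ZMod.natCast_eq_zero_iff]
  constructor
  · intro h
    exact Nat.mul_dvd_mul_left 2 h
  · intro h
    exact (Nat.mul_dvd_mul_iff_left (by norm_num)).1 h

theorem quatToDihedral_eq_one_iff (n : ℕ) [NeZero n] (t : QuaternionGroup n) :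
    quatToDihedral n t = 1 ↔ t * t = 1 := by
  rcases t with i | i
  · rw [quatToDihedral_a, QuaternionGroup.a_mul_a, QuaternionGroup.one_def, DihedralGroup.one_def]
    constructor
    · intro h
      have := DihedralGroup.r.inj h
      rw [(castHom_eq_zero_iff n i).1 this]
    · intro h
      have := QuaternionGroup.a.inj h
      rw [(castHom_eq_zero_iff n i).2 this]
  · rw [quatToDihedral_xa, QuaternionGroup.xa_mul_xa, QuaternionGroup.one_def,
      DihedralGroup.one_def]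
    constructor
    · intro h
      exact absurd h (by intro h'; cases h')
    · intro h
      exfalso
      have h1 := QuaternionGroup.a.inj h
      have h2 : ((n : ℕ) : ZMod (2 * n)) = 0 := by
        rw [← h1]; ring
      rw [ZMod.natCast_eq_zero_iff] at h2
      have hpos : 0 < n := Nat.pos_of_ne_zero (NeZero.ne n)
      have := Nat.le_of_dvd hpos h2
      omega

end QuatDih

section Center

variable {F : Type*} [Field F]

theorem mul_self_eq_one_iff_mem_center (h2 : (2 : F) ≠ 0) (g : SpecialLinearGroup (Fin 2) F) :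
    g * g = 1 ↔ g ∈ Subgroup.center (SpecialLinearGroup (Fin 2) F) := by
  rw [Matrix.SpecialLinearGroup.mem_center_iff]
  constructor
  · intro h
    rcases Cfsg.Agent.Lib.H2.SL2Quat.eq_one_or_neg_one_of_sq h2 g h with h1 | h1
    · exact ⟨1, one_pow _, by rw [h1, map_one]⟩
    · refine ⟨-1, by simp, ?_⟩
      rw [h1, map_neg, map_one]
  · rintro ⟨r, hr, hrg⟩
    apply Subtype.ext
    rw [Matrix.SpecialLinearGroup.coe_mul, ← hrg, ← map_mul]
    rw [Fintype.card_fin] at hr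
    rw [← pow_two, hr, map_one]
    rfl

end Center

section Families

theorem exists_sylow_quat (n j : ℕ) (hn : 2 ≤ n) (hj : 4 * n = 2 ^ j) :
    ∃ (p : ℕ) (_ : Fact p.Prime), Odd p ∧ ∃ P : Sylow 2 (SpecialLinearGroup (Fin 2) (ZMod p)),
      Nonempty (↥(P : Subgroup (SpecialLinearGroup (Fin 2) (ZMod p))) ≃* QuaternionGroup n) := by
  haveI : Fact (Nat.Prime 2) := ⟨Nat.prime_two⟩
  have hj3 : 3 ≤ j := by
    by_contra hlt
    have : j ≤ 2 := by omega
    have h4 : 2 ^ j ≤ 2 ^ 2 := Nat.pow_le_pow_right (by norm_num) this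
    omega
  obtain ⟨p, hpp, hodd, m, hm, hpm⟩ := exists_prime_quat j hj3
  haveI hpf : Fact p.Prime := ⟨hpp⟩
  refine ⟨p, hpf, hodd, ?_⟩
  obtain ⟨P⟩ : Nonempty (Sylow 2 (SpecialLinearGroup (Fin 2) (ZMod p))) := inferInstance
  have hcardG : Nat.card (SpecialLinearGroup (Fin 2) (ZMod p)) = 2 ^ j * m := by
    rw [Cfsg.Agent.Lib.H12.card_SL2, ZMod.card, hpm]
  have hcardP : Nat.card P = 2 ^ j :=
    Cfsg.Agent.Lib.H6.GL2S.card_sylow_of_card_eq P hcardG (by
      intro h2
      exact (Nat.not_even_iff_odd.2 hm) (even_iff_two_dvd.2 h2))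
  obtain ⟨k, hk, ⟨eP⟩⟩ := Cfsg.Agent.Lib.H2.SL2Quat.main
    (F := ZMod p) (by rw [ZMod.card]; exact hodd) P
  have hcardQ : Nat.card (QuaternionGroup (2 ^ k)) = 4 * 2 ^ k := by
    rw [Nat.card_eq_fintype_card, QuaternionGroup.card]
  have hkn : 2 ^ k = n := by
    have := Nat.card_congr eP.toEquiv
    rw [hcardP, hcardQ, ← hj] at this
    omega
  rw [hkn] at eP
  exact ⟨P, ⟨eP⟩⟩

variable [Finite S]

theorem four_mul_eq_pow_of_quat (hS : IsPGroup 2 S) (n : ℕ) [NeZero n]
    (e : ↥S ≃* QuaternionGroup n) : ∃ j, 4 * n = 2 ^ j := by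
  haveI : Fact (Nat.Prime 2) := ⟨Nat.prime_two⟩
  obtain ⟨j, hj⟩ := hS.exists_card_eq
  refine ⟨j, ?_⟩
  rw [← hj, Nat.card_congr e.toEquiv, Nat.card_eq_fintype_card, QuaternionGroup.card]

/-- Generalized quaternion groups of order at least 16. -/
theorem exists_nonNormal_quat (hS : IsPGroup 2 S) (n : ℕ) (hn : 3 ≤ n)
    (e : ↥S ≃* QuaternionGroup n) : ∃ F : FusionSystem S, F.IsSaturated 2 ∧ ¬ F.IsNormal S := by
  haveI : NeZero n := ⟨by omega⟩
  obtain ⟨j, hj⟩ := four_mul_eq_pow_of_quat hS n e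
  obtain ⟨p, hpf, hodd, P, ⟨eP⟩⟩ := exists_sylow_quat n j (by omega) hj
  exact exists_nonNormal_of_equiv P (e.trans eP.symm) (aut_quaternion hS n hn e)
    ((oddAct_SL2_zmod p hodd).mono bot_le)

/-- Dihedral groups of order at least 8. -/
theorem exists_nonNormal_dihedral (hS : IsPGroup 2 S) (n : ℕ) (hn : 3 ≤ n)
    (e : ↥S ≃* DihedralGroup n) : ∃ F : FusionSystem S, F.IsSaturated 2 ∧ ¬ F.IsNormal S := by
  haveI : Fact (Nat.Prime 2) := ⟨Nat.prime_two⟩
  haveI : NeZero n := ⟨by omega⟩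
  obtain ⟨j', hj'⟩ := hS.exists_card_eq
  have hj : 4 * n = 2 ^ (j' + 1) := by
    rw [pow_succ, ← hj', Nat.card_congr e.toEquiv, DihedralGroup.nat_card]; ring
  obtain ⟨p, hpf, hodd, P, ⟨eP⟩⟩ := exists_sylow_quat n (j' + 1) (by omega) hj
  have h2 := two_ne_zero_zmod p hodd
  let ιQ : QuaternionGroup n →* SpecialLinearGroup (Fin 2) (ZMod p) :=
    (P : Subgroup (SpecialLinearGroup (Fin 2) (ZMod p))).subtype.comp eP.symm.toMonoidHom
  have hιQinj : Function.Injective ιQ := (Subgroup.subtype_injective _).comp eP.symm.injective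
  have hP : (P : Subgroup (SpecialLinearGroup (Fin 2) (ZMod p))) = ιQ.range := by
    ext g
    constructor
    · intro hg
      exact ⟨eP ⟨g, hg⟩, by simp [ιQ]⟩
    · rintro ⟨s, rfl⟩
      exact (eP.symm s).2
  have hker : ∀ t : QuaternionGroup n, quatToDihedral n t = 1 ↔
      ιQ t ∈ Subgroup.center (SpecialLinearGroup (Fin 2) (ZMod p)) := by
    intro t
    rw [quatToDihedral_eq_one_iff, ← mul_self_eq_one_iff_mem_center h2, ← map_mul]
    constructor
    · intro h
      rw [h, map_one]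
    · intro h
      apply hιQinj
      rw [h, map_one]
  obtain ⟨δ, hδinj, ⟨P', hP'⟩, -⟩ := exists_quot_embedding ιQ P hP
    (Subgroup.center (SpecialLinearGroup (Fin 2) (ZMod p))) (quatToDihedral n)
    (quatToDihedral_surjective n) hker
  apply exists_nonNormal_of P' (δ.comp e.toMonoidHom) (hδinj.comp e.injective) ?_
    (aut_dihedral hS n hn e) (oddAct_PSL2_zmod p hodd)
  rw [hP']
  ext y
  constructor
  · rintro ⟨d, rfl⟩
    exact ⟨e.symm d, by simp⟩
  · rintro ⟨s, rfl⟩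
    exact ⟨e s, rfl⟩

/-- Semidihedral groups. -/
theorem exists_nonNormal_qd (hS : IsPGroup 2 S) (hqd : Cfsg.IsQuasiDihedral ↥S) :
    ∃ F : FusionSystem S, F.IsSaturated 2 ∧ ¬ F.IsNormal S := by
  haveI : Fact (Nat.Prime 2) := ⟨Nat.prime_two⟩
  have hA := aut_qd hS hqd
  have hqd' := hqd
  obtain ⟨n₀, hn₀, hcard, -⟩ := hqd'
  obtain ⟨p, hpp, hp4, a, ha, hpa⟩ := exists_prime_qd (n₀ - 1) (by omega)
  haveI hpf : Fact p.Prime := ⟨hpp⟩
  have hodd : Odd p := by rw [Nat.odd_iff]; omega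
  obtain ⟨P⟩ : Nonempty (Sylow 2 (GL (Fin 2) (ZMod p))) := inferInstance
  have hPqd : Cfsg.IsQuasiDihedral (P : Subgroup (GL (Fin 2) (ZMod p))) :=
    Cfsg.Agent.Lib.H6.GL2Syl.qd_case P (by rw [ZMod.card]; exact hp4)
  obtain ⟨b, hb⟩ : ∃ b, p - 1 = 2 * b + 2 * 0 ∧ Odd b := ⟨(p - 1) / 2, by omega, by
    rw [Nat.odd_iff]; omega⟩
  have hcardG : Nat.card (GL (Fin 2) (ZMod p)) = 2 ^ (n₀ + 1) * (p * b ^ 2 * a) := by
    rw [Cfsg.Agent.Lib.H6.GL2Syl.card_GL2', ZMod.card, hpa]
    have : p - 1 = 2 * b := by omega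
    rw [this]
    have h2 : 2 ^ (n₀ + 1) = 4 * 2 ^ (n₀ - 1) := by
      have : n₀ + 1 = (n₀ - 1) + 2 := by omega
      rw [this, pow_add]; ring
    rw [h2]; ring
  have hcardP : Nat.card P = 2 ^ (n₀ + 1) :=
    Cfsg.Agent.Lib.H6.GL2S.card_sylow_of_card_eq P hcardG (by
      intro h2
      have : Odd (p * b ^ 2 * a) := (hodd.mul (hb.2.pow)).mul ha
      exact (Nat.not_even_iff_odd.2 this) (even_iff_two_dvd.2 h2))
  obtain ⟨e⟩ := nonempty_mulEquiv_of_qd hqd hPqd (by rw [hcard, hcardP])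
  exact exists_nonNormal_of_equiv P e hA (oddAct_GL2_zmod p hodd)

end Families

end Cfsg.Agent.Lib.H26.MetaSup
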