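import Mathlib
import Cfsg.Agent.Lib.H26.AbelianPA
import Cfsg.Agent.Lib.H26.CycChain
import Cfsg.Agent.Lib.H26.MetaG1Main
import Cfsg.Agent.Lib.H26.SuperFusion
import Cfsg.Agent.Lib.H25.EssChain

set_option autoImplicit false

/-!
The `p'`-groups of automorphisms of a finite metacyclic `p`-group with a characteristic
subgroup of index `p` are abelian of exponent dividing `p - 1` (helper26, for S5287).
-/

namespace Cfsg.Agent.Lib.H26.MetaSup

open Cfsg.Agent.Lib.H26.AbelianPA Cfsg.Agent.Lib.H26.CycChain Cfsg.Agent.Lib.H26.ChainStab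

universe u

variable {X : Type u} [Group X]

theorem isCoatom_of_index_prime [Finite X] {p : ℕ} (hp : p.Prime) {K : Subgroup X}
    (hK : K.index = p) : IsCoatom K := by
  constructor
  · intro h
    rw [h, Subgroup.index_top] at hK
    exact hp.one_lt.ne hK
  · intro L hKL
    have h1 := Subgroup.relIndex_mul_index hKL.le
    rw [hK] at h1
    have h2 : L.index ∣ p := ⟨K.relIndex L, by rw [← h1, mul_comm]⟩
    rcases (Nat.dvd_prime hp).1 h2 with h3 | h3
    · exact Subgroup.index_eq_one.1 h3
    · exfalso
      rw [h3] at h1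
      have h4 : K.relIndex L = 1 := by
        have hpos := hp.pos
        nlinarith
      rw [Subgroup.relIndex_eq_one] at h4
      exact absurd (le_antisymm hKL.le h4) hKL.ne

theorem isCyclic_of_card_dvd_prime {Y : Type*} [Group Y] {p : ℕ} (hp : p.Prime)
    (h : Nat.card Y ∣ p) : IsCyclic Y := by
  rcases (Nat.dvd_prime hp).1 h with h1 | h1
  · haveI : Finite Y := Nat.finite_of_card_ne_zero (by omega)
    haveI : Subsingleton Y := (Finite.card_le_one_iff_subsingleton).1 h1.le
    infer_instance
  · haveI : Fact p.Prime := ⟨hp⟩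
    exact isCyclic_of_prime_card h1

/-- the chain `⊤ ≥ K ≥ Φ ≥ Φ ≥ …` -/
def chK (K : Subgroup X) : ℕ → Subgroup X
  | 0 => ⊤
  | 1 => K
  | _ => frattini X

theorem PA_of_charIdx [Finite X] {p : ℕ} [hp : Fact p.Prime] (hX : IsPGroup p X)
    (hm : Cfsg.IsMetacyclic X) (K : Subgroup X) [hKc : K.Characteristic] (hK : K.index = p) :
    PA p X := by
  intro H hH
  have hΦK : frattini X ≤ K := frattini_le_coatom (isCoatom_of_index_prime hp.out hK)
  have hmono : ∀ i, chK K (i + 1) ≤ chK K i := by
    intro i
    match i with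
    | 0 => exact le_top
    | 1 => exact hΦK
    | (j + 2) => exact le_rfl
  have hchar : ∀ i, (chK K i).Characteristic := by
    intro i
    match i with
    | 0 => exact Subgroup.topCharacteristic
    | 1 => exact hKc
    | (j + 2) => exact frattini_characteristic
  obtain ⟨r, hr2, hr⟩ := Cfsg.Agent.Lib.H16.Meta.card_frattini_quotient hX hm
  rw [← Subgroup.index_eq_card] at hr
  have hrel : ∀ i, (chK K (i + 1)).relIndex (chK K i) ∣ p := by
    intro i
    match i with
    | 0 =>
      show K.relIndex ⊤ ∣ p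
      rw [Subgroup.relIndex_top_right, hK]
    | 1 =>
      show (frattini X).relIndex K ∣ p
      have h1 := Subgroup.relIndex_mul_index hΦK
      rw [hK, hr] at h1
      have hppos := hp.out.pos
      interval_cases r
      · exfalso
        have : (frattini X).relIndex K * p = 1 := by simpa using h1
        have := Nat.eq_one_of_mul_eq_one_left this
        exact hp.out.one_lt.ne' this
      · have : (frattini X).relIndex K * p = 1 * p := by simpa using h1
        rw [Nat.eq_of_mul_eq_mul_right hppos this]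
        exact one_dvd _
      · have : (frattini X).relIndex K * p = p * p := by rw [h1]; ring
        rw [Nat.eq_of_mul_eq_mul_right hppos this]
    | (j + 2) =>
      show (frattini X).relIndex (frattini X) ∣ p
      rw [Subgroup.relIndex_self]
      exact one_dvd _
  have hcd : CycData H (chK K) :=
    { mono := hmono
      inv := fun i α _ x hx => Cfsg.Agent.Lib.H25.EssChain.char_map_mem (hchar i) α hx
      normal := fun i => by
        haveI := hchar (i + 1)
        infer_instance
      cyclic := fun i _ => by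
        apply isCyclic_of_card_dvd_prime hp.out
        rw [← Subgroup.index_eq_card]
        exact hrel i }
  haveI : Finite H := inferInstance
  have hP : IsPGroup p (chainStab (chK K) hmono) :=
    Cfsg.Agent.Lib.H25.EssChain.isPGroup_of_stabilizes hX (chK K) hmono 2 rfl le_rfl _
      (fun γ hγ => hγ)
  have key : ∀ γ ∈ H, Stabilizes (chK K) γ → γ = 1 := by
    intro γ hγ hst
    obtain ⟨k, hk⟩ := hP ⟨γ, hst⟩
    have hk' : γ ^ p ^ k = 1 := congrArg Subtype.val hk
    exact Cfsg.Agent.Lib.H26.SuperFusion.eq_one_of_pow_coprime (Nat.Coprime.pow_right k hH)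
      (Cfsg.Agent.Lib.H26.SuperFusion.pow_card_subgroup_eq_one H hγ) hk'
  refine ⟨fun a ha b hb => ?_, fun h hh => ?_⟩
  · have h1 := key (a * b * a⁻¹ * b⁻¹)
      (H.mul_mem (H.mul_mem (H.mul_mem ha hb) (H.inv_mem ha)) (H.inv_mem hb))
      (stabilizes_commutator hcd ha hb)
    calc a * b = (a * b * a⁻¹ * b⁻¹) * (b * a) := by group
      _ = b * a := by rw [h1, one_mul]
  · exact key _ (H.pow_mem hh _)
      (stabilizes_pow hX hcd hh hH (Cfsg.Agent.Lib.H26.SuperFusion.pow_card_subgroup_eq_one H hh))

/-- Nonabelian metacyclic `p`-groups, `p` odd. -/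
theorem PA_of_nonabelian [Finite X] {p : ℕ} [hp : Fact p.Prime] (hp2 : p ≠ 2)
    (hX : IsPGroup p X) (hm : Cfsg.IsMetacyclic X) (hnc : ¬ ∀ a b : X, a * b = b * a) :
    PA p X := by
  have hno : ¬ Cfsg.Agent.Lib.H26.MetaG1.NoCharIdx p X := fun h =>
    hnc (Cfsg.Agent.Lib.H26.MetaG1.comm_of_noCharIdx hp2 hX hm h)
  unfold Cfsg.Agent.Lib.H26.MetaG1.NoCharIdx at hno
  push Not at hno
  obtain ⟨K, hKc, hK⟩ := hno
  exact PA_of_charIdx hX hm K hK

end Cfsg.Agent.Lib.H26.MetaSup
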