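import Mathlib
import Cfsg.Agent.Lib.H26.AbelianPA

set_option autoImplicit false

/-!
The quaternion group of order eight and the four-group have automorphisms of order three, so
they fail the condition on `p'`-automorphisms (helper26, for S5287).
-/

namespace Cfsg.Agent.Lib.H26.MetaSup

open Cfsg.Agent.Lib.H26.AbelianPA

theorem not_PA_of_order_three {X : Type*} [Group X] (α : MulAut X) (h3 : α ^ 3 = 1)
    (hne : α ≠ 1) : ¬ PA 2 X := by
  intro hPA
  haveI : Fact (Nat.Prime 3) := ⟨Nat.prime_three⟩
  have ho : orderOf α = 3 := orderOf_eq_prime h3 hne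
  have hcard : Nat.card (Subgroup.zpowers α) = 3 := by rw [Nat.card_zpowers, ho]
  have := (hPA (Subgroup.zpowers α) (by rw [hcard]; norm_num)).2 α (Subgroup.mem_zpowers α)
  apply hne
  simpa using this

/-- the map `i ↦ j ↦ k ↦ i` on the quaternion group -/
def q8Fun : QuaternionGroup 2 → QuaternionGroup 2
  | QuaternionGroup.a i =>
    if i = 0 then QuaternionGroup.a 0 else if i = 1 then QuaternionGroup.xa 0
    else if i = 2 then QuaternionGroup.a 2 else QuaternionGroup.xa 2
  | QuaternionGroup.xa i =>
    if i = 0 then QuaternionGroup.xa 3 else if i = 1 then QuaternionGroup.a 3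
    else if i = 2 then QuaternionGroup.xa 1 else QuaternionGroup.a 1

theorem q8Fun_mul : ∀ x y : QuaternionGroup 2, q8Fun (x * y) = q8Fun x * q8Fun y := by decide

theorem q8Fun_cube : ∀ x : QuaternionGroup 2, q8Fun (q8Fun (q8Fun x)) = x := by decide

/-- the automorphism of order three of the quaternion group -/
def q8Aut : MulAut (QuaternionGroup 2) where
  toFun := q8Fun
  invFun := fun x => q8Fun (q8Fun x)
  left_inv := q8Fun_cube
  right_inv := q8Fun_cube
  map_mul' := q8Fun_mul

theorem not_PA_quat : ¬ PA 2 (QuaternionGroup 2) := by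
  apply not_PA_of_order_three q8Aut
  · ext x
    exact q8Fun_cube x
  · intro h
    have := congrArg (fun α : MulAut (QuaternionGroup 2) => α (QuaternionGroup.a 1)) h
    revert this
    decide

/-- the map `r ↦ s ↦ sr ↦ r` on the four-group -/
def v4Fun : DihedralGroup 2 → DihedralGroup 2
  | DihedralGroup.r i => if i = 0 then DihedralGroup.r 0 else DihedralGroup.sr 0
  | DihedralGroup.sr i => if i = 0 then DihedralGroup.sr 1 else DihedralGroup.r 1

theorem v4Fun_mul : ∀ x y : DihedralGroup 2, v4Fun (x * y) = v4Fun x * v4Fun y := by decide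

theorem v4Fun_cube : ∀ x : DihedralGroup 2, v4Fun (v4Fun (v4Fun x)) = x := by decide

/-- the automorphism of order three of the four-group -/
def v4Aut : MulAut (DihedralGroup 2) where
  toFun := v4Fun
  invFun := fun x => v4Fun (v4Fun x)
  left_inv := v4Fun_cube
  right_inv := v4Fun_cube
  map_mul' := v4Fun_mul

theorem not_PA_klein : ¬ PA 2 (DihedralGroup 2) := by
  apply not_PA_of_order_three v4Aut
  · ext x
    exact v4Fun_cube x
  · intro h
    have := congrArg (fun α : MulAut (DihedralGroup 2) => α (DihedralGroup.r 1)) h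
    revert this
    decide

end Cfsg.Agent.Lib.H26.MetaSup
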