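import Mathlib

set_option autoImplicit false

/-!
Basic facts on finite `p`-groups of maximal class (helper26): if `|G| = p^n`, `n ≥ 3` and the
upper central series has not reached `⊤` at step `n - 2`, then `|Z_i(G)| = p^i` for `i ≤ n - 2`.
Also: the centralizer of `Z_2(G)` has index `p` when `|Z(G)| = p`, `|Z_2(G)| = p^2`.
-/

namespace Cfsg.Agent.Lib.H26.MaxClass

open scoped commutatorElement

variable {G : Type*} [Group G]

theorem ucs_succ_eq_comap (k : ℕ) :
    Subgroup.upperCentralSeries G (k + 1) =
      Subgroup.comap (QuotientGroup.mk' (Subgroup.upperCentralSeries G k))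
        (Subgroup.center (G ⧸ Subgroup.upperCentralSeries G k)) :=
  Subgroup.upperCentralSeriesStep_eq_comap_center (Subgroup.upperCentralSeries G k)

/-- In a finite `p`-group the upper central series strictly increases until it reaches `⊤`. -/
theorem ucs_lt_succ [Finite G] {p : ℕ} [Fact p.Prime] (hG : IsPGroup p G) (k : ℕ)
    (h : Subgroup.upperCentralSeries G k ≠ ⊤) : Subgroup.upperCentralSeries G k < Subgroup.upperCentralSeries G (k + 1) := by
  refine lt_of_le_of_ne (Subgroup.upperCentralSeries_mono G (Nat.le_succ k)) ?_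
  intro heq
  have hnt : Nontrivial (G ⧸ Subgroup.upperCentralSeries G k) := by
    rw [← Finite.one_lt_card_iff_nontrivial, ← Subgroup.index_eq_card]
    have h1 : (Subgroup.upperCentralSeries G k).index ≠ 1 := fun h1 => h (Subgroup.index_eq_one.1 h1)
    have h0 : (Subgroup.upperCentralSeries G k).index ≠ 0 := Subgroup.index_ne_zero_of_finite
    omega
  have hQ : IsPGroup p (G ⧸ Subgroup.upperCentralSeries G k) := hG.to_quotient _
  have hc : Nontrivial (Subgroup.center (G ⧸ Subgroup.upperCentralSeries G k)) := hQ.center_nontrivial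
  obtain ⟨⟨z, hz⟩, hz1⟩ := exists_ne (1 : Subgroup.center (G ⧸ Subgroup.upperCentralSeries G k))
  obtain ⟨x, rfl⟩ := QuotientGroup.mk'_surjective _ z
  have hx : x ∈ Subgroup.upperCentralSeries G (k + 1) := by
    rw [ucs_succ_eq_comap]
    exact hz
  rw [← heq] at hx
  apply hz1
  apply Subtype.ext
  exact (QuotientGroup.eq_one_iff x).2 hx

/-- If `G / Z_{k+1}(G)` is cyclic then `Z_{k+1}(G) = G`. -/
theorem ucs_eq_top_of_cyclic (k : ℕ) (hc : IsCyclic (G ⧸ Subgroup.upperCentralSeries G (k + 1))) :
    Subgroup.upperCentralSeries G (k + 1) = ⊤ := by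
  have hle : Subgroup.upperCentralSeries G k ≤ Subgroup.upperCentralSeries G (k + 1) :=
    Subgroup.upperCentralSeries_mono G (Nat.le_succ k)
  let f : G ⧸ Subgroup.upperCentralSeries G k →* G ⧸ Subgroup.upperCentralSeries G (k + 1) :=
    QuotientGroup.map _ _ (MonoidHom.id G) (by
      intro x hx
      exact hle hx)
  have hker : f.ker ≤ Subgroup.center (G ⧸ Subgroup.upperCentralSeries G k) := by
    intro z hz
    obtain ⟨x, rfl⟩ := QuotientGroup.mk'_surjective _ z
    have hx : x ∈ Subgroup.upperCentralSeries G (k + 1) := by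
      have : f (QuotientGroup.mk' _ x) = 1 := hz
      exact (QuotientGroup.eq_one_iff x).1 this
    rw [ucs_succ_eq_comap] at hx
    exact hx
  have hcomm := commutative_of_cyclic_center_quotient f hker
  rw [eq_top_iff]
  intro x _
  rw [Subgroup.mem_upperCentralSeries_succ_iff]
  intro y
  have h1 := hcomm (QuotientGroup.mk' _ x) (QuotientGroup.mk' _ y)
  rw [← (QuotientGroup.eq_one_iff (N := Subgroup.upperCentralSeries G k) ⁅x, y⁆)]
  rw [commutatorElement_def]
  have : ((x * y * x⁻¹ * y⁻¹ : G) : G ⧸ Subgroup.upperCentralSeries G k) =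
      (QuotientGroup.mk' _ x) * (QuotientGroup.mk' _ y) * (QuotientGroup.mk' _ x)⁻¹ *
        (QuotientGroup.mk' _ y)⁻¹ := rfl
  rw [this, h1]
  group

/-- Orders of the upper central series of a `p`-group of maximal class. -/
theorem card_ucs [Finite G] {p : ℕ} [Fact p.Prime] (hG : IsPGroup p G) {n : ℕ}
    (hn : Nat.card G = p ^ n) (h3 : 3 ≤ n) (hmax : Subgroup.upperCentralSeries G (n - 2) ≠ ⊤) :
    ∀ i, i ≤ n - 2 → Nat.card (Subgroup.upperCentralSeries G i) = p ^ i := by
  have hp : p.Prime := Fact.out
  have hne : ∀ i, i ≤ n - 2 → Subgroup.upperCentralSeries G i ≠ ⊤ := by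
    intro i hi heq
    apply hmax
    rw [eq_top_iff, ← heq]
    exact Subgroup.upperCentralSeries_mono G hi
  -- exponents
  have hex : ∀ i, ∃ a, Nat.card (Subgroup.upperCentralSeries G i) = p ^ a := fun i =>
    (hG.to_subgroup _).exists_card_eq
  choose a ha using hex
  have hstep : ∀ i, i ≤ n - 2 → a i < a (i + 1) := by
    intro i hi
    have hlt := ucs_lt_succ hG i (hne i hi)
    have hc : Nat.card (Subgroup.upperCentralSeries G i) < Nat.card (Subgroup.upperCentralSeries G (i + 1)) := by
      have hle := Subgroup.card_le_of_le hlt.le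
      refine lt_of_le_of_ne hle ?_
      intro heq
      exact hlt.ne (Subgroup.eq_of_le_of_card_ge hlt.le heq.ge)
    rw [ha, ha] at hc
    exact (Nat.pow_lt_pow_iff_right hp.one_lt).1 hc
  have h0 : a 0 = 0 := by
    have : Nat.card (Subgroup.upperCentralSeries G 0) = 1 := by
      rw [Subgroup.upperCentralSeries_zero]; exact Subgroup.card_bot
    rw [ha] at this
    exact (Nat.pow_eq_one.1 this).resolve_left hp.one_lt.ne'
  have hlow : ∀ i, i ≤ n - 2 → i ≤ a i := by
    intro i
    induction i with
    | zero => intro _; omega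
    | succ i ih =>
      intro hi
      have := ih (by omega)
      have := hstep i (by omega)
      omega
  -- top bound
  have htop : a (n - 2) + 2 ≤ n := by
    have hidx : (Subgroup.upperCentralSeries G (n - 2)).index * p ^ a (n - 2) = p ^ n := by
      rw [← ha, ← hn, mul_comm]
      exact Subgroup.card_mul_index _
    have hdvd : (Subgroup.upperCentralSeries G (n - 2)).index ∣ p ^ n := ⟨_, hidx.symm⟩
    obtain ⟨b, hb, hbeq⟩ := (Nat.dvd_prime_pow hp).1 hdvd
    rw [hbeq, ← pow_add] at hidx
    have hsum : b + a (n - 2) = n := Nat.pow_right_injective hp.two_le hidx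
    have hb0 : b ≠ 0 := by
      intro h0
      rw [h0, pow_zero] at hbeq
      exact hmax (Subgroup.index_eq_one.1 hbeq)
    have hb1 : b ≠ 1 := by
      intro h1
      rw [h1, pow_one] at hbeq
      have hcyc : IsCyclic (G ⧸ Subgroup.upperCentralSeries G (n - 2)) := by
        apply isCyclic_of_prime_card (p := p)
        rw [← Subgroup.index_eq_card, hbeq]
      have hk : n - 2 = (n - 3) + 1 := by omega
      rw [hk] at hcyc hmax
      exact hmax (ucs_eq_top_of_cyclic _ hcyc)
    omega
  have hup : ∀ j, j ≤ n - 2 → a (n - 2 - j) + j ≤ a (n - 2) := by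
    intro j
    induction j with
    | zero => intro _; simp
    | succ j ih =>
      intro hj
      have h1 := ih (by omega)
      have h2 := hstep (n - 2 - (j + 1)) (by omega)
      have h3 : n - 2 - (j + 1) + 1 = n - 2 - j := by omega
      rw [h3] at h2
      omega
  intro i hi
  rw [ha]
  congr 1
  have h1 := hlow i hi
  have h2 := hup (n - 2 - i) (by omega)
  have h3 : n - 2 - (n - 2 - i) = i := by omega
  rw [h3] at h2
  omega

/-- If `|Z(G)| = p` and `|Z_2(G)| = p^2` then `C_G(Z_2(G))` has index `p`. -/
theorem index_centralizer_ucs_two [Finite G] {p : ℕ} [Fact p.Prime]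
    (h1 : Nat.card (Subgroup.center G) = p) (h2 : Nat.card (Subgroup.upperCentralSeries G 2) = p ^ 2) :
    (Subgroup.centralizer (Subgroup.upperCentralSeries G 2 : Set G)).index = p := by
  have hp : p.Prime := Fact.out
  have hZle : Subgroup.center G ≤ Subgroup.upperCentralSeries G 2 := by
    rw [← Subgroup.upperCentralSeries_one]
    exact Subgroup.upperCentralSeries_mono G (by norm_num)
  -- pick y ∈ Z₂ \ Z
  have hex : ∃ y ∈ Subgroup.upperCentralSeries G 2, y ∉ Subgroup.center G := by
    by_contra hcon
    push Not at hcon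
    have : Subgroup.upperCentralSeries G 2 ≤ Subgroup.center G := hcon
    have := Subgroup.card_le_of_le this
    rw [h1, h2] at this
    have : p * p ≤ p * 1 := by rw [← pow_two]; simpa using this
    have := Nat.le_of_mul_le_mul_left this hp.pos
    exact absurd hp.one_lt (by omega)
  obtain ⟨y, hy2, hyZ⟩ := hex
  have hcomm : ∀ g : G, ⁅g, y⁆ ∈ Subgroup.center G := by
    intro g
    have := Subgroup.mem_upperCentralSeries_succ_iff.1 hy2 g
    rw [Subgroup.upperCentralSeries_one] at this
    have h' : ⁅g, y⁆ = ⁅y, g⁆⁻¹ := (commutatorElement_inv y g).symm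
    rw [h']
    exact Subgroup.inv_mem _ this
  -- the homomorphism g ↦ [g, y]
  let f : G →* Subgroup.center G :=
    { toFun := fun g => ⟨⁅g, y⁆, hcomm g⟩
      map_one' := by
        apply Subtype.ext
        simp
      map_mul' := by
        intro g h
        apply Subtype.ext
        show ⁅g * h, y⁆ = ⁅g, y⁆ * ⁅h, y⁆
        have hc := Subgroup.mem_center_iff.1 (hcomm h)
        rw [commutatorElement_def, commutatorElement_def, commutatorElement_def]
        have e1 : g * h * y * (g * h)⁻¹ * y⁻¹ = g * (h * y * h⁻¹ * y⁻¹) * y * g⁻¹ * y⁻¹ := by group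
        rw [e1]
        have e2 : g * (h * y * h⁻¹ * y⁻¹) = (h * y * h⁻¹ * y⁻¹) * g := by
          have := hc g
          rw [commutatorElement_def] at this
          exact this
        rw [e2]
        have e3 : h * y * h⁻¹ * y⁻¹ * g * y * g⁻¹ * y⁻¹ =
            (h * y * h⁻¹ * y⁻¹) * (g * y * g⁻¹ * y⁻¹) := by group
        rw [e3]
        have hc' := Subgroup.mem_center_iff.1 (hcomm g)
        have := hc' (h * y * h⁻¹ * y⁻¹)
        rw [commutatorElement_def] at this
        exact this }
  have hker : f.ker = Subgroup.centralizer (Subgroup.upperCentralSeries G 2 : Set G) := by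
    -- Z₂ = Z ⊔ ⟨y⟩
    have hZ2 : Subgroup.upperCentralSeries G 2 = Subgroup.center G ⊔ Subgroup.zpowers y := by
      symm
      have hle : Subgroup.center G ⊔ Subgroup.zpowers y ≤ Subgroup.upperCentralSeries G 2 :=
        sup_le hZle (by rw [Subgroup.zpowers_le]; exact hy2)
      apply Subgroup.eq_of_le_of_card_ge hle
      have hlt : Subgroup.center G < Subgroup.center G ⊔ Subgroup.zpowers y := by
        refine lt_of_le_of_ne le_sup_left ?_
        intro heq
        apply hyZ
        rw [heq]
        exact (le_sup_right : Subgroup.zpowers y ≤ _) (Subgroup.mem_zpowers y)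
      have hd1 : Nat.card (Subgroup.center G) ∣
          Nat.card ↥(Subgroup.center G ⊔ Subgroup.zpowers y) := Subgroup.card_dvd_of_le le_sup_left
      have hd2 : Nat.card ↥(Subgroup.center G ⊔ Subgroup.zpowers y) ∣
          Nat.card (Subgroup.upperCentralSeries G 2) := Subgroup.card_dvd_of_le hle
      rw [h2] at hd2 ⊢
      obtain ⟨b, hb, hbeq⟩ := (Nat.dvd_prime_pow hp).1 hd2
      rw [hbeq]
      have hb2 : b = 2 := by
        have hne : Nat.card ↥(Subgroup.center G ⊔ Subgroup.zpowers y) ≠
            Nat.card (Subgroup.center G) := by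
          intro heq
          exact hlt.ne (Subgroup.eq_of_le_of_card_ge le_sup_left heq.le)
        rw [hbeq, h1] at hne
        rw [hbeq, h1] at hd1
        have hb0 : b ≠ 0 := by
          intro h0
          rw [h0, pow_zero] at hd1
          exact hp.one_lt.ne' (Nat.dvd_one.1 hd1)
        have hb1 : b ≠ 1 := by
          intro h1'
          rw [h1', pow_one] at hne
          exact hne rfl
        omega
      rw [hb2]
    ext g
    rw [MonoidHom.mem_ker, hZ2]
    constructor
    · intro hg
      have hgy : ⁅g, y⁆ = 1 := congrArg Subtype.val hg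
      have hgy' : g * y = y * g := by
        rw [commutatorElement_def] at hgy
        have : g * y * g⁻¹ = y := by
          have := congrArg (· * y) hgy
          simpa using this
        calc g * y = g * y * g⁻¹ * g := by group
          _ = y * g := by rw [this]
      rw [Subgroup.mem_centralizer_iff]
      intro x hx
      have hx' : x ∈ Subgroup.center G ⊔ Subgroup.zpowers y := hx
      rw [← SetLike.mem_coe, Subgroup.normal_mul, Set.mem_mul] at hx'
      obtain ⟨z, hz, w, hw, rfl⟩ := hx'
      obtain ⟨k, rfl⟩ := Subgroup.mem_zpowers_iff.1 hw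
      have hzc := Subgroup.mem_center_iff.1 hz g
      have hyk : y ^ k * g = g * y ^ k := ((Commute.zpow_right (show Commute g y from hgy') k).eq).symm
      calc z * y ^ k * g = z * (y ^ k * g) := by group
        _ = z * (g * y ^ k) := by rw [hyk]
        _ = (z * g) * y ^ k := by group
        _ = (g * z) * y ^ k := by rw [← hzc]
        _ = g * (z * y ^ k) := by group
    · intro hg
      rw [Subgroup.mem_centralizer_iff] at hg
      have hy' : y ∈ ((Subgroup.center G ⊔ Subgroup.zpowers y : Subgroup G) : Set G) :=
        (le_sup_right : Subgroup.zpowers y ≤ _) (Subgroup.mem_zpowers y)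
      have := hg y hy'
      apply Subtype.ext
      show ⁅g, y⁆ = 1
      rw [commutatorElement_def, ← this]
      group
  have hidx : (Subgroup.centralizer (Subgroup.upperCentralSeries G 2 : Set G)).index ∣ p := by
    rw [← hker, Subgroup.index_ker, ← h1]
    exact Subgroup.card_subgroup_dvd_card _
  rcases (Nat.dvd_prime hp).1 hidx with h | h
  · exfalso
    have htop := Subgroup.index_eq_one.1 h
    apply hyZ
    rw [Subgroup.mem_center_iff]
    intro g
    have hg : g ∈ Subgroup.centralizer (Subgroup.upperCentralSeries G 2 : Set G) := by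
      rw [htop]; exact Subgroup.mem_top g
    rw [Subgroup.mem_centralizer_iff] at hg
    exact (hg y hy2).symm
  · exact h

end Cfsg.Agent.Lib.H26.MaxClass
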