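import Mathlib
import Cfsg.Agent.Lib.H26.MetaSCRed

set_option autoImplicit false

/-!
Strongly closed subgroups and centric radical subgroups, continued (helper26): if `P ≰ T` then the
group induced by `Aut_F(T)` on `P ∩ T` is not a `p`-group, and subgroups of `P` normalized by `T`
acting trivially on `P ∩ T` modulo a small invariant subgroup lie in `T`.
-/

namespace Cfsg.Agent.Lib.H26.MetaSC

open Cfsg Cfsg.FusionSystem Cfsg.Agent.Lib.H25 Cfsg.Agent.Lib.H26.ChainStab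
  Cfsg.Agent.Lib.H26.Model Cfsg.Agent.Lib.H26.CycChain
open scoped Pointwise

universe u

variable {Ω : Type u} [Group Ω] {S : Subgroup Ω}

/-- `N_P(T)` acts trivially on `T / (P ∩ T)`. -/
theorem conj_top_mem {F : FusionSystem S} {P T : Subgroup Ω} (hP : F.StronglyClosed P)
    (hTS : T ≤ S) {g : Ω} (hgP : g ∈ P) (hgN : g ∈ Subgroup.normalizer (T : Set Ω)) (t : T) :
    t⁻¹ * conjAut T g hgN t ∈ P.subgroupOf T := by
  rw [Subgroup.mem_subgroupOf]
  show ((t : Ω))⁻¹ * (g * (t : Ω) * g⁻¹) ∈ P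
  have h2 : ((t : Ω))⁻¹ * g * ((t : Ω))⁻¹⁻¹ ∈ P :=
    stronglyClosed_conj_mem hP (S.inv_mem (hTS t.2)) hgP
  have e : ((t : Ω))⁻¹ * (g * (t : Ω) * g⁻¹) = ((t : Ω))⁻¹ * g * ((t : Ω))⁻¹⁻¹ * g⁻¹ := by
    group
  rw [e]
  exact P.mul_mem h2 (P.inv_mem hgP)

/-- An element of `N_P(T)` acting trivially on `(P ∩ T)/K`, for an invariant `K ≤ Φ(T)`, lies
in `T`. -/
theorem stab_mem [Finite S] {p : ℕ} [Fact p.Prime] (hS : IsPGroup p S) {F : FusionSystem S}
    {P T : Subgroup Ω} (hP : F.StronglyClosed P) (hc : F.IsCentric T) (hr : F.IsRadical p T)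
    [Finite T] (K : Subgroup T) (hKQ : K ≤ P.subgroupOf T) (hKΦ : K ≤ frattini T)
    (hKinv : InvUnder (F.autGroup T) K) {g : Ω} (hgP : g ∈ P)
    (hgN : g ∈ Subgroup.normalizer (T : Set Ω))
    (hg : ∀ q : T, q ∈ P.subgroupOf T → q⁻¹ * conjAut T g hgN q ∈ K) : g ∈ T := by
  have hTS := hc.1
  have hgS := hP.1 hgP
  have hQinv := invUnder_subgroupOf hP hTS
  have hgA := conjAut_mem_autGroup F hTS hgS hgN
  refine mem_of_stabilizes hS hc hr (ch4 (P.subgroupOf T) K K) (ch4_mono hKQ le_rfl) 2 rfl hKΦ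
    ?_ hgS hgN ?_
  · intro i
    match i with
    | 0 => intro α _ t _; exact Subgroup.mem_top _
    | 1 => exact fun α hα t ht => hQinv α hα t ht
    | 2 => exact fun α hα t ht => hKinv α hα t ht
    | (k + 3) => exact fun α hα t ht => hKinv α hα t ht
  · intro i t ht
    match i with
    | 0 => exact conj_top_mem hP hTS hgP hgN t
    | 1 => exact hg t ht
    | 2 => exact K.mul_mem (K.inv_mem ht) (hKinv _ hgA t ht)
    | (k + 3) => exact K.mul_mem (K.inv_mem ht) (hKinv _ hgA t ht)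

/-- If `Aut_F(T)` induces a `p`-group on `P ∩ T`, then `P ≤ T`. -/
theorem le_of_res_pgroup [Finite S] {p : ℕ} [Fact p.Prime] (hS : IsPGroup p S)
    {F : FusionSystem S} {P T : Subgroup Ω} (hP : F.StronglyClosed P) (hc : F.IsCentric T)
    (hr : F.IsRadical p T) [Finite T]
    (hres : IsPGroup p
      (resAutH (F.autGroup T) (P.subgroupOf T) (invUnder_subgroupOf hP hc.1)).range) :
    P ≤ T := by
  have hTS := hc.1
  have hTp : IsPGroup p T := hS.to_le hTS
  have hQinv := invUnder_subgroupOf hP hTS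
  have hmono' := ch4_mono (le_refl (P.subgroupOf T)) (le_refl (P.subgroupOf T))
  have hinv' : ∀ i, ∀ α ∈ F.autGroup T,
      ∀ y ∈ ch4 (P.subgroupOf T) (P.subgroupOf T) (P.subgroupOf T) i,
      α y ∈ ch4 (P.subgroupOf T) (P.subgroupOf T) (P.subgroupOf T) i := by
    intro i
    match i with
    | 0 => intro α _ t _; exact Subgroup.mem_top _
    | 1 => exact fun α hα t ht => hQinv α hα t ht
    | 2 => exact fun α hα t ht => hQinv α hα t ht
    | (k + 3) => exact fun α hα t ht => hQinv α hα t ht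
  apply le_of_centric_radical_of_normalizer hS hP.1 (stronglyClosed_le_normalizer hP) hc hr
    (chainB F T _ hmono') inf_le_right (chainB_normal F T _ hmono' hinv')
  · rintro ⟨β, hβ⟩
    obtain ⟨k, hk⟩ := hres ⟨resAutH _ _ hQinv ⟨β, hβ.2⟩, ⟨_, rfl⟩⟩
    have hk' : (resAutH (F.autGroup T) (P.subgroupOf T) hQinv ⟨β, hβ.2⟩) ^ p ^ k = 1 := by
      have := congrArg Subtype.val hk
      simpa using this
    have hfix : ∀ t : T, t ∈ P.subgroupOf T → (β ^ p ^ k) t = t := by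
      intro t ht
      have h1 : resAutH (F.autGroup T) (P.subgroupOf T) hQinv (⟨β, hβ.2⟩ ^ p ^ k) = 1 := by
        rw [map_pow, hk']
      have h2 := resAutH_apply (F.autGroup T) (P.subgroupOf T) hQinv (⟨β, hβ.2⟩ ^ p ^ k) ⟨t, ht⟩
      rw [h1] at h2
      have h3 : (((⟨β, hβ.2⟩ : ↥(F.autGroup T)) ^ p ^ k : ↥(F.autGroup T)) : MulAut T) =
          β ^ p ^ k := by
        rw [Subgroup.coe_pow]
      rw [h3] at h2
      exact h2.symm
    have hst : Stabilizes (ch4 (P.subgroupOf T) ⊥ ⊥) (β ^ p ^ k) := by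
      intro i t ht
      match i with
      | 0 => exact (Stabilizes.pow hmono' hβ.1 _) 0 t (Subgroup.mem_top _)
      | 1 =>
        show t⁻¹ * (β ^ p ^ k) t ∈ (⊥ : Subgroup T)
        rw [Subgroup.mem_bot, hfix t ht, inv_mul_cancel]
      | 2 =>
        show t⁻¹ * (β ^ p ^ k) t ∈ (⊥ : Subgroup T)
        have ht' : t ∈ (⊥ : Subgroup T) := ht
        rw [Subgroup.mem_bot] at ht' ⊢
        rw [ht', map_one, inv_one, one_mul]
      | (j + 3) =>
        show t⁻¹ * (β ^ p ^ k) t ∈ (⊥ : Subgroup T)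
        have ht' : t ∈ (⊥ : Subgroup T) := ht
        rw [Subgroup.mem_bot] at ht' ⊢
        rw [ht', map_one, inv_one, one_mul]
    obtain ⟨m, hm⟩ := pow_eq_one_of_stabilizes hTp
      (ch4_mono (X := P.subgroupOf T) (Y := ⊥) (Z := ⊥) bot_le le_rfl) 2 rfl rfl hst
    refine ⟨k + m, Subtype.ext ?_⟩
    show β ^ p ^ (k + m) = 1
    rw [pow_add, pow_mul]
    exact hm
  · intro g hgP hgN
    have hgS := hP.1 hgP
    have hgA := conjAut_mem_autGroup F hTS hgS hgN
    refine ⟨conjAut T g hgN, ⟨?_, hgA⟩, fun x => rfl⟩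
    intro i t ht
    match i with
    | 0 => exact conj_top_mem hP hTS hgP hgN t
    | 1 => exact Subgroup.mul_mem _ (Subgroup.inv_mem _ ht) (hQinv _ hgA t ht)
    | 2 => exact Subgroup.mul_mem _ (Subgroup.inv_mem _ ht) (hQinv _ hgA t ht)
    | (j + 3) => exact Subgroup.mul_mem _ (Subgroup.inv_mem _ ht) (hQinv _ hgA t ht)

/-- In a `p`-group `S`: if the subgroup `C`, normalized by `T`, is not contained in `T`, some
element of `N_C(T)` lies outside `T`. -/
theorem exists_normalizer_elt' [Finite S] {p : ℕ} [Fact p.Prime] (hS : IsPGroup p S)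
    {C T : Subgroup Ω} (hCS : C ≤ S) (hTn : T ≤ Subgroup.normalizer (C : Set Ω)) (hTS : T ≤ S)
    (h : ¬ C ≤ T) : ∃ x ∈ C, x ∈ Subgroup.normalizer (T : Set Ω) ∧ x ∉ T := by
  set R := T ⊔ C with hR
  have hRS : R ≤ S := sup_le hTS hCS
  haveI hfinR : Finite R := finite_of_le S hRS
  have hRp : IsPGroup p R := hS.to_le hRS
  have hTR : T ≠ R := by
    intro h'
    apply h
    rw [h']
    exact le_sup_right
  obtain ⟨g, hgN, hgT⟩ := exists_mem_normalizerIn_not_mem hRp (le_sup_left : T ≤ R) hTR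
  have hmul : (↑(T ⊔ C) : Set Ω) = (T : Set Ω) * (C : Set Ω) :=
    Subgroup.coe_mul_of_left_le_normalizer_right T C hTn
  have hg' : g ∈ (↑(T ⊔ C) : Set Ω) := hgN.1
  rw [hmul] at hg'
  obtain ⟨t, ht, q, hq, rfl⟩ := hg'
  have hqN : q ∈ Subgroup.normalizer (T : Set Ω) := by
    have h1 : t⁻¹ ∈ Subgroup.normalizer (T : Set Ω) := Subgroup.le_normalizer (T.inv_mem ht)
    have h2 := Subgroup.mul_mem _ h1 hgN.2
    simpa using h2
  have hqT : q ∉ T := fun hqT => hgT (T.mul_mem ht hqT)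
  exact ⟨q, hq, hqN, hqT⟩

/-- A subgroup `C ≤ P` normalized by `T` and acting trivially on `(P ∩ T)/K` lies in `T`. -/
theorem cent_le [Finite S] {p : ℕ} [Fact p.Prime] (hS : IsPGroup p S) {F : FusionSystem S}
    {P T : Subgroup Ω} (hP : F.StronglyClosed P) (hc : F.IsCentric T) (hr : F.IsRadical p T)
    [Finite T] (K : Subgroup T) (hKQ : K ≤ P.subgroupOf T) (hKΦ : K ≤ frattini T)
    (hKinv : InvUnder (F.autGroup T) K) (C : Subgroup Ω) (hCP : C ≤ P)
    (hTn : T ≤ Subgroup.normalizer (C : Set Ω))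
    (hC : ∀ g ∈ C, ∀ q ∈ P ⊓ T, q⁻¹ * (g * q * g⁻¹) ∈ K.map T.subtype) : C ≤ T := by
  by_contra hnot
  obtain ⟨g, hgC, hgN, hgT⟩ := exists_normalizer_elt' hS (hCP.trans hP.1) hTn hc.1 hnot
  apply hgT
  apply stab_mem hS hP hc hr K hKQ hKΦ hKinv (hCP hgC) hgN
  intro q hq
  obtain ⟨k, hk, hkeq⟩ := hC g hgC (q : Ω) ⟨Subgroup.mem_subgroupOf.1 hq, q.2⟩
  have : k = q⁻¹ * conjAut T g hgN q := Subtype.ext hkeq
  rw [← this]
  exact hk

end Cfsg.Agent.Lib.H26.MetaSC
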