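import Mathlib

set_option autoImplicit false

/-!
Facts on the quaternion group of order eight and on homocyclic groups of rank two, transported
along isomorphisms (helper26).
-/

namespace Cfsg.Agent.Lib.H26.MetaTwo

theorem q8_center_sq : ∀ z : QuaternionGroup 2, (∀ g : QuaternionGroup 2, g * z = z * g) →
    ∃ r : QuaternionGroup 2, z = r * r := by decide

theorem q8_center_card : Nat.card (Subgroup.center (QuaternionGroup 2)) = 2 := by
  rw [Nat.card_eq_fintype_card]
  decide

variable {X : Type*} [Group X]

theorem card_of_quat (e : X ≃* QuaternionGroup 2) : Nat.card X = 8 := by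
  rw [Nat.card_congr e.toEquiv, Nat.card_eq_fintype_card, QuaternionGroup.card]

theorem card_center_of_quat (e : X ≃* QuaternionGroup 2) :
    Nat.card (Subgroup.center X) = 2 := by
  have e2 : Subgroup.center X ≃ Subgroup.center (QuaternionGroup 2) :=
    { toFun := fun r => ⟨e r.1, by
        rw [Subgroup.mem_center_iff]
        intro k
        have := Subgroup.mem_center_iff.mp r.2 (e.symm k)
        have h3 := congrArg e this
        rw [map_mul, map_mul, e.apply_symm_apply] at h3
        exact h3⟩
      invFun := fun r => ⟨e.symm r.1, by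
        rw [Subgroup.mem_center_iff]
        intro k
        have := Subgroup.mem_center_iff.mp r.2 (e k)
        have h3 := congrArg e.symm this
        rw [map_mul, map_mul, e.symm_apply_apply] at h3
        exact h3⟩
      left_inv := fun r => Subtype.ext (e.symm_apply_apply _)
      right_inv := fun r => Subtype.ext (e.apply_symm_apply _) }
  rw [Nat.card_congr e2, q8_center_card]

theorem center_sq_of_quat (e : X ≃* QuaternionGroup 2) {z : X} (hz : z ∈ Subgroup.center X) :
    ∃ r : X, z = r * r := by
  have h1 : ∀ g : QuaternionGroup 2, g * e z = e z * g := by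
    intro g
    have := Subgroup.mem_center_iff.mp hz (e.symm g)
    have h3 := congrArg e this
    rw [map_mul, map_mul, e.apply_symm_apply] at h3
    exact h3
  obtain ⟨r, hr⟩ := q8_center_sq (e z) h1
  refine ⟨e.symm r, ?_⟩
  apply e.injective
  rw [map_mul, e.apply_symm_apply]
  exact hr

/-! ### homocyclic groups of rank two -/

theorem pow_eq_one_mulZMod (m : ℕ) (a : Multiplicative (ZMod m)) : a ^ m = 1 := by
  have h : (m : ℕ) • (Multiplicative.toAdd a) = 0 := by
    rw [nsmul_eq_mul, ZMod.natCast_self, zero_mul]
  have h2 : a ^ m = Multiplicative.ofAdd ((m : ℕ) • Multiplicative.toAdd a) := rfl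
  rw [h2, h]
  rfl

theorem comm_of_homocyclic {m : ℕ} (e : X ≃* Multiplicative (ZMod m) × Multiplicative (ZMod m))
    (a b : X) : a * b = b * a := by
  apply e.injective
  rw [map_mul, map_mul, mul_comm]

theorem pow_of_homocyclic {m : ℕ} (e : X ≃* Multiplicative (ZMod m) × Multiplicative (ZMod m))
    (a : X) : a ^ m = 1 := by
  apply e.injective
  rw [map_pow, map_one]
  apply Prod.ext
  · rw [Prod.pow_fst]
    exact pow_eq_one_mulZMod m _
  · rw [Prod.pow_snd]
    exact pow_eq_one_mulZMod m _

theorem card_of_homocyclic {m : ℕ} (e : X ≃* Multiplicative (ZMod m) × Multiplicative (ZMod m)) :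
    Nat.card X = m * m := by
  rw [Nat.card_congr e.toEquiv, Nat.card_prod]
  have : Nat.card (Multiplicative (ZMod m)) = m := by
    rw [Nat.card_congr Multiplicative.toAdd, Nat.card_zmod]
  rw [this]

end Cfsg.Agent.Lib.H26.MetaTwo
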