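import Mathlib
import Cfsg.Prelude.Def_OddOrderLocal

set_option autoImplicit false

/-!
Metacyclic `2`-groups with an abelian subgroup `Q` of index two of exponent `2^e`, `e ≥ 2`, and
order greater than `2^(e+1)` (helper26): every element outside `Q` acts trivially on `Q / Q²`.
-/

namespace Cfsg.Agent.Lib.H26.MetaTwo

variable {G : Type*} [Group G]

/-- the twist `q ↦ q⁻¹ (w q w⁻¹)` -/
def tw (w q : G) : G := q⁻¹ * (w * q * w⁻¹)

theorem conj_mem_of_index_two {Q : Subgroup G} (hidx : Q.index = 2) (w : G) {q : G} (hq : q ∈ Q) :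
    w * q * w⁻¹ ∈ Q := by
  haveI := Subgroup.normal_of_index_eq_two hidx
  exact Subgroup.Normal.conj_mem inferInstance q hq w

theorem tw_mem {Q : Subgroup G} (hidx : Q.index = 2) (w : G) {q : G} (hq : q ∈ Q) : tw w q ∈ Q :=
  Q.mul_mem (Q.inv_mem hq) (conj_mem_of_index_two hidx w hq)

theorem tw_mul {Q : Subgroup G} (hQc : ∀ a ∈ Q, ∀ b ∈ Q, a * b = b * a) (hidx : Q.index = 2)
    (w : G) {a b : G} (ha : a ∈ Q) (hb : b ∈ Q) : tw w (a * b) = tw w a * tw w b := by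
  unfold tw
  have h1 : w * a * w⁻¹ ∈ Q := conj_mem_of_index_two hidx w ha
  have h2 := hQc b⁻¹ (Q.inv_mem hb) (a⁻¹ * (w * a * w⁻¹)) (Q.mul_mem (Q.inv_mem ha) h1)
  calc (a * b)⁻¹ * (w * (a * b) * w⁻¹) = b⁻¹ * (a⁻¹ * (w * a * w⁻¹)) * (w * b * w⁻¹) := by group
    _ = (a⁻¹ * (w * a * w⁻¹)) * b⁻¹ * (w * b * w⁻¹) := by rw [h2]
    _ = _ := by group

theorem tw_eq_of_not_mem {Q : Subgroup G} (hQc : ∀ a ∈ Q, ∀ b ∈ Q, a * b = b * a)
    (hidx : Q.index = 2) {w w' : G} (hw : w ∉ Q) (hw' : w' ∉ Q) {q : G} (hq : q ∈ Q) :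
    tw w' q = tw w q := by
  have h0 : w⁻¹ * w' ∈ Q := by
    rw [Subgroup.mul_mem_iff_of_index_two hidx]
    exact iff_of_false (fun h => hw (Q.inv_mem_iff.1 h)) hw'
  have h1 := hQc _ h0 q hq
  unfold tw
  congr 1
  have e : w' = w * (w⁻¹ * w') := by group
  calc w' * q * w'⁻¹ = w * ((w⁻¹ * w') * q) * (w⁻¹ * w')⁻¹ * w⁻¹ := by
        conv_lhs => rw [e]
        group
    _ = w * (q * (w⁻¹ * w')) * (w⁻¹ * w')⁻¹ * w⁻¹ := by rw [h1]
    _ = w * q * w⁻¹ := by group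

/-- case `N ≤ Q` -/
theorem tw_sq_case1 [Finite G] (hG : IsPGroup 2 G) (Q : Subgroup G)
    (hQc : ∀ a ∈ Q, ∀ b ∈ Q, a * b = b * a) (hidx : Q.index = 2)
    (N : Subgroup G) [hN : N.Normal] (hNc : IsCyclic N) (hq : IsCyclic (G ⧸ N)) (hle : N ≤ Q) :
    ∃ w, w ∉ Q ∧ ∀ q ∈ Q, ∃ r ∈ Q, tw w q = r * r := by
  obtain ⟨gb, hgb⟩ := hq.exists_generator
  obtain ⟨w, rfl⟩ := QuotientGroup.mk_surjective gb
  have hdecomp : ∀ g : G, ∃ k : ℤ, ∃ a ∈ N, g = w ^ k * a := by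
    intro g
    obtain ⟨k, hk⟩ := Subgroup.mem_zpowers_iff.1 (hgb (g : G ⧸ N))
    refine ⟨k, (w ^ k)⁻¹ * g, ?_, by group⟩
    rw [← QuotientGroup.eq, QuotientGroup.mk_zpow]
    exact hk
  have hwQ : w ∉ Q := by
    intro hw
    have : Q = ⊤ := by
      rw [eq_top_iff]
      intro g _
      obtain ⟨k, a, ha, rfl⟩ := hdecomp g
      exact Q.mul_mem (Q.zpow_mem hw k) (hle ha)
    rw [this, Subgroup.index_top] at hidx
    omega
  refine ⟨w, hwQ, ?_⟩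
  obtain ⟨⟨a₁, ha₁N⟩, ha₁⟩ := hNc.exists_generator
  have hgenN : ∀ a ∈ N, ∃ i : ℤ, a₁ ^ i = a := by
    intro a ha
    obtain ⟨i, hi⟩ := Subgroup.mem_zpowers_iff.1 (ha₁ ⟨a, ha⟩)
    refine ⟨i, ?_⟩
    have := congrArg Subtype.val hi
    simpa using this
  have hconj1 : w * a₁ * w⁻¹ ∈ N := hN.conj_mem a₁ ha₁N w
  obtain ⟨r, hr⟩ := hgenN _ hconj1
  have hconj2 : w⁻¹ * a₁ * w ∈ N := by
    have := hN.conj_mem a₁ ha₁N w⁻¹
    simpa using this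
  obtain ⟨r', hr'⟩ := hgenN _ hconj2
  have hrr : a₁ ^ (r * r') = a₁ := by
    rw [zpow_mul, hr, conj_zpow, hr']
    group
  -- the twist of an element of `N`
  have hodd : a₁ = 1 ∨ ∃ s : ℤ, r = 2 * s + 1 := by
    by_cases h1 : a₁ = 1
    · exact Or.inl h1
    right
    obtain ⟨k', hk'⟩ := (IsPGroup.iff_orderOf.mp hG) a₁
    have hk0 : k' ≠ 0 := by
      intro h0
      rw [h0, pow_zero, orderOf_eq_one_iff] at hk'
      exact h1 hk'
    have h2 : a₁ ^ (r * r' - 1) = 1 := by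
      rw [zpow_sub, hrr, zpow_one, mul_inv_cancel]
    have h3 : (orderOf a₁ : ℤ) ∣ r * r' - 1 := orderOf_dvd_iff_zpow_eq_one.2 h2
    have h4 : (2 : ℤ) ∣ (orderOf a₁ : ℤ) := by
      rw [hk']
      push_cast
      exact dvd_pow_self 2 hk0
    obtain ⟨c, hc⟩ := h4.trans h3
    rcases Int.even_or_odd' r with ⟨s, hs | hs⟩
    · exfalso
      rw [hs] at hc
      have : 2 * (s * r') - 1 = 2 * c := by rw [← hc]; ring
      omega
    · exact ⟨s, hs⟩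
  intro q hq'
  obtain ⟨k, a, ha, rfl⟩ := hdecomp q
  have haQ : a ∈ Q := hle ha
  have hwk : w ^ k ∈ Q := by
    have : w ^ k = (w ^ k * a) * a⁻¹ := by group
    rw [this]
    exact Q.mul_mem hq' (Q.inv_mem haQ)
  have h5 : tw w (w ^ k) = 1 := by
    unfold tw
    group
  rw [tw_mul hQc hidx w hwk haQ, h5, one_mul]
  obtain ⟨i, rfl⟩ := hgenN a ha
  rcases hodd with h1 | ⟨s, hs⟩
  · refine ⟨1, Q.one_mem, ?_⟩
    rw [h1]
    unfold tw
    simp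
  · refine ⟨a₁ ^ (s * i), Q.zpow_mem (hle ha₁N) _, ?_⟩
    unfold tw
    rw [← conj_zpow, ← hr, ← zpow_mul, ← zpow_neg, ← zpow_add, ← zpow_add, hs]
    congr 1
    ring

end Cfsg.Agent.Lib.H26.MetaTwo
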