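import Mathlib
import Cfsg.Agent.Lib.H26.MetaTwoTw

set_option autoImplicit false

/-!
Second case (`N ≰ Q`) and the main lemma on the twist in metacyclic `2`-groups (helper26).
-/

namespace Cfsg.Agent.Lib.H26.MetaTwo

variable {G : Type*} [Group G]

/-- case `N ≰ Q` -/
theorem tw_sq_case2 [Finite G] (hG : IsPGroup 2 G) (Q : Subgroup G)
    (hQc : ∀ a ∈ Q, ∀ b ∈ Q, a * b = b * a) (hidx : Q.index = 2) {e : ℕ}
    (hexp : ∀ q ∈ Q, q ^ (2 ^ e) = 1) (hcard : 2 ^ e * 2 < Nat.card Q)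
    (N : Subgroup G) [hN : N.Normal] (hNc : IsCyclic N) (hq : IsCyclic (G ⧸ N)) (hle : ¬ N ≤ Q) :
    ∃ w, w ∉ Q ∧ ∀ q ∈ Q, ∃ r ∈ Q, tw w q = r * r := by
  obtain ⟨⟨w, hwN⟩, hwgen⟩ := hNc.exists_generator
  have hgenN : ∀ a ∈ N, ∃ i : ℕ, w ^ i = a := by
    intro a ha
    have h1 := hwgen ⟨a, ha⟩
    rw [← mem_powers_iff_mem_zpowers] at h1
    obtain ⟨i, hi⟩ := h1
    refine ⟨i, ?_⟩
    have := congrArg Subtype.val hi
    simpa using this
  have hwQ : w ∉ Q := by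
    intro hw
    apply hle
    intro a ha
    obtain ⟨i, rfl⟩ := hgenN a ha
    exact Q.pow_mem hw i
  refine ⟨w, hwQ, ?_⟩
  have hw2 : w * w ∈ Q := (Subgroup.mul_mem_iff_of_index_two hidx).2 Iff.rfl
  have hw2k : ∀ j : ℕ, w ^ (2 * j) ∈ Q := by
    intro j
    rw [pow_mul, pow_two]
    exact Q.pow_mem hw2 j
  have hpar : ∀ i : ℕ, w ^ i ∈ Q → Even i := by
    intro i hi
    rcases Nat.even_or_odd' i with ⟨j, hj | hj⟩
    · exact ⟨j, by omega⟩
    · exfalso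
      apply hwQ
      rw [hj, pow_succ] at hi
      have : w = (w ^ (2 * j))⁻¹ * (w ^ (2 * j) * w) := by group
      rw [this]
      exact Q.mul_mem (Q.inv_mem (hw2k j)) hi
  intro q hqQ
  obtain ⟨t, ht⟩ : ∃ t, t = tw w q := ⟨_, rfl⟩
  rw [← ht]
  have htQ : t ∈ Q := ht ▸ tw_mem hidx w hqQ
  have htN : t ∈ N := by
    have h1 : q⁻¹ * w * q⁻¹⁻¹ ∈ N := hN.conj_mem w hwN q⁻¹
    have e : t = (q⁻¹ * w * q⁻¹⁻¹) * w⁻¹ := by rw [ht]; unfold tw; group
    rw [e]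
    exact N.mul_mem h1 (N.inv_mem hwN)
  obtain ⟨i, hi⟩ := hgenN t htN
  obtain ⟨j, hj⟩ := hpar i (hi ▸ htQ)
  have htw : w * t * w⁻¹ = t := by
    rw [← hi, ← pow_succ', pow_succ, mul_inv_cancel_right]
  have ht2 : t * t = 1 := by
    have hww : (w * w) * q = q * (w * w) := hQc _ hw2 _ hqQ
    have h1 : w * q * w⁻¹ = q * t := by rw [ht]; unfold tw; group
    have h2 : w * (w * q * w⁻¹) * w⁻¹ = q := by
      calc w * (w * q * w⁻¹) * w⁻¹ = (w * w) * q * w⁻¹ * w⁻¹ := by group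
        _ = q * (w * w) * w⁻¹ * w⁻¹ := by rw [hww]
        _ = q := by group
    rw [h1] at h2
    have h3 : w * (q * t) * w⁻¹ = (w * q * w⁻¹) * (w * t * w⁻¹) := by group
    rw [h3, h1, htw] at h2
    have : q * (t * t) = q * 1 := by rw [mul_one, ← mul_assoc]; exact h2
    exact mul_left_cancel this
  rcases Nat.even_or_odd' j with ⟨j', hj' | hj'⟩
  · refine ⟨w ^ j, ?_, ?_⟩
    · rw [hj']
      exact hw2k j'
    · rw [← hi, hj, pow_add]
  · exfalso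
    -- `w ^ 4 = 1`
    have h4j : (w ^ 4) ^ j = 1 := by
      rw [← pow_mul]
      have : 4 * j = i + i := by omega
      rw [this, pow_add, hi, ht2]
    obtain ⟨m, hm⟩ := hG (w ^ 4)
    have hcop : Nat.gcd j (2 ^ m) = 1 := by
      apply Nat.Coprime.pow_right
      rw [Nat.coprime_two_right]
      exact ⟨j', hj'⟩
    have hw4 : w ^ 4 = 1 := by
      have := pow_gcd_eq_one.2 ⟨h4j, hm⟩
      rwa [hcop, pow_one] at this
    -- `N ⊓ Q` has at most two elements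
    have hsmall : ∀ a ∈ N ⊓ Q, a = 1 ∨ a = w * w := by
      rintro a ⟨haN, haQ⟩
      obtain ⟨i', rfl⟩ := hgenN a haN
      obtain ⟨j'', hj''⟩ := hpar i' haQ
      rcases Nat.even_or_odd' j'' with ⟨u, hu | hu⟩
      · left
        have : i' = 4 * u := by omega
        rw [this, pow_mul, hw4, one_pow]
      · right
        have : i' = 4 * u + 2 := by omega
        rw [this, pow_add, pow_mul, hw4, one_pow, one_mul, pow_two]
    have hc2 : Nat.card ↥(N ⊓ Q) ≤ 2 := by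
      have hsub : ((N ⊓ Q : Subgroup G) : Set G) ⊆ {1, w * w} := by
        intro a ha
        rcases hsmall a ha with h | h
        · left; exact h
        · right; exact h
      have h1 : Nat.card ↥(N ⊓ Q) = Set.ncard ((N ⊓ Q : Subgroup G) : Set G) :=
        Nat.card_coe_set_eq _
      rw [h1]
      calc Set.ncard ((N ⊓ Q : Subgroup G) : Set G) ≤ Set.ncard ({1, w * w} : Set G) :=
            Set.ncard_le_ncard hsub (Set.toFinite _)
        _ ≤ 2 := Set.ncard_insert_le _ _ |>.trans (by simp)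
    -- `Q` is a product of a cyclic group and `N ⊓ Q`
    obtain ⟨gb, hgb⟩ := hq.exists_generator
    obtain ⟨g, rfl⟩ := QuotientGroup.mk_surjective gb
    obtain ⟨qg, hqgQ, hqg⟩ : ∃ qg ∈ Q, (qg : G ⧸ N) = (g : G ⧸ N) := by
      by_cases hg : g ∈ Q
      · exact ⟨g, hg, rfl⟩
      · refine ⟨g * w, ?_, ?_⟩
        · rw [Subgroup.mul_mem_iff_of_index_two hidx]
          exact iff_of_false hg hwQ
        · rw [QuotientGroup.mk_mul, (QuotientGroup.eq_one_iff w).2 hwN, mul_one]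
    have hqgexp : qg ^ (2 ^ e) = 1 := hexp qg hqgQ
    have hsurj : ∀ q' : Q, ∃ x : Fin (2 ^ e) × ↥(N ⊓ Q), qg ^ (x.1 : ℕ) * (x.2 : G) = q' := by
      rintro ⟨q', hq'⟩
      obtain ⟨k, hk⟩ := Subgroup.mem_zpowers_iff.1 (hgb (q' : G ⧸ N))
      have hpe : ((2 ^ e : ℕ) : ℤ) ≠ 0 := by positivity
      have hk' : qg ^ k = qg ^ (k % ((2 ^ e : ℕ) : ℤ)).toNat := by
        rw [← zpow_natCast, Int.toNat_of_nonneg (Int.emod_nonneg _ hpe)]
        exact zpow_eq_zpow_emod k (by exact_mod_cast hqgexp)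
      have hlt : (k % ((2 ^ e : ℕ) : ℤ)).toNat < 2 ^ e := by
        have := Int.emod_lt_of_pos k (show (0 : ℤ) < ((2 ^ e : ℕ) : ℤ) by positivity)
        omega
      have haN : (qg ^ k)⁻¹ * q' ∈ N := by
        rw [← QuotientGroup.eq, QuotientGroup.mk_zpow, hqg]
        exact hk
      have haQ : (qg ^ k)⁻¹ * q' ∈ Q := Q.mul_mem (Q.inv_mem (Q.zpow_mem hqgQ k)) hq'
      refine ⟨(⟨_, hlt⟩, ⟨(qg ^ k)⁻¹ * q', ⟨haN, haQ⟩⟩), ?_⟩
      show qg ^ (k % ((2 ^ e : ℕ) : ℤ)).toNat * ((qg ^ k)⁻¹ * q') = q'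
      rw [← hk']
      group
    have hcle : Nat.card Q ≤ Nat.card (Fin (2 ^ e) × ↥(N ⊓ Q)) := by
      let φ : Fin (2 ^ e) × ↥(N ⊓ Q) → Q := fun x =>
        ⟨qg ^ (x.1 : ℕ) * (x.2 : G), Q.mul_mem (Q.pow_mem hqgQ _) x.2.2.2⟩
      apply Nat.card_le_card_of_surjective φ
      intro q'
      obtain ⟨x, hx⟩ := hsurj q'
      exact ⟨x, Subtype.ext hx⟩
    rw [Nat.card_prod, Nat.card_fin] at hcle
    have : 2 ^ e * Nat.card ↥(N ⊓ Q) ≤ 2 ^ e * 2 := Nat.mul_le_mul_left _ hc2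
    omega

/-- In a metacyclic `2`-group with an abelian subgroup `Q` of index two, of exponent dividing
`2^e` and order greater than `2^(e+1)`, every element outside `Q` acts trivially on `Q / Q²`. -/
theorem tw_sq_of_metacyclic [Finite G] (hG : IsPGroup 2 G) (hm : Cfsg.IsMetacyclic G)
    (Q : Subgroup G) (hQc : ∀ a ∈ Q, ∀ b ∈ Q, a * b = b * a) (hidx : Q.index = 2) {e : ℕ}
    (hexp : ∀ q ∈ Q, q ^ (2 ^ e) = 1) (hcard : 2 ^ e * 2 < Nat.card Q) {w : G} (hw : w ∉ Q)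
    {q : G} (hq : q ∈ Q) : ∃ r ∈ Q, tw w q = r * r := by
  obtain ⟨N, hN, hNc, hquot⟩ := hm
  have key : ∃ w₀, w₀ ∉ Q ∧ ∀ q ∈ Q, ∃ r ∈ Q, tw w₀ q = r * r := by
    by_cases hle : N ≤ Q
    · exact tw_sq_case1 hG Q hQc hidx N hNc hquot hle
    · exact tw_sq_case2 hG Q hQc hidx hexp hcard N hNc hquot hle
  obtain ⟨w₀, hw₀, h⟩ := key
  rw [tw_eq_of_not_mem hQc hidx hw₀ hw hq]
  exact h q hq

end Cfsg.Agent.Lib.H26.MetaTwo
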