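import Mathlib
import Cfsg.Agent.S5080
import Cfsg.Agent.Lib.H26.MetaSC2Basic
import Cfsg.Agent.Lib.H26.MetaTwoTw2
import Cfsg.Agent.Lib.H26.MetaTwoFacts
import Cfsg.Agent.Lib.H5.Metacyclic2b

set_option autoImplicit false

/-!
The local configuration for `p = 2` (helper26): `P` strongly closed metacyclic, `T` essential,
`P ≰ T`.  Then `P ∩ T` is quaternion of order eight or a four-group.
-/

namespace Cfsg.Agent.Lib.H26.MetaSC

open Cfsg Cfsg.FusionSystem Cfsg.Agent.Lib.H25 Cfsg.Agent.Lib.H26.ChainStab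
  Cfsg.Agent.Lib.H26.Model Cfsg.Agent.Lib.H26.CycChain Cfsg.Agent.Lib.H26.MetaTwo
open scoped Pointwise

universe u

variable {Ω : Type u} [Group Ω] {S : Subgroup Ω}

/-- The local configuration for `p = 2`. -/
structure Ctx2 [Finite S] (F : FusionSystem S) (P T : Subgroup Ω) : Prop where
  hS : IsPGroup 2 S
  hF : F.IsSaturated 2
  hP : F.StronglyClosed P
  hm : Cfsg.IsMetacyclic ↥P
  hT : F.IsEssential 2 T
  hnot : ¬ P ≤ T

theorem fact_two : Fact (Nat.Prime 2) := ⟨Nat.prime_two⟩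

attribute [local instance] fact_two

namespace Ctx2

variable [Finite S] {F : FusionSystem S} {P T : Subgroup Ω}

theorem hTS (h : Ctx2 F P T) : T ≤ S := h.hT.1.1
theorem hc (h : Ctx2 F P T) : F.IsCentric T := h.hT.1
theorem hr (h : Ctx2 F P T) : F.IsRadical 2 T := Cfsg.Agent.S5080.result 2 h.hS F h.hF T h.hT
theorem finT (h : Ctx2 F P T) : Finite T := finite_of_le S h.hTS
theorem finP (h : Ctx2 F P T) : Finite P := finite_of_le S h.hP.1
theorem hTp (h : Ctx2 F P T) : IsPGroup 2 T := h.hS.to_le h.hTS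
theorem hPp (h : Ctx2 F P T) : IsPGroup 2 P := h.hS.to_le h.hP.1
theorem hQinv (h : Ctx2 F P T) : InvUnder (F.autGroup T) (P.subgroupOf T) :=
  invUnder_subgroupOf h.hP h.hTS
theorem finQ (h : Ctx2 F P T) : Finite ↥(P.subgroupOf T) :=
  haveI := h.finT
  inferInstance
theorem hQp (h : Ctx2 F P T) : IsPGroup 2 ↥(P.subgroupOf T) := h.hTp.to_subgroup _
theorem hQm (h : Ctx2 F P T) : Cfsg.IsMetacyclic ↥(P.subgroupOf T) :=
  isMetacyclic_subgroupOf h.hm

theorem not_pgroup_aut (h : Ctx2 F P T) : ¬ IsPGroup 2 (MulAut ↥(P.subgroupOf T)) := by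
  haveI := h.finT
  intro hA
  exact h.hnot (le_of_res_pgroup h.hS h.hP h.hc h.hr (hA.to_subgroup _))

theorem struct (h : Ctx2 F P T) : Nonempty (↥(P.subgroupOf T) ≃* QuaternionGroup 2) ∨
    ∃ n : ℕ, Nonempty (↥(P.subgroupOf T) ≃*
      Multiplicative (ZMod (2 ^ n)) × Multiplicative (ZMod (2 ^ n))) :=
  haveI := h.finQ
  Cfsg.Agent.Lib.H5.MC2.main h.hQp h.hQm h.not_pgroup_aut

theorem card_inf (h : Ctx2 F P T) : Nat.card ↥(P ⊓ T) = Nat.card ↥(P.subgroupOf T) := by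
  rw [← Subgroup.subgroupOf_map_subtype]
  exact Subgroup.card_map_of_injective (Subgroup.subtype_injective T)

end Ctx2

end Cfsg.Agent.Lib.H26.MetaSC
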