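import Mathlib
import Cfsg.Agent.Lib.H26.MetaSC2Ctx
import Cfsg.Agent.Lib.H16.Metacyclic

set_option autoImplicit false

/-!
The homocyclic case (helper26): if `P ∩ T ≅ C_{2^n} × C_{2^n}` then `n = 1`.
-/

namespace Cfsg.Agent.Lib.H26.MetaSC

open Cfsg Cfsg.FusionSystem Cfsg.Agent.Lib.H25 Cfsg.Agent.Lib.H26.ChainStab
  Cfsg.Agent.Lib.H26.Model Cfsg.Agent.Lib.H26.CycChain Cfsg.Agent.Lib.H26.MetaTwo
open scoped Pointwise

universe u

variable {Ω : Type u} [Group Ω] {S : Subgroup Ω}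

/-- `Q⟨x⟩` has `Q` as a subgroup of index two when `x ∉ Q` normalizes `Q` and `x² ∈ Q`. -/
theorem index_two_of_sq {Q : Subgroup Ω} {x : Ω}
    (hxN : Subgroup.zpowers x ≤ Subgroup.normalizer (Q : Set Ω)) (hx : x ∉ Q) (hx2 : x ^ 2 ∈ Q) :
    (Q.subgroupOf (Q ⊔ Subgroup.zpowers x)).index = 2 := by
  have hmul : (↑(Q ⊔ Subgroup.zpowers x) : Set Ω) = (Q : Set Ω) * (Subgroup.zpowers x : Set Ω) :=
    Subgroup.coe_mul_of_right_le_normalizer_left Q _ hxN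
  have hev : ∀ k : ℤ, x ^ k ∈ Q ↔ Even k := by
    intro k
    constructor
    · intro hk
      rcases Int.even_or_odd' k with ⟨j, hj | hj⟩
      · exact ⟨j, by omega⟩
      · exfalso
        apply hx
        have h1 : x ^ (2 * j) ∈ Q := by
          rw [zpow_mul]
          exact Q.zpow_mem (by simpa using hx2) j
        have h2 : x = (x ^ (2 * j))⁻¹ * x ^ k := by
          rw [hj, zpow_add, zpow_one]
          group
        rw [h2]
        exact Q.mul_mem (Q.inv_mem h1) hk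
    · rintro ⟨j, rfl⟩
      rw [← two_mul, zpow_mul]
      exact Q.zpow_mem (by simpa using hx2) j
  have hxY : x ∈ Q ⊔ Subgroup.zpowers x := le_sup_right (a := Q) (Subgroup.mem_zpowers x)
  rw [Subgroup.index_eq_two_iff]
  refine ⟨⟨x, hxY⟩, ?_⟩
  rintro ⟨b, hb⟩
  have hb' : b ∈ (↑(Q ⊔ Subgroup.zpowers x) : Set Ω) := hb
  rw [hmul] at hb'
  obtain ⟨q, hq, g, hg, rfl⟩ := hb'
  obtain ⟨k, rfl⟩ := Subgroup.mem_zpowers_iff.1 hg
  have hq' : q ∈ Q := hq
  have e1 : (⟨q * x ^ k, hb⟩ * ⟨x, hxY⟩ : ↥(Q ⊔ Subgroup.zpowers x)) ∈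
      Q.subgroupOf (Q ⊔ Subgroup.zpowers x) ↔ Even (k + 1) := by
    rw [Subgroup.mem_subgroupOf]
    show q * x ^ k * x ∈ Q ↔ _
    rw [mul_assoc, ← zpow_add_one, Subgroup.mul_mem_cancel_left Q hq', hev]
  have e2 : (⟨q * x ^ k, hb⟩ : ↥(Q ⊔ Subgroup.zpowers x)) ∈
      Q.subgroupOf (Q ⊔ Subgroup.zpowers x) ↔ Even k := by
    rw [Subgroup.mem_subgroupOf]
    show q * x ^ k ∈ Q ↔ _
    rw [Subgroup.mul_mem_cancel_left Q hq', hev]
  rw [e1, e2, Int.even_add_one]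
  by_cases hk : Even k
  · exact Or.inr ⟨hk, not_not.2 hk⟩
  · exact Or.inl ⟨hk, hk⟩

namespace Ctx2

variable [Finite S] {F : FusionSystem S} {P T : Subgroup Ω}

theorem homocyclic_case (h : Ctx2 F P T) {n : ℕ}
    (e : ↥(P.subgroupOf T) ≃* Multiplicative (ZMod (2 ^ n)) × Multiplicative (ZMod (2 ^ n))) :
    n = 1 := by
  haveI := h.finT
  haveI := h.finQ
  obtain ⟨x, hxP, hxN, hxT, hx2⟩ := exists_normalizer_elt h.hS h.hP.1
    (stronglyClosed_le_normalizer h.hP) h.hTS h.hnot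
  have hcQ := comm_of_homocyclic e
  have hexpQ := pow_of_homocyclic e
  have hcardQ := card_of_homocyclic e
  by_contra hn1
  apply hxT
  apply stab_mem h.hS h.hP h.hc h.hr ((frattini ↥(P.subgroupOf T)).map (P.subgroupOf T).subtype)
    (Subgroup.map_subtype_le _) (frattini_map_le h.hTp (P.subgroupOf T))
    (invUnder_map_char _ _ h.hQinv (frattini ↥(P.subgroupOf T)) inferInstance) hxP hxN
  intro q hq
  rcases Nat.lt_or_ge n 1 with hn0 | hn2
  · -- `n = 0`: the group is trivial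
    have hn : n = 0 := by omega
    rw [hn, pow_zero, one_mul] at hcardQ
    have hsub : Subsingleton ↥(P.subgroupOf T) := (Nat.card_eq_one_iff_unique.1 hcardQ).1
    have hq1 : (⟨q, hq⟩ : ↥(P.subgroupOf T)) = 1 := Subsingleton.elim _ _
    have hq1' : q = 1 := congrArg Subtype.val hq1
    rw [hq1', map_one, inv_one, one_mul]
    exact Subgroup.one_mem _
  · have hn2' : 2 ≤ n := by omega
    -- the subgroup `Y`
    obtain ⟨Qo, hQo⟩ : ∃ Qo, Qo = P ⊓ T := ⟨_, rfl⟩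
    have hxQo : x ∉ Qo := fun hx => hxT (hQo ▸ hx).2
    have hx2Qo : x ^ 2 ∈ Qo := by
      rw [hQo]
      exact ⟨P.pow_mem hxP 2, hx2⟩
    have hnorm : Subgroup.zpowers x ≤ Subgroup.normalizer (Qo : Set Ω) := by
      rw [Subgroup.zpowers_le, Subgroup.mem_normalizer_iff, hQo]
      intro y
      constructor
      · rintro ⟨hyP, hyT⟩
        exact ⟨P.mul_mem (P.mul_mem hxP hyP) (P.inv_mem hxP),
          (Subgroup.mem_normalizer_iff.1 hxN y).1 hyT⟩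
      · rintro ⟨hyP, hyT⟩
        refine ⟨?_, (Subgroup.mem_normalizer_iff.1 hxN y).2 hyT⟩
        have := P.mul_mem (P.mul_mem (P.inv_mem hxP) hyP) hxP
        simpa [mul_assoc] using this
    obtain ⟨Y, hY⟩ : ∃ Y, Y = Qo ⊔ Subgroup.zpowers x := ⟨_, rfl⟩
    have hidx : (Qo.subgroupOf Y).index = 2 := hY ▸ index_two_of_sq hnorm hxQo hx2Qo
    have hYP : Y ≤ P := by
      rw [hY, hQo]
      exact sup_le inf_le_left (Subgroup.zpowers_le.2 hxP)
    have hxY : x ∈ Y := hY ▸ le_sup_right (a := Qo) (Subgroup.mem_zpowers x)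
    have hQoY : Qo ≤ Y := hY ▸ le_sup_left
    haveI : Finite Y := finite_of_le S (hYP.trans h.hP.1)
    have hYp : IsPGroup 2 Y := h.hS.to_le (hYP.trans h.hP.1)
    have hYm : Cfsg.IsMetacyclic ↥Y := Cfsg.Agent.Lib.H16.Meta.isMetacyclic_of_le hYP h.hm
    -- facts on `Qo` inside `Y`
    have hlift : ∀ a : Ω, a ∈ Qo → ∃ a' : ↥(P.subgroupOf T), ((a' : T) : Ω) = a := by
      intro a ha
      rw [hQo] at ha
      exact ⟨⟨⟨a, ha.2⟩, Subgroup.mem_subgroupOf.2 ha.1⟩, rfl⟩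
    have hQc : ∀ a ∈ Qo.subgroupOf Y, ∀ b ∈ Qo.subgroupOf Y, a * b = b * a := by
      intro a ha b hb
      obtain ⟨a', ha'⟩ := hlift a (Subgroup.mem_subgroupOf.1 ha)
      obtain ⟨b', hb'⟩ := hlift b (Subgroup.mem_subgroupOf.1 hb)
      apply Subtype.ext
      show (a : Ω) * (b : Ω) = (b : Ω) * (a : Ω)
      rw [← ha', ← hb']
      exact congrArg (fun w : ↥(P.subgroupOf T) => ((w : T) : Ω)) (hcQ a' b')
    have hexp : ∀ a ∈ Qo.subgroupOf Y, a ^ (2 ^ n) = 1 := by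
      intro a ha
      obtain ⟨a', ha'⟩ := hlift a (Subgroup.mem_subgroupOf.1 ha)
      apply Subtype.ext
      show (a : Ω) ^ (2 ^ n) = 1
      rw [← ha']
      exact congrArg (fun w : ↥(P.subgroupOf T) => ((w : T) : Ω)) (hexpQ a')
    have hcard : 2 ^ n * 2 < Nat.card ↥(Qo.subgroupOf Y) := by
      have h1 : Nat.card ↥(Qo.subgroupOf Y) = Nat.card Qo :=
        Nat.card_congr (Subgroup.subgroupOfEquivOfLe hQoY).toEquiv
      rw [h1, hQo, h.card_inf, hcardQ]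
      have : 4 ≤ 2 ^ n := by
        calc 4 = 2 ^ 2 := by norm_num
          _ ≤ 2 ^ n := Nat.pow_le_pow_right (by norm_num) hn2'
      have hpos : 0 < 2 ^ n := by positivity
      nlinarith
    have hwY : (⟨x, hxY⟩ : ↥Y) ∉ Qo.subgroupOf Y := by
      rw [Subgroup.mem_subgroupOf]
      exact hxQo
    have hqQo : ((q : T) : Ω) ∈ Qo := by
      rw [hQo]
      exact ⟨Subgroup.mem_subgroupOf.1 hq, q.2⟩
    have hqY : (⟨(q : Ω), hQoY hqQo⟩ : ↥Y) ∈ Qo.subgroupOf Y := by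
      rw [Subgroup.mem_subgroupOf]
      exact hqQo
    obtain ⟨r, hr, hrr⟩ := tw_sq_of_metacyclic hYp hYm (Qo.subgroupOf Y) hQc hidx hexp hcard
      hwY hqY
    obtain ⟨r', hr'⟩ := hlift (r : Ω) (Subgroup.mem_subgroupOf.1 hr)
    refine ⟨r' ^ 2, Cfsg.Agent.Lib.H1.isPGroup_pow_mem_frattini h.hQp r', ?_⟩
    apply Subtype.ext
    have h3 := congrArg (fun w : ↥Y => (w : Ω)) hrr
    have h4 : (q : Ω)⁻¹ * (x * (q : Ω) * x⁻¹) = (r : Ω) * (r : Ω) := h3
    show ((r' : T) : Ω) ^ 2 = (q : Ω)⁻¹ * (x * (q : Ω) * x⁻¹)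
    rw [h4, hr', pow_two]

end Ctx2

end Cfsg.Agent.Lib.H26.MetaSC
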