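import Mathlib
import Cfsg.Prelude.Def_CaseTheorems
import Cfsg.Agent.Lib.H22.SuzukiMaxClass
import Cfsg.Agent.Lib.H22.MaxClassNilp
import Cfsg.Agent.Lib.H22.MaxClass2

set_option autoImplicit false

/-!
Recognition of the `2`-groups of maximal class from a "self-centralizing" four-group or quaternion
subgroup (helper26), via Suzuki's lemma (helper22).
-/

namespace Cfsg.Agent.Lib.H26.MetaTwo

open Cfsg.Agent.Lib.H22

universe u

/-- Dihedral, quaternion or quasidihedral, from `|G : G'| = 4`. -/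
theorem trichotomy {G : Type u} [Group G] [Finite G] (hG : IsPGroup 2 G)
    (hidx : (commutator G).index = 4) (h8 : 8 ≤ Nat.card G) :
    (∃ m : ℕ, Nonempty (G ≃* DihedralGroup m)) ∨ (∃ m : ℕ, Nonempty (G ≃* QuaternionGroup m)) ∨
      Cfsg.IsQuasiDihedral G := by
  have : Fact (Nat.Prime 2) := ⟨Nat.prime_two⟩
  obtain ⟨m, hm⟩ := (IsPGroup.iff_card).mp hG
  have hm3 : 3 ≤ m := by
    by_contra hlt
    push Not at hlt
    have : 2 ^ m ≤ 2 ^ 2 := Nat.pow_le_pow_right (by norm_num) (by omega)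
    omega
  obtain ⟨n, rfl⟩ : ∃ n, m = n + 3 := ⟨m - 3, by omega⟩
  obtain ⟨a, y, hD, -⟩ := exists_maxClassData n G hm hidx
  rcases hD.conj with hc | ⟨hn, hc⟩
  · rcases hD.sq with hs | hs
    · left
      exact ⟨_, hD.equiv_dihedral hc hs⟩
    · right; left
      exact ⟨_, hD.equiv_quaternion hc hs⟩
  · right; right
    obtain ⟨k, rfl⟩ : ∃ k, n = k + 1 := ⟨n - 1, by omega⟩
    obtain ⟨b, hb, -, hba⟩ := hD.exists_semidihedral hc
    refine ⟨k + 3, by omega, hm, a, b, hD.orderOf_a, hb, ?_⟩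
    rw [hba]
    rfl

/-- A `2`-group with a self-centralizing subgroup of order four (other than itself) has
`|G : G'| = 4`. -/
theorem index_four_of_klein {G : Type u} [Group G] [Finite G] (hG : IsPGroup 2 G)
    (Q : Subgroup G) (hQ : Nat.card Q = 4) (hC : Subgroup.centralizer (Q : Set G) ≤ Q)
    (hne : Q ≠ ⊤) : (commutator G).index = 4 := by
  have : Fact (Nat.Prime 2) := ⟨Nat.prime_two⟩
  obtain ⟨m, hm⟩ := (IsPGroup.iff_card).mp hG
  have hdvd : Nat.card Q ∣ Nat.card G := Subgroup.card_subgroup_dvd_card Q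
  have hlt : Nat.card Q < Nat.card G := by
    refine lt_of_le_of_ne (Subgroup.card_le_card_group Q) ?_
    intro h
    exact hne (Subgroup.eq_top_of_card_eq Q h)
  rw [hQ, hm] at hlt
  have hm3 : 3 ≤ m := by
    by_contra hlt'
    push Not at hlt'
    have : 2 ^ m ≤ 2 ^ 2 := Nat.pow_le_pow_right (by norm_num) (by omega)
    omega
  obtain ⟨n, rfl⟩ : ∃ n, m = n + 3 := ⟨m - 3, by omega⟩
  have hQ' : Nat.card Q = 2 ^ 2 := by rw [hQ]; norm_num
  have hcomm : IsMulCommutative Q := IsPGroup.isMulCommutative_of_card_eq_prime_sq hQ'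
  have hCeq : Subgroup.centralizer (Q : Set G) = Q :=
    le_antisymm hC (Subgroup.le_centralizer Q)
  have hcl := nilpotencyClass_of_selfCentralizing_sq (p := 2) (n + 3) G hm ⟨Q, hQ', hCeq⟩
  exact index_commutator_eq_four_of_nilpotencyClass n G hm (by rw [hcl]; omega)

end Cfsg.Agent.Lib.H26.MetaTwo
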