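import Mathlib
import Cfsg.Agent.Lib.H26.MetaTwoSuz

set_option autoImplicit false

/-!
The quaternion case of the recognition of `2`-groups of maximal class (helper26): pass to the
quotient by the centre.
-/

namespace Cfsg.Agent.Lib.H26.MetaTwo

open Cfsg.Agent.Lib.H22
open scoped commutatorElement

universe u

theorem index_four_of_quat {G : Type u} [Group G] [Finite G] (hG : IsPGroup 2 G)
    (Q : Subgroup G) (hQ8 : Nat.card Q = 8) (hZ2 : Nat.card (Subgroup.center Q) = 2)
    (hC : ∀ g : G, (∀ q ∈ Q, q⁻¹ * (g * q * g⁻¹) ∈ (Subgroup.center Q).map Q.subtype) → g ∈ Q)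
    (hne : Q ≠ ⊤) : (commutator G).index = 4 := by
  have : Fact (Nat.Prime 2) := ⟨Nat.prime_two⟩
  obtain ⟨Zq, hZq⟩ : ∃ Zq, Zq = (Subgroup.center Q).map Q.subtype := ⟨_, rfl⟩
  rw [← hZq] at hC
  have h1 : Subgroup.center G ≤ Q := by
    intro g hg
    apply hC g
    intro q _
    rw [Subgroup.mem_center_iff] at hg
    have : q⁻¹ * (g * q * g⁻¹) = 1 := by rw [← hg q]; group
    rw [this]
    exact Subgroup.one_mem _
  have h2 : Subgroup.center G ≤ Zq := by
    intro g hg
    rw [hZq]
    refine ⟨⟨g, h1 hg⟩, ?_, rfl⟩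
    show (⟨g, h1 hg⟩ : Q) ∈ Subgroup.center Q
    rw [Subgroup.mem_center_iff]
    intro q
    apply Subtype.ext
    rw [Subgroup.mem_center_iff] at hg
    exact hg q
  have h3 : Nat.card Zq = 2 := by
    rw [hZq, Subgroup.card_map_of_injective (Subgroup.subtype_injective Q), hZ2]
  have hcardG : 8 ≤ Nat.card G := by
    rw [← hQ8]
    exact Subgroup.card_le_card_group Q
  haveI : Nontrivial G := by
    rw [← Finite.one_lt_card_iff_nontrivial]
    omega
  have h4 : Subgroup.center G ≠ ⊥ := (IsPGroup.bot_lt_center hG).ne'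
  have h4' : 1 < Nat.card (Subgroup.center G) := (Subgroup.one_lt_card_iff_ne_bot _).2 h4
  have h5 : Subgroup.center G = Zq :=
    Subgroup.eq_of_le_of_card_ge h2 (by rw [h3]; omega)
  have hcz : Nat.card (Subgroup.center G) = 2 := by rw [h5, h3]
  -- the quotient
  obtain ⟨f, hf⟩ : ∃ f, f = QuotientGroup.mk' (Subgroup.center G) := ⟨_, rfl⟩
  have hfs : Function.Surjective f := hf ▸ QuotientGroup.mk'_surjective _
  have hker : f.ker = Subgroup.center G := by rw [hf, QuotientGroup.ker_mk']
  obtain ⟨B, hB⟩ : ∃ B, B = Q.map f := ⟨_, rfl⟩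
  have hBidx : B.index = Q.index := by
    rw [hB, Subgroup.index_map, hker, sup_eq_left.2 h1, MonoidHom.range_eq_top.2 hfs,
      Subgroup.index_top, mul_one]
  have hcq : Nat.card (G ⧸ Subgroup.center G) * Nat.card (Subgroup.center G) = Nat.card G :=
    (Subgroup.card_eq_card_quotient_mul_card_subgroup _).symm
  have hBc : Nat.card B = 4 := by
    have e1 := B.card_mul_index
    have e2 := Q.card_mul_index
    rw [hBidx] at e1
    rw [hQ8] at e2
    rw [hcz, ← e1, ← e2] at hcq
    have hpos : 0 < Q.index := Nat.pos_of_ne_zero Subgroup.index_ne_zero_of_finite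
    have : Nat.card B * Q.index = 4 * Q.index := by
      have : Nat.card B * Q.index * 2 = (4 * Q.index) * 2 := by rw [hcq]; ring
      exact Nat.eq_of_mul_eq_mul_right (by norm_num) this
    exact Nat.eq_of_mul_eq_mul_right hpos this
  have hBne : B ≠ ⊤ := by
    intro h
    rw [← Subgroup.index_eq_one, hBidx, Subgroup.index_eq_one] at h
    exact hne h
  have hBC : Subgroup.centralizer (B : Set (G ⧸ Subgroup.center G)) ≤ B := by
    intro gb hgb
    obtain ⟨g, rfl⟩ := hfs gb
    rw [hB]
    refine ⟨g, ?_, rfl⟩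
    apply hC g
    intro q hq
    rw [← h5, ← hker, MonoidHom.mem_ker]
    rw [Subgroup.mem_centralizer_iff] at hgb
    have hfq : f q ∈ (B : Set (G ⧸ Subgroup.center G)) := by
      rw [hB]
      exact ⟨q, hq, rfl⟩
    have := hgb (f q) hfq
    rw [map_mul, map_mul, map_mul, map_inv, map_inv, ← this]
    group
  have hGq : IsPGroup 2 (G ⧸ Subgroup.center G) := hG.to_quotient _
  have hidxq := index_four_of_klein hGq B hBc hBC hBne
  -- back to `G`
  have hcne : commutator G ≠ ⊥ := by
    intro hbot
    have hcomm : ∀ a b : G, a * b = b * a := by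
      intro a b
      have h1 : ⁅a, b⁆ ∈ commutator G := by
        rw [commutator_def]
        exact Subgroup.commutator_mem_commutator (Subgroup.mem_top _) (Subgroup.mem_top _)
      rw [hbot, Subgroup.mem_bot] at h1
      exact commutatorElement_eq_one_iff_mul_comm.mp h1
    have : Subgroup.center G = ⊤ := by
      rw [eq_top_iff]
      intro g _
      rw [Subgroup.mem_center_iff]
      intro h
      exact hcomm h g
    rw [this, Subgroup.card_top] at hcz
    omega
  have hle : Subgroup.center G ≤ commutator G :=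
    center_le_commutator_of_card_center hG hcz hcne
  have hmap : commutator (G ⧸ Subgroup.center G) = (commutator G).map f := by
    rw [commutator_def, commutator_def, Subgroup.map_commutator,
      ← MonoidHom.range_eq_map, MonoidHom.range_eq_top.2 hfs]
  rw [hmap, Subgroup.index_map, hker, sup_eq_left.2 hle, MonoidHom.range_eq_top.2 hfs,
    Subgroup.index_top, mul_one] at hidxq
  exact hidxq

end Cfsg.Agent.Lib.H26.MetaTwo
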