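import Mathlib
import Cfsg.Agent.Lib.H26.MetaSC2Homo
import Cfsg.Agent.Lib.H26.MetaTwoSuzQ

set_option autoImplicit false

/-!
The local configuration for `p = 2`, conclusion (helper26): `P` has `|P : P'| = 4`, hence is
dihedral, quaternion or quasidihedral.
-/

namespace Cfsg.Agent.Lib.H26.MetaSC

open Cfsg Cfsg.FusionSystem Cfsg.Agent.Lib.H25 Cfsg.Agent.Lib.H26.ChainStab
  Cfsg.Agent.Lib.H26.Model Cfsg.Agent.Lib.H26.CycChain Cfsg.Agent.Lib.H26.MetaTwo
open scoped Pointwise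

universe u

variable {Ω : Type u} [Group Ω] {S : Subgroup Ω}

theorem le_normalizer_of_conj_mem {H K : Subgroup Ω}
    (h : ∀ t ∈ K, ∀ c ∈ H, t * c * t⁻¹ ∈ H) : K ≤ Subgroup.normalizer (H : Set Ω) := by
  intro t ht
  rw [Subgroup.mem_normalizer_iff]
  intro c
  constructor
  · exact h t ht c
  · intro hc
    have := h t⁻¹ (K.inv_mem ht) _ hc
    simpa [mul_assoc] using this

namespace Ctx2

variable [Finite S] {F : FusionSystem S} {P T : Subgroup Ω}

/-- conjugation by `t ∈ T` preserves `P ∩ T` -/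
theorem conj_inf_mem (h : Ctx2 F P T) {t : Ω} (ht : t ∈ T) {q : Ω} (hq : q ∈ P ⊓ T) :
    t * q * t⁻¹ ∈ P ⊓ T :=
  ⟨stronglyClosed_conj_mem h.hP (h.hTS ht) hq.1, T.mul_mem (T.mul_mem ht hq.2) (T.inv_mem ht)⟩

/-- `C_P(P ∩ T) ≤ T`. -/
theorem centralizer_le (h : Ctx2 F P T) :
    P ⊓ Subgroup.centralizer ((P ⊓ T : Subgroup Ω) : Set Ω) ≤ T := by
  haveI := h.finT
  apply cent_le h.hS h.hP h.hc h.hr ⊥ bot_le bot_le
    (fun α _ t ht => by
      rw [Subgroup.mem_bot] at ht ⊢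
      rw [ht, map_one]) _ inf_le_left
  · apply le_normalizer_of_conj_mem
    rintro t ht c ⟨hcP, hcC⟩
    refine ⟨stronglyClosed_conj_mem h.hP (h.hTS ht) hcP, ?_⟩
    replace hcC : c ∈ Subgroup.centralizer ((P ⊓ T : Subgroup Ω) : Set Ω) := hcC
    show t * c * t⁻¹ ∈ Subgroup.centralizer ((P ⊓ T : Subgroup Ω) : Set Ω)
    rw [Subgroup.mem_centralizer_iff] at hcC ⊢
    intro q hq
    have hq' : t⁻¹ * q * t⁻¹⁻¹ ∈ P ⊓ T := h.conj_inf_mem (T.inv_mem ht) hq
    have h1 := hcC _ hq'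
    calc q * (t * c * t⁻¹) = t * ((t⁻¹ * q * t⁻¹⁻¹) * c) * t⁻¹ := by group
      _ = t * (c * (t⁻¹ * q * t⁻¹⁻¹)) * t⁻¹ := by rw [h1]
      _ = t * c * t⁻¹ * q := by group
  · rintro g ⟨_, hgC⟩ q hq
    replace hgC : g ∈ Subgroup.centralizer ((P ⊓ T : Subgroup Ω) : Set Ω) := hgC
    rw [Subgroup.mem_centralizer_iff] at hgC
    have h1 := hgC q hq
    have : q⁻¹ * (g * q * g⁻¹) = 1 := by rw [← h1]; group
    rw [this]
    exact Subgroup.one_mem _

theorem subgroupOf_ne_top (h : Ctx2 F P T) : T.subgroupOf P ≠ ⊤ := by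
  intro htop
  apply h.hnot
  intro g hg
  have : (⟨g, hg⟩ : P) ∈ T.subgroupOf P := by rw [htop]; exact Subgroup.mem_top _
  exact Subgroup.mem_subgroupOf.1 this

theorem card_subgroupOf (h : Ctx2 F P T) :
    Nat.card ↥(T.subgroupOf P) = Nat.card ↥(P.subgroupOf T) := by
  rw [← h.card_inf, inf_comm, ← Subgroup.subgroupOf_map_subtype]
  exact (Subgroup.card_map_of_injective (Subgroup.subtype_injective P)).symm

/-- the four-group case -/
theorem klein_case (h : Ctx2 F P T) (hcard : Nat.card ↥(P.subgroupOf T) = 4) :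
    (commutator ↥P).index = 4 ∧ 8 ≤ Nat.card P := by
  haveI := h.finP
  have hcQG : Nat.card ↥(T.subgroupOf P) = 4 := by rw [h.card_subgroupOf, hcard]
  have hC : Subgroup.centralizer ((T.subgroupOf P : Subgroup ↥P) : Set ↥P) ≤ T.subgroupOf P := by
    intro g hg
    rw [Subgroup.mem_subgroupOf]
    apply h.centralizer_le
    refine ⟨g.2, ?_⟩
    show (g : Ω) ∈ Subgroup.centralizer ((P ⊓ T : Subgroup Ω) : Set Ω)
    rw [Subgroup.mem_centralizer_iff] at hg ⊢
    intro q hq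
    have := hg ⟨q, hq.1⟩ (Subgroup.mem_subgroupOf.2 hq.2)
    exact congrArg Subtype.val this
  have hidx := index_four_of_klein h.hPp (T.subgroupOf P) hcQG hC h.subgroupOf_ne_top
  refine ⟨hidx, ?_⟩
  have h1 := (T.subgroupOf P).card_mul_index
  rw [hcQG] at h1
  have h2 : (T.subgroupOf P).index ≠ 1 := by
    rw [Ne, Subgroup.index_eq_one]
    exact h.subgroupOf_ne_top
  have h3 : (T.subgroupOf P).index ≠ 0 := Subgroup.index_ne_zero_of_finite
  have : 2 ≤ (T.subgroupOf P).index := by omega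
  calc 8 = 4 * 2 := by norm_num
    _ ≤ 4 * (T.subgroupOf P).index := Nat.mul_le_mul_left 4 this
    _ = Nat.card P := h1

end Ctx2

end Cfsg.Agent.Lib.H26.MetaSC
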