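import Mathlib
import Cfsg.Agent.Lib.H26.MetaSC2Main

set_option autoImplicit false

/-!
The local configuration for `p = 2`, the quaternion case (helper26).
-/

namespace Cfsg.Agent.Lib.H26.MetaSC

open Cfsg Cfsg.FusionSystem Cfsg.Agent.Lib.H25 Cfsg.Agent.Lib.H26.ChainStab
  Cfsg.Agent.Lib.H26.Model Cfsg.Agent.Lib.H26.CycChain Cfsg.Agent.Lib.H26.MetaTwo
open scoped Pointwise

universe u

variable {Ω : Type u} [Group Ω] {S : Subgroup Ω}

/-- the centre of `P ∩ T`, in the ambient group -/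
def Zo (P T : Subgroup Ω) : Subgroup Ω :=
  (P ⊓ T) ⊓ Subgroup.centralizer ((P ⊓ T : Subgroup Ω) : Set Ω)

theorem mem_Zo {P T : Subgroup Ω} {z : Ω} :
    z ∈ Zo P T ↔ z ∈ P ⊓ T ∧ ∀ q ∈ P ⊓ T, q * z = z * q := by
  unfold Zo
  rw [Subgroup.mem_inf, Subgroup.mem_centralizer_iff]
  rfl

/-- `g ∈ P` acts trivially on `(P ∩ T) / Z(P ∩ T)` -/
def InCo (P T : Subgroup Ω) (g : Ω) : Prop :=
  g ∈ P ∧ ∀ q ∈ P ⊓ T, q⁻¹ * (g * q * g⁻¹) ∈ Zo P T

theorem inCo_one (P T : Subgroup Ω) : InCo P T 1 := by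
  refine ⟨P.one_mem, fun q _ => ?_⟩
  have : q⁻¹ * (1 * q * 1⁻¹) = 1 := by group
  rw [this]
  exact Subgroup.one_mem _

theorem inCo_mul {P T : Subgroup Ω} {g k : Ω} (hg : InCo P T g) (hk : InCo P T k) :
    InCo P T (g * k) := by
  refine ⟨P.mul_mem hg.1 hk.1, fun q hq => ?_⟩
  obtain ⟨z, hz⟩ : ∃ z, z = q⁻¹ * (k * q * k⁻¹) := ⟨_, rfl⟩
  have hzZ : z ∈ Zo P T := hz ▸ hk.2 q hq
  have hzQ : z ∈ P ⊓ T := (mem_Zo.1 hzZ).1
  have h1 : g * z * g⁻¹ = z * (z⁻¹ * (g * z * g⁻¹)) := by group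
  have h2 : g * z * g⁻¹ ∈ Zo P T := by
    rw [h1]
    exact Subgroup.mul_mem _ hzZ (hg.2 z hzQ)
  have e : q⁻¹ * (g * k * q * (g * k)⁻¹) = (q⁻¹ * (g * q * g⁻¹)) * (g * z * g⁻¹) := by
    rw [hz]
    group
  rw [e]
  exact Subgroup.mul_mem _ (hg.2 q hq) h2

theorem inCo_pow {P T : Subgroup Ω} {g : Ω} (hg : InCo P T g) (n : ℕ) : InCo P T (g ^ n) := by
  induction n with
  | zero => rw [pow_zero]; exact inCo_one P T
  | succ n ih => rw [pow_succ]; exact inCo_mul ih hg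

theorem inCo_inv {P T : Subgroup Ω} {g : Ω} (hg : InCo P T g) {n : ℕ} (hn : g ^ (n + 1) = 1) :
    InCo P T g⁻¹ := by
  have : g⁻¹ = g ^ n := by
    rw [inv_eq_iff_mul_eq_one, ← pow_succ', hn]
  rw [this]
  exact inCo_pow hg n

/-- the mutual isomorphism of the two versions of `P ∩ T` -/
def swapEquiv (P T : Subgroup Ω) : ↥(P.subgroupOf T) ≃* ↥(T.subgroupOf P) where
  toFun q := ⟨⟨q.1.1, Subgroup.mem_subgroupOf.1 q.2⟩, Subgroup.mem_subgroupOf.2 q.1.2⟩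
  invFun q := ⟨⟨q.1.1, Subgroup.mem_subgroupOf.1 q.2⟩, Subgroup.mem_subgroupOf.2 q.1.2⟩
  left_inv _ := rfl
  right_inv _ := rfl
  map_mul' _ _ := rfl

namespace Ctx2

variable [Finite S] {F : FusionSystem S} {P T : Subgroup Ω}

/-- the elements of `P` acting trivially on `(P ∩ T) / Z(P ∩ T)` -/
def Co (h : Ctx2 F P T) : Subgroup Ω where
  carrier := {g | InCo P T g}
  one_mem' := inCo_one P T
  mul_mem' := fun hg hk => inCo_mul hg hk
  inv_mem' := by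
    intro g hg
    obtain ⟨k, hk⟩ := h.hS ⟨g, h.hP.1 hg.1⟩
    have hk' : g ^ 2 ^ k = 1 := by
      have := congrArg Subtype.val hk
      simpa using this
    have hpos : 0 < 2 ^ k := by positivity
    obtain ⟨n, hn⟩ : ∃ n, 2 ^ k = n + 1 := ⟨2 ^ k - 1, by omega⟩
    rw [hn] at hk'
    exact inCo_inv hg hk'

theorem Co_le (h : Ctx2 F P T) (e : ↥(P.subgroupOf T) ≃* QuaternionGroup 2) : h.Co ≤ T := by
  haveI := h.finT
  haveI := h.finQ
  apply cent_le h.hS h.hP h.hc h.hr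
    ((Subgroup.center ↥(P.subgroupOf T)).map (P.subgroupOf T).subtype)
    (Subgroup.map_subtype_le _) ?_
    (invUnder_map_char _ _ h.hQinv (Subgroup.center ↥(P.subgroupOf T)) inferInstance) h.Co
    (fun g hg => hg.1)
  · -- `T` normalizes `Co`
    apply le_normalizer_of_conj_mem
    rintro t ht g ⟨hgP, hg⟩
    refine ⟨stronglyClosed_conj_mem h.hP (h.hTS ht) hgP, fun q hq => ?_⟩
    have hq' : t⁻¹ * q * t⁻¹⁻¹ ∈ P ⊓ T := h.conj_inf_mem (T.inv_mem ht) hq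
    have hz := hg _ hq'
    obtain ⟨z, hzdef⟩ : ∃ z, z = (t⁻¹ * q * t⁻¹⁻¹)⁻¹ * (g * (t⁻¹ * q * t⁻¹⁻¹) * g⁻¹) := ⟨_, rfl⟩
    rw [← hzdef] at hz
    have e1 : q⁻¹ * (t * g * t⁻¹ * q * (t * g * t⁻¹)⁻¹) = t * z * t⁻¹ := by
      rw [hzdef]
      group
    rw [e1]
    obtain ⟨hzQ, hzc⟩ := mem_Zo.1 hz
    rw [mem_Zo]
    refine ⟨h.conj_inf_mem ht hzQ, fun q₂ hq₂ => ?_⟩
    have hq₂' : t⁻¹ * q₂ * t⁻¹⁻¹ ∈ P ⊓ T := h.conj_inf_mem (T.inv_mem ht) hq₂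
    have h1 := hzc _ hq₂'
    calc q₂ * (t * z * t⁻¹) = t * ((t⁻¹ * q₂ * t⁻¹⁻¹) * z) * t⁻¹ := by group
      _ = t * (z * (t⁻¹ * q₂ * t⁻¹⁻¹)) * t⁻¹ := by rw [h1]
      _ = t * z * t⁻¹ * q₂ := by group
  · -- the action is trivial modulo the centre
    rintro g hg q hq
    obtain ⟨hzQ, hzc⟩ := mem_Zo.1 (hg.2 q hq)
    refine ⟨⟨_, hzQ.2⟩, ⟨⟨⟨_, hzQ.2⟩, Subgroup.mem_subgroupOf.2 hzQ.1⟩, ?_, rfl⟩, rfl⟩
    show (⟨⟨_, hzQ.2⟩, Subgroup.mem_subgroupOf.2 hzQ.1⟩ : ↥(P.subgroupOf T)) ∈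
      Subgroup.center ↥(P.subgroupOf T)
    rw [Subgroup.mem_center_iff]
    intro d
    apply Subtype.ext
    apply Subtype.ext
    exact hzc ((d : T) : Ω) ⟨Subgroup.mem_subgroupOf.1 d.2, (d : T).2⟩
  · -- the centre lies in the Frattini subgroup of `T`
    rintro _ ⟨c, hc, rfl⟩
    obtain ⟨r, hr⟩ := center_sq_of_quat e hc
    have h1 := Cfsg.Agent.Lib.H1.isPGroup_pow_mem_frattini h.hTp (r : T)
    have h2 : (P.subgroupOf T).subtype c = (r : T) ^ 2 := by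
      rw [hr, pow_two]
      rfl
    rw [h2]
    exact h1

/-- the quaternion case -/
theorem quat_case (h : Ctx2 F P T) (e : ↥(P.subgroupOf T) ≃* QuaternionGroup 2) :
    (commutator ↥P).index = 4 ∧ 8 ≤ Nat.card P := by
  haveI := h.finP
  have eG : ↥(T.subgroupOf P) ≃* QuaternionGroup 2 := (swapEquiv P T).symm.trans e
  have hQ8 := card_of_quat eG
  have hZ2 := card_center_of_quat eG
  have hC : ∀ g : ↥P, (∀ q ∈ T.subgroupOf P, q⁻¹ * (g * q * g⁻¹) ∈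
      (Subgroup.center ↥(T.subgroupOf P)).map (T.subgroupOf P).subtype) → g ∈ T.subgroupOf P := by
    intro g hg
    rw [Subgroup.mem_subgroupOf]
    apply h.Co_le e
    refine ⟨g.2, fun q hq => ?_⟩
    obtain ⟨z, hz, hzeq⟩ := hg ⟨q, hq.1⟩ (Subgroup.mem_subgroupOf.2 hq.2)
    have hzeq' : ((z : ↥P) : Ω) = q⁻¹ * ((g : Ω) * q * (g : Ω)⁻¹) :=
      congrArg (fun w : ↥P => (w : Ω)) hzeq
    rw [← hzeq', mem_Zo]
    refine ⟨⟨(z : ↥P).2, Subgroup.mem_subgroupOf.1 z.2⟩, fun q' hq' => ?_⟩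
    replace hz : z ∈ Subgroup.center ↥(T.subgroupOf P) := hz
    rw [Subgroup.mem_center_iff] at hz
    have := hz ⟨⟨q', hq'.1⟩, Subgroup.mem_subgroupOf.2 hq'.2⟩
    exact congrArg (fun w : ↥(T.subgroupOf P) => ((w : ↥P) : Ω)) this
  have hidx := index_four_of_quat h.hPp (T.subgroupOf P) hQ8 hZ2 hC h.subgroupOf_ne_top
  refine ⟨hidx, ?_⟩
  rw [← hQ8]
  exact Subgroup.card_le_card_group _

end Ctx2

/-- A strongly closed metacyclic subgroup, for `p = 2`, which is not dihedral, quaternion or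
quasidihedral lies in every essential subgroup. -/
theorem le_of_essential_two [Finite S] (hS : IsPGroup 2 S) {F : FusionSystem S}
    (hF : F.IsSaturated 2) {P : Subgroup Ω} (hP : F.StronglyClosed P)
    (hm : Cfsg.IsMetacyclic ↥P) (hd : ¬ ∃ m : ℕ, Nonempty (↥P ≃* DihedralGroup m))
    (hq : ¬ ∃ m : ℕ, Nonempty (↥P ≃* QuaternionGroup m)) (hsd : ¬ Cfsg.IsQuasiDihedral ↥P)
    {T : Subgroup Ω} (hT : F.IsEssential 2 T) : P ≤ T := by
  by_contra hnot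
  have h : Ctx2 F P T := ⟨hS, hF, hP, hm, hT, hnot⟩
  haveI := h.finP
  have hmain : (commutator ↥P).index = 4 ∧ 8 ≤ Nat.card P := by
    rcases h.struct with ⟨⟨e⟩⟩ | ⟨n, ⟨e⟩⟩
    · exact h.quat_case e
    · have hn := h.homocyclic_case e
      subst hn
      apply h.klein_case
      rw [card_of_homocyclic e]
      norm_num
  rcases trichotomy h.hPp hmain.1 hmain.2 with h1 | h1 | h1
  · exact hd h1
  · exact hq h1
  · exact hsd h1

/-- A strongly closed metacyclic subgroup, for `p = 2`, which is not dihedral, quaternion or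
quasidihedral is normal in the system. -/
theorem isNormal_of_metacyclic_two [Finite S] (hS : IsPGroup 2 S) {F : FusionSystem S}
    (hF : F.IsSaturated 2) {P : Subgroup Ω} (hP : F.StronglyClosed P)
    (hm : Cfsg.IsMetacyclic ↥P) (hd : ¬ ∃ m : ℕ, Nonempty (↥P ≃* DihedralGroup m))
    (hq : ¬ ∃ m : ℕ, Nonempty (↥P ≃* QuaternionGroup m)) (hsd : ¬ Cfsg.IsQuasiDihedral ↥P) :
    F.IsNormal P :=
  isNormal_of_stronglyClosed_of_le hS hF hP
    (fun _ hT => le_of_essential_two hS hF hP hm hd hq hsd hT)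

end Cfsg.Agent.Lib.H26.MetaSC
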