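import Mathlib
import Cfsg.Agent.Lib.H26.MetaSC2Quat
import Cfsg.Agent.Lib.H26.PAut

set_option autoImplicit false

/-!
Saturated fusion systems over metacyclic `2`-groups which are not homocyclic, dihedral, quaternion
or quasidihedral are inner (helper26).
-/

namespace Cfsg.Agent.Lib.H26.MetaSC

open Cfsg Cfsg.FusionSystem Cfsg.Agent.Lib.H25 Cfsg.Agent.Lib.H26.MetaTwo

universe u

variable {Ω : Type u} [Group Ω] {S : Subgroup Ω}

/-- the homocyclic group of rank two as a function group -/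
noncomputable def homocyclicEquiv (m : ℕ) :
    Multiplicative (ZMod m) × Multiplicative (ZMod m) ≃* Multiplicative (Fin 2 → ZMod m) :=
  (MulEquiv.prodMultiplicative (ZMod m) (ZMod m)).symm.trans
    (AddEquiv.toMultiplicative (LinearEquiv.finTwoArrow (ZMod m) (ZMod m)).symm.toAddEquiv)

theorem eq_inner_of_metacyclic_two [Finite S] (hS : IsPGroup 2 S) {F : FusionSystem S}
    (hF : F.IsSaturated 2) (hm : Cfsg.IsMetacyclic ↥S)
    (hh : ¬ ∃ n k : ℕ, Nonempty (↥S ≃* Multiplicative (Fin k → ZMod (2 ^ n))))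
    (hd : ¬ ∃ m : ℕ, Nonempty (↥S ≃* DihedralGroup m))
    (hq : ¬ ∃ m : ℕ, Nonempty (↥S ≃* QuaternionGroup m)) (hsd : ¬ Cfsg.IsQuasiDihedral ↥S) :
    ∀ P : Subgroup Ω, F.Hom P = (innerFusionSystem S).Hom P := by
  have hA : IsPGroup 2 (MulAut ↥S) := by
    by_contra hA
    rcases Cfsg.Agent.Lib.H5.MC2.main hS hm hA with ⟨⟨e⟩⟩ | ⟨n, ⟨e⟩⟩
    · exact hq ⟨2, ⟨e⟩⟩
    · exact hh ⟨n, 2, ⟨e.trans (homocyclicEquiv (2 ^ n))⟩⟩
  have haut : F.autGroup S ≤ (innerFusionSystem S).autGroup S := by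
    rw [Cfsg.Agent.Lib.H26.inner_autGroup_eq le_rfl]
    obtain ⟨-, R, hR⟩ := ((Cfsg.Agent.S5111.result 2 hS F).1 hF).1
    have hA' : IsPGroup 2 (F.autGroup S) := hA.to_subgroup _
    have htop : (R : Subgroup (F.autGroup S)) = ⊤ := by
      have := R.3 (Q := ⊤) (IsPGroup.of_equiv hA' Subgroup.topEquiv.symm) le_top
      exact this.symm
    intro α hα
    have : (⟨α, hα⟩ : F.autGroup S) ∈ (R : Subgroup (F.autGroup S)) := by
      rw [htop]; exact Subgroup.mem_top _
    rw [hR] at this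
    exact Subgroup.mem_subgroupOf.1 this
  have hle : ∀ P : Subgroup Ω, F.Hom P ⊆ (innerFusionSystem S).Hom P := by
    apply alperin hS F hF
    rintro P (rfl | hess)
    · exact haut
    · have hSP : S ≤ P :=
        le_of_essential_two hS hF (stronglyClosed_self F) hm hd hq hsd hess
      have hPS : P = S := le_antisymm hess.1.1 hSP
      rw [hPS]
      exact haut
  intro P
  apply Set.Subset.antisymm (hle P)
  rintro φ ⟨hP, g, hg, hφ⟩
  have : φ = conjHom P g := by
    ext x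
    rw [hφ x]
    rfl
  rw [this]
  exact F.conj_mem hP hg

end Cfsg.Agent.Lib.H26.MetaSC
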