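import Cfsg.Agent.Lib.H26.MinIdxDefs

/-!
# S2140, piece B, part 1: linear algebra around the group `Q_a = {tv f a : f a = 0}`
-/

set_option autoImplicit false

namespace Cfsg.Agent.Lib.H26.MinIdx

open Module

variable {F V : Type*} [Field F] [AddCommGroup V] [Module F V]

/-! ### functionals with prescribed values (after helper1, Lib/H1/C3MaxBase) -/

theorem exists_dual_eq' {ι : Type*} (v : ι → V) (hv : LinearIndependent F v) (c : ι → F) :
    ∃ f : Dual F V, ∀ i, f (v i) = c i := by
  obtain ⟨g, hg⟩ := LinearMap.exists_extend ((Basis.span hv).constr F c)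
  refine ⟨g, fun i => ?_⟩
  have h1 := LinearMap.congr_fun hg (Basis.span hv i)
  rw [Basis.constr_basis, LinearMap.comp_apply, Submodule.subtype_apply, Basis.span_apply] at h1
  exact h1

theorem exists_dual_pair' {a e : V} (ha : a ≠ 0) (he : ∀ κ : F, κ • a ≠ e) (c₀ c₁ : F) :
    ∃ f : Dual F V, f a = c₀ ∧ f e = c₁ := by
  have hli : LinearIndependent F ![a, e] := (LinearIndependent.pair_iff' ha).mpr he
  obtain ⟨f, hf⟩ := exists_dual_eq' ![a, e] hli ![c₀, c₁]
  exact ⟨f, by simpa using hf 0, by simpa using hf 1⟩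

theorem exists_dual_triple' {a e w : V} (ha : a ≠ 0) (he : ∀ κ : F, κ • a ≠ e)
    (hw : ∀ κ μ : F, κ • a + μ • e ≠ w) (c₀ c₁ c₂ : F) :
    ∃ f : Dual F V, f a = c₀ ∧ f e = c₁ ∧ f w = c₂ := by
  have hli2 : LinearIndependent F ![a, e] := (LinearIndependent.pair_iff' ha).mpr he
  have hli : LinearIndependent F ![w, a, e] := by
    rw [show (![w, a, e] : Fin 3 → V) = Fin.cons w ![a, e] from rfl, linearIndependent_finCons]
    refine ⟨hli2, ?_⟩
    intro hmem
    rw [Submodule.mem_span_range_iff_exists_fun] at hmem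
    obtain ⟨c, hc⟩ := hmem
    rw [Fin.sum_univ_two] at hc
    exact hw (c 0) (c 1) (by simpa using hc)
  obtain ⟨f, hf⟩ := exists_dual_eq' ![w, a, e] hli ![c₂, c₀, c₁]
  exact ⟨f, by simpa using hf 1, by simpa using hf 2, by simpa using hf 0⟩

/-- a vector with prescribed values under two independent functionals -/
theorem exists_vec_pair [Module.Finite F V] {f f' : Dual F V} (hf : f ≠ 0)
    (hff' : ∀ κ : F, κ • f ≠ f') (c₀ c₁ : F) : ∃ b : V, f b = c₀ ∧ f' b = c₁ := by
  obtain ⟨Φ, h0, h1⟩ := exists_dual_pair' (V := Dual F V) hf hff' c₀ c₁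
  refine ⟨(Module.evalEquiv F V).symm Φ, ?_, ?_⟩
  · rw [Module.apply_evalEquiv_symm_apply, h0]
  · rw [Module.apply_evalEquiv_symm_apply, h1]

theorem finrank_span_singleton_le_one' (a : V) : finrank F ↥(Submodule.span F {a}) ≤ 1 := by
  by_cases h : a = 0
  · subst h
    rw [Submodule.span_zero_singleton, finrank_bot]
    exact Nat.zero_le _
  · exact (finrank_span_singleton h).le

theorem exists_not_smul' (hm : 2 ≤ finrank F V) (a : V) : ∃ w : V, ∀ κ : F, κ • a ≠ w := by
  by_contra hcon
  push Not at hcon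
  have htop : Submodule.span F {a} = ⊤ := by
    rw [eq_top_iff]
    intro w _
    obtain ⟨κ, hκ⟩ := hcon w
    exact Submodule.mem_span_singleton.mpr ⟨κ, hκ⟩
  have h1 : finrank F V ≤ 1 := by
    rw [← finrank_top F V, ← htop]
    exact finrank_span_singleton_le_one' a
  omega

theorem exists_not_smul_add' (hm : 3 ≤ finrank F V) (a e : V) :
    ∃ w : V, ∀ κ μ : F, κ • a + μ • e ≠ w := by
  by_contra hcon
  push Not at hcon
  have htop : Submodule.span F {a, e} = ⊤ := by
    rw [eq_top_iff]
    intro w _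
    obtain ⟨κ, μ, h⟩ := hcon w
    exact Submodule.mem_span_pair.mpr ⟨κ, μ, h⟩
  have h1 : finrank F V ≤ 2 := by
    rw [← finrank_top F V, ← htop]
    have hfin : Module.Finite F V := Module.finite_of_finrank_pos (by omega)
    rw [Submodule.span_insert]
    have h2 := Submodule.finrank_add_le_finrank_add_finrank (Submodule.span F {a}) (Submodule.span F {e})
    have h3 := finrank_span_singleton_le_one' (F := F) a
    have h4 := finrank_span_singleton_le_one' (F := F) e
    omega
  omega

/-! ### the annihilator of a vector -/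

/-- the functionals vanishing at `a` -/
def ann (a : V) : Submodule F (Dual F V) := LinearMap.ker (LinearMap.applyₗ (R := F) a)

@[simp] theorem mem_ann {a : V} {f : Dual F V} : f ∈ ann a ↔ f a = 0 := by
  simp [ann]

/-- the functionals vanishing at `a` and `v` -/
def ann₂ (a v : V) : Submodule F (Dual F V) := ann a ⊓ ann v

@[simp] theorem mem_ann₂ {a v : V} {f : Dual F V} : f ∈ ann₂ a v ↔ f a = 0 ∧ f v = 0 := by
  simp [ann₂]

theorem finrank_ann [Module.Finite F V] {a : V} (ha : a ≠ 0) :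
    finrank F (ann (F := F) a) + 1 = finrank F V := by
  have hsurj : Function.Surjective (LinearMap.applyₗ (R := F) a : Dual F V →ₗ[F] F) := by
    intro c
    obtain ⟨f, hf⟩ := exists_dual_eq' (F := F) ![a]
      (linearIndependent_unique_iff.mpr (by simpa using ha)) ![c]
    exact ⟨f, by simpa using hf 0⟩
  have h1 := LinearMap.finrank_range_add_finrank_ker (LinearMap.applyₗ (R := F) a : Dual F V →ₗ[F] F)
  rw [LinearMap.range_eq_top.mpr hsurj, finrank_top, finrank_self, Subspace.dual_finrank_eq] at h1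
  change 1 + finrank F (ann (F := F) a) = finrank F V at h1
  omega

theorem finrank_ann₂ [Module.Finite F V] {a v : V} (ha : a ≠ 0) (hv : ∀ κ : F, κ • a ≠ v) :
    finrank F (ann₂ (F := F) a v) + 2 = finrank F V := by
  let φ : Dual F V →ₗ[F] F × F :=
    (LinearMap.applyₗ (R := F) a).prod (LinearMap.applyₗ (R := F) v)
  have hsurj : Function.Surjective φ := by
    rintro ⟨c₀, c₁⟩
    obtain ⟨f, h0, h1⟩ := exists_dual_pair' ha hv c₀ c₁
    exact ⟨f, by simp [φ, h0, h1]⟩
  have hker : LinearMap.ker φ = ann₂ a v := by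
    ext f
    simp [φ, ann₂, ann, LinearMap.ker_prod]
  have h1 := LinearMap.finrank_range_add_finrank_ker φ
  rw [LinearMap.range_eq_top.mpr hsurj, finrank_top, finrank_prod, finrank_self,
    Subspace.dual_finrank_eq, hker] at h1
  omega

theorem card_ann [Finite F] [Module.Finite F V] {a : V} (ha : a ≠ 0) :
    Nat.card (ann (F := F) a) * Nat.card F = Nat.card F ^ finrank F V := by
  rw [Module.natCard_eq_pow_finrank (K := F) (V := ann (F := F) a), ← finrank_ann ha, pow_succ]

theorem card_ann₂ [Finite F] [Module.Finite F V] {a v : V} (ha : a ≠ 0) (hv : ∀ κ : F, κ • a ≠ v) :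
    Nat.card (ann₂ (F := F) a v) * Nat.card F ^ 2 = Nat.card F ^ finrank F V := by
  rw [Module.natCard_eq_pow_finrank (K := F) (V := ann₂ (F := F) a v), ← finrank_ann₂ ha hv, pow_add]

/-! ### all nontrivial elements of `Q_a` are conjugate in `G_a` -/

theorem conj_tv_step (f ψ : Dual F V) (a b : V) (hfa : f a = 0) (hψa : ψ a = 0) (hψb : ψ b = 0) :
    tv ψ b hψb * tv f a hfa * (tv ψ b hψb)⁻¹ =
      tv (f - f b • ψ) a (by simp [hfa, hψa]) := by
  rw [tv_inv]
  ext x
  simp [hfa, hψa, hψb, smul_smul, add_smul, sub_smul, smul_add]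
  module

theorem exists_conj_tv [Module.Finite F V] (hn : 3 ≤ finrank F V) {a : V} (ha : a ≠ 0)
    {f f' : Dual F V} (hfa : f a = 0) (hf'a : f' a = 0) (hf : f ≠ 0) (hf' : f' ≠ 0) :
    ∃ g : SpecialLinearGroup F V, g * tv f a hfa * g⁻¹ = tv f' a hf'a := by
  -- independent case
  have key : ∀ (f₁ f₂ : Dual F V) (h₁ : f₁ a = 0) (h₂ : f₂ a = 0), f₁ ≠ 0 →
      (∀ κ : F, κ • f₁ ≠ f₂) →
      ∃ g : SpecialLinearGroup F V, g * tv f₁ a h₁ * g⁻¹ = tv f₂ a h₂ := by
    intro f₁ f₂ h₁ h₂ hne hind
    obtain ⟨b, hb1, hb2⟩ := exists_vec_pair hne hind 1 1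
    have hψa : (f₁ - f₂) a = 0 := by simp [h₁, h₂]
    have hψb : (f₁ - f₂) b = 0 := by simp [hb1, hb2]
    refine ⟨tv (f₁ - f₂) b hψb, ?_⟩
    rw [conj_tv_step f₁ (f₁ - f₂) a b h₁ hψa hψb]
    congr 1
    rw [hb1, one_smul]
    abel
  by_cases hind : ∀ κ : F, κ • f ≠ f'
  · exact key f f' hfa hf'a hf hind
  · push Not at hind
    obtain ⟨κ, hκ⟩ := hind
    have hκ0 : κ ≠ 0 := by
      rintro rfl
      rw [zero_smul] at hκ
      exact hf' hκ.symm
    -- a third functional
    obtain ⟨v, hv⟩ : ∃ v, f v ≠ 0 := by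
      by_contra hcon
      push Not at hcon
      exact hf (LinearMap.ext hcon)
    have hva : ∀ c : F, c • a ≠ v := by
      intro c hc
      apply hv
      rw [← hc, map_smul, hfa, smul_zero]
    obtain ⟨u, hu⟩ := exists_not_smul_add' hn a v
    obtain ⟨f'', h1, h2, h3⟩ := exists_dual_triple' ha hva hu 0 0 1
    have hf''0 : f'' ≠ 0 := by
      intro h
      rw [h] at h3
      simp at h3
    have hind1 : ∀ c : F, c • f ≠ f'' := by
      intro c hc
      have := congrArg (fun φ : Dual F V => φ v) hc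
      simp only [LinearMap.smul_apply, smul_eq_mul, h2] at this
      have hc0 : c = 0 := by
        rcases mul_eq_zero.mp this with h | h
        · exact h
        · exact absurd h hv
      rw [hc0, zero_smul] at hc
      exact hf''0 hc.symm
    have hind2 : ∀ c : F, c • f'' ≠ f' := by
      intro c hc
      rw [← hκ] at hc
      have := congrArg (fun φ : Dual F V => φ v) hc
      simp only [LinearMap.smul_apply, smul_eq_mul, h2, mul_zero] at this
      rcases mul_eq_zero.mp this.symm with h | h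
      · exact hκ0 h
      · exact hv h
    obtain ⟨g₁, hg₁⟩ := key f f'' hfa h1 hf hind1
    obtain ⟨g₂, hg₂⟩ := key f'' f' h1 hf'a hf''0 hind2
    refine ⟨g₂ * g₁, ?_⟩
    rw [mul_inv_rev, ← hg₂, ← hg₁]
    group

end Cfsg.Agent.Lib.H26.MinIdx
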