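import Cfsg.Agent.Lib.H26.MinIdxB1

/-!
# S2140, piece B, part 2: character sums for the action of `Q_a` on a finite `G`-set
-/

set_option autoImplicit false

namespace Cfsg.Agent.Lib.H26.MinIdx

open Module

/-! ### orthogonality, hands-on -/

open Classical in
theorem orth_sum_one {A : Type*} [AddCommGroup A] [Fintype A] (S : AddSubgroup A)
    (ψ : A → ℂ) (h : ∀ x ∈ S, ψ x = 1) :
    (∑ x, if x ∈ S then ψ x else 0) = (Nat.card S : ℂ) := by
  have : ∀ x, (if x ∈ S then ψ x else 0) = if x ∈ S then (1 : ℂ) else 0 := by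
    intro x
    split_ifs with hx
    · exact h x hx
    · rfl
  simp_rw [this]
  rw [Finset.sum_ite, Finset.sum_const_zero, add_zero, Finset.sum_const, nsmul_eq_mul, mul_one]
  congr 1
  rw [Nat.card_eq_fintype_card, Fintype.card_subtype]

open Classical in
theorem orth_sum_zero {A : Type*} [AddCommGroup A] [Fintype A] (S : AddSubgroup A)
    (ψ : A → ℂ) (hψ : ∀ x y, ψ (x + y) = ψ x * ψ y) (h : ¬ ∀ x ∈ S, ψ x = 1) :
    (∑ x, if x ∈ S then ψ x else 0) = 0 := by
  push Not at h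
  obtain ⟨x₀, hx₀, hne⟩ := h
  set T := ∑ x, if x ∈ S then ψ x else 0 with hT
  have h1 : T * ψ x₀ = T := by
    rw [hT, Finset.sum_mul]
    refine Fintype.sum_equiv (Equiv.addRight x₀) _ _ (fun x => ?_)
    show (if x ∈ S then ψ x else 0) * ψ x₀ = if x + x₀ ∈ S then ψ (x + x₀) else 0
    by_cases hx : x ∈ S
    · rw [if_pos hx, if_pos (S.add_mem hx hx₀), hψ]
    · have : x + x₀ ∉ S := fun hc => hx (by simpa using S.sub_mem hc hx₀)
      rw [if_neg hx, if_neg this, zero_mul]
  have h2 : T * (ψ x₀ - 1) = 0 := by rw [mul_sub, h1, mul_one, sub_self]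
  rcases mul_eq_zero.mp h2 with h3 | h3
  · exact h3
  · exact absurd (sub_eq_zero.mp h3) hne

theorem orth_sum_top {A : Type*} [AddCommGroup A] [Fintype A] (ψ : A → ℂ)
    (hψ : ∀ x y, ψ (x + y) = ψ x * ψ y) (x₀ : A) (hx₀ : ψ x₀ ≠ 1) : ∑ x, ψ x = 0 := by
  classical
  have := orth_sum_zero (⊤ : AddSubgroup A) ψ hψ (by
    push Not
    exact ⟨x₀, AddSubgroup.mem_top _, hx₀⟩)
  simpa only [AddSubgroup.mem_top, if_true] using this

variable {F V : Type*} [Field F] [AddCommGroup V] [Module F V]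
variable {Ω : Type*} [MulAction (SpecialLinearGroup F V) Ω]

/-! ### the action of `Q_a` -/

/-- the action of `f ∈ ann a` through the transvection `tv f a` -/
noncomputable def act (a : V) (f : ann (F := F) a) (ω : Ω) : Ω :=
  tv f.1 a (mem_ann.mp f.2) • ω

theorem act_add (a : V) (f f' : ann (F := F) a) (ω : Ω) :
    act a (f + f') ω = act a f (act a f' ω) := by
  unfold act
  rw [← mul_smul, tv_mul_tv_left]
  rfl

theorem act_zero (a : V) (ω : Ω) : act a (0 : ann (F := F) a) ω = ω := by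
  unfold act
  have : tv ((0 : ann (F := F) a) : Dual F V) a (mem_ann.mp (0 : ann (F := F) a).2) = 1 := by
    ext x; simp
  rw [this, one_smul]

theorem act_neg (a : V) (f : ann (F := F) a) (ω : Ω) : act a (-f) (act a f ω) = ω := by
  have h : -f + f = 0 := neg_add_cancel f
  rw [← act_add, h, act_zero]

/-- the stabiliser of `ω` in `Q_a ≅ ann a` -/
def stabQ (a : V) (ω : Ω) : AddSubgroup (ann (F := F) a) where
  carrier := {f | act a f ω = ω}
  zero_mem' := act_zero a ω
  add_mem' := by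
    intro f f' hf hf'
    simp only [Set.mem_ofPred_eq] at *
    rw [act_add, hf', hf]
  neg_mem' := by
    intro f hf
    simp only [Set.mem_ofPred_eq] at *
    have := act_neg a f ω
    rwa [hf] at this

theorem mem_stabQ {a : V} {ω : Ω} {f : ann (F := F) a} :
    f ∈ stabQ (F := F) a ω ↔ act a f ω = ω := Iff.rfl

/-- the stabiliser is constant on `Q_a`-orbits -/
theorem stabQ_act (a : V) (f : ann (F := F) a) (ω : Ω) :
    stabQ (F := F) a (act a f ω) = stabQ (F := F) a ω := by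
  ext f'
  simp only [mem_stabQ]
  rw [← act_add, add_comm, act_add]
  constructor
  · intro h
    have := congrArg (act a (-f)) h
    rwa [act_neg, act_neg] at this
  · intro h
    rw [h]

/-- the dual block `D(ω)` -/
def Dset (χ : AddChar F ℂ) (a : V) (ω : Ω) : Set V :=
  {w | ∀ f ∈ stabQ (F := F) a ω, χ ((f : Dual F V) w) = 1}

theorem mem_Dset {χ : AddChar F ℂ} {a : V} {ω : Ω} {w : V} :
    w ∈ Dset χ a ω ↔ ∀ f ∈ stabQ (F := F) a ω, χ ((f : Dual F V) w) = 1 := Iff.rfl

theorem smul_mem_Dset (χ : AddChar F ℂ) (a : V) (ω : Ω) (c : F) : c • a ∈ Dset χ a ω := by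
  intro f _
  have : (f : Dual F V) a = 0 := mem_ann.mp f.2
  rw [map_smul, this, smul_zero, AddChar.map_zero_eq_one]

theorem add_mem_Dset {χ : AddChar F ℂ} {a : V} {ω : Ω} {w w' : V}
    (hw : w ∈ Dset χ a ω) (hw' : w' ∈ Dset χ a ω) : w + w' ∈ Dset χ a ω := by
  intro f hf
  rw [map_add, AddChar.map_add_eq_mul, hw f hf, hw' f hf, one_mul]

theorem neg_mem_Dset {χ : AddChar F ℂ} {a : V} {ω : Ω} {w : V}
    (hw : w ∈ Dset χ a ω) : -w ∈ Dset χ a ω := by
  intro f hf
  have h1 := hw f hf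
  have h2 : χ ((f : Dual F V) w + (f : Dual F V) (-w)) = 1 := by
    rw [← map_add, add_neg_cancel, map_zero, AddChar.map_zero_eq_one]
  rw [AddChar.map_add_eq_mul, h1, one_mul] at h2
  exact h2

theorem sub_mem_Dset {χ : AddChar F ℂ} {a : V} {ω : Ω} {w w' : V}
    (hw : w ∈ Dset χ a ω) (hw' : w' ∈ Dset χ a ω) : w - w' ∈ Dset χ a ω := by
  rw [sub_eq_add_neg]
  exact add_mem_Dset hw (neg_mem_Dset hw')

theorem Dset_congr {χ : AddChar F ℂ} {a : V} {ω ω' : Ω}
    (h : stabQ (F := F) a ω = stabQ a ω') : Dset χ a ω = Dset χ a ω' := by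
  unfold Dset
  rw [h]

end Cfsg.Agent.Lib.H26.MinIdx
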