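import Cfsg.Agent.Lib.H26.MinIdxB2

/-!
# S2140, piece B, part 3: the counting identities (E0), (E1), (E2)
-/

set_option autoImplicit false

namespace Cfsg.Agent.Lib.H26.MinIdx

open Module

variable {F V : Type*} [Field F] [AddCommGroup V] [Module F V]
variable {Ω : Type*} [MulAction (SpecialLinearGroup F V) Ω]

/-- number of fixed points of `tv f a` -/
noncomputable def fixc (a : V) (f : ann (F := F) a) : ℕ :=
  Nat.card {ω : Ω // act a f ω = ω}

theorem fixc_zero (a : V) : fixc (Ω := Ω) a (0 : ann (F := F) a) = Nat.card Ω := by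
  unfold fixc
  simp only [act_zero]
  exact Nat.card_congr (Equiv.subtypeUnivEquiv (fun _ => trivial))

theorem fixc_const [Module.Finite F V] (hn : 3 ≤ finrank F V) {a : V} (ha : a ≠ 0)
    (f f' : ann (F := F) a) (hf : f ≠ 0) (hf' : f' ≠ 0) :
    fixc (Ω := Ω) a f = fixc (Ω := Ω) a f' := by
  have hf0 : (f : Dual F V) ≠ 0 := fun h => hf (Subtype.ext h)
  have hf'0 : (f' : Dual F V) ≠ 0 := fun h => hf' (Subtype.ext h)
  obtain ⟨g, hg⟩ := exists_conj_tv hn ha (mem_ann.mp f.2) (mem_ann.mp f'.2) hf0 hf'0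
  unfold fixc
  refine Nat.card_congr ((MulAction.toPerm g).subtypeEquiv (fun ω => ?_))
  unfold act
  rw [← hg, MulAction.toPerm_apply, mul_smul, mul_smul, inv_smul_smul]
  exact (smul_left_cancel_iff g).symm

section sums

variable [Finite F] [Module.Finite F V] [Fintype Ω]

open Classical in
/-- swapping the two sums -/
theorem sum_swap (a : V) [Fintype (ann (F := F) a)] (ψ : ann (F := F) a → ℂ) :
    (∑ ω : Ω, ∑ f : ann (F := F) a, if f ∈ stabQ (F := F) a ω then ψ f else 0) =
      ∑ f : ann (F := F) a, ψ f * (fixc (Ω := Ω) a f : ℂ) := by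
  rw [Finset.sum_comm]
  refine Finset.sum_congr rfl (fun f _ => ?_)
  simp only [mem_stabQ]
  rw [Finset.sum_ite, Finset.sum_const_zero, add_zero, Finset.sum_const, nsmul_eq_mul, mul_comm]
  congr 2
  unfold fixc
  rw [Nat.card_eq_fintype_card, Fintype.card_subtype]

open Classical in
/-- (E1), complex form -/
theorem e1_complex (hn : 3 ≤ finrank F V) {a : V} (ha : a ≠ 0) (χ : AddChar F ℂ) {y₀ : F}
    (hy₀ : χ y₀ ≠ 1) (φ₀ : ℕ) (hφ₀ : ∀ f : ann (F := F) a, f ≠ 0 → fixc (Ω := Ω) a f = φ₀)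
    {w : V} (hw : ∀ c : F, c • a ≠ w) :
    (∑ ω : Ω, if w ∈ Dset χ a ω then (Nat.card (stabQ (F := F) a ω) : ℂ) else 0) + φ₀ =
      Nat.card Ω := by
  haveI : Finite (Dual F V) := Module.finite_of_finite F
  haveI : Fintype (ann (F := F) a) := Fintype.ofFinite _
  let ψ : ann (F := F) a → ℂ := fun f => χ ((f : Dual F V) w)
  have hψ : ∀ x y, ψ (x + y) = ψ x * ψ y := by
    intro x y
    simp only [ψ, Submodule.coe_add, LinearMap.add_apply, AddChar.map_add_eq_mul]
  have h1 : ∀ ω : Ω, (if w ∈ Dset χ a ω then (Nat.card (stabQ (F := F) a ω) : ℂ) else 0) =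
      ∑ f : ann (F := F) a, if f ∈ stabQ (F := F) a ω then ψ f else 0 := by
    intro ω
    by_cases hD : w ∈ Dset χ a ω
    · rw [if_pos hD, orth_sum_one (stabQ (F := F) a ω) ψ hD]
    · rw [if_neg hD, orth_sum_zero (stabQ (F := F) a ω) ψ hψ hD]
  simp_rw [h1]
  rw [sum_swap]
  -- split off f = 0
  have h2 : ∑ f : ann (F := F) a, ψ f = 0 := by
    obtain ⟨f₀, hf₀a, hf₀w⟩ := exists_dual_pair' ha hw 0 y₀
    refine orth_sum_top ψ hψ ⟨f₀, mem_ann.mpr hf₀a⟩ ?_
    simp only [ψ, hf₀w]
    exact hy₀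
  have h3 : ∀ f : ann (F := F) a, ψ f * (fixc (Ω := Ω) a f : ℂ) =
      ψ f * (φ₀ : ℂ) + if f = 0 then ((Nat.card Ω : ℂ) - φ₀) else 0 := by
    intro f
    by_cases hf : f = 0
    · subst hf
      rw [if_pos rfl, fixc_zero]
      have : ψ 0 = 1 := by simp [ψ]
      rw [this]
      ring
    · rw [if_neg hf, hφ₀ f hf, add_zero]
  simp_rw [h3]
  rw [Finset.sum_add_distrib, ← Finset.sum_mul, h2, zero_mul, zero_add, Finset.sum_ite_eq' ]
  simp

/-- (E0): `∑_ω |R_ω| + φ₀ = m + |Q| φ₀` -/
theorem e0_nat {a : V} (φ₀ : ℕ) (hφ₀ : ∀ f : ann (F := F) a, f ≠ 0 → fixc (Ω := Ω) a f = φ₀) :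
    (∑ ω : Ω, Nat.card (stabQ (F := F) a ω)) + φ₀ =
      Nat.card Ω + Nat.card (ann (F := F) a) * φ₀ := by
  classical
  haveI : Finite (Dual F V) := Module.finite_of_finite F
  haveI : Fintype (ann (F := F) a) := Fintype.ofFinite _
  have h1 : ∀ ω : Ω, Nat.card (stabQ (F := F) a ω) =
      ∑ f : ann (F := F) a, if f ∈ stabQ (F := F) a ω then 1 else 0 := by
    intro ω
    rw [Finset.sum_ite, Finset.sum_const_zero, add_zero, Finset.sum_const, smul_eq_mul, mul_one,
      Nat.card_eq_fintype_card, Fintype.card_subtype]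
  simp_rw [h1]
  rw [Finset.sum_comm]
  have h2 : ∀ f : ann (F := F) a, (∑ ω : Ω, if f ∈ stabQ (F := F) a ω then 1 else 0) =
      fixc (Ω := Ω) a f := by
    intro f
    simp only [mem_stabQ]
    rw [Finset.sum_ite, Finset.sum_const_zero, add_zero, Finset.sum_const, smul_eq_mul, mul_one]
    unfold fixc
    rw [Nat.card_eq_fintype_card, Fintype.card_subtype]
  simp_rw [h2]
  have h3 : ∀ f : ann (F := F) a, fixc (Ω := Ω) a f + (if f = 0 then φ₀ else 0) =
      φ₀ + if f = 0 then Nat.card Ω else 0 := by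
    intro f
    by_cases hf : f = 0
    · subst hf
      rw [if_pos rfl, if_pos rfl, fixc_zero, add_comm]
    · rw [if_neg hf, if_neg hf, hφ₀ f hf]
  have h4 := Finset.sum_congr (s₁ := (Finset.univ : Finset (ann (F := F) a))) rfl (fun f _ => h3 f)
  rw [Finset.sum_add_distrib, Finset.sum_add_distrib, Finset.sum_ite_eq', Finset.sum_ite_eq',
    Finset.sum_const, smul_eq_mul] at h4
  simp only [Finset.mem_univ, if_true, Finset.card_univ] at h4
  rw [h4, Nat.card_eq_fintype_card (α := ann (F := F) a)]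
  ring

open Classical in
/-- (E2): `|D(ω)| · |R_ω| = |V|` -/
theorem e2_nat (a : V) (χ : AddChar F ℂ) {y₀ : F} (hy₀ : χ y₀ ≠ 1) (ω : Ω) :
    Nat.card (Dset χ a ω) * Nat.card (stabQ (F := F) a ω) = Nat.card V := by
  haveI : Finite (Dual F V) := Module.finite_of_finite F
  haveI : Finite V := Module.finite_of_finite F
  haveI : Fintype (ann (F := F) a) := Fintype.ofFinite _
  haveI : Fintype V := Fintype.ofFinite _
  have hcast : ((Nat.card (Dset χ a ω) * Nat.card (stabQ (F := F) a ω) : ℕ) : ℂ) = (Nat.card V : ℂ) := by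
    have h1 : ∀ w : V, (if w ∈ Dset χ a ω then (Nat.card (stabQ (F := F) a ω) : ℂ) else 0) =
        ∑ f : ann (F := F) a, if f ∈ stabQ (F := F) a ω then χ ((f : Dual F V) w) else 0 := by
      intro w
      by_cases hD : w ∈ Dset χ a ω
      · rw [if_pos hD, orth_sum_one (stabQ (F := F) a ω) (fun f => χ ((f : Dual F V) w)) hD]
      · rw [if_neg hD, orth_sum_zero (stabQ (F := F) a ω) (fun f => χ ((f : Dual F V) w)) ?_ hD]
        intro x y
        simp only [Submodule.coe_add, LinearMap.add_apply, AddChar.map_add_eq_mul]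
    have h2 : (∑ w : V, if w ∈ Dset χ a ω then (Nat.card (stabQ (F := F) a ω) : ℂ) else 0) =
        (Nat.card (Dset χ a ω) : ℂ) * (Nat.card (stabQ (F := F) a ω) : ℂ) := by
      rw [Finset.sum_ite, Finset.sum_const_zero, add_zero, Finset.sum_const, nsmul_eq_mul]
      congr 2
      rw [Nat.card_eq_fintype_card, Fintype.card_subtype]
    rw [Nat.cast_mul, ← h2]
    simp_rw [h1]
    rw [Finset.sum_comm]
    have h3 : ∀ f : ann (F := F) a,
        (∑ w : V, if f ∈ stabQ (F := F) a ω then χ ((f : Dual F V) w) else 0) =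
          if f = 0 then (Nat.card V : ℂ) else 0 := by
      intro f
      by_cases hf : f = 0
      · subst hf
        rw [if_pos rfl]
        simp only [if_pos (stabQ (F := F) a ω).zero_mem]
        simp [Nat.card_eq_fintype_card]
      · rw [if_neg hf]
        by_cases hfs : f ∈ stabQ (F := F) a ω
        · simp only [if_pos hfs]
          have hf0 : (f : Dual F V) ≠ 0 := fun h => hf (Subtype.ext h)
          obtain ⟨v, hv⟩ : ∃ v, (f : Dual F V) v ≠ 0 := by
            by_contra hcon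
            push Not at hcon
            exact hf0 (LinearMap.ext hcon)
          refine orth_sum_top (fun w => χ ((f : Dual F V) w)) ?_ ((y₀ / (f : Dual F V) v) • v) ?_
          · intro x y
            simp only [map_add, AddChar.map_add_eq_mul]
          · simp only [map_smul, smul_eq_mul, div_mul_cancel₀ _ hv]
            exact hy₀
        · simp only [if_neg hfs, Finset.sum_const_zero]
    simp_rw [h3]
    rw [Finset.sum_ite_eq']
    simp
  exact_mod_cast hcast

end sums

end Cfsg.Agent.Lib.H26.MinIdx
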