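import Cfsg.Agent.Lib.H26.MinIdxB3

/-!
# S2140, piece B, part 4: orbits of `Q_a`, and the properties (P1)-(P4) of the dual blocks
-/

set_option autoImplicit false

namespace Cfsg.Agent.Lib.H26.MinIdx

open Module

variable {F V : Type*} [Field F] [AddCommGroup V] [Module F V]
variable {Ω : Type*} [MulAction (SpecialLinearGroup F V) Ω]

theorem act_sub_of_eq {a : V} {f f₀ : ann (F := F) a} {ω : Ω}
    (h : act a f ω = act a f₀ ω) : f - f₀ ∈ stabQ (F := F) a ω := by
  have h1 : f - f₀ = -f₀ + f := by abel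
  rw [mem_stabQ, h1, act_add, h, act_neg]

section orbits

variable [Fintype Ω]

open Classical in
/-- the `Q_a`-orbit of `ω` -/
noncomputable def orb (a : V) (ω : Ω) : Finset Ω :=
  Finset.univ.filter (fun ω'' => ∃ f : ann (F := F) a, act a f ω = ω'')

theorem mem_orb {a : V} {ω ω'' : Ω} :
    ω'' ∈ orb (F := F) a ω ↔ ∃ f : ann (F := F) a, act a f ω = ω'' := by
  classical
  simp [orb]

theorem self_mem_orb (a : V) (ω : Ω) : ω ∈ orb (F := F) a ω :=
  mem_orb.mpr ⟨0, act_zero a ω⟩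

theorem stabQ_of_mem_orb {a : V} {ω ω'' : Ω} (h : ω'' ∈ orb (F := F) a ω) :
    stabQ (F := F) a ω'' = stabQ (F := F) a ω := by
  obtain ⟨f, rfl⟩ := mem_orb.mp h
  exact stabQ_act a f ω

theorem mem_orb_of_inter {a : V} {ω ω' ω'' : Ω} (h : ω'' ∈ orb (F := F) a ω)
    (h' : ω'' ∈ orb (F := F) a ω') : ω' ∈ orb (F := F) a ω := by
  obtain ⟨f, hf⟩ := mem_orb.mp h
  obtain ⟨f', hf'⟩ := mem_orb.mp h'
  refine mem_orb.mpr ⟨-f' + f, ?_⟩
  rw [act_add, hf, ← hf', act_neg]

theorem orb_disjoint {a : V} {ω ω' : Ω} (h : ω' ∉ orb (F := F) a ω) :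
    Disjoint (orb (F := F) a ω) (orb (F := F) a ω') := by
  rw [Finset.disjoint_left]
  intro ω'' h1 h2
  exact h (mem_orb_of_inter h1 h2)

/-- orbit–stabiliser, as an inequality -/
theorem card_le_stab_mul_orb [Finite F] [Module.Finite F V] (a : V) (ω : Ω) :
    Nat.card (ann (F := F) a) ≤ Nat.card (stabQ (F := F) a ω) * (orb (F := F) a ω).card := by
  classical
  haveI : Finite (Dual F V) := Module.finite_of_finite F
  haveI : Fintype (ann (F := F) a) := Fintype.ofFinite _
  rw [Nat.card_eq_fintype_card, ← Finset.card_univ]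
  refine Finset.card_le_mul_card_image_of_maps_to (f := fun f : ann (F := F) a => act a f ω)
    (fun f _ => mem_orb.mpr ⟨f, rfl⟩) _ ?_
  intro b hb
  obtain ⟨f₀, rfl⟩ := mem_orb.mp hb
  have hsub : (Finset.univ.filter (fun f : ann (F := F) a => act a f ω = act a f₀ ω)) ⊆
      (Finset.univ.filter (fun f : ann (F := F) a => f ∈ stabQ (F := F) a ω)).image (· + f₀) := by
    intro f hf
    rw [Finset.mem_filter] at hf
    rw [Finset.mem_image]
    refine ⟨f - f₀, ?_, by abel⟩
    rw [Finset.mem_filter]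
    exact ⟨Finset.mem_univ _, act_sub_of_eq hf.2⟩
  calc _ ≤ _ := Finset.card_le_card hsub
    _ ≤ _ := Finset.card_image_le
    _ = _ := by
      rw [Nat.card_eq_fintype_card, Fintype.card_subtype]

/-- two different orbits: the sum of a function over `Ω` dominates the two orbit sums -/
theorem sum_two_orbits_le {a : V} {ω ω' : Ω} (h : ω' ∉ orb (F := F) a ω) (g : Ω → ℕ) :
    (∑ x ∈ orb (F := F) a ω, g x) + (∑ x ∈ orb (F := F) a ω', g x) ≤ ∑ x, g x := by
  classical
  rw [← Finset.sum_union (orb_disjoint h)]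
  exact Finset.sum_le_sum_of_subset (Finset.subset_univ _)

theorem sum_orbit_le (a : V) (ω : Ω) (g : Ω → ℕ) :
    (∑ x ∈ orb (F := F) a ω, g x) ≤ ∑ x, g x :=
  Finset.sum_le_sum_of_subset (Finset.subset_univ _)

end orbits

end Cfsg.Agent.Lib.H26.MinIdx
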