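import Cfsg.Agent.Lib.H26.MinIdxB4

/-!
# S2140, piece B, part 5: properties (P1)-(P4) of the dual blocks and the block analysis
-/

set_option autoImplicit false

namespace Cfsg.Agent.Lib.H26.MinIdx

open Module

variable {F V : Type*} [Field F] [AddCommGroup V] [Module F V]
variable {Ω : Type*} [MulAction (SpecialLinearGroup F V) Ω]

/-! ### (P4): the blocks are permuted by the transvections fixing `a` -/

theorem mem_stabQ_tv_smul {a : V} (θ : Dual F V) (v : V) (hθa : θ a = 0) (hθv : θ v = 0) (ω : Ω)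
    (f : ann (F := F) a) :
    f ∈ stabQ (F := F) a (tv θ v hθv • ω) ↔
      (⟨(f : Dual F V) + (f : Dual F V) v • θ, by
        rw [mem_ann]; simp [mem_ann.mp f.2, hθa]⟩ : ann (F := F) a) ∈ stabQ (F := F) a ω := by
  rw [mem_stabQ, mem_stabQ]
  unfold act
  have hconj : (tv θ v hθv)⁻¹ * tv (f : Dual F V) a (mem_ann.mp f.2) * tv θ v hθv =
      tv ((f : Dual F V) + (f : Dual F V) v • θ) a (by simp [mem_ann.mp f.2, hθa]) := by
    have h1 := conj_tv_step (f : Dual F V) (-θ) a v (mem_ann.mp f.2) (by simp [hθa]) (by simp [hθv])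
    have h2 : tv (-θ) v (by simp [hθv]) = (tv θ v hθv)⁻¹ := (tv_inv θ v hθv).symm
    rw [h2, inv_inv] at h1
    rw [h1]
    congr 1
    simp
  rw [← hconj, mul_smul, mul_smul]
  constructor
  · intro h
    rw [h, inv_smul_smul]
  · intro h
    have := congrArg (fun x => tv θ v hθv • x) h
    simpa using this

theorem mem_Dset_tv_smul {χ : AddChar F ℂ} {a : V} (θ : Dual F V) (v : V) (hθa : θ a = 0)
    (hθv : θ v = 0) (ω : Ω) (w : V) :
    w ∈ Dset χ a (tv θ v hθv • ω) ↔ w - θ w • v ∈ Dset χ a ω := by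
  constructor
  · intro h f hf
    -- f' := f - f v • θ
    have hf'a : ((f : Dual F V) - (f : Dual F V) v • θ) a = 0 := by
      simp [mem_ann.mp f.2, hθa]
    let f' : ann (F := F) a := ⟨(f : Dual F V) - (f : Dual F V) v • θ, mem_ann.mpr hf'a⟩
    have hf' : f' ∈ stabQ (F := F) a (tv θ v hθv • ω) := by
      rw [mem_stabQ_tv_smul θ v hθa hθv]
      convert hf using 1
      apply Subtype.ext
      simp only [f']
      ext x
      simp [hθv]
    have := h f' hf'
    have e : (f' : Dual F V) w = (f : Dual F V) (w - θ w • v) := by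
      simp only [f', LinearMap.sub_apply, LinearMap.smul_apply, map_sub, map_smul, smul_eq_mul]
      ring
    rwa [e] at this
  · intro h f' hf'
    rw [mem_stabQ_tv_smul θ v hθa hθv] at hf'
    have := h _ hf'
    have e : ((f' : Dual F V) + (f' : Dual F V) v • θ) (w - θ w • v) = (f' : Dual F V) w := by
      simp only [LinearMap.add_apply, LinearMap.smul_apply, map_sub, map_smul, smul_eq_mul, hθv]
      ring
    simpa [e] using this

/-! ### the context -/

/-- hypotheses of piece B for a finite `G`-set `Ω` -/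
structure BCtx (Ω : Type*) [MulAction (SpecialLinearGroup F V) Ω] [Fintype Ω]
    (a : V) (χ : AddChar F ℂ) (y₀ : F) (φ₀ : ℕ) : Prop where
  hn : 3 ≤ finrank F V
  ha : a ≠ 0
  hy₀ : χ y₀ ≠ 1
  hφ₀ : ∀ f : ann (F := F) a, f ≠ 0 → fixc (Ω := Ω) a f = φ₀
  hnofix : ∀ ω : Ω, ∃ f : ann (F := F) a, act a f ω ≠ ω
  hlt : Nat.card Ω < 2 * Nat.card (ann (F := F) a)
  hne : Nonempty Ω

section ctx

variable [Finite F] [Module.Finite F V] [Fintype Ω]
variable {a : V} {χ : AddChar F ℂ} {y₀ : F} {φ₀ : ℕ}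

open Classical in
/-- (E1) in `ℕ` -/
theorem BCtx.e1 (C : BCtx Ω a χ y₀ φ₀) {w : V} (hw : ∀ c : F, c • a ≠ w) :
    (∑ ω : Ω, if w ∈ Dset χ a ω then Nat.card (stabQ (F := F) a ω) else 0) + φ₀ = Nat.card Ω := by
  have h := e1_complex (Ω := Ω) C.hn C.ha χ C.hy₀ φ₀ C.hφ₀ hw
  have h2 : ((∑ ω : Ω, if w ∈ Dset χ a ω then Nat.card (stabQ (F := F) a ω) else 0 : ℕ) : ℂ) =
      ∑ ω : Ω, if w ∈ Dset χ a ω then (Nat.card (stabQ (F := F) a ω) : ℂ) else 0 := by
    push_cast
    refine Finset.sum_congr rfl (fun ω _ => ?_)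
    split_ifs <;> simp
  have h3 : (((∑ ω : Ω, if w ∈ Dset χ a ω then Nat.card (stabQ (F := F) a ω) else 0) + φ₀ : ℕ) : ℂ) =
      (Nat.card Ω : ℂ) := by
    rw [Nat.cast_add, h2, h]
  exact_mod_cast h3

theorem BCtx.phi_lt (C : BCtx Ω a χ y₀ φ₀) : φ₀ < Nat.card Ω := by
  classical
  obtain ⟨ω₀⟩ := C.hne
  obtain ⟨f, hf⟩ := C.hnofix ω₀
  have hf0 : f ≠ 0 := by
    rintro rfl
    exact hf (act_zero a ω₀)
  rw [← C.hφ₀ f hf0]
  unfold fixc
  rw [Nat.card_eq_fintype_card, Nat.card_eq_fintype_card]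
  exact Fintype.card_subtype_lt hf

open Classical in
/-- orbit sum of the (E1) summand -/
theorem BCtx.orb_sum_ge (C : BCtx Ω a χ y₀ φ₀) {w : V} {ω : Ω} (hwD : w ∈ Dset χ a ω) :
    Nat.card (ann (F := F) a) ≤
      ∑ x ∈ orb (F := F) a ω, if w ∈ Dset χ a x then Nat.card (stabQ (F := F) a x) else 0 := by
  have h1 : ∀ x ∈ orb (F := F) a ω,
      (if w ∈ Dset χ a x then Nat.card (stabQ (F := F) a x) else 0) =
        Nat.card (stabQ (F := F) a ω) := by
    intro x hx
    have hs := stabQ_of_mem_orb hx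
    have hD : Dset χ a x = Dset χ a ω := Dset_congr hs
    rw [hD, if_pos hwD, hs]
  rw [Finset.sum_congr rfl h1, Finset.sum_const, smul_eq_mul, mul_comm]
  exact card_le_stab_mul_orb a ω

/-- (P1) -/
theorem BCtx.p1 (C : BCtx Ω a χ y₀ φ₀) {w : V} (hw : ∀ c : F, c • a ≠ w) :
    ∃ ω : Ω, w ∈ Dset χ a ω := by
  classical
  by_contra hcon
  push Not at hcon
  have h := C.e1 hw
  have h0 : (∑ ω : Ω, if w ∈ Dset χ a ω then Nat.card (stabQ (F := F) a ω) else 0) = 0 := by
    apply Finset.sum_eq_zero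
    intro ω _
    rw [if_neg (hcon ω)]
  have := C.phi_lt
  omega

/-- (P2) -/
theorem BCtx.p2 (C : BCtx Ω a χ y₀ φ₀) {w : V} (hw : ∀ c : F, c • a ≠ w) {ω ω' : Ω}
    (h : w ∈ Dset χ a ω) (h' : w ∈ Dset χ a ω') :
    stabQ (F := F) a ω = stabQ (F := F) a ω' := by
  classical
  by_contra hne
  have hnot : ω' ∉ orb (F := F) a ω := fun hmem => hne (stabQ_of_mem_orb hmem).symm
  have h1 := sum_two_orbits_le hnot
    (fun x => if w ∈ Dset χ a x then Nat.card (stabQ (F := F) a x) else 0)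
  have h2 := C.orb_sum_ge h
  have h3 := C.orb_sum_ge h'
  have h4 := C.e1 hw
  have h5 := C.hlt
  omega

/-- no stabiliser is everything -/
theorem BCtx.card_stab_lt (C : BCtx Ω a χ y₀ φ₀) (ω : Ω) :
    Nat.card (stabQ (F := F) a ω) < Nat.card (ann (F := F) a) := by
  classical
  haveI : Finite (Dual F V) := Module.finite_of_finite F
  haveI : Fintype (ann (F := F) a) := Fintype.ofFinite _
  obtain ⟨f, hf⟩ := C.hnofix ω
  rw [Nat.card_eq_fintype_card, Nat.card_eq_fintype_card]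
  exact Fintype.card_subtype_lt (x := f) hf

/-- (P3) -/
theorem BCtx.p3 (C : BCtx Ω a χ y₀ φ₀) (ω : Ω) :
    ∃ w : V, (∀ c : F, c • a ≠ w) ∧ w ∈ Dset χ a ω := by
  classical
  by_contra hcon
  push Not at hcon
  haveI : Finite V := Module.finite_of_finite F
  -- D(ω) ⊆ F a
  have hsub : Dset χ a ω ⊆ Set.range (fun c : F => c • a) := by
    intro w hw
    by_contra hw'
    apply hcon w _ hw
    intro c hc
    exact hw' ⟨c, hc⟩
  have h1 : Nat.card (Dset χ a ω) ≤ Nat.card F := by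
    calc Nat.card (Dset χ a ω) ≤ Nat.card (Set.range (fun c : F => c • a)) :=
          Nat.card_mono (Set.toFinite _) hsub
      _ ≤ Nat.card F := by
          rw [Nat.card_coe_set_eq]
          have := Set.ncard_image_le (f := fun c : F => c • a) (s := Set.univ) Set.finite_univ
          rwa [Set.image_univ, Set.ncard_univ] at this
  have h2 := e2_nat (Ω := Ω) a χ C.hy₀ ω
  have h3 := C.card_stab_lt ω
  have h4 := card_ann (F := F) C.ha
  have h5 : Nat.card V = Nat.card F ^ finrank F V := Module.natCard_eq_pow_finrank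
  have hq : 0 < Nat.card F := Nat.card_pos
  have hD : 0 < Nat.card (Dset χ a ω) := by
    haveI : Nonempty (Dset χ a ω) := ⟨⟨0 • a, smul_mem_Dset χ a ω 0⟩⟩
    exact Nat.card_pos
  have : Nat.card (Dset χ a ω) * Nat.card (stabQ (F := F) a ω) <
      Nat.card F * Nat.card (ann (F := F) a) := by
    calc Nat.card (Dset χ a ω) * Nat.card (stabQ (F := F) a ω)
        < Nat.card (Dset χ a ω) * Nat.card (ann (F := F) a) :=
          Nat.mul_lt_mul_of_pos_left h3 hD
      _ ≤ Nat.card F * Nat.card (ann (F := F) a) := Nat.mul_le_mul_right _ h1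
  rw [h2, h5, ← h4, mul_comm] at this
  exact lt_irrefl _ this

end ctx

end Cfsg.Agent.Lib.H26.MinIdx
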