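import Cfsg.Agent.Lib.H26.MinIdxB5

/-!
# S2140, piece B, part 6: block analysis
-/

set_option autoImplicit false

namespace Cfsg.Agent.Lib.H26.MinIdx

open Module

variable {F V : Type*} [Field F] [AddCommGroup V] [Module F V]
variable {Ω : Type*} [MulAction (SpecialLinearGroup F V) Ω]
variable [Finite F] [Module.Finite F V] [Fintype Ω]
variable {a : V} {χ : AddChar F ℂ} {y₀ : F} {φ₀ : ℕ}

/-- Claim A -/
theorem BCtx.claimA (C : BCtx Ω a χ y₀ φ₀) {ω : Ω} {v w : V} (hv : v ∈ Dset χ a ω)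
    (hva : ∀ c : F, c • a ≠ v) (hw : w ∈ Dset χ a ω) (hwav : ∀ κ μ : F, κ • a + μ • v ≠ w)
    (c : F) : c • v ∈ Dset χ a ω := by
  obtain ⟨θ, hθa, hθv, hθw⟩ := exists_dual_triple' C.ha hva hwav 0 0 c
  have h1 : v ∈ Dset χ a (tv θ v hθv • ω) := by
    rw [mem_Dset_tv_smul θ v hθa hθv, hθv, zero_smul, sub_zero]
    exact hv
  have hs := C.p2 hva hv h1
  have hD : Dset χ a ω = Dset χ a (tv θ v hθv • ω) := Dset_congr hs
  have h2 : w ∈ Dset χ a (tv θ v hθv • ω) := hD ▸ hw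
  rw [mem_Dset_tv_smul θ v hθa hθv, hθw] at h2
  have := sub_mem_Dset hw h2
  simpa using this

/-- Claim B -/
theorem BCtx.claimB (C : BCtx Ω a χ y₀ φ₀) {ω : Ω} {v w : V} (hv : v ∈ Dset χ a ω)
    (hva : ∀ c : F, c • a ≠ v) (hw : w ∈ Dset χ a ω) (hwav : ∀ κ μ : F, κ • a + μ • v ≠ w)
    {x : V} (hx : x ∈ Dset χ a ω) (c : F) : c • x ∈ Dset χ a ω := by
  by_cases hxa : ∃ c₀ : F, c₀ • a = x
  · obtain ⟨c₀, rfl⟩ := hxa
    rw [smul_smul]
    exact smul_mem_Dset χ a ω _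
  · push Not at hxa
    by_cases h1 : ∀ κ μ : F, κ • a + μ • x ≠ v
    · exact C.claimA hx hxa hv h1 c
    · by_cases h2 : ∀ κ μ : F, κ • a + μ • x ≠ w
      · exact C.claimA hx hxa hw h2 c
      · exfalso
        push Not at h1 h2
        obtain ⟨κ, μ, h1⟩ := h1
        obtain ⟨κ', μ', h2⟩ := h2
        have hμ : μ ≠ 0 := by
          rintro rfl
          rw [zero_smul, add_zero] at h1
          exact hva κ h1
        have hx' : x = μ⁻¹ • (v - κ • a) := by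
          rw [← h1, add_sub_cancel_left, smul_smul, inv_mul_cancel₀ hμ, one_smul]
        apply hwav (κ' - μ' * μ⁻¹ * κ) (μ' * μ⁻¹)
        rw [← h2, hx']
        module

/-- Claim C -/
theorem BCtx.claimC (C : BCtx Ω a χ y₀ φ₀) {ω : Ω} {v w : V} (hv : v ∈ Dset χ a ω)
    (hva : ∀ c : F, c • a ≠ v) (hw : w ∈ Dset χ a ω) (hwav : ∀ κ μ : F, κ • a + μ • v ≠ w)
    (u : V) : u ∈ Dset χ a ω := by
  by_contra hu
  have hvu : ∀ κ μ : F, κ • a + μ • v ≠ u := by
    intro κ μ h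
    apply hu
    rw [← h]
    exact add_mem_Dset (smul_mem_Dset χ a ω κ) (C.claimB hv hva hw hwav hv μ)
  have hua : ∀ c : F, c • a ≠ u := by
    intro c h
    apply hu
    rw [← h]
    exact smul_mem_Dset χ a ω c
  have hauv : ∀ κ μ : F, κ • a + μ • u ≠ v := by
    intro κ μ h
    have hμ : μ ≠ 0 := by
      rintro rfl
      rw [zero_smul, add_zero] at h
      exact hva κ h
    apply hvu (-(μ⁻¹ * κ)) μ⁻¹
    rw [← h]
    rw [smul_add, smul_smul, smul_smul, inv_mul_cancel₀ hμ, one_smul]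
    module
  obtain ⟨θ, hθa, hθu, hθv⟩ := exists_dual_triple' C.ha hua hauv 0 0 1
  set w' := w - θ w • v with hw'
  have hw'D : w' ∈ Dset χ a ω := sub_mem_Dset hw (C.claimB hv hva hw hwav hv _)
  have hθw' : θ w' = 0 := by
    rw [hw', map_sub, map_smul, hθv, smul_eq_mul, mul_one, sub_self]
  have hw'a : ∀ c : F, c • a ≠ w' := by
    intro c h
    apply hwav c (θ w)
    rw [h, hw']
    abel
  have h1 : w' ∈ Dset χ a (tv θ u hθu • ω) := by
    rw [mem_Dset_tv_smul θ u hθa hθu, hθw', zero_smul, sub_zero]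
    exact hw'D
  have hs := C.p2 hw'a hw'D h1
  have hD : Dset χ a ω = Dset χ a (tv θ u hθu • ω) := Dset_congr hs
  have h2 : v ∈ Dset χ a (tv θ u hθu • ω) := hD ▸ hv
  rw [mem_Dset_tv_smul θ u hθa hθu, hθv, one_smul] at h2
  have := sub_mem_Dset hv h2
  apply hu
  simpa using this

end Cfsg.Agent.Lib.H26.MinIdx
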