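import Cfsg.Agent.Lib.H26.MinIdxB6

/-!
# S2140, piece B, part 7: the two cases
-/

set_option autoImplicit false

namespace Cfsg.Agent.Lib.H26.MinIdx

open Module

theorem numeric_aux (q r Q N' m φ₀ S : ℕ) (hq : 2 ≤ q) (hr : 1 ≤ r) (hQ : Q = q * r)
    (hN' : (q - 1) * N' + 1 = Q) (hm : m ≤ q * N') (hφ : φ₀ + Q ≤ m)
    (hS : S + φ₀ = m + Q * φ₀) (hSr : m * r ≤ S) : m = q * N' ∧ S = m * r := by
  obtain ⟨p, rfl⟩ : ∃ p, q = p + 1 := ⟨q - 1, by omega⟩
  simp only [Nat.add_sub_cancel] at hN'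
  have hp : 1 ≤ p := by omega
  zify at *
  have hS' : (S : ℤ) = m + (Q - 1) * φ₀ := by linarith
  have hQ1 : (Q : ℤ) - 1 = p * N' := by linarith
  have hφ' : (φ₀ : ℤ) ≤ m - Q := by linarith
  have hQpos : (0 : ℤ) ≤ (Q : ℤ) - 1 := by rw [hQ1]; positivity
  have h1 : (S : ℤ) ≤ m + (Q - 1) * (m - Q) := by
    rw [hS']
    have := mul_le_mul_of_nonneg_left hφ' hQpos
    linarith
  have h2 : (m : ℤ) * r ≤ m + (Q - 1) * (m - Q) := le_trans hSr h1
  have h3 : (Q : ℤ) * (Q - 1) ≤ m * r * p := by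
    have : (m : ℤ) + (Q - 1) * (m - Q) = m * Q - Q * (Q - 1) := by ring
    rw [this, hQ] at h2
    rw [hQ]
    nlinarith
  have h4 : ((p : ℤ) + 1) * N' ≤ m := by
    rw [hQ1, hQ] at h3
    have hrp : (0 : ℤ) < r * p := by positivity
    have : ((p : ℤ) + 1) * N' * (r * p) ≤ m * (r * p) := by nlinarith
    exact le_of_mul_le_mul_right this hrp
  have hm' : (m : ℤ) = (p + 1) * N' := le_antisymm hm h4
  refine ⟨hm', le_antisymm ?_ hSr⟩
  have : (m : ℤ) + (Q - 1) * (m - Q) = m * r := by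
    rw [hm', hQ1, hQ]
    have hQ' : (Q : ℤ) = p * N' + 1 := by linarith
    have : ((p:ℤ) + 1) * r = p * N' + 1 := by rw [← hQ, hQ']
    nlinarith
  linarith

variable {F V : Type*} [Field F] [AddCommGroup V] [Module F V]
variable {Ω : Type*} [MulAction (SpecialLinearGroup F V) Ω]
variable [Finite F] [Module.Finite F V] [Fintype Ω]
variable {a : V} {χ : AddChar F ℂ} {y₀ : F} {φ₀ : ℕ}

/-- Case I: some block is everything -/
theorem BCtx.caseI (C : BCtx Ω a χ y₀ φ₀) {ω₀ : Ω} (hall : ∀ u : V, u ∈ Dset χ a ω₀) :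
    Nat.card Ω = Nat.card (ann (F := F) a) ∧
      ∀ (ω : Ω) (f : ann (F := F) a), f ≠ 0 → act a f ω ≠ ω := by
  classical
  have hstab₀ : ∀ f ∈ stabQ (F := F) a ω₀, f = 0 := by
    intro f hf
    by_contra hf0
    have hf0' : (f : Dual F V) ≠ 0 := fun h => hf0 (Subtype.ext h)
    obtain ⟨x, hx⟩ : ∃ x, (f : Dual F V) x ≠ 0 := by
      by_contra hcon
      push Not at hcon
      exact hf0' (LinearMap.ext hcon)
    have := hall ((y₀ / (f : Dual F V) x) • x) f hf
    rw [map_smul, smul_eq_mul, div_mul_cancel₀ _ hx] at this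
    exact C.hy₀ this
  have hstab : ∀ (ω : Ω), ∀ f ∈ stabQ (F := F) a ω, f = 0 := by
    intro ω f hf
    obtain ⟨w, hw, hwD⟩ := C.p3 ω
    have := C.p2 hw hwD (hall w)
    rw [this] at hf
    exact hstab₀ f hf
  have hsecond : ∀ (ω : Ω) (f : ann (F := F) a), f ≠ 0 → act a f ω ≠ ω :=
    fun ω f hf h => hf (hstab ω f (mem_stabQ.mpr h))
  refine ⟨?_, hsecond⟩
  have hcard1 : ∀ ω : Ω, Nat.card (stabQ (F := F) a ω) = 1 := by
    intro ω
    haveI : Subsingleton (stabQ (F := F) a ω) :=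
      ⟨fun x y => Subtype.ext ((hstab ω x.1 x.2).trans (hstab ω y.1 y.2).symm)⟩
    haveI : Nonempty (stabQ (F := F) a ω) := ⟨0⟩
    exact Nat.card_unique
  have horb : ∀ ω : Ω, Nat.card (ann (F := F) a) ≤ (orb (F := F) a ω).card := by
    intro ω
    have := card_le_stab_mul_orb (F := F) a ω
    rwa [hcard1, one_mul] at this
  have hall_orb : ∀ ω' : Ω, ω' ∈ orb (F := F) a ω₀ := by
    intro ω'
    by_contra hnot
    have h1 := sum_two_orbits_le hnot (fun _ => 1)
    simp only [Finset.sum_const, smul_eq_mul, mul_one, Finset.card_univ] at h1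
    have h2 := horb ω₀
    have h3 := horb ω'
    have h4 := C.hlt
    rw [Nat.card_eq_fintype_card (α := Ω)] at h4
    omega
  have heq : orb (F := F) a ω₀ = Finset.univ := Finset.eq_univ_iff_forall.mpr hall_orb
  have hle : (orb (F := F) a ω₀).card ≤ Nat.card (ann (F := F) a) := by
    haveI : Finite (Dual F V) := Module.finite_of_finite F
    haveI : Fintype (ann (F := F) a) := Fintype.ofFinite _
    have hsub : orb (F := F) a ω₀ ⊆
        (Finset.univ : Finset (ann (F := F) a)).image (fun f => act a f ω₀) := by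
      intro x hx
      obtain ⟨f, rfl⟩ := mem_orb.mp hx
      exact Finset.mem_image_of_mem _ (Finset.mem_univ _)
    calc _ ≤ _ := Finset.card_le_card hsub
      _ ≤ _ := Finset.card_image_le
      _ = _ := by rw [Finset.card_univ, Nat.card_eq_fintype_card]
  have h2 := horb ω₀
  rw [heq, Finset.card_univ] at hle h2
  rw [Nat.card_eq_fintype_card (α := Ω)]
  omega

/-- Case II: all blocks are small -/
theorem BCtx.caseII (C : BCtx Ω a χ y₀ φ₀) (N' : ℕ)
    (hN' : (Nat.card F - 1) * N' + 1 = Nat.card (ann (F := F) a))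
    (hmle : Nat.card Ω ≤ Nat.card F * N')
    (hsmall : ∀ (ω : Ω) (v w : V), v ∈ Dset χ a ω → (∀ c : F, c • a ≠ v) → w ∈ Dset χ a ω →
      ∃ κ μ : F, κ • a + μ • v = w) :
    Nat.card Ω = Nat.card F * N' ∧
      ∀ ω : Ω, ∃ w : V, (∀ c : F, c • a ≠ w) ∧
        ∀ f : ann (F := F) a, act a f ω = ω ↔ (f : Dual F V) w = 0 := by
  classical
  haveI : Finite V := Module.finite_of_finite F
  haveI : Finite (Dual F V) := Module.finite_of_finite F
  set q := Nat.card F with hq
  have hq2 : 2 ≤ q := Finite.one_lt_card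
  have hn := C.hn
  set n := finrank F V with hn'
  set Q := Nat.card (ann (F := F) a) with hQ
  have hQq : Q * q = q ^ n := card_ann (F := F) C.ha
  have hV : Nat.card V = q ^ n := Module.natCard_eq_pow_finrank
  set r := q ^ (n - 2) with hr
  have hr1 : 1 ≤ r := Nat.one_le_pow _ _ (by omega)
  have hqn : q ^ n = q ^ 2 * r := by
    rw [hr, ← pow_add]
    congr 1
    omega
  have hQr : Q = q * r := by
    have : Q * q = (q * r) * q := by rw [hQq, hqn]; ring
    exact Nat.eq_of_mul_eq_mul_right (by omega) this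
  -- the vector v_ω
  have hv : ∀ ω : Ω, ∃ v : V, (∀ c : F, c • a ≠ v) ∧ v ∈ Dset χ a ω := C.p3
  -- bound on D
  have hDsub : ∀ (ω : Ω) (v : V), (∀ c : F, c • a ≠ v) → v ∈ Dset χ a ω →
      Dset χ a ω ⊆ Set.range (fun p : F × F => p.1 • a + p.2 • v) := by
    intro ω v hva hvD w hw
    obtain ⟨κ, μ, h⟩ := hsmall ω v w hvD hva hw
    exact ⟨(κ, μ), h⟩
  have hLcard : ∀ v : V, Set.ncard (Set.range (fun p : F × F => p.1 • a + p.2 • v)) ≤ q ^ 2 := by
    intro v
    have := Set.ncard_image_le (f := fun p : F × F => p.1 • a + p.2 • v) (s := Set.univ)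
      Set.finite_univ
    rw [Set.image_univ, Set.ncard_univ, Nat.card_prod] at this
    rwa [sq]
  have hDcard : ∀ ω : Ω, Nat.card (Dset χ a ω) ≤ q ^ 2 := by
    intro ω
    obtain ⟨v, hva, hvD⟩ := hv ω
    rw [Nat.card_coe_set_eq]
    exact le_trans (Set.ncard_le_ncard (hDsub ω v hva hvD) (Set.toFinite _)) (hLcard v)
  have hDR : ∀ ω : Ω, Nat.card (Dset χ a ω) * Nat.card (stabQ (F := F) a ω) = q ^ 2 * r := by
    intro ω
    rw [e2_nat (Ω := Ω) a χ C.hy₀ ω, hV, hqn]
  have hRge : ∀ ω : Ω, r ≤ Nat.card (stabQ (F := F) a ω) := by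
    intro ω
    have h1 := hDR ω
    have h2 := hDcard ω
    have : q ^ 2 * r ≤ q ^ 2 * Nat.card (stabQ (F := F) a ω) := by
      rw [← h1]
      exact Nat.mul_le_mul_right _ h2
    exact Nat.le_of_mul_le_mul_left this (by positivity)
  -- the numerics
  have hφQ : φ₀ + Q ≤ Nat.card Ω := by
    obtain ⟨ω₁⟩ := C.hne
    obtain ⟨w, hw, hwD⟩ := C.p3 ω₁
    have h1 := C.e1 hw
    have h2 := C.orb_sum_ge hwD
    have h3 := sum_orbit_le (F := F) a ω₁
      (fun x => if w ∈ Dset χ a x then Nat.card (stabQ (F := F) a x) else 0)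
    omega
  have hS := e0_nat (Ω := Ω) (a := a) φ₀ C.hφ₀
  have hSr : Nat.card Ω * r ≤ ∑ ω : Ω, Nat.card (stabQ (F := F) a ω) := by
    rw [Nat.card_eq_fintype_card, ← Finset.card_univ, ← smul_eq_mul, ← Finset.sum_const]
    exact Finset.sum_le_sum (fun ω _ => hRge ω)
  obtain ⟨hm, hSeq⟩ := numeric_aux q r Q N' (Nat.card Ω) φ₀ _ hq2 hr1 hQr hN' hmle hφQ hS hSr
  refine ⟨hm, ?_⟩
  -- all stabilisers have order r
  have hReq : ∀ ω : Ω, Nat.card (stabQ (F := F) a ω) = r := by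
    have h1 : ∑ ω : Ω, r = ∑ ω : Ω, Nat.card (stabQ (F := F) a ω) := by
      rw [hSeq, Finset.sum_const, smul_eq_mul, Finset.card_univ, Nat.card_eq_fintype_card]
    have h2 := (Finset.sum_eq_sum_iff_of_le (fun ω _ => hRge ω)).mp h1
    intro ω
    exact (h2 ω (Finset.mem_univ _)).symm
  intro ω
  obtain ⟨v, hva, hvD⟩ := hv ω
  refine ⟨v, hva, ?_⟩
  -- D(ω) is the whole plane
  have hDeq : Nat.card (Dset χ a ω) = q ^ 2 := by
    have h1 := hDR ω
    rw [hReq ω] at h1
    exact Nat.eq_of_mul_eq_mul_right (by omega) h1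
  have hDL : Dset χ a ω = Set.range (fun p : F × F => p.1 • a + p.2 • v) := by
    apply Set.eq_of_subset_of_ncard_le (hDsub ω v hva hvD) _ (Set.toFinite _)
    rw [← Nat.card_coe_set_eq (Dset χ a ω), hDeq]
    exact hLcard v
  have hμv : ∀ μ : F, μ • v ∈ Dset χ a ω := by
    intro μ
    rw [hDL]
    exact ⟨(0, μ), by simp⟩
  have hfv : ∀ f ∈ stabQ (F := F) a ω, (f : Dual F V) v = 0 := by
    intro f hf
    by_contra hne
    have := hμv (y₀ / (f : Dual F V) v) f hf
    rw [map_smul, smul_eq_mul, div_mul_cancel₀ _ hne] at this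
    exact C.hy₀ this
  -- cardinality comparison with ann₂
  have hA2 : Nat.card (ann₂ (F := F) a v) = r := by
    have h1 := card_ann₂ (F := F) C.ha hva
    rw [← hq, ← hn', hqn] at h1
    have : Nat.card (ann₂ (F := F) a v) * q ^ 2 = r * q ^ 2 := by rw [h1]; ring
    exact Nat.eq_of_mul_eq_mul_right (by positivity) this
  let ι : stabQ (F := F) a ω → ann₂ (F := F) a v := fun f =>
    ⟨((f : ann (F := F) a) : Dual F V), mem_ann₂.mpr ⟨mem_ann.mp f.1.2, hfv f.1 f.2⟩⟩
  have hιinj : Function.Injective ι := by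
    intro f f' h
    have h1 : ((f : ann (F := F) a) : Dual F V) = ((f' : ann (F := F) a) : Dual F V) :=
      congrArg (fun z : ann₂ (F := F) a v => (z : Dual F V)) h
    exact Subtype.ext (Subtype.ext h1)
  have hιbij : Function.Bijective ι := by
    rw [Nat.bijective_iff_injective_and_card]
    exact ⟨hιinj, by rw [hReq ω, hA2]⟩
  intro f
  constructor
  · intro h
    exact hfv f (mem_stabQ.mpr h)
  · intro h
    obtain ⟨f', hf'⟩ := hιbij.2 ⟨(f : Dual F V), mem_ann₂.mpr ⟨mem_ann.mp f.2, h⟩⟩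
    have h1 : ((f' : ann (F := F) a) : Dual F V) = (f : Dual F V) :=
      congrArg (fun z : ann₂ (F := F) a v => (z : Dual F V)) hf'
    have : (f' : ann (F := F) a) = f := Subtype.ext h1
    rw [← this]
    exact mem_stabQ.mp f'.2

end Cfsg.Agent.Lib.H26.MinIdx
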