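import Cfsg.Agent.Lib.H26.MinIdxB7

/-!
# S2140, piece B, part 8: the dichotomy for a finite `G`-set
-/

set_option autoImplicit false

namespace Cfsg.Agent.Lib.H26.MinIdx

open Module
open scoped LinearAlgebra.Projectivization

theorem geom_aux1 (q d : ℕ) (hq : 1 ≤ q) :
    (q - 1) * (∑ i ∈ Finset.range d, q ^ i) + 1 = q ^ d := by
  induction d with
  | zero => simp
  | succ d ih =>
    rw [Finset.sum_range_succ, mul_add, pow_succ]
    have : (q - 1) * q ^ d + q ^ d = q ^ d * q := by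
      obtain ⟨p, rfl⟩ : ∃ p, q = p + 1 := ⟨q - 1, by omega⟩
      simp only [Nat.add_sub_cancel]
      ring
    omega

variable {F V : Type*} [Field F] [AddCommGroup V] [Module F V]
variable {Ω : Type*} [MulAction (SpecialLinearGroup F V) Ω]
variable [Finite F] [Module.Finite F V]

/-- **Piece B for a finite `G`-set.** -/
theorem dichotomy_action [Finite Ω] [Nonempty Ω] (hn : 3 ≤ finrank F V) {a : V} (ha : a ≠ 0)
    (hnofix : ∀ ω : Ω, ∃ f : ann (F := F) a, act a f ω ≠ ω)
    (hm : Nat.card Ω < Nat.card (ℙ F V)) :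
    (Nat.card Ω = Nat.card F ^ (finrank F V - 1) ∧
        ∀ (ω : Ω) (f : ann (F := F) a), f ≠ 0 → act a f ω ≠ ω) ∨
    (Nat.card Ω + 1 = Nat.card (ℙ F V) ∧
        ∀ ω : Ω, ∃ w : V, (∀ c : F, c • a ≠ w) ∧
          ∀ f : ann (F := F) a, act a f ω = ω ↔ (f : Dual F V) w = 0) := by
  classical
  haveI : Fintype Ω := Fintype.ofFinite Ω
  haveI : Finite (Dual F V) := Module.finite_of_finite F
  set q := Nat.card F with hq
  have hq2 : 2 ≤ q := Finite.one_lt_card
  set n := finrank F V with hn'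
  set Q := Nat.card (ann (F := F) a) with hQ
  have hQq : Q * q = q ^ n := card_ann (F := F) ha
  have hQ' : Q = q ^ (n - 1) := by
    have : Q * q = q ^ (n - 1) * q := by
      rw [hQq, ← pow_succ]
      congr 1
      omega
    exact Nat.eq_of_mul_eq_mul_right (by omega) this
  set N' := ∑ i ∈ Finset.range (n - 1), q ^ i with hN'def
  have hN' : (q - 1) * N' + 1 = Q := by rw [hQ', hN'def]; exact geom_aux1 q (n - 1) (by omega)
  have hN : Nat.card (ℙ F V) = ∑ i ∈ Finset.range n, q ^ i :=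
    Projectivization.card_of_finrank F V rfl
  have hn1 : n = (n - 1) + 1 := by omega
  have hNa : Nat.card (ℙ F V) = N' + Q := by
    rw [hN, hn1, Finset.sum_range_succ, hQ']
  have hNb : Nat.card (ℙ F V) = q * N' + 1 := by
    rw [hN, hn1, geom_sum_succ]
  have hN'Q : N' < Q := by
    have : 1 * N' ≤ (q - 1) * N' := Nat.mul_le_mul_right _ (by omega)
    omega
  -- the character
  obtain ⟨χ, hχ⟩ := (AddChar.exists_apply_ne_zero (α := F) (a := 1)).mpr one_ne_zero
  -- φ₀
  have hQ1 : 1 < Q := by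
    rw [hQ']
    exact Nat.one_lt_pow (by omega) (by omega)
  haveI : Nontrivial (ann (F := F) a) := Finite.one_lt_card_iff_nontrivial.mp hQ1
  obtain ⟨f₁, hf₁⟩ := exists_ne (0 : ann (F := F) a)
  have hlt : Nat.card Ω < 2 * Q := by omega
  have hmle : Nat.card Ω ≤ q * N' := by omega
  have C : BCtx Ω a χ 1 (fixc (Ω := Ω) a f₁) :=
    { hn := hn
      ha := ha
      hy₀ := hχ
      hφ₀ := fun f hf => fixc_const hn ha f f₁ hf hf₁
      hnofix := hnofix
      hlt := hlt
      hne := inferInstance }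
  by_cases hbig : ∃ (ω : Ω) (v w : V), v ∈ Dset χ a ω ∧ (∀ c : F, c • a ≠ v) ∧ w ∈ Dset χ a ω ∧
      ∀ κ μ : F, κ • a + μ • v ≠ w
  · left
    obtain ⟨ω₀, v, w, hv, hva, hw, hwav⟩ := hbig
    have := C.caseI (C.claimC hv hva hw hwav)
    rw [← hQ']
    exact this
  · right
    push Not at hbig
    have := C.caseII N' hN' hmle (fun ω v w hv hva hw => hbig ω v w hv hva hw)
    refine ⟨?_, this.2⟩
    have h1 : Nat.card Ω = q * N' := this.1
    omega

end Cfsg.Agent.Lib.H26.MinIdx
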