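import Mathlib

/-!
# S2140 (minimal index of a proper subgroup of `PSL_n(q)`): basic definitions

Basis-free setting: `G = SpecialLinearGroup F V` (Mathlib), `V` a finite-dimensional space over a finite
field `F`.  `tv f v h` is the transvection `x ↦ x + f x • v` (`f v = 0`) as an element of `G`.
-/

set_option autoImplicit false

namespace Cfsg.Agent.Lib.H26.MinIdx

open Module

variable {F V : Type*} [Field F] [AddCommGroup V] [Module F V]

/-- The transvection `x ↦ x + f x • v` (with `f v = 0`) as an element of `SL(V)`. -/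
noncomputable def tv (f : Dual F V) (v : V) (h : f v = 0) : SpecialLinearGroup F V :=
  ⟨LinearEquiv.transvection h, LinearEquiv.transvection.det_eq_one h⟩

@[simp] theorem tv_apply (f : Dual F V) (v : V) (h : f v = 0) (x : V) :
    tv f v h x = x + f x • v := by
  show LinearEquiv.transvection h x = _
  rw [LinearEquiv.transvection.apply]

theorem tv_smul (f : Dual F V) (v : V) (h : f v = 0) (x : V) :
    tv f v h • x = x + f x • v := tv_apply f v h x

theorem sl_smul_eq (g : SpecialLinearGroup F V) (x : V) : g • x = g x := rfl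

@[simp] theorem sl_mul_apply (g g' : SpecialLinearGroup F V) (x : V) : (g * g') x = g (g' x) := rfl

@[simp] theorem sl_one_apply (x : V) : (1 : SpecialLinearGroup F V) x = x := rfl

@[simp] theorem sl_inv_apply_apply (g : SpecialLinearGroup F V) (x : V) : g⁻¹ (g x) = x := by
  rw [← sl_mul_apply, inv_mul_cancel, sl_one_apply]

@[simp] theorem sl_apply_inv_apply (g : SpecialLinearGroup F V) (x : V) : g (g⁻¹ x) = x := by
  rw [← sl_mul_apply, mul_inv_cancel, sl_one_apply]

@[simp] theorem sl_map_add (g : SpecialLinearGroup F V) (x y : V) : g (x + y) = g x + g y :=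
  map_add g.1 x y

@[simp] theorem sl_map_smul (g : SpecialLinearGroup F V) (c : F) (x : V) : g (c • x) = c • g x :=
  map_smul g.1 c x

@[simp] theorem sl_map_zero (g : SpecialLinearGroup F V) : g (0 : V) = 0 := map_zero g.1

@[simp] theorem sl_map_sub (g : SpecialLinearGroup F V) (x y : V) : g (x - y) = g x - g y :=
  map_sub g.1 x y

/-- `f ∘ g⁻¹` as a functional. -/
noncomputable def dualConj (g : SpecialLinearGroup F V) (f : Dual F V) : Dual F V :=
  f ∘ₗ ((g⁻¹ : SpecialLinearGroup F V).1 : V →ₗ[F] V)

@[simp] theorem dualConj_apply (g : SpecialLinearGroup F V) (f : Dual F V) (x : V) :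
    dualConj g f x = f (g⁻¹ x) := rfl

theorem dualConj_apply_apply (g : SpecialLinearGroup F V) (f : Dual F V) (x : V) :
    dualConj g f (g x) = f x := by simp

/-- conjugating a transvection -/
theorem conj_tv (g : SpecialLinearGroup F V) (f : Dual F V) (v : V) (h : f v = 0) :
    g * tv f v h * g⁻¹ = tv (dualConj g f) (g v) (by simpa using h) := by
  ext x
  simp

theorem tv_mul_tv_left (f f' : Dual F V) (v : V) (h : f v = 0) (h' : f' v = 0) :
    tv f v h * tv f' v h' = tv (f + f') v (by simp [h, h']) := by
  ext x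
  simp [h, add_smul]
  abel

theorem tv_mul_tv_right (f : Dual F V) (v v' : V) (h : f v = 0) (h' : f v' = 0) :
    tv f v h * tv f v' h' = tv f (v + v') (by simp [h, h']) := by
  ext x
  simp [h', smul_add]
  abel

theorem tv_zero_left (v : V) : tv (0 : Dual F V) v (by simp) = 1 := by
  ext x; simp

theorem tv_zero_right (f : Dual F V) : tv f (0 : V) (by simp) = 1 := by
  ext x; simp

theorem tv_inv (f : Dual F V) (v : V) (h : f v = 0) :
    (tv f v h)⁻¹ = tv (-f) v (by simp [h]) := by
  rw [inv_eq_iff_mul_eq_one, tv_mul_tv_left]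
  ext x; simp

/-- Commutator of two transvections `1 + v ⊗ f`, `1 + w ⊗ g` with `g v = 0` :
`[t, t'] = 1 + f w • (v ⊗ g)`. -/
theorem tv_commutator (f g : Dual F V) (v w : V) (hf : f v = 0) (hg : g w = 0) (hgv : g v = 0) :
    tv f v hf * tv g w hg * (tv f v hf)⁻¹ * (tv g w hg)⁻¹ =
      tv (f w • g) v (by simp [hgv]) := by
  rw [tv_inv, tv_inv]
  ext x
  simp [hf, hg, hgv, smul_smul, smul_add]
  module

end Cfsg.Agent.Lib.H26.MinIdx
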