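import Cfsg.Agent.Lib.H26.MinIdxB8
import Cfsg.Agent.Lib.H21.MinIdxFisher
import Cfsg.Agent.Lib.H2.MinIdxGen
import Cfsg.Agent.Lib.H11.MinIdxC
import Cfsg.Agent.Lib.H11.MinIdxD3
import Cfsg.Agent.Lib.H20.MinIdxD4

/-!
# S2140: piece B for `G ⧸ H` (the dichotomy) and MAIN (`index_ge`)

Assembly of FISHER (helper21), GEN (helper2), C (helper11, helper3), D3 (helper11),
D4 (helper20, helper9, helper21, helper23) and piece B (`dichotomy_action`, helper26).
-/

set_option autoImplicit false

namespace Cfsg.Agent.Lib.H26.MinIdx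

open Module MulAction
open scoped LinearAlgebra.Projectivization

variable {F V : Type*} [Field F] [AddCommGroup V] [Module F V]

/-- a subgroup transitive on points and containing the transvections `tv f a` (all `f ∈ ann a`)
is everything -/
theorem eq_top_of_tv_point [Module.Finite F V] (K : Subgroup (SpecialLinearGroup F V))
    (htr : IsPretransitive K (ℙ F V)) {a : V} (ha : a ≠ 0)
    (hK : ∀ (f : Dual F V) (h : f a = 0), tv f a h ∈ K) : K = ⊤ := by
  apply Cfsg.Agent.Lib.H2.MinIdx.eq_top_of_forall_tv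
  intro f v h
  by_cases hv : v = 0
  · subst hv
    rw [tv_zero_right]
    exact K.one_mem
  obtain ⟨k, hk⟩ := htr.exists_smul_eq (Projectivization.mk F a ha) (Projectivization.mk F v hv)
  have hk' : (k : SpecialLinearGroup F V) • Projectivization.mk F a ha =
      Projectivization.mk F v hv := hk
  rw [Projectivization.smul_mk, Projectivization.mk_eq_mk_iff] at hk'
  obtain ⟨c, hc⟩ := hk'
  have hka : (k : SpecialLinearGroup F V) a = (c : F) • v := hc.symm
  have hf₀ : (dualConj (k : SpecialLinearGroup F V)⁻¹ (((c : F)⁻¹) • f)) a = 0 := by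
    simp [hka, h]
  have e : tv f v h = (k : SpecialLinearGroup F V) *
      tv (dualConj (k : SpecialLinearGroup F V)⁻¹ (((c : F)⁻¹) • f)) a hf₀ *
        (k : SpecialLinearGroup F V)⁻¹ := by
    ext x
    have hc0 : (c : F) ≠ 0 := c.ne_zero
    have hcx : (c : F)⁻¹ * f x * (c : F) = f x := by
      field_simp
    simp [hka, smul_smul, hcx]
  rw [e]
  exact K.mul_mem (K.mul_mem k.2 (hK _ hf₀)) (K.inv_mem k.2)

theorem act_mk_one (H : Subgroup (SpecialLinearGroup F V)) (a : V) (f : ann (F := F) a) :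
    act a f ((1 : SpecialLinearGroup F V) : SpecialLinearGroup F V ⧸ H) =
      ((1 : SpecialLinearGroup F V) : SpecialLinearGroup F V ⧸ H) ↔
      tv f.1 a (mem_ann.mp f.2) ∈ H := by
  unfold act
  rw [MulAction.Quotient.smul_mk, QuotientGroup.eq]
  simp [smul_eq_mul]

/-- **S2140-B**.  Dichotomy at a point `a` for a proper subgroup of index `< |P(V)|`. -/
theorem dichotomy [Finite F] [Module.Finite F V] (hn : 3 ≤ finrank F V)
    (H : Subgroup (SpecialLinearGroup F V)) (hH : H ≠ ⊤)
    (hidx : H.index < Nat.card (ℙ F V)) (a : V) (ha : a ≠ 0) :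
    (H.index = Nat.card F ^ (finrank F V - 1) ∧
        ∀ (f : Dual F V) (h : f a = 0), f ≠ 0 → tv f a h ∉ H) ∨
    (H.index + 1 = Nat.card (ℙ F V) ∧ ∃ w : V, (∀ c : F, c • a ≠ w) ∧
        ∀ (f : Dual F V) (h : f a = 0), tv f a h ∈ H ↔ f w = 0) := by
  classical
  haveI : Finite (SpecialLinearGroup F V) := Cfsg.Agent.Lib.H23.MinIdx.finite_sl
  haveI : Finite (ℙ F V) := by
    haveI : Finite V := Module.finite_of_finite F
    exact Finite.of_surjective (fun v : {v : V // v ≠ 0} => Projectivization.mk F v.1 v.2)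
      (fun x => ⟨⟨x.rep, x.rep_nonzero⟩, Projectivization.mk_rep x⟩)
  have hcard : Nat.card (SpecialLinearGroup F V ⧸ H) = H.index := (Subgroup.index_eq_card H).symm
  have h0 : H.index ≠ 0 := Subgroup.index_ne_zero_of_finite
  have htr : IsPretransitive H (ℙ F V) := Cfsg.Agent.Lib.H21.MinIdx.fisher H h0 hidx
  have hnofix : ∀ ω : SpecialLinearGroup F V ⧸ H, ∃ f : ann (F := F) a, act a f ω ≠ ω := by
    intro ω
    induction ω using QuotientGroup.induction_on with
    | H g =>
      by_contra hcon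
      push Not at hcon
      apply hH
      have ha' : g⁻¹ a ≠ 0 := by
        intro h
        apply ha
        have := congrArg (fun y => g y) h
        simpa using this
      apply eq_top_of_tv_point H htr ha'
      intro f' hf'
      have hfa : dualConj g f' a = 0 := by simpa using hf'
      have hfix := hcon ⟨dualConj g f', mem_ann.mpr hfa⟩
      unfold act at hfix
      rw [MulAction.Quotient.smul_mk] at hfix
      have hmem : g⁻¹ * (tv (dualConj g f') a hfa * g) ∈ H := by
        have := QuotientGroup.eq.1 hfix.symm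
        simpa [smul_eq_mul] using this
      have hconj : g⁻¹ * (tv (dualConj g f') a hfa * g) = tv f' (g⁻¹ a) hf' := by
        ext x
        simp
      rwa [hconj] at hmem
  have hm : Nat.card (SpecialLinearGroup F V ⧸ H) < Nat.card (ℙ F V) := by rw [hcard]; exact hidx
  rcases dichotomy_action (Ω := SpecialLinearGroup F V ⧸ H) hn ha hnofix hm with ⟨h1, h2⟩ | ⟨h1, h2⟩
  · left
    refine ⟨by rw [← hcard]; exact h1, ?_⟩
    intro f h hf hmem
    have hf' : (⟨f, mem_ann.mpr h⟩ : ann (F := F) a) ≠ 0 := by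
      intro h0
      exact hf (congrArg (fun z : ann (F := F) a => (z : Dual F V)) h0)
    exact h2 _ _ hf' ((act_mk_one H a ⟨f, mem_ann.mpr h⟩).mpr hmem)
  · right
    refine ⟨by rw [← hcard]; exact h1, ?_⟩
    obtain ⟨w, hw, hw2⟩ := h2 ((1 : SpecialLinearGroup F V) : SpecialLinearGroup F V ⧸ H)
    refine ⟨w, hw, ?_⟩
    intro f h
    rw [← hw2 ⟨f, mem_ann.mpr h⟩, act_mk_one]

theorem card_proj_ne [Finite F] [Module.Finite F V] (hn : 3 ≤ finrank F V) :
    Nat.card F ^ (finrank F V - 1) + 1 ≠ Nat.card (ℙ F V) := by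
  have hN : Nat.card (ℙ F V) = ∑ i ∈ Finset.range (finrank F V), Nat.card F ^ i :=
    Projectivization.card_of_finrank F V rfl
  have hq2 : 2 ≤ Nat.card F := Finite.one_lt_card
  obtain ⟨m, hm⟩ : ∃ m, finrank F V = m + 3 := ⟨finrank F V - 3, by omega⟩
  rw [hN, hm, Finset.sum_range_succ, Finset.sum_range_succ]
  have h1 : 2 ≤ Nat.card F ^ (m + 1) := by
    calc 2 ≤ Nat.card F := hq2
      _ = Nat.card F ^ 1 := (pow_one _).symm
      _ ≤ Nat.card F ^ (m + 1) := Nat.pow_le_pow_right (by omega) (by omega)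
  have h2 : m + 3 - 1 = m + 2 := by omega
  rw [h2]
  omega

/-- **MAIN**: a proper subgroup of `SL(V)` (`n ≥ 3`, `(n, q) ≠ (4, 2)`) has index at least `|P(V)|`. -/
theorem index_ge [Finite F] [Module.Finite F V] (hn : 3 ≤ finrank F V)
    (hne : ¬ (finrank F V = 4 ∧ Nat.card F = 2))
    (H : Subgroup (SpecialLinearGroup F V)) (hH : H ≠ ⊤) :
    Nat.card (ℙ F V) ≤ H.index := by
  by_contra hlt
  push Not at hlt
  have hdich := fun a ha => dichotomy hn H hH hlt a ha
  have hcardne := card_proj_ne (F := F) (V := V) hn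
  by_cases hI : H.index = Nat.card F ^ (finrank F V - 1)
  · have hno : ∀ (f : Dual F V) (v : V) (h : f v = 0), f ≠ 0 → v ≠ 0 → tv f v h ∉ H := by
      intro f v h hf hv
      rcases hdich v hv with ⟨_, h1⟩ | ⟨h2, _⟩
      · exact h1 f h hf
      · exfalso
        rw [hI] at h2
        exact hcardne h2
    by_cases h3 : finrank F V = 3
    · exact Cfsg.Agent.Lib.H11.MinIdx.not_caseI_three h3 H (by rw [hI, h3]) hno
    · exact Cfsg.Agent.Lib.H20.MinIdx.not_caseI_four (by omega) hne H hI hno
  · apply Cfsg.Agent.Lib.H11.MinIdx.not_caseII hn H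
    intro a ha
    rcases hdich a ha with ⟨h1, _⟩ | ⟨_, h2⟩
    · exact absurd h1 hI
    · exact h2

end Cfsg.Agent.Lib.H26.MinIdx
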