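import Mathlib
import Cfsg.Agent.Lib.H21.MinN2

/-!
# No group has exactly 22 Sylow 3-subgroups, part 1 (helper26)

Basic facts on a minimal group with exactly `22` Sylow `3`-subgroups: intersections of distinct
Sylow subgroups have index `3` or `9`; "lines" (sets of Sylow subgroups above a subgroup of index
`3`) and the flag count.
-/

set_option autoImplicit false

namespace Cfsg.Agent.Lib.H26.N22

open Subgroup MulAction
open scoped Pointwise
open Cfsg.Agent.Lib.H21 Cfsg.Agent.Lib.H21.TwoP1 Cfsg.Agent.Lib.H21.MinN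

universe u

variable {G : Type u} [Group G] [Finite G]

/-- the common order of the Sylow `3`-subgroups -/
noncomputable def sc (G : Type u) [Group G] : ℕ := 3 ^ (Nat.card G).factorization 3

theorem card_syl (P : Sylow 3 G) : Nat.card (P : Subgroup G) = sc G := P.card_eq_multiplicity

theorem sc_pos : 0 < sc G := by unfold sc; positivity

omit [Finite G] in
/-- the `P`-orbit of `Q ≠ P` avoids `P` -/
theorem orbit_subset_compl (P Q : Sylow 3 G) (hPQ : Q ≠ P) :
    MulAction.orbit (P : Subgroup G) Q ⊆ ({P} : Set (Sylow 3 G))ᶜ := by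
  rintro R ⟨x, rfl⟩
  rw [Set.mem_compl_iff, Set.mem_singleton_iff]
  intro hx
  apply hPQ
  have h1 : (x : G) • Q = P := hx
  have h2 : (x : G)⁻¹ • P = P := by
    rw [Sylow.smul_eq_iff_mem_normalizer]
    exact le_normalizer ((P : Subgroup G).inv_mem x.2)
  calc Q = (x : G)⁻¹ • ((x : G) • Q) := by rw [smul_smul, inv_mul_cancel, one_smul]
    _ = (x : G)⁻¹ • P := by rw [h1]
    _ = P := h2

/-- intersections of distinct Sylow subgroups have index `3` or `9` -/
theorem inf_card_cases (h : MinN 3 22 G) (P Q : Sylow 3 G) (hPQ : Q ≠ P) :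
    Nat.card ((P : Subgroup G) ⊓ Q : Subgroup G) * 3 = sc G ∨
    Nat.card ((P : Subgroup G) ⊓ Q : Subgroup G) * 9 = sc G := by
  obtain ⟨k, hk⟩ := (P.isPGroup').index (MulAction.stabilizer (P : Subgroup G) Q)
  have hk0 : k ≠ 0 := by
    rintro rfl
    rw [pow_zero, Subgroup.index_eq_one] at hk
    exact stabilizer_ne_top P Q hPQ hk
  have hle : (MulAction.stabilizer (P : Subgroup G) Q).index + 1 ≤ 22 := by
    rw [MulAction.index_stabilizer]
    have h1 := Set.ncard_le_ncard (orbit_subset_compl P Q hPQ) (Set.toFinite _)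
    have h2 : (({P} : Set (Sylow 3 G))ᶜ).ncard + 1 = 22 := by
      rw [Set.ncard_compl, Set.ncard_singleton, h.1]
    omega
  have hk2 : k = 1 ∨ k = 2 := by
    rcases Nat.lt_or_ge k 3 with h3 | h3
    · omega
    · exfalso
      have h4 : 3 ^ 3 ≤ 3 ^ k := Nat.pow_le_pow_right (by norm_num) h3
      rw [hk] at hle
      omega
  have hrel : ((P : Subgroup G) ⊓ Q).relIndex P = 3 ^ k := by
    rw [← hk, stabilizer_eq]; rfl
  have h5 := card_mul_relIndex' (inf_le_left : (P : Subgroup G) ⊓ Q ≤ P)
  rw [hrel, card_syl] at h5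
  rcases hk2 with rfl | rfl
  · left; simpa using h5
  · right; simpa using h5

/-- two distinct Sylow subgroups above a subgroup `D` of index `3` meet exactly in `D` -/
theorem meet_eq (h : MinN 3 22 G) (D : Subgroup G) (hD : Nat.card D * 3 = sc G)
    (T T' : Sylow 3 G) (hne : T ≠ T') (h1 : D ≤ T) (h2 : D ≤ T') :
    (T : Subgroup G) ⊓ T' = D := by
  symm
  apply Subgroup.eq_of_le_of_card_ge (le_inf h1 h2)
  rcases inf_card_cases h T T' (Ne.symm hne) with h3 | h3 <;> omega

end Cfsg.Agent.Lib.H26.N22
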