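import Mathlib
import Cfsg.Agent.Lib.H26.N22a

/-!
# No group has exactly 22 Sylow 3-subgroups, part 2 (helper26): lines and the flag count
-/

set_option autoImplicit false

namespace Cfsg.Agent.Lib.H26.N22

open Subgroup MulAction
open scoped Pointwise
open Cfsg.Agent.Lib.H21 Cfsg.Agent.Lib.H21.TwoP1 Cfsg.Agent.Lib.H21.MinN

universe u

variable {G : Type u} [Group G] [Finite G]

theorem ncard_setOf_eq_card_filter {α : Type*} [Fintype α] (p : α → Prop) [DecidablePred p] :
    {x | p x}.ncard = (Finset.univ.filter p).card := by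
  rw [← Set.ncard_coe_finset]; congr 1; ext; simp

theorem ncard_Above_mod (h : MinN 3 22 G) (D : Subgroup G) (hD : IsPGroup 3 D) :
    (Above D : Set (Sylow 3 G)).ncard % 3 = 1 := by
  have := ncard_Above_modEq D hD
  rw [h.1] at this
  unfold Nat.ModEq at this; omega

theorem ncard_Above_le (h : MinN 3 22 G) (D : Subgroup G) :
    (Above D : Set (Sylow 3 G)).ncard ≤ 22 := by
  rw [← h.1, ← Set.ncard_univ]
  exact Set.ncard_le_ncard (Set.subset_univ _) (Set.toFinite _)

/-- a subgroup contained in all Sylow `3`-subgroups is trivial -/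
theorem eq_bot_of_ncard_Above (h : MinN 3 22 G) (D : Subgroup G)
    (h22 : (Above D : Set (Sylow 3 G)).ncard = 22) : D = ⊥ := by
  have huniv : (Above D : Set (Sylow 3 G)) = Set.univ := by
    apply Set.eq_of_subset_of_ncard_le (Set.subset_univ _) _ (Set.toFinite _)
    rw [Set.ncard_univ, h.1, h22]
  rw [eq_bot_iff]
  intro d hd
  rw [Subgroup.mem_bot]
  apply h.eq_one_of_forall_smul
  intro R
  rw [Sylow.smul_eq_iff_mem_normalizer]
  have hR : R ∈ (Above D : Set (Sylow 3 G)) := huniv ▸ Set.mem_univ R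
  exact le_normalizer (hR hd)

omit [Finite G] in
theorem card_conj_smul (g : G) (D : Subgroup G) :
    Nat.card (MulAut.conj g • D : Subgroup G) = Nat.card D :=
  Nat.card_congr (Subgroup.equivSMul (MulAut.conj g) D).toEquiv.symm

omit [Finite G] in
theorem conj_smul_le_iff (g : G) (D : Subgroup G) (T : Sylow 3 G) :
    MulAut.conj g • D ≤ ((g • T : Sylow 3 G) : Subgroup G) ↔ D ≤ T := by
  rw [Sylow.coe_subgroup_smul, pointwise_smul_le_pointwise_smul_iff]

omit [Finite G] in
theorem Above_conj (g : G) (D : Subgroup G) :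
    (Above (MulAut.conj g • D) : Set (Sylow 3 G)) = (fun T => g • T) '' Above D := by
  ext T
  constructor
  · intro hT
    refine ⟨g⁻¹ • T, ?_, by simp⟩
    rw [mem_Above] at hT ⊢
    have := (conj_smul_le_iff g⁻¹ (MulAut.conj g • D) T).2 hT
    rwa [smul_smul, ← map_mul, inv_mul_cancel, map_one, one_smul] at this
  · rintro ⟨T', hT', rfl⟩
    rw [mem_Above] at hT' ⊢
    exact (conj_smul_le_iff g D T').2 hT'

omit [Finite G] in
theorem ncard_Above_conj (g : G) (D : Subgroup G) :
    (Above (MulAut.conj g • D) : Set (Sylow 3 G)).ncard = (Above D : Set (Sylow 3 G)).ncard := by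
  rw [Above_conj, Set.ncard_image_of_injective _ (MulAction.injective g)]

/-- the lines of size `m` -/
def LS (G : Type u) [Group G] (m : ℕ) : Set (Subgroup G) :=
  {D | Nat.card D * 3 = sc G ∧ (Above D : Set (Sylow 3 G)).ncard = m}

/-- the lines of size `m` through `P` -/
def LP (m : ℕ) (P : Sylow 3 G) : Set (Subgroup G) :=
  {D | D ≤ P ∧ Nat.card D * 3 = sc G ∧ (Above D : Set (Sylow 3 G)).ncard = m}

omit [Finite G] in
theorem LP_conj (m : ℕ) (g : G) (P : Sylow 3 G) :
    LP m (g • P) = (fun D : Subgroup G => MulAut.conj g • D) '' LP m P := by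
  ext D
  constructor
  · rintro ⟨h1, h2, h3⟩
    refine ⟨MulAut.conj g⁻¹ • D, ⟨?_, ?_, ?_⟩, ?_⟩
    · have := (conj_smul_le_iff g⁻¹ D (g • P)).2 h1
      rwa [smul_smul, inv_mul_cancel, one_smul] at this
    · rw [card_conj_smul]; exact h2
    · rw [ncard_Above_conj]; exact h3
    · simp only
      rw [smul_smul, ← map_mul, mul_inv_cancel, map_one, one_smul]
  · rintro ⟨D', ⟨h1, h2, h3⟩, rfl⟩
    refine ⟨(conj_smul_le_iff g D' P).2 h1, ?_, ?_⟩
    · rw [card_conj_smul]; exact h2
    · rw [ncard_Above_conj]; exact h3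

theorem ncard_LP_eq (m : ℕ) (P Q : Sylow 3 G) : (LP m P).ncard = (LP m Q).ncard := by
  obtain ⟨g, rfl⟩ := MulAction.exists_smul_eq G P Q
  rw [LP_conj, Set.ncard_image_of_injective _ (MulAction.injective (MulAut.conj g))]

/-- the flag count -/
theorem flag_count (h : MinN 3 22 G) (m : ℕ) (P : Sylow 3 G) :
    22 * (LP m P).ncard = m * (LS G m).ncard := by
  classical
  haveI : Fintype (Sylow 3 G) := Fintype.ofFinite _
  haveI : Fintype (Subgroup G) := Fintype.ofFinite _
  set t : Finset (Subgroup G) := Finset.univ.filter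
    (fun D => Nat.card D * 3 = sc G ∧ (Above D : Set (Sylow 3 G)).ncard = m) with ht
  have key := Finset.sum_card_bipartiteAbove_eq_sum_card_bipartiteBelow
    (fun (T : Sylow 3 G) (D : Subgroup G) => D ≤ T) (s := Finset.univ) (t := t)
  have hL : ∀ T ∈ (Finset.univ : Finset (Sylow 3 G)),
      (Finset.bipartiteAbove (fun (T : Sylow 3 G) (D : Subgroup G) => D ≤ T) t T).card =
        (LP m P).ncard := by
    intro T _
    rw [ncard_LP_eq m P T, LP, ncard_setOf_eq_card_filter]
    congr 1
    ext D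
    simp only [Finset.bipartiteAbove, ht, Finset.mem_filter, Finset.mem_univ, true_and]
    tauto
  have hR : ∀ D ∈ t,
      (Finset.bipartiteBelow (fun (T : Sylow 3 G) (D : Subgroup G) => D ≤ T) Finset.univ D).card
        = m := by
    intro D hD
    rw [ht, Finset.mem_filter] at hD
    rw [← hD.2.2, Above, ncard_setOf_eq_card_filter]
    rfl
  rw [Finset.sum_congr rfl hL, Finset.sum_congr rfl hR, Finset.sum_const, Finset.sum_const,
    smul_eq_mul, smul_eq_mul, Finset.card_univ, ← Nat.card_eq_fintype_card, h.1] at key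
  rw [key, LS, ncard_setOf_eq_card_filter, mul_comm]

end Cfsg.Agent.Lib.H26.N22
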