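import Mathlib
import Cfsg.Agent.Lib.H26.N22b

/-!
# No group has exactly 22 Sylow 3-subgroups, part 3 (helper26): all lines have four points
-/

set_option autoImplicit false

namespace Cfsg.Agent.Lib.H26.N22

open Subgroup MulAction
open scoped Pointwise
open Cfsg.Agent.Lib.H21 Cfsg.Agent.Lib.H21.TwoP1 Cfsg.Agent.Lib.H21.MinN

universe u

variable {G : Type u} [Group G] [Finite G]

/-- the points `≠ P` of the line through `P` defined by `D` -/
theorem fibre_eq (h : MinN 3 22 G) (P : Sylow 3 G) (D : Subgroup G) (hDP : D ≤ P)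
    (hD : Nat.card D * 3 = sc G) :
    {Q : Sylow 3 G | Q ≠ P ∧ (P : Subgroup G) ⊓ Q = D} = Above D \ {P} := by
  ext Q
  simp only [Set.mem_setOf_eq, Set.mem_diff, Set.mem_singleton_iff, mem_Above]
  constructor
  · rintro ⟨h1, h2⟩
    exact ⟨h2 ▸ inf_le_right, h1⟩
  · rintro ⟨h1, h2⟩
    exact ⟨h2, meet_eq h D hD P Q (Ne.symm h2) hDP h1⟩

theorem ncard_fibre (h : MinN 3 22 G) (P : Sylow 3 G) (D : Subgroup G) (hDP : D ≤ P)
    (hD : Nat.card D * 3 = sc G) :
    {Q : Sylow 3 G | Q ≠ P ∧ (P : Subgroup G) ⊓ Q = D}.ncard =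
      (Above D : Set (Sylow 3 G)).ncard - 1 := by
  rw [fibre_eq h P D hDP hD, Set.ncard_diff_singleton_of_mem]
  exact hDP

/-- counting the points on the lines of size `m` through `P` -/
theorem ncard_on_lines (h : MinN 3 22 G) (m : ℕ) (P : Sylow 3 G) :
    (m - 1) * (LP m P).ncard =
      {Q : Sylow 3 G | Q ≠ P ∧ ((P : Subgroup G) ⊓ Q) ∈ LP m P}.ncard := by
  classical
  haveI : Fintype (Sylow 3 G) := Fintype.ofFinite _
  haveI : Fintype (Subgroup G) := Fintype.ofFinite _
  set t : Finset (Subgroup G) := Finset.univ.filter (fun D => D ∈ LP m P) with ht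
  set s : Finset (Sylow 3 G) := Finset.univ.filter (fun Q => Q ≠ P) with hs
  have key := Finset.sum_card_fiberwise_eq_card_filter s t
    (fun Q : Sylow 3 G => (P : Subgroup G) ⊓ Q)
  have hterm : ∀ D ∈ t, (s.filter (fun Q : Sylow 3 G => (P : Subgroup G) ⊓ Q = D)).card = m - 1 := by
    intro D hD
    rw [ht, Finset.mem_filter] at hD
    obtain ⟨-, h1, h2, h3⟩ := hD
    rw [← h3, ← ncard_fibre h P D h1 h2, ncard_setOf_eq_card_filter, hs, Finset.filter_filter]
  rw [Finset.sum_congr rfl hterm, Finset.sum_const, smul_eq_mul] at key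
  have h1 : (LP m P).ncard = t.card := by
    rw [ht, ← ncard_setOf_eq_card_filter]; rfl
  rw [h1, mul_comm, key, ncard_setOf_eq_card_filter, hs, Finset.filter_filter]
  congr 1
  ext Q
  simp only [Finset.mem_filter, Finset.mem_univ, true_and, ht]

theorem ncard_ne (h : MinN 3 22 G) (P : Sylow 3 G) :
    {Q : Sylow 3 G | Q ≠ P}.ncard = 21 := by
  have : {Q : Sylow 3 G | Q ≠ P} = ({P} : Set (Sylow 3 G))ᶜ := by
    ext Q; simp
  rw [this, Set.ncard_compl, Set.ncard_singleton, h.1]

theorem ncard_on_lines_le (h : MinN 3 22 G) (m : ℕ) (P : Sylow 3 G) :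
    (m - 1) * (LP m P).ncard ≤ 21 := by
  rw [ncard_on_lines h m P, ← ncard_ne h P]
  apply Set.ncard_le_ncard _ (Set.toFinite _)
  intro Q hQ
  exact hQ.1

/-- if the Sylow subgroups do not have order `3`, every line has `1` or `4` points -/
theorem ncard_Above_eq (h : MinN 3 22 G) (hsc : sc G ≠ 3) (P : Sylow 3 G) (D : Subgroup G)
    (hDP : D ≤ P) (hD : Nat.card D * 3 = sc G) :
    (Above D : Set (Sylow 3 G)).ncard = 1 ∨ (Above D : Set (Sylow 3 G)).ncard = 4 := by
  have h1 := ncard_Above_mod h D (P.isPGroup'.to_le hDP)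
  have h2 := ncard_Above_le h D
  have h3 : (Above D : Set (Sylow 3 G)).ncard ≠ 22 := by
    intro h22
    have := eq_bot_of_ncard_Above h D h22
    rw [this, Subgroup.card_bot] at hD
    omega
  set m := (Above D : Set (Sylow 3 G)).ncard with hm
  have hmem : D ∈ LP m P := ⟨hDP, hD, rfl⟩
  have hpos : 0 < (LP m P).ncard := by
    rw [Set.ncard_pos (Set.toFinite _)]
    exact ⟨D, hmem⟩
  have h4 := flag_count h m P
  have h5 := ncard_on_lines_le h m P
  generalize (LP m P).ncard = a at hpos h4 h5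
  generalize (LS G m).ncard = b at h4
  have hm22 : m ≤ 22 := h2
  interval_cases m <;> omega

end Cfsg.Agent.Lib.H26.N22
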