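import Mathlib
import Cfsg.Agent.Lib.H26.N22c
import Cfsg.Agent.Lib.H21.OrbitCount

/-!
# No group has exactly 22 Sylow 3-subgroups, part 4 (helper26): the Sylow subgroups have order 3
-/

set_option autoImplicit false

namespace Cfsg.Agent.Lib.H26.N22

open Subgroup MulAction
open scoped Pointwise
open Cfsg.Agent.Lib.H21 Cfsg.Agent.Lib.H21.TwoP1 Cfsg.Agent.Lib.H21.MinN

universe u

variable {G : Type u} [Group G] [Finite G]

/-- `P ∩ Q` has index `3` -/
def close (P Q : Sylow 3 G) : Prop :=
  Nat.card ((P : Subgroup G) ⊓ Q : Subgroup G) * 3 = sc G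

/-- `P ∩ Q` has index `9` -/
def far (P Q : Sylow 3 G) : Prop :=
  Nat.card ((P : Subgroup G) ⊓ Q : Subgroup G) * 9 = sc G

omit [Finite G] in
theorem close_symm {P Q : Sylow 3 G} (h : close P Q) : close Q P := by
  unfold close at h ⊢; rwa [inf_comm]

omit [Finite G] in
theorem far_symm {P Q : Sylow 3 G} (h : far P Q) : far Q P := by
  unfold far at h ⊢; rwa [inf_comm]

theorem close_ne {P Q : Sylow 3 G} (h : close P Q) : Q ≠ P := by
  rintro rfl
  unfold close at h
  rw [inf_idem, card_syl] at h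
  have := sc_pos (G := G)
  omega

theorem far_ne {P Q : Sylow 3 G} (h : far P Q) : Q ≠ P := by
  rintro rfl
  unfold far at h
  rw [inf_idem, card_syl] at h
  have := sc_pos (G := G)
  omega

theorem not_close_of_far {P Q : Sylow 3 G} (h : far P Q) : ¬ close P Q := by
  intro h'
  unfold far at h
  unfold close at h'
  have := sc_pos (G := G)
  omega

theorem close_or_far (h : MinN 3 22 G) {P Q : Sylow 3 G} (hPQ : Q ≠ P) : close P Q ∨ far P Q :=
  inf_card_cases h P Q hPQ

theorem ncard_close_add_far (h : MinN 3 22 G) (P : Sylow 3 G) :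
    {Q : Sylow 3 G | close P Q}.ncard + {Q : Sylow 3 G | far P Q}.ncard = 21 := by
  rw [← ncard_ne h P, ← Set.ncard_union_eq _ (Set.toFinite _) (Set.toFinite _)]
  · congr 1
    ext Q
    simp only [Set.mem_union, Set.mem_setOf_eq]
    constructor
    · rintro (h1 | h1)
      · exact close_ne h1
      · exact far_ne h1
    · intro h1
      exact close_or_far h h1
  · rw [Set.disjoint_left]
    intro Q h1 h2
    exact not_close_of_far h2 h1

omit [Finite G] in
theorem card_inf_smul (P Q : Sylow 3 G) (g : G) (hg : g ∈ (P : Subgroup G)) :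
    Nat.card ((P : Subgroup G) ⊓ ((g • Q : Sylow 3 G) : Subgroup G) : Subgroup G) =
      Nat.card ((P : Subgroup G) ⊓ Q : Subgroup G) := by
  have h1 : g • P = P := by
    rw [Sylow.smul_eq_iff_mem_normalizer]; exact le_normalizer hg
  have h2 : (P : Subgroup G) = MulAut.conj g • (P : Subgroup G) := by
    conv_lhs => rw [← h1]
    exact Sylow.coe_subgroup_smul
  conv_lhs => rw [h2]
  rw [Sylow.coe_subgroup_smul, ← Subgroup.smul_inf, card_conj_smul]

theorem nine_dvd_far (P : Sylow 3 G) : 9 ∣ {Q : Sylow 3 G | far P Q}.ncard := by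
  apply dvd_ncard_of_forall_dvd_index_stabilizer (G := (P : Subgroup G)) 9 _ (Set.toFinite _)
  · intro g Q hQ
    show far P ((g : G) • Q)
    unfold far at hQ ⊢
    rw [card_inf_smul P Q g g.2]; exact hQ
  · intro Q hQ
    rw [stabilizer_eq]
    have h1 : (((P : Subgroup G) ⊓ Q).subgroupOf P).index = ((P : Subgroup G) ⊓ Q).relIndex P := rfl
    rw [h1]
    have h2 := card_mul_relIndex' (inf_le_left : (P : Subgroup G) ⊓ Q ≤ P)
    unfold far at hQ
    rw [card_syl, ← hQ] at h2
    have hpos : 0 < Nat.card ((P : Subgroup G) ⊓ Q : Subgroup G) := Nat.card_pos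
    have : ((P : Subgroup G) ⊓ Q).relIndex P = 9 := Nat.eq_of_mul_eq_mul_left hpos h2
    rw [this]

/-- the points close to `P` are those on the lines of size four through `P` -/
theorem ncard_close_eq (h : MinN 3 22 G) (hsc : sc G ≠ 3) (P : Sylow 3 G) :
    {Q : Sylow 3 G | close P Q}.ncard = 3 * (LP 4 P).ncard := by
  have := ncard_on_lines h 4 P
  rw [show 4 - 1 = 3 from rfl] at this
  rw [this]
  congr 1
  ext Q
  simp only [Set.mem_setOf_eq]
  constructor
  · intro hc
    refine ⟨close_ne hc, inf_le_left, hc, ?_⟩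
    rcases ncard_Above_eq h hsc P _ inf_le_left hc with h1 | h1
    · exfalso
      have h2 : 1 < (Above ((P : Subgroup G) ⊓ Q) : Set (Sylow 3 G)).ncard := by
        rw [Set.one_lt_ncard (Set.toFinite _)]
        exact ⟨P, mem_Above.2 inf_le_left, Q, mem_Above.2 inf_le_right, (close_ne hc).symm⟩
      omega
    · exact h1
  · rintro ⟨-, -, h2, -⟩
    exact h2

theorem ncard_LP_four (h : MinN 3 22 G) (hsc : sc G ≠ 3) (P : Sylow 3 G) :
    (LP 4 P).ncard = 4 := by
  have h1 := ncard_close_eq h hsc P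
  have h2 := ncard_close_add_far h P
  obtain ⟨j, hj⟩ := nine_dvd_far P
  have h3 := flag_count h 4 P
  omega

theorem ncard_close (h : MinN 3 22 G) (hsc : sc G ≠ 3) (P : Sylow 3 G) :
    {Q : Sylow 3 G | close P Q}.ncard = 12 := by
  rw [ncard_close_eq h hsc P, ncard_LP_four h hsc P]

theorem ncard_far (h : MinN 3 22 G) (hsc : sc G ≠ 3) (P : Sylow 3 G) :
    {Q : Sylow 3 G | far P Q}.ncard = 9 := by
  have h1 := ncard_close h hsc P
  have h2 := ncard_close_add_far h P
  omega

/-- a subgroup of index `3` in a Sylow subgroup `Q` is normalized by `Q` -/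
theorem conj_smul_eq_of_index_three (Q : Sylow 3 G) (K : Subgroup G) (hKQ : K ≤ Q)
    (hK : Nat.card K * 3 = sc G) (g : G) (hg : g ∈ (Q : Subgroup G)) :
    MulAut.conj g • K = K := by
  have hrel : K.relIndex Q = 3 := by
    have h2 := card_mul_relIndex' hKQ
    rw [card_syl, ← hK] at h2
    exact Nat.eq_of_mul_eq_mul_left Nat.card_pos h2
  have hnorm : (K.subgroupOf Q).Normal := by
    apply Subgroup.normal_of_index_eq_minFac_card
    have h1 : (K.subgroupOf Q).index = 3 := hrel
    rw [h1, card_syl]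
    unfold sc
    have hk : (Nat.card G).factorization 3 ≠ 0 := by
      intro h0
      have : sc G = 1 := by unfold sc; rw [h0, pow_zero]
      omega
    exact (Nat.Prime.pow_minFac Nat.prime_three hk).symm
  apply Subgroup.eq_of_le_of_card_ge
  · intro x hx
    rw [Subgroup.mem_pointwise_smul_iff_inv_smul_mem, MulAut.smul_def, MulAut.conj_inv_apply] at hx
    have h3 : (⟨g⁻¹ * x * g, hx⟩ : K) = ⟨g⁻¹ * x * g, hx⟩ := rfl
    have hxQ : g⁻¹ * x * g ∈ (Q : Subgroup G) := hKQ hx
    have h4 : (⟨g⁻¹ * x * g, hxQ⟩ : (Q : Subgroup G)) ∈ K.subgroupOf Q := by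
      rw [Subgroup.mem_subgroupOf]; exact hx
    have h5 := hnorm.conj_mem _ h4 ⟨g, hg⟩
    rw [Subgroup.mem_subgroupOf] at h5
    have h6 : g * (g⁻¹ * x * g) * g⁻¹ = x := by group
    simp only [Subgroup.coe_mul, Subgroup.coe_inv] at h5
    rwa [h6] at h5
  · rw [card_conj_smul]

/-- three pairwise close Sylow subgroups are collinear -/
theorem triangle (h : MinN 3 22 G) (P Q T : Sylow 3 G) (hPQ : close P Q) (hQT : close Q T)
    (hPT : close P T) : (P : Subgroup G) ⊓ Q ≤ T := by
  by_contra hnot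
  obtain ⟨g, hgD, hgT⟩ := SetLike.not_le_iff_exists.1 hnot
  have hgP : g ∈ (P : Subgroup G) := hgD.1
  have hgQ : g ∈ (Q : Subgroup G) := hgD.2
  set K : Subgroup G := (Q : Subgroup G) ⊓ T with hK
  set E : Subgroup G := (P : Subgroup G) ⊓ T with hE
  have hK3 : Nat.card K * 3 = sc G := hQT
  have hE3 : Nat.card E * 3 = sc G := hPT
  have hgK : MulAut.conj g • K = K := conj_smul_eq_of_index_three Q K inf_le_left hK3 g hgQ
  have hgE : MulAut.conj g • E = E := conj_smul_eq_of_index_three P E inf_le_left hE3 g hgP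
  have hne : T ≠ g • T := by
    intro heq
    have h1 : g ∈ (P : Subgroup G) ⊓ normalizer (T : Set G) :=
      ⟨hgP, Sylow.smul_eq_iff_mem_normalizer.1 heq.symm⟩
    rw [P.isPGroup'.inf_normalizer_sylow T] at h1
    exact hgT h1.2
  have hKT : K ≤ ((g • T : Sylow 3 G) : Subgroup G) := by
    rw [← hgK]; exact (conj_smul_le_iff g K T).2 inf_le_right
  have hET : E ≤ ((g • T : Sylow 3 G) : Subgroup G) := by
    rw [← hgE]; exact (conj_smul_le_iff g E T).2 inf_le_right
  have h1 := meet_eq h K hK3 T (g • T) hne inf_le_right hKT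
  have h2 := meet_eq h E hE3 T (g • T) hne inf_le_right hET
  have hKE : K = E := h1.symm.trans h2
  have hKD : K ≤ (P : Subgroup G) ⊓ Q := le_inf (hKE ▸ inf_le_left) inf_le_left
  have hKD' : K = (P : Subgroup G) ⊓ Q := by
    apply Subgroup.eq_of_le_of_card_ge hKD
    have : Nat.card ((P : Subgroup G) ⊓ Q : Subgroup G) * 3 = sc G := hPQ
    omega
  exact hnot (hKD' ▸ inf_le_right)

end Cfsg.Agent.Lib.H26.N22
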