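import Mathlib
import Cfsg.Agent.Lib.H26.N22d

/-!
# No group has exactly 22 Sylow 3-subgroups, part 5 (helper26): the Sylow subgroups have order 3
-/

set_option autoImplicit false

namespace Cfsg.Agent.Lib.H26.N22

open Subgroup MulAction
open scoped Pointwise
open Cfsg.Agent.Lib.H21 Cfsg.Agent.Lib.H21.TwoP1 Cfsg.Agent.Lib.H21.MinN

universe u

variable {G : Type u} [Group G] [Finite G]

/-- the points far from `P` are close to every point close to `P` -/
theorem far_subset_close (h : MinN 3 22 G) (hsc : sc G ≠ 3) (P Q : Sylow 3 G) (hPQ : close P Q) :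
    {T : Sylow 3 G | far P T} ⊆ {T : Sylow 3 G | close Q T} := by
  set D : Subgroup G := (P : Subgroup G) ⊓ Q with hD
  have hD3 : Nat.card D * 3 = sc G := hPQ
  have hDP : D ≤ P := inf_le_left
  have hDQ : D ≤ Q := inf_le_right
  have hA4 : (Above D : Set (Sylow 3 G)).ncard = 4 := by
    rcases ncard_Above_eq h hsc P D hDP hD3 with h1 | h1
    · exfalso
      have h2 : 1 < (Above D : Set (Sylow 3 G)).ncard := by
        rw [Set.one_lt_ncard (Set.toFinite _)]
        exact ⟨P, mem_Above.2 hDP, Q, mem_Above.2 hDQ, (close_ne hPQ).symm⟩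
      omega
    · exact h1
  set A : Set (Sylow 3 G) := Above D \ {Q} with hA
  have hA3 : A.ncard = 3 := by
    rw [hA, Set.ncard_diff_singleton_of_mem (mem_Above.2 hDQ), hA4]
  have hAsub : A ⊆ {T : Sylow 3 G | close Q T} := by
    intro T hT
    have h1 : D ≤ T := hT.1
    have h2 : T ≠ Q := hT.2
    show Nat.card ((Q : Subgroup G) ⊓ T : Subgroup G) * 3 = sc G
    rw [meet_eq h D hD3 Q T (Ne.symm h2) hDQ h1]; exact hD3
  set S : Set (Sylow 3 G) := {T : Sylow 3 G | close Q T} \ A with hS
  have hS9 : S.ncard = 9 := by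
    rw [hS, Set.ncard_diff hAsub (Set.toFinite _), ncard_close h hsc Q, hA3]
  have hSsub : S ⊆ {T : Sylow 3 G | far P T} := by
    intro T hT
    have hQT : close Q T := hT.1
    have hTA : T ∉ A := hT.2
    have hTQ : T ≠ Q := close_ne hQT
    have hDT : ¬ D ≤ T := fun hle => hTA ⟨mem_Above.2 hle, hTQ⟩
    have hTP : T ≠ P := by
      rintro rfl; exact hDT hDP
    rcases close_or_far h hTP with h1 | h1
    · exact absurd (triangle h P Q T hPQ hQT h1) hDT
    · exact h1
  have heq : S = {T : Sylow 3 G | far P T} := by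
    apply Set.eq_of_subset_of_ncard_le hSsub _ (Set.toFinite _)
    rw [hS9, ncard_far h hsc P]
  rw [← heq]
  exact Set.diff_subset

/-- far points have the same close points -/
theorem close_eq_of_far (h : MinN 3 22 G) (hsc : sc G ≠ 3) (P T : Sylow 3 G) (hPT : far P T) :
    {Q : Sylow 3 G | close P Q} = {Q : Sylow 3 G | close T Q} := by
  apply Set.eq_of_subset_of_ncard_le _ _ (Set.toFinite _)
  · intro Q hQ
    have := far_subset_close h hsc P Q hQ hPT
    exact close_symm this
  · rw [ncard_close h hsc P, ncard_close h hsc T]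

/-- the Sylow `3`-subgroups of a minimal group with `22` Sylow `3`-subgroups have order `3` -/
theorem sc_eq_three (h : MinN 3 22 G) : sc G = 3 := by
  by_contra hsc
  have key := dvd_ncard_of_fibers' (Set.univ : Set (Sylow 3 G))
    (fun P : Sylow 3 G => {Q : Sylow 3 G | close P Q}) 10 ?_
  · rw [Set.ncard_univ, h.1] at key
    omega
  · intro P _
    have heq : {T : Sylow 3 G | T ∈ (Set.univ : Set (Sylow 3 G)) ∧
        {Q : Sylow 3 G | close T Q} = {Q : Sylow 3 G | close P Q}} =
        insert P {T : Sylow 3 G | far P T} := by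
      ext T
      simp only [Set.mem_univ, true_and, Set.mem_setOf_eq, Set.mem_insert_iff]
      constructor
      · intro hT
        by_cases hTP : T = P
        · left; exact hTP
        · right
          rcases close_or_far h hTP with h1 | h1
          · exfalso
            have h2 : T ∈ {Q : Sylow 3 G | close T Q} := by
              rw [hT]; exact h1
            exact close_ne h2 rfl
          · exact h1
      · rintro (rfl | hT)
        · rfl
        · exact (close_eq_of_far h hsc P T hT).symm
    rw [heq, Set.ncard_insert_of_notMem _ (Set.toFinite _), ncard_far h hsc P]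
    intro hP
    exact far_ne hP rfl

theorem card_sylow_three (h : MinN 3 22 G) (P : Sylow 3 G) : Nat.card (P : Subgroup G) = 3 := by
  rw [card_syl, sc_eq_three h]

/-- distinct Sylow `3`-subgroups intersect trivially -/
theorem inf_eq_bot (h : MinN 3 22 G) (P Q : Sylow 3 G) (hPQ : Q ≠ P) :
    (P : Subgroup G) ⊓ Q = ⊥ := by
  rw [← Subgroup.card_eq_one]
  have := inf_card_cases h P Q hPQ
  rw [sc_eq_three h] at this
  omega

end Cfsg.Agent.Lib.H26.N22
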