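import Mathlib
import Cfsg.Agent.Lib.H21.TwoP1d

/-!
# Groups acting on 21 points with a free normal subgroup of order 3, part 1 (helper26)

The action on the orbits of a normal subgroup, and general orbit lemmas.
-/

set_option autoImplicit false

namespace Cfsg.Agent.Lib.H26.N22

open Subgroup MulAction
open scoped Pointwise

section quot

variable {N X : Type*} [Group N] [MulAction N X]

/-- the action of `N` on the set of orbits of a normal subgroup `A` -/
@[instance_reducible] def quotAction (A : Subgroup N) [hA : A.Normal] :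
    MulAction N (orbitRel.Quotient A X) where
  smul n := Quotient.map' (fun ξ => n • ξ) (by
    intro ξ η hξη
    change orbitRel A X ξ η at hξη
    change orbitRel A X (n • ξ) (n • η)
    rw [orbitRel_apply] at hξη ⊢
    obtain ⟨a, rfl⟩ := hξη
    refine ⟨⟨n * a * n⁻¹, hA.conj_mem a a.2 n⟩, ?_⟩
    show (n * (a : N) * n⁻¹) • (n • η) = n • ((a : N) • η)
    rw [smul_smul, smul_smul, inv_mul_cancel_right])
  one_smul q := by
    induction q using Quotient.inductionOn' with
    | h ξ =>
      show Quotient.map' _ _ (Quotient.mk'' ξ) = Quotient.mk'' ξ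
      rw [Quotient.map'_mk'', one_smul]
  mul_smul m n q := by
    induction q using Quotient.inductionOn' with
    | h ξ =>
      show Quotient.map' _ _ (Quotient.mk'' ξ) =
        Quotient.map' _ _ (Quotient.map' _ _ (Quotient.mk'' ξ))
      rw [Quotient.map'_mk'', Quotient.map'_mk'', Quotient.map'_mk'', mul_smul]

attribute [local instance] quotAction

theorem quot_smul_mk (A : Subgroup N) [A.Normal] (n : N) (ξ : X) :
    n • (Quotient.mk'' ξ : orbitRel.Quotient A X) = Quotient.mk'' (n • ξ) := rfl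

theorem quot_mk_eq_iff (A : Subgroup N) (ξ η : X) :
    (Quotient.mk'' ξ : orbitRel.Quotient A X) = Quotient.mk'' η ↔ ∃ a ∈ A, a • η = ξ := by
  rw [Quotient.eq'']
  change orbitRel A X ξ η ↔ _
  rw [orbitRel_apply, mem_orbit_iff]
  constructor
  · rintro ⟨a, ha⟩
    exact ⟨a, a.2, ha⟩
  · rintro ⟨a, ha, h⟩
    exact ⟨⟨a, ha⟩, h⟩

end quot

section orbits

variable {H Y : Type*} [Group H] [MulAction H Y]

/-- orbits inside a small invariant set: either a very small orbit or a single orbit -/
theorem exists_small_orbit (S : Set Y) (hfin : S.Finite) (hinv : ∀ g : H, ∀ y ∈ S, g • y ∈ S)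
    (hS : S.ncard ≤ 7) (hne : S.Nonempty)
    (h3 : ∀ y ∈ S, ¬ 3 ∣ (orbit H y).ncard) :
    (∃ y ∈ S, (orbit H y).ncard ≤ 2) ∨
      (∃ y ∈ S, orbit H y = S ∧ (S.ncard = 4 ∨ S.ncard = 5 ∨ S.ncard = 7)) := by
  obtain ⟨y, hy⟩ := hne
  have hsub : orbit H y ⊆ S := by
    rintro z ⟨g, rfl⟩; exact hinv g y hy
  have hle : (orbit H y).ncard ≤ S.ncard := Set.ncard_le_ncard hsub hfin
  by_cases hs2 : (orbit H y).ncard ≤ 2
  · exact Or.inl ⟨y, hy, hs2⟩
  by_cases heq : orbit H y = S
  · right
    refine ⟨y, hy, heq, ?_⟩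
    have := h3 y hy
    rw [heq] at this hs2
    omega
  · left
    obtain ⟨y', hy'S, hy'⟩ : ∃ y' ∈ S, y' ∉ orbit H y := by
      by_contra hcon
      push Not at hcon
      exact heq (Set.Subset.antisymm hsub hcon)
    refine ⟨y', hy'S, ?_⟩
    have hsub' : orbit H y' ⊆ S \ orbit H y := by
      rintro z ⟨g, rfl⟩
      refine ⟨hinv g y' hy'S, ?_⟩
      intro hz
      apply hy'
      have : g • y' ∈ orbit H y := hz
      rw [mem_orbit_iff] at this ⊢
      obtain ⟨k, hk⟩ := this
      refine ⟨g⁻¹ * k, ?_⟩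
      rw [mul_smul, hk, inv_smul_smul]
    have h1 := Set.ncard_le_ncard hsub' (hfin.subset Set.diff_subset)
    rw [Set.ncard_diff hsub (hfin.subset hsub)] at h1
    have h2 := h3 y hy
    have h4 := h3 y' hy'S
    omega

end orbits

end Cfsg.Agent.Lib.H26.N22
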