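import Mathlib
import Cfsg.Agent.Lib.H26.N22f
import Cfsg.Agent.Lib.H21.SylowCount

/-!
# Groups acting on 21 points with a free normal subgroup of order 3, part 2 (helper26)

The kernel of the action on the seven blocks has order dividing `6`.
-/

set_option autoImplicit false

namespace Cfsg.Agent.Lib.H26.N22

open Subgroup MulAction
open scoped Pointwise
open Cfsg.Agent.Lib.H21

attribute [local instance] quotAction

variable {N X : Type*} [Group N] [Finite N] [MulAction N X] [Finite X]
  (A : Subgroup N) [hAn : A.Normal]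

/-- freeness of the action of `A` -/
def FreeOn (A : Subgroup N) (X : Type*) [MulAction N X] : Prop :=
  ∀ a ∈ A, ∀ ξ : X, a • ξ = ξ → a = 1

omit [Finite X] hAn in
theorem ncard_orbit_A (hA : Nat.card A = 3) (hfree : FreeOn A X) (ξ : X) :
    (orbit A ξ).ncard = 3 := by
  rw [← index_stabilizer]
  have : stabilizer A ξ = ⊥ := by
    rw [eq_bot_iff]
    intro a ha
    rw [mem_stabilizer_iff] at ha
    rw [Subgroup.mem_bot]
    exact Subtype.ext (hfree a a.2 ξ ha)
  rw [this, Subgroup.index_bot, hA]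

omit hAn in
theorem card_quot (hX : Nat.card X = 21) (hA : Nat.card A = 3) (hfree : FreeOn A X) :
    Nat.card (orbitRel.Quotient A X) = 7 := by
  classical
  haveI : Fintype (orbitRel.Quotient A X) := Fintype.ofFinite _
  have h1 := Nat.card_congr (selfEquivSigmaOrbits' A X)
  rw [Nat.card_sigma] at h1
  have h2 : ∀ ω : orbitRel.Quotient A X, Nat.card ω.orbit = 3 := by
    intro ω
    induction ω using Quotient.inductionOn' with
    | h ξ =>
      rw [orbitRel.Quotient.orbit_mk, Nat.card_coe_set_eq]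
      exact ncard_orbit_A A hA hfree ξ
  rw [Finset.sum_congr rfl (fun ω _ => h2 ω), Finset.sum_const, smul_eq_mul, Finset.card_univ,
    ← Nat.card_eq_fintype_card, hX] at h1
  omega

/-- the centralizer of `A`, as the kernel of the conjugation action -/
def Cn (A : Subgroup N) [A.Normal] : Subgroup N := (MulAut.conjNormal (H := A)).ker

instance Cn_normal : (Cn A).Normal := by unfold Cn; infer_instance

omit [Finite N] in
theorem mem_Cn {g : N} : g ∈ Cn A ↔ ∀ a ∈ A, g * a * g⁻¹ = a := by
  unfold Cn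
  rw [MonoidHom.mem_ker, MulEquiv.ext_iff]
  constructor
  · intro h a ha
    have := h ⟨a, ha⟩
    rw [Subtype.ext_iff, MulAut.conjNormal_apply] at this
    exact this
  · intro h a
    rw [Subtype.ext_iff, MulAut.conjNormal_apply]
    exact h a a.2

theorem Cn_index_dvd (hA : Nat.card A = 3) : (Cn A).index ∣ 2 := by
  unfold Cn
  rw [Subgroup.index_ker]
  haveI : Fact (Nat.card A).Prime := ⟨hA.symm ▸ Nat.prime_three⟩
  haveI : IsCyclic A := isCyclic_of_prime_card rfl
  have h1 := Subgroup.card_subgroup_dvd_card (MulAut.conjNormal (H := A)).range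
  rw [IsCyclic.card_mulAut, hA] at h1
  exact h1

omit [Finite N] in
/-- elements of odd order centralize `A` -/
theorem mem_Cn_of_odd (hA : Nat.card A = 3) (g : N) (hg : Odd (orderOf g)) : g ∈ Cn A := by
  unfold Cn
  rw [MonoidHom.mem_ker]
  haveI : Fact (Nat.card A).Prime := ⟨hA.symm ▸ Nat.prime_three⟩
  haveI : IsCyclic A := isCyclic_of_prime_card rfl
  haveI : Finite A := Nat.finite_of_card_ne_zero (by rw [hA]; norm_num)
  have h1 : orderOf (MulAut.conjNormal (H := A) g) ∣ 2 := by
    have := orderOf_dvd_natCard (MulAut.conjNormal (H := A) g)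
    rwa [IsCyclic.card_mulAut, hA] at this
  have h2 : orderOf (MulAut.conjNormal (H := A) g) ∣ orderOf g := orderOf_map_dvd _ g
  have h3 : orderOf (MulAut.conjNormal (H := A) g) = 1 := by
    have h4 := Nat.dvd_gcd h1 h2
    have h5 : Nat.gcd 2 (orderOf g) = 1 := by
      rw [← Nat.coprime_iff_gcd_eq_one, Nat.coprime_two_left]; exact hg
    rw [h5] at h4
    exact Nat.dvd_one.1 h4
  exact orderOf_eq_one_iff.1 h3

omit [Finite N] [Finite X] in
/-- an element centralizing `A` and fixing a block acts on it as a power of a generator of `A` -/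
theorem cube_fix (hA : Nat.card A = 3) {g : N} (hg : g ∈ Cn A) (ξ : X)
    (hfix : g • (Quotient.mk'' ξ : orbitRel.Quotient A X) = Quotient.mk'' ξ) :
    g ^ 3 • ξ = ξ := by
  rw [quot_smul_mk, quot_mk_eq_iff] at hfix
  obtain ⟨a, ha, hξ⟩ := hfix
  have hcomm : g * a = a * g := by
    have := (mem_Cn A).1 hg a ha
    calc g * a = g * a * g⁻¹ * g := by group
      _ = a * g := by rw [this]
  have ha3 : a ^ 3 = 1 := by
    haveI : Finite A := Nat.finite_of_card_ne_zero (by rw [hA]; norm_num)
    have := pow_card_eq_one' (G := A) (x := ⟨a, ha⟩)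
    rw [hA] at this
    have h2 := congrArg (fun z : A => (z : N)) this
    simpa using h2
  have h1 : g • ξ = a • ξ := hξ.symm
  have h2 : g • (a • ξ) = a • (a • ξ) := by
    rw [smul_smul, hcomm, mul_smul, h1]
  have h3 : g • (a • (a • ξ)) = a • (a • (a • ξ)) := by
    rw [smul_smul g a, hcomm, mul_smul, h2]
  calc g ^ 3 • ξ = g • (g • (g • ξ)) := by rw [pow_succ, pow_two, mul_smul, mul_smul]
    _ = a • (a • (a • ξ)) := by rw [h1, h2, h3]
    _ = a ^ 3 • ξ := by rw [pow_succ, pow_two, mul_smul, mul_smul]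
    _ = ξ := by rw [ha3, one_smul]

/-- the kernel of the action on blocks -/
def N0 (A : Subgroup N) [A.Normal] (X : Type*) [MulAction N X] : Subgroup N :=
  (toPermHom N (orbitRel.Quotient A X)).ker

omit [Finite N] [Finite X] in
theorem mem_N0 {g : N} : g ∈ N0 A X ↔ ∀ b : orbitRel.Quotient A X, g • b = b := by
  unfold N0
  rw [MonoidHom.mem_ker, Equiv.ext_iff]
  rfl

omit [Finite N] [Finite X] in
theorem A_le_N0 : A ≤ N0 A X := by
  intro a ha
  rw [mem_N0]
  intro b
  induction b using Quotient.inductionOn' with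
  | h ξ =>
    rw [quot_smul_mk, quot_mk_eq_iff]
    exact ⟨a, ha, rfl⟩

omit [Finite X] in
theorem card_N0_dvd [FaithfulSMul N X] (hA : Nat.card A = 3) (h9 : ¬ 9 ∣ Nat.card N) :
    Nat.card (N0 A X) ∣ 6 := by
  set K : Subgroup N := N0 A X ⊓ Cn A with hK
  have hcube : ∀ g ∈ K, g ^ 3 = 1 := by
    intro g hg
    apply FaithfulSMul.eq_of_smul_eq_smul (α := X)
    intro ξ
    rw [one_smul]
    exact cube_fix A hA hg.2 ξ ((mem_N0 A).1 hg.1 _)
  have hp : IsPGroup 3 K := by
    intro g
    refine ⟨1, ?_⟩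
    rw [pow_one]
    exact Subtype.ext (by simpa using hcube g g.2)
  obtain ⟨k, hk⟩ := hp.exists_card_eq
  have hk1 : Nat.card K = 1 ∨ Nat.card K = 3 := by
    rcases Nat.lt_or_ge k 2 with h2 | h2
    · interval_cases k
      · left; simpa using hk
      · right; simpa using hk
    · exfalso
      apply h9
      have h3 : 3 ^ 2 ∣ 3 ^ k := pow_dvd_pow 3 h2
      rw [← hk] at h3
      exact h3.trans (Subgroup.card_subgroup_dvd_card K)
  have hrel : K.relIndex (N0 A X) ∣ 2 := by
    rw [hK, inf_comm, Subgroup.inf_relIndex_right]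
    exact (Subgroup.relIndex_dvd_index_of_normal (Cn A) (N0 A X)).trans (Cn_index_dvd A hA)
  have hmul := card_mul_relIndex' (inf_le_left : K ≤ N0 A X)
  have hr : K.relIndex (N0 A X) = 1 ∨ K.relIndex (N0 A X) = 2 := by
    have := Nat.le_of_dvd (by norm_num) hrel
    have hpos : K.relIndex (N0 A X) ≠ 0 := fun h0 => by rw [h0] at hrel; omega
    omega
  rw [← hmul]
  rcases hk1 with h1 | h1 <;> rcases hr with h2 | h2 <;> rw [h1, h2] <;> norm_num

end Cfsg.Agent.Lib.H26.N22
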