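import Mathlib
import Cfsg.Agent.Lib.H26.N22g
import Cfsg.Agent.S3683
import Cfsg.Agent.S3684

/-!
# Groups acting on 21 points with a free normal subgroup of order 3, part 3 (helper26)

Main dichotomy: either all elements of prime order `≥ 5` fix a common point, or the group has order
`21`, `42` or `84`.
-/

set_option autoImplicit false

namespace Cfsg.Agent.Lib.H26.N22

open Subgroup MulAction
open scoped Pointwise
open Cfsg.Agent.Lib.H21

attribute [local instance] quotAction

variable {N X : Type*} [Group N] [Finite N] [MulAction N X] [Finite X]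
  (A : Subgroup N) [hAn : A.Normal]

omit [Finite X] in
theorem card_eq_N0_mul_range :
    Nat.card N = Nat.card (N0 A X) * Nat.card (toPermHom N (orbitRel.Quotient A X)).range := by
  rw [← Subgroup.index_ker]
  exact (Subgroup.card_mul_index _).symm

omit hAn in
theorem card_range_dvd (hX : Nat.card X = 21) (hA : Nat.card A = 3) (hfree : FreeOn A X)
    (H : Subgroup (Equiv.Perm (orbitRel.Quotient A X))) : Nat.card H ∣ 5040 := by
  have h1 := Subgroup.card_subgroup_dvd_card H
  haveI : Finite A := Nat.finite_of_card_ne_zero (by rw [hA]; norm_num)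
  rw [Nat.card_perm, card_quot A hX hA hfree] at h1
  have h7 : Nat.factorial 7 = 5040 := by decide
  rw [h7] at h1
  exact h1

omit [Finite X] [Finite N] in
theorem not_three_dvd_orbit (hA : Nat.card A = 3) (h9 : ¬ 9 ∣ Nat.card N)
    (b : orbitRel.Quotient A X) : ¬ 3 ∣ (orbit N b).ncard := by
  rw [← index_stabilizer]
  intro h3
  apply h9
  have h1 : A ≤ stabilizer N b := fun a ha => (mem_N0 A).1 (A_le_N0 A ha) b
  have h2 : 3 ∣ Nat.card (stabilizer N b) := hA ▸ Subgroup.card_dvd_of_le h1
  rw [← Subgroup.index_mul_card (stabilizer N b)]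
  exact mul_dvd_mul h3 h2

omit [Finite N] [Finite X] hAn in
/-- if `g ^ 3` and `g ^ r` fix a point, `r` prime `≥ 5`, then `g` fixes it -/
theorem smul_eq_of_cube {Y : Type*} [MulAction N Y] (g : N) (r : ℕ) (hr : r.Prime) (hr5 : 5 ≤ r)
    (hg : g ^ r = 1) (y : Y) (h3 : g ^ 3 • y = y) : g • y = y := by
  have hmem : g ^ 3 ∈ stabilizer N y := h3
  have h3r : ¬ 3 ∣ r := by
    intro hd
    have := (Nat.prime_dvd_prime_iff_eq Nat.prime_three hr).1 hd
    omega
  show g ∈ stabilizer N y
  have hcases : r % 3 = 1 ∨ r % 3 = 2 := by omega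
  rcases hcases with h1 | h1
  · obtain ⟨k, hk⟩ : ∃ k, r = 3 * k + 1 := ⟨r / 3, by omega⟩
    have h4 : (g ^ 3) ^ k * g = 1 := by
      rw [← pow_mul, ← pow_succ, ← hk, hg]
    have h5 : g = ((g ^ 3) ^ k)⁻¹ := eq_inv_of_mul_eq_one_right h4
    rw [h5]
    exact Subgroup.inv_mem _ (Subgroup.pow_mem _ hmem k)
  · obtain ⟨k, hk⟩ : ∃ k, r = 3 * k + 2 := ⟨r / 3, by omega⟩
    have h4 : (g ^ 3) ^ (k + 1) = g := by
      rw [← pow_mul, show 3 * (k + 1) = r + 1 by omega, pow_succ, hg, one_mul]
    rw [← h4]
    exact Subgroup.pow_mem _ hmem (k + 1)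

/-- the main dichotomy -/
theorem blocks21 [FaithfulSMul N X] (hX : Nat.card X = 21) (hA : Nat.card A = 3)
    (hfree : FreeOn A X) (h9 : ¬ 9 ∣ Nat.card N) :
    (Nat.card N ∣ 30240 ∧
      ∃ ξ : X, ∀ (g : N) (r : ℕ), r.Prime → 5 ≤ r → orderOf g = r → g • ξ = ξ) ∨
    Nat.card N = 21 ∨ Nat.card N = 42 ∨ Nat.card N = 84 := by
  classical
  have hB : Nat.card (orbitRel.Quotient A X) = 7 := card_quot A hX hA hfree
  set φ := toPermHom N (orbitRel.Quotient A X) with hφ
  have hcard : Nat.card N = Nat.card (N0 A X) * Nat.card φ.range := card_eq_N0_mul_range A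
  have hrange : Nat.card φ.range ∣ 5040 := card_range_dvd A hX hA hfree φ.range
  have h6 : Nat.card (N0 A X) ∣ 6 := card_N0_dvd A hA h9
  have h3N0 : 3 ∣ Nat.card (N0 A X) := hA ▸ Subgroup.card_dvd_of_le (A_le_N0 A)
  have h3r : ¬ 3 ∣ Nat.card φ.range := by
    intro h3
    apply h9
    rw [hcard]
    exact mul_dvd_mul h3N0 h3
  have hdvd : Nat.card N ∣ 30240 := by
    rw [hcard]
    exact mul_dvd_mul h6 hrange
  haveI : Nonempty (orbitRel.Quotient A X) := (Nat.card_pos_iff.1 (by rw [hB]; norm_num)).1
  have hN0 : Nat.card (N0 A X) = 3 ∨ Nat.card (N0 A X) = 6 := by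
    have := Nat.le_of_dvd (by norm_num) h6
    generalize Nat.card (N0 A X) = a at *
    interval_cases a <;> omega
  rcases exists_small_orbit (H := N) (Set.univ : Set (orbitRel.Quotient A X)) (Set.toFinite _)
    (fun _ _ _ => Set.mem_univ _) (by rw [Set.ncard_univ, hB]) Set.univ_nonempty
    (fun b _ => not_three_dvd_orbit A hA h9 b) with ⟨b, -, hb⟩ | ⟨b, -, hb, -⟩
  · -- a small orbit
    left
    refine ⟨hdvd, ?_⟩
    induction b using Quotient.inductionOn' with
    | h ξ =>
    refine ⟨ξ, ?_⟩
    intro g r hr hr5 hgr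
    have hgr1 : g ^ r = 1 := hgr ▸ pow_orderOf_eq_one g
    -- `g` fixes the block
    have hfixb : g • (Quotient.mk'' ξ : orbitRel.Quotient A X) = Quotient.mk'' ξ := by
      set b : orbitRel.Quotient A X := Quotient.mk'' ξ with hbdef
      have h1 : (stabilizer (zpowers g) b).index ∣ r := by
        have := Subgroup.index_dvd_card (stabilizer (zpowers g) b)
        rwa [Nat.card_zpowers, hgr] at this
      have h2 : (stabilizer (zpowers g) b).index ≤ 2 := by
        rw [index_stabilizer]
        refine le_trans (Set.ncard_le_ncard ?_ (Set.toFinite _)) hb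
        rintro z ⟨k, rfl⟩
        exact ⟨(k : N), rfl⟩
      have h3 : (stabilizer (zpowers g) b).index = 1 := by
        rcases (Nat.dvd_prime hr).1 h1 with h4 | h4
        · exact h4
        · omega
      rw [Subgroup.index_eq_one] at h3
      have h5 : (⟨g, mem_zpowers g⟩ : zpowers g) ∈ stabilizer (zpowers g) b := by
        rw [h3]; exact Subgroup.mem_top _
      exact h5
    have hodd : Odd (orderOf g) := by
      rw [hgr]
      exact hr.odd_of_ne_two (by omega)
    have hgC : g ∈ Cn A := mem_Cn_of_odd A hA g hodd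
    exact smul_eq_of_cube g r hr hr5 hgr1 ξ (cube_fix A hA hgC ξ hfixb)
  · -- the transitive case
    right
    haveI htr : IsPretransitive N (orbitRel.Quotient A X) := by
      refine ⟨fun b₁ b₂ => ?_⟩
      have h1 : b₁ ∈ orbit N b := hb ▸ Set.mem_univ _
      have h2 : b₂ ∈ orbit N b := hb ▸ Set.mem_univ _
      obtain ⟨g₁, rfl⟩ := h1
      obtain ⟨g₂, rfl⟩ := h2
      refine ⟨g₂ * g₁⁻¹, ?_⟩
      rw [mul_smul, inv_smul_smul]
    haveI htr' : IsPretransitive φ.range (orbitRel.Quotient A X) := by
      refine ⟨fun b₁ b₂ => ?_⟩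
      obtain ⟨n, hn⟩ := exists_smul_eq N b₁ b₂
      exact ⟨⟨φ n, n, rfl⟩, hn⟩
    have hprim : IsPreprimitive φ.range (orbitRel.Quotient A X) :=
      IsPreprimitive.of_prime_card (by rw [hB]; norm_num)
    -- suborbits
    have hsub3 : ∀ b' : orbitRel.Quotient A X,
        ¬ 3 ∣ (orbit (stabilizer φ.range b) b').ncard := by
      intro b' h3
      apply h3r
      rw [← index_stabilizer] at h3
      exact (h3.trans (Subgroup.index_dvd_card _)).trans (Subgroup.card_subgroup_dvd_card _)
    have hS6 : ({b' : orbitRel.Quotient A X | b' ≠ b} : Set _).ncard = 6 := by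
      have : {b' : orbitRel.Quotient A X | b' ≠ b} = ({b} : Set _)ᶜ := by
        ext; simp
      rw [this, Set.ncard_compl, Set.ncard_singleton, hB]
    have hcardR : Nat.card φ.range = 7 * Nat.card (stabilizer φ.range b) := by
      rw [← Subgroup.index_mul_card (stabilizer φ.range b), index_stabilizer,
        orbit_eq_univ, Set.ncard_univ, hB]
    have hstab : Nat.card (stabilizer φ.range b) = 1 ∨ Nat.card (stabilizer φ.range b) = 2 := by
      rcases exists_small_orbit (H := stabilizer φ.range b)
        ({b' : orbitRel.Quotient A X | b' ≠ b} : Set _) (Set.toFinite _)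
        (by
          intro g y hy hgy
          apply hy
          have hg : (g : φ.range) • b = b := g.2
          have h1 : (g : φ.range) • y = b := hgy
          have h2 : (g : φ.range) • y = (g : φ.range) • b := h1.trans hg.symm
          exact smul_left_cancel _ h2)
        (by rw [hS6]; norm_num)
        (by
          have : 0 < ({b' : orbitRel.Quotient A X | b' ≠ b} : Set _).ncard := by rw [hS6]; norm_num
          exact (Set.ncard_pos (Set.toFinite _)).1 this)
        (fun b' _ => hsub3 b') with ⟨b', hb', hle⟩ | ⟨b', -, -, h456⟩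
      · have hpos : 0 < (orbit (stabilizer φ.range b) b').ncard := by
          rw [Set.ncard_pos (Set.toFinite _)]
          exact ⟨b', mem_orbit_self b'⟩
        have h12 : (orbit (stabilizer φ.range b) b').ncard = 1 ∨
            (orbit (stabilizer φ.range b) b').ncard = 2 := by omega
        rcases h12 with h1 | h2
        · left
          have hfix : ∀ g : φ.range, g • b = b → g • b' = b' := by
            intro g hg
            obtain ⟨z, hz⟩ := Set.ncard_eq_one.1 h1
            have h3 : b' ∈ orbit (stabilizer φ.range b) b' := mem_orbit_self b'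
            have h4 : (⟨g, hg⟩ : stabilizer φ.range b) • b' ∈ orbit (stabilizer φ.range b) b' :=
              mem_orbit _ _
            rw [hz, Set.mem_singleton_iff] at h3 h4
            have : g • b' = z := h4
            rw [this, h3]
          have := (Cfsg.Agent.S3683.result hprim b b' (Ne.symm hb') hfix).1
          rw [this, Subgroup.card_bot]
        · right
          have h2' : Nat.card (orbit (stabilizer φ.range b) b') = 2 := by
            rw [Nat.card_coe_set_eq]; exact h2
          exact (Cfsg.Agent.S3684.result hprim b b' h2').1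
      · exfalso
        rw [hS6] at h456
        omega
    rw [hcard, hcardR]
    rcases hN0 with h1 | h1 <;> rcases hstab with h2 | h2 <;> rw [h1, h2] <;> norm_num
    -- the case `|N0| = 3`, `|stab| = 1` gives `21`; etc.

end Cfsg.Agent.Lib.H26.N22
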