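import Mathlib
import Cfsg.Agent.Lib.H26.N22e
import Cfsg.Agent.Lib.H26.N22h

/-!
# No group has exactly 22 Sylow 3-subgroups, part 6 (helper26): the order of the normalizer
-/

set_option autoImplicit false

namespace Cfsg.Agent.Lib.H26.N22

open Subgroup MulAction
open scoped Pointwise
open Cfsg.Agent.Lib.H21 Cfsg.Agent.Lib.H21.TwoP1 Cfsg.Agent.Lib.H21.MinN

universe u

section general

variable {G : Type*} [Group G] [Finite G]

/-- A maximal core-free subgroup `N` has no element of order `r` if all its elements of order `r`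
lie in a conjugate `k N k⁻¹ ≠ N`. -/
theorem no_order_of_conj (N : Subgroup G)
    (hmax : ∀ H : Subgroup G, N ≤ H → H = N ∨ H = ⊤)
    (hcore : ∀ M : Subgroup G, M.Normal → M ≤ N → M = ⊥)
    (r : ℕ) (hr : 2 ≤ r) (k : G) (hk : k ∉ N)
    (hconj : ∀ g ∈ N, orderOf g = r → k⁻¹ * g * k ∈ N) :
    ∀ g ∈ N, orderOf g ≠ r := by
  set S : Set G := {g | g ∈ N ∧ orderOf g = r} with hS
  set M : Subgroup G := Subgroup.closure S with hM
  have hMN : M ≤ N := (Subgroup.closure_le N).2 (fun g hg => hg.1)
  have hord : ∀ (j g : G), orderOf (j * g * j⁻¹) = orderOf g := by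
    intro j g
    exact orderOf_injective (MulAut.conj j).toMonoidHom (MulAut.conj j).injective g
  have hnorm : ∀ j : G, (∀ g ∈ S, j * g * j⁻¹ ∈ S) → j ∈ normalizer (M : Set G) := by
    intro j hj
    have hle : MulAut.conj j • M ≤ M := by
      rw [hM, Subgroup.smul_closure]
      apply Subgroup.closure_mono
      rintro x ⟨g, hg, rfl⟩
      exact hj g hg
    have heq : MulAut.conj j • M = M := by
      apply Subgroup.eq_of_le_of_card_ge hle
      exact (Nat.card_congr (Subgroup.equivSMul (MulAut.conj j) M).toEquiv).le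
    rw [Subgroup.mem_normalizer_iff]
    intro x
    constructor
    · intro hx
      have := Subgroup.smul_mem_pointwise_smul x (MulAut.conj j) M hx
      rw [heq] at this
      exact this
    · intro hx
      have h1 : MulAut.conj j • x ∈ MulAut.conj j • M := by
        rw [heq]; exact hx
      exact Subgroup.smul_mem_pointwise_smul_iff.1 h1
  have hN : N ≤ normalizer (M : Set G) := by
    intro j hj
    apply hnorm
    intro g hg
    exact ⟨N.mul_mem (N.mul_mem hj hg.1) (N.inv_mem hj), (hord j g).trans hg.2⟩
  have hk' : k⁻¹ ∈ normalizer (M : Set G) := by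
    apply hnorm
    intro g hg
    rw [inv_inv]
    refine ⟨hconj g hg.1 hg.2, ?_⟩
    have := hord k⁻¹ g
    rw [inv_inv] at this
    exact this.trans hg.2
  have htop : normalizer (M : Set G) = ⊤ := by
    rcases hmax _ hN with h1 | h1
    · exfalso
      rw [h1] at hk'
      exact hk (by simpa using N.inv_mem hk')
    · exact h1
  have hMbot : M = ⊥ := hcore M (Subgroup.normalizer_eq_top_iff.1 htop) hMN
  intro g hg hgr
  have hgM : g ∈ M := Subgroup.subset_closure ⟨hg, hgr⟩
  rw [hMbot, Subgroup.mem_bot] at hgM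
  rw [hgM, orderOf_one] at hgr
  omega

end general

variable {G : Type u} [Group G] [Finite G]

/-- the normalizer of a Sylow `3`-subgroup is a maximal subgroup -/
theorem normalizer_max (h : MinN 3 22 G) (P : Sylow 3 G) (H : Subgroup G)
    (hH : normalizer (P : Set G) ≤ H) : H = normalizer (P : Set G) ∨ H = ⊤ := by
  have hPH : (P : Subgroup G) ≤ H := le_normalizer.trans hH
  set P' : Sylow 3 H := P.subtype hPH with hP'
  have h1 : Nat.card (Sylow 3 H) = (normalizer (P : Set G)).relIndex H := by
    rw [P'.card_eq_index_normalizer]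
    have h2 : (P' : Subgroup H) = (P : Subgroup G).subgroupOf H := Sylow.coe_subtype P hPH
    have h3 : normalizer ((P' : Subgroup H) : Set H) = (normalizer (P : Set G)).subgroupOf H := by
      rw [h2]
      exact (Subgroup.subgroupOf_normalizer_eq hPH).symm
    have h4 : normalizer (P' : Set H) = normalizer ((P' : Subgroup H) : Set H) := rfl
    rw [h4, h3]
    rfl
  have h5 : Nat.card (Sylow 3 H) ≡ 1 [MOD 3] := card_sylow_modEq_one 3 H
  have h6 := Subgroup.relIndex_mul_index hH
  have h7 : (normalizer (P : Set G)).index = 22 := by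
    rw [← P.card_eq_index_normalizer]; exact h.1
  rw [h7] at h6
  rw [h1] at h5
  set n := (normalizer (P : Set G)).relIndex H with hn
  have hn22 : n ∣ 22 := Dvd.intro _ h6
  have hnle : n ≤ 22 := Nat.le_of_dvd (by norm_num) hn22
  unfold Nat.ModEq at h5
  have hcases : n = 1 ∨ n = 22 := by
    interval_cases n <;> omega
  rcases hcases with h8 | h8
  · left
    rw [hn, Subgroup.relIndex_eq_one] at h8
    exact le_antisymm h8 hH
  · right
    rw [h8] at h6
    have : H.index = 1 := by omega
    exact Subgroup.index_eq_one.1 this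

/-- a normal subgroup inside the normalizer of a Sylow `3`-subgroup is trivial -/
theorem core_eq_bot (h : MinN 3 22 G) (P : Sylow 3 G) (M : Subgroup G) (hM : M.Normal)
    (hMN : M ≤ normalizer (P : Set G)) : M = ⊥ := by
  rw [eq_bot_iff]
  intro m hm
  rw [Subgroup.mem_bot]
  apply h.eq_one_of_forall_smul
  intro Q
  obtain ⟨g, rfl⟩ := MulAction.exists_smul_eq G P Q
  have h1 : g⁻¹ * m * g ∈ M := by
    have := hM.conj_mem m hm g⁻¹
    rwa [inv_inv] at this
  have h2 : (g⁻¹ * m * g) • P = P := Sylow.smul_eq_iff_mem_normalizer.2 (hMN h1)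
  calc m • g • P = g • (g⁻¹ * m * g) • P := by
        rw [smul_smul, smul_smul]; congr 1; group
    _ = g • P := by rw [h2]

theorem not_nine_dvd_card (h : MinN 3 22 G) : ¬ 9 ∣ Nat.card G := by
  have h1 : (Nat.card G).factorization 3 = 1 := by
    have := sc_eq_three h
    unfold sc at this
    have h3 : 3 ^ (Nat.card G).factorization 3 = 3 ^ 1 := by rw [this, pow_one]
    exact Nat.pow_right_injective (a := 3) (by norm_num) h3
  have h2 := Nat.pow_succ_factorization_not_dvd (Nat.card_pos (α := G)).ne' Nat.prime_three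
  rw [h1] at h2
  exact h2

end Cfsg.Agent.Lib.H26.N22
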