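import Mathlib
import Cfsg.Agent.Lib.H26.N22i

/-!
# No group has exactly 22 Sylow 3-subgroups, part 7 (helper26): the order of the normalizer
-/

set_option autoImplicit false

namespace Cfsg.Agent.Lib.H26.N22

open Subgroup MulAction
open scoped Pointwise
open Cfsg.Agent.Lib.H21 Cfsg.Agent.Lib.H21.TwoP1 Cfsg.Agent.Lib.H21.MinN

universe u

variable {G : Type u} [Group G] [Finite G]

omit [Finite G] in
theorem smul_ne_of_mem_normalizer (P Q : Sylow 3 G) (hQ : Q ≠ P) (n : G)
    (hn : n ∈ normalizer (P : Set G)) : n • Q ≠ P := by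
  intro hnQ
  apply hQ
  have h2 : n⁻¹ • P = P := Sylow.smul_eq_iff_mem_normalizer.2 (Subgroup.inv_mem _ hn)
  calc Q = n⁻¹ • (n • Q) := by rw [inv_smul_smul]
    _ = P := by rw [hnQ, h2]

/-- the Sylow `3`-subgroups other than `P`, acted on by the normalizer of `P` -/
def XS (P : Sylow 3 G) : SubMulAction (normalizer (P : Set G)) (Sylow 3 G) where
  carrier := {Q | Q ≠ P}
  smul_mem' := fun n Q hQ => smul_ne_of_mem_normalizer P Q hQ (n : G) n.2

omit [Finite G] in
theorem XS_smul_coe (P : Sylow 3 G) (n : normalizer (P : Set G)) (ξ : XS P) :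
    ((n • ξ : XS P) : Sylow 3 G) = (n : G) • (ξ : Sylow 3 G) := rfl

theorem card_XS (h : MinN 3 22 G) (P : Sylow 3 G) : Nat.card (XS P) = 21 :=
  (Nat.card_coe_set_eq _).trans (ncard_ne h P)

theorem faithful_XS (h : MinN 3 22 G) (P : Sylow 3 G) :
    FaithfulSMul (normalizer (P : Set G)) (XS P) := by
  refine ⟨fun {n n'} hnn => ?_⟩
  have key : (n' : G)⁻¹ * (n : G) = 1 := by
    apply h.eq_one_of_forall_smul
    intro Q
    by_cases hQ : Q = P
    · rw [hQ, Sylow.smul_eq_iff_mem_normalizer]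
      exact Subgroup.mul_mem _ (Subgroup.inv_mem _ n'.2) n.2
    · have h1 := congrArg (fun ξ : XS P => (ξ : Sylow 3 G)) (hnn ⟨Q, hQ⟩)
      simp only [XS_smul_coe] at h1
      rw [mul_smul, h1, inv_smul_smul]
  apply Subtype.ext
  have := eq_of_inv_mul_eq_one key
  exact this.symm

theorem arith864 : ∀ d ∈ Nat.divisors 864, 3 ∣ d → ¬ 9 ∣ d →
    d ∈ ({3, 6, 12, 24, 48, 96} : Finset ℕ) := by decide +kernel

/-- the possible orders of the normalizer of a Sylow `3`-subgroup -/
theorem card_normalizer_cases (h : MinN 3 22 G) (P : Sylow 3 G) :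
    Nat.card (normalizer (P : Set G)) ∈ ({3, 6, 12, 24, 48, 96, 21, 42, 84} : Finset ℕ) := by
  set Nn : Subgroup G := normalizer (P : Set G) with hNn
  have hPN : (P : Subgroup G) ≤ Nn := le_normalizer
  set A : Subgroup Nn := (P : Subgroup G).subgroupOf Nn with hA
  haveI hAn : A.Normal := Subgroup.normal_in_normalizer
  haveI := faithful_XS h P
  have hX : Nat.card (XS P) = 21 := card_XS h P
  have hAc : Nat.card A = 3 := by
    rw [Nat.card_congr (Subgroup.subgroupOfEquivOfLe hPN).toEquiv]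
    exact card_sylow_three h P
  have hfree : FreeOn A (XS P) := by
    intro a ha ξ hfix
    obtain ⟨Q, hQ⟩ := ξ
    have h1 := congrArg (fun ξ : XS P => (ξ : Sylow 3 G)) hfix
    simp only [XS_smul_coe] at h1
    have haP : (a : G) ∈ (P : Subgroup G) := ha
    have h2 : (a : G) ∈ (P : Subgroup G) ⊓ normalizer (Q : Set G) :=
      ⟨haP, Sylow.smul_eq_iff_mem_normalizer.1 h1⟩
    rw [P.isPGroup'.inf_normalizer_sylow Q, inf_eq_bot h P Q hQ, Subgroup.mem_bot] at h2
    exact Subtype.ext h2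
  have h9 : ¬ 9 ∣ Nat.card Nn := fun h9 =>
    not_nine_dvd_card h (h9.trans (Subgroup.card_subgroup_dvd_card Nn))
  have h3 : 3 ∣ Nat.card Nn := by
    rw [← card_sylow_three h P]
    exact Subgroup.card_dvd_of_le hPN
  rcases blocks21 A hX hAc hfree h9 with ⟨hdvd, ξ, hξ⟩ | h21 | h42 | h84
  · obtain ⟨Q, hQ⟩ := ξ
    obtain ⟨k, hkQ⟩ := MulAction.exists_smul_eq G P Q
    have hk : k ∉ Nn := by
      intro hk
      have : k • P = P := Sylow.smul_eq_iff_mem_normalizer.2 hk
      exact hQ (hkQ.symm.trans this)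
    have hno : ∀ r : ℕ, r.Prime → 5 ≤ r → ¬ r ∣ Nat.card Nn := by
      intro r hr hr5 hrd
      haveI := Fact.mk hr
      obtain ⟨x, hx⟩ := exists_prime_orderOf_dvd_card' (G := Nn) r hrd
      have key := no_order_of_conj Nn (normalizer_max h P) (core_eq_bot h P) r (by omega) k hk ?_
        (x : G) x.2
      · exact key (by rw [Subgroup.orderOf_coe]; exact hx)
      · intro g hg hgr
        have h1 := hξ ⟨g, hg⟩ r hr hr5 (by rw [← Subgroup.orderOf_coe]; exact hgr)
        have h2 : g • Q = Q := congrArg (fun ξ : XS P => (ξ : Sylow 3 G)) h1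
        rw [hNn, ← Sylow.smul_eq_iff_mem_normalizer, mul_smul, mul_smul, hkQ, h2, ← hkQ,
          inv_smul_smul]
    have h5 : ¬ 5 ∣ Nat.card Nn := hno 5 (by norm_num) (by norm_num)
    have h7 : ¬ 7 ∣ Nat.card Nn := hno 7 (by norm_num) (by norm_num)
    have hcop : Nat.Coprime (Nat.card Nn) 35 := by
      rw [show 35 = 5 * 7 from rfl]
      apply Nat.Coprime.mul_right
      · exact ((Nat.Prime.coprime_iff_not_dvd (by norm_num)).2 h5).symm
      · exact ((Nat.Prime.coprime_iff_not_dvd (by norm_num)).2 h7).symm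
    have h864 : Nat.card Nn ∣ 864 := by
      apply hcop.dvd_of_dvd_mul_right
      exact hdvd
    have := arith864 _ (Nat.mem_divisors.2 ⟨h864, by norm_num⟩) h3 h9
    simp only [Finset.mem_insert, Finset.mem_singleton] at this ⊢
    tauto
  · rw [h21]; decide
  · rw [h42]; decide
  · rw [h84]; decide

end Cfsg.Agent.Lib.H26.N22
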