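import Mathlib
import Cfsg.Agent.Lib.H26.N22j

/-!
# No group has exactly 22 Sylow 3-subgroups, part 8 (helper26): elements of order 11
-/

set_option autoImplicit false

namespace Cfsg.Agent.Lib.H26.N22

open Subgroup MulAction
open scoped Pointwise
open Cfsg.Agent.Lib.H21 Cfsg.Agent.Lib.H21.TwoP1 Cfsg.Agent.Lib.H21.MinN

universe u

variable {G : Type u} [Group G] [Finite G]

instance fact11 : Fact (Nat.Prime 11) := ⟨by norm_num⟩

/-- every element of a minimal group acts as an even permutation on any finite `G`-set -/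
theorem sign_eq_one_of_minN {p n : ℕ} [hp : Fact p.Prime] (h : MinN p n G) (hp2 : p ≠ 2)
    {Y : Type*} [MulAction G Y] [Fintype Y] [DecidableEq Y] (c : G) :
    Equiv.Perm.sign (MulAction.toPermHom G Y c) = 1 := by
  have hpp : p.Prime := hp.out
  by_contra hne
  set φ : G →* ℤˣ := (Equiv.Perm.sign).comp (MulAction.toPermHom G Y) with hφ
  have hcM : c ∉ φ.ker := by
    rw [MonoidHom.mem_ker]; exact hne
  have hMtop : φ.ker ≠ ⊤ := fun htop => hcM (htop ▸ Subgroup.mem_top c)
  have hidx : φ.ker.index ∣ 2 := by
    rw [Subgroup.index_ker]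
    have := Subgroup.card_subgroup_dvd_card φ.range
    rw [Nat.card_eq_fintype_card (α := ℤˣ), Fintype.card_units_int] at this
    exact this
  apply h.false_of_normal φ.ker hMtop
  intro hpd
  have := Nat.le_of_dvd (by norm_num) (hpd.trans hidx)
  have := hpp.two_le
  omega

theorem card_eq_mul_normalizer (h : MinN 3 22 G) (P : Sylow 3 G) :
    Nat.card G = 22 * Nat.card (normalizer (P : Set G)) := by
  rw [← Subgroup.index_mul_card (normalizer (P : Set G)), ← P.card_eq_index_normalizer, h.1]

theorem coprime_eleven_normalizer (h : MinN 3 22 G) (T : Sylow 3 G) :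
    Nat.Coprime 11 (Nat.card (normalizer (T : Set G))) := by
  have := card_normalizer_cases h T
  simp only [Finset.mem_insert, Finset.mem_singleton] at this
  rcases this with h1 | h1 | h1 | h1 | h1 | h1 | h1 | h1 | h1 <;> rw [h1] <;> norm_num

/-- elements of order `11` act semiregularly on the Sylow `3`-subgroups -/
theorem stabilizer_zpowers_eq_bot (h : MinN 3 22 G) (y : G) (hy : orderOf y = 11)
    (T : Sylow 3 G) : stabilizer (zpowers y) T = ⊥ := by
  rw [eq_bot_iff]
  intro z hz
  rw [Subgroup.mem_bot]
  rw [mem_stabilizer_iff] at hz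
  have h1 : (z : G) • T = T := hz
  have h2 : (z : G) ∈ normalizer (T : Set G) := Sylow.smul_eq_iff_mem_normalizer.1 h1
  have h3 := Subgroup.orderOf_dvd_natCard _ h2
  have h4 : orderOf (z : G) ∣ 11 := hy ▸ orderOf_dvd_of_mem_zpowers z.2
  have h5 : orderOf (z : G) = 1 :=
    Nat.eq_one_of_dvd_coprimes (coprime_eleven_normalizer h T) h4 h3
  exact Subtype.ext (orderOf_eq_one_iff.1 h5)

theorem ncard_orbit_zpowers (h : MinN 3 22 G) (y : G) (hy : orderOf y = 11) (T : Sylow 3 G) :
    (orbit (zpowers y) T).ncard = 11 := by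
  rw [← index_stabilizer, stabilizer_zpowers_eq_bot h y hy T, Subgroup.index_bot,
    Nat.card_zpowers, hy]

/-- an element commuting with an element `y` of order `11` and fixing a point is trivial -/
theorem eq_one_of_commute_of_fix (h : MinN 3 22 G) (y : G) (hy : orderOf y = 11) (g : G)
    (hgy : Commute g y) (Q : Sylow 3 G) (hgQ : g • Q = Q) : g = 1 := by
  have hy11 : y ^ 11 = 1 := hy ▸ pow_orderOf_eq_one y
  have hcomm : ∀ z ∈ zpowers y, Commute g z := by
    intro z hz
    obtain ⟨i, rfl⟩ := Subgroup.mem_zpowers_iff.1 hz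
    exact hgy.zpow_right i
  have hz11 : ∀ z ∈ zpowers y, z ^ 11 = 1 := by
    intro z hz
    have h4 : orderOf z ∣ 11 := hy ▸ orderOf_dvd_of_mem_zpowers hz
    exact orderOf_dvd_iff_pow_eq_one.1 h4
  -- `g` fixes the orbit of `Q` pointwise
  have hO1 : ∀ T ∈ orbit (zpowers y) Q, g • T = T := by
    rintro T ⟨z, rfl⟩
    show g • ((z : G) • Q) = (z : G) • Q
    rw [smul_smul, (hcomm z z.2).eq, mul_smul, hgQ]
  have hg11 : g ^ 11 = 1 := by
    apply h.eq_one_of_forall_smul
    intro T
    by_cases hT : T ∈ orbit (zpowers y) Q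
    · have : g ∈ stabilizer G T := hO1 T hT
      exact Subgroup.pow_mem _ this 11
    · -- the two orbits cover everything
      have hdisj : Disjoint (orbit (zpowers y) Q) (orbit (zpowers y) T) := by
        rcases orbit.eq_or_disjoint (G := zpowers y) Q T with h1 | h1
        · exfalso
          apply hT
          rw [h1]
          exact mem_orbit_self T
        · exact h1
      have hunion : orbit (zpowers y) Q ∪ orbit (zpowers y) T = Set.univ := by
        apply Set.eq_of_subset_of_ncard_le (Set.subset_univ _) _ (Set.toFinite _)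
        rw [Set.ncard_union_eq hdisj (Set.toFinite _) (Set.toFinite _),
          ncard_orbit_zpowers h y hy Q, ncard_orbit_zpowers h y hy T, Set.ncard_univ, h.1]
      have hgT : g • T ∈ orbit (zpowers y) T := by
        have h1 : g • T ∈ orbit (zpowers y) Q ∪ orbit (zpowers y) T := hunion ▸ Set.mem_univ _
        rcases h1 with h1 | h1
        · exfalso
          apply hT
          have h2 := hO1 _ h1
          have h3 : g • T = T := smul_left_cancel g h2
          rw [← h3]; exact h1
        · exact h1
      obtain ⟨z, hz⟩ := hgT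
      have hz' : (z : G) • T = g • T := hz
      have key : ∀ m : ℕ, g ^ m • T = (z : G) ^ m • T := by
        intro m
        induction m with
        | zero => simp
        | succ m ih =>
          have hc : Commute (g ^ m) (z : G) := (hcomm z z.2).pow_left m
          calc g ^ (m + 1) • T = g ^ m • g • T := by rw [pow_succ, mul_smul]
            _ = g ^ m • (z : G) • T := by rw [hz']
            _ = (z : G) • g ^ m • T := by rw [smul_smul, hc.eq, mul_smul]
            _ = (z : G) • (z : G) ^ m • T := by rw [ih]
            _ = (z : G) ^ (m + 1) • T := by rw [pow_succ', mul_smul]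
      rw [key 11, hz11 z z.2, one_smul]
  have h1 : orderOf g ∣ 11 := orderOf_dvd_of_pow_eq_one hg11
  have h2 : g ∈ normalizer (Q : Set G) := Sylow.smul_eq_iff_mem_normalizer.1 hgQ
  have h3 := Subgroup.orderOf_dvd_natCard _ h2
  have h5 : orderOf g = 1 := Nat.eq_one_of_dvd_coprimes (coprime_eleven_normalizer h Q) h1 h3
  exact orderOf_eq_one_iff.1 h5

end Cfsg.Agent.Lib.H26.N22
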