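import Mathlib
import Cfsg.Agent.Lib.H26.N22k

/-!
# No group has exactly 22 Sylow 3-subgroups, part 9 (helper26): the Sylow 11-normalizer
-/

set_option autoImplicit false

namespace Cfsg.Agent.Lib.H26.N22

open Subgroup MulAction
open scoped Pointwise
open Cfsg.Agent.Lib.H21 Cfsg.Agent.Lib.H21.TwoP1 Cfsg.Agent.Lib.H21.MinN

universe u

variable {G : Type u} [Group G] [Finite G]

theorem eleven_dvd_card (h : MinN 3 22 G) : 11 ∣ Nat.card G := by
  obtain ⟨P⟩ : Nonempty (Sylow 3 G) := inferInstance
  rw [card_eq_mul_normalizer h P]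
  exact Dvd.dvd.mul_right (by norm_num) _

theorem not_121_dvd_card (h : MinN 3 22 G) : ¬ 11 ^ 2 ∣ Nat.card G := by
  obtain ⟨P⟩ : Nonempty (Sylow 3 G) := inferInstance
  rw [card_eq_mul_normalizer h P]
  have := card_normalizer_cases h P
  simp only [Finset.mem_insert, Finset.mem_singleton] at this
  rcases this with h1 | h1 | h1 | h1 | h1 | h1 | h1 | h1 | h1 <;> rw [h1] <;> norm_num

theorem not_five_dvd_card (h : MinN 3 22 G) : ¬ 5 ∣ Nat.card G := by
  obtain ⟨P⟩ : Nonempty (Sylow 3 G) := inferInstance
  rw [card_eq_mul_normalizer h P]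
  have := card_normalizer_cases h P
  simp only [Finset.mem_insert, Finset.mem_singleton] at this
  rcases this with h1 | h1 | h1 | h1 | h1 | h1 | h1 | h1 | h1 <;> rw [h1] <;> norm_num

theorem card_sylow11 (h : MinN 3 22 G) (R : Sylow 11 G) : Nat.card (R : Subgroup G) = 11 :=
  sylow_card_eq_prime R (eleven_dvd_card h) (not_121_dvd_card h)

theorem exists_generator11 (h : MinN 3 22 G) (R : Sylow 11 G) :
    ∃ y : G, orderOf y = 11 ∧ zpowers y = (R : Subgroup G) := by
  have hR := card_sylow11 h R
  have hne : (R : Subgroup G) ≠ ⊥ := by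
    rw [← Subgroup.one_lt_card_iff_ne_bot, hR]; norm_num
  obtain ⟨y, hy1⟩ := (Subgroup.ne_bot_iff_exists_ne_one.1 hne)
  have h1 : orderOf (y : G) ∣ 11 := by
    have := Subgroup.orderOf_dvd_natCard _ y.2
    rwa [hR] at this
  have h2 : orderOf (y : G) = 11 := by
    rcases (Nat.dvd_prime (by norm_num)).1 h1 with h3 | h3
    · exfalso
      apply hy1
      exact Subtype.ext (orderOf_eq_one_iff.1 h3)
    · exact h3
  refine ⟨y, h2, ?_⟩
  apply Subgroup.eq_of_le_of_card_ge
  · rw [Subgroup.zpowers_le]; exact y.2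
  · rw [hR, Nat.card_zpowers, h2]

omit [Finite G] in
theorem commute_of_mem_centralizer (R : Sylow 11 G) (y : G) (hy : zpowers y = (R : Subgroup G))
    (g : G) (hg : g ∈ centralizer ((R : Subgroup G) : Set G)) : Commute g y := by
  rw [Subgroup.mem_centralizer_iff] at hg
  have hyR : y ∈ ((R : Subgroup G) : Set G) := by
    rw [← hy]; exact mem_zpowers y
  exact (hg y hyR).symm

theorem card_centralizer11 (h : MinN 3 22 G) (R : Sylow 11 G) :
    Nat.card (centralizer ((R : Subgroup G) : Set G)) = 11 := by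
  classical
  obtain ⟨y, hy, hyR⟩ := exists_generator11 h R
  set C : Subgroup G := centralizer ((R : Subgroup G) : Set G) with hC
  obtain ⟨P₀⟩ : Nonempty (Sylow 3 G) := inferInstance
  have hstab : stabilizer C P₀ = ⊥ := by
    rw [eq_bot_iff]
    intro g hg
    rw [Subgroup.mem_bot]
    have h1 : (g : G) • P₀ = P₀ := hg
    exact Subtype.ext (eq_one_of_commute_of_fix h y hy (g : G)
      (commute_of_mem_centralizer R y hyR g g.2) P₀ h1)
  have hle : Nat.card C ≤ 22 := by
    have h1 := index_stabilizer C P₀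
    rw [hstab, Subgroup.index_bot] at h1
    rw [h1, ← h.1, ← Set.ncard_univ]
    exact Set.ncard_le_ncard (Set.subset_univ _) (Set.toFinite _)
  have hRC : (R : Subgroup G) ≤ C := by
    intro r hr
    rw [hC, Subgroup.mem_centralizer_iff]
    intro r' hr'
    rw [← hyR] at hr
    have hr'' : r' ∈ zpowers y := by rw [hyR]; exact hr'
    obtain ⟨i, rfl⟩ := Subgroup.mem_zpowers_iff.1 hr
    obtain ⟨j, rfl⟩ := Subgroup.mem_zpowers_iff.1 hr''
    exact (Commute.zpow_zpow_self y j i).eq
  have h11 : 11 ∣ Nat.card C := by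
    rw [← card_sylow11 h R]
    exact Subgroup.card_dvd_of_le hRC
  have hpos : 0 < Nat.card C := Nat.card_pos
  have hcases : Nat.card C = 11 ∨ Nat.card C = 22 := by
    obtain ⟨k, hk⟩ := h11
    omega
  rcases hcases with h1 | h1
  · exact h1
  · exfalso
    haveI : Fact (Nat.Prime 2) := ⟨Nat.prime_two⟩
    obtain ⟨t, ht⟩ := exists_prime_orderOf_dvd_card' (G := C) 2 (by rw [h1]; norm_num)
    have ht2 : orderOf (t : G) = 2 := by rw [Subgroup.orderOf_coe]; exact ht
    have ht1 : (t : G) ≠ 1 := by
      intro h0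
      rw [h0, orderOf_one] at ht2
      omega
    haveI : Fintype (Sylow 3 G) := Fintype.ofFinite _
    have hsign := sign_eq_one_of_minN h (by norm_num) (Y := Sylow 3 G) (t : G)
    set σ : Equiv.Perm (Sylow 3 G) := MulAction.toPermHom G (Sylow 3 G) (t : G) with hσ
    have hσ2 : σ ^ 2 = 1 := by
      rw [hσ, ← map_pow, ← ht2, pow_orderOf_eq_one, map_one]
    have h3 := Equiv.Perm.sign_of_pow_two_eq_one hσ2
    have h4 : Fintype.card (Sylow 3 G) = 22 := by
      rw [← Nat.card_eq_fintype_card]; exact h.1
    have h5 : Fintype.card (Function.fixedPoints σ) = 0 := by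
      rw [Fintype.card_eq_zero_iff]
      refine ⟨fun ⟨T, hT⟩ => ?_⟩
      have hT' : (t : G) • T = T := hT
      exact ht1 (eq_one_of_commute_of_fix h y hy (t : G)
        (commute_of_mem_centralizer R y hyR t t.2) T hT')
    rw [h4, h5, hsign] at h3
    have : ((-1 : ℤˣ)) ^ ((22 - 0) / 2) = -1 := by decide
    rw [this] at h3
    exact absurd h3 (by decide)

theorem card_normalizer11 (h : MinN 3 22 G) (R : Sylow 11 G) :
    Nat.card (normalizer ((R : Subgroup G) : Set G)) = 22 := by
  have hR := card_sylow11 h R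
  have hC := card_centralizer11 h R
  have h1 := relIndex_centralizer_normalizer_dvd (by norm_num : Nat.Prime 11) (R : Subgroup G) hR
  have h2 : (centralizer ((R : Subgroup G) : Set G)).relIndex
      (normalizer ((R : Subgroup G) : Set G)) ∣ Nat.card G :=
    (Subgroup.relIndex_dvd_card _ _).trans (Subgroup.card_subgroup_dvd_card _)
  have hmul := card_mul_relIndex' (Subgroup.centralizer_le_normalizer ((R : Subgroup G) : Set G))
  set e := (centralizer ((R : Subgroup G) : Set G)).relIndex
      (normalizer ((R : Subgroup G) : Set G)) with he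
  have h5 : ¬ 5 ∣ e := fun h5 => not_five_dvd_card h (h5.trans h2)
  have hle : e ≤ 10 := Nat.le_of_dvd (by norm_num) h1
  have he1 : e ≠ 1 := by
    intro h1e
    have hle : normalizer ((R : Subgroup G) : Set G) ≤ centralizer ((R : Subgroup G) : Set G) :=
      Subgroup.relIndex_eq_one.1 h1e
    have hidx : (MonoidHom.transferSylow R hle).ker.index = 11 := by
      rw [(MonoidHom.ker_transferSylow_isComplement' R hle).symm.index_eq_card, hR]
    apply h.false_of_normal (MonoidHom.transferSylow R hle).ker
    · intro htop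
      rw [htop, Subgroup.index_top] at hidx
      omega
    · rw [hidx]; norm_num
  have he2 : e = 2 := by
    have h10 : e ∣ 10 := h1
    interval_cases e <;> omega
  rw [← hmul, hC, he2]

theorem card_normalizer_eq_twelve (h : MinN 3 22 G) (P : Sylow 3 G) :
    Nat.card (normalizer (P : Set G)) = 12 := by
  obtain ⟨R⟩ : Nonempty (Sylow 11 G) := inferInstance
  have h1 := card_normalizer11 h R
  have h2 : Nat.card (Sylow 11 G) ≡ 1 [MOD 11] := card_sylow_modEq_one 11 G
  rw [R.card_eq_index_normalizer] at h2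
  have h3 := Subgroup.index_mul_card (normalizer ((R : Subgroup G) : Set G))
  rw [h1, card_eq_mul_normalizer h P] at h3
  have h4 : (normalizer (R : Set G)).index = (normalizer ((R : Subgroup G) : Set G)).index := rfl
  rw [h4] at h2
  have h5 : (normalizer ((R : Subgroup G) : Set G)).index = Nat.card (normalizer (P : Set G)) := by
    omega
  rw [h5] at h2
  have := card_normalizer_cases h P
  simp only [Finset.mem_insert, Finset.mem_singleton] at this
  unfold Nat.ModEq at h2
  rcases this with h6 | h6 | h6 | h6 | h6 | h6 | h6 | h6 | h6 <;> rw [h6] at h2 <;> omega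

end Cfsg.Agent.Lib.H26.N22
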