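import Mathlib
import Cfsg.Agent.Lib.H26.N22l

/-!
# No group has exactly 22 Sylow 3-subgroups, part 10 (helper26): the final contradiction

`|G| = 264`, and an involution normalizing a Sylow `11`-subgroup acts as an odd permutation of the
twelve Sylow `11`-subgroups.
-/

set_option autoImplicit false

namespace Cfsg.Agent.Lib.H26.N22

open Subgroup MulAction
open scoped Pointwise
open Cfsg.Agent.Lib.H21 Cfsg.Agent.Lib.H21.TwoP1 Cfsg.Agent.Lib.H21.MinN

universe u

variable {G : Type u} [Group G] [Finite G]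

omit [Finite G] in
/-- the `P`-orbit of `Q ≠ P` avoids `P` (any prime) -/
theorem orbit_subset_compl' {p : ℕ} (P Q : Sylow p G) (hPQ : Q ≠ P) :
    MulAction.orbit (P : Subgroup G) Q ⊆ ({P} : Set (Sylow p G))ᶜ := by
  rintro R ⟨x, rfl⟩
  rw [Set.mem_compl_iff, Set.mem_singleton_iff]
  intro hx
  apply hPQ
  have h1 : (x : G) • Q = P := hx
  have h2 : (x : G)⁻¹ • P = P := by
    rw [Sylow.smul_eq_iff_mem_normalizer]
    exact le_normalizer ((P : Subgroup G).inv_mem x.2)
  calc Q = (x : G)⁻¹ • ((x : G) • Q) := by rw [smul_smul, inv_mul_cancel, one_smul]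
    _ = (x : G)⁻¹ • P := by rw [h1]
    _ = P := h2

theorem inf_eq_bot11 (h : MinN 3 22 G) (R R₁ : Sylow 11 G) (hne : R₁ ≠ R) :
    (R : Subgroup G) ⊓ R₁ = ⊥ := by
  have hR := card_sylow11 h R
  have h1 : Nat.card ((R : Subgroup G) ⊓ R₁ : Subgroup G) ∣ 11 := by
    have := Subgroup.card_dvd_of_le (inf_le_left : (R : Subgroup G) ⊓ R₁ ≤ R)
    rwa [hR] at this
  rcases (Nat.dvd_prime (by norm_num)).1 h1 with h2 | h2
  · exact Subgroup.card_eq_one.1 h2
  · exfalso
    apply hne
    have h3 : (R : Subgroup G) ⊓ R₁ = R :=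
      Subgroup.eq_of_le_of_card_ge inf_le_left (by rw [h2, hR])
    have hle : (R : Subgroup G) ≤ R₁ := h3 ▸ inf_le_right
    exact Sylow.ext (R.is_maximal' R₁.isPGroup' hle)

theorem card_sylow11_eq (h : MinN 3 22 G) : Nat.card (Sylow 11 G) = 12 := by
  obtain ⟨R⟩ : Nonempty (Sylow 11 G) := inferInstance
  obtain ⟨P⟩ : Nonempty (Sylow 3 G) := inferInstance
  have h1 := card_normalizer11 h R
  have h3 := Subgroup.index_mul_card (normalizer ((R : Subgroup G) : Set G))
  rw [h1, card_eq_mul_normalizer h P, card_normalizer_eq_twelve h P] at h3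
  rw [R.card_eq_index_normalizer]
  have h4 : (normalizer (R : Set G)).index = (normalizer ((R : Subgroup G) : Set G)).index := rfl
  rw [h4]
  omega

/-- `R` is transitive on the other Sylow `11`-subgroups -/
theorem orbit11_eq (h : MinN 3 22 G) (R R₁ : Sylow 11 G) (hne : R₁ ≠ R) :
    MulAction.orbit (R : Subgroup G) R₁ = ({R} : Set (Sylow 11 G))ᶜ := by
  apply Set.eq_of_subset_of_ncard_le (orbit_subset_compl' R R₁ hne) _ (Set.toFinite _)
  rw [Set.ncard_compl, Set.ncard_singleton, card_sylow11_eq h, ← index_stabilizer, stabilizer_eq,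
    inf_eq_bot11 h R R₁ hne, Subgroup.bot_subgroupOf, Subgroup.index_bot, card_sylow11 h R]

/-- there is no minimal group with exactly `22` Sylow `3`-subgroups -/
theorem false_of_minN (h : MinN 3 22 G) : False := by
  classical
  obtain ⟨R⟩ : Nonempty (Sylow 11 G) := inferInstance
  have hR := card_sylow11 h R
  have hC := card_centralizer11 h R
  have hA := card_normalizer11 h R
  have hn := card_sylow11_eq h
  haveI : Fact (Nat.Prime 2) := ⟨Nat.prime_two⟩
  obtain ⟨s, hs⟩ := exists_prime_orderOf_dvd_card'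
    (G := normalizer ((R : Subgroup G) : Set G)) 2 (by rw [hA]; norm_num)
  have hs2 : orderOf (s : G) = 2 := by rw [Subgroup.orderOf_coe]; exact hs
  have hsN : (s : G) ∈ normalizer ((R : Subgroup G) : Set G) := s.2
  have hsC : (s : G) ∉ centralizer ((R : Subgroup G) : Set G) := by
    intro hmem
    have := Subgroup.orderOf_dvd_natCard _ hmem
    rw [hs2, hC] at this
    omega
  have hsR : (s : G) • R = R := Sylow.smul_eq_iff_mem_normalizer.2 hsN
  -- uniqueness of the other fixed point
  have huniq : ∀ R₁ R₂ : Sylow 11 G, R₁ ≠ R → R₂ ≠ R → (s : G) • R₁ = R₁ → (s : G) • R₂ = R₂ →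
      R₁ = R₂ := by
    intro R₁ R₂ h1 h2 hf1 hf2
    have hmem : R₂ ∈ MulAction.orbit (R : Subgroup G) R₁ := by
      rw [orbit11_eq h R R₁ h1]; exact h2
    obtain ⟨u, hu⟩ := hmem
    have hu' : (u : G) • R₁ = R₂ := hu
    set v : G := (s : G) * (u : G) * (s : G)⁻¹ with hv
    have hvR : v ∈ (R : Subgroup G) := (Subgroup.mem_normalizer_iff.1 hsN (u : G)).1 u.2
    have hsinv : (s : G)⁻¹ • R₁ = R₁ := by
      conv_lhs => rw [← hf1]
      rw [inv_smul_smul]
    have hvR₁ : v • R₁ = (u : G) • R₁ := by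
      rw [hv, mul_smul, mul_smul, hsinv, hu', hf2]
    have hfix : ((u : G)⁻¹ * v) • R₁ = R₁ := by
      rw [mul_smul, hvR₁, inv_smul_smul]
    have hmem2 : (u : G)⁻¹ * v ∈ (R : Subgroup G) ⊓ normalizer (R₁ : Set G) :=
      ⟨Subgroup.mul_mem _ (Subgroup.inv_mem _ u.2) hvR, Sylow.smul_eq_iff_mem_normalizer.1 hfix⟩
    rw [R.isPGroup'.inf_normalizer_sylow R₁, inf_eq_bot11 h R R₁ h1, Subgroup.mem_bot] at hmem2
    have hvu : v = (u : G) := by
      have := eq_of_inv_mul_eq_one hmem2
      exact this.symm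
    have hcomm : (s : G) * (u : G) = (u : G) * (s : G) := by
      calc (s : G) * (u : G) = v * (s : G) := by rw [hv]; group
        _ = (u : G) * (s : G) := by rw [hvu]
    by_cases hu1 : (u : G) = 1
    · rw [hu1, one_smul] at hu'
      exact hu'
    · exfalso
      apply hsC
      have hord : orderOf (u : G) = 11 := by
        have h3 : orderOf (u : G) ∣ 11 := by
          have := Subgroup.orderOf_dvd_natCard _ u.2
          rwa [hR] at this
        rcases (Nat.dvd_prime (by norm_num)).1 h3 with h4 | h4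
        · exact absurd (orderOf_eq_one_iff.1 h4) hu1
        · exact h4
      have hzp : zpowers (u : G) = (R : Subgroup G) := by
        apply Subgroup.eq_of_le_of_card_ge
        · rw [Subgroup.zpowers_le]; exact u.2
        · rw [hR, Nat.card_zpowers, hord]
      rw [Subgroup.mem_centralizer_iff]
      intro r hr
      have hr' : r ∈ zpowers (u : G) := by rw [hzp]; exact hr
      obtain ⟨i, rfl⟩ := Subgroup.mem_zpowers_iff.1 hr'
      have : Commute (s : G) (u : G) := hcomm
      exact (this.zpow_right i).eq.symm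
  -- the sign of `s` on the Sylow `11`-subgroups
  haveI : Fintype (Sylow 11 G) := Fintype.ofFinite _
  have hsign := sign_eq_one_of_minN h (by norm_num) (Y := Sylow 11 G) (s : G)
  set σ : Equiv.Perm (Sylow 11 G) := MulAction.toPermHom G (Sylow 11 G) (s : G) with hσ
  have hσ2 : σ ^ 2 = 1 := by
    rw [hσ, ← map_pow, ← hs2, pow_orderOf_eq_one, map_one]
  have h3 := Equiv.Perm.sign_of_pow_two_eq_one hσ2
  have h4 : Fintype.card (Sylow 11 G) = 12 := by
    rw [← Nat.card_eq_fintype_card]; exact hn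
  set F : Set (Sylow 11 G) := Function.fixedPoints σ with hF
  have hRF : R ∈ F := hsR
  have h5 : (F \ {R}).ncard ≤ 1 := by
    rw [Set.ncard_le_one (Set.toFinite _)]
    rintro R₁ ⟨hf1, hne1⟩ R₂ ⟨hf2, hne2⟩
    exact huniq R₁ R₂ hne1 hne2 hf1 hf2
  have h6 := Set.ncard_sdiff_singleton_add_one hRF (Set.toFinite _)
  have h7 : Fintype.card F = F.ncard := by
    rw [← Nat.card_eq_fintype_card, Nat.card_coe_set_eq]
  have h8 : Fintype.card (Function.fixedPoints σ) = 1 ∨
      Fintype.card (Function.fixedPoints σ) = 2 := by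
    have : Fintype.card (Function.fixedPoints σ) = F.ncard := h7
    omega
  rw [h4, hsign] at h3
  rcases h8 with h9 | h9 <;> rw [h9] at h3 <;> exact absurd h3 (by decide)

end Cfsg.Agent.Lib.H26.N22
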