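import Mathlib
import Cfsg.Agent.Lib.H26.NGPDefs
import Cfsg.Agent.Lib.H8.NGPUP
import Cfsg.Agent.Lib.H26.NGPNU

set_option autoImplicit false

/-! # S1904 piece 2ATOP (helper26) -/

namespace Cfsg.Agent.Lib.H26.NGP

open Cfsg.Agent.Lib.H8.NGP (exists_upper_notMem)

universe u

variable {X : Type u} [Group X] [Finite X]

theorem case2a_top (hX : IsPGroup 2 X) {A : Subgroup (MulAut X)} {ρ : MulAut X} {z : X}
    {U : Subgroup X} (hU : USetup A ρ z U) (hUn : U.Normal)
    (hZW : ∀ c ∈ upper U hUn, (∀ d ∈ upper U hUn, c * d = d * c) → c ∈ U) : upper U hUn = ⊤ := by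
  have hcen : ∀ u ∈ U, ∀ g : X, g * u = u * g := fun u hu g =>
    Subgroup.mem_center_iff.mp (hU.central hu) g
  have hWn : (upper U hUn).Normal := upper_normal U hUn
  have hCn : (Subgroup.centralizer ((upper U hUn : Subgroup X) : Set X)).Normal := by
    haveI := hWn
    exact Subgroup.normal_centralizer
  have hUC : U ≤ Subgroup.centralizer ((upper U hUn : Subgroup X) : Set X) := by
    intro u hu
    rw [Subgroup.mem_centralizer_iff]
    intro w _
    exact hcen u hu w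
  have hCU : Subgroup.centralizer ((upper U hUn : Subgroup X) : Set X) ≤ U := by
    by_contra hcon
    obtain ⟨c, hcC, hcW, hcU⟩ := exists_upper_notMem hX U _ hUn hCn hUC hcon
    apply hcU
    apply hZW c hcW
    intro d hd
    rw [Subgroup.mem_centralizer_iff] at hcC
    exact (hcC d hd).symm
  -- conjugation on `W`
  have hconj : ∀ w ∈ upper U hUn, ∀ g : X, g * w * g⁻¹ = (cm w g)⁻¹ * w := by
    intro w _ g
    simp only [cm_def]; group
  have hcmC : ∀ g h : X, cm g⁻¹ h⁻¹ ∈ Subgroup.centralizer ((upper U hUn : Subgroup X) : Set X) := by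
    intro g h
    rw [Subgroup.mem_centralizer_iff]
    intro w hw
    have hκg : (cm w g)⁻¹ ∈ U := U.inv_mem (hw g)
    have hκh : (cm w h)⁻¹ ∈ U := U.inv_mem (hw h)
    have hwg : (cm w g)⁻¹ * w ∈ upper U hUn :=
      (upper U hUn).mul_mem ((le_upper U hUn hU.ab) hκg) hw
    have e1 : (g * h) * w * (g * h)⁻¹ = (cm w h)⁻¹ * ((cm w g)⁻¹ * w) := by
      have : (g * h) * w * (g * h)⁻¹ = g * (h * w * h⁻¹) * g⁻¹ := by group
      rw [this, hconj w hw h]
      have : g * ((cm w h)⁻¹ * w) * g⁻¹ = g * (cm w h)⁻¹ * (w * g⁻¹) := by group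
      rw [this, hcen _ hκh g]
      have : (cm w h)⁻¹ * g * (w * g⁻¹) = (cm w h)⁻¹ * (g * w * g⁻¹) := by group
      rw [this, hconj w hw g]
    have e2 : (h * g) * w * (h * g)⁻¹ = (cm w g)⁻¹ * ((cm w h)⁻¹ * w) := by
      have : (h * g) * w * (h * g)⁻¹ = h * (g * w * g⁻¹) * h⁻¹ := by group
      rw [this, hconj w hw g]
      have : h * ((cm w g)⁻¹ * w) * h⁻¹ = h * (cm w g)⁻¹ * (w * h⁻¹) := by group
      rw [this, hcen _ hκg h]
      have : (cm w g)⁻¹ * h * (w * h⁻¹) = (cm w g)⁻¹ * (h * w * h⁻¹) := by group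
      rw [this, hconj w hw h]
    have e3 : (g * h) * w * (g * h)⁻¹ = (h * g) * w * (h * g)⁻¹ := by
      rw [e1, e2, ← mul_assoc, ← mul_assoc, hcen _ hκg (cm w h)⁻¹]
    -- hence `(h g)⁻¹ (g h)` commutes with `w`
    have e4 : cm g⁻¹ h⁻¹ = (h * g)⁻¹ * (g * h) := by simp only [cm_def]; group
    rw [e4]
    calc w * ((h * g)⁻¹ * (g * h))
        = (h * g)⁻¹ * ((h * g) * w * (h * g)⁻¹) * (g * h) := by group
      _ = (h * g)⁻¹ * ((g * h) * w * (g * h)⁻¹) * (g * h) := by rw [e3]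
      _ = (h * g)⁻¹ * (g * h) * w := by group
  rw [eq_top_iff]
  intro x _ g
  have := hcmC x⁻¹ g⁻¹
  rw [inv_inv, inv_inv] at this
  exact hCU this

end Cfsg.Agent.Lib.H26.NGP
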