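import Mathlib
import Cfsg.Prelude.Def_Transfer
import Cfsg.Agent.Lib.H26.NGPDefs
import Cfsg.Agent.Lib.H10.NGPCASEI
import Cfsg.Agent.Lib.H10.NGPX1INJ
import Cfsg.Agent.Lib.H11.NGPC132
import Cfsg.Agent.Lib.H11.NGPC1BIG
import Cfsg.Agent.Lib.H15.NGPHC
import Cfsg.Agent.Lib.H19.NGPC18
import Cfsg.Agent.Lib.H19.NGPC1GE
import Cfsg.Agent.Lib.H19.NGPC1LE
import Cfsg.Agent.Lib.H19.NGPC4
import Cfsg.Agent.Lib.H2.NGP2AFIN
import Cfsg.Agent.Lib.H2.NGPBCENT
import Cfsg.Agent.Lib.H2.NGPKEY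
import Cfsg.Agent.Lib.H20.NGPIDEM
import Cfsg.Agent.Lib.H20.NGPN2
import Cfsg.Agent.Lib.H26.NGP2ATOP
import Cfsg.Agent.Lib.H26.NGPC1A
import Cfsg.Agent.Lib.H26.NGPNU
import Cfsg.Agent.Lib.H5.NGPC1NE32
import Cfsg.Agent.Lib.H5.NGPUSET
import Cfsg.Agent.Lib.H8.NGPPN
import Cfsg.Agent.Lib.H8.NGPUP
import Cfsg.Agent.Lib.H9.NGPELAB
import Cfsg.Agent.S0094
import Cfsg.Agent.S0095

/-!
# S1904: assembly of the farm-out pieces (helper26)
-/

set_option autoImplicit false

namespace Cfsg.Agent.Lib.H26.NGP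

open Cfsg.Agent.Lib.H10.NGP (exists_x1_inj caseI_false)
open Cfsg.Agent.Lib.H11.NGP (c1_order_32 c1_extra_big)
open Cfsg.Agent.Lib.H15.NGP (homo_pow_eq_one)
open Cfsg.Agent.Lib.H19.NGP (c1_order_eight c1_four_le c1_four_ge caseII_c4)
open Cfsg.Agent.Lib.H2.NGP (maxB_cent key case2a_final)
open Cfsg.Agent.Lib.H20.NGP (n2_comm caseII_top)
open Cfsg.Agent.Lib.H5.NGP (c1_four_ne32 exists_usetup)
open Cfsg.Agent.Lib.H8.NGP (exists_upper_notMem ne_of_hscn)
open Cfsg.Agent.Lib.H9.NGP (caseII_elab)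

universe u

variable {X : Type u} [Group X] [Finite X]

theorem isMulCommutative_of_ab_top (h : Ab (⊤ : Subgroup X)) : IsMulCommutative X :=
  ⟨⟨fun a b => h a (Subgroup.mem_top a) b (Subgroup.mem_top b)⟩⟩

/-- Case C1. -/
theorem caseC1 (hX : IsPGroup 2 X) (hna : ¬ IsMulCommutative X) (hne : NE X)
    (A : Subgroup (MulAut X)) (hA : Odd (Nat.card A)) (hgen : Gen A)
    (hsp : Cfsg.IsSpecial 2 X)
    (hfix : ∀ g : X, g ∈ Subgroup.center X ↔ ∀ a ∈ A, a g = g) :
    Nonempty (X ≃* QuaternionGroup 2) ∨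
      (Cfsg.IsSpecial 2 X ∧ Nat.card X = 64 ∧ Nat.card {x : X // orderOf x = 2} = 3 ∧
        ∀ x : X, orderOf x = 2 → x ∈ Subgroup.center X) ∨
      (Cfsg.IsExtraspecial 2 X ∧ Nat.card X = 32 ∧ Nat.card {x : X // orderOf x = 2} = 11) := by
  have : Fact (Nat.Prime 2) := ⟨Nat.prime_two⟩
  rcases c1_center_card hX hna hne hsp with h2 | h4
  · have hes : Cfsg.IsExtraspecial 2 X := ⟨hsp, h2⟩
    obtain ⟨k, hk1, hcard⟩ := Cfsg.Agent.S0095.result (p := 2) hes
    rcases Nat.lt_or_ge k 3 with hk3 | hk3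
    · interval_cases k
      · left
        exact c1_order_eight hna (by rw [hcard]; norm_num) hgen
      · right; right
        have h32 : Nat.card X = 32 := by rw [hcard]; norm_num
        exact ⟨hes, h32, c1_order_32 hne hes h32⟩
    · exact (c1_extra_big hne hes k hk3 hcard).elim
  · have hinv := c1_four_invol hne hsp h4
    have hle := c1_four_le hsp h4 hinv
    have hge := c1_four_ge hsp h4
    obtain ⟨m, hm⟩ := IsPGroup.iff_card.mp hX
    have hm56 : m = 5 ∨ m = 6 := by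
      rw [hm] at hle hge
      have h1 : m < 7 := by
        by_contra hcon
        push Not at hcon
        have : 2 ^ 7 ≤ 2 ^ m := Nat.pow_le_pow_right (by norm_num) hcon
        omega
      have h2 : 4 < m := by
        by_contra hcon
        push Not at hcon
        have : 2 ^ m ≤ 2 ^ 4 := Nat.pow_le_pow_right (by norm_num) hcon
        omega
      omega
    rcases hm56 with rfl | rfl
    · exact (c1_four_ne32 hX hsp h4 (by rw [hm]; norm_num) hA hgen hfix).elim
    · right; left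
      have hZ2 : ∀ c ∈ Subgroup.center X, c * c = 1 := by
        intro c hc
        have := Cfsg.Agent.S0094.result (p := 2) hsp c hc
        rwa [pow_two] at this
      refine ⟨hsp, by rw [hm]; norm_num, c1_count3 h4 hZ2 hinv, ?_⟩
      intro x hx
      apply hinv
      have := pow_orderOf_eq_one x
      rwa [hx, pow_two] at this

/-- Case 2b: `W` abelian is impossible. -/
theorem case2b {A : Subgroup (MulAut X)} (hC : Ctx A) (hna : ¬ IsMulCommutative X)
    {ρ : MulAut X} {z : X} {U : Subgroup X} (hU : USetup A ρ z U) (hUn : U.Normal)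
    (hWab : Ab (upper U hUn)) : False := by
  classical
  -- `W ≠ U`
  have hWne : ∃ w ∈ upper U hUn, w ∉ U := by
    have hntop : ¬ (⊤ : Subgroup X) ≤ U := by
      intro h
      apply hna
      apply isMulCommutative_of_ab_top
      intro a _ b _
      have ha : a ∈ Subgroup.center X := hU.central (h (Subgroup.mem_top a))
      exact (Subgroup.mem_center_iff.mp ha b).symm
    obtain ⟨w, _, hw, hwU⟩ := exists_upper_notMem hC.pg U ⊤ hUn inferInstance le_top hntop
    exact ⟨w, hw, hwU⟩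
  have hUab : Ab U := fun a ha b _ =>
    (Subgroup.mem_center_iff.mp (hU.central ha) b).symm
  have hUW : U ≤ upper U hUn := le_upper U hUn hUab
  -- a maximal `B`
  let S : Set (Subgroup X) := {B | upper U hUn ≤ B ∧ B.Normal ∧ AInv A B ∧ Ab B}
  have hSfin : S.Finite := Set.toFinite S
  have hSne : S.Nonempty :=
    ⟨upper U hUn, le_rfl, upper_normal U hUn, upper_ainv A U hUn hU.ainv, hWab⟩
  obtain ⟨B, hBmax⟩ := hSfin.exists_maximal hSne
  obtain ⟨⟨hWB, hBn, hBA, hBab⟩, hmax⟩ := hBmax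
  have hmax' : ∀ B' : Subgroup X, B'.Normal → AInv A B' → Ab B' → B ≤ B' → B' = B := by
    intro B' h1 h2 h3 h4
    exact le_antisymm (hmax ⟨hWB.trans h4, h1, h2, h3⟩ h4) h4
  have hUB : U ≤ B := hUW.trans hWB
  have hBU : ∃ b ∈ B, b ∉ U := by
    obtain ⟨w, hw, hwU⟩ := hWne
    exact ⟨w, hWB hw, hwU⟩
  have hcent := maxB_cent hC hU B hBn hBA hBab hUB hBU hmax'
  have hinvol : ∀ t ∈ B, t * t = 1 → t ∈ U := fun t ht htt =>
    invol_mem_U hC.ne hU B hBn hBab t ht htt
  have hρB : ∀ x ∈ B, ρ x ∈ B := fun x hx => hBA ρ hU.mem x hx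
  obtain ⟨-, -, hk⟩ := key hC.pg hU B hUB hρB hinvol
  rcases hk with ⟨n, hn1, hH⟩ | ⟨hnab, -⟩
  swap
  · exact hnab hBab
  have hn2 : 2 ≤ n := by
    by_contra hcon
    have hn : n = 1 := by omega
    subst hn
    obtain ⟨b, hb, hbU⟩ := hBU
    apply hbU
    apply hinvol b hb
    have := homo_pow_eq_one hH b hb
    rwa [pow_one, pow_two] at this
  have hB : BSetup A U B n := ⟨hBn, hBA, hH, hUB, hinvol, hcent, hn2⟩
  have hBtop : B ≠ ⊤ := by
    intro h
    apply hna
    apply isMulCommutative_of_ab_top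
    rw [← h]
    exact hBab
  rcases Nat.lt_or_ge n 3 with hn3 | hn3
  · have hn : n = 2 := by omega
    subst hn
    have hcm := n2_comm hC hU hB
    apply hna
    apply isMulCommutative_of_ab_top
    intro a _ b _
    exact hWab a (fun g => hcm a g) b (fun g => hcm b g)
  · by_cases hI : ∃ x₀ : X, x₀ ∉ B ∧ ∀ b ∈ B, cm b x₀ ∈ U
    · obtain ⟨x₀, hx₀, h₀⟩ := hI
      obtain ⟨x, hxB, hx, hinj⟩ := exists_x1_inj hC hU hB x₀ hx₀ h₀
      exact caseI_false hC hU hB hn3 x hxB hx hinj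
    · have hII : ∀ x : X, (∀ b ∈ B, cm b x ∈ U) → x ∈ B := by
        intro x hx
        by_contra hxB
        exact hI ⟨x, hxB, hx⟩
      have hC4 := caseII_c4 hC.pg hB hII
      have hel := caseII_elab hB hU.central hC4
      exact hBtop (caseII_top hC hU hB hn3 hC4 hel)

/-- Case C2. -/
theorem caseC2 {A : Subgroup (MulAut X)} (hC : Ctx A) (hna : ¬ IsMulCommutative X)
    (hchar : ¬ ∀ H : Subgroup X, H.Characteristic → IsMulCommutative H →
      ∀ a ∈ A, ∀ h ∈ H, a h = h) :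
    Cfsg.IsSpecial 2 X ∧ Nat.card X = 64 ∧ Nat.card {x : X // orderOf x = 2} = 3 ∧
        ∀ x : X, orderOf x = 2 → x ∈ Subgroup.center X := by
  obtain ⟨ρ, z, U, hU⟩ := exists_usetup hC.pg hC.ne hC.odd hchar
  have hUn := hU.normal
  have hUab : Ab U := fun a ha b _ =>
    (Subgroup.mem_center_iff.mp (hU.central ha) b).symm
  have hUW : U ≤ upper U hUn := le_upper U hUn hUab
  have hWinv : ∀ t ∈ upper U hUn, t * t = 1 → t ∈ U := fun t ht htt =>
    upperU_invol hC.ne hU hUn t ht htt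
  have hρW : ∀ x ∈ upper U hUn, ρ x ∈ upper U hUn := fun x hx =>
    upper_ainv A U hUn hU.ainv ρ hU.mem x hx
  obtain ⟨-, -, hk⟩ := key hC.pg hU (upper U hUn) hUW hρW hWinv
  rcases hk with ⟨n, -, hH⟩ | ⟨-, hcard, hZW, hsq, hcm⟩
  · exact (case2b hC hna hU hUn hH.ab).elim
  · have htop : upper U hUn = ⊤ := case2a_top hC.pg hU hUn hZW
    have hall : ∀ x : X, x ∈ upper U hUn := fun x => by rw [htop]; exact Subgroup.mem_top x
    have hcardX : Nat.card X = 64 := by
      rw [← hcard, htop]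
      exact (Nat.card_congr Subgroup.topEquiv.toEquiv).symm
    exact case2a_final hC.pg hna hU hcardX
      (fun c hc => hZW c (hall c) (fun d _ => hc d))
      (fun d => hsq d (hall d))
      (fun a b => hcm a (hall a) b (hall b))
      (fun t htt => hWinv t (hall t) htt)

end Cfsg.Agent.Lib.H26.NGP
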