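import Mathlib
import Cfsg.Agent.Lib.H26.NGPDefs
import Cfsg.Agent.Lib.H15.NGPHC

set_option autoImplicit false

/-! # S1904 piece IDEM (helper26) -/

namespace Cfsg.Agent.Lib.H26.NGP

open Cfsg.Agent.Lib.H15.NGP (homo_exists_root)

universe u

variable {X : Type u} [Group X] [Finite X]

theorem idem {A : Subgroup (MulAut X)} {U B : Subgroup X} {n : ℕ} (hB : BSetup A U B n) (hn : 3 ≤ n)
    (hUc : U ≤ Subgroup.center X) (x : X) (hxx : x * x ∈ B) :
    ∀ w ∈ B, w ^ 4 = 1 → ∃ c ∈ B, c ^ 4 = 1 ∧ c * c = cm w x ∧ cm c x = c * c := by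
  have hab := hB.homo.ab
  have hBn := hB.normal
  have hmem : ∀ b ∈ B, cm b x ∈ B := fun b hb => by
    rw [cm_def]
    have : b * x * b⁻¹ * x⁻¹ = b * (x * b⁻¹ * x⁻¹) := by group
    rw [this]
    exact B.mul_mem hb (hBn.conj_mem _ (B.inv_mem hb) x)
  have hmul : ∀ a ∈ B, ∀ b ∈ B, cm (a * b) x = cm a x * cm b x := by
    intro a ha b hb
    have h1 : cm (a * b) x = a * cm b x * a⁻¹ * cm a x := by
      simp only [cm_def]; group
    have h2 : a * cm b x * a⁻¹ = cm b x := by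
      rw [hab a ha _ (hmem b hb), mul_inv_cancel_right]
    rw [h1, h2]
    exact hab _ (hmem b hb) _ (hmem a ha)
  have hTT : ∀ b ∈ B, cm (cm b x) x = cm b x * cm b x := by
    intro b hb
    have hc : x * x * b = b * (x * x) := hab _ hxx _ hb
    have e1 : x * b * x⁻¹ = x⁻¹ * b * x := by
      have : x * b * x⁻¹ = x⁻¹ * (x * x * b) * x⁻¹ := by group
      rw [this, hc]
      group
    have l : cm (cm b x) x = b * x * b⁻¹ * (x * b * x⁻¹) * b⁻¹ * x⁻¹ := by
      simp only [cm_def]; group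
    have r : cm b x * cm b x = b * x * b⁻¹ * (x⁻¹ * b * x) * b⁻¹ * x⁻¹ := by
      simp only [cm_def]; group
    rw [l, r, e1]
  intro w hw hw4
  obtain ⟨d, hd, hdw⟩ := homo_exists_root hB.homo 2 (by omega) w hw (by simpa using hw4)
  have hb : d ^ 2 ^ (n - 3) ∈ B := B.pow_mem hd _
  have hbb : d ^ 2 ^ (n - 3) * d ^ 2 ^ (n - 3) = w := by
    rw [← pow_two, ← pow_mul, ← pow_succ]
    have : n - 3 + 1 = n - 2 := by omega
    rw [this]
    exact hdw
  have hb4 : (w * w) ∈ U := by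
    apply hB.invol _ (B.mul_mem hw hw)
    calc w * w * (w * w) = w ^ 4 := by simp only [pow_succ, pow_zero, one_mul, mul_assoc]
      _ = 1 := hw4
  refine ⟨cm (d ^ 2 ^ (n - 3)) x, hmem _ hb, ?_, ?_, hTT _ hb⟩
  · have h1 : cm (d ^ 2 ^ (n - 3)) x * cm (d ^ 2 ^ (n - 3)) x = cm w x := by
      rw [← hmul _ hb _ hb, hbb]
    have h2 : cm w x * cm w x = cm (w * w) x := (hmul _ hw _ hw).symm
    have h3 : cm (w * w) x = 1 := by
      have := Subgroup.mem_center_iff.mp (hUc hb4) x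
      rw [cm_def, ← this]
      group
    calc cm (d ^ 2 ^ (n - 3)) x ^ 4
        = (cm (d ^ 2 ^ (n - 3)) x * cm (d ^ 2 ^ (n - 3)) x) *
          (cm (d ^ 2 ^ (n - 3)) x * cm (d ^ 2 ^ (n - 3)) x) := by
            simp only [pow_succ, pow_zero, one_mul, mul_assoc]
      _ = 1 := by rw [h1, h2, h3]
  · rw [← hmul _ hb _ hb, hbb]

end Cfsg.Agent.Lib.H26.NGP
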