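import Mathlib
import Cfsg.Prelude
import Cfsg.Agent.Lib.H24.GlaubGalois
import Cfsg.Agent.Lib.H22.PRational

/-!
# S4892 piece (RATPOW): a character with values in `ℚ(ζ_m)` is fixed by the power maps `k ≡ 1 (mod m)`
(helper26)
-/

set_option autoImplicit false

namespace Cfsg.Agent.Lib.H26.NT

/-- (RATPOW) a character with values in `ℚ(ζ_m)` is fixed by the power maps `k ≡ 1 (mod m)`. -/
theorem pow_eq_of_rational {X : Type*} [Group X] [Finite X] (φ : X → ℂ) (hφ : Cfsg.IsCharacter X φ) (m : ℕ)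
    (hm : 0 < m)
    (hrat : ∀ x : X, φ x ∈ IntermediateField.adjoin ℚ ({Complex.exp (2 * Real.pi * Complex.I / m)} : Set ℂ))
    (k : ℕ) (hk : k.Coprime (Nat.card X * m)) (hk1 : k ≡ 1 [MOD m]) : ∀ x : X, φ (x ^ k) = φ x := by
  intro x
  obtain ⟨d, ρ, rfl⟩ := hφ
  have hN : Nat.card X * m ≠ 0 := Nat.mul_ne_zero Nat.card_pos.ne' hm.ne'
  have : NeZero (Nat.card X * m) := ⟨hN⟩
  obtain ⟨τ, hτ⟩ := Cfsg.Agent.Lib.H24.Glaub.exists_aut_pow (Nat.card X * m) k hk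
  set ζ := Complex.exp (2 * Real.pi * Complex.I / m) with hζdef
  have hζm : ζ ^ m = 1 := (Complex.isPrimitiveRoot_exp m hm.ne').pow_eq_one
  have hζN : ζ ^ (Nat.card X * m) = 1 := by rw [mul_comm, pow_mul, hζm, one_pow]
  have hτζ : τ ζ = ζ := by
    rw [hτ ζ hζN, pow_eq_pow_mod k hζm, hk1, ← pow_eq_pow_mod 1 hζm, pow_one]
  have h1 : τ (ρ.character x) = ρ.character x :=
    Cfsg.Agent.Lib.H22.PRat.fix_of_mem_adjoin τ ζ hτζ (hrat x)
  have hx : (ρ x) ^ (Nat.card X * m) = 1 := by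
    rw [← map_pow, pow_mul, pow_card_eq_one', one_pow, map_one]
  have h2 := Cfsg.Agent.Lib.H24.Glaub.aut_trace_of_pow_eq_one τ (Nat.card X * m) k
    (Nat.pos_of_ne_zero hN) hτ (ρ x) hx
  have h4 : ρ.character (x ^ k) = LinearMap.trace ℂ _ ((ρ x) ^ k) := by
    unfold Representation.character
    rw [map_pow]
  rw [h4, ← h2]
  exact h1

end Cfsg.Agent.Lib.H26.NT
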