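import Mathlib
import Cfsg.Prelude
import Cfsg.Agent.Lib.H24.GlaubGalois
import Cfsg.Agent.Lib.H26.NTRATPOW

/-!
# S4892 piece (RATDET): for `p` odd, a character with values in `ℚ(ζ_m)`, `p ∤ m`, has determinant
trivial on `p`-elements (helper26)
-/

set_option autoImplicit false

namespace Cfsg.Agent.Lib.H26.NT

/-- auxiliary: an exponent `k ≡ 1 (mod m)`, `k ≡ 2 (mod p)`, coprime to `n * m`. -/
theorem exists_exponent {p : ℕ} (hp : p.Prime) (hp2 : p ≠ 2) (n m : ℕ) (hn : 0 < n) (hpm : ¬ p ∣ m) :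
    ∃ k : ℕ, k.Coprime (n * m) ∧ k ≡ 1 [MOD m] ∧ k ≡ 2 [MOD p] := by
  have hm : m ≠ 0 := by
    rintro rfl
    exact hpm (dvd_zero p)
  have hM : n * m ≠ 0 := Nat.mul_ne_zero hn.ne' hm
  set e := (n * m).factorization p with he
  set r := (n * m) / p ^ e with hr
  have hpr : Nat.Coprime p r := Nat.coprime_ordCompl hp hM
  have hprod : p ^ e * r = n * m := Nat.ordProj_mul_ordCompl_eq_self (n * m) p
  have hmr : m ∣ r := by
    have h1 : m ∣ p ^ e * r := by rw [hprod]; exact Dvd.intro_left n rfl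
    have h2 : Nat.Coprime m (p ^ e) :=
      Nat.Coprime.pow_right e ((Nat.Prime.coprime_iff_not_dvd hp).2 hpm).symm
    exact h2.dvd_of_dvd_mul_left h1
  obtain ⟨k, hkr, hkp⟩ := Nat.chineseRemainder hpr.symm 1 2
  have hk_r : k.Coprime r := by
    have h := hkr.gcd_eq
    unfold Nat.Coprime
    rw [h]
    exact Nat.gcd_one_left r
  have h2p : Nat.Coprime 2 p := (Nat.coprime_primes Nat.prime_two hp).2 (Ne.symm hp2)
  have hk_p : k.Coprime p := by
    have h := hkp.gcd_eq
    unfold Nat.Coprime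
    rw [h]
    exact h2p
  refine ⟨k, ?_, hkr.of_dvd hmr, hkp⟩
  rw [← hprod]
  exact Nat.Coprime.mul_right (Nat.Coprime.pow_right e hk_p) hk_r

/-- (RATDET) `p` odd, `φ` with values in `ℚ(ζ_m)`, `p ∤ m`: `det φ` is trivial on `p`-elements. -/
theorem det_pElement_of_rational {p : ℕ} {X : Type*} [Group X] [Finite X] (hp : p.Prime) (hp2 : p ≠ 2)
    (φ : X → ℂ)
    (hφ : Cfsg.IsCharacter X φ) (m : ℕ) (hpm : ¬ p ∣ m)
    (hrat : ∀ x : X, φ x ∈ IntermediateField.adjoin ℚ ({Complex.exp (2 * Real.pi * Complex.I / m)} : Set ℂ)) :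
    ∀ x : X, (∃ k : ℕ, orderOf x = p ^ k) → Cfsg.detChar φ x = 1 := by
  rintro x ⟨j, hj⟩
  have hm : 0 < m := by
    rcases Nat.eq_zero_or_pos m with h | h
    · exact absurd (h ▸ dvd_zero p) hpm
    · exact h
  obtain ⟨k, hkc, hk1, hk2⟩ := exists_exponent hp hp2 (Nat.card X) m Nat.card_pos hpm
  have hkX : k.Coprime (Nat.card X) := Nat.Coprime.coprime_mul_right_right hkc
  have hfix : (fun g => φ (g ^ k)) = φ := by
    funext g
    exact pow_eq_of_rational φ hφ m hm hrat k hkc hk1 g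
  have h1 := Cfsg.Agent.Lib.H24.Glaub.detChar_galoisConj hφ k hkX
  rw [hfix] at h1
  have h2 : Cfsg.detChar φ x = Cfsg.detChar φ x ^ k := by
    conv_lhs => rw [h1]
    exact Cfsg.Agent.Lib.H24.Glaub.detChar_pow hφ x k
  have h3 : Cfsg.detChar φ x ^ (p ^ j) = 1 := by
    rw [← Cfsg.Agent.Lib.H24.Glaub.detChar_pow hφ x (p ^ j), ← hj, pow_orderOf_eq_one]
    have := Cfsg.Agent.Lib.H24.Glaub.detChar_pow hφ x 0
    rw [pow_zero, pow_zero] at this
    exact this
  set l := Cfsg.detChar φ x with hl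
  have hl0 : l ≠ 0 := by
    intro h0
    rw [h0, zero_pow (pow_pos hp.pos j).ne'] at h3
    exact zero_ne_one h3
  -- `k ≥ 2`
  have hp3 : 3 ≤ p := by
    have := hp.two_le
    omega
  have hkmod : k % p = 2 := by
    have := hk2
    unfold Nat.ModEq at this
    rw [this]
    exact Nat.mod_eq_of_lt (by omega)
  have hk_ge : 2 ≤ k := by
    have := Nat.mod_le k p
    omega
  have h4 : l ^ (k - 1) = 1 := by
    have h5 : l ^ (k - 1) * l = l := by
      rw [← pow_succ, Nat.sub_add_cancel (by omega)]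
      exact h2.symm
    have h6 : l ^ (k - 1) * l = 1 * l := by rw [h5, one_mul]
    exact mul_right_cancel₀ hl0 h6
  have hd1 : orderOf l ∣ k - 1 := orderOf_dvd_of_pow_eq_one h4
  have hd2 : orderOf l ∣ p ^ j := orderOf_dvd_of_pow_eq_one h3
  have hcop : Nat.Coprime (k - 1) (p ^ j) := by
    apply Nat.Coprime.pow_right
    rw [Nat.coprime_comm, Nat.Prime.coprime_iff_not_dvd hp]
    intro hdvd
    have h7 : (k - 1) % p = 0 := (Nat.dvd_iff_mod_eq_zero).1 hdvd
    have h8 : (k - 1) % p = 1 := by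
      have h9 : k = p * (k / p) + 2 := by
        have := Nat.div_add_mod k p
        omega
      have h10 : k - 1 = p * (k / p) + 1 := by omega
      rw [h10, Nat.mul_add_mod]
      exact Nat.mod_eq_of_lt (by omega)
    omega
  have hone : orderOf l = 1 := Nat.eq_one_of_dvd_coprimes hcop hd1 hd2
  exact orderOf_eq_one_iff.1 hone

end Cfsg.Agent.Lib.H26.NT
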