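import Mathlib
import Cfsg.Prelude.Def_FusionSystem
import Cfsg.Agent.Lib.H25.Fusion
import Cfsg.Agent.Lib.H25.Normal
import Cfsg.Agent.Lib.H25.NormalSeries
import Cfsg.Agent.Lib.H25.Stability

set_option autoImplicit false
set_option linter.unusedSectionVars false

/-!
A strongly closed subgroup with a central series whose proper terms are weakly closed is normal in
a saturated fusion system (helper26).
-/

namespace Cfsg.Agent.Lib.H26

open Cfsg Cfsg.FusionSystem Cfsg.Agent.Lib.H25
open scoped commutatorElement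

variable {Ω : Type*} [Group Ω] {S : Subgroup Ω}

theorem weaklyClosed_of_stronglyClosed [Finite S] {F : FusionSystem S} {P : Subgroup Ω}
    (hP : F.StronglyClosed P) : F.WeaklyClosed P := by
  refine ⟨hP.1, fun φ hφ => ?_⟩
  have hf := isIso_of_mem F hφ
  have hle : φ.range ≤ P := stronglyClosed_image_le hP hf le_rfl
  have : Finite P := finite_of_le S hP.1
  exact Subgroup.eq_of_le_of_card_ge hle (le_of_eq hf.card_eq)

/-- Automorphisms of `T` in the system preserve a weakly closed subgroup of `T`. -/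
theorem weaklyClosed_aut_mem {F : FusionSystem S} {C T : Subgroup Ω} (hC : F.WeaklyClosed C)
    (hTS : T ≤ S) (hCT : C ≤ T) {α : MulAut T} (hα : α ∈ F.autGroup T) (x : T)
    (hx : (x : Ω) ∈ C) : ((α x : T) : Ω) ∈ C := by
  have h1 := isIso_of_mem_autGroup F hTS hα
  obtain ⟨C', -, ⟨φ, hφ, hφk, hr⟩, -⟩ := h1.restrict hCT
  have hr' := hC.2 φ hφ
  have : φ ⟨x, hx⟩ ∈ φ.range := ⟨_, rfl⟩
  rw [hr', hφk, ext1_apply_mem _ x.2] at this
  exact this

/-- A weakly closed subgroup is normalized by `S`. -/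
theorem weaklyClosed_le_normalizer [Finite S] {F : FusionSystem S} {C : Subgroup Ω}
    (hC : F.WeaklyClosed C) : S ≤ Subgroup.normalizer (C : Set Ω) := by
  intro g hg
  have : Finite C := finite_of_le S hC.1
  apply mem_normalizer_of_conj_mem
  intro x hx
  have h1 := hC.2 _ (F.conj_mem hC.1 hg)
  have : conjHom C g ⟨x, hx⟩ ∈ (conjHom C g).range := ⟨_, rfl⟩
  rw [h1] at this
  exact this

theorem isNormal_of_weaklyClosed_series [Finite S] {p : ℕ} [Fact p.Prime] (hS : IsPGroup p S)
    {F : FusionSystem S} (hF : F.IsSaturated p) {Q : Subgroup Ω} (hQsc : F.StronglyClosed Q)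
    (U : ℕ → Subgroup Ω) (n : ℕ) (hU0 : U 0 = ⊥) (hUn : U n = Q)
    (hmono : ∀ i < n, U i ≤ U (i + 1)) (hwc : ∀ i < n, F.WeaklyClosed (U i))
    (hcomm : ∀ i < n, ⁅U (i + 1), Q⁆ ≤ U i) : F.IsNormal Q := by
  have hQS : Q ≤ S := hQsc.1
  have hQn := stronglyClosed_le_normalizer hQsc
  have hmono' : ∀ i j, i ≤ j → j ≤ n → U i ≤ U j := by
    intro i j hij
    induction j, hij using Nat.le_induction with
    | base => intro _; exact le_rfl
    | succ j hij ih =>
      intro hj
      exact (ih (by omega)).trans (hmono j (by omega))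
  have hUQ : ∀ i ≤ n, U i ≤ Q := fun i hi => hUn ▸ hmono' i n hi le_rfl
  apply isNormal_of_stronglyClosed_of_le hS hF hQsc
  intro T hT
  have hc := hT.1
  have hr := Cfsg.Agent.S5080.result p hS F hF T hT
  have hTS := hc.1
  have hfinT : Finite T := finite_of_le S hTS
  have hTp : IsPGroup p T := hS.to_le hTS
  suffices hall : ∀ i ≤ n, U i ≤ T by
    rw [← hUn]; exact hall n le_rfl
  intro i
  induction i with
  | zero => intro _; rw [hU0]; exact bot_le
  | succ i ih =>
    intro hi
    have hUiT : U i ≤ T := ih (by omega)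
    have hCS : U (i + 1) ≤ S := (hUQ (i + 1) hi).trans hQS
    have hCn : S ≤ Subgroup.normalizer ((U (i + 1) : Subgroup Ω) : Set Ω) := by
      by_cases h : i + 1 < n
      · exact weaklyClosed_le_normalizer (hwc (i + 1) h)
      · have : i + 1 = n := by omega
        rw [this, hUn]
        exact hQn
    -- the chain
    let V : ℕ → Subgroup Ω := fun j => if j ≤ i then U j else if j = i + 1 then Q else S
    have hV1 : ∀ j ≤ i, V j = U j := fun j hj => if_pos hj
    have hV2 : V (i + 1) = Q := by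
      show (if i + 1 ≤ i then U (i + 1) else if i + 1 = i + 1 then Q else S) = Q
      rw [if_neg (by omega), if_pos rfl]
    have hV3 : V (i + 2) = S := by
      show (if i + 2 ≤ i then U (i + 2) else if i + 2 = i + 1 then Q else S) = S
      rw [if_neg (by omega), if_neg (by omega)]
    have hVinv : ∀ j, ∀ α ∈ F.autGroup T, ∀ x : T, (x : Ω) ∈ V j → ((α x : T) : Ω) ∈ V j := by
      intro j α hα x hx
      by_cases hj : j ≤ i
      · rw [hV1 j hj] at hx ⊢
        exact weaklyClosed_aut_mem (hwc j (by omega)) hTS ((hmono' j i hj (by omega)).trans hUiT)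
          hα x hx
      · by_cases hj' : j = i + 1
        · subst hj'
          rw [hV2] at hx ⊢
          exact stronglyClosed_aut_mem' hQsc hTS hα x hx
        · have : V j = S := by
            show (if j ≤ i then U j else if j = i + 1 then Q else S) = S
            rw [if_neg hj, if_neg hj']
          rw [this]
          exact hTS (α x).2
    let W : ℕ → Subgroup T := fun j => (V j).subgroupOf T
    have hinv : ∀ α ∈ F.autGroup T, ∀ j, ∀ x ∈ W j, α x ∈ W j := by
      intro α hα j x hx
      exact Subgroup.mem_subgroupOf.2 (hVinv j α hα x (Subgroup.mem_subgroupOf.1 hx))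
    have hW0 : W 0 = ⊥ := by
      show (V 0).subgroupOf T = ⊥
      rw [hV1 0 (Nat.zero_le i), hU0]
      exact Subgroup.bot_subgroupOf T
    have hWm : W (i + 2) = ⊤ := by
      show (V (i + 2)).subgroupOf T = ⊤
      rw [hV3]
      exact Subgroup.subgroupOf_eq_top.2 hTS
    have hWmono : ∀ j < i + 2, W j ≤ W (j + 1) := by
      intro j hj x hx
      rw [Subgroup.mem_subgroupOf] at hx ⊢
      by_cases h1 : j < i
      · rw [hV1 j (by omega)] at hx
        rw [hV1 (j + 1) (by omega)]
        exact hmono j (by omega) hx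
      · by_cases h2 : j = i
        · subst h2
          rw [hV1 j le_rfl] at hx
          rw [hV2]
          exact hUQ j (by omega) hx
        · have h3 : j = i + 1 := by omega
          subst h3
          rw [hV3]
          exact hTS x.2
    refine le_of_centric_radical_of_normalizer hS hCS hCn hc hr
      (stabSub (F.autGroup T) W (i + 2) hinv) (stabSub_le _ _ _ _)
      (fun α hα β hβ => stabSub_conj_mem _ _ _ _ hα hβ)
      (stabSub_isPGroup hTp _ W (i + 2) hinv hW0 hWmono hWm) ?_
    intro g hgC hgN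
    have hgQ : g ∈ Q := hUQ (i + 1) hi hgC
    have hgNS : g ∈ normalizerIn S T := ⟨hCS hgC, hgN⟩
    obtain ⟨β, hβA, hβg⟩ := exists_mem_autGroup_of_isIso F (isIso_conj_normalizer F hTS hgNS)
    refine ⟨β, ⟨hβA, fun j hj x hx => ?_⟩, hβg⟩
    rw [Subgroup.mem_subgroupOf] at hx ⊢
    have hval : ((x⁻¹ * β x : T) : Ω) = (x : Ω)⁻¹ * (g * (x : Ω) * g⁻¹) := by
      rw [Subgroup.coe_mul, Subgroup.coe_inv, hβg]
    rw [hval]
    by_cases h1 : j < i
    · rw [hV1 (j + 1) (by omega)] at hx
      rw [hV1 j (by omega)]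
      apply hcomm j (by omega)
      have hx' : (x : Ω)⁻¹ ∈ U (j + 1) := Subgroup.inv_mem _ hx
      have h4 : ⁅(x : Ω)⁻¹, g⁆ ∈ ⁅U (j + 1), Q⁆ := Subgroup.commutator_mem_commutator hx' hgQ
      have h6 : ⁅(x : Ω)⁻¹, g⁆ = (x : Ω)⁻¹ * (g * (x : Ω) * g⁻¹) := by
        rw [commutatorElement_def]; group
      rwa [h6] at h4
    · by_cases h2 : j = i
      · subst h2
        rw [hV2] at hx
        rw [hV1 j le_rfl]
        apply hcomm j (by omega)
        have hx' : (x : Ω)⁻¹ ∈ Q := Subgroup.inv_mem _ hx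
        have h4 : ⁅g, (x : Ω)⁻¹⁆ ∈ ⁅U (j + 1), Q⁆ := Subgroup.commutator_mem_commutator hgC hx'
        have h5 := Subgroup.inv_mem _ h4
        have h6 : (⁅g, (x : Ω)⁻¹⁆)⁻¹ = (x : Ω)⁻¹ * (g * (x : Ω) * g⁻¹) := by
          rw [commutatorElement_def]; group
        rwa [h6] at h5
      · have h3 : j = i + 1 := by omega
        subst h3
        rw [hV2]
        have hxS : (x : Ω) ∈ S := hTS x.2
        have h1 : (x : Ω)⁻¹ * g * ((x : Ω)⁻¹)⁻¹ ∈ Q :=
          (Subgroup.mem_normalizer_iff.1 (hQn (S.inv_mem hxS)) g).1 hgQ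
        have h2 : (x : Ω)⁻¹ * (g * (x : Ω) * g⁻¹) = ((x : Ω)⁻¹ * g * ((x : Ω)⁻¹)⁻¹) * g⁻¹ := by
          group
        rw [h2]
        exact Q.mul_mem h1 (Q.inv_mem hgQ)

end Cfsg.Agent.Lib.H26
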