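import Mathlib
import Cfsg.Prelude.Def_FusionSystem
import Cfsg.Agent.Lib.H25.Fusion
import Cfsg.Agent.Lib.H25.Normal
import Cfsg.Agent.Lib.H25.Alperin
import Cfsg.Agent.Lib.H25.SatEquiv
import Cfsg.Agent.Lib.H26.InvariantTransport
import Cfsg.Agent.Lib.H26.WeakSeries
import Cfsg.Agent.S5145

set_option autoImplicit false
set_option linter.unusedSectionVars false

/-!
For a weakly normal subsystem `E` over `T` of `F` and `R` normal in `E`, the subgroup generated by
the `F`-conjugates of `R` is normal in `F` (helper26).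
-/

namespace Cfsg.Agent.Lib.H26

open Cfsg Cfsg.FusionSystem Cfsg.Agent.Lib.H25

variable {Ω : Type*} [Group Ω] {S : Subgroup Ω}

/-- The join of a family of subgroups normal in the system is normal in the system. -/
theorem sSup_isNormal [Finite S] (F : FusionSystem S) {𝒜 : Set (Subgroup Ω)}
    (h : ∀ Q ∈ 𝒜, F.IsNormal Q) : F.IsNormal (sSup 𝒜) := by
  have hfin : 𝒜.Finite := (finite_subgroups_le S).subset (fun Q hQ => (h Q hQ).1)
  revert h
  refine Set.Finite.induction_on (motive := fun 𝒜 _ => (∀ Q ∈ 𝒜, F.IsNormal Q) → F.IsNormal (sSup 𝒜))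
    𝒜 hfin ?_ ?_
  · intro _
    rw [sSup_empty]
    exact Cfsg.Agent.S5145.bot_normal F
  · intro a s _ _ ih h
    rw [sSup_insert]
    exact Cfsg.Agent.S5145.sup_normal F (h a (Set.mem_insert a s))
      (ih (fun Q hQ => h Q (Set.mem_insert_of_mem a hQ)))

/-- A function-level automorphism of `Q` in the system preserves the characteristic subgroups of `Q`. -/
theorem isIso_char_mem {F : FusionSystem S} {Q : Subgroup Ω} {g : Ω → Ω} (hg : IsIso F Q Q g)
    (C : Subgroup ↥Q) [hC : C.Characteristic] {x : Ω} (hx : x ∈ C.map Q.subtype) :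
    g x ∈ C.map Q.subtype := by
  obtain ⟨z, hz, rfl⟩ := hx
  have := (Subgroup.characteristic_iff_map_le.1 hC) hg.toMulEquiv
  have h1 : hg.toMulEquiv z ∈ C := this ⟨z, hz, rfl⟩
  exact ⟨hg.toMulEquiv z, h1, hg.toMulEquiv_apply z⟩

/-- The subgroup generated by the `F`-conjugates of a subgroup `R` normal in the weakly normal
subsystem `E` is normal in `F`. -/
theorem closure_images_isNormal [Finite S] {p : ℕ} [Fact p.Prime] (hS : IsPGroup p S)
    {F : FusionSystem S} (hF : F.IsSaturated p) {T : Subgroup Ω} {E : FusionSystem T}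
    (hinv : E.IsInvariantIn F) {R : Subgroup Ω} (hR : E.IsNormal R) :
    F.IsNormal (Subgroup.closure {x : Ω | ∃ φ ∈ F.Hom R, ∃ r : R, x = φ r}) := by
  have hTsc : F.StronglyClosed T := hinv.2.1
  have hTS : T ≤ S := hTsc.1
  have hRT : R ≤ T := hR.1
  have hfinT : Finite T := finite_of_le S hTS
  obtain ⟨Q, hQdef⟩ : ∃ Q : Subgroup Ω,
      Q = Subgroup.closure {x : Ω | ∃ φ ∈ F.Hom R, ∃ r : R, x = φ r} := ⟨_, rfl⟩
  rw [← hQdef]
  have hRsc : E.StronglyClosed R := isNormal_stronglyClosed hR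
  -- `Q` is the join of the images of `R` under `Aut_F(T)`
  have hQeq : Q = sSup {X : Subgroup Ω | ∃ α ∈ F.autGroup T, X = imgA α R} := by
    apply le_antisymm
    · rw [hQdef, Subgroup.closure_le]
      rintro _ ⟨φ, hφ, r, rfl⟩
      obtain ⟨α, hα, φ₀, hφ₀, hval⟩ := hinv.2.2.2 R hRT φ hφ
      have hφ₀R : φ₀ r ∈ R := hRsc.2 R le_rfl φ₀ hφ₀ r
      have hmem : φ r ∈ imgA α R := by
        rw [hval r (hRT hφ₀R)]
        exact (mem_imgA α R _).2 ⟨_, hφ₀R, rfl⟩
      have hX : imgA α R ∈ {X : Subgroup Ω | ∃ α ∈ F.autGroup T, X = imgA α R} := ⟨α, hα, rfl⟩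
      exact le_sSup hX hmem
    · apply sSup_le
      rintro X ⟨α, hα, rfl⟩
      intro y hy
      obtain ⟨x, hx, rfl⟩ := (mem_imgA α R y).1 hy
      rw [hQdef]
      apply Subgroup.subset_closure
      have hφ := restrict_mem F ((mem_autGroup_iff F hTS α).1 hα) hRT
      exact ⟨_, hφ, ⟨x, hx⟩, rfl⟩
  have hQE : E.IsNormal Q := by
    rw [hQeq]
    apply sSup_isNormal E
    rintro X ⟨α, hα, rfl⟩
    exact imgA_isNormal hinv hR hα
  have hQT : Q ≤ T := hQE.1
  have hQS : Q ≤ S := hQT.trans hTS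
  have hQEsc : E.StronglyClosed Q := isNormal_stronglyClosed hQE
  -- `Q` is invariant under `Aut_F(T)`
  have hQinv : ∀ α ∈ F.autGroup T, ∀ x ∈ Q, ∃ h : x ∈ T, ((α ⟨x, h⟩ : T) : Ω) ∈ Q := by
    intro α hα x hx
    rw [hQdef] at hx
    induction hx using Subgroup.closure_induction with
    | mem y hy =>
      obtain ⟨φ, hφ, r, rfl⟩ := hy
      have hφT : ∀ r : R, φ r ∈ T := fun r => hTsc.2 R hRT φ hφ r
      refine ⟨hφT r, ?_⟩
      rw [hQdef]
      apply Subgroup.subset_closure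
      have hψ := F.comp_mem hφ ((mem_autGroup_iff F hTS α).1 hα) hφT
      exact ⟨_, hψ, r, rfl⟩
    | one =>
      refine ⟨T.one_mem, ?_⟩
      have : (⟨1, T.one_mem⟩ : T) = 1 := rfl
      rw [this, map_one]
      exact Q.one_mem
    | mul a b _ _ iha ihb =>
      obtain ⟨ha, ha'⟩ := iha
      obtain ⟨hb, hb'⟩ := ihb
      refine ⟨T.mul_mem ha hb, ?_⟩
      have : (⟨a * b, T.mul_mem ha hb⟩ : T) = ⟨a, ha⟩ * ⟨b, hb⟩ := rfl
      rw [this, map_mul]
      exact Q.mul_mem ha' hb'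
    | inv a _ iha =>
      obtain ⟨ha, ha'⟩ := iha
      refine ⟨T.inv_mem ha, ?_⟩
      have : (⟨a⁻¹, T.inv_mem ha⟩ : T) = ⟨a, ha⟩⁻¹ := rfl
      rw [this, map_inv]
      exact Q.inv_mem ha'
  -- `Q` is strongly closed in `F`
  have hQsc : F.StronglyClosed Q := by
    refine ⟨hQS, fun P hPQ φ hφ x => ?_⟩
    obtain ⟨α, hα, φ₀, hφ₀, hval⟩ := hinv.2.2.2 P (hPQ.trans hQT) φ hφ
    have hφ₀Q : φ₀ x ∈ Q := hQEsc.2 P hPQ φ₀ hφ₀ x
    rw [hval x (hQT hφ₀Q)]
    obtain ⟨_, h⟩ := hQinv α hα _ hφ₀Q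
    exact h
  -- automorphisms of `Q` in `F`
  have hαQ : ∀ α ∈ F.autGroup T, IsIso F Q Q (ext1 (T.subtype.comp α.toMonoidHom)) :=
    fun α hα => stronglyClosed_isIso_self hQsc (isIso_of_mem_autGroup F hTS hα) hQT
  -- the upper central series
  have hfinQ : Finite Q := finite_of_le S hQS
  have hQp : IsPGroup p Q := hS.to_le hQS
  have hnil : Group.IsNilpotent ↥Q := hQp.isNilpotent
  obtain ⟨n, hn⟩ := hnil.nilpotent'
  let U : ℕ → Subgroup Ω := fun i => (Subgroup.upperCentralSeries ↥Q i).map Q.subtype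
  have hUQ : ∀ i, U i ≤ Q := by
    intro i y hy
    obtain ⟨z, -, rfl⟩ := hy
    exact z.2
  apply isNormal_of_weaklyClosed_series hS hF hQsc U n
  · show (Subgroup.upperCentralSeries ↥Q 0).map Q.subtype = ⊥
    rw [Subgroup.upperCentralSeries_zero, Subgroup.map_bot]
  · show (Subgroup.upperCentralSeries ↥Q n).map Q.subtype = Q
    rw [hn, ← MonoidHom.range_eq_map, Subgroup.range_subtype]
  · intro i _
    exact Subgroup.map_mono (Subgroup.upperCentralSeries_mono ↥Q (Nat.le_succ i))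
  · intro i _
    refine ⟨(hUQ i).trans hQS, fun φ hφ => ?_⟩
    have hf := isIso_of_mem F hφ
    have hle : φ.range ≤ U i := by
      rintro _ ⟨x, rfl⟩
      obtain ⟨α, hα, φ₀, hφ₀, hval⟩ := hinv.2.2.2 (U i) ((hUQ i).trans hQT) φ hφ
      obtain ⟨g, -, hgU, hgQ⟩ := isNormal_exists_ext hQE (isIso_of_mem E hφ₀)
      have h1 : φ₀ x ∈ U i := by
        have := isIso_char_mem hgQ (Subgroup.upperCentralSeries ↥Q i) x.2
        rwa [hgU x x.2, ext1_apply] at this
      have h2 := isIso_char_mem (hαQ α hα) (Subgroup.upperCentralSeries ↥Q i) h1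
      have hT' : φ₀ x ∈ T := hQT (hUQ i h1)
      rw [hval x hT']
      rwa [ext1_apply_mem _ hT'] at h2
    have : Finite (U i) := finite_of_le S ((hUQ i).trans hQS)
    exact Subgroup.eq_of_le_of_card_ge hle (le_of_eq hf.card_eq)
  · intro i _
    have h1 : ⁅Subgroup.upperCentralSeries ↥Q (i + 1), (⊤ : Subgroup ↥Q)⁆ ≤ Subgroup.upperCentralSeries ↥Q i := by
      rw [Subgroup.commutator_le]
      intro x hx y _
      exact (Subgroup.mem_upperCentralSeries_succ_iff.1 hx) y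
    have h2 := Subgroup.map_mono (f := Q.subtype) h1
    rw [Subgroup.map_commutator, ← MonoidHom.range_eq_map, Subgroup.range_subtype] at h2
    exact h2

end Cfsg.Agent.Lib.H26
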