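import Mathlib
import Cfsg.Agent.Lib.H5.Ord.GenTests3
import Cfsg.Agent.Lib.H5.Ord.SylPrime
import Cfsg.Agent.Lib.H5.SubgroupCard
import Cfsg.Agent.Lib.H1.NilpotentBasic
import Cfsg.Agent.S0215

set_option autoImplicit false

/-! # No simple group of order 3960 (helper26, piece of S0983)

`n_11 = 45`, `|N(P)| = 88`, `|C(P)| = 44`. A Sylow 2-subgroup `S` of `N(P)` is a Sylow 2-subgroup
of `G`; pick an involution `z ∈ Z(S) ∩ C(P)`. Then `N(P) = P S ≤ C(z)` and `z` fixes exactly one
coset of `N(P)` (fixed point congruences), so `z` is isolated in `S`; Glauberman's `Z*`. -/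

namespace Cfsg.Agent.Lib.H26.O983

open Subgroup MulAction Cfsg.Agent.Lib.H5 Cfsg.Agent.Lib.H5.SylPrime Cfsg.Agent.Lib.H5.GenTests

universe u

variable {G : Type u} [Group G] [Finite G] [IsSimpleGroup G]

theorem not_simple_3960 : Nat.card G ≠ 3960 := by
  intro hn
  have hnc : ¬ IsMulCommutative G :=
    not_isMulCommutative_of_card_not_prime (by rw [hn]; norm_num)
  haveI : Fact (Nat.Prime 11) := ⟨by norm_num⟩
  haveI : Fact (Nat.Prime 2) := ⟨by norm_num⟩
  let P : Sylow 11 G := default
  obtain ⟨h1, h2, h3, -, h5, h6, h7, h8, hP, hNd, hNtop, hPC, hcr, hfp⟩ :=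
    prime_data_explicit hnc hn (p := 11) (m := 360) (by norm_num) (by norm_num) (by norm_num) P
  set N := normalizer ((P : Subgroup G) : Set G) with hNdef
  set C := centralizer ((P : Subgroup G) : Set G) with hCdef
  set r := C.relIndex N with hr
  set c₀ := Nat.card C with hc₀
  have hd : Nat.card (Sylow 11 G) = 12 ∨ Nat.card (Sylow 11 G) = 45 := by
    have hmem : Nat.card (Sylow 11 G) ∈ (Nat.divisors 360).filter (fun d => d % 11 = 1) := by
      rw [Finset.mem_filter, Nat.mem_divisors]
      exact ⟨⟨h1, by norm_num⟩, h2⟩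
    have hfil : (Nat.divisors 360).filter (fun d => d % 11 = 1) = {1, 12, 45} := by decide
    rw [hfil] at hmem
    simp only [Finset.mem_insert, Finset.mem_singleton] at hmem
    rcases hmem with h | h | h
    · exact absurd h h3
    · exact Or.inl h
    · exact Or.inr h
  have hr10 : r ≤ 10 := Nat.le_of_dvd (by norm_num) h5
  rcases hd with hd | hd
  · -- n_11 = 12 : an element of order 3 in C(P) has no admissible fixed point number
    rw [hd] at h7 hfp
    have h3c : 3 ∣ c₀ := by
      interval_cases r <;> omega
    obtain ⟨f, hf1, hf2, hf3, -⟩ := hfp 3 (by norm_num) h3c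
    omega
  · rw [hd] at h7 hNd
    have hrc : c₀ = 44 ∧ r = 2 := by
      interval_cases r <;> omega
    have hNcard : Nat.card N = 88 := by omega
    have hCN : C ≤ N := centralizer_le_normalizer _
    -- a Sylow 2-subgroup of G inside N
    have hG8 : Nat.card G = 2 ^ 3 * 495 := by rw [hn]; norm_num
    obtain ⟨S, hSN⟩ : ∃ S : Sylow 2 G, (S : Subgroup G) ≤ N := by
      let S0 : Sylow 2 N := default
      have hS0 : Nat.card (S0 : Subgroup N) = 2 ^ 3 :=
        (sylow_card_and_index S0 (k := 3) (m := 11) (by rw [hNcard]; norm_num) (by norm_num)).1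
      set T : Subgroup G := (S0 : Subgroup N).map N.subtype with hT
      have hTc : Nat.card T = 2 ^ 3 := by
        rw [hT, Subgroup.card_map_of_injective N.subtype_injective]; exact hS0
      have hTp : IsPGroup 2 T := IsPGroup.of_card hTc
      obtain ⟨S, hTS⟩ := hTp.exists_le_sylow
      have hSc : Nat.card (S : Subgroup G) = 2 ^ 3 :=
        (sylow_card_and_index S (k := 3) (m := 495) hG8 (by norm_num)).1
      have hTS' : T = (S : Subgroup G) :=
        Subgroup.eq_of_le_of_card_ge hTS (by rw [hTc, hSc])
      refine ⟨S, ?_⟩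
      rw [← hTS', hT]
      exact Subgroup.map_subtype_le _
    have hSc : Nat.card (S : Subgroup G) = 8 :=
      (sylow_card_and_index S (k := 3) (m := 495) hG8 (by norm_num)).1
    -- Q = S ⊓ C is nontrivial
    have hQne : (S : Subgroup G) ⊓ C ≠ ⊥ := by
      intro hbot
      have hle : C.relIndex (S : Subgroup G) ≤ C.relIndex N :=
        relIndex_le_of_le_right hSN (by rw [← hr, hrc.2]; norm_num)
      have h1' := Cfsg.Agent.Lib.H5.card_mul_relIndex_of_le (inf_le_left : (S : Subgroup G) ⊓ C ≤ (S : Subgroup G))
      rw [Subgroup.inf_relIndex_left, hbot, Subgroup.card_bot, hSc, one_mul] at h1'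
      rw [h1', ← hr, hrc.2] at hle
      omega
    -- an involution in Q ⊓ Z(S)
    have hconjC : ∀ c ∈ C, ∀ n ∈ N, n * c * n⁻¹ ∈ C := fun c hc n hn' =>
      (Subgroup.normal_subgroupOf_iff hCN).mp
        (Subgroup.normal_subgroupOf_centralizer_normalizer ((P : Subgroup G) : Set G)) c n hc hn'
    set K : Subgroup (S : Subgroup G) := ((S : Subgroup G) ⊓ C).subgroupOf (S : Subgroup G) with hK
    have hKn : K.Normal := by
      refine ⟨fun k hk s => ?_⟩
      rw [hK, Subgroup.mem_subgroupOf] at hk ⊢
      refine Subgroup.mem_inf.mpr ⟨(s * k * s⁻¹).2, ?_⟩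
      have := hconjC (k : G) (Subgroup.mem_inf.mp hk).2 (s : G) (hSN s.2)
      simpa using this
    have hKne : K ≠ ⊥ := by
      intro h
      apply hQne
      rw [eq_bot_iff]
      intro x hx
      have hxS : x ∈ (S : Subgroup G) := (Subgroup.mem_inf.mp hx).1
      have : (⟨x, hxS⟩ : (S : Subgroup G)) ∈ K := Subgroup.mem_subgroupOf.mpr hx
      rw [h, Subgroup.mem_bot] at this
      rw [Subgroup.mem_bot]
      exact congrArg Subtype.val this
    have hnil : Group.IsNilpotent (S : Subgroup G) := S.isPGroup'.isNilpotent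
    have hZne := Cfsg.Agent.Lib.H1.normal_inf_center_ne_bot K hKne
    set Z0 : Subgroup (S : Subgroup G) := K ⊓ Subgroup.center (S : Subgroup G) with hZ0
    have hZ0p : IsPGroup 2 Z0 := S.isPGroup'.to_subgroup Z0
    have h2Z0 : 2 ∣ Nat.card Z0 := by
      obtain ⟨k, hk⟩ := IsPGroup.iff_card.mp hZ0p
      rw [hk]
      rcases Nat.eq_zero_or_pos k with h0 | h0
      · exfalso
        rw [h0, pow_zero] at hk
        exact hZne ((Subgroup.card_eq_one).mp hk)
      · exact dvd_pow_self 2 h0.ne'
    obtain ⟨z0, hz0⟩ := exists_prime_orderOf_dvd_card' (G := Z0) 2 h2Z0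
    set z : G := ((z0 : (S : Subgroup G)) : G) with hz
    have hzo : orderOf z = 2 := by
      rw [hz, Subgroup.orderOf_coe, Subgroup.orderOf_coe]; exact hz0
    have hzmem : (z0 : (S : Subgroup G)) ∈ K ⊓ Subgroup.center (S : Subgroup G) := z0.2
    rw [Subgroup.mem_inf, hK, Subgroup.mem_subgroupOf, Subgroup.mem_center_iff] at hzmem
    have hzS : z ∈ (S : Subgroup G) := (z0 : (S : Subgroup G)).2
    have hzC : z ∈ C := (Subgroup.mem_inf.mp hzmem.1).2
    have hzcomm : ∀ s ∈ (S : Subgroup G), s * z = z * s := by
      intro s hs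
      have := hzmem.2 ⟨s, hs⟩
      exact congrArg Subtype.val this
    -- N ≤ C(z)
    have hNz : N ≤ centralizer ({z} : Set G) := by
      have hPN : (P : Subgroup G) ≤ N := le_normalizer
      have hsup : (P : Subgroup G) ⊔ (S : Subgroup G) ≤ N := sup_le hPN hSN
      have h11 : 11 ∣ Nat.card ((P : Subgroup G) ⊔ (S : Subgroup G) : Subgroup G) := by
        have := Subgroup.card_dvd_of_le (le_sup_left : (P : Subgroup G) ≤ (P : Subgroup G) ⊔ (S : Subgroup G))
        rwa [hP] at this
      have h8 : 8 ∣ Nat.card ((P : Subgroup G) ⊔ (S : Subgroup G) : Subgroup G) := by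
        have := Subgroup.card_dvd_of_le (le_sup_right : (S : Subgroup G) ≤ (P : Subgroup G) ⊔ (S : Subgroup G))
        rwa [hSc] at this
      have h88 : 88 ∣ Nat.card ((P : Subgroup G) ⊔ (S : Subgroup G) : Subgroup G) := by omega
      have hpos : 0 < Nat.card ((P : Subgroup G) ⊔ (S : Subgroup G) : Subgroup G) := Nat.card_pos
      have hge : Nat.card N ≤ Nat.card ((P : Subgroup G) ⊔ (S : Subgroup G) : Subgroup G) := by
        rw [hNcard]; exact Nat.le_of_dvd hpos h88
      have heq : (P : Subgroup G) ⊔ (S : Subgroup G) = N := Subgroup.eq_of_le_of_card_ge hsup hge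
      rw [← heq]
      apply sup_le
      · intro x hx
        rw [Subgroup.mem_centralizer_iff]
        intro y hy
        rw [Set.mem_singleton_iff] at hy
        subst hy
        rw [hCdef, Subgroup.mem_centralizer_iff] at hzC
        exact (hzC x hx).symm
      · intro x hx
        rw [Subgroup.mem_centralizer_iff]
        intro y hy
        rw [Set.mem_singleton_iff] at hy
        subst hy
        exact (hzcomm x hx).symm
    -- z fixes exactly one coset of N
    have hidx : N.index = 45 := by rw [hNdef, index_normalizer_eq_card_sylow P, hd]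
    have hf1 : Nat.card (fixedBy (G ⧸ N) z) = 1 := by
      have e1 := card_fixedBy_modEq_one 11 P hP hzC
      have e2 := four_dvd_index_sub_card_fixedBy (by rw [hn]; norm_num) N hzo
      have e3 := card_fixedBy_le_index N z
      have e4 : Nat.card (fixedBy (G ⧸ N) z) ≠ N.index := by
        intro h
        have := eq_one_of_card_fixedBy_eq N hNtop h
        rw [this, orderOf_one] at hzo
        omega
      rw [hidx] at e2 e3 e4
      have e1' : Nat.card (fixedBy (G ⧸ N) z) % 11 = 1 := e1
      omega
    by_cases hiso : ∀ g : G, g * z * g⁻¹ ∈ S → g * z * g⁻¹ = z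
    · obtain ⟨N0, hN0n, hN0odd, hN0⟩ := Cfsg.Agent.S0215.result S z hzo hzS hiso
      rcases hN0n.eq_bot_or_eq_top with hb | ht
      · have hzcen : z ∈ Subgroup.center G := by
          rw [Subgroup.mem_center_iff]
          intro g
          have := hN0 g
          rw [hb, Subgroup.mem_bot] at this
          have h' : z * g = g * z := by
            have := congrArg (fun w => w * g * z) this
            simpa [mul_assoc] using this
          exact h'.symm
        rcases (Subgroup.center G).normal_of_characteristic.eq_bot_or_eq_top with hcb | hct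
        · rw [hcb, Subgroup.mem_bot] at hzcen
          rw [hzcen, orderOf_one] at hzo
          omega
        · apply hnc
          exact ⟨⟨fun a b => by
            have : a ∈ Subgroup.center G := by rw [hct]; exact Subgroup.mem_top a
            exact (Subgroup.mem_center_iff.mp this b).symm⟩⟩
      · rw [ht, Subgroup.card_top, hn] at hN0odd
        exact absurd hN0odd (by decide)
    · push Not at hiso
      obtain ⟨g, hgS, hgne⟩ := hiso
      apply hgne
      have hfix1 : (QuotientGroup.mk 1 : G ⧸ N) ∈ fixedBy (G ⧸ N) z := by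
        rw [mem_fixedBy, MulAction.Quotient.smul_mk, QuotientGroup.eq]
        simpa using hSN hzS
      have hfix2 : (QuotientGroup.mk g⁻¹ : G ⧸ N) ∈ fixedBy (G ⧸ N) z := by
        rw [mem_fixedBy, MulAction.Quotient.smul_mk, QuotientGroup.eq]
        have := N.inv_mem (hSN hgS)
        simpa [mul_assoc] using this
      have hsub : (⟨_, hfix1⟩ : fixedBy (G ⧸ N) z) = ⟨_, hfix2⟩ := by
        have := (Nat.card_eq_one_iff_unique.mp hf1).1
        exact Subsingleton.elim _ _
      have hgN : g ∈ N := by
        have := congrArg Subtype.val hsub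
        rw [QuotientGroup.eq] at this
        simpa using this
      have := hNz hgN
      rw [Subgroup.mem_centralizer_iff] at this
      have h' := this z (Set.mem_singleton z)
      rw [← h', mul_inv_cancel_right]

end Cfsg.Agent.Lib.H26.O983
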