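import Mathlib
import Cfsg.Agent.Lib.H5.Ord.GenTests
import Cfsg.Agent.Lib.L0.CyclicSylowTwo

set_option autoImplicit false

/-! # No simple group of order 5400 (piece of S0983)

`n_5 = 36`, `|N(P)| = 150`.  `P` acts freely on the Sylow 5-subgroups meeting it trivially, and an
element of order 3 of `N(P)` acts freely on the Sylow 5-subgroups `R ≠ P` meeting `P`
non-trivially (otherwise `N(P ∩ R)` has order 450 and two Sylow 5-subgroups).  So
`35 = |A| + |B|` with `25 ∣ |B|` and `3 ∣ |A|`: impossible. -/

namespace Cfsg.Agent.Lib.H26.O983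

open Subgroup Cfsg.Agent.Lib.H5 Cfsg.Agent.Lib.H5.GenTests

section general

variable {G : Type*} [Group G] [Finite G]

/-- A subgroup `L` acting freely (by conjugation) on an `L`-invariant set `S` of Sylow
`p`-subgroups: `|L|` divides `|S|`. -/
theorem card_dvd_of_free_on_sylow {p : ℕ} [Fact p.Prime] (L : Subgroup G) (S : Set (Sylow p G))
    (hinv : ∀ g ∈ L, ∀ R ∈ S, g • R ∈ S)
    (hfree : ∀ g ∈ L, ∀ R ∈ S, g • R = R → g = 1) :
    Nat.card L ∣ Nat.card S := by
  let T : SubMulAction L (Sylow p G) :=
    { carrier := S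
      smul_mem' := fun c R hR => hinv c.1 c.2 R hR }
  have hstab : ∀ b : T, MulAction.stabilizer L b = ⊥ := by
    intro b
    rw [eq_bot_iff]
    intro g hg
    rw [MulAction.mem_stabilizer_iff] at hg
    have h1 : (g : G) • (b : Sylow p G) = b := congrArg Subtype.val hg
    have := hfree g.1 g.2 b.1 b.2 h1
    rw [mem_bot]
    exact Subtype.ext this
  have e := MulAction.selfEquivOrbitsQuotientProd hstab
  have h1 : Nat.card T = Nat.card (Quotient (MulAction.orbitRel L T)) * Nat.card L := by
    rw [Nat.card_congr e, Nat.card_prod]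
  have h2 : Nat.card S = Nat.card T := rfl
  rw [h2, h1]
  exact Dvd.intro_left _ rfl

/-- Two Sylow subgroups of `G` inside a subgroup `N` with only one Sylow subgroup coincide. -/
theorem sylow_eq_of_card_sylow_eq_one {p : ℕ} [Fact p.Prime] (N : Subgroup G) (P R : Sylow p G)
    (hP : (P : Subgroup G) ≤ N) (hR : (R : Subgroup G) ≤ N) (h1 : Nat.card (Sylow p N) = 1) :
    P = R := by
  have : Subsingleton (Sylow p N) := (Nat.card_eq_one_iff_unique.mp h1).1
  exact Sylow.subtype_injective (Subsingleton.elim (P.subtype hP) (R.subtype hR))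

/-- Card of `K.subgroupOf H`. -/
theorem card_subgroupOf_eq_card_inf (K H : Subgroup G) :
    Nat.card (K.subgroupOf H) = Nat.card (K ⊓ H : Subgroup G) := by
  rw [← inf_subgroupOf_right K H]
  exact Nat.card_congr (subgroupOfEquivOfLe (inf_le_right : K ⊓ H ≤ H)).toEquiv

/-- Sylow numerics inside a subgroup `H` containing the Sylow subgroup `P` of `G`. -/
theorem sylow_numerics_subgroup {p : ℕ} [Fact p.Prime] (H : Subgroup G) (P : Sylow p G)
    (hP : (P : Subgroup G) ≤ H) :
    Nat.card (Sylow p H) % p = 1 ∧
      Nat.card (Sylow p H) * Nat.card (normalizer ((P : Subgroup G) : Set G) ⊓ H : Subgroup G)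
        = Nat.card H ∧
      Nat.card (Sylow p H) * Nat.card (P : Subgroup G) ∣ Nat.card H := by
  have hp : p.Prime := Fact.out
  refine ⟨?_, ?_, ?_⟩
  · have := card_sylow_modEq_one p H
    rw [Nat.ModEq, Nat.mod_eq_of_lt hp.one_lt] at this
    exact this
  · have e1 : normalizer (((P.subtype hP : Sylow p H) : Subgroup H) : Set H)
        = (normalizer ((P : Subgroup G) : Set G)).subgroupOf H := by
      rw [Sylow.coe_subtype, subgroupOf_normalizer_eq hP]
    have e2 : Nat.card (Sylow p H)
        = (normalizer (((P.subtype hP : Sylow p H) : Subgroup H) : Set H)).index :=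
      Sylow.card_eq_index_normalizer (P.subtype hP)
    rw [e2, e1, ← card_subgroupOf_eq_card_inf, mul_comm]
    exact Subgroup.card_mul_index _
  · have h1 := Sylow.card_dvd_index (P.subtype hP)
    have h2 := (P.subtype hP : Subgroup H).card_mul_index
    have h3 : Nat.card (P.subtype hP : Subgroup H) = Nat.card (P : Subgroup G) := by
      rw [Sylow.coe_subtype]
      exact Nat.card_congr (subgroupOfEquivOfLe hP).toEquiv
    rw [h3] at h2
    rw [← h2, mul_comm]
    exact Nat.mul_dvd_mul_left _ h1

/-- In a subgroup `H` of order `2 * m`, `m` odd, such that a group of order `m` can only have one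
Sylow `p`-subgroup (`p` odd), any two Sylow `p`-subgroups of `G` inside `H` coincide. -/
theorem sylow_eq_of_card_two_mul_odd {p : ℕ} [Fact p.Prime] (H : Subgroup G) (P R : Sylow p G)
    (hP : (P : Subgroup G) ≤ H) (hR : (R : Subgroup G) ≤ H) (m : ℕ) (hH : Nat.card H = 2 * m)
    (hm : ¬ 2 ∣ m) (hp2 : p ≠ 2)
    (hone : ∀ d, d * Nat.card (P : Subgroup G) ∣ m → d % p = 1 → d = 1) : P = R := by
  have hp : p.Prime := Fact.out
  have : Fact (Nat.Prime 2) := ⟨Nat.prime_two⟩
  let Q : Sylow 2 H := default
  have hQ2 : Nat.card (Q : Subgroup H) = 2 := by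
    obtain ⟨k, hk⟩ := IsPGroup.iff_card.mp Q.2
    have h1 := (Q : Subgroup H).card_mul_index
    have h2 := Q.not_dvd_index
    rw [hk, hH] at h1
    rcases k with _ | _ | k
    · exfalso
      apply h2
      rw [pow_zero, one_mul] at h1
      rw [h1]
      exact Dvd.intro _ rfl
    · rw [hk]; norm_num
    · exfalso
      apply hm
      have : 2 * (2 ^ (k + 1) * (Q : Subgroup H).index) = 2 * m := by
        rw [← h1]; ring
      have h3 : 2 ^ (k + 1) * (Q : Subgroup H).index = m := Nat.eq_of_mul_eq_mul_left two_pos this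
      rw [← h3, pow_succ, mul_comm (2 ^ k) 2, mul_assoc]
      exact Dvd.intro _ rfl
  have hcyc : IsCyclic (Q : Subgroup H) := by
    have : Fact (Nat.card (Q : Subgroup H)).Prime := ⟨by rw [hQ2]; exact Nat.prime_two⟩
    exact isCyclic_of_prime_card rfl
  obtain ⟨K, hKn, hKc, hKmem⟩ := Cfsg.Agent.Lib.L0.exists_odd_normal_complement_of_cyclic_sylow
    Q hcyc (by rw [hH]; exact Dvd.intro _ rfl)
  have hKcard : Nat.card K = m := by
    have := hKc.card_mul_card
    rw [hQ2, hH] at this
    omega
  have hle : ∀ T : Sylow p G, ∀ hT : (T : Subgroup G) ≤ H, ((T.subtype hT : Sylow p H) : Subgroup H) ≤ K := by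
    intro T hT x hx
    rw [hKmem]
    obtain ⟨k, hk⟩ := (T.subtype hT).2 ⟨x, hx⟩
    have hk' : x ^ p ^ k = 1 := by
      have := congrArg Subtype.val hk
      rw [SubmonoidClass.coe_pow] at this
      exact this
    have hdvd := orderOf_dvd_of_pow_eq_one hk'
    have hcop : (p ^ k).Coprime 2 := by
      apply Nat.Coprime.pow_left
      rw [Nat.coprime_primes hp Nat.prime_two]
      exact hp2
    exact Nat.Coprime.coprime_dvd_left hdvd hcop
  have hP' := hle P hP
  have hR' := hle R hR
  obtain ⟨n1, -, n3⟩ := sylow_numerics_subgroup K (P.subtype hP) hP'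
  have hcP : Nat.card ((P.subtype hP : Sylow p H) : Subgroup H) = Nat.card (P : Subgroup G) := by
    rw [Sylow.coe_subtype]
    exact Nat.card_congr (subgroupOfEquivOfLe hP).toEquiv
  rw [hcP, hKcard] at n3
  have h1 := hone _ n3 n1
  have := sylow_eq_of_card_sylow_eq_one K (P.subtype hP) (R.subtype hR) hP' hR' h1
  exact Sylow.subtype_injective this

/-- Membership in a conjugate Sylow subgroup. -/
theorem mem_smul_sylow_iff {p : ℕ} (g x : G) (R : Sylow p G) :
    x ∈ ((g • R : Sylow p G) : Subgroup G) ↔ g⁻¹ * x * g ∈ (R : Subgroup G) := by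
  rw [Sylow.smul_def, Sylow.pointwise_smul_def, Subgroup.mem_pointwise_smul_iff_inv_smul_mem]
  simp [MulAut.smul_def, MulAut.conj_inv_apply]

end general

variable {G : Type*} [Group G] [Finite G] [IsSimpleGroup G]

/-- A proper subgroup `H` of a simple group of order 5400 containing two distinct Sylow
5-subgroups `P ≠ R`: `3 ∤ |N_H(P)|`. -/
theorem false_of_three_dvd_5400 (hn : Nat.card G = 5400) [Fact (Nat.Prime 5)] (H : Subgroup G)
    (hH : H ≠ ⊤) (P R : Sylow 5 G) (hPR : P ≠ R) (hP : (P : Subgroup G) ≤ H)
    (hR : (R : Subgroup G) ≤ H) (hcP : Nat.card (P : Subgroup G) = 25)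
    (h3 : 3 ∣ Nat.card (normalizer ((P : Subgroup G) : Set G) ⊓ H : Subgroup G)) : False := by
  have hnc : ¬ IsMulCommutative G :=
    not_isMulCommutative_of_card_not_prime (by rw [hn]; norm_num)
  obtain ⟨n1, n2, n3⟩ := sylow_numerics_subgroup H P hP
  have hn1 : Nat.card (Sylow 5 H) ≠ 1 := fun h1 =>
    hPR (sylow_eq_of_card_sylow_eq_one H P R hP hR h1)
  have hfac := two_mul_card_dvd_factorial_index hnc H hH
  have hci := H.card_mul_index
  rw [hn] at hfac hci
  rw [hcP] at n3
  set n := Nat.card (Sylow 5 H) with hn_def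
  set h := Nat.card H with hh_def
  set i := H.index with hi_def
  set c := Nat.card (normalizer ((P : Subgroup G) : Set G) ⊓ H : Subgroup G) with hc_def
  have hi10 : 10 ≤ i := by
    by_contra hcon
    have hle : i ≤ 9 := by omega
    have := dvd_trans hfac (Nat.factorial_dvd_factorial hle)
    revert this
    decide
  obtain ⟨q, hq⟩ := n3
  have hprod : n * q * i = 216 := by
    have : 25 * (n * q * i) = 25 * 216 := by
      calc 25 * (n * q * i) = (n * 25 * q) * i := by ring
        _ = h * i := by rw [hq]
        _ = 5400 := hci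
        _ = 25 * 216 := by norm_num
    exact Nat.eq_of_mul_eq_mul_left (by norm_num) this
  have hq0 : q ≠ 0 := by
    intro h0; rw [h0] at hprod; simp at hprod
  have hn0 : n ≠ 0 := by
    intro h0; rw [h0] at hprod; simp at hprod
  have hnq : n * q ≤ 21 := by
    by_contra hcon
    have : 22 ≤ n * q := by omega
    nlinarith
  have hn21 : n ≤ 21 := by
    have : n * 1 ≤ n * q := Nat.mul_le_mul_left n (by omega)
    omega
  have hq21 : q ≤ 21 := by
    have : 1 * q ≤ n * q := Nat.mul_le_mul_right q (by omega)
    omega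
  have h450 : h = 450 := by
    obtain ⟨c', hc'⟩ := h3
    rw [hc'] at n2
    interval_cases n <;> omega
  apply hPR
  apply sylow_eq_of_card_two_mul_odd H P R hP hR 225 (by rw [← hh_def, h450]) (by norm_num)
    (by norm_num)
  intro d hd hd5
  rw [hcP] at hd
  have hd9 : d ∣ 9 := by
    have : d * 25 ∣ 9 * 25 := by simpa using hd
    exact Nat.dvd_of_mul_dvd_mul_right (by norm_num) this
  have hdle : d ≤ 9 := Nat.le_of_dvd (by norm_num) hd9
  interval_cases d <;> first | rfl | omega

theorem not_simple_5400 : Nat.card G ≠ 5400 := by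
  intro hn
  have hnc : ¬ IsMulCommutative G :=
    not_isMulCommutative_of_card_not_prime (by rw [hn]; norm_num)
  have : Fact (Nat.Prime 5) := ⟨by norm_num⟩
  let P : Sylow 5 G := default
  obtain ⟨h1, h2, h3, h4, h5, hPc, hNtop⟩ := sylow_data hnc hn (p := 5) (k := 2) (m := 216)
    (by norm_num) (by norm_num) (by norm_num) (by norm_num) P
  have hcard25 : ∀ T : Sylow 5 G, Nat.card (T : Subgroup G) = 25 := by
    intro T
    have := (sylow_card_and_index T (k := 2) (m := 216) (by rw [hn]; norm_num) (by norm_num)).1
    rw [this]; norm_num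
  have hcomm : ∀ T : Sylow 5 G, ∀ a ∈ (T : Subgroup G), ∀ b ∈ (T : Subgroup G), a * b = b * a := by
    intro T a ha b hb
    have := IsPGroup.commutative_of_card_eq_prime_sq (p := 5) (G := (T : Subgroup G))
      (by rw [hcard25 T]; norm_num) ⟨a, ha⟩ ⟨b, hb⟩
    exact congrArg Subtype.val this
  have hmem : Nat.card (Sylow 5 G) ∈ (Nat.divisors 216).filter (fun d => d % 5 = 1) := by
    rw [Finset.mem_filter, Nat.mem_divisors]
    exact ⟨⟨h1, by norm_num⟩, h2⟩
  have hfil : (Nat.divisors 216).filter (fun d => d % 5 = 1) = {1, 6, 36, 216} := by decide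
  rw [hfil] at hmem
  simp only [Finset.mem_insert, Finset.mem_singleton] at hmem
  set N := normalizer ((P : Subgroup G) : Set G) with hN
  have hPN : (P : Subgroup G) ≤ N := le_normalizer
  rcases hmem with hd | hd | hd | hd
  · exact h3 hd
  · rw [hd] at h4
    revert h4
    decide
  · -- n_5 = 36
    rw [hd] at h5
    have hNc : Nat.card N = 150 := by omega
    -- an element of order 3 in N
    obtain ⟨w, hw⟩ := exists_prime_orderOf_dvd_card' (G := N) 3 (by rw [hNc]; norm_num)
    set y : G := (w : G) with hy
    have hyN : y ∈ N := w.2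
    have hyo : orderOf y = 3 := by rw [hy, Subgroup.orderOf_coe]; exact hw
    set A : Set (Sylow 5 G) := {R | R ≠ P ∧ ((P : Subgroup G) ⊓ (R : Subgroup G)) ≠ ⊥} with hA
    set B : Set (Sylow 5 G) := {R | ((P : Subgroup G) ⊓ (R : Subgroup G)) = ⊥} with hB
    -- the count
    have hcount : Nat.card (Sylow 5 G) = 1 + Nat.card A + Nat.card B := by
      have hPB : P ∉ B := by
        intro hPB
        have h0 : (P : Subgroup G) ⊓ (P : Subgroup G) = ⊥ := hPB
        rw [inf_idem] at h0
        have := hPc
        rw [h0, Subgroup.card_bot] at this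
        norm_num at this
      have hPA : P ∉ A := fun h => h.1 rfl
      have hdisj : Disjoint A B := by
        rw [Set.disjoint_left]
        intro R hRA hRB
        exact hRA.2 hRB
      have huniv : (Set.univ : Set (Sylow 5 G)) = insert P (A ∪ B) := by
        ext R
        simp only [Set.mem_univ, Set.mem_insert_iff, Set.mem_union, true_iff]
        by_cases hRP : R = P
        · exact Or.inl hRP
        · right
          by_cases hb : ((P : Subgroup G) ⊓ (R : Subgroup G)) = ⊥
          · exact Or.inr hb
          · exact Or.inl ⟨hRP, hb⟩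
      have h1 : (Set.univ : Set (Sylow 5 G)).ncard = Nat.card (Sylow 5 G) := Set.ncard_univ _
      have h2 : (insert P (A ∪ B)).ncard = (A ∪ B).ncard + 1 :=
        Set.ncard_insert_of_notMem (by
          intro h
          rcases h with h | h
          · exact hPA h
          · exact hPB h) (Set.toFinite _)
      have h3 : (A ∪ B).ncard = A.ncard + B.ncard :=
        Set.ncard_union_eq hdisj (Set.toFinite _) (Set.toFinite _)
      rw [← h1, huniv, h2, h3, Nat.card_coe_set_eq, Nat.card_coe_set_eq]
      ring
    -- P acts freely on B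
    have hB25 : 25 ∣ Nat.card B := by
      have := card_dvd_of_free_on_sylow (P : Subgroup G) B ?_ ?_
      · rwa [hPc] at this
      · intro g hg R hR
        show ((P : Subgroup G) ⊓ ((g • R : Sylow 5 G) : Subgroup G)) = ⊥
        rw [eq_bot_iff]
        rintro x ⟨hxP, hxR⟩
        have hxR' : x ∈ ((g • R : Sylow 5 G) : Subgroup G) := hxR
        rw [mem_smul_sylow_iff] at hxR'
        have hxP' : g⁻¹ * x * g ∈ (P : Subgroup G) :=
          mul_mem (mul_mem (inv_mem hg) hxP) hg
        have h0 : g⁻¹ * x * g ∈ (P : Subgroup G) ⊓ (R : Subgroup G) := ⟨hxP', hxR'⟩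
        have hRB : (P : Subgroup G) ⊓ (R : Subgroup G) = ⊥ := hR
        rw [hRB, mem_bot] at h0
        rw [mem_bot]
        have : x = g * (g⁻¹ * x * g) * g⁻¹ := by group
        rw [this, h0]; group
      · intro g hg R hR hgR
        rw [Sylow.smul_eq_iff_mem_normalizer] at hgR
        have h0 : g ∈ (P : Subgroup G) ⊓ (R : Subgroup G) := by
          rw [← IsPGroup.inf_normalizer_sylow P.2 R]
          exact ⟨hg, hgR⟩
        have hRB : (P : Subgroup G) ⊓ (R : Subgroup G) = ⊥ := hR
        rw [hRB, mem_bot] at h0
        exact h0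
    -- y acts freely on A
    have hzN : zpowers y ≤ N := by
      rw [zpowers_le]; exact hyN
    have hA3 : 3 ∣ Nat.card A := by
      have := card_dvd_of_free_on_sylow (zpowers y) A ?_ ?_
      · rwa [Nat.card_zpowers, hyo] at this
      · intro g hg R hR
        have hgN : g ∈ N := hzN hg
        have hgP : g • P = P := Sylow.smul_eq_iff_mem_normalizer.mpr hgN
        refine ⟨?_, ?_⟩
        · intro h
          apply hR.1
          rw [← hgP] at h
          exact MulAction.injective g h
        · obtain ⟨x, hx, hx1⟩ := (Subgroup.ne_bot_iff_exists_ne_one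
            (H := (P : Subgroup G) ⊓ (R : Subgroup G))).mp hR.2 |>.imp (fun a ha => ha) |> fun ⟨a, ha⟩ =>
              (⟨(a : G), a.2, fun h => ha (Subtype.ext h)⟩ : ∃ x : G, x ∈ (P : Subgroup G) ⊓ (R : Subgroup G) ∧ x ≠ 1)
          intro hbot
          have hmemP : g * x * g⁻¹ ∈ (P : Subgroup G) := (mem_normalizer_iff.mp hgN x).mp hx.1
          have hmemR : g * x * g⁻¹ ∈ ((g • R : Sylow 5 G) : Subgroup G) := by
            rw [mem_smul_sylow_iff]
            have : g⁻¹ * (g * x * g⁻¹) * g = x := by group
            rw [this]; exact hx.2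
          have h0 : g * x * g⁻¹ ∈ (P : Subgroup G) ⊓ ((g • R : Sylow 5 G) : Subgroup G) :=
            ⟨hmemP, hmemR⟩
          rw [hbot, mem_bot] at h0
          apply hx1
          have : x = g⁻¹ * (g * x * g⁻¹) * g := by group
          rw [this, h0]; group
      · intro g hg R hR hgR
        by_contra hg1
        have hgN : g ∈ N := hzN hg
        have hgo : orderOf g = 3 := by
          have hdvd := orderOf_dvd_of_mem_zpowers hg
          rw [hyo] at hdvd
          rcases (Nat.dvd_prime (by norm_num : Nat.Prime 3)).mp hdvd with h | h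
          · exact absurd (orderOf_eq_one_iff.mp h) hg1
          · exact h
        have hgR' : g ∈ normalizer ((R : Subgroup G) : Set G) :=
          Sylow.smul_eq_iff_mem_normalizer.mp hgR
        set E := (P : Subgroup G) ⊓ (R : Subgroup G) with hE
        set H := normalizer (E : Set G) with hH
        have hPH : (P : Subgroup G) ≤ H := by
          refine le_trans ?_ (centralizer_le_normalizer _)
          intro x hx
          rw [mem_centralizer_iff]
          intro e he
          exact hcomm P e he.1 x hx
        have hRH : (R : Subgroup G) ≤ H := by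
          refine le_trans ?_ (centralizer_le_normalizer _)
          intro x hx
          rw [mem_centralizer_iff]
          intro e he
          exact hcomm R e he.2 x hx
        have hHtop : H ≠ ⊤ := by
          intro htop
          have hnorm : E.Normal := normalizer_eq_top_iff.mp htop
          rcases hnorm.eq_bot_or_eq_top with hb | ht
          · exact hR.2 hb
          · have : (P : Subgroup G) = ⊤ := top_le_iff.mp (ht ▸ (inf_le_left : E ≤ (P : Subgroup G)))
            have h25 := hPc
            rw [this, Subgroup.card_top, hn] at h25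
            norm_num at h25
        have hgH : g ∈ H := by
          rw [hH, mem_normalizer_iff]
          intro e
          rw [hE, Subgroup.mem_inf, Subgroup.mem_inf]
          exact and_congr (mem_normalizer_iff.mp hgN e) (mem_normalizer_iff.mp hgR' e)
        have h3' : 3 ∣ Nat.card (N ⊓ H : Subgroup G) := by
          have := orderOf_dvd_natCard (⟨g, ⟨hgN, hgH⟩⟩ : (N ⊓ H : Subgroup G))
          have hh : orderOf (⟨g, ⟨hgN, hgH⟩⟩ : (N ⊓ H : Subgroup G)) = orderOf g :=
            Subgroup.orderOf_mk g _
          rwa [hh, hgo] at this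
        exact false_of_three_dvd_5400 hn H hHtop P R (Ne.symm hR.1) hPH hRH hPc h3'
    rw [hd] at hcount
    omega
  · -- n_5 = 216: N(P) = P is abelian, Burnside
    rw [hd] at h5
    have hNc : Nat.card N = 25 := by omega
    have hNP : (P : Subgroup G) = N := by
      apply Subgroup.eq_of_le_of_card_ge hPN
      rw [hNc, hPc]; norm_num
    have hnp : ¬ IsPGroup 5 G :=
      Cfsg.Agent.S0493.not_isPGroup_of_card hn (p := 5) (k := 2) (m := 216) (by norm_num)
        (by norm_num) (by norm_num)
    apply not_normalizer_le_centralizer_of_simple (p := 5) (by rw [hn]; norm_num) hnp P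
    intro x hx
    have hx' : x ∈ N := hx
    rw [← hNP] at hx'
    rw [mem_centralizer_iff]
    intro e he
    exact hcomm P e he x hx'

end Cfsg.Agent.Lib.H26.O983
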