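import Mathlib
import Cfsg.Agent.Lib.H12.OPMinDefs

/-!
# S2345 piece COUNT-SUM (helper12 blueprint), abstract form: the three numerical consequences of the
first-row fibration, with the two COUNT-FIB statements as hypotheses
-/

set_option autoImplicit false

namespace Cfsg.Agent.Lib.H26.OPMin

open Matrix Cfsg.Agent.Lib.H12.OPMin

variable {F : Type*} [Field F] [Fintype F]

/-- the first row of an alternating matrix (without the diagonal entry) -/
def row1 {k : ℕ} (T : Alt (k + 1) F) : Fin k → F := fun j => T.1 0 j.succ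

/-- the number of rank-two matrices with a given first row -/
noncomputable def fib {k : ℕ} (r : Fin k → F) : ℕ :=
  Nat.card {T : Alt (k + 1) F // IsR2 T.1 ∧ ∀ j : Fin k, T.1 0 j.succ = r j}

theorem card_filter_row {k : ℕ} [DecidableEq (Fin k → F)] (r : Fin k → F) :
    ((R2set (k + 1) F).filter (fun T => row1 T = r)).card = fib r := by
  classical
  unfold fib
  rw [Nat.card_eq_fintype_card, Fintype.card_subtype]
  congr 1
  ext T
  simp only [Finset.mem_filter, mem_R2set, Finset.mem_univ, true_and]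
  constructor
  · rintro ⟨h1, h2⟩; exact ⟨h1, fun j => congrFun h2 j⟩
  · rintro ⟨h1, h2⟩; exact ⟨h1, funext h2⟩

theorem sum_R2_row {k : ℕ} {M : Type*} [AddCommMonoid M] (g : (Fin k → F) → M) :
    ∑ T ∈ R2set (k + 1) F, g (row1 T) = ∑ r : Fin k → F, fib r • g r := by
  classical
  rw [← Finset.sum_fiberwise (R2set (k + 1) F) row1 (fun T => g (row1 T))]
  refine Finset.sum_congr rfl fun r _ => ?_
  rw [← card_filter_row r, ← Finset.sum_const]
  refine Finset.sum_congr rfl fun T hT => ?_
  rw [(Finset.mem_filter.1 hT).2]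

theorem card_fun_eq (k : ℕ) : Fintype.card (Fin k → F) = Fintype.card F ^ k := by
  rw [Fintype.card_fun, Fintype.card_fin]

theorem one_le_card_pow (k : ℕ) : 1 ≤ Fintype.card F ^ k :=
  Nat.one_le_pow _ _ Fintype.card_pos

/-- the recursion for `r2` -/
theorem r2_succ_mul (k : ℕ)
    (hrow : ∀ r : Fin k → F, r ≠ 0 → fib r * Fintype.card F = Fintype.card F ^ k)
    (hzero : fib (0 : Fin k → F) = r2 k F) :
    r2 (k + 1) F * Fintype.card F =
      r2 k F * Fintype.card F + (Fintype.card F ^ k - 1) * Fintype.card F ^ k := by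
  classical
  have h1 : r2 (k + 1) F = ∑ r : Fin k → F, fib r := by
    have := sum_R2_row (F := F) (k := k) (fun _ => (1 : ℕ))
    simp only [Finset.sum_const, smul_eq_mul, mul_one] at this
    exact this
  rw [h1, Finset.sum_mul, ← Finset.add_sum_erase _ _ (Finset.mem_univ (0 : Fin k → F)), hzero]
  congr 1
  rw [Finset.sum_congr rfl fun r hr => hrow r (Finset.ne_of_mem_erase hr), Finset.sum_const,
    Finset.card_erase_of_mem (Finset.mem_univ _), Finset.card_univ, card_fun_eq, smul_eq_mul]

/-- `r2_mul`, from the fibration -/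
theorem r2_mul_of
    (hrow : ∀ (k : ℕ) (r : Fin k → F), r ≠ 0 → fib r * Fintype.card F = Fintype.card F ^ k)
    (hzero : ∀ k : ℕ, fib (0 : Fin k → F) = r2 k F) (n : ℕ) :
    r2 n F * (Fintype.card F ^ 2 - 1) =
      (Fintype.card F ^ n - 1) * (Fintype.card F ^ (n - 1) - 1) := by
  classical
  have hq : 0 < Fintype.card F := Fintype.card_pos
  induction n with
  | zero =>
    have : r2 0 F = 0 := by
      unfold r2
      rw [Finset.card_eq_zero, Finset.eq_empty_iff_forall_notMem]
      intro T hT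
      rw [mem_R2set] at hT
      apply hT.1
      ext i
      exact i.elim0
    rw [this]
    simp
  | succ k ih =>
    have hrec := r2_succ_mul k (hrow k) (hzero k)
    apply Nat.eq_of_mul_eq_mul_right hq
    rcases Nat.eq_zero_or_pos k with hk | hk
    · subst hk
      simp only [pow_zero, Nat.sub_self, zero_mul, add_zero, zero_add, pow_one] at hrec ⊢
      have h0 : r2 0 F = 0 := by
        have := ih
        simp only [pow_zero, Nat.sub_self, zero_mul] at this
        rcases Nat.mul_eq_zero.1 this with h | h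
        · exact h
        · exfalso
          have : 2 ≤ Fintype.card F := Fintype.one_lt_card
          have : 4 ≤ Fintype.card F ^ 2 := by nlinarith
          omega
      rw [h0, zero_mul] at hrec
      have h1 : r2 1 F = 0 := by
        rcases Nat.mul_eq_zero.1 hrec with h | h
        · exact h
        · omega
      rw [h1]
      simp
    · obtain ⟨j, rfl⟩ : ∃ j, k = j + 1 := ⟨k - 1, by omega⟩
      simp only [Nat.add_sub_cancel] at ih ⊢
      have e1 : r2 (j + 1 + 1) F * (Fintype.card F ^ 2 - 1) * Fintype.card F =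
          (r2 (j + 1 + 1) F * Fintype.card F) * (Fintype.card F ^ 2 - 1) := by ring
      rw [e1, hrec, add_mul]
      have e2 : r2 (j + 1) F * Fintype.card F * (Fintype.card F ^ 2 - 1) =
          (r2 (j + 1) F * (Fintype.card F ^ 2 - 1)) * Fintype.card F := by ring
      rw [e2, ih]
      set q := Fintype.card F with hqdef
      have hq2 : 2 ≤ q := Fintype.one_lt_card
      have p1 : 1 ≤ q ^ (j + 1) := Nat.one_le_pow _ _ hq
      have p2 : 1 ≤ q ^ j := Nat.one_le_pow _ _ hq
      have p3 : 1 ≤ q ^ (j + 1 + 1) := Nat.one_le_pow _ _ hq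
      have p4 : 1 ≤ q ^ 2 := Nat.one_le_pow _ _ hq
      zify [p1, p2, p3, p4]
      ring


/-- `⟨T, X₀⟩ = T₀₁` -/
theorem pair_X0 (m : ℕ) (T : Matrix (Fin (m + 3)) (Fin (m + 3)) F) :
    pair T (X0 m F).1 = T 0 1 := by
  unfold pair
  rw [Finset.sum_eq_single (0 : Fin (m + 3))]
  · rw [Finset.sum_eq_single (1 : Fin (m + 3))]
    · have h01 : (0 : Fin (m + 3)) < 1 := by
        rw [Fin.lt_def]; simp
      rw [if_pos h01]
      simp [X0, Matrix.single_apply]
    · intro j _ hj
      split_ifs with h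
      · simp [X0, Matrix.single_apply, hj, hj.symm]
      · rfl
    · intro h; exact absurd (Finset.mem_univ _) h
  · intro i _ hi
    refine Finset.sum_eq_zero fun j _ => ?_
    split_ifs with h
    · have hj : j ≠ 0 := by
        intro h0
        rw [h0] at h
        exact absurd h (Fin.not_lt_zero _)
      simp [X0, Matrix.single_apply, hi, hi.symm, hj, hj.symm]
    · rfl
  · intro h; exact absurd (Finset.mem_univ _) h

theorem A0_val (m : ℕ) : (A0 m F).1 = 1 + Matrix.single 0 1 1 := rfl

/-- the entries of `A₀ᵀ T A₀` -/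
theorem A0_cong_apply (m : ℕ) (T : Matrix (Fin (m + 3)) (Fin (m + 3)) F) (i j : Fin (m + 3)) :
    ((A0 m F).1ᵀ * T * (A0 m F).1) i j =
      T i j + (if i = 1 then T 0 j else 0) + (if j = 1 then T i 0 else 0) +
        (if i = 1 ∧ j = 1 then T 0 0 else 0) := by
  have hexp : (1 + Matrix.single 0 1 (1 : F))ᵀ * T * (1 + Matrix.single 0 1 (1 : F)) =
      T + (Matrix.single 0 1 (1 : F))ᵀ * T + T * Matrix.single 0 1 (1 : F) +
        (Matrix.single 0 1 (1 : F))ᵀ * T * Matrix.single 0 1 (1 : F) := by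
    rw [transpose_add, transpose_one, Matrix.add_mul, Matrix.one_mul, Matrix.mul_add, Matrix.mul_one,
      Matrix.add_mul]
    abel
  rw [A0_val, hexp]
  simp only [Matrix.add_apply]
  have h1 : (T * (Matrix.single 0 1 (1 : F) : Matrix (Fin (m + 3)) (Fin (m + 3)) F)) i j = if j = 1 then T i 0 else 0 := by
    by_cases hj : j = 1
    · subst hj; simp
    · rw [if_neg hj]
      rw [Matrix.mul_apply]
      refine Finset.sum_eq_zero fun l _ => ?_
      simp [Matrix.single_apply, Ne.symm hj]
  have h2 : ((Matrix.single 0 1 (1 : F) : Matrix (Fin (m + 3)) (Fin (m + 3)) F)ᵀ * T) i j = if i = 1 then T 0 j else 0 := by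
    rw [Matrix.transpose_single]
    by_cases hi : i = 1
    · subst hi; simp
    · rw [if_neg hi]
      rw [Matrix.mul_apply]
      refine Finset.sum_eq_zero fun l _ => ?_
      simp [Matrix.single_apply, Ne.symm hi]
  have h3 : ((Matrix.single 0 1 (1 : F) : Matrix (Fin (m + 3)) (Fin (m + 3)) F)ᵀ * T *
      (Matrix.single 0 1 (1 : F) : Matrix (Fin (m + 3)) (Fin (m + 3)) F)) i j =
      if i = 1 ∧ j = 1 then T 0 0 else 0 := by
    rw [Matrix.transpose_single]
    by_cases hj : j = 1
    · subst hj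
      by_cases hi : i = 1
      · subst hi; simp
      · simp only [hi, false_and, if_false]
        rw [Matrix.mul_apply]
        refine Finset.sum_eq_zero fun l _ => ?_
        rw [Matrix.mul_apply]
        rw [Finset.sum_eq_zero, zero_mul]
        intro l' _
        simp [Matrix.single_apply, Ne.symm hi]
    · simp only [hj, and_false, if_false]
      rw [Matrix.mul_apply]
      refine Finset.sum_eq_zero fun l _ => ?_
      simp [Matrix.single_apply, Ne.symm hj]
  rw [h1, h2, h3]

/-- `A₀ᵀ T A₀ = T` iff `T₀ⱼ = 0` for `j ≥ 2` -/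
theorem A0_fix_iff (m : ℕ) (T : Alt (m + 3) F) :
    (A0 m F).1ᵀ * T.1 * (A0 m F).1 = T.1 ↔ ∀ j : Fin (m + 2), j ≠ 0 → row1 T j = 0 := by
  constructor
  · intro h j hj
    have h1 := congrFun (congrFun h 1) j.succ
    rw [A0_cong_apply] at h1
    have hj1 : j.succ ≠ 1 := by
      intro h2
      apply hj
      have : j.succ = Fin.succ 0 := by rw [h2]; rfl
      exact Fin.succ_injective _ this
    simp only [if_true, hj1, if_false, and_false, add_zero] at h1
    unfold row1
    have := h1
    simpa using this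
  · intro h
    have hz : ∀ j' : Fin (m + 3), j' ≠ 1 → T.1 0 j' = 0 := by
      intro j' hj'
      rcases Fin.eq_zero_or_eq_succ j' with h0 | ⟨j, rfl⟩
      · rw [h0]; exact diag_of_mem T.2 0
      · apply h j
        intro h0
        apply hj'
        rw [h0]; rfl
    ext i j
    rw [A0_cong_apply, diag_of_mem T.2 0]
    by_cases hi : i = 1
    · by_cases hj : j = 1
      · subst hi; subst hj
        simp only [if_true, and_self, add_zero]
        rw [apply_swap_of_mem T.2 0 1]
        ring
      · subst hi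
        simp only [if_true, hj, if_false, and_false, add_zero]
        rw [hz j hj, add_zero]
    · by_cases hj : j = 1
      · subst hj
        simp only [hi, if_false, if_true, false_and, add_zero]
        rw [apply_swap_of_mem T.2 0 i, hz i hi]
        simp
      · simp only [hi, hj, if_false, false_and, add_zero]


/-- for `r ≠ 0` the fibre has `q^(k-1)` elements -/
theorem fib_of_ne_zero (m : ℕ)
    (hrow : ∀ r : Fin (m + 2) → F, r ≠ 0 → fib r * Fintype.card F = Fintype.card F ^ (m + 2))
    (r : Fin (m + 2) → F) (hr : r ≠ 0) : fib r = Fintype.card F ^ (m + 1) := by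
  have := hrow r hr
  rw [pow_succ] at this
  exact Nat.eq_of_mul_eq_mul_right Fintype.card_pos this

theorem r2_succ_eq (m : ℕ)
    (hrow : ∀ r : Fin (m + 2) → F, r ≠ 0 → fib r * Fintype.card F = Fintype.card F ^ (m + 2))
    (hzero : fib (0 : Fin (m + 2) → F) = r2 (m + 2) F) :
    r2 (m + 3) F = r2 (m + 2) F + (Fintype.card F ^ (m + 2) - 1) * Fintype.card F ^ (m + 1) := by
  have hrec := r2_succ_mul (m + 2) hrow hzero
  apply Nat.eq_of_mul_eq_mul_right (Fintype.card_pos (α := F))
  rw [show m + 3 = m + 2 + 1 from rfl, hrec, add_mul, mul_assoc, ← pow_succ]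

theorem sum_eval_zero (m : ℕ) {χ₀ : AddChar F ℂ} (hχ₀ : χ₀ ≠ 1) :
    ∑ r : Fin (m + 2) → F, χ₀ (r 0) = 0 := by
  classical
  set ψ : AddChar (Fin (m + 2) → F) ℂ :=
    χ₀.compAddMonoidHom (Pi.evalAddMonoidHom (fun _ : Fin (m + 2) => F) 0) with hψ
  have hne : ψ ≠ 1 := by
    obtain ⟨x, hx⟩ := (AddChar.ne_one_iff).1 hχ₀
    rw [AddChar.ne_one_iff]
    refine ⟨Pi.single 0 x, ?_⟩
    rw [hψ, AddChar.compAddMonoidHom_apply]
    simpa using hx
  have := AddChar.sum_eq_zero_of_ne_one hne
  simpa [hψ] using this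

/-- `sum_R2_X0`, from the fibration -/
theorem sum_R2_X0_of (m : ℕ) {χ₀ : AddChar F ℂ} (hχ₀ : χ₀ ≠ 1)
    (hrow : ∀ r : Fin (m + 2) → F, r ≠ 0 → fib r * Fintype.card F = Fintype.card F ^ (m + 2))
    (hzero : fib (0 : Fin (m + 2) → F) = r2 (m + 2) F) :
    ∑ T ∈ R2set (m + 3) F, χ₀ (pair T.1 (X0 m F).1) + (Fintype.card F : ℂ) ^ (2 * m + 3) =
      (r2 (m + 3) F : ℂ) := by
  classical
  have hS : ∑ T ∈ R2set (m + 3) F, χ₀ (pair T.1 (X0 m F).1) =
      ∑ r : Fin (m + 2) → F, fib r • χ₀ (r 0) := by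
    rw [← sum_R2_row (F := F) (k := m + 2) (fun r => χ₀ (r 0))]
    refine Finset.sum_congr rfl fun T _ => ?_
    rw [pair_X0]
    rfl
  rw [hS, ← Finset.add_sum_erase _ _ (Finset.mem_univ (0 : Fin (m + 2) → F)), hzero]
  have h2 : ∑ r ∈ (Finset.univ.erase (0 : Fin (m + 2) → F)), fib r • χ₀ (r 0) =
      (Fintype.card F ^ (m + 1)) • ∑ r ∈ Finset.univ.erase (0 : Fin (m + 2) → F), χ₀ (r 0) := by
    rw [Finset.smul_sum]
    refine Finset.sum_congr rfl fun r hr => ?_
    rw [fib_of_ne_zero m hrow r (Finset.ne_of_mem_erase hr)]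
  rw [h2]
  have h4 : ∑ r ∈ Finset.univ.erase (0 : Fin (m + 2) → F), χ₀ (r 0) = -1 := by
    have := Finset.add_sum_erase Finset.univ (fun r : Fin (m + 2) → F => χ₀ (r 0))
      (Finset.mem_univ 0)
    rw [sum_eval_zero m hχ₀] at this
    simp only [Pi.zero_apply, AddChar.map_zero_eq_one] at this
    linear_combination this
  rw [h4, r2_succ_eq m hrow hzero]
  have p1 : 1 ≤ Fintype.card F ^ (m + 2) := one_le_card_pow _
  simp only [Pi.zero_apply, AddChar.map_zero_eq_one, nsmul_eq_mul, mul_one]
  push_cast [p1]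
  ring

/-- the rows supported at the index `0` -/
theorem card_supp_zero (m : ℕ) [DecidableEq (Fin (m + 2) → F)]
    [DecidablePred (fun r : Fin (m + 2) → F => ∀ j, j ≠ 0 → r j = 0)] :
    (Finset.univ.filter (fun r : Fin (m + 2) → F => ∀ j, j ≠ 0 → r j = 0)).card =
      Fintype.card F := by
  classical
  have : Finset.univ.filter (fun r : Fin (m + 2) → F => ∀ j, j ≠ 0 → r j = 0) =
      Finset.univ.image (fun x : F => (Pi.single 0 x : Fin (m + 2) → F)) := by
    ext r
    simp only [Finset.mem_filter, Finset.mem_univ, true_and, Finset.mem_image]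
    constructor
    · intro h
      refine ⟨r 0, ?_⟩
      ext j
      by_cases hj : j = 0
      · subst hj; simp
      · rw [Pi.single_eq_of_ne hj, h j hj]
    · rintro ⟨x, rfl⟩ j hj
      simp [Pi.single_apply, hj]
  rw [this, Finset.card_image_of_injective _ (Pi.single_injective 0), Finset.card_univ]

/-- `card_R2_fixed`, from the fibration -/
theorem card_R2_fixed_of (m : ℕ)
    (hrow : ∀ r : Fin (m + 2) → F, r ≠ 0 → fib r * Fintype.card F = Fintype.card F ^ (m + 2))
    (hzero : fib (0 : Fin (m + 2) → F) = r2 (m + 2) F) :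
    Nat.card {T : Alt (m + 3) F // IsR2 T.1 ∧ (A0 m F).1ᵀ * T.1 * (A0 m F).1 = T.1} +
        Fintype.card F ^ (2 * m + 3) =
      r2 (m + 3) F + Fintype.card F ^ (m + 2) := by
  classical
  have h1 : Nat.card {T : Alt (m + 3) F // IsR2 T.1 ∧ (A0 m F).1ᵀ * T.1 * (A0 m F).1 = T.1} =
      ∑ T ∈ R2set (m + 2 + 1) F,
        (if (∀ j : Fin (m + 2), j ≠ 0 → row1 T j = 0) then 1 else 0) := by
    rw [Nat.card_eq_fintype_card, Fintype.card_subtype, ← Finset.card_filter]
    congr 1
    ext T
    simp only [Finset.mem_filter, Finset.mem_univ, true_and, mem_R2set]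
    rw [A0_fix_iff]
  rw [h1, sum_R2_row (F := F) (k := m + 2)
    (fun r => if (∀ j : Fin (m + 2), j ≠ 0 → r j = 0) then 1 else 0)]
  simp only [smul_eq_mul, mul_ite, mul_one, mul_zero]
  rw [← Finset.sum_filter]
  have h0 : (0 : Fin (m + 2) → F) ∈
      Finset.univ.filter (fun r : Fin (m + 2) → F => ∀ j, j ≠ 0 → r j = 0) := by
    simp
  rw [← Finset.add_sum_erase _ _ h0, hzero,
    Finset.sum_congr rfl fun r hr => fib_of_ne_zero m hrow r (Finset.ne_of_mem_erase hr),
    Finset.sum_const, Finset.card_erase_of_mem h0, card_supp_zero, smul_eq_mul,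
    r2_succ_eq m hrow hzero]
  have p1 : 1 ≤ Fintype.card F ^ (m + 2) := one_le_card_pow _
  have p2 : 1 ≤ Fintype.card F := Fintype.card_pos
  zify [p1, p2]
  ring

end Cfsg.Agent.Lib.H26.OPMin
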