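import Mathlib
import Cfsg.Agent.Lib.H12.OPMinDefs
import Cfsg.Agent.Lib.H18.OPMinCOUNTFIB
import Cfsg.Agent.Lib.H26.OPMinCOUNTSUMAux

/-!
# S2345 piece COUNT-SUM (helper12 blueprint): the three numerical consequences of the first-row fibration
-/

set_option autoImplicit false

namespace Cfsg.Agent.Lib.H26.OPMin

open Matrix Cfsg.Agent.Lib.H12.OPMin

variable {F : Type*} [Field F]

theorem sum_R2_X0 [Fintype F] (m : ℕ) {χ₀ : AddChar F ℂ} (hχ₀ : χ₀ ≠ 1) :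
    ∑ T ∈ R2set (m + 3) F, χ₀ (pair T.1 (X0 m F).1) + (Fintype.card F : ℂ) ^ (2 * m + 3) =
      (r2 (m + 3) F : ℂ) :=
  sum_R2_X0_of m hχ₀ (fun r hr => Cfsg.Agent.Lib.H18.OPMin.card_R2_row r hr)
    Cfsg.Agent.Lib.H18.OPMin.card_R2_row_zero

theorem card_R2_fixed [Fintype F] (m : ℕ) :
    Nat.card {T : Alt (m + 3) F // IsR2 T.1 ∧ (A0 m F).1ᵀ * T.1 * (A0 m F).1 = T.1} +
        Fintype.card F ^ (2 * m + 3) =
      r2 (m + 3) F + Fintype.card F ^ (m + 2) :=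
  card_R2_fixed_of m (fun r hr => Cfsg.Agent.Lib.H18.OPMin.card_R2_row r hr)
    Cfsg.Agent.Lib.H18.OPMin.card_R2_row_zero

theorem r2_mul [Fintype F] (n : ℕ) :
    r2 n F * (Fintype.card F ^ 2 - 1) = (Fintype.card F ^ n - 1) * (Fintype.card F ^ (n - 1) - 1) :=
  r2_mul_of (fun _ r hr => Cfsg.Agent.Lib.H18.OPMin.card_R2_row r hr)
    (fun _ => Cfsg.Agent.Lib.H18.OPMin.card_R2_row_zero) n

end Cfsg.Agent.Lib.H26.OPMin
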