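import Mathlib

set_option autoImplicit false

/-!
Automorphisms of odd order of an abelian `2`-group with pairwise distinct invariants are trivial
(helper26).  The group is `A = Π i, ZMod (2 ^ a i)` with `a` injective and `1 ≤ a i`.

* `sub_mem_of_filtration`: an automorphism stabilizing a filtration with `2`-torsion factors has
  `2`-power order modulo the last term.
* `Wt c`: the elements whose coordinates `i` with `c < a i` are even; it is the characteristic
  subgroup `Ω_c(A) + 2A` (`WI c`), and `Wt (c+1) / Wt c` has order at most `2`.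
-/

namespace Cfsg.Agent.Lib.H26.OddAut

section filtration

variable {A : Type*} [AddCommGroup A]

/-- **Filtration lemma.** -/
theorem sub_mem_of_filtration (f : AddAut A) (M : ℕ → AddSubgroup A)
    (h1 : ∀ i, ∀ x ∈ M i, f x - x ∈ M (i + 1)) (h2 : ∀ i, ∀ x ∈ M i, (2 : ℕ) • x ∈ M (i + 1))
    (hanti : ∀ i, M (i + 1) ≤ M i) :
    ∀ j i, ∀ x ∈ M i, ((2 ^ j) • f) x - x ∈ M (i + j + 1) := by
  have hanti' : ∀ i k, M (i + k) ≤ M i := by
    intro i k
    induction k with
    | zero => exact le_rfl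
    | succ k ih => exact (hanti (i + k)).trans ih
  intro j
  induction j with
  | zero =>
    intro i x hx
    simpa using h1 i x hx
  | succ j ih =>
    intro i x hx
    set β := (2 ^ j) • f with hβ
    have hβ2 : (2 ^ (j + 1)) • f = β + β := by
      rw [hβ, ← add_nsmul, pow_succ, mul_two]
    have hy := ih i x hx
    set y := β x - x with hydef
    have hβy := ih (i + j + 1) y hy
    have e : ((2 ^ (j + 1)) • f) x - x = (2 : ℕ) • y + (β y - y) := by
      rw [hβ2, AddAut.add_apply]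
      have hx' : β x = x + y := by rw [hydef]; abel
      rw [hx', map_add, hx', two_smul]
      abel
    rw [e]
    apply AddSubgroup.add_mem
    · have := h2 (i + j + 1) y hy
      have e2 : i + (j + 1) + 1 = i + j + 1 + 1 := by omega
      rw [e2]
      exact this
    · have e3 : i + j + 1 + j + 1 = (i + (j + 1) + 1) + j := by omega
      rw [e3] at hβy
      exact hanti' _ _ hβy

end filtration

section coordinates

variable {n : ℕ} (a : Fin n → ℕ)

/-- reduction modulo `2` of the `i`-th coordinate -/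
noncomputable def ev (ha1 : ∀ i, 1 ≤ a i) (i : Fin n) : ZMod (2 ^ a i) →+* ZMod 2 :=
  ZMod.castHom (dvd_pow_self 2 (Nat.one_le_iff_ne_zero.1 (ha1 i))) (ZMod 2)

instance neZero_pow (i : Fin n) : NeZero (2 ^ a i) := ⟨pow_ne_zero _ two_ne_zero⟩

theorem ev_eq (ha1 : ∀ i, 1 ≤ a i) (i : Fin n) (x : ZMod (2 ^ a i)) :
    ev a ha1 i x = ((x.val : ℕ) : ZMod 2) := by
  unfold ev
  rw [ZMod.castHom_apply, ZMod.cast_eq_val]

theorem ev_eq_zero_iff (ha1 : ∀ i, 1 ≤ a i) (i : Fin n) (x : ZMod (2 ^ a i)) :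
    ev a ha1 i x = 0 ↔ 2 ∣ x.val := by
  rw [ev_eq, ZMod.natCast_eq_zero_iff]

/-- an even coordinate is twice something -/
theorem exists_half (ha1 : ∀ i, 1 ≤ a i) (i : Fin n) (x : ZMod (2 ^ a i))
    (h : ev a ha1 i x = 0) : ∃ w : ZMod (2 ^ a i), x = (2 : ℕ) • w := by
  rw [ev_eq_zero_iff] at h
  obtain ⟨k, hk⟩ := h
  refine ⟨(k : ZMod (2 ^ a i)), ?_⟩
  have h1 : x = ((x.val : ℕ) : ZMod (2 ^ a i)) := (ZMod.natCast_zmod_val x).symm
  rw [h1, hk]
  push_cast
  rw [nsmul_eq_mul]
  push_cast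
  rfl

/-- coordinates `i` with `c < a i` are even -/
def Wt (ha1 : ∀ i, 1 ≤ a i) (c : ℕ) : AddSubgroup ((i : Fin n) → ZMod (2 ^ a i)) where
  carrier := {x | ∀ i : Fin n, c < a i → ev a ha1 i (x i) = 0}
  zero_mem' := fun i _ => by simp
  add_mem' := fun {x y} hx hy i hi => by
    rw [Pi.add_apply, map_add, hx i hi, hy i hi, add_zero]
  neg_mem' := fun {x} hx i hi => by
    rw [Pi.neg_apply, map_neg, hx i hi, neg_zero]

theorem mem_Wt (ha1 : ∀ i, 1 ≤ a i) (c : ℕ) (x : (i : Fin n) → ZMod (2 ^ a i)) :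
    x ∈ Wt a ha1 c ↔ ∀ i : Fin n, c < a i → ev a ha1 i (x i) = 0 := Iff.rfl

/-- `Ω_c(A) + 2A` -/
def WI (c : ℕ) : AddSubgroup ((i : Fin n) → ZMod (2 ^ a i)) where
  carrier := {x | ∃ y z : (i : Fin n) → ZMod (2 ^ a i), x = y + (2 : ℕ) • z ∧ (2 ^ c : ℕ) • y = 0}
  zero_mem' := ⟨0, 0, by simp, by simp⟩
  add_mem' := by
    rintro x x' ⟨y, z, rfl, hy⟩ ⟨y', z', rfl, hy'⟩
    refine ⟨y + y', z + z', ?_, ?_⟩
    · rw [smul_add]; abel
    · rw [smul_add, hy, hy', add_zero]
  neg_mem' := by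
    rintro x ⟨y, z, rfl, hy⟩
    refine ⟨-y, -z, ?_, ?_⟩
    · rw [smul_neg]; abel
    · rw [smul_neg, hy, neg_zero]

theorem map_mem_WI (c : ℕ) (f : AddAut ((i : Fin n) → ZMod (2 ^ a i)))
    {x : (i : Fin n) → ZMod (2 ^ a i)} (hx : x ∈ WI a c) : f x ∈ WI a c := by
  obtain ⟨y, z, rfl, hy⟩ := hx
  refine ⟨f y, f z, ?_, ?_⟩
  · rw [map_add, map_nsmul]
  · rw [← map_nsmul, hy, map_zero]

theorem Wt_eq_WI (ha1 : ∀ i, 1 ≤ a i) (c : ℕ) : Wt a ha1 c = WI a c := by
  classical
  ext x
  constructor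
  · intro hx
    have hex : ∀ i : Fin n, ∃ w : ZMod (2 ^ a i), c < a i → x i = (2 : ℕ) • w := by
      intro i
      by_cases hi : c < a i
      · obtain ⟨w, hw⟩ := exists_half a ha1 i (x i) (hx i hi)
        exact ⟨w, fun _ => hw⟩
      · exact ⟨0, fun h => absurd h hi⟩
    choose w hw using hex
    refine ⟨fun i => if c < a i then 0 else x i, fun i => if c < a i then w i else 0, ?_, ?_⟩
    · funext i
      by_cases hi : c < a i
      · simp only [Pi.add_apply, Pi.smul_apply, if_pos hi, zero_add]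
        exact hw i hi
      · simp only [Pi.add_apply, Pi.smul_apply, if_neg hi, smul_zero, add_zero]
    · funext i
      by_cases hi : c < a i
      · simp only [Pi.smul_apply, if_pos hi, smul_zero, Pi.zero_apply]
      · simp only [Pi.smul_apply, if_neg hi, Pi.zero_apply]
        rw [nsmul_eq_mul]
        have h0 : ((2 ^ c : ℕ) : ZMod (2 ^ a i)) = 0 := by
          rw [ZMod.natCast_eq_zero_iff]
          exact pow_dvd_pow 2 (not_lt.1 hi)
        rw [h0, zero_mul]
  · rintro ⟨y, z, rfl, hy⟩ i hi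
    rw [Pi.add_apply, Pi.smul_apply, map_add, map_nsmul]
    have h2 : (2 : ℕ) • (ev a ha1 i (z i)) = 0 := by
      rw [nsmul_eq_mul]
      have : ((2 : ℕ) : ZMod 2) = 0 := by decide
      rw [this, zero_mul]
    rw [h2, add_zero, ev_eq_zero_iff]
    have hyi : (2 ^ c : ℕ) • (y i) = 0 := by
      have := congrFun hy i
      simpa using this
    have h1 : y i = (((y i).val : ℕ) : ZMod (2 ^ a i)) := (ZMod.natCast_zmod_val (y i)).symm
    rw [h1, nsmul_eq_mul, ← Nat.cast_mul, ZMod.natCast_eq_zero_iff] at hyi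
    -- `2^(a i) ∣ 2^c * v` with `c < a i`
    have h3 : 2 ^ (c + 1) ∣ 2 ^ c * (y i).val := (pow_dvd_pow 2 hi).trans hyi
    rw [pow_succ] at h3
    exact (Nat.mul_dvd_mul_iff_left (pow_pos (by norm_num) c)).1 h3

theorem Wt_mono (ha1 : ∀ i, 1 ≤ a i) {c c' : ℕ} (h : c ≤ c') : Wt a ha1 c ≤ Wt a ha1 c' :=
  fun _ hx i hi => hx i (lt_of_le_of_lt h hi)

theorem map_mem_Wt (ha1 : ∀ i, 1 ≤ a i) (c : ℕ) (f : AddAut ((i : Fin n) → ZMod (2 ^ a i)))
    {x : (i : Fin n) → ZMod (2 ^ a i)} (hx : x ∈ Wt a ha1 c) : f x ∈ Wt a ha1 c := by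
  rw [Wt_eq_WI] at hx ⊢
  exact map_mem_WI a c f hx

theorem ev_eq_one_of_ne (ha1 : ∀ i, 1 ≤ a i) (i : Fin n) (x : ZMod (2 ^ a i))
    (h : ev a ha1 i x ≠ 0) : ev a ha1 i x = 1 := by
  generalize ev a ha1 i x = t at h
  revert h
  revert t
  decide

/-- the factor `Wt (c+1) / Wt c` has order at most two, so automorphisms act trivially on it -/
theorem sub_mem_Wt (ha : Function.Injective a) (ha1 : ∀ i, 1 ≤ a i) (c : ℕ)
    (f : AddAut ((i : Fin n) → ZMod (2 ^ a i))) {x : (i : Fin n) → ZMod (2 ^ a i)}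
    (hx : x ∈ Wt a ha1 (c + 1)) : f x - x ∈ Wt a ha1 c := by
  have hfx := map_mem_Wt a ha1 (c + 1) f hx
  intro i hi
  rw [Pi.sub_apply, map_sub]
  by_cases hi' : c + 1 < a i
  · rw [hfx i hi', hx i hi', sub_zero]
  · have hai : a i = c + 1 := by omega
    by_cases hxc : x ∈ Wt a ha1 c
    · have := map_mem_Wt a ha1 c f hxc
      rw [this i hi, hxc i hi, sub_zero]
    · -- both coordinates are odd
      have hx1 : ev a ha1 i (x i) ≠ 0 := by
        intro h0
        apply hxc
        intro k hk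
        by_cases hk' : c + 1 < a k
        · exact hx k hk'
        · have hak : a k = c + 1 := by omega
          have : k = i := ha (hak.trans hai.symm)
          rw [this]; exact h0
      have hfx1 : ev a ha1 i ((f x) i) ≠ 0 := by
        intro h0
        apply hxc
        have hfc : f x ∈ Wt a ha1 c := by
          intro k hk
          by_cases hk' : c + 1 < a k
          · exact hfx k hk'
          · have hak : a k = c + 1 := by omega
            have : k = i := ha (hak.trans hai.symm)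
            rw [this]; exact h0
        have := map_mem_Wt a ha1 c (-f) hfc
        rwa [AddAut.neg_apply_self] at this
      rw [ev_eq_one_of_ne a ha1 i _ hx1, ev_eq_one_of_ne a ha1 i _ hfx1, sub_self]

/-- **Automorphisms of odd order are trivial.** -/
theorem eq_one_of_odd (ha : Function.Injective a) (ha1 : ∀ i, 1 ≤ a i)
    (f : AddAut ((i : Fin n) → ZMod (2 ^ a i))) {k : ℕ} (hk : Odd k) (hfk : k • f = 0) : f = 0 := by
  classical
  -- a bound for the exponents
  obtain ⟨m, hm⟩ : ∃ m : ℕ, ∀ i, a i ≤ m :=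
    ⟨Finset.univ.sup a, fun i => Finset.le_sup (Finset.mem_univ i)⟩
  -- first stage: `f ^ (2^m)` is trivial modulo `2A`
  have htop : ∀ x : (i : Fin n) → ZMod (2 ^ a i), x ∈ Wt a ha1 m := fun x i hi =>
    absurd (hm i) (not_le.2 hi)
  have hst1 : ∀ x : (i : Fin n) → ZMod (2 ^ a i), ((2 ^ m) • f) x - x ∈ Wt a ha1 0 := by
    intro x
    have := sub_mem_of_filtration f (fun j => Wt a ha1 (m - j)) ?_ ?_ ?_ m 0 x (by simpa using htop x)
    · simpa using this
    · intro j y hy
      by_cases hj : j < m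
      · have e : m - j = (m - (j + 1)) + 1 := by omega
        rw [e] at hy
        exact sub_mem_Wt a ha ha1 _ f hy
      · have e : m - (j + 1) = m - j := by omega
        rw [e]
        exact AddSubgroup.sub_mem _ (map_mem_Wt a ha1 _ f hy) hy
    · intro j y _ i _
      rw [Pi.smul_apply, map_nsmul, nsmul_eq_mul]
      have : ((2 : ℕ) : ZMod 2) = 0 := by decide
      rw [this, zero_mul]
    · intro j
      exact Wt_mono a ha1 (by omega)
  -- second stage
  set β := (2 ^ m) • f with hβ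
  have hst2 : ∀ x : (i : Fin n) → ZMod (2 ^ a i), ((2 ^ m) • β) x - x = 0 := by
    intro x
    have key := sub_mem_of_filtration β
      (fun j => (AddMonoidHom.range (nsmulAddMonoidHom (α := (i : Fin n) → ZMod (2 ^ a i)) (2 ^ j))))
      ?_ ?_ ?_ m 0 x ⟨x, by simp⟩
    · obtain ⟨y, hy⟩ := key
      rw [← hy]
      funext i
      simp only [nsmulAddMonoidHom_apply, Pi.smul_apply, Pi.zero_apply, nsmul_eq_mul]
      have h0 : ((2 ^ (0 + m + 1) : ℕ) : ZMod (2 ^ a i)) = 0 := by
        rw [ZMod.natCast_eq_zero_iff]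
        exact pow_dvd_pow 2 (by have := hm i; omega)
      rw [h0, zero_mul]
    · rintro j _ ⟨y, rfl⟩
      have h1 := hst1 y
      rw [Wt_eq_WI] at h1
      obtain ⟨u, z, huz, hu⟩ := h1
      have hu0 : u = 0 := by simpa using hu
      refine ⟨z, ?_⟩
      simp only [nsmulAddMonoidHom_apply]
      rw [map_nsmul, ← smul_sub, huz, hu0, zero_add, smul_smul, pow_succ]
    · rintro j _ ⟨y, rfl⟩
      refine ⟨y, ?_⟩
      simp only [nsmulAddMonoidHom_apply]
      rw [smul_smul, pow_succ, mul_comm]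
    · rintro j _ ⟨y, rfl⟩
      refine ⟨(2 : ℕ) • y, ?_⟩
      simp only [nsmulAddMonoidHom_apply]
      rw [smul_smul, pow_succ]
  have hpow : (2 ^ m * 2 ^ m) • f = 0 := by
    rw [mul_comm, mul_smul, ← hβ]
    ext x
    have := hst2 x
    rw [sub_eq_zero] at this
    rw [this]
    rfl
  -- odd order
  have hcop : Nat.Coprime k (2 ^ m * 2 ^ m) := by
    rw [← pow_add]
    exact Nat.Coprime.pow_right _ (Nat.coprime_two_right.2 hk)
  have h1 : addOrderOf f ∣ k := addOrderOf_dvd_of_nsmul_eq_zero hfk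
  have h2 : addOrderOf f ∣ 2 ^ m * 2 ^ m := addOrderOf_dvd_of_nsmul_eq_zero hpow
  have h3 : addOrderOf f = 1 := Nat.eq_one_of_dvd_coprimes hcop h1 h2
  exact AddMonoid.addOrderOf_eq_one_iff.1 h3

end coordinates

end Cfsg.Agent.Lib.H26.OddAut
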