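import Mathlib
import Cfsg.Prelude.Def_FusionSystem
import Cfsg.Agent.Lib.H25.AlperinInd
import Cfsg.Agent.Lib.H25.SysOfPred
import Cfsg.Agent.Lib.H25.Normal
import Cfsg.Agent.Lib.H26.AutSylow
import Cfsg.Agent.Lib.H26.SmallCenterRefl

set_option autoImplicit false

/-!
If every essential subgroup of order `> n₀` contains `Z(S)` and has `Z(S)` invariant under its
automizer, then every isomorphism of the system between subgroups of order `> n₀` containing `Z(S)`
agrees on `Z(S)` with an element of `Aut_F(S)` (helper26).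
-/

namespace Cfsg.Agent.Lib.H26.Oliver

open Cfsg Cfsg.FusionSystem Cfsg.Agent.Lib.H25 Cfsg.Agent.Lib.H26 Cfsg.Agent.Lib.H26.SmallCenter
  Cfsg.Agent.Lib.H26.AutSylow

variable {Ω : Type*} [Group Ω] {S : Subgroup Ω}

/-- The predicate. -/
def AgreeM (F : FusionSystem S) (n₀ : ℕ) (P Q : Subgroup Ω) (f : Ω → Ω) : Prop :=
  IsIso F P Q f ∧ (n₀ < Nat.card P → (centralizerIn S S ≤ P ∨ centralizerIn S S ≤ Q) →
    centralizerIn S S ≤ P ∧ centralizerIn S S ≤ Q ∧
    ∃ γ ∈ F.autGroup S, ∀ z : S, (z : Ω) ∈ centralizerIn S S → f z = ((γ z : S) : Ω))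

/-- The automorphisms of `T` fixing `Z ∩ T` pointwise. -/
def fixZ (T Z : Subgroup Ω) : Subgroup (MulAut T) where
  carrier := {β | ∀ y : T, (y : Ω) ∈ Z → β y = y}
  one_mem' := fun _ _ => rfl
  mul_mem' := by
    intro a b ha hb y hy
    show a (b y) = y
    rw [hb y hy, ha y hy]
  inv_mem' := by
    intro a ha y hy
    have := ha y hy
    calc a⁻¹ y = a⁻¹ (a y) := by rw [this]
      _ = y := by simp

variable [Finite S]

theorem agreeM_isoPred (F : FusionSystem S) (n₀ : ℕ) : IsoPred F (AgreeM F n₀) where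
  sub := fun h => h.1
  congr := by
    intro P Q f g h hfg
    refine ⟨h.1.congr hfg, fun hn hZ => ?_⟩
    obtain ⟨h1, h2, γ, hγ, hγz⟩ := h.2 hn hZ
    exact ⟨h1, h2, γ, hγ, fun z hz => by rw [← hfg _ (h1 hz)]; exact hγz z hz⟩
  conj := by
    intro P hP s hs
    refine ⟨P.map (MulAut.conj s).toMonoidHom, IsIso.conj hP hs, fun _ hZ => ?_⟩
    obtain ⟨γ, hγ, hγs⟩ := exists_conj_mem_autGroup_top F hs
    have hfixz : ∀ z ∈ centralizerIn S S, s * z * s⁻¹ = z := by
      intro z hz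
      rw [zs_comm hz hs, mul_inv_cancel_right]
    have h1 : centralizerIn S S ≤ P := by
      rcases hZ with hZ | hZ
      · exact hZ
      · intro z hz
        obtain ⟨y, hy, hyz⟩ := hZ hz
        have hyz' : s * y * s⁻¹ = z := hyz
        have : y = z := by
          have h2 : y = s⁻¹ * (s * y * s⁻¹) * s := by group
          rw [h2, hyz', mul_assoc, ← zs_comm hz hs, inv_mul_cancel_left]
        rwa [← this]
    refine ⟨h1, ?_, γ, hγ, fun z hz => ?_⟩
    · intro z hz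
      exact ⟨z, h1 hz, hfixz z hz⟩
    · rw [hγs]
  restrict := by
    intro P Q P' Q' f h hP' hf'
    refine ⟨hf', fun hn hZ => ?_⟩
    have hPS := h.1.le_left
    haveI : Finite P := finite_of_le S hPS
    have hQ'Q : Q' ≤ Q := by
      intro y hy
      obtain ⟨x, hx, rfl⟩ := hf'.surjOn hy
      exact h.1.map_mem (hP' hx)
    have hn' : n₀ < Nat.card P := lt_of_lt_of_le hn (Subgroup.card_le_of_le hP')
    have hZ' : centralizerIn S S ≤ P ∨ centralizerIn S S ≤ Q := by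
      rcases hZ with hZ | hZ
      · exact Or.inl (hZ.trans hP')
      · exact Or.inr (hZ.trans hQ'Q)
    obtain ⟨h1, h2, γ, hγ, hγz⟩ := h.2 hn' hZ'
    have hγZ : ∀ z ∈ centralizerIn S S, f z ∈ centralizerIn S S := by
      intro z hz
      rw [hγz ⟨z, zs_le S hz⟩ hz]
      exact aut_zs_mem γ hz
    have hP'Z : centralizerIn S S ≤ P' := by
      rcases hZ with hZ | hZ
      · exact hZ
      · intro z hz
        obtain ⟨y, hy, hyz⟩ := hf'.surjOn (hZ (hγZ z hz))
        have := h.1.injOn (hP' hy) (h1 hz) hyz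
        rwa [← this]
    refine ⟨hP'Z, ?_, γ, hγ, hγz⟩
    intro z hz
    have hzS := zs_le S hz
    have h3 : ((γ⁻¹ ⟨z, hzS⟩ : S) : Ω) ∈ centralizerIn S S := aut_zs_mem γ⁻¹ hz
    have h4 := hγz (γ⁻¹ ⟨z, hzS⟩) h3
    have h5 : γ (γ⁻¹ ⟨z, hzS⟩) = ⟨z, hzS⟩ := by simp
    rw [h5] at h4
    have h6 := hf'.map_mem (hP'Z h3)
    rw [h4] at h6
    exact h6
  trans := by
    intro P Q R f g hf hg
    refine ⟨hf.1.trans hg.1, fun hn hZ => ?_⟩
    have hc := hf.1.card_eq
    have hnQ : n₀ < Nat.card Q := by rw [← hc]; exact hn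
    have key : centralizerIn S S ≤ Q := by
      rcases hZ with hZ | hZ
      · exact (hf.2 hn (Or.inl hZ)).2.1
      · exact (hg.2 hnQ (Or.inr hZ)).1
    obtain ⟨h1, -, γ, hγ, hγz⟩ := hf.2 hn (Or.inr key)
    obtain ⟨-, h2, γ', hγ', hγ'z⟩ := hg.2 hnQ (Or.inl key)
    refine ⟨h1, h2, γ' * γ, Subgroup.mul_mem _ hγ' hγ, fun z hz => ?_⟩
    show g (f z) = ((γ' (γ z) : S) : Ω)
    rw [hγz z hz, hγ'z (γ z) (aut_zs_mem γ hz)]
  symm := by
    intro P Q f g hf hg hgf
    refine ⟨hg, fun hn hZ => ?_⟩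
    have hc := hf.1.card_eq
    have hnP : n₀ < Nat.card P := by rw [hc]; exact hn
    obtain ⟨h1, h2, γ, hγ, hγz⟩ := hf.2 hnP hZ.symm
    refine ⟨h2, h1, γ⁻¹, Subgroup.inv_mem _ hγ, fun z hz => ?_⟩
    have h3 : ((γ⁻¹ z : S) : Ω) ∈ centralizerIn S S := aut_zs_mem γ⁻¹ hz
    have h4 := hγz (γ⁻¹ z) h3
    have h5 : γ (γ⁻¹ z) = z := by simp
    rw [h5] at h4
    rw [← h4, hgf _ (h1 h3)]

/-- The agreement theorem. -/
theorem agree_on_center {p : ℕ} [Fact p.Prime] (hS : IsPGroup p S) {F : FusionSystem S}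
    (hF : F.IsSaturated p) (n₀ : ℕ)
    (hess : ∀ T : Subgroup Ω, F.IsEssential p T → n₀ < Nat.card T →
      centralizerIn S S ≤ T ∧ ∀ γ ∈ F.autGroup T, ∀ y : T, (y : Ω) ∈ centralizerIn S S →
        ((γ y : T) : Ω) ∈ centralizerIn S S)
    {P Q : Subgroup Ω} {f : Ω → Ω} (hf : IsIso F P Q f) (hn : n₀ < Nat.card P)
    (hZ : centralizerIn S S ≤ P) :
    ∃ γ ∈ F.autGroup S, ∀ z : S, (z : Ω) ∈ centralizerIn S S → f z = ((γ z : S) : Ω) := by
  set E := sysOfPred (agreeM_isoPred F n₀) with hE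
  have hEF : ∀ P : Subgroup Ω, F.Hom P ⊆ E.Hom P := by
    apply alperin_ind hS F hF E
    intro T hT IH α hα
    have hTS : T ≤ S := le_of_eq_or_essential hT
    rw [mem_autGroup_iff E hTS]
    have hiso := isIso_of_mem_autGroup F hTS hα
    have hM : AgreeM F n₀ T T (ext1 (T.subtype.comp α.toMonoidHom)) := by
      refine ⟨hiso, fun hnT _ => ?_⟩
      rcases hT with rfl | hT
      · refine ⟨zs_le T, zs_le T, α, hα, fun z _ => ?_⟩
        rw [ext1_apply_mem _ z.2]
        rfl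
      · obtain ⟨hZT, hinv⟩ := hess T hT hnT
        haveI hfinT : Finite T := finite_of_le S hTS
        obtain ⟨hfc, hfa⟩ := fullyNormalized_props hS hF hT.2.1
        have hrec := isReceptive_of_fullyCentralized hS hF hfc
        have hX : ∀ δ ∈ F.autGroup T, ∀ t ∈ autInducedBy S T,
            δ * t * δ⁻¹ ∈ fixZ T (centralizerIn S S) := by
          intro δ hδ t ht y hy
          show δ (t (δ⁻¹ y)) = y
          have h1 := hinv δ⁻¹ (Subgroup.inv_mem _ hδ) y hy
          obtain ⟨s, hs, hts⟩ := (mem_autInducedBy_iff S T t).1 ht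
          have h2 : t (δ⁻¹ y) = δ⁻¹ y := by
            apply Subtype.ext
            rw [hts, zs_comm h1 hs, mul_inv_cancel_right]
          rw [h2]
          simp
        obtain ⟨l, hl, -, ν, hν, hνn, hαlν⟩ := frattini_decomp hfa _ hX hα
        obtain ⟨f', N', hf', hf'T⟩ := extend_normalizing hrec hν hνn
        have hne : T ≠ S := essential_ne_top hS hF hT
        have hlt : T < normalizerIn S T := by
          obtain ⟨g, hgN, hgT⟩ := exists_mem_normalizerIn_not_mem hS hTS hne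
          refine lt_of_le_of_ne (le_normalizerIn hTS) ?_
          intro h
          exact hgT (h ▸ hgN)
        have hcard : Nat.card T < Nat.card (normalizerIn S T) := card_lt_of_lt' inf_le_left hlt
        -- `f'` is an isomorphism of `E`
        obtain ⟨φ, hφ, hφf, hφr⟩ := hf'
        have hφE := IH _ inf_le_left hcard hφ
        have hf'E : IsIso E (normalizerIn S T) N' f' := ⟨φ, hφE, hφf, hφr⟩
        have hM' := (isIso_sysOfPred_iff (agreeM_isoPred F n₀)).1 hf'E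
        obtain ⟨-, -, γ, hγ, hγz⟩ := hM'.2 (lt_trans hnT hcard)
          (Or.inl (hZT.trans hlt.le))
        refine ⟨hZT, hZT, γ, hγ, fun z hz => ?_⟩
        rw [ext1_apply_mem _ (hZT hz)]
        show ((α ⟨z, hZT hz⟩ : T) : Ω) = _
        rw [hαlν, MulAut.mul_apply]
        have h3 : ((ν ⟨z, hZT hz⟩ : T) : Ω) ∈ centralizerIn S S := hinv ν hν _ hz
        rw [hl _ h3, ← hf'T ⟨z, hZT hz⟩]
        exact hγz z hz
    exact mem_hom_of_isIso E ((isIso_sysOfPred_iff (agreeM_isoPred F n₀)).2 hM)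
      (fun x => (ext1_apply _ x).symm)
  obtain ⟨φ, hφ, hφf, hφr⟩ := hf
  have hfE : IsIso E P Q f := ⟨φ, hEF P hφ, hφf, hφr⟩
  have hM := (isIso_sysOfPred_iff (agreeM_isoPred F n₀)).1 hfE
  obtain ⟨-, -, γ, hγ, hγz⟩ := hM.2 hn (Or.inl hZ)
  exact ⟨γ, hγ, hγz⟩

end Cfsg.Agent.Lib.H26.Oliver
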