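import Mathlib
import Cfsg.Prelude.Def_FusionSystem
import Cfsg.Agent.Lib.H26.IndexPrime
import Cfsg.Agent.Lib.H26.SmallCenterOdd

set_option autoImplicit false

/-!
A nonabelian finite `p`-group `S` with a unique abelian subgroup `A` of index `p` (Oliver's setting):
elementary facts (helper26).
-/

namespace Cfsg.Agent.Lib.H26.Oliver

open Cfsg Cfsg.FusionSystem Cfsg.Agent.Lib.H26.SmallCenter

variable {Ω : Type*} [Group Ω] {S A : Subgroup Ω} {p : ℕ} [Fact p.Prime]

/-- The standing hypothesis. -/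
structure OCtx (p : ℕ) (S A : Subgroup Ω) : Prop where
  pgrp : IsPGroup p S
  le : A ≤ S
  comm : ∀ a ∈ A, ∀ b ∈ A, a * b = b * a
  idx : (A.subgroupOf S).index = p
  nonab : ¬ ∀ a ∈ S, ∀ b ∈ S, a * b = b * a
  uniq : ∀ B : Subgroup Ω, B ≤ S → (∀ a ∈ B, ∀ b ∈ B, a * b = b * a) →
    (B.subgroupOf S).index = p → B = A

theorem comm_of_isMulCommutative {B : Subgroup Ω} (h : IsMulCommutative ↥B) :
    ∀ a ∈ B, ∀ b ∈ B, a * b = b * a := by
  intro a ha b hb
  have := (isMulCommutative_iff.1 h) ⟨a, ha⟩ ⟨b, hb⟩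
  exact congrArg Subtype.val this

theorem isMulCommutative_of_comm {B : Subgroup Ω} (h : ∀ a ∈ B, ∀ b ∈ B, a * b = b * a) :
    IsMulCommutative ↥B :=
  isMulCommutative_iff.2 (fun a b => Subtype.ext (h a a.2 b b.2))

/-- The context from the hypotheses as they appear in the statements. -/
theorem OCtx.of_hyps (hS : IsPGroup p S) (hna : ¬ IsMulCommutative ↥S)
    (hA : A ≤ S ∧ IsMulCommutative ↥A ∧ (A.subgroupOf S).index = p)
    (huniq : ∀ B : Subgroup Ω, B ≤ S → IsMulCommutative ↥B → (B.subgroupOf S).index = p → B = A) :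
    OCtx p S A where
  pgrp := hS
  le := hA.1
  comm := comm_of_isMulCommutative hA.2.1
  idx := hA.2.2
  nonab := fun h => hna (isMulCommutative_of_comm h)
  uniq := fun B hB hc hi => huniq B hB (isMulCommutative_of_comm hc) hi

/-- The second centre of `S`, as a subgroup of `Ω`. -/
def zTwo (S : Subgroup Ω) : Subgroup Ω := (Subgroup.upperCentralSeries ↥S 2).map S.subtype

theorem mem_zTwo_iff {y : Ω} :
    y ∈ zTwo S ↔ y ∈ S ∧ ∀ s ∈ S, y * s * y⁻¹ * s⁻¹ ∈ centralizerIn S S := by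
  constructor
  · rintro ⟨y', hy', rfl⟩
    refine ⟨y'.2, fun s hs => ?_⟩
    have h1 : y' ∈ Subgroup.upperCentralSeries ↥S (1 + 1) := hy'
    rw [Subgroup.mem_upperCentralSeries_succ_iff, Subgroup.upperCentralSeries_one] at h1
    exact (mem_center_iff_coe _).1 (h1 ⟨s, hs⟩)
  · rintro ⟨hy, h⟩
    refine ⟨⟨y, hy⟩, ?_, rfl⟩
    show (⟨y, hy⟩ : S) ∈ Subgroup.upperCentralSeries ↥S (1 + 1)
    rw [Subgroup.mem_upperCentralSeries_succ_iff, Subgroup.upperCentralSeries_one]
    intro s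
    exact (mem_center_iff_coe _).2 (h s s.2)

theorem zTwo_le (S : Subgroup Ω) : zTwo S ≤ S := fun _ hy => (mem_zTwo_iff.1 hy).1

theorem zs_le_zTwo (S : Subgroup Ω) : centralizerIn S S ≤ zTwo S := by
  intro z hz
  rw [mem_zTwo_iff]
  refine ⟨zs_le S hz, fun s hs => ?_⟩
  have : z * s * z⁻¹ * s⁻¹ = 1 := by
    rw [← zs_comm hz hs]
    group
  rw [this]
  exact Subgroup.one_mem _

/-- Elements of `S` whose commutator with `a` is central form a subgroup. -/
def cenMod (S : Subgroup Ω) (a : Ω) : Subgroup Ω where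
  carrier := {s | s ∈ S ∧ a * s * a⁻¹ * s⁻¹ ∈ centralizerIn S S}
  one_mem' := ⟨S.one_mem, by simp [Subgroup.one_mem]⟩
  mul_mem' := by
    rintro s t ⟨hs, hs'⟩ ⟨ht, ht'⟩
    refine ⟨S.mul_mem hs ht, ?_⟩
    have e : a * (s * t) * a⁻¹ * (s * t)⁻¹ =
        (a * s * a⁻¹ * s⁻¹) * (s * (a * t * a⁻¹ * t⁻¹) * s⁻¹) := by group
    rw [e, zs_comm ht' hs, mul_inv_cancel_right]
    exact Subgroup.mul_mem _ hs' ht'
  inv_mem' := by
    rintro s ⟨hs, hs'⟩
    refine ⟨S.inv_mem hs, ?_⟩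
    have e : a * s⁻¹ * a⁻¹ * s⁻¹⁻¹ = s⁻¹ * (a * s * a⁻¹ * s⁻¹)⁻¹ * s := by group
    rw [e, zs_comm (Subgroup.inv_mem _ hs') (S.inv_mem hs), inv_mul_cancel_right]
    exact Subgroup.inv_mem _ hs'

theorem mem_cenMod {a s : Ω} :
    s ∈ cenMod S a ↔ s ∈ S ∧ a * s * a⁻¹ * s⁻¹ ∈ centralizerIn S S := Iff.rfl

namespace OCtx

variable [Finite S]

theorem le_normalizer (h : OCtx p S A) : S ≤ Subgroup.normalizer (A : Set Ω) :=
  IndexPrime.le_normalizer_of_isPGroup h.pgrp h.le h.idx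

theorem conj_mem (h : OCtx p S A) {s a : Ω} (hs : s ∈ S) (ha : a ∈ A) : s * a * s⁻¹ ∈ A :=
  IndexPrime.conj_mem h.le_normalizer hs ha

theorem conj_mem' (h : OCtx p S A) {s a : Ω} (hs : s ∈ S) (ha : a ∈ A) : s⁻¹ * a * s ∈ A := by
  have := h.conj_mem (S.inv_mem hs) ha
  rwa [inv_inv] at this

theorem decomp (h : OCtx p S A) {x : Ω} (hx : x ∈ S) (hxA : x ∉ A) {s : Ω} (hs : s ∈ S) :
    ∃ a ∈ A, ∃ j : ℕ, s = a * x ^ j :=
  IndexPrime.decomp h.le_normalizer h.idx hx hxA hs

theorem pow_mem (h : OCtx p S A) {x : Ω} (hx : x ∈ S) : x ^ p ∈ A :=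
  IndexPrime.pow_mem h.le_normalizer h.idx hx

theorem comm_mem (h : OCtx p S A) {s t : Ω} (hs : s ∈ S) (ht : t ∈ S) :
    s * t * s⁻¹ * t⁻¹ ∈ A :=
  IndexPrime.comm_mem h.le_normalizer h.idx hs ht

theorem card_eq (h : OCtx p S A) : Nat.card S = p * Nat.card A :=
  IndexPrime.card_eq h.le h.idx

theorem exists_not_mem (h : OCtx p S A) : ∃ x ∈ S, x ∉ A := by
  by_contra hcon
  push Not at hcon
  apply h.nonab
  intro a ha b hb
  exact h.comm a (hcon a ha) b (hcon b hb)

/-- `S = A ⟨x⟩`. -/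
theorem sup_zpowers (h : OCtx p S A) {x : Ω} (hx : x ∈ S) (hxA : x ∉ A) :
    A ⊔ Subgroup.zpowers x = S := by
  apply le_antisymm
  · exact sup_le h.le (Subgroup.zpowers_le.2 hx)
  · intro s hs
    obtain ⟨a, ha, j, rfl⟩ := h.decomp hx hxA hs
    exact Subgroup.mul_mem _ (le_sup_left (a := A) ha)
      (le_sup_right (a := A) (Subgroup.pow_mem _ (Subgroup.mem_zpowers x) j))

/-- An element of `A` commuting with some `x ∈ S ∖ A` is central. -/
theorem mem_zs_of_comm (h : OCtx p S A) {x : Ω} (hx : x ∈ S) (hxA : x ∉ A) {a : Ω} (ha : a ∈ A)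
    (hax : x * a = a * x) : a ∈ centralizerIn S S := by
  rw [centralizerIn, Subgroup.mem_inf, Subgroup.mem_centralizer_iff]
  refine ⟨h.le ha, fun s hs => ?_⟩
  obtain ⟨a', ha', j, rfl⟩ := h.decomp hx hxA hs
  have h1 : a' * a = a * a' := h.comm a' ha' a ha
  have h2 : x ^ j * a = a * x ^ j := by
    have : Commute x a := hax
    exact (this.pow_left j).eq
  calc a' * x ^ j * a = a' * (x ^ j * a) := by group
    _ = a' * (a * x ^ j) := by rw [h2]
    _ = (a' * a) * x ^ j := by group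
    _ = (a * a') * x ^ j := by rw [h1]
    _ = a * (a' * x ^ j) := by group

/-- `Z(S) ≤ A`. -/
theorem zs_le (h : OCtx p S A) : centralizerIn S S ≤ A := by
  intro z hz
  by_contra hzA
  apply h.nonab
  have hzS : z ∈ S := SmallCenter.zs_le S hz
  intro s hs t ht
  obtain ⟨a, ha, j, rfl⟩ := h.decomp hzS hzA hs
  obtain ⟨b, hb, k, rfl⟩ := h.decomp hzS hzA ht
  have hzj : z ^ j ∈ centralizerIn S S := Subgroup.pow_mem _ hz j
  have hzk : z ^ k ∈ centralizerIn S S := Subgroup.pow_mem _ hz k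
  have hab := h.comm a ha b hb
  have e1 : b * z ^ j = z ^ j * b := zs_comm hzj (h.le hb)
  have e2 : a * z ^ k = z ^ k * a := zs_comm hzk (h.le ha)
  have e3 : z ^ j * z ^ k = z ^ k * z ^ j := by rw [← pow_add, ← pow_add, add_comm]
  calc a * z ^ j * (b * z ^ k) = a * (z ^ j * b) * z ^ k := by group
    _ = a * (b * z ^ j) * z ^ k := by rw [e1]
    _ = (a * b) * (z ^ j * z ^ k) := by group
    _ = (b * a) * (z ^ k * z ^ j) := by rw [hab, e3]
    _ = b * (a * z ^ k) * z ^ j := by group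
    _ = b * (z ^ k * a) * z ^ j := by rw [e2]
    _ = b * z ^ k * (a * z ^ j) := by group

/-- An element of `A` whose commutator with some `x ∈ S ∖ A` is central lies in `Z₂(S)`. -/
theorem mem_zTwo_of_comm (h : OCtx p S A) {x : Ω} (hx : x ∈ S) (hxA : x ∉ A) {a : Ω} (ha : a ∈ A)
    (hax : a * x * a⁻¹ * x⁻¹ ∈ centralizerIn S S) : a ∈ zTwo S := by
  rw [mem_zTwo_iff]
  refine ⟨h.le ha, fun s hs => ?_⟩
  have hle : S ≤ cenMod S a := by
    have h0 : A ⊔ Subgroup.zpowers x ≤ cenMod S a := by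
      refine sup_le (fun b hb => ⟨h.le hb, ?_⟩) (Subgroup.zpowers_le.2 ⟨hx, hax⟩)
      have : a * b * a⁻¹ * b⁻¹ = 1 := by
        rw [h.comm a ha b hb]
        group
      rw [this]
      exact Subgroup.one_mem _
    rwa [h.sup_zpowers hx hxA] at h0
  exact (hle hs).2

/-- An abelian subgroup of index `p` containing an element outside `A` does not exist. -/
theorem not_index_of_not_le (h : OCtx p S A) {B : Subgroup Ω} (hBS : B ≤ S)
    (hBc : ∀ a ∈ B, ∀ b ∈ B, a * b = b * a) {x : Ω} (hxB : x ∈ B) (hxA : x ∉ A) :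
    (B.subgroupOf S).index ≠ p := by
  intro hi
  have := h.uniq B hBS hBc hi
  rw [this] at hxB
  exact hxA hxB

/-- `Z(S) ⟨x⟩` is abelian. -/
theorem zs_sup_zpowers_comm (x : Ω) (hx : x ∈ S) :
    ∀ a ∈ centralizerIn S S ⊔ Subgroup.zpowers x, ∀ b ∈ centralizerIn S S ⊔ Subgroup.zpowers x,
      a * b = b * a := by
  have key : centralizerIn S S ⊔ Subgroup.zpowers x ≤
      Subgroup.centralizer ((centralizerIn S S ⊔ Subgroup.zpowers x : Subgroup Ω) : Set Ω) := by
    have hle : centralizerIn S S ⊔ Subgroup.zpowers x ≤ S :=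
      sup_le (SmallCenter.zs_le S) (Subgroup.zpowers_le.2 hx)
    refine sup_le ?_ ?_
    · intro z hz
      rw [Subgroup.mem_centralizer_iff]
      intro g hg
      exact zs_comm hz (hle hg)
    · rw [Subgroup.zpowers_le, Subgroup.mem_centralizer_iff]
      intro g hg
      -- `g` commutes with `x`
      have : g ∈ Subgroup.centralizer ({x} : Set Ω) := by
        have hle2 : centralizerIn S S ⊔ Subgroup.zpowers x ≤
            Subgroup.centralizer ({x} : Set Ω) := by
          refine sup_le ?_ ?_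
          · intro z hz
            rw [Subgroup.mem_centralizer_iff]
            intro y hy
            rw [Set.mem_singleton_iff] at hy
            subst hy
            exact zs_comm hz hx
          · rw [Subgroup.zpowers_le, Subgroup.mem_centralizer_iff]
            intro y hy
            rw [Set.mem_singleton_iff] at hy
            rw [hy]
        exact hle2 hg
      rw [Subgroup.mem_centralizer_iff] at this
      exact (this x rfl).symm
  intro a ha b hb
  have := key hb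
  rw [Subgroup.mem_centralizer_iff] at this
  exact this a ha

end OCtx

end Cfsg.Agent.Lib.H26.Oliver
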