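import Mathlib
import Cfsg.Prelude.Def_FusionSystem
import Cfsg.Agent.Lib.H26.OliverBasic
import Cfsg.Agent.Lib.H26.EndoCount
import Cfsg.Agent.Lib.H26.TransvPair
import Cfsg.Agent.Lib.H26.EssentialOmit

set_option autoImplicit false

/-!
Oliver's setting (`S` nonabelian with a unique abelian subgroup `A` of index `p`): the commutator
endomorphism `a ↦ a⁻¹ x a x⁻¹` of `A` and the counting consequences of `|Z₂(S) : Z(S)| = p`
(helper26).
-/

namespace Cfsg.Agent.Lib.H26.Oliver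

open Cfsg Cfsg.FusionSystem Cfsg.Agent.Lib.H26 Cfsg.Agent.Lib.H26.SmallCenter
  Cfsg.Agent.Lib.H26.TransvPair Cfsg.Agent.Lib.H26.EndoCount

variable {Ω : Type*} [Group Ω]

/-- For `R` normalized by `S`: the elements of `S` whose commutator with `s` lies in `R`. -/
def cenModN (S R : Subgroup Ω) (hn : S ≤ Subgroup.normalizer (R : Set Ω)) (s : Ω) : Subgroup Ω where
  carrier := {t | t ∈ S ∧ s * t * s⁻¹ * t⁻¹ ∈ R}
  one_mem' := ⟨S.one_mem, by simp [Subgroup.one_mem]⟩
  mul_mem' := by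
    rintro t t' ⟨ht, ht'⟩ ⟨hu, hu'⟩
    refine ⟨S.mul_mem ht hu, ?_⟩
    have e : s * (t * t') * s⁻¹ * (t * t')⁻¹ =
        (s * t * s⁻¹ * t⁻¹) * (t * (s * t' * s⁻¹ * t'⁻¹) * t⁻¹) := by group
    rw [e]
    exact R.mul_mem ht' ((Subgroup.mem_normalizer_iff.1 (hn ht) _).1 hu')
  inv_mem' := by
    rintro t ⟨ht, ht'⟩
    refine ⟨S.inv_mem ht, ?_⟩
    have e : s * t⁻¹ * s⁻¹ * t⁻¹⁻¹ = t⁻¹ * (s * t * s⁻¹ * t⁻¹)⁻¹ * t⁻¹⁻¹ := by group
    rw [e]
    exact (Subgroup.mem_normalizer_iff.1 (hn (S.inv_mem ht)) _).1 (R.inv_mem ht')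

/-- Commutators of `S = A⟨x⟩` lie in a normal subgroup `R` as soon as those of the generators
do. -/
theorem comm_mem_of_gens {S A R : Subgroup Ω} {x : Ω} (hn : S ≤ Subgroup.normalizer (R : Set Ω))
    (hsup : A ⊔ Subgroup.zpowers x = S) (hAA : ∀ a ∈ A, ∀ b ∈ A, a * b * a⁻¹ * b⁻¹ ∈ R)
    (hAx : ∀ a ∈ A, a * x * a⁻¹ * x⁻¹ ∈ R) {s t : Ω} (hs : s ∈ S) (ht : t ∈ S) :
    s * t * s⁻¹ * t⁻¹ ∈ R := by
  have hAS : A ≤ S := hsup ▸ le_sup_left
  have hxS : x ∈ S := hsup ▸ (le_sup_right (a := A) (Subgroup.mem_zpowers x))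
  have hsymm : ∀ u v : Ω, u * v * u⁻¹ * v⁻¹ ∈ R → v * u * v⁻¹ * u⁻¹ ∈ R := by
    intro u v h
    have : v * u * v⁻¹ * u⁻¹ = (u * v * u⁻¹ * v⁻¹)⁻¹ := by group
    rw [this]
    exact R.inv_mem h
  have step2 : ∀ a ∈ A, ∀ t ∈ S, a * t * a⁻¹ * t⁻¹ ∈ R := by
    intro a ha t ht
    have hle : A ⊔ Subgroup.zpowers x ≤ cenModN S R hn a :=
      sup_le (fun b hb => ⟨hAS hb, hAA a ha b hb⟩) (Subgroup.zpowers_le.2 ⟨hxS, hAx a ha⟩)
    rw [hsup] at hle
    exact (hle ht).2
  have step3 : ∀ t ∈ S, x * t * x⁻¹ * t⁻¹ ∈ R := by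
    intro t ht
    have hle : A ⊔ Subgroup.zpowers x ≤ cenModN S R hn x := by
      refine sup_le (fun b hb => ⟨hAS hb, hsymm _ _ (hAx b hb)⟩) (Subgroup.zpowers_le.2 ⟨hxS, ?_⟩)
      have : x * x * x⁻¹ * x⁻¹ = 1 := by group
      rw [this]
      exact R.one_mem
    rw [hsup] at hle
    exact (hle ht).2
  have hle : A ⊔ Subgroup.zpowers x ≤ cenModN S R hn t :=
    sup_le (fun b hb => ⟨hAS hb, hsymm _ _ (step2 b hb t ht)⟩)
      (Subgroup.zpowers_le.2 ⟨hxS, hsymm _ _ (step3 t ht)⟩)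
  rw [hsup] at hle
  exact hsymm _ _ (hle hs).2

variable {S A : Subgroup Ω} {p : ℕ} [Fact p.Prime] [Finite S]

namespace OCtx

theorem hcA (h : OCtx p S A) : ∀ a b : A, a * b = b * a :=
  fun a b => Subtype.ext (h.comm a a.2 b b.2)

/-- Conjugation by `x ∈ S` on `A`. -/
def xAut (h : OCtx p S A) {x : Ω} (hx : x ∈ S) : MulAut A := cAut A x (h.le_normalizer hx)

/-- The commutator endomorphism `a ↦ a⁻¹ x a x⁻¹` of `A`. -/
def phi (h : OCtx p S A) {x : Ω} (hx : x ∈ S) : A →* A := movHom h.hcA (h.xAut hx)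

theorem phi_coe (h : OCtx p S A) {x : Ω} (hx : x ∈ S) (a : A) :
    ((h.phi hx a : A) : Ω) = (a : Ω)⁻¹ * x * a * x⁻¹ := by
  show (a : Ω)⁻¹ * (x * a * x⁻¹) = _
  group

theorem ker_phi (h : OCtx p S A) {x : Ω} (hx : x ∈ S) (hxA : x ∉ A) :
    (h.phi hx).ker = (centralizerIn S S).subgroupOf A := by
  ext a
  rw [MonoidHom.mem_ker, Subgroup.mem_subgroupOf]
  constructor
  · intro ha
    have h1 : (a : Ω)⁻¹ * x * a * x⁻¹ = 1 := by
      rw [← h.phi_coe hx a, ha]
      rfl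
    apply h.mem_zs_of_comm hx hxA a.2
    have : x * (a : Ω) = (a : Ω) * ((a : Ω)⁻¹ * x * a * x⁻¹) * x := by group
    rw [this, h1, mul_one]
  · intro ha
    apply Subtype.ext
    rw [h.phi_coe hx a]
    show (a : Ω)⁻¹ * x * a * x⁻¹ = 1
    rw [mul_assoc (a : Ω)⁻¹ x, zs_comm ha hx]
    group

theorem range_phi_le (h : OCtx p S A) {x : Ω} (hx : x ∈ S) :
    (h.phi hx).range ≤ (derS S).subgroupOf A := by
  rintro _ ⟨a, rfl⟩
  rw [Subgroup.mem_subgroupOf, h.phi_coe hx a]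
  have := comm_mem_derS (S := S) (S.inv_mem (h.le a.2)) hx
  rwa [inv_inv] at this

theorem range_phi (h : OCtx p S A) {x : Ω} (hx : x ∈ S) (hxA : x ∉ A) :
    (h.phi hx).range = (derS S).subgroupOf A := by
  apply le_antisymm (h.range_phi_le hx)
  -- `R`, the image of the range in `Ω`
  set R : Subgroup Ω := (h.phi hx).range.map A.subtype with hR
  have hRmem : ∀ y, y ∈ R ↔ ∃ a ∈ A, y = a⁻¹ * x * a * x⁻¹ := by
    intro y
    constructor
    · rintro ⟨_, ⟨a, rfl⟩, rfl⟩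
      exact ⟨a, a.2, h.phi_coe hx a⟩
    · rintro ⟨a, ha, rfl⟩
      exact ⟨h.phi hx ⟨a, ha⟩, ⟨⟨a, ha⟩, rfl⟩, h.phi_coe hx ⟨a, ha⟩⟩
  have hRA : R ≤ A := by
    rintro _ ⟨y, -, rfl⟩
    exact y.2
  have hn : S ≤ Subgroup.normalizer (R : Set Ω) := by
    have h0 : A ⊔ Subgroup.zpowers x ≤ Subgroup.normalizer (R : Set Ω) := by
      refine sup_le ?_ (Subgroup.zpowers_le.2 ?_)
      · intro b hb
        apply mem_normalizer_of_conj_mem
        · intro y hy
          rw [h.comm b hb y (hRA hy), mul_inv_cancel_right]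
          exact hy
        · intro y hy
          rw [mul_assoc, h.comm y (hRA hy) b hb, inv_mul_cancel_left]
          exact hy
      · apply mem_normalizer_of_conj_mem
        · intro y hy
          obtain ⟨a, ha, rfl⟩ := (hRmem y).1 hy
          rw [hRmem]
          refine ⟨x * a * x⁻¹, h.conj_mem hx ha, ?_⟩
          group
        · intro y hy
          obtain ⟨a, ha, rfl⟩ := (hRmem y).1 hy
          rw [hRmem]
          refine ⟨x⁻¹ * a * x, h.conj_mem' hx ha, ?_⟩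
          group
    rwa [h.sup_zpowers hx hxA] at h0
  have hcomm : ∀ s ∈ S, ∀ t ∈ S, s * t * s⁻¹ * t⁻¹ ∈ R := by
    intro s hs t ht
    refine comm_mem_of_gens hn (h.sup_zpowers hx hxA) (fun a ha b hb => ?_) (fun a ha => ?_) hs ht
    · have : a * b * a⁻¹ * b⁻¹ = 1 := by
        rw [h.comm a ha b hb]
        group
      rw [this]
      exact R.one_mem
    · rw [hRmem]
      exact ⟨a⁻¹, A.inv_mem ha, by group⟩
  have hder : derS S ≤ R := by
    unfold derS
    rw [Subgroup.closure_le]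
    rintro _ ⟨s, hs, t, ht, rfl⟩
    exact hcomm s hs t ht
  intro a ha
  rw [Subgroup.mem_subgroupOf] at ha
  obtain ⟨b, hb, hba⟩ := hder ha
  have : b = a := Subtype.ext hba
  rwa [← this]

theorem ker_phi_sq (h : OCtx p S A) {x : Ω} (hx : x ∈ S) (hxA : x ∉ A) :
    ((h.phi hx).comp (h.phi hx)).ker = (zTwo S).subgroupOf A := by
  ext a
  rw [MonoidHom.mem_ker, MonoidHom.comp_apply, ← MonoidHom.mem_ker, h.ker_phi hx hxA,
    Subgroup.mem_subgroupOf, Subgroup.mem_subgroupOf, h.phi_coe hx a]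
  constructor
  · intro ha
    have h1 : (a : Ω)⁻¹ ∈ zTwo S := by
      apply h.mem_zTwo_of_comm hx hxA (A.inv_mem a.2)
      rwa [inv_inv]
    have := Subgroup.inv_mem _ h1
    rwa [inv_inv] at this
  · intro ha
    have := (mem_zTwo_iff.1 (Subgroup.inv_mem _ ha)).2 x hx
    rwa [inv_inv] at this

theorem derS_le_A (h : OCtx p S A) : derS S ≤ A := by
  unfold derS
  rw [Subgroup.closure_le]
  rintro _ ⟨s, hs, t, ht, rfl⟩
  exact h.comm_mem hs ht

theorem relIndex_ker_phi (h : OCtx p S A) {x : Ω} (hx : x ∈ S) (hxA : x ∉ A)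
    (hZ2A : zTwo S ≤ A) (hidx : ((centralizerIn S S).subgroupOf (zTwo S)).index = p) :
    (h.phi hx).ker.relIndex ((h.phi hx).comp (h.phi hx)).ker = p := by
  rw [h.ker_phi hx hxA, h.ker_phi_sq hx hxA, Subgroup.relIndex_subgroupOf hZ2A]
  exact hidx

/-- `|Z(S) ∩ [S,S]| = p`. -/
theorem card_zs_inf_derS (h : OCtx p S A) (hZ2A : zTwo S ≤ A)
    (hidx : ((centralizerIn S S).subgroupOf (zTwo S)).index = p) :
    Nat.card ↥(centralizerIn S S ⊓ derS S) = p := by
  obtain ⟨x, hx, hxA⟩ := h.exists_not_mem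
  have h1 := card_ker_inf_range (h.phi hx)
  rw [h.relIndex_ker_phi hx hxA hZ2A hidx, h.ker_phi hx hxA, h.range_phi hx hxA] at h1
  have h2 : ((centralizerIn S S).subgroupOf A ⊓ (derS S).subgroupOf A) =
      (centralizerIn S S ⊓ derS S).subgroupOf A := rfl
  rw [h2] at h1
  have h3 : ((centralizerIn S S ⊓ derS S).subgroupOf A).map A.subtype =
      centralizerIn S S ⊓ derS S := by
    rw [Subgroup.subgroupOf_map_subtype]
    exact inf_eq_left.2 (inf_le_left.trans h.zs_le)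
  rw [← h3, Subgroup.card_map_of_injective A.subtype_injective]
  exact h1

/-- `|A : Z(S)[S,S]| = p`. -/
theorem index_zs_sup_derS (h : OCtx p S A) (hZ2A : zTwo S ≤ A)
    (hidx : ((centralizerIn S S).subgroupOf (zTwo S)).index = p) :
    ((centralizerIn S S ⊔ derS S).subgroupOf A).index = p := by
  obtain ⟨x, hx, hxA⟩ := h.exists_not_mem
  haveI : Finite A := Finite.of_injective _ (Subgroup.inclusion_injective h.le)
  haveI := normal_of_comm h.hcA (h.phi hx).range
  have h1 := index_ker_sup_range (h.phi hx)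
  rw [card_ker_inf_range, h.relIndex_ker_phi hx hxA hZ2A hidx, h.ker_phi hx hxA,
    h.range_phi hx hxA] at h1
  rw [Subgroup.subgroupOf_sup h.zs_le h.derS_le_A]
  exact h1

/-- The iterates of `phi` land in the lower central series. -/
theorem itHom_mem_lcs (h : OCtx p S A) {x : Ω} (hx : x ∈ S) (n : ℕ) (a : A) :
    ((itHom (h.phi hx) n a : A) : Ω) ∈ Subgroup.lowerCentralSeries S n := by
  induction n with
  | zero => exact h.le a.2
  | succ n ih =>
    rw [itHom_succ, h.phi_coe hx, Subgroup.lowerCentralSeries_succ]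
    have := Subgroup.commutator_mem_commutator (Subgroup.inv_mem _ ih) hx
    rw [commutatorElement_def, inv_inv] at this
    exact this

/-- `S / Z(S)` has maximal class. -/
theorem lcs_not_le (h : OCtx p S A) (hZ2A : zTwo S ≤ A)
    (hidx : ((centralizerIn S S).subgroupOf (zTwo S)).index = p) (m : ℕ)
    (hm : ((centralizerIn S S).subgroupOf S).index = p ^ m) (h3 : 3 ≤ m) :
    ¬ Subgroup.lowerCentralSeries S (m - 2) ≤ centralizerIn S S := by
  intro hle
  have hpp : p.Prime := Fact.out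
  obtain ⟨x, hx, hxA⟩ := h.exists_not_mem
  haveI : Finite A := Finite.of_injective _ (Subgroup.inclusion_injective h.le)
  have hk := h.relIndex_ker_phi hx hxA hZ2A hidx
  have hbound := card_ker_itHom_le (h.phi hx) hpp.ne_zero hk (m - 2)
  have htop : (itHom (h.phi hx) (m - 2 + 1)).ker = ⊤ := by
    rw [eq_top_iff]
    intro a _
    rw [MonoidHom.mem_ker, itHom_succ, ← MonoidHom.mem_ker, h.ker_phi hx hxA,
      Subgroup.mem_subgroupOf]
    exact hle (h.itHom_mem_lcs hx (m - 2) a)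
  rw [htop, Subgroup.card_top, h.ker_phi hx hxA] at hbound
  have hcZ : Nat.card ((centralizerIn S S).subgroupOf A) = Nat.card (centralizerIn S S) :=
    Nat.card_congr (Subgroup.subgroupOfEquivOfLe h.zs_le).toEquiv
  rw [hcZ] at hbound
  have hcS : p ^ m * Nat.card (centralizerIn S S) = Nat.card S := by
    have := ((centralizerIn S S).subgroupOf S).index_mul_card
    rw [hm] at this
    rw [← this]
    congr 1
    exact (Nat.card_congr (Subgroup.subgroupOfEquivOfLe (SmallCenter.zs_le S)).toEquiv).symm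
  have hcard := h.card_eq
  haveI : Finite (centralizerIn S S) :=
    Finite.of_injective _ (Subgroup.inclusion_injective (SmallCenter.zs_le S))
  have hZpos : 0 < Nat.card (centralizerIn S S) := Nat.card_pos
  have h4 : p ^ m * Nat.card (centralizerIn S S) ≤
      p ^ (m - 1) * Nat.card (centralizerIn S S) := by
    rw [hcS, hcard]
    calc p * Nat.card A ≤ p * (p ^ (m - 2) * Nat.card (centralizerIn S S)) :=
          Nat.mul_le_mul_left p hbound
      _ = p ^ (m - 1) * Nat.card (centralizerIn S S) := by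
          have : m - 1 = (m - 2) + 1 := by omega
          rw [this, pow_succ]
          ring
  have h5 : p ^ m ≤ p ^ (m - 1) := Nat.le_of_mul_le_mul_right h4 hZpos
  have h6 : p ^ (m - 1) < p ^ m := Nat.pow_lt_pow_right hpp.one_lt (by omega)
  omega

end OCtx

end Cfsg.Agent.Lib.H26.Oliver
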