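import Mathlib
import Cfsg.Prelude.Def_FusionSystem
import Cfsg.Agent.S5080
import Cfsg.Agent.Lib.H25.Normal
import Cfsg.Agent.Lib.H26.OliverBasic
import Cfsg.Agent.Lib.H26.AutSylow

set_option autoImplicit false

/-!
Essential subgroups `P ≠ A` of a saturated fusion system on a `p`-group `S` with a unique abelian
subgroup `A` of index `p` (Oliver): local analysis (helper26).
-/

namespace Cfsg.Agent.Lib.H26.Oliver

open Cfsg Cfsg.FusionSystem Cfsg.Agent.Lib.H25 Cfsg.Agent.Lib.H26 Cfsg.Agent.Lib.H26.SmallCenter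
  Cfsg.Agent.Lib.H26.AutSylow

variable {Ω : Type*} [Group Ω] {S A : Subgroup Ω} {p : ℕ} [Fact p.Prime] [Finite S]

/-- An essential subgroup different from `A` is not contained in `A`. -/
theorem not_le_of_essential (h : OCtx p S A) {F : FusionSystem S} {P : Subgroup Ω}
    (hP : F.IsEssential p P) (hPA : P ≠ A) : ¬ P ≤ A := by
  intro hle
  apply hPA
  apply le_antisymm hle
  have hcen := hP.1
  have hCP : centralizerIn S P ≤ P := hcen.2 P (isConj_refl F hcen.1)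
  intro a ha
  apply hCP
  refine ⟨h.le ha, ?_⟩
  show a ∈ Subgroup.centralizer (P : Set Ω)
  rw [Subgroup.mem_centralizer_iff]
  intro y hy
  exact h.comm y (hle hy) a ha

/-- The local context: an essential subgroup `P` and an element `x ∈ P ∖ A`. -/
structure EssCtx (p : ℕ) (S A : Subgroup Ω) (F : FusionSystem S) (P : Subgroup Ω) (x : Ω) :
    Prop where
  ctx : OCtx p S A
  pgrp : IsPGroup p S
  sat : F.IsSaturated p
  ess : F.IsEssential p P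
  xP : x ∈ P
  xA : x ∉ A

theorem exists_essCtx (h : OCtx p S A) {F : FusionSystem S} (hF : F.IsSaturated p)
    {P : Subgroup Ω} (hP : F.IsEssential p P) (hPA : P ≠ A) : ∃ x, EssCtx p S A F P x := by
  obtain ⟨x, hxP, hxA⟩ := SetLike.not_le_iff_exists.1 (not_le_of_essential h hP hPA)
  exact ⟨x, h, h.pgrp, hF, hP, hxP, hxA⟩

namespace EssCtx

variable {F : FusionSystem S} {P : Subgroup Ω} {x : Ω}

theorem PS (e : EssCtx p S A F P x) : P ≤ S := e.ess.1.1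

theorem xS (e : EssCtx p S A F P x) : x ∈ S := e.PS e.xP

theorem cen_le (e : EssCtx p S A F P x) : centralizerIn S P ≤ P :=
  e.ess.1.2 P (isConj_refl F e.PS)

theorem zs_le (e : EssCtx p S A F P x) : centralizerIn S S ≤ P := by
  intro z hz
  apply e.cen_le
  refine ⟨SmallCenter.zs_le S hz, ?_⟩
  show z ∈ Subgroup.centralizer (P : Set Ω)
  rw [Subgroup.mem_centralizer_iff]
  intro y hy
  exact zs_comm hz (e.PS hy)

theorem zs_le_inf (e : EssCtx p S A F P x) : centralizerIn S S ≤ P ⊓ A :=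
  le_inf e.zs_le e.ctx.zs_le

/-- `P = (P ∩ A) ⟨y⟩` for every `y ∈ P ∖ A`. -/
theorem decomp (e : EssCtx p S A F P x) {y : Ω} (hyP : y ∈ P) (hyA : y ∉ A) {w : Ω} (hw : w ∈ P) :
    ∃ a ∈ P ⊓ A, ∃ j : ℕ, w = a * y ^ j := by
  obtain ⟨a, ha, j, rfl⟩ := e.ctx.decomp (e.PS hyP) hyA (e.PS hw)
  refine ⟨a, ⟨?_, ha⟩, j, rfl⟩
  have : a = a * y ^ j * (y ^ j)⁻¹ := by group
  rw [this]
  exact P.mul_mem hw (P.inv_mem (P.pow_mem hyP j))

theorem sup_zpowers (e : EssCtx p S A F P x) : P = (P ⊓ A) ⊔ Subgroup.zpowers x := by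
  apply le_antisymm
  · intro w hw
    obtain ⟨a, ha, j, rfl⟩ := e.decomp e.xP e.xA hw
    exact Subgroup.mul_mem _ (le_sup_left (a := P ⊓ A) ha)
      (le_sup_right (a := P ⊓ A) (Subgroup.pow_mem _ (Subgroup.mem_zpowers x) j))
  · exact sup_le inf_le_left (Subgroup.zpowers_le.2 e.xP)

/-- Elements of `N_A(P)` centralize `P ∩ A`. -/
theorem fix_of_mem (e : EssCtx p S A F P x) {g a : Ω} (hg : g ∈ A) (ha : a ∈ P ⊓ A) :
    g * a * g⁻¹ = a := by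
  rw [e.ctx.comm g hg a ha.2, mul_inv_cancel_right]

/-- The commutator map `m(g) = y⁻¹ g y g⁻¹` from `N_A(P)` to `P ∩ A`. -/
theorem mov_mem (e : EssCtx p S A F P x) {g y : Ω} (hg : g ∈ A ⊓ Subgroup.normalizer (P : Set Ω))
    (hy : y ∈ P) : y⁻¹ * g * y * g⁻¹ ∈ P ⊓ A := by
  refine ⟨?_, ?_⟩
  · have h1 : g * y * g⁻¹ ∈ P := (Subgroup.mem_normalizer_iff.1 hg.2 y).1 hy
    have : y⁻¹ * g * y * g⁻¹ = y⁻¹ * (g * y * g⁻¹) := by group
    rw [this]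
    exact P.mul_mem (P.inv_mem hy) h1
  · have h1 : y⁻¹ * g * y ∈ A := e.ctx.conj_mem' (e.PS hy) hg.1
    exact A.mul_mem h1 (A.inv_mem hg.1)

theorem mov_mul (e : EssCtx p S A F P x) {g k : Ω} (hg : g ∈ A ⊓ Subgroup.normalizer (P : Set Ω))
    (hk : k ∈ A ⊓ Subgroup.normalizer (P : Set Ω)) {y : Ω} (hy : y ∈ P) :
    y⁻¹ * (g * k) * y * (g * k)⁻¹ = (y⁻¹ * g * y * g⁻¹) * (y⁻¹ * k * y * k⁻¹) := by
  have h1 := (e.mov_mem hk hy).2
  have h2 : (y⁻¹ * k * y * k⁻¹) * g⁻¹ = g⁻¹ * (y⁻¹ * k * y * k⁻¹) :=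
    e.ctx.comm _ h1 g⁻¹ (A.inv_mem hg.1)
  calc y⁻¹ * (g * k) * y * (g * k)⁻¹ = y⁻¹ * g * y * ((y⁻¹ * k * y * k⁻¹) * g⁻¹) := by group
    _ = y⁻¹ * g * y * (g⁻¹ * (y⁻¹ * k * y * k⁻¹)) := by rw [h2]
    _ = (y⁻¹ * g * y * g⁻¹) * (y⁻¹ * k * y * k⁻¹) := by group

theorem mov_one (y : Ω) : y⁻¹ * (1 : Ω) * y * (1 : Ω)⁻¹ = 1 := by group

theorem mov_inv (e : EssCtx p S A F P x) {g : Ω} (hg : g ∈ A ⊓ Subgroup.normalizer (P : Set Ω))
    {y : Ω} (hy : y ∈ P) : y⁻¹ * g⁻¹ * y * g⁻¹⁻¹ = (y⁻¹ * g * y * g⁻¹)⁻¹ := by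
  have h1 := e.mov_mul hg (Subgroup.inv_mem _ hg) hy
  rw [mul_inv_cancel, mov_one] at h1
  exact (eq_inv_of_mul_eq_one_right h1.symm)

theorem mov_zpow (e : EssCtx p S A F P x) {g : Ω} (hg : g ∈ A ⊓ Subgroup.normalizer (P : Set Ω))
    {y : Ω} (hy : y ∈ P) (j : ℤ) :
    y⁻¹ * g ^ j * y * (g ^ j)⁻¹ = (y⁻¹ * g * y * g⁻¹) ^ j := by
  have hnat : ∀ n : ℕ, y⁻¹ * g ^ n * y * (g ^ n)⁻¹ = (y⁻¹ * g * y * g⁻¹) ^ n := by
    intro n
    induction n with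
    | zero => simp
    | succ n ih =>
      rw [pow_succ, e.mov_mul (Subgroup.pow_mem _ hg n) hg hy, ih, pow_succ]
  cases j with
  | ofNat n => simpa using hnat n
  | negSucc n =>
    rw [zpow_negSucc, zpow_negSucc, e.mov_inv (Subgroup.pow_mem _ hg (n + 1)) hy, hnat]

/-- `N_S(P) = N_A(P) P`. -/
theorem normalizer_decomp (e : EssCtx p S A F P x) {s : Ω} (hs : s ∈ normalizerIn S P) :
    ∃ g ∈ A ⊓ Subgroup.normalizer (P : Set Ω), ∃ y ∈ P, s = g * y := by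
  obtain ⟨a, ha, j, rfl⟩ := e.ctx.decomp e.xS e.xA hs.1
  refine ⟨a, ⟨ha, ?_⟩, x ^ j, P.pow_mem e.xP j, rfl⟩
  have h1 : (x ^ j)⁻¹ ∈ Subgroup.normalizer (P : Set Ω) :=
    Subgroup.le_normalizer (P.inv_mem (P.pow_mem e.xP j))
  have : a = a * x ^ j * (x ^ j)⁻¹ := by group
  rw [this]
  exact Subgroup.mul_mem _ hs.2 h1

/-- `N_A(P)` is not contained in `P`. -/
theorem exists_normalizer_not_mem (e : EssCtx p S A F P x) :
    ∃ g ∈ A ⊓ Subgroup.normalizer (P : Set Ω), g ∉ P := by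
  have hne : P ≠ S := essential_ne_top e.pgrp e.sat e.ess
  obtain ⟨s, hsN, hsP⟩ := exists_mem_normalizerIn_not_mem e.pgrp e.PS hne
  obtain ⟨g, hg, y, hy, rfl⟩ := e.normalizer_decomp hsN
  refine ⟨g, hg, fun hgP => hsP (P.mul_mem hgP hy)⟩

/-- Some automorphism in `Aut_F(P)` moves `P ∩ A`. -/
theorem not_invariant (e : EssCtx p S A F P x) :
    ¬ ∀ α ∈ F.autGroup P, ∀ y : P, (y : Ω) ∈ A → ((α y : P) : Ω) ∈ A := by
  intro hinv
  have hcen := e.ess.1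
  have hrad := Cfsg.Agent.S5080.result p e.pgrp F e.sat P e.ess
  obtain ⟨g, hg, hgP⟩ := e.exists_normalizer_not_mem
  apply hgP
  have hZP : P ⊓ A ≤ P := inf_le_left
  haveI : Finite ↥(P ⊓ A) := finite_of_le S (hZP.trans e.PS)
  have hZp : IsPGroup p ↥(P ⊓ A) := e.pgrp.to_le (hZP.trans e.PS)
  have hinv' : ∀ γ ∈ F.autGroup P, ∀ y : P, (y : Ω) ∈ P ⊓ A → ((γ y : P) : Ω) ∈ P ⊓ A :=
    fun γ hγ y hy => ⟨(γ y).2, hinv γ hγ y hy.2⟩
  refine mem_of_centric_radical hcen hrad (stabChain F P (P ⊓ A)) (stabChain_le F P _)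
    (stabChain_normal F hZP hinv') (stabChain_isPGroup F hZP hZp) (e.ctx.le hg.1)
    (β := cAut P g hg.2) ?_ (fun _ => rfl)
  refine ⟨autInducedBy_le_autGroup F e.PS (cAut_mem_autInducedBy (e.ctx.le hg.1) hg.2),
    fun y => ?_, fun y hy => ?_⟩
  · have := e.mov_mem hg y.2
    have e1 : (y : Ω)⁻¹ * ((cAut P g hg.2 y : P) : Ω) = (y : Ω)⁻¹ * g * y * g⁻¹ := by
      show (y : Ω)⁻¹ * (g * y * g⁻¹) = _
      group
    rw [e1]
    exact this
  · apply Subtype.ext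
    show g * (y : Ω) * g⁻¹ = y
    exact e.fix_of_mem hg.1 hy

end EssCtx

/-- An automorphism of a finite group mapping a subgroup into itself maps it onto itself. -/
theorem inv_preserves {G : Type*} [Group G] [Finite G] (α : MulAut G) (B : Subgroup G)
    (h : ∀ y ∈ B, α y ∈ B) : ∀ y ∈ B, α⁻¹ y ∈ B := by
  let c : B → B := fun y => ⟨α y, h y y.2⟩
  have hcinj : Function.Injective c := by
    intro y y' hyy'
    have h2 : α (y : G) = α (y' : G) := congrArg Subtype.val hyy'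
    exact Subtype.ext (α.injective h2)
  have hcsurj : Function.Surjective c := Finite.injective_iff_surjective.1 hcinj
  intro y hy
  obtain ⟨y', hy'⟩ := hcsurj ⟨y, hy⟩
  have h2 : α (y' : G) = y := congrArg Subtype.val hy'
  rw [← h2]
  simp

/-- `(P ∩ A) ∩ α⁻¹(P ∩ A)`, as a subgroup of `Ω`. -/
def dSub (A P : Subgroup Ω) (α : MulAut P) : Subgroup Ω :=
  ((A.subgroupOf P) ⊓ ((A.subgroupOf P).comap α.toMonoidHom)).map P.subtype

theorem mem_dSub {P : Subgroup Ω} {α : MulAut P} {y : Ω} :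
    y ∈ dSub A P α ↔ ∃ hy : y ∈ P, y ∈ A ∧ ((α ⟨y, hy⟩ : P) : Ω) ∈ A := by
  constructor
  · rintro ⟨y', ⟨h1, h2⟩, rfl⟩
    exact ⟨y'.2, Subgroup.mem_subgroupOf.1 h1, Subgroup.mem_subgroupOf.1 h2⟩
  · rintro ⟨hy, h1, h2⟩
    exact ⟨⟨y, hy⟩, ⟨Subgroup.mem_subgroupOf.2 h1, Subgroup.mem_subgroupOf.2 h2⟩, rfl⟩

theorem dSub_le {P : Subgroup Ω} (α : MulAut P) : dSub A P α ≤ P ⊓ A := by
  intro y hy
  obtain ⟨hyP, hyA, -⟩ := mem_dSub.1 hy
  exact ⟨hyP, hyA⟩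

theorem map_mem_dSub_inv {P : Subgroup Ω} {α : MulAut P} {y : P} (hy : (y : Ω) ∈ dSub A P α) :
    ((α y : P) : Ω) ∈ dSub A P α⁻¹ := by
  obtain ⟨hyP, hyA, hαy⟩ := mem_dSub.1 hy
  rw [mem_dSub]
  refine ⟨(α y).2, hαy, ?_⟩
  have : α⁻¹ ⟨((α y : P) : Ω), (α y).2⟩ = y := by simp
  rw [this]
  exact hyA

/-- Pure identity: if `m = x⁻¹ g x g⁻¹` commutes with `x` then `x⁻ʲ g xʲ g⁻¹ = mʲ`. -/
theorem mov_pow_of_commute {G : Type*} [Group G] {x g : G}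
    (hc : Commute (x⁻¹ * g * x * g⁻¹) x) (j : ℕ) :
    (x ^ j)⁻¹ * g * x ^ j * g⁻¹ = (x⁻¹ * g * x * g⁻¹) ^ j := by
  induction j with
  | zero => simp
  | succ j ih =>
    have h1 : (x ^ (j + 1))⁻¹ * g * x ^ (j + 1) * g⁻¹ =
        x⁻¹ * ((x ^ j)⁻¹ * g * x ^ j * g⁻¹) * x * (x⁻¹ * g * x * g⁻¹) := by
      rw [pow_succ]
      group
    rw [h1, ih]
    have h2 : x⁻¹ * (x⁻¹ * g * x * g⁻¹) ^ j * x = (x⁻¹ * g * x * g⁻¹) ^ j := by
      have := (hc.pow_left j).eq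
      rw [mul_assoc, this, inv_mul_cancel_left]
    rw [h2, pow_succ]

namespace EssCtx

variable {F : FusionSystem S} {P : Subgroup Ω} {x : Ω}

/-- `dSub α` is central in `P` when `α⁻¹` moves some element of `P ∩ A` out of `A`. -/
theorem dSub_central (e : EssCtx p S A F P x) {α : MulAut P} {a : P} (ha : (a : Ω) ∈ A)
    (hαa : ((α⁻¹ a : P) : Ω) ∉ A) {d : Ω} (hd : d ∈ dSub A P α) {y : Ω} (hy : y ∈ P) :
    d * y = y * d := by
  obtain ⟨hdP, hdA, hαd⟩ := mem_dSub.1 hd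
  -- `d` commutes with `y₀ = α⁻¹ a`
  have h0 : (⟨d, hdP⟩ : P) * α⁻¹ a = α⁻¹ a * ⟨d, hdP⟩ := by
    apply α.injective
    rw [map_mul, map_mul]
    have : α (α⁻¹ a) = a := by simp
    rw [this]
    exact Subtype.ext (e.ctx.comm _ hαd _ ha)
  have h0' : d * ((α⁻¹ a : P) : Ω) = ((α⁻¹ a : P) : Ω) * d := congrArg Subtype.val h0
  obtain ⟨b, hb, j, rfl⟩ := e.decomp (α⁻¹ a).2 hαa hy
  have h1 : d * b = b * d := e.ctx.comm d hdA b hb.2
  have h2 : d * ((α⁻¹ a : P) : Ω) ^ j = ((α⁻¹ a : P) : Ω) ^ j * d := by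
    have : Commute d ((α⁻¹ a : P) : Ω) := h0'
    exact (this.pow_right j).eq
  calc d * (b * ((α⁻¹ a : P) : Ω) ^ j) = (d * b) * ((α⁻¹ a : P) : Ω) ^ j := by group
    _ = (b * d) * ((α⁻¹ a : P) : Ω) ^ j := by rw [h1]
    _ = b * (d * ((α⁻¹ a : P) : Ω) ^ j) := by group
    _ = b * (((α⁻¹ a : P) : Ω) ^ j * d) := by rw [h2]
    _ = b * ((α⁻¹ a : P) : Ω) ^ j * d := by group

/-- `Aut_S(P)` fixes pointwise every subgroup of `P ∩ A` central in `P`. -/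
theorem autS_fix (e : EssCtx p S A F P x) {D : Subgroup Ω} (hDA : D ≤ P ⊓ A)
    (hDc : ∀ d ∈ D, ∀ y ∈ P, d * y = y * d) {τ : MulAut P} (hτ : τ ∈ autInducedBy S P)
    (y : P) (hy : (y : Ω) ∈ D) : τ y = y := by
  obtain ⟨s, hs, hτs⟩ := (mem_autInducedBy_iff S P τ).1 hτ
  have hsN : s ∈ normalizerIn S P := ⟨hs, mem_normalizer_of_induces hτs⟩
  obtain ⟨g, hg, w, hw, rfl⟩ := e.normalizer_decomp hsN
  apply Subtype.ext
  rw [hτs]
  have h1 : w * (y : Ω) * w⁻¹ = y := by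
    rw [← hDc y hy w hw, mul_inv_cancel_right]
  calc g * w * (y : Ω) * (g * w)⁻¹ = g * (w * (y : Ω) * w⁻¹) * g⁻¹ := by group
    _ = g * (y : Ω) * g⁻¹ := by rw [h1]
    _ = y := e.fix_of_mem hg.1 (hDA hy)

/-- The key step: an element `g ∈ N_A(P)` with `x⁻¹ g x g⁻¹ ∈ (P ∩ A) ∩ δ⁻¹(P ∩ A)` lies in `P`,
for suitable `δ`. -/
theorem mem_of_mov_mem_dSub (e : EssCtx p S A F P x) {M : Subgroup (MulAut P)}
    (hM : ∀ δ ∈ F.autGroup P, ∀ t ∈ autInducedBy S P, t ∉ Inn P →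
      δ * t * δ⁻¹ ∈ autInducedBy S P → δ ∈ M)
    {δ : MulAut P} (hδ : δ ∈ F.autGroup P) (hδM : δ ∉ M)
    {a₀ : P} (ha₀ : (a₀ : Ω) ∈ A) (hδa₀ : ((δ a₀ : P) : Ω) ∉ A)
    {g : Ω} (hg : g ∈ A ⊓ Subgroup.normalizer (P : Set Ω))
    (hm : x⁻¹ * g * x * g⁻¹ ∈ dSub A P δ) : g ∈ P := by
  have hcen := e.ess.1
  haveI hfinP : Finite P := finite_of_le S e.PS
  obtain ⟨-, hfa⟩ := fullyNormalized_props e.pgrp e.sat e.ess.2.1
  -- `δ⁻¹` also moves `P ∩ A`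
  obtain ⟨a₁, ha₁, hδa₁⟩ : ∃ a₁ : P, (a₁ : Ω) ∈ A ∧ ((δ⁻¹ a₁ : P) : Ω) ∉ A := by
    by_contra hcon
    push Not at hcon
    have h1 : ∀ y ∈ A.subgroupOf P, δ⁻¹ y ∈ A.subgroupOf P := fun y hy =>
      Subgroup.mem_subgroupOf.2 (hcon y (Subgroup.mem_subgroupOf.1 hy))
    have h2 := inv_preserves δ⁻¹ (A.subgroupOf P) h1 a₀ (Subgroup.mem_subgroupOf.2 ha₀)
    rw [inv_inv] at h2
    exact hδa₀ (Subgroup.mem_subgroupOf.1 h2)
  have hDc : ∀ d ∈ dSub A P δ, ∀ y ∈ P, d * y = y * d :=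
    fun d hd y hy => e.dSub_central ha₁ hδa₁ hd hy
  have hD'c : ∀ d ∈ dSub A P δ⁻¹, ∀ y ∈ P, d * y = y * d :=
    fun d hd y hy => e.dSub_central (α := δ⁻¹) ha₀ (by rw [inv_inv]; exact hδa₀) hd hy
  -- all commutators `y⁻¹ g y g⁻¹`, `y ∈ P`, lie in `D`
  have hmov : ∀ y ∈ P, y⁻¹ * g * y * g⁻¹ ∈ dSub A P δ := by
    intro y hy
    obtain ⟨a, ha, j, rfl⟩ := e.decomp e.xP e.xA hy
    have h1 : a⁻¹ * g * a = g := by
      rw [mul_assoc, e.ctx.comm g hg.1 a ha.2, inv_mul_cancel_left]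
    have h2 : (a * x ^ j)⁻¹ * g * (a * x ^ j) * g⁻¹ = (x ^ j)⁻¹ * (a⁻¹ * g * a) * x ^ j * g⁻¹ := by
      group
    rw [h2, h1, mov_pow_of_commute (hDc _ hm x e.xP) j]
    exact Subgroup.pow_mem _ hm j
  have ht : cAut P g hg.2 ∈ autInducedBy S P :=
    cAut_mem_autInducedBy (e.ctx.le hg.1) hg.2
  have htG : cAut P g hg.2 ∈ F.autGroup P := autInducedBy_le_autGroup F e.PS ht
  -- `δ t δ⁻¹` stabilizes `1 ≤ D' ≤ P`
  have hstab : δ * cAut P g hg.2 * δ⁻¹ ∈ stabChain F P (dSub A P δ⁻¹) := by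
    refine ⟨Subgroup.mul_mem _ (Subgroup.mul_mem _ hδ htG) (Subgroup.inv_mem _ hδ),
      fun y => ?_, fun y hy => ?_⟩
    · show (y : Ω)⁻¹ * ((δ (cAut P g hg.2 (δ⁻¹ y)) : P) : Ω) ∈ dSub A P δ⁻¹
      have hm' := hmov _ (δ⁻¹ y).2
      obtain ⟨hm'P, -, -⟩ := mem_dSub.1 hm'
      have h3 : cAut P g hg.2 (δ⁻¹ y) = δ⁻¹ y * ⟨_, hm'P⟩ := by
        apply Subtype.ext
        show g * ((δ⁻¹ y : P) : Ω) * g⁻¹ = ((δ⁻¹ y : P) : Ω) *
          (((δ⁻¹ y : P) : Ω)⁻¹ * g * ((δ⁻¹ y : P) : Ω) * g⁻¹)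
        group
      rw [h3, map_mul]
      have h4 : δ (δ⁻¹ y) = y := by simp
      rw [h4]
      show (y : Ω)⁻¹ * ((y : Ω) * ((δ ⟨_, hm'P⟩ : P) : Ω)) ∈ dSub A P δ⁻¹
      rw [inv_mul_cancel_left]
      exact map_mem_dSub_inv (y := ⟨_, hm'P⟩) hm'
    · show δ (cAut P g hg.2 (δ⁻¹ y)) = y
      obtain ⟨hyP, hyA, hδy⟩ := mem_dSub.1 hy
      have h5 : cAut P g hg.2 (δ⁻¹ y) = δ⁻¹ y := by
        apply Subtype.ext
        show g * ((δ⁻¹ y : P) : Ω) * g⁻¹ = ((δ⁻¹ y : P) : Ω)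
        exact e.fix_of_mem hg.1 ⟨(δ⁻¹ y).2, hδy⟩
      rw [h5]
      simp
  have hT := mem_autInducedBy_of_stab e.pgrp hfa ((dSub_le δ⁻¹).trans inf_le_left)
    (fun τ hτ y hy => by rw [e.autS_fix (dSub_le δ⁻¹) hD'c hτ y hy]; exact hy) hstab
  by_cases hI : cAut P g hg.2 ∈ Inn P
  · exact mem_of_centric_of_induces_inner hcen (e.ctx.le hg.1) (β := cAut P g hg.2)
      (fun _ => rfl) hI
  · exact absurd (hM δ hδ _ ht hI hT) hδM

/-- The choice of `M` and `δ`. -/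
theorem exists_delta (e : EssCtx p S A F P x) :
    ∃ (M : Subgroup (MulAut P)) (δ : MulAut P),
      (∀ δ ∈ F.autGroup P, ∀ t ∈ autInducedBy S P, t ∉ Inn P →
        δ * t * δ⁻¹ ∈ autInducedBy S P → δ ∈ M) ∧
      δ ∈ F.autGroup P ∧ δ ∉ M ∧ ∃ a₀ : P, (a₀ : Ω) ∈ A ∧ ((δ a₀ : P) : Ω) ∉ A := by
  haveI hfinP : Finite P := finite_of_le S e.PS
  obtain ⟨M, ⟨γ, hγ, hγM⟩, hM⟩ := exists_TI e.pgrp e.sat e.ess
  have hni := e.not_invariant
  push Not at hni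
  obtain ⟨σ, hσ, y, hyA, hσy⟩ := hni
  by_cases hσM : σ ∈ M
  · by_cases hγmv : ∃ a₀ : P, (a₀ : Ω) ∈ A ∧ ((γ a₀ : P) : Ω) ∉ A
    · exact ⟨M, γ, hM, hγ, hγM, hγmv⟩
    · push Not at hγmv
      refine ⟨M, γ * σ, hM, Subgroup.mul_mem _ hγ hσ, ?_, y, hyA, ?_⟩
      · intro hmem
        apply hγM
        have : γ = (γ * σ) * σ⁻¹ := by group
        rw [this]
        exact Subgroup.mul_mem _ hmem (Subgroup.inv_mem _ hσM)
      · intro hmem
        apply hσy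
        have h1 : ∀ w ∈ A.subgroupOf P, γ w ∈ A.subgroupOf P := fun w hw =>
          Subgroup.mem_subgroupOf.2 (hγmv w (Subgroup.mem_subgroupOf.1 hw))
        have h2 := inv_preserves γ (A.subgroupOf P) h1 (γ (σ y)) (Subgroup.mem_subgroupOf.2 hmem)
        have h3 : γ⁻¹ (γ (σ y)) = σ y := by simp
        rw [h3] at h2
        exact Subgroup.mem_subgroupOf.1 h2
  · exact ⟨M, σ, hM, hσ, hσM, y, hyA, hσy⟩

/-- `P` normalizes `P ∩ A`. -/
theorem le_normalizer_inf (e : EssCtx p S A F P x) :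
    P ≤ Subgroup.normalizer ((P ⊓ A : Subgroup Ω) : Set Ω) := by
  intro y hy
  apply mem_normalizer_of_conj_mem
  · intro a ha
    exact ⟨P.mul_mem (P.mul_mem hy ha.1) (P.inv_mem hy), e.ctx.conj_mem (e.PS hy) ha.2⟩
  · intro a ha
    exact ⟨P.mul_mem (P.mul_mem (P.inv_mem hy) ha.1) hy, e.ctx.conj_mem' (e.PS hy) ha.2⟩

/-- `P ∩ A` has index `p` in `P`. -/
theorem index_inf (e : EssCtx p S A F P x) : ((P ⊓ A).subgroupOf P).index = p := by
  refine IndexPrime.index_eq_of_decomp e.le_normalizer_inf e.xP (fun h => e.xA h.2)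
    ⟨P.pow_mem e.xP p, e.ctx.pow_mem e.xS⟩ (fun k hk => ?_)
  obtain ⟨a, ha, j, rfl⟩ := e.decomp e.xP e.xA hk
  refine ⟨(j : ℤ), ?_⟩
  rw [zpow_natCast]
  have h1 := (Subgroup.mem_normalizer_iff.1
    (e.le_normalizer_inf (P.inv_mem (P.pow_mem e.xP j))) a).1 ha
  rw [inv_inv] at h1
  have : (x ^ j)⁻¹ * (a * x ^ j) = (x ^ j)⁻¹ * a * x ^ j := by group
  rw [this]
  exact h1

/-- `(P ∩ A) ∩ δ⁻¹(P ∩ A)` has index `p` in `P ∩ A` when `δ` moves `P ∩ A`. -/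
theorem index_dSub (e : EssCtx p S A F P x) {δ : MulAut P} {a₀ : P} (ha₀ : (a₀ : Ω) ∈ A)
    (hδa₀ : ((δ a₀ : P) : Ω) ∉ A) : ((dSub A P δ).subgroupOf (P ⊓ A)).index = p := by
  have hPn : P ≤ Subgroup.normalizer (A : Set Ω) := e.PS.trans e.ctx.le_normalizer
  haveI hB₀n : (A.subgroupOf P).Normal := IndexPrime.normal_subgroupOf hPn
  haveI hB₁n : ((A.subgroupOf P).comap δ.toMonoidHom).Normal := hB₀n.comap _
  have h0 : (A.subgroupOf P).index = p := by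
    rw [← Subgroup.inf_subgroupOf_left]
    exact e.index_inf
  have h1 : ((A.subgroupOf P).comap δ.toMonoidHom).index = p := by
    rw [Subgroup.index_comap_of_surjective _ δ.surjective, h0]
  have hne : A.subgroupOf P ≠ (A.subgroupOf P).comap δ.toMonoidHom := by
    intro heq
    have h2 : a₀ ∈ A.subgroupOf P := Subgroup.mem_subgroupOf.2 ha₀
    rw [heq] at h2
    exact hδa₀ (Subgroup.mem_subgroupOf.1 h2)
  have key := IndexPrime.relIndex_inf_of_index_prime h0 h1 hne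
  have e1 : (P ⊓ A : Subgroup Ω) = (A.subgroupOf P).map P.subtype := by
    rw [Subgroup.subgroupOf_map_subtype, inf_comm]
  show (dSub A P δ).relIndex (P ⊓ A) = p
  rw [e1, dSub, Subgroup.relIndex_map_map_of_injective _ _ P.subtype_injective]
  exact key

/-- The main local data attached to an essential subgroup `P ≠ A`. -/
theorem main_data (e : EssCtx p S A F P x) :
    ∃ (D : Subgroup Ω) (g₁ : Ω), D ≤ P ⊓ A ∧ (∀ d ∈ D, ∀ y ∈ P, d * y = y * d) ∧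
      (D.subgroupOf (P ⊓ A)).index = p ∧ (∀ y ∈ P, ∀ w ∈ P, y * w * y⁻¹ * w⁻¹ ∈ D) ∧
      (∀ g ∈ A ⊓ Subgroup.normalizer (P : Set Ω), x⁻¹ * g * x * g⁻¹ ∈ D → g ∈ P) ∧
      g₁ ∈ A ⊓ Subgroup.normalizer (P : Set Ω) ∧ g₁ ∉ P ∧ g₁ ^ p ∈ P ∧
      ∀ g ∈ A ⊓ Subgroup.normalizer (P : Set Ω), ∃ j : ℤ, (g₁ ^ j)⁻¹ * g ∈ P := by
  haveI hfinP : Finite P := finite_of_le S e.PS
  obtain ⟨M, δ, hM, hδ, hδM, a₀, ha₀, hδa₀⟩ := e.exists_delta
  obtain ⟨a₁, ha₁, hδa₁⟩ : ∃ a₁ : P, (a₁ : Ω) ∈ A ∧ ((δ⁻¹ a₁ : P) : Ω) ∉ A := by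
    by_contra hcon
    push Not at hcon
    have h1 : ∀ y ∈ A.subgroupOf P, δ⁻¹ y ∈ A.subgroupOf P := fun y hy =>
      Subgroup.mem_subgroupOf.2 (hcon y (Subgroup.mem_subgroupOf.1 hy))
    have h2 := inv_preserves δ⁻¹ (A.subgroupOf P) h1 a₀ (Subgroup.mem_subgroupOf.2 ha₀)
    rw [inv_inv] at h2
    exact hδa₀ (Subgroup.mem_subgroupOf.1 h2)
  have hDc : ∀ d ∈ dSub A P δ, ∀ y ∈ P, d * y = y * d :=
    fun d hd y hy => e.dSub_central ha₁ hδa₁ hd hy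
  have hidx := e.index_dSub ha₀ hδa₀
  have hK : ∀ g ∈ A ⊓ Subgroup.normalizer (P : Set Ω), x⁻¹ * g * x * g⁻¹ ∈ dSub A P δ → g ∈ P :=
    fun g hg hm => e.mem_of_mov_mem_dSub hM hδ hδM ha₀ hδa₀ hg hm
  obtain ⟨g₁, hg₁, hg₁P⟩ := e.exists_normalizer_not_mem
  have he₁ := e.mov_mem hg₁ e.xP
  have he₁D : x⁻¹ * g₁ * x * g₁⁻¹ ∉ dSub A P δ := fun h => hg₁P (hK g₁ hg₁ h)
  have hn : P ⊓ A ≤ Subgroup.normalizer ((dSub A P δ : Subgroup Ω) : Set Ω) := by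
    intro y hy
    apply mem_normalizer_of_conj_mem
    · intro d hd
      rw [← hDc d hd y hy.1, mul_inv_cancel_right]
      exact hd
    · intro d hd
      rw [mul_assoc, hDc d hd y hy.1, inv_mul_cancel_left]
      exact hd
  refine ⟨dSub A P δ, g₁, dSub_le δ, hDc, hidx, ?_, hK, hg₁, hg₁P, ?_, ?_⟩
  · intro y hy w hw
    rw [mem_dSub]
    have hc : y * w * y⁻¹ * w⁻¹ ∈ P := P.mul_mem (P.mul_mem (P.mul_mem hy hw) (P.inv_mem hy))
      (P.inv_mem hw)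
    refine ⟨hc, e.ctx.comm_mem (e.PS hy) (e.PS hw), ?_⟩
    have e1 : (⟨y * w * y⁻¹ * w⁻¹, hc⟩ : P) = ⟨y, hy⟩ * ⟨w, hw⟩ * ⟨y, hy⟩⁻¹ * ⟨w, hw⟩⁻¹ := rfl
    rw [e1, map_mul, map_mul, map_mul, map_inv, map_inv]
    exact e.ctx.comm_mem (e.PS (δ ⟨y, hy⟩).2) (e.PS (δ ⟨w, hw⟩).2)
  · apply hK _ (Subgroup.pow_mem _ hg₁ p)
    have := e.mov_zpow hg₁ e.xP (p : ℤ)
    rw [zpow_natCast, zpow_natCast] at this
    rw [this]
    exact IndexPrime.pow_mem hn hidx he₁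
  · intro g hg
    have hm := e.mov_mem hg e.xP
    obtain ⟨j, hj⟩ := IndexPrime.exists_pow_inv_mul_mem hn hidx he₁ he₁D hm
    refine ⟨(j : ℤ), ?_⟩
    rw [zpow_natCast]
    have hgj : (g₁ ^ j)⁻¹ ∈ A ⊓ Subgroup.normalizer (P : Set Ω) :=
      Subgroup.inv_mem _ (Subgroup.pow_mem _ hg₁ j)
    apply hK _ (Subgroup.mul_mem _ hgj hg)
    rw [e.mov_mul hgj hg e.xP]
    have h2 := e.mov_zpow hg₁ e.xP (-(j : ℤ))
    rw [zpow_neg, zpow_natCast, zpow_neg, zpow_natCast] at h2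
    rw [h2]
    exact hj

/-- `|N_S(P) : P| = p`. -/
theorem index_normalizer (e : EssCtx p S A F P x) :
    (P.subgroupOf (normalizerIn S P)).index = p := by
  obtain ⟨D, g₁, -, -, -, -, -, hg₁, hg₁P, hg₁p, hgen⟩ := e.main_data
  refine IndexPrime.index_eq_of_decomp (inf_le_right) ⟨e.ctx.le hg₁.1, hg₁.2⟩ hg₁P hg₁p
    (fun s hs => ?_)
  obtain ⟨g, hg, y, hy, rfl⟩ := e.normalizer_decomp hs
  obtain ⟨j, hj⟩ := hgen g hg
  refine ⟨j, ?_⟩
  rw [← mul_assoc]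
  exact P.mul_mem hj hy

/-- `|N_A(P) : P ∩ A| = p`. -/
theorem index_inf_normalizer (e : EssCtx p S A F P x) :
    ((P ⊓ A).subgroupOf (A ⊓ Subgroup.normalizer (P : Set Ω))).index = p := by
  obtain ⟨D, g₁, -, -, -, -, -, hg₁, hg₁P, hg₁p, hgen⟩ := e.main_data
  have hn : A ⊓ Subgroup.normalizer (P : Set Ω) ≤
      Subgroup.normalizer ((P ⊓ A : Subgroup Ω) : Set Ω) := by
    intro g hg
    apply mem_normalizer_of_conj_mem
    · intro a ha
      rw [e.fix_of_mem hg.1 ha]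
      exact ha
    · intro a ha
      have := e.fix_of_mem (A.inv_mem hg.1) ha
      rw [inv_inv] at this
      rw [this]
      exact ha
  refine IndexPrime.index_eq_of_decomp hn hg₁ (fun h => hg₁P h.1)
    ⟨hg₁p, A.pow_mem hg₁.1 p⟩ (fun g hg => ?_)
  obtain ⟨j, hj⟩ := hgen g hg
  exact ⟨j, hj, A.mul_mem (A.inv_mem (A.zpow_mem hg₁.1 j)) hg.1⟩

/-- The abelian case: `P ∩ A = Z(S)`. -/
theorem inf_eq_of_abelian (e : EssCtx p S A F P x) (hab : ∀ a ∈ P, ∀ b ∈ P, a * b = b * a) :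
    P ⊓ A = centralizerIn S S := by
  apply le_antisymm _ e.zs_le_inf
  intro a ha
  exact e.ctx.mem_zs_of_comm e.xS e.xA ha.2 (hab x e.xP a ha.1)

/-- If `Z₂(S) ⊄ A` then `S` has class two. -/
theorem comm_mem_zs_of_zTwo_not_le (h : OCtx p S A) (hz : ¬ zTwo S ≤ A) {s t : Ω} (hs : s ∈ S)
    (ht : t ∈ S) : s * t * s⁻¹ * t⁻¹ ∈ centralizerIn S S := by
  obtain ⟨y₀, hy₀, hy₀A⟩ := SetLike.not_le_iff_exists.1 hz
  have hy₀S := zTwo_le S hy₀
  have hle : S ≤ zTwo S := by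
    have h0 : A ⊔ Subgroup.zpowers y₀ ≤ zTwo S := by
      refine sup_le (fun a ha => ?_) (Subgroup.zpowers_le.2 hy₀)
      apply h.mem_zTwo_of_comm hy₀S hy₀A ha
      have h1 := (mem_zTwo_iff.1 hy₀).2 a (h.le ha)
      have : a * y₀ * a⁻¹ * y₀⁻¹ = (y₀ * a * y₀⁻¹ * a⁻¹)⁻¹ := by group
      rw [this]
      exact Subgroup.inv_mem _ h1
    rwa [h.sup_zpowers hy₀S hy₀A] at h0
  exact (mem_zTwo_iff.1 (hle hs)).2 t ht

/-- An element of `N_S(P)` stabilizing the chain `1 ≤ Z(S) ≤ P` lies in `P`, provided `Z(S)` is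
invariant under `Aut_F(P)`. -/
theorem mem_of_stab_zs (e : EssCtx p S A F P x)
    (hinv : ∀ γ ∈ F.autGroup P, ∀ y : P, (y : Ω) ∈ centralizerIn S S →
      ((γ y : P) : Ω) ∈ centralizerIn S S)
    {g : Ω} (hgS : g ∈ S) (hgN : g ∈ Subgroup.normalizer (P : Set Ω))
    (hmv : ∀ y ∈ P, y⁻¹ * g * y * g⁻¹ ∈ centralizerIn S S) : g ∈ P := by
  have hcen := e.ess.1
  have hrad := Cfsg.Agent.S5080.result p e.pgrp F e.sat P e.ess
  have hZP : centralizerIn S S ≤ P := e.zs_le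
  haveI : Finite ↥(centralizerIn S S) := finite_of_le S (SmallCenter.zs_le S)
  have hZp : IsPGroup p ↥(centralizerIn S S) := e.pgrp.to_le (SmallCenter.zs_le S)
  refine mem_of_centric_radical hcen hrad (stabChain F P (centralizerIn S S)) (stabChain_le F P _)
    (stabChain_normal F hZP hinv) (stabChain_isPGroup F hZP hZp) hgS
    (β := cAut P g hgN) ?_ (fun _ => rfl)
  refine ⟨autInducedBy_le_autGroup F e.PS (cAut_mem_autInducedBy hgS hgN),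
    fun y => ?_, fun y hy => ?_⟩
  · have e1 : (y : Ω)⁻¹ * ((cAut P g hgN y : P) : Ω) = (y : Ω)⁻¹ * g * y * g⁻¹ := by
      show (y : Ω)⁻¹ * (g * y * g⁻¹) = _
      group
    rw [e1]
    exact hmv y y.2
  · apply Subtype.ext
    show g * (y : Ω) * g⁻¹ = y
    rw [zs_comm hy hgS, mul_inv_cancel_right]

/-- The nonabelian case. -/
theorem nonabelian_case (e : EssCtx p S A F P x) (hnab : ¬ ∀ a ∈ P, ∀ b ∈ P, a * b = b * a) :
    P ⊓ A = zTwo S ∧ zTwo S ≤ A ∧ ((centralizerIn S S).subgroupOf (zTwo S)).index = p ∧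
      ∀ y ∈ P, (∀ w ∈ P, y * w = w * y) → y ∈ centralizerIn S S := by
  have hpp : p.Prime := Fact.out
  obtain ⟨D, g₁, hDle, hDc, hidx, hcomm, hK, hg₁, hg₁P, hg₁p, hgen⟩ := e.main_data
  have hDZ : D ≤ centralizerIn S S := by
    intro d hd
    exact e.ctx.mem_zs_of_comm e.xS e.xA (hDle hd).2 (hDc d hd x e.xP).symm
  have hPAZ : ¬ P ⊓ A ≤ centralizerIn S S := by
    intro hle
    apply hnab
    have hP : P ≤ centralizerIn S S ⊔ Subgroup.zpowers x := by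
      rw [e.sup_zpowers]
      exact sup_le_sup_right hle _
    intro a ha b hb
    exact OCtx.zs_sup_zpowers_comm x e.xS a (hP ha) b (hP hb)
  -- `Z(S) = D`
  have hmul := Subgroup.relIndex_mul_relIndex D (centralizerIn S S) (P ⊓ A) hDZ e.zs_le_inf
  have hidx' : D.relIndex (P ⊓ A) = p := hidx
  rw [hidx'] at hmul
  have hZidx : (centralizerIn S S).relIndex (P ⊓ A) = p := by
    have hd : (centralizerIn S S).relIndex (P ⊓ A) ∣ p := ⟨_, by rw [mul_comm]; exact hmul.symm⟩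
    rcases (Nat.dvd_prime hpp).1 hd with h1 | h1
    · exact absurd (Subgroup.relIndex_eq_one.1 h1) hPAZ
    · exact h1
  have hZD : centralizerIn S S ≤ D := by
    rw [hZidx] at hmul
    have : D.relIndex (centralizerIn S S) = 1 := by
      have h2 : D.relIndex (centralizerIn S S) * p = 1 * p := by rw [hmul, one_mul]
      exact Nat.eq_of_mul_eq_mul_right hpp.pos h2
    exact Subgroup.relIndex_eq_one.1 this
  -- the centre of `P`
  have hcenter : ∀ y ∈ P, (∀ w ∈ P, y * w = w * y) → y ∈ centralizerIn S S := by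
    intro y hy hyc
    by_cases hyA : y ∈ A
    · exact e.ctx.mem_zs_of_comm e.xS e.xA hyA (hyc x e.xP).symm
    · exfalso
      apply hnab
      intro w hw w' hw'
      obtain ⟨a, ha, i, rfl⟩ := e.decomp hy hyA hw
      obtain ⟨b, hb, j, rfl⟩ := e.decomp hy hyA hw'
      have hab := e.ctx.comm a ha.2 b hb.2
      have h1 : y ^ i * b = b * y ^ i := by
        have : Commute y b := hyc b hb.1
        exact (this.pow_left i).eq
      have h2 : y ^ j * a = a * y ^ j := by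
        have : Commute y a := hyc a ha.1
        exact (this.pow_left j).eq
      have h3 : y ^ i * y ^ j = y ^ j * y ^ i := by rw [← pow_add, ← pow_add, add_comm]
      calc a * y ^ i * (b * y ^ j) = a * (y ^ i * b) * y ^ j := by group
        _ = a * (b * y ^ i) * y ^ j := by rw [h1]
        _ = (a * b) * (y ^ i * y ^ j) := by group
        _ = (b * a) * (y ^ j * y ^ i) := by rw [hab, h3]
        _ = b * (a * y ^ j) * y ^ i := by group
        _ = b * (y ^ j * a) * y ^ i := by rw [h2]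
        _ = b * y ^ j * (a * y ^ i) := by group
  -- invariance of `Z(S)` under `Aut_F(P)`
  have hinv : ∀ γ ∈ F.autGroup P, ∀ y : P, (y : Ω) ∈ centralizerIn S S →
      ((γ y : P) : Ω) ∈ centralizerIn S S := by
    intro γ _ y hy
    apply hcenter _ (γ y).2
    intro w hw
    have h1 : γ y * γ (γ⁻¹ ⟨w, hw⟩) = γ (γ⁻¹ ⟨w, hw⟩) * γ y := by
      rw [← map_mul, ← map_mul]
      congr 1
      apply Subtype.ext
      exact (zs_comm hy (e.PS (γ⁻¹ ⟨w, hw⟩).2)).symm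
    have h2 : γ (γ⁻¹ ⟨w, hw⟩) = ⟨w, hw⟩ := by simp
    rw [h2] at h1
    exact congrArg Subtype.val h1
  -- `Z₂(S) ≤ A`
  have hZ2A : zTwo S ≤ A := by
    by_contra hz
    apply hg₁P
    apply e.mem_of_stab_zs hinv (e.ctx.le hg₁.1) hg₁.2
    intro y hy
    have := comm_mem_zs_of_zTwo_not_le e.ctx hz (S.inv_mem (e.PS hy)) (e.ctx.le hg₁.1)
    rwa [inv_inv] at this
  -- `P ∩ A = Z₂(S)`
  have hle1 : P ⊓ A ≤ zTwo S := by
    intro a ha
    exact e.ctx.mem_zTwo_of_comm e.xS e.xA ha.2 (hDZ (hcomm a ha.1 x e.xP))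
  have hle2 : zTwo S ≤ P ⊓ A := by
    intro z hz
    have hzS := zTwo_le S hz
    have hzA := hZ2A hz
    have hmv : ∀ y ∈ P, y⁻¹ * z * y * z⁻¹ ∈ centralizerIn S S := by
      intro y hy
      have h1 := (mem_zTwo_iff.1 hz).2 y (e.PS hy)
      have h2 : y⁻¹ * z * y * z⁻¹ = y⁻¹ * (z * y * z⁻¹ * y⁻¹) * y := by group
      rw [h2, zs_comm h1 (S.inv_mem (e.PS hy)), inv_mul_cancel_right]
      exact h1
    have hzN : z ∈ Subgroup.normalizer (P : Set Ω) := by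
      apply mem_normalizer_of_conj_mem
      · intro y hy
        have h1 := (mem_zTwo_iff.1 hz).2 y (e.PS hy)
        have : z * y * z⁻¹ = (z * y * z⁻¹ * y⁻¹) * y := by group
        rw [this]
        exact P.mul_mem (e.zs_le h1) hy
      · intro y hy
        have h1 := (mem_zTwo_iff.1 (Subgroup.inv_mem _ hz)).2 y (e.PS hy)
        rw [inv_inv] at h1
        have : z⁻¹ * y * z = (z⁻¹ * y * z * y⁻¹) * y := by group
        rw [this]
        exact P.mul_mem (e.zs_le h1) hy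
    exact ⟨e.mem_of_stab_zs hinv hzS hzN hmv, hzA⟩
  have heq : P ⊓ A = zTwo S := le_antisymm hle1 hle2
  refine ⟨heq, hZ2A, ?_, hcenter⟩
  rw [← heq]
  exact hZidx

/-- In the abelian case also, `Z₂(S) ≤ A` and `|Z₂(S) : Z(S)| = p`. -/
theorem abelian_case (e : EssCtx p S A F P x) (hab : ∀ a ∈ P, ∀ b ∈ P, a * b = b * a) :
    zTwo S ≤ A ∧ ((centralizerIn S S).subgroupOf (zTwo S)).index = p ∧
      A ⊓ Subgroup.normalizer (P : Set Ω) = zTwo S := by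
  have hPA := e.inf_eq_of_abelian hab
  -- elements with central commutators normalize `P`
  have hnorm : ∀ z ∈ S, (∀ y ∈ P, z * y * z⁻¹ * y⁻¹ ∈ centralizerIn S S) →
      (∀ y ∈ P, z⁻¹ * y * z * y⁻¹ ∈ centralizerIn S S) →
      z ∈ Subgroup.normalizer (P : Set Ω) := by
    intro z _ h1 h2
    apply mem_normalizer_of_conj_mem
    · intro y hy
      have : z * y * z⁻¹ = (z * y * z⁻¹ * y⁻¹) * y := by group
      rw [this]
      exact P.mul_mem (e.zs_le (h1 y hy)) hy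
    · intro y hy
      have : z⁻¹ * y * z = (z⁻¹ * y * z * y⁻¹) * y := by group
      rw [this]
      exact P.mul_mem (e.zs_le (h2 y hy)) hy
  have hZ2A : zTwo S ≤ A := by
    by_contra hz
    have hcm := fun {s t : Ω} (hs : s ∈ S) (ht : t ∈ S) =>
      comm_mem_zs_of_zTwo_not_le e.ctx hz hs ht
    have hN : normalizerIn S P = S := by
      apply le_antisymm inf_le_left
      intro s hs
      refine ⟨hs, hnorm s hs (fun y hy => hcm hs (e.PS hy)) (fun y hy => ?_)⟩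
      have := hcm (S.inv_mem hs) (e.PS hy)
      rwa [inv_inv] at this
    have hidx := e.index_normalizer
    rw [hN] at hidx
    exact e.ctx.not_index_of_not_le e.PS hab e.xP e.xA hidx
  have hNA : A ⊓ Subgroup.normalizer (P : Set Ω) = zTwo S := by
    apply le_antisymm
    · intro g hg
      have hm := e.mov_mem hg e.xP
      rw [hPA] at hm
      apply e.ctx.mem_zTwo_of_comm e.xS e.xA hg.1
      have h2 : g * x * g⁻¹ * x⁻¹ = x * (x⁻¹ * g * x * g⁻¹) * x⁻¹ := by group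
      rw [h2, zs_comm hm e.xS, mul_inv_cancel_right]
      exact hm
    · intro z hz
      refine ⟨hZ2A hz, hnorm z (zTwo_le S hz) (fun y hy => (mem_zTwo_iff.1 hz).2 y (e.PS hy))
        (fun y hy => ?_)⟩
      have h1 := (mem_zTwo_iff.1 (Subgroup.inv_mem _ hz)).2 y (e.PS hy)
      rwa [inv_inv] at h1
  refine ⟨hZ2A, ?_, hNA⟩
  have := e.index_inf_normalizer
  rwa [hPA, hNA] at this

/-- Summary. -/
theorem summary (e : EssCtx p S A F P x) :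
    (P.subgroupOf (normalizerIn S P)).index = p ∧ zTwo S ≤ A ∧
      ((centralizerIn S S).subgroupOf (zTwo S)).index = p ∧
      (P ⊓ A = centralizerIn S S ∨ P ⊓ A = zTwo S) ∧ P = (P ⊓ A) ⊔ Subgroup.zpowers x := by
  by_cases hab : ∀ a ∈ P, ∀ b ∈ P, a * b = b * a
  · obtain ⟨h1, h2, -⟩ := e.abelian_case hab
    exact ⟨e.index_normalizer, h1, h2, Or.inl (e.inf_eq_of_abelian hab), e.sup_zpowers⟩
  · obtain ⟨h1, h2, h3, -⟩ := e.nonabelian_case hab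
    exact ⟨e.index_normalizer, h2, h3, Or.inr h1, e.sup_zpowers⟩

end EssCtx

end Cfsg.Agent.Lib.H26.Oliver
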