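import Mathlib
import Cfsg.Prelude.Def_FusionSystem
import Cfsg.Agent.Lib.H26.SmallCenterRefl

set_option autoImplicit false

/-!
Complements in `Z(S)` of a characteristic subgroup `L ≤ Z(S)` of order `p` which carry a
"reflection" in `Aut_F(S)` (an automorphism inverting `L` and centralizing the complement): for odd `p`
there is at most one (helper26; generalizes `SmallCenterRefl`).
-/

namespace Cfsg.Agent.Lib.H26.Oliver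

open Cfsg Cfsg.FusionSystem Cfsg.Agent.Lib.H25 Cfsg.Agent.Lib.H26.SmallCenter

variable {Ω : Type*} [Group Ω] {S : Subgroup Ω} {p : ℕ} [Fact p.Prime] [Finite S]

/-- A complement `C` of `L` in `Z(S)` together with an automorphism in `Aut_F(S)` inverting `L` and
centralizing `C`. -/
def IsReflL (F : FusionSystem S) (L C : Subgroup Ω) : Prop :=
  C ≤ centralizerIn S S ∧ (∀ z ∈ centralizerIn S S, ∃ l ∈ L, ∃ c ∈ C, z = l * c) ∧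
  L ⊓ C = ⊥ ∧
  ∃ γ ∈ F.autGroup S, (∀ z : S, (z : Ω) ∈ L → ((γ z : S) : Ω) = (z : Ω)⁻¹) ∧
    ∀ z : S, (z : Ω) ∈ C → γ z = z

/-- Two complements carrying reflections coincide, for odd `p`. -/
theorem IsReflL.le_of_odd (hp2 : p ≠ 2) (hS : IsPGroup p S) {F : FusionSystem S}
    (hF : F.IsSaturated p) {L : Subgroup Ω} (hLZ : L ≤ centralizerIn S S)
    (hcard : Nat.card L = p) {C₁ C₂ : Subgroup Ω}
    (h1 : IsReflL F L C₁) (h2 : IsReflL F L C₂) : C₂ ≤ C₁ := by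
  obtain ⟨n, hn, hpow⟩ := exists_pow_mem_inn hS hF
  obtain ⟨hC1Z, hdec1, -, γ₁, hγ₁, hinv1, hfix1⟩ := h1
  obtain ⟨hC2Z, -, -, γ₂, hγ₂, hinv2, hfix2⟩ := h2
  intro c hc
  have hcZ := hC2Z hc
  obtain ⟨l, hl, c₁, hc₁, hclc⟩ := hdec1 c hcZ
  have hlS : l ∈ S := zs_le S (hLZ hl)
  have hc₁S : c₁ ∈ S := zs_le S (hC1Z hc₁)
  have hcS : c ∈ S := zs_le S hcZ
  have hγl : (γ₁ * γ₂) ⟨l, hlS⟩ = ⟨l, hlS⟩ := by
    rw [MulAut.mul_apply]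
    have e2 : γ₂ ⟨l, hlS⟩ = ⟨l, hlS⟩⁻¹ := Subtype.ext (hinv2 ⟨l, hlS⟩ hl)
    have e1 : γ₁ ⟨l, hlS⟩ = ⟨l, hlS⟩⁻¹ := Subtype.ext (hinv1 ⟨l, hlS⟩ hl)
    rw [e2, map_inv, e1, inv_inv]
  have hγc : (γ₁ * γ₂) ⟨c, hcS⟩ = ⟨c, hcS⟩ * (⟨l, hlS⟩⁻¹ * ⟨l, hlS⟩⁻¹) := by
    rw [MulAut.mul_apply, hfix2 ⟨c, hcS⟩ hc]
    have e0 : (⟨c, hcS⟩ : S) = ⟨l, hlS⟩ * ⟨c₁, hc₁S⟩ := Subtype.ext hclc
    have e1 : γ₁ ⟨l, hlS⟩ = ⟨l, hlS⟩⁻¹ := Subtype.ext (hinv1 ⟨l, hlS⟩ hl)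
    rw [e0, map_mul, e1, hfix1 ⟨c₁, hc₁S⟩ hc₁]
    apply Subtype.ext
    show l⁻¹ * c₁ = l * c₁ * (l⁻¹ * l⁻¹)
    have hcomm : l⁻¹ * c₁ = c₁ * l⁻¹ := (zs_comm (hC1Z hc₁) (S.inv_mem hlS))
    symm
    calc l * c₁ * (l⁻¹ * l⁻¹) = l * (c₁ * l⁻¹) * l⁻¹ := by group
      _ = l * (l⁻¹ * c₁) * l⁻¹ := by rw [hcomm]
      _ = c₁ * l⁻¹ := by group
      _ = l⁻¹ * c₁ := hcomm.symm
  have hγm : (γ₁ * γ₂) (⟨l, hlS⟩⁻¹ * ⟨l, hlS⟩⁻¹) = ⟨l, hlS⟩⁻¹ * ⟨l, hlS⟩⁻¹ := by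
    rw [map_mul, map_inv, hγl]
  have hiter : ∀ k : ℕ, ((γ₁ * γ₂) ^ k) ⟨c, hcS⟩ =
      ⟨c, hcS⟩ * (⟨l, hlS⟩⁻¹ * ⟨l, hlS⟩⁻¹) ^ k := by
    intro k
    induction k with
    | zero => simp
    | succ k ih =>
      rw [pow_succ', MulAut.mul_apply, ih, map_mul, map_pow, hγm, hγc, pow_succ', mul_assoc]
  have hγn := hpow _ (Subgroup.mul_mem _ hγ₁ hγ₂)
  obtain ⟨s, hs, hγs⟩ := (mem_autInducedBy_iff S S _).1 hγn
  have hfixc : ((γ₁ * γ₂) ^ n) ⟨c, hcS⟩ = ⟨c, hcS⟩ := by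
    apply Subtype.ext
    rw [hγs]
    show s * c * s⁻¹ = c
    rw [zs_comm hcZ hs, mul_inv_cancel_right]
  rw [hiter n] at hfixc
  have hmn : (⟨l, hlS⟩⁻¹ * ⟨l, hlS⟩⁻¹ : S) ^ n = 1 := by
    have := mul_left_cancel (a := (⟨c, hcS⟩ : S)) (b := (⟨l, hlS⟩⁻¹ * ⟨l, hlS⟩⁻¹ : S) ^ n)
      (c := 1) (by rw [mul_one]; exact hfixc)
    exact this
  have hfinL : Finite L := finite_of_le S (hLZ.trans (zs_le S))
  have hlp : l ^ p = 1 := by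
    have : (⟨l, hl⟩ : L) ^ Nat.card L = 1 := pow_card_eq_one'
    rw [hcard] at this
    exact congrArg Subtype.val this
  have hmp : (⟨l, hlS⟩⁻¹ * ⟨l, hlS⟩⁻¹ : S) ^ p = 1 := by
    apply Subtype.ext
    show (l⁻¹ * l⁻¹) ^ p = 1
    rw [← sq, ← pow_mul, mul_comm, pow_mul, inv_pow, hlp]
    simp
  have hm1 : (⟨l, hlS⟩⁻¹ * ⟨l, hlS⟩⁻¹ : S) = 1 := by
    have h1 := orderOf_dvd_of_pow_eq_one hmn
    have h2 := orderOf_dvd_of_pow_eq_one hmp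
    have h3 := Nat.dvd_gcd h1 h2
    rw [Nat.Coprime] at hn
    rw [hn, Nat.dvd_one] at h3
    exact orderOf_eq_one_iff.1 h3
  have hl2 : l ^ 2 = 1 := by
    have := congrArg Subtype.val hm1
    have h4 : l⁻¹ * l⁻¹ = 1 := this
    rw [← sq, inv_pow, inv_eq_one] at h4
    exact h4
  have hl1 : l = 1 := by
    have h1 := orderOf_dvd_of_pow_eq_one hl2
    have h2 := orderOf_dvd_of_pow_eq_one hlp
    have h3 := Nat.dvd_gcd h1 h2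
    have hcop : Nat.gcd 2 p = 1 := by
      have hpp : p.Prime := Fact.out
      rw [Nat.gcd_comm]
      exact (Nat.Prime.coprime_iff_not_dvd hpp).2 (fun hd =>
        hp2 ((Nat.prime_dvd_prime_iff_eq hpp Nat.prime_two).1 hd))
    rw [hcop, Nat.dvd_one] at h3
    exact orderOf_eq_one_iff.1 h3
  rw [hclc, hl1, one_mul]
  exact hc₁

/-- The image of a complement carrying a reflection under an element of `Aut_F(S)` is again such a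
complement, when `L` is invariant under automorphisms of `S`. -/
theorem IsReflL.map {F : FusionSystem S} {L C : Subgroup Ω}
    (hLinv : ∀ β : MulAut S, ∀ z : S, (z : Ω) ∈ L → ((β z : S) : Ω) ∈ L)
    (h1 : IsReflL F L C) {β : MulAut S} (hβ : β ∈ F.autGroup S) : IsReflL F L (imgAut β C) := by
  obtain ⟨hCZ, hdec, hdis, γ, hγ, hinv, hfix⟩ := h1
  refine ⟨?_, ?_, ?_, β * γ * β⁻¹, ?_, ?_, ?_⟩
  · intro y hy
    obtain ⟨c, hc, rfl⟩ := mem_imgAut.1 hy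
    exact aut_zs_mem β (hCZ hc)
  · intro z hz
    have hzS : z ∈ S := zs_le S hz
    have h2 : ((β⁻¹ ⟨z, hzS⟩ : S) : Ω) ∈ centralizerIn S S := aut_zs_mem β⁻¹ hz
    obtain ⟨l, hl, c, hc, hlc⟩ := hdec _ h2
    have hlS : l ∈ S := by
      have : l = ((β⁻¹ ⟨z, hzS⟩ : S) : Ω) * c⁻¹ := by rw [hlc]; group
      rw [this]
      exact S.mul_mem (β⁻¹ ⟨z, hzS⟩).2 (S.inv_mem (zs_le S (hCZ hc)))
    have hcS : c ∈ S := zs_le S (hCZ hc)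
    refine ⟨((β ⟨l, hlS⟩ : S) : Ω), hLinv β ⟨l, hlS⟩ hl, ((β ⟨c, hcS⟩ : S) : Ω),
      mem_imgAut.2 ⟨⟨c, hcS⟩, hc, rfl⟩, ?_⟩
    have h3 : β⁻¹ ⟨z, hzS⟩ = ⟨l, hlS⟩ * ⟨c, hcS⟩ := Subtype.ext hlc
    have h4 := congrArg β h3
    rw [map_mul] at h4
    have h5 : β (β⁻¹ ⟨z, hzS⟩) = ⟨z, hzS⟩ := by simp
    rw [h5] at h4
    exact congrArg Subtype.val h4
  · rw [eq_bot_iff]
    rintro y ⟨hy1, hy2⟩
    rw [Subgroup.mem_bot]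
    obtain ⟨c, hc, rfl⟩ := mem_imgAut.1 hy2
    have h2 : ((β⁻¹ (β c) : S) : Ω) ∈ L := hLinv β⁻¹ (β c) hy1
    have h3 : β⁻¹ (β c) = c := by simp
    rw [h3] at h2
    have h4 : (c : Ω) ∈ L ⊓ C := ⟨h2, hc⟩
    rw [hdis, Subgroup.mem_bot] at h4
    have h5 : c = 1 := Subtype.ext h4
    rw [h5, map_one]
    rfl
  · exact Subgroup.mul_mem _ (Subgroup.mul_mem _ hβ hγ) (Subgroup.inv_mem _ hβ)
  · intro z hz
    show ((β (γ (β⁻¹ z)) : S) : Ω) = (z : Ω)⁻¹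
    have h2 : ((β⁻¹ z : S) : Ω) ∈ L := hLinv β⁻¹ z hz
    have h3 : γ (β⁻¹ z) = (β⁻¹ z)⁻¹ := Subtype.ext (hinv _ h2)
    rw [h3, map_inv]
    simp
  · intro z hz
    obtain ⟨c, hc, hcz⟩ := mem_imgAut.1 hz
    have h2 : z = β c := Subtype.ext hcz.symm
    show β (γ (β⁻¹ z)) = z
    rw [h2]
    have h3 : β⁻¹ (β c) = c := by simp
    rw [h3, hfix c hc]

/-- `Z(S) ∩ [S,S]` is invariant under automorphisms of `S`. -/
theorem aut_zs_inf_derS_mem (β : MulAut S) (z : S) (hz : (z : Ω) ∈ centralizerIn S S ⊓ derS S) :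
    ((β z : S) : Ω) ∈ centralizerIn S S ⊓ derS S :=
  ⟨aut_zs_mem β hz.1, aut_derS_mem β hz.2⟩

end Cfsg.Agent.Lib.H26.Oliver
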