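import Mathlib
import Cfsg.Prelude.Def_FusionSystem
import Cfsg.Agent.Lib.H26.OliverEss
import Cfsg.Agent.Lib.H26.OliverCount
import Cfsg.Agent.Lib.H26.OliverRefl
import Cfsg.Agent.Lib.H26.OliverAgree

set_option autoImplicit false

/-!
Oliver's setting: essential subgroups of the form `R = Z(S)⟨x⟩` (type `H`). The automizer `Aut_S(R)`
is generated by a transvection `u`; two non-commuting conjugates of `u` give a decomposition
`Z(S) = (Z(S) ∩ [S,S]) × C` and a reflection in `Aut_F(S)` (helper26).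
-/

namespace Cfsg.Agent.Lib.H26.Oliver

open Cfsg Cfsg.FusionSystem Cfsg.Agent.Lib.H25 Cfsg.Agent.Lib.H26 Cfsg.Agent.Lib.H26.SmallCenter
  Cfsg.Agent.Lib.H26.AutSylow Cfsg.Agent.Lib.H26.TransvPair

variable {Ω : Type*} [Group Ω] {S A : Subgroup Ω} {p : ℕ} [Fact p.Prime] [Finite S]

/-- If `Aut_S(E)` is generated by `u`, then `u` and a conjugate of `u` outside `Aut_S(E)` do not
generate a `p`-group. -/
theorem not_isPGroup_closure_of_cyclic {F : FusionSystem S} {E : Subgroup Ω}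
    (hfa : F.IsFullyAutomized p E) {u g : MulAut E}
    (hu : u ∈ autInducedBy S E) (hcyc : autInducedBy S E ≤ Subgroup.zpowers u)
    (hg : g ∈ F.autGroup E) (hv : g * u * g⁻¹ ∉ autInducedBy S E) :
    ¬ IsPGroup p (Subgroup.closure ({u, g * u * g⁻¹} : Set (MulAut E))) := by
  intro hK
  have hES : E ≤ S := hfa.1
  have hfinE : Finite E := finite_of_le S hES
  have huA : u ∈ F.autGroup E := autInducedBy_le_autGroup F hES hu
  have hvA : g * u * g⁻¹ ∈ F.autGroup E :=
    Subgroup.mul_mem _ (Subgroup.mul_mem _ hg huA) (Subgroup.inv_mem _ hg)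
  have hKA : Subgroup.closure ({u, g * u * g⁻¹} : Set (MulAut E)) ≤ F.autGroup E := by
    rw [Subgroup.closure_le]
    rintro α (rfl | hα)
    · exact huA
    · rw [Set.mem_singleton_iff] at hα
      rw [hα]; exact hvA
  obtain ⟨a, -, ha⟩ := IsFullyAutomized_exists_conj hfa _ hK hKA
  have hu_mem : u ∈ Subgroup.closure ({u, g * u * g⁻¹} : Set (MulAut E)) :=
    Subgroup.subset_closure (Set.mem_insert _ _)
  have hv_mem : g * u * g⁻¹ ∈ Subgroup.closure ({u, g * u * g⁻¹} : Set (MulAut E)) :=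
    Subgroup.subset_closure (Set.mem_insert_of_mem _ rfl)
  have hZK : Subgroup.zpowers u ≤ Subgroup.closure ({u, g * u * g⁻¹} : Set (MulAut E)) :=
    (Subgroup.zpowers_le).2 hu_mem
  have hmaps : ∀ k ∈ Subgroup.zpowers u, a * k * a⁻¹ ∈ Subgroup.zpowers u :=
    fun k hk => hcyc (ha k (hZK hk))
  let c : Subgroup.zpowers u → Subgroup.zpowers u := fun k => ⟨a * k * a⁻¹, hmaps k k.2⟩
  have hcinj : Function.Injective c := by
    intro k k' hkk'
    have := congrArg Subtype.val hkk'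
    have h2 : a * (k : MulAut E) * a⁻¹ = a * (k' : MulAut E) * a⁻¹ := this
    apply Subtype.ext
    have h3 := mul_right_cancel h2
    exact mul_left_cancel h3
  have hcsurj : Function.Surjective c := Finite.injective_iff_surjective.1 hcinj
  have hva : a * (g * u * g⁻¹) * a⁻¹ ∈ Subgroup.zpowers u := hcyc (ha _ hv_mem)
  obtain ⟨k, hk⟩ := hcsurj ⟨_, hva⟩
  have hk' : a * (k : MulAut E) * a⁻¹ = a * (g * u * g⁻¹) * a⁻¹ := congrArg Subtype.val hk
  have hk'' : (k : MulAut E) = g * u * g⁻¹ := mul_left_cancel (mul_right_cancel hk')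
  apply hv
  rw [← hk'']
  exact (Subgroup.zpowers_le.2 hu) k.2

/-- Data for an essential subgroup of type `H`. -/
structure HData (p : ℕ) (S A : Subgroup Ω) (F : FusionSystem S) (R : Subgroup Ω) (x g : Ω) :
    Prop where
  ess : EssCtx p S A F R x
  inf_eq : R ⊓ A = centralizerIn S S
  gN : g ∈ A ⊓ Subgroup.normalizer (R : Set Ω)
  gR : g ∉ R

theorem exists_hdata {F : FusionSystem S} {R : Subgroup Ω} {x : Ω} (e : EssCtx p S A F R x)
    (hinf : R ⊓ A = centralizerIn S S) : ∃ g, HData p S A F R x g := by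
  obtain ⟨g, hg, hgR⟩ := e.exists_normalizer_not_mem
  exact ⟨g, e, hinf, hg, hgR⟩

namespace HData

variable {F : FusionSystem S} {R : Subgroup Ω} {x g : Ω}

theorem RS (d : HData p S A F R x g) : R ≤ S := d.ess.PS

theorem ab (d : HData p S A F R x g) : ∀ a ∈ R, ∀ b ∈ R, a * b = b * a := by
  have hR : R ≤ centralizerIn S S ⊔ Subgroup.zpowers x := by
    have := d.ess.sup_zpowers
    rw [d.inf_eq] at this
    exact this.le
  intro a ha b hb
  exact OCtx.zs_sup_zpowers_comm x d.ess.xS a (hR ha) b (hR hb)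

theorem hcR (d : HData p S A F R x g) : ∀ a b : R, a * b = b * a :=
  fun a b => Subtype.ext (d.ab a a.2 b b.2)

/-- The automorphism of `R` induced by `g`. -/
def uAut (d : HData p S A F R x g) : MulAut R := cAut R g d.gN.2

theorem uAut_coe (d : HData p S A F R x g) (r : R) : ((d.uAut r : R) : Ω) = g * r * g⁻¹ := rfl

theorem gS (d : HData p S A F R x g) : g ∈ S := d.ess.ctx.le d.gN.1

theorem uAut_mem (d : HData p S A F R x g) : d.uAut ∈ autInducedBy S R :=
  cAut_mem_autInducedBy d.gS _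

theorem mem_fixSub_uAut (d : HData p S A F R x g) (r : R) :
    r ∈ fixSub d.uAut ↔ (r : Ω) ∈ centralizerIn S S := by
  rw [mem_fixSub]
  constructor
  · intro hr
    have h1 : g * (r : Ω) * g⁻¹ = r := congrArg Subtype.val hr
    have h2 : (r : Ω) * g = g * r := by
      calc (r : Ω) * g = (g * r * g⁻¹) * g := by rw [h1]
        _ = g * r := by group
    by_cases hrA : (r : Ω) ∈ A
    · rw [← d.inf_eq]
      exact ⟨r.2, hrA⟩
    · exfalso
      apply d.gR
      exact d.ess.zs_le (d.ess.ctx.mem_zs_of_comm (d.RS r.2) hrA d.gN.1 h2)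
  · intro hr
    apply Subtype.ext
    show g * (r : Ω) * g⁻¹ = r
    rw [zs_comm hr d.gS, mul_inv_cancel_right]

theorem fixSub_uAut (d : HData p S A F R x g) :
    fixSub d.uAut = (centralizerIn S S).subgroupOf R := by
  ext r
  rw [d.mem_fixSub_uAut, Subgroup.mem_subgroupOf]

theorem index_fixSub_uAut (d : HData p S A F R x g) : (fixSub d.uAut).index = p := by
  rw [d.fixSub_uAut, ← d.inf_eq]
  exact d.ess.index_inf

theorem mov_mem_zs (d : HData p S A F R x g) (r : R) :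
    (((r⁻¹ * d.uAut r : R) : R) : Ω) ∈ centralizerIn S S := by
  have := d.ess.mov_mem d.gN r.2
  rw [d.inf_eq] at this
  have e1 : (((r⁻¹ * d.uAut r : R) : R) : Ω) = (r : Ω)⁻¹ * g * r * g⁻¹ := by
    show (r : Ω)⁻¹ * (g * r * g⁻¹) = _
    group
  rw [e1]
  exact this

theorem uAut_fix (d : HData p S A F R x g) (r : R) :
    d.uAut (r⁻¹ * d.uAut r) = r⁻¹ * d.uAut r :=
  (d.mem_fixSub_uAut _).2 (d.mov_mem_zs r)

/-- `Aut_S(R)` is generated by `u`. -/
theorem autInducedBy_le_zpowers (d : HData p S A F R x g) :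
    autInducedBy S R ≤ Subgroup.zpowers d.uAut := by
  intro α hα
  obtain ⟨s, hs, hαs⟩ := (mem_autInducedBy_iff S R α).1 hα
  have hsN : s ∈ normalizerIn S R := ⟨hs, mem_normalizer_of_induces hαs⟩
  obtain ⟨g', hg', y, hy, rfl⟩ := d.ess.normalizer_decomp hsN
  have hn : A ⊓ Subgroup.normalizer (R : Set Ω) ≤
      Subgroup.normalizer ((R ⊓ A : Subgroup Ω) : Set Ω) := by
    intro k hk
    apply mem_normalizer_of_conj_mem
    · intro a ha
      rw [d.ess.fix_of_mem hk.1 ha]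
      exact ha
    · intro a ha
      have := d.ess.fix_of_mem (A.inv_mem hk.1) ha
      rw [inv_inv] at this
      rw [this]
      exact ha
  obtain ⟨j, hj⟩ := IndexPrime.exists_pow_inv_mul_mem hn d.ess.index_inf_normalizer d.gN
    (fun h => d.gR h.1) hg'
  rw [d.inf_eq] at hj
  have : α = d.uAut ^ j := by
    ext r
    rw [hαs]
    have hpow : ∀ n : ℕ, ∀ w : R, (((d.uAut ^ n) w : R) : Ω) = g ^ n * w * (g ^ n)⁻¹ := by
      intro n
      induction n with
      | zero => intro w; simp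
      | succ n ih =>
        intro w
        rw [pow_succ', MulAut.mul_apply, d.uAut_coe, ih, pow_succ']
        group
    rw [hpow]
    have h1 : y * (r : Ω) * y⁻¹ = r := by
      rw [d.ab y hy r r.2, mul_inv_cancel_right]
    -- `g' = g ^ j z` with `z` central
    obtain ⟨z, hz⟩ : ∃ z : Ω, z = (g ^ j)⁻¹ * g' := ⟨_, rfl⟩
    have hzZ : z ∈ centralizerIn S S := hz ▸ hj
    have hg'z : g' = g ^ j * z := by rw [hz]; group
    have h2 : z * (r : Ω) * z⁻¹ = r := by
      rw [← zs_comm hzZ (d.RS r.2), mul_inv_cancel_right]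
    calc g' * y * (r : Ω) * (g' * y)⁻¹ = g' * (y * (r : Ω) * y⁻¹) * g'⁻¹ := by group
      _ = g' * (r : Ω) * g'⁻¹ := by rw [h1]
      _ = g ^ j * (z * (r : Ω) * z⁻¹) * (g ^ j)⁻¹ := by rw [hg'z]; group
      _ = g ^ j * r * (g ^ j)⁻¹ := by rw [h2]
  rw [this]
  exact Subgroup.pow_mem _ (Subgroup.mem_zpowers _) j

/-- Some conjugate of `u` is not in `Aut_S(R)`. -/
theorem exists_moving (d : HData p S A F R x g) :
    ∃ δ ∈ F.autGroup R, δ * d.uAut * δ⁻¹ ∉ autInducedBy S R := by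
  by_contra hcon
  push Not at hcon
  apply autInducedBy_not_normal_of_essential d.ess.pgrp d.ess.sat d.ess.ess
  intro α hα τ hτ
  obtain ⟨j, hj⟩ := d.autInducedBy_le_zpowers hτ
  have hj' : d.uAut ^ j = τ := hj
  rw [← hj', ← conj_zpow]
  exact Subgroup.zpow_mem _ (hcon α hα) j

/-- The transvection pair. -/
theorem setup (d : HData p S A F R x g) {δ : MulAut R} (hδ : δ ∈ F.autGroup R)
    (hv : δ * d.uAut * δ⁻¹ ∉ autInducedBy S R) :
    haveI : Finite R := finite_of_le S d.RS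
    Setup p d.uAut (δ * d.uAut * δ⁻¹) (movSub d.hcR d.uAut) (movSub d.hcR (δ * d.uAut * δ⁻¹)) := by
  haveI : Finite R := finite_of_le S d.RS
  obtain ⟨-, hfa⟩ := fullyNormalized_props d.ess.pgrp d.ess.sat d.ess.ess.2.1
  exact setup_of_conj d.hcR (d.ess.pgrp.to_le d.RS) d.uAut δ d.index_fixSub_uAut d.uAut_fix
    (not_isPGroup_closure_of_cyclic hfa d.uAut_mem d.autInducedBy_le_zpowers hδ hv)

theorem card_R (d : HData p S A F R x g) : Nat.card R = p * Nat.card (centralizerIn S S) := by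
  haveI : Finite R := finite_of_le S d.RS
  have := IndexPrime.card_eq (inf_le_left : R ⊓ A ≤ R) d.ess.index_inf
  rwa [d.inf_eq] at this

/-- `[R,u] = Z(S) ∩ [S,S]`. -/
theorem movSub_map (d : HData p S A F R x g) :
    (movSub d.hcR d.uAut).map R.subtype = centralizerIn S S ⊓ derS S := by
  haveI : Finite R := finite_of_le S d.RS
  obtain ⟨-, hZ2A, hidx, -, -⟩ := d.ess.summary
  have hle : (movSub d.hcR d.uAut).map R.subtype ≤ centralizerIn S S ⊓ derS S := by
    rintro _ ⟨_, ⟨r, rfl⟩, rfl⟩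
    refine ⟨d.mov_mem_zs r, ?_⟩
    have e1 : (((r⁻¹ * d.uAut r : R) : R) : Ω) = (r : Ω)⁻¹ * g * ((r : Ω)⁻¹)⁻¹ * g⁻¹ := by
      show (r : Ω)⁻¹ * (g * r * g⁻¹) = _
      group
    show (((r⁻¹ * d.uAut r : R) : R) : Ω) ∈ derS S
    rw [e1]
    exact comm_mem_derS (S.inv_mem (d.RS r.2)) d.gS
  haveI : Finite ↥(centralizerIn S S ⊓ derS S) :=
    finite_of_le S (inf_le_left.trans (SmallCenter.zs_le S))
  apply Subgroup.eq_of_le_of_card_ge hle
  rw [d.ess.ctx.card_zs_inf_derS hZ2A hidx, Subgroup.card_map_of_injective R.subtype_injective,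
    card_movSub, d.index_fixSub_uAut]

/-- The subgroup `Z(S) ∩ δ(Z(S))` of `R`, as a subgroup of `Ω`. -/
def cSubH (d : HData p S A F R x g) (δ : MulAut R) : Subgroup Ω :=
  (fixSub d.uAut ⊓ fixSub (δ * d.uAut * δ⁻¹)).map R.subtype

theorem mem_fixSub_conj_iff (d : HData p S A F R x g) (δ : MulAut R) (r : R) :
    r ∈ fixSub (δ * d.uAut * δ⁻¹) ↔ ((δ⁻¹ r : R) : Ω) ∈ centralizerIn S S := by
  rw [fixSub_conj, ← d.mem_fixSub_uAut]
  constructor
  · rintro ⟨r', hr', rfl⟩
    have : δ⁻¹ (δ.toMonoidHom r') = r' := by simp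
    rw [this]
    exact hr'
  · intro hr
    exact ⟨δ⁻¹ r, hr, by simp⟩

theorem mem_cSubH (d : HData p S A F R x g) (δ : MulAut R) {y : Ω} :
    y ∈ d.cSubH δ ↔ ∃ hy : y ∈ R, y ∈ centralizerIn S S ∧
      ((δ⁻¹ ⟨y, hy⟩ : R) : Ω) ∈ centralizerIn S S := by
  constructor
  · rintro ⟨r, ⟨hr1, hr2⟩, rfl⟩
    exact ⟨r.2, (d.mem_fixSub_uAut r).1 hr1, (d.mem_fixSub_conj_iff δ r).1 hr2⟩
  · rintro ⟨hy, h1, h2⟩
    exact ⟨⟨y, hy⟩, ⟨(d.mem_fixSub_uAut _).2 h1, (d.mem_fixSub_conj_iff δ _).2 h2⟩, rfl⟩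

/-- The complement attached to a type `H` essential subgroup and a moving automorphism carries a
reflection. -/
theorem isReflL (d : HData p S A F R x g)
    (hagree : ∀ {P Q : Subgroup Ω} {f : Ω → Ω}, IsIso F P Q f →
      p * Nat.card (centralizerIn S S) < Nat.card P → centralizerIn S S ≤ P →
      ∃ γ ∈ F.autGroup S, ∀ z : S, (z : Ω) ∈ centralizerIn S S → f z = ((γ z : S) : Ω))
    {δ : MulAut R} (hδ : δ ∈ F.autGroup R) (hv : δ * d.uAut * δ⁻¹ ∉ autInducedBy S R) :
    IsReflL F (centralizerIn S S ⊓ derS S) (d.cSubH δ) := by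
  have hRS : R ≤ S := d.RS
  haveI hfinR : Finite R := finite_of_le S hRS
  have hset := d.setup hδ hv
  have hc := d.hcR
  have hmov := d.movSub_map
  have hZR : centralizerIn S S ≤ R := d.ess.zs_le
  refine ⟨?_, ?_, ?_, ?_⟩
  · rintro _ ⟨r, ⟨hr1, -⟩, rfl⟩
    exact (d.mem_fixSub_uAut r).1 hr1
  · intro z hz
    have hzR : z ∈ R := hZR hz
    have h1 : (⟨z, hzR⟩ : R) ∈ fixSub d.uAut := (d.mem_fixSub_uAut _).2 hz
    rw [hset.fix_u_eq] at h1
    haveI := normal_of_comm hc (fixSub d.uAut ⊓ fixSub (δ * d.uAut * δ⁻¹))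
    obtain ⟨l', hl', c', hc', hlc⟩ := Subgroup.mem_sup_of_normal_right.1 h1
    refine ⟨(l' : Ω), ?_, (c' : Ω), ⟨c', hc', rfl⟩, ?_⟩
    · rw [← hmov]
      exact ⟨l', hl', rfl⟩
    · have := congrArg Subtype.val hlc
      exact this.symm
  · rw [eq_bot_iff]
    rintro y ⟨hy1, hy2⟩
    rw [Subgroup.mem_bot]
    have hy1' : y ∈ centralizerIn S S ⊓ derS S := hy1
    rw [← hmov] at hy1'
    obtain ⟨l', hl', rfl⟩ := hy1'
    obtain ⟨c', hc', hcl⟩ := hy2
    have : c' = l' := Subtype.ext hcl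
    subst this
    have hmem : c' ∈ (movSub hc d.uAut ⊔ movSub hc (δ * d.uAut * δ⁻¹)) ⊓
        (fixSub d.uAut ⊓ fixSub (δ * d.uAut * δ⁻¹)) :=
      ⟨le_sup_left (a := movSub hc d.uAut) hl', hc'⟩
    rw [hset.inf_eq_bot, Subgroup.mem_bot] at hmem
    rw [hmem]
    rfl
  · obtain ⟨r, hr_mem, hrW, hrC⟩ := hset.exists_reflection
    have huA : d.uAut ∈ F.autGroup R := autInducedBy_le_autGroup F hRS d.uAut_mem
    have hvA : δ * d.uAut * δ⁻¹ ∈ F.autGroup R :=
      Subgroup.mul_mem _ (Subgroup.mul_mem _ hδ huA) (Subgroup.inv_mem _ hδ)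
    have hrA : r ∈ F.autGroup R := by
      have hle : Subgroup.closure ({d.uAut, δ * d.uAut * δ⁻¹} : Set (MulAut R)) ≤
          F.autGroup R := by
        rw [Subgroup.closure_le]
        rintro α (rfl | hα)
        · exact huA
        · rw [Set.mem_singleton_iff] at hα
          rw [hα]; exact hvA
      exact hle hr_mem
    obtain ⟨hfc, -⟩ := fullyNormalized_props d.ess.pgrp d.ess.sat d.ess.ess.2.1
    have hrec := isReceptive_of_fullyCentralized d.ess.pgrp d.ess.sat hfc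
    -- `r` commutes with `u`
    have hru : r * d.uAut = d.uAut * r := by
      ext w
      have := reflection_comm hc hset.sup_eq_top (τ := d.uAut) hrW hrC ?_ ?_ w
      · exact congrArg Subtype.val this
      · intro w hw
        have h2 : d.uAut w = w * (w⁻¹ * d.uAut w) := by group
        rw [h2]
        exact Subgroup.mul_mem _ hw (le_sup_left (a := movSub hc d.uAut) ⟨w, rfl⟩)
      · intro c hcC
        exact hcC.1
    have hnorm : ∀ t ∈ autInducedBy S R, r * t * r⁻¹ ∈ autInducedBy S R := by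
      intro t ht
      obtain ⟨j, hj⟩ := d.autInducedBy_le_zpowers ht
      have hj' : d.uAut ^ j = t := hj
      have h1 : r * d.uAut * r⁻¹ = d.uAut := by rw [hru, mul_inv_cancel_right]
      have h2 : r * t * r⁻¹ = t := by rw [← hj', ← conj_zpow, h1]
      rw [h2]
      exact ht
    obtain ⟨f', N', hf', hf'R⟩ := extend_normalizing hrec hrA hnorm
    have hne : R ≠ S := essential_ne_top d.ess.pgrp d.ess.sat d.ess.ess
    have hlt : R < normalizerIn S R := by
      obtain ⟨k, hkN, hkR⟩ := exists_mem_normalizerIn_not_mem d.ess.pgrp hRS hne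
      refine lt_of_le_of_ne (le_normalizerIn hRS) ?_
      intro h
      exact hkR (h ▸ hkN)
    have hcard : Nat.card R < Nat.card (normalizerIn S R) := card_lt_of_lt' inf_le_left hlt
    rw [d.card_R] at hcard
    obtain ⟨γ, hγ, hγz⟩ := hagree hf' hcard (hZR.trans hlt.le)
    have hLu_of : ∀ y : R, (y : Ω) ∈ centralizerIn S S ⊓ derS S → y ∈ movSub hc d.uAut := by
      intro y hy
      rw [← hmov] at hy
      obtain ⟨y', hy', hyy'⟩ := hy
      have : y' = y := Subtype.ext hyy'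
      rw [← this]; exact hy'
    refine ⟨γ, hγ, fun z hz => ?_, fun z hz => ?_⟩
    · have hzR : (z : Ω) ∈ R := hZR hz.1
      rw [← hγz z hz.1, hf'R ⟨z, hzR⟩]
      have := hrW ⟨z, hzR⟩ (le_sup_left (a := movSub hc d.uAut) (hLu_of ⟨z, hzR⟩ hz))
      exact congrArg Subtype.val this
    · obtain ⟨c', hc', hcz⟩ := hz
      have hzZ : (z : Ω) ∈ centralizerIn S S := by
        rw [← hcz]
        exact (d.mem_fixSub_uAut c').1 hc'.1
      apply Subtype.ext
      rw [← hγz z hzZ]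
      have hzR : (z : Ω) ∈ R := hZR hzZ
      rw [hf'R ⟨z, hzR⟩]
      have h1 : (⟨(z : Ω), hzR⟩ : R) = c' := Subtype.ext hcz.symm
      rw [h1, hrC c' hc']
      exact hcz

end HData

end Cfsg.Agent.Lib.H26.Oliver
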