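import Mathlib
import Cfsg.Prelude.Def_FusionSystem
import Cfsg.Agent.Lib.H25.NormalInd
import Cfsg.Agent.Lib.H26.OliverH

set_option autoImplicit false

/-!
Oliver's setting with `O_p(F) = 1` and `A` not essential: some `Z(S)⟨x⟩` is essential,
`Z(S) ≤ [S,S]` and `S` has maximal class (helper26).
-/

namespace Cfsg.Agent.Lib.H26.Oliver

open Cfsg Cfsg.FusionSystem Cfsg.Agent.Lib.H25 Cfsg.Agent.Lib.H26 Cfsg.Agent.Lib.H26.SmallCenter
  Cfsg.Agent.Lib.H26.AutSylow Cfsg.Agent.Lib.H26.TransvPair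

variable {Ω : Type*} [Group Ω] {S A : Subgroup Ω} {p : ℕ} [Fact p.Prime] [Finite S]

/-- If the centre of `P` (inside `Ω`) is `Z(S)`, then `Z(S)` is invariant under `Aut(P)`. -/
theorem zs_invariant_of_center {P : Subgroup Ω} (hPS : P ≤ S)
    (hcenter : ∀ y ∈ P, (∀ w ∈ P, y * w = w * y) → y ∈ centralizerIn S S)
    (γ : MulAut P) (y : P) (hy : (y : Ω) ∈ centralizerIn S S) :
    ((γ y : P) : Ω) ∈ centralizerIn S S := by
  apply hcenter _ (γ y).2
  intro w hw
  have h1 : γ y * γ (γ⁻¹ ⟨w, hw⟩) = γ (γ⁻¹ ⟨w, hw⟩) * γ y := by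
    rw [← map_mul, ← map_mul]
    congr 1
    apply Subtype.ext
    exact (zs_comm hy (hPS (γ⁻¹ ⟨w, hw⟩).2)).symm
  have h2 : γ (γ⁻¹ ⟨w, hw⟩) = ⟨w, hw⟩ := by simp
  rw [h2] at h1
  exact congrArg Subtype.val h1

/-- `Z(S) ≠ 1`. -/
theorem zs_ne_bot (h : OCtx p S A) : centralizerIn S S ≠ ⊥ := by
  haveI : Nontrivial S := by
    by_contra hnt
    rw [not_nontrivial_iff_subsingleton] at hnt
    apply h.nonab
    intro a ha b hb
    have h1 : (⟨a, ha⟩ : S) = ⟨b, hb⟩ := Subsingleton.elim _ _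
    have h2 : a = b := congrArg Subtype.val h1
    rw [h2]
  haveI := h.pgrp.center_nontrivial
  obtain ⟨z, hz⟩ := exists_ne (1 : Subgroup.center ↥S)
  intro hbot
  apply hz
  have h1 : ((z : S) : Ω) ∈ centralizerIn S S := (mem_center_iff_coe _).1 z.2
  rw [hbot, Subgroup.mem_bot] at h1
  apply Subtype.ext
  apply Subtype.ext
  exact h1

/-- The standing hypotheses of the main theorem. -/
structure MCtx (p : ℕ) (S A : Subgroup Ω) (F : FusionSystem S) : Prop where
  ctx : OCtx p S A
  sat : F.IsSaturated p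
  core : F.core = ⊥
  notEss : ¬ F.IsEssential p A
  odd : p ≠ 2

namespace MCtx

variable {F : FusionSystem S}

theorem exists_essCtx (m : MCtx p S A F) {T : Subgroup Ω} (hT : F.IsEssential p T) :
    ∃ x, EssCtx p S A F T x :=
  Oliver.exists_essCtx m.ctx m.sat hT (fun h => m.notEss (h ▸ hT))

/-- Essential subgroups of order `> p |Z(S)|` contain `Z(S)` as an invariant subgroup. -/
theorem hess (m : MCtx p S A F) (T : Subgroup Ω) (hT : F.IsEssential p T)
    (hn : p * Nat.card (centralizerIn S S) < Nat.card T) :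
    centralizerIn S S ≤ T ∧ ∀ γ ∈ F.autGroup T, ∀ y : T, (y : Ω) ∈ centralizerIn S S →
      ((γ y : T) : Ω) ∈ centralizerIn S S := by
  obtain ⟨x, e⟩ := m.exists_essCtx hT
  refine ⟨e.zs_le, fun γ _ y hy => ?_⟩
  by_cases hab : ∀ a ∈ T, ∀ b ∈ T, a * b = b * a
  · exfalso
    haveI : Finite T := finite_of_le S e.PS
    have h1 := IndexPrime.card_eq (inf_le_left : T ⊓ A ≤ T) e.index_inf
    rw [e.inf_eq_of_abelian hab] at h1
    omega
  · obtain ⟨-, -, -, hcenter⟩ := e.nonabelian_case hab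
    exact zs_invariant_of_center e.PS hcenter γ y hy

theorem hagree (m : MCtx p S A F) {P Q : Subgroup Ω} {f : Ω → Ω} (hf : IsIso F P Q f)
    (hn : p * Nat.card (centralizerIn S S) < Nat.card P) (hZ : centralizerIn S S ≤ P) :
    ∃ γ ∈ F.autGroup S, ∀ z : S, (z : Ω) ∈ centralizerIn S S → f z = ((γ z : S) : Ω) :=
  agree_on_center m.ctx.pgrp m.sat _ m.hess hf hn hZ

/-- Some essential subgroup has type `H`. -/
theorem exists_typeH (m : MCtx p S A F) :
    ∃ (T : Subgroup Ω) (x : Ω), EssCtx p S A F T x ∧ T ⊓ A = centralizerIn S S := by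
  by_contra hcon
  push Not at hcon
  have hnormal : F.IsNormal (centralizerIn S S) := by
    apply isNormal_of_essential m.ctx.pgrp m.sat
    rintro T (rfl | hT)
    · exact ⟨zs_le T, fun α _ y hy => aut_zs_mem α hy⟩
    · obtain ⟨x, e⟩ := m.exists_essCtx hT
      have hnab : ¬ ∀ a ∈ T, ∀ b ∈ T, a * b = b * a :=
        fun hab => hcon T x e (e.inf_eq_of_abelian hab)
      obtain ⟨-, -, -, hcenter⟩ := e.nonabelian_case hnab
      exact ⟨e.zs_le, fun α _ y hy => zs_invariant_of_center e.PS hcenter α y hy⟩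
  have hle : centralizerIn S S ≤ F.core := le_sSup hnormal
  rw [m.core, le_bot_iff] at hle
  exact zs_ne_bot m.ctx hle

/-- The main step: `Z(S) ≤ [S,S]`. -/
theorem zs_le_derS (m : MCtx p S A F) : centralizerIn S S ≤ derS S := by
  have hS := m.ctx.pgrp
  have hF := m.sat
  obtain ⟨R₁, x₁, e₁, hinf₁⟩ := m.exists_typeH
  obtain ⟨g₁, d₁⟩ := exists_hdata e₁ hinf₁
  obtain ⟨δ₁, hδ₁, hv₁⟩ := d₁.exists_moving
  obtain ⟨-, hZ2A, hidx, -, -⟩ := e₁.summary
  have hcard := m.ctx.card_zs_inf_derS hZ2A hidx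
  have hLZ : centralizerIn S S ⊓ derS S ≤ centralizerIn S S := inf_le_left
  have hC := d₁.isReflL (fun hf hn hZ => m.hagree hf hn hZ) hδ₁ hv₁
  set C := d₁.cSubH δ₁ with hCdef
  have huniq : ∀ C' : Subgroup Ω, IsReflL F (centralizerIn S S ⊓ derS S) C' → C ≤ C' :=
    fun C' hC' => IsReflL.le_of_odd m.odd hS hF hLZ hcard hC' hC
  have hnormal : F.IsNormal C := by
    apply isNormal_of_essential_ind hS hF
    rintro T hT IH
    rcases hT with rfl | hT
    · refine ⟨hC.1.trans (zs_le _), fun α hα y hy => ?_⟩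
      have h1 : ((α y : T) : Ω) ∈ imgAut α C := mem_imgAut.2 ⟨y, hy, rfl⟩
      exact IsReflL.le_of_odd m.odd hS hF hLZ hcard hC (hC.map aut_zs_inf_derS_mem hα) h1
    · obtain ⟨x, e⟩ := m.exists_essCtx hT
      have hTS : T ≤ S := e.PS
      haveI hfinT : Finite T := finite_of_le S hTS
      have hCT : C ≤ T := hC.1.trans e.zs_le
      refine ⟨hCT, fun α hα y hy => ?_⟩
      obtain ⟨hfc, hfa⟩ := fullyNormalized_props hS hF hT.2.1
      have hrec := isReceptive_of_fullyCentralized hS hF hfc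
      -- conjugates of `Aut_S(T)` fix `C` pointwise
      have hX : ∀ δ ∈ F.autGroup T, ∀ t ∈ autInducedBy S T, δ * t * δ⁻¹ ∈ fixZ T C := by
        intro δ hδ t ht
        have hfixS : ∀ τ ∈ autInducedBy S T, ∀ w : T, (w : Ω) ∈ centralizerIn S S → τ w = w := by
          intro τ hτ w hw
          obtain ⟨s, hs, hτs⟩ := (mem_autInducedBy_iff S T τ).1 hτ
          apply Subtype.ext
          rw [hτs, zs_comm hw hs, mul_inv_cancel_right]
        by_cases hab : ∀ a ∈ T, ∀ b ∈ T, a * b = b * a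
        · -- type `H`
          obtain ⟨g, d⟩ := exists_hdata e (e.inf_eq_of_abelian hab)
          obtain ⟨j, hj⟩ := d.autInducedBy_le_zpowers ht
          have hj' : d.uAut ^ j = t := hj
          rw [← hj', ← conj_zpow]
          apply Subgroup.zpow_mem
          by_cases hv : δ * d.uAut * δ⁻¹ ∈ autInducedBy S T
          · intro w hw
            exact hfixS _ hv w (hC.1 hw)
          · have hC' := d.isReflL (fun hf hn hZ => m.hagree hf hn hZ) hδ hv
            have hle := huniq _ hC'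
            intro w hw
            obtain ⟨hwT, -, hδw⟩ := (d.mem_cSubH δ).1 (hle hw)
            show δ (d.uAut (δ⁻¹ w)) = w
            have h1 : d.uAut (δ⁻¹ w) = δ⁻¹ w := hfixS _ d.uAut_mem _ hδw
            rw [h1]
            simp
        · -- type `B`
          obtain ⟨-, -, -, hcenter⟩ := e.nonabelian_case hab
          intro w hw
          show δ (t (δ⁻¹ w)) = w
          have h1 := zs_invariant_of_center hTS hcenter δ⁻¹ w (hC.1 hw)
          rw [hfixS t ht _ h1]
          simp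
      obtain ⟨l, hl, -, ν, hν, hνn, hαlν⟩ := frattini_decomp hfa _ hX hα
      obtain ⟨f', N', hf', hf'T⟩ := extend_normalizing hrec hν hνn
      have hne : T ≠ S := essential_ne_top hS hF hT
      have hlt : T < normalizerIn S T := by
        obtain ⟨k, hkN, hkT⟩ := exists_mem_normalizerIn_not_mem hS hTS hne
        refine lt_of_le_of_ne (le_normalizerIn hTS) ?_
        intro h
        exact hkT (h ▸ hkN)
      have hcardT : Nat.card T < Nat.card (normalizerIn S T) := card_lt_of_lt' inf_le_left hlt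
      have h2 := IH _ _ _ hcardT (hCT.trans hlt.le) hf' y hy
      rw [hf'T y] at h2
      rw [hαlν, MulAut.mul_apply, hl _ h2]
      exact h2
  have hbot : C = ⊥ := by
    rw [eq_bot_iff, ← m.core]
    exact le_sSup hnormal
  intro z hz
  obtain ⟨l, hl, c, hc, hlc⟩ := hC.2.1 z hz
  rw [hbot, Subgroup.mem_bot] at hc
  rw [hlc, hc, mul_one]
  exact hl.2

/-- Some `Z(S)⟨x⟩` is essential. -/
theorem exists_essential (m : MCtx p S A F) :
    ∃ x ∈ S, x ∉ A ∧ F.IsEssential p (centralizerIn S S ⊔ Subgroup.zpowers x) := by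
  obtain ⟨T, x, e, hinf⟩ := m.exists_typeH
  refine ⟨x, e.xS, e.xA, ?_⟩
  have := e.sup_zpowers
  rw [hinf] at this
  rw [← this]
  exact e.ess

/-- If `[L, S] = 1` with `L ≤ S` then `L ≤ Z(S)`. -/
theorem le_zs_of_commutator_eq_bot {L : Subgroup Ω} (hLS : L ≤ S) (hbot : ⁅L, S⁆ = ⊥) :
    L ≤ centralizerIn S S := by
  intro l hl
  rw [centralizerIn, Subgroup.mem_inf, Subgroup.mem_centralizer_iff]
  refine ⟨hLS hl, fun s hs => ?_⟩
  have h1 := Subgroup.commutator_mem_commutator hl hs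
  rw [hbot, Subgroup.mem_bot, commutatorElement_def] at h1
  calc s * l = (l * s * l⁻¹ * s⁻¹)⁻¹ * (l * s) := by group
    _ = l * s := by rw [h1, inv_one, one_mul]

/-- `S` has maximal class. -/
theorem lcs_ne_bot (m : MCtx p S A F) (n : ℕ) (hn : Nat.card S = p ^ n) (h3 : 3 ≤ n) :
    Subgroup.lowerCentralSeries S (n - 2) ≠ ⊥ := by
  have hpp : p.Prime := Fact.out
  obtain ⟨T, x, e, -⟩ := m.exists_typeH
  obtain ⟨-, hZ2A, hidx, -, -⟩ := e.summary
  have hcard := m.ctx.card_zs_inf_derS hZ2A hidx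
  have hZeq : centralizerIn S S ⊓ derS S = centralizerIn S S := inf_eq_left.2 m.zs_le_derS
  rw [hZeq] at hcard
  intro hbot
  have hk : n - 2 = (n - 3) + 1 := by omega
  rw [hk, Subgroup.lowerCentralSeries_succ] at hbot
  have hLS : Subgroup.lowerCentralSeries S (n - 3) ≤ S := by
    have := Subgroup.lowerCentralSeries_antitone S (Nat.zero_le (n - 3))
    rwa [Subgroup.lowerCentralSeries_zero] at this
  have hle := le_zs_of_commutator_eq_bot hLS hbot
  by_cases hn3 : n = 3
  · subst hn3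
    apply m.ctx.nonab
    intro a ha b hb
    have h0 : (3 : ℕ) - 3 = 0 := rfl
    rw [h0, Subgroup.lowerCentralSeries_zero] at hle
    exact (zs_comm (hle hb) ha)
  · have hidxS : ((centralizerIn S S).subgroupOf S).index = p ^ (n - 1) := by
      have h1 := ((centralizerIn S S).subgroupOf S).index_mul_card
      have h2 : Nat.card ((centralizerIn S S).subgroupOf S) = Nat.card (centralizerIn S S) :=
        Nat.card_congr (Subgroup.subgroupOfEquivOfLe (SmallCenter.zs_le S)).toEquiv
      rw [h2, hcard, hn] at h1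
      have h3' : p ^ n = p ^ (n - 1) * p := by
        rw [← pow_succ]
        congr 1
        omega
      rw [h3'] at h1
      exact Nat.eq_of_mul_eq_mul_right hpp.pos h1
    have := m.ctx.lcs_not_le hZ2A hidx (n - 1) hidxS (by omega)
    apply this
    have h4 : n - 1 - 2 = n - 3 := by omega
    rw [h4]
    exact hle

end MCtx

end Cfsg.Agent.Lib.H26.Oliver
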