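import Mathlib
import Cfsg.Prelude.Def_FusionSystem
import Cfsg.Prelude.Def_PLocal
import Cfsg.Agent.Lib.H25.Fusion
import Cfsg.Agent.Lib.H25.Normal
import Cfsg.Agent.Lib.H25.NormalSeries
import Cfsg.Agent.Lib.H25.Stability
import Cfsg.Agent.Lib.H26.SmallExponent
import Cfsg.Agent.Lib.H26.SmallFocal
import Cfsg.Agent.S5080

set_option autoImplicit false
set_option linter.unusedSectionVars false

/-!
A strongly closed subgroup `P` (for odd `p`) is normal in a saturated fusion system as soon as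
`Ω₁(P)` has a series of strongly closed subgroups centralized by `P` (helper26).
-/

namespace Cfsg.Agent.Lib.H26

open Cfsg Cfsg.FusionSystem Cfsg.Agent.Lib.H25
open scoped commutatorElement

variable {Ω : Type*} [Group Ω] {S : Subgroup Ω}

/-- The terms of a series of strongly closed subgroups of the strongly closed subgroup `P`, with
`[U (i+1), P] ≤ U i`, lie in every essential subgroup. -/
theorem series_le_essential [Finite S] {p : ℕ} [Fact p.Prime] (hS : IsPGroup p S)
    {F : FusionSystem S} (hF : F.IsSaturated p) {P : Subgroup Ω} (hPsc : F.StronglyClosed P)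
    (U : ℕ → Subgroup Ω) (n : ℕ) (hU0 : U 0 = ⊥)
    (hmono : ∀ i < n, U i ≤ U (i + 1)) (hsc : ∀ i ≤ n, F.StronglyClosed (U i))
    (hUP : ∀ i ≤ n, U i ≤ P) (hcomm : ∀ i < n, ⁅U (i + 1), P⁆ ≤ U i)
    {T : Subgroup Ω} (hT : F.IsEssential p T) : ∀ i ≤ n, U i ≤ T := by
  have hPS : P ≤ S := hPsc.1
  have hPn := stronglyClosed_le_normalizer hPsc
  have hc := hT.1
  have hr := Cfsg.Agent.S5080.result p hS F hF T hT
  have hTS := hc.1
  have hfinT : Finite T := finite_of_le S hTS
  have hTp : IsPGroup p T := hS.to_le hTS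
  intro i
  induction i with
  | zero => intro _; rw [hU0]; exact bot_le
  | succ i ih =>
    intro hi
    have hCS : U (i + 1) ≤ S := (hUP (i + 1) hi).trans hPS
    have hCn : S ≤ Subgroup.normalizer ((U (i + 1) : Subgroup Ω) : Set Ω) :=
      stronglyClosed_le_normalizer (hsc (i + 1) hi)
    -- the chain
    let V : ℕ → Subgroup Ω := fun j => if j ≤ i then U j else if j = i + 1 then P else S
    have hV1 : ∀ j ≤ i, V j = U j := fun j hj => if_pos hj
    have hV2 : V (i + 1) = P := by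
      show (if i + 1 ≤ i then U (i + 1) else if i + 1 = i + 1 then P else S) = P
      rw [if_neg (by omega), if_pos rfl]
    have hV3 : V (i + 2) = S := by
      show (if i + 2 ≤ i then U (i + 2) else if i + 2 = i + 1 then P else S) = S
      rw [if_neg (by omega), if_neg (by omega)]
    have hVinv : ∀ j, ∀ α ∈ F.autGroup T, ∀ x : T, (x : Ω) ∈ V j → ((α x : T) : Ω) ∈ V j := by
      intro j α hα x hx
      by_cases hj : j ≤ i
      · rw [hV1 j hj] at hx ⊢
        exact stronglyClosed_aut_mem' (hsc j (by omega)) hTS hα x hx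
      · by_cases hj' : j = i + 1
        · subst hj'
          rw [hV2] at hx ⊢
          exact stronglyClosed_aut_mem' hPsc hTS hα x hx
        · have : V j = S := by
            show (if j ≤ i then U j else if j = i + 1 then P else S) = S
            rw [if_neg hj, if_neg hj']
          rw [this]
          exact hTS (α x).2
    let W : ℕ → Subgroup T := fun j => (V j).subgroupOf T
    have hinv : ∀ α ∈ F.autGroup T, ∀ j, ∀ x ∈ W j, α x ∈ W j := by
      intro α hα j x hx
      exact Subgroup.mem_subgroupOf.2 (hVinv j α hα x (Subgroup.mem_subgroupOf.1 hx))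
    have hW0 : W 0 = ⊥ := by
      show (V 0).subgroupOf T = ⊥
      rw [hV1 0 (Nat.zero_le i), hU0]
      exact Subgroup.bot_subgroupOf T
    have hWm : W (i + 2) = ⊤ := by
      show (V (i + 2)).subgroupOf T = ⊤
      rw [hV3]
      exact Subgroup.subgroupOf_eq_top.2 hTS
    have hWmono : ∀ j < i + 2, W j ≤ W (j + 1) := by
      intro j hj x hx
      rw [Subgroup.mem_subgroupOf] at hx ⊢
      by_cases h1 : j < i
      · rw [hV1 j (by omega)] at hx
        rw [hV1 (j + 1) (by omega)]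
        exact hmono j (by omega) hx
      · by_cases h2 : j = i
        · subst h2
          rw [hV1 j le_rfl] at hx
          rw [hV2]
          exact hUP j (by omega) hx
        · have h3 : j = i + 1 := by omega
          subst h3
          rw [hV3]
          exact hTS x.2
    refine le_of_centric_radical_of_normalizer hS hCS hCn hc hr
      (stabSub (F.autGroup T) W (i + 2) hinv) (stabSub_le _ _ _ _)
      (fun α hα β hβ => stabSub_conj_mem _ _ _ _ hα hβ)
      (stabSub_isPGroup hTp _ W (i + 2) hinv hW0 hWmono hWm) ?_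
    intro g hgC hgN
    have hgP : g ∈ P := hUP (i + 1) hi hgC
    have hgNS : g ∈ normalizerIn S T := ⟨hCS hgC, hgN⟩
    obtain ⟨β, hβA, hβg⟩ := exists_mem_autGroup_of_isIso F (isIso_conj_normalizer F hTS hgNS)
    refine ⟨β, ⟨hβA, fun j hj x hx => ?_⟩, hβg⟩
    rw [Subgroup.mem_subgroupOf] at hx ⊢
    have hval : ((x⁻¹ * β x : T) : Ω) = (x : Ω)⁻¹ * (g * (x : Ω) * g⁻¹) := by
      rw [Subgroup.coe_mul, Subgroup.coe_inv, hβg]
    rw [hval]
    by_cases h1 : j < i
    · rw [hV1 (j + 1) (by omega)] at hx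
      rw [hV1 j (by omega)]
      apply hcomm j (by omega)
      have hx' : (x : Ω)⁻¹ ∈ U (j + 1) := Subgroup.inv_mem _ hx
      have h4 : ⁅(x : Ω)⁻¹, g⁆ ∈ ⁅U (j + 1), P⁆ := Subgroup.commutator_mem_commutator hx' hgP
      have h6 : ⁅(x : Ω)⁻¹, g⁆ = (x : Ω)⁻¹ * (g * (x : Ω) * g⁻¹) := by
        rw [commutatorElement_def]; group
      rwa [h6] at h4
    · by_cases h2 : j = i
      · subst h2
        rw [hV2] at hx
        rw [hV1 j le_rfl]
        apply hcomm j (by omega)
        have hx' : (x : Ω)⁻¹ ∈ P := Subgroup.inv_mem _ hx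
        have h4 : ⁅g, (x : Ω)⁻¹⁆ ∈ ⁅U (j + 1), P⁆ := Subgroup.commutator_mem_commutator hgC hx'
        have h5 := Subgroup.inv_mem _ h4
        have h6 : (⁅g, (x : Ω)⁻¹⁆)⁻¹ = (x : Ω)⁻¹ * (g * (x : Ω) * g⁻¹) := by
          rw [commutatorElement_def]; group
        rwa [h6] at h5
      · have h3 : j = i + 1 := by omega
        subst h3
        rw [hV2]
        have hxS : (x : Ω) ∈ S := hTS x.2
        have h1 : (x : Ω)⁻¹ * g * ((x : Ω)⁻¹)⁻¹ ∈ P :=
          (Subgroup.mem_normalizer_iff.1 (hPn (S.inv_mem hxS)) g).1 hgP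
        have h2 : (x : Ω)⁻¹ * (g * (x : Ω) * g⁻¹) = ((x : Ω)⁻¹ * g * ((x : Ω)⁻¹)⁻¹) * g⁻¹ := by
          group
        rw [h2]
        exact P.mul_mem h1 (P.inv_mem hgP)

/-- For odd `p` (more generally without the order `4` clause), a strongly closed subgroup `P` with
a series of strongly closed subgroups of `Ω₁(P)` centralized by `P` lies in every essential
subgroup. -/
theorem le_essential_of_omega_series [Finite S] {p : ℕ} [Fact p.Prime] (hS : IsPGroup p S)
    {F : FusionSystem S} (hF : F.IsSaturated p) (hp : p ≠ 2) {P : Subgroup Ω}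
    (hPsc : F.StronglyClosed P)
    (U : ℕ → Subgroup Ω) (n : ℕ) (hU0 : U 0 = ⊥) (hUn : U n = omegaOne p P)
    (hmono : ∀ i < n, U i ≤ U (i + 1)) (hsc : ∀ i ≤ n, F.StronglyClosed (U i))
    (hcomm : ∀ i < n, ⁅U (i + 1), P⁆ ≤ U i)
    {T : Subgroup Ω} (hT : F.IsEssential p T) : P ≤ T := by
  have hPS : P ≤ S := hPsc.1
  have hPn := stronglyClosed_le_normalizer hPsc
  have hc := hT.1
  have hr := Cfsg.Agent.S5080.result p hS F hF T hT
  have hTS := hc.1
  have hfinT : Finite T := finite_of_le S hTS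
  have hTp : IsPGroup p T := hS.to_le hTS
  have hOmP : omegaOne p P ≤ P := by
    unfold omegaOne
    rw [Subgroup.closure_le]
    exact fun x hx => hx.1
  have hmono' : ∀ i j, i ≤ j → j ≤ n → U i ≤ U j := by
    intro i j hij
    induction j, hij using Nat.le_induction with
    | base => intro _; exact le_rfl
    | succ j hij ih =>
      intro hj
      exact (ih (by omega)).trans (hmono j (by omega))
  have hUP : ∀ i ≤ n, U i ≤ P := fun i hi => (hmono' i n hi le_rfl).trans (hUn ▸ hOmP)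
  have hUT := series_le_essential hS hF hPsc U n hU0 hmono hsc hUP hcomm hT
  -- the two stabilizers
  let W : ℕ → Subgroup T := fun j => (U (min j n)).subgroupOf T
  have hinvW : ∀ α ∈ F.autGroup T, ∀ j, ∀ x ∈ W j, α x ∈ W j := by
    intro α hα j x hx
    exact Subgroup.mem_subgroupOf.2
      (stronglyClosed_aut_mem' (hsc _ (Nat.min_le_right j n)) hTS hα x (Subgroup.mem_subgroupOf.1 hx))
  let W' : ℕ → Subgroup T := fun j => if j = 0 then P.subgroupOf T else ⊤
  have hinvW' : ∀ α ∈ F.autGroup T, ∀ j, ∀ x ∈ W' j, α x ∈ W' j := by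
    intro α hα j x hx
    by_cases hj : j = 0
    · subst hj
      have hx' : x ∈ P.subgroupOf T := hx
      show α x ∈ P.subgroupOf T
      exact Subgroup.mem_subgroupOf.2
        (stronglyClosed_aut_mem' hPsc hTS hα x (Subgroup.mem_subgroupOf.1 hx'))
    · show α x ∈ (if j = 0 then P.subgroupOf T else ⊤)
      rw [if_neg hj]
      exact Subgroup.mem_top _
  set B₁ := stabSub (F.autGroup T) W n hinvW with hB₁
  set B₂ := stabSub (F.autGroup T) W' 1 hinvW' with hB₂
  have hB₁mem : ∀ γ ∈ B₁, ∀ j < n, ∀ x : T, (x : Ω) ∈ U (j + 1) →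
      ((x⁻¹ * γ x : T) : Ω) ∈ U j := by
    intro γ hγ j hj x hx
    have h1 := hγ.2 j hj x (by
      show x ∈ (U (min (j + 1) n)).subgroupOf T
      rw [Nat.min_eq_left (by omega)]
      exact Subgroup.mem_subgroupOf.2 hx)
    have h2 : x⁻¹ * γ x ∈ (U (min j n)).subgroupOf T := h1
    rw [Nat.min_eq_left (by omega)] at h2
    exact Subgroup.mem_subgroupOf.1 h2
  have hB₂mem : ∀ γ ∈ B₂, ∀ x : T, ((x⁻¹ * γ x : T) : Ω) ∈ P := by
    intro γ hγ x
    have h1 := hγ.2 0 (by norm_num) x (by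
      show x ∈ (if (0 + 1) = 0 then P.subgroupOf T else ⊤)
      rw [if_neg (by norm_num)]
      exact Subgroup.mem_top _)
    have h2 : x⁻¹ * γ x ∈ P.subgroupOf T := h1
    exact Subgroup.mem_subgroupOf.1 h2
  have hcoprime : ∀ γ ∈ B₁ ⊓ B₂, Nat.Coprime (orderOf γ) p → γ = 1 := by
    rintro γ ⟨hγ1, hγ2⟩ hcop
    have hγA : γ ∈ F.autGroup T := hγ1.1
    have hfixU : ∀ j ≤ n, ∀ x : T, (x : Ω) ∈ U j → γ x = x := by
      intro j
      induction j with
      | zero =>
        intro _ x hx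
        rw [hU0, Subgroup.mem_bot] at hx
        have : x = 1 := Subtype.ext hx
        rw [this, map_one]
      | succ j ih =>
        intro hj x hx
        have h1 := hB₁mem γ hγ1 j (by omega) x hx
        exact fix_of_fixes_comm γ hcop x
          (by obtain ⟨k, hk⟩ := hTp (x⁻¹ * γ x); exact ⟨k, hk⟩) (ih (by omega) _ h1)
    let P₀ : Subgroup T := P.subgroupOf T
    have hP₀inv : ∀ x ∈ P₀, γ x ∈ P₀ := fun x hx =>
      Subgroup.mem_subgroupOf.2
        (stronglyClosed_aut_mem' hPsc hTS hγA x (Subgroup.mem_subgroupOf.1 hx))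
    have hγ₀ : restrictAut γ P₀ hP₀inv = 1 := by
      apply aut_eq_one_of_fix_small (hTp.to_subgroup P₀)
      · exact Nat.Coprime.coprime_dvd_left (orderOf_restrictAut_dvd γ P₀ hP₀inv) hcop
      · intro y hy
        apply Subtype.ext
        rw [restrictAut_apply]
        apply hfixU n le_rfl
        rw [hUn]
        apply Subgroup.subset_closure
        refine ⟨Subgroup.mem_subgroupOf.1 y.2, ?_⟩
        rcases hy with hy | ⟨hp2, -⟩
        · have := congrArg Subtype.val (congrArg Subtype.val hy)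
          simpa using this
        · exact absurd hp2 hp
    have hfixP₀ : ∀ x ∈ P₀, γ x = x := by
      intro x hx
      have h5 : ((restrictAut γ P₀ hP₀inv ⟨x, hx⟩ : P₀) : T) = γ x := rfl
      rw [hγ₀] at h5
      exact h5.symm
    ext x
    rw [MulAut.one_apply]
    have key := fix_of_fixes_comm γ hcop x
      (by obtain ⟨k, hk⟩ := hTp (x⁻¹ * γ x); exact ⟨k, hk⟩)
      (hfixP₀ _ (Subgroup.mem_subgroupOf.2 (hB₂mem γ hγ2 x)))
    rw [key]
  have hBp : IsPGroup p (B₁ ⊓ B₂ : Subgroup (MulAut T)) :=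
    isPGroup_of_coprime_trivial _ hcoprime
  refine le_of_centric_radical_of_normalizer hS hPS hPn hc hr (B₁ ⊓ B₂)
    (inf_le_left.trans (stabSub_le _ _ _ _)) ?_ hBp ?_
  · rintro α hα β ⟨hβ1, hβ2⟩
    exact ⟨stabSub_conj_mem _ _ _ _ hα hβ1, stabSub_conj_mem _ _ _ _ hα hβ2⟩
  · intro g hgP hgN
    have hgNS : g ∈ normalizerIn S T := ⟨hPS hgP, hgN⟩
    obtain ⟨β, hβA, hβg⟩ := exists_mem_autGroup_of_isIso F (isIso_conj_normalizer F hTS hgNS)
    have hval : ∀ x : T, ((x⁻¹ * β x : T) : Ω) = (x : Ω)⁻¹ * (g * (x : Ω) * g⁻¹) := by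
      intro x
      rw [Subgroup.coe_mul, Subgroup.coe_inv, hβg]
    refine ⟨β, ⟨⟨hβA, fun j hj x hx => ?_⟩, ⟨hβA, fun j hj x _ => ?_⟩⟩, hβg⟩
    · have hx' : (x : Ω) ∈ U (j + 1) := by
        have h1 : x ∈ (U (min (j + 1) n)).subgroupOf T := hx
        rw [Nat.min_eq_left (by omega)] at h1
        exact Subgroup.mem_subgroupOf.1 h1
      show x⁻¹ * β x ∈ (U (min j n)).subgroupOf T
      rw [Nat.min_eq_left (by omega), Subgroup.mem_subgroupOf, hval]
      apply hcomm j hj
      have hx'' : (x : Ω)⁻¹ ∈ U (j + 1) := Subgroup.inv_mem _ hx'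
      have h4 : ⁅(x : Ω)⁻¹, g⁆ ∈ ⁅U (j + 1), P⁆ := Subgroup.commutator_mem_commutator hx'' hgP
      have h6 : ⁅(x : Ω)⁻¹, g⁆ = (x : Ω)⁻¹ * (g * (x : Ω) * g⁻¹) := by
        rw [commutatorElement_def]; group
      rwa [h6] at h4
    · have hj0 : j = 0 := by omega
      subst hj0
      show x⁻¹ * β x ∈ P.subgroupOf T
      rw [Subgroup.mem_subgroupOf, hval]
      have hxS : (x : Ω) ∈ S := hTS x.2
      have h1 : (x : Ω)⁻¹ * g * ((x : Ω)⁻¹)⁻¹ ∈ P :=
        (Subgroup.mem_normalizer_iff.1 (hPn (S.inv_mem hxS)) g).1 hgP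
      have h2 : (x : Ω)⁻¹ * (g * (x : Ω) * g⁻¹) = ((x : Ω)⁻¹ * g * ((x : Ω)⁻¹)⁻¹) * g⁻¹ := by
        group
      rw [h2]
      exact P.mul_mem h1 (P.inv_mem hgP)

end Cfsg.Agent.Lib.H26
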