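import Mathlib
import Cfsg.Prelude
import Cfsg.Agent.Lib.H24.PGalConj1

/-!
# Fields of values of characters of `p`-groups, part A (helper26)

Power twists `tw k φ = (g ↦ φ (g ^ k))` of a function on a group, the set `gorb p φ` of all twists
by exponents prime to `p`, and the orbit-stabiliser count: for a non-principal irreducible
character `χ` of a `p`-group, `#(gorb p χ) = (p - 1) p ^ j`.
-/

set_option autoImplicit false

namespace Cfsg.Agent.Lib.H26.PFld

open Cfsg Cfsg.Agent.Lib.L0 Cfsg.Agent.Lib.H23 Cfsg.Agent.Lib.H24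

section tw

variable {G : Type*} [Group G]

/-- The power twist of a function on a group. -/
def tw (k : ℕ) (φ : G → ℂ) : G → ℂ := fun g => φ (g ^ k)

theorem tw_apply (k : ℕ) (φ : G → ℂ) (g : G) : tw k φ g = φ (g ^ k) := rfl

theorem tw_tw (k l : ℕ) (φ : G → ℂ) : tw k (tw l φ) = tw (k * l) φ := by
  funext g
  simp only [tw, pow_mul]

theorem tw_one (φ : G → ℂ) : tw 1 φ = φ := by
  funext g
  simp only [tw, pow_one]

theorem tw_congr {N : ℕ} (hN : ∀ g : G, g ^ N = 1) {k l : ℕ} (h : k ≡ l [MOD N]) (φ : G → ℂ) :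
    tw k φ = tw l φ := by
  funext g
  show φ (g ^ k) = φ (g ^ l)
  rw [pow_eq_pow_mod k (hN g), pow_eq_pow_mod l (hN g), h]

/-- The set of power twists by exponents prime to `p`. -/
def gorb (p : ℕ) (φ : G → ℂ) : Set (G → ℂ) := {θ | ∃ k : ℕ, k.Coprime p ∧ θ = tw k φ}

theorem self_mem_gorb (p : ℕ) (φ : G → ℂ) : φ ∈ gorb p φ :=
  ⟨1, Nat.coprime_one_left p, (tw_one φ).symm⟩

theorem tw_mem_gorb {p k : ℕ} (hk : k.Coprime p) (φ : G → ℂ) : tw k φ ∈ gorb p φ :=
  ⟨k, hk, rfl⟩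

/-- The action of `(ℤ/N)ˣ` on functions by power twists, when `N` kills the group. -/
@[reducible] def twAction (N : ℕ) (hN : ∀ g : G, g ^ N = 1) : MulAction (ZMod N)ˣ (G → ℂ) where
  smul u φ := tw ((u : ZMod N).val) φ
  one_smul φ := by
    show tw (((1 : (ZMod N)ˣ) : ZMod N).val) φ = φ
    rw [Units.val_one, ZMod.val_one_eq_one_mod, tw_congr hN (Nat.mod_modEq 1 N), tw_one]
  mul_smul u v φ := by
    show tw (((u * v : (ZMod N)ˣ) : ZMod N).val) φ
      = tw ((u : ZMod N).val) (tw ((v : ZMod N).val) φ)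
    rw [tw_tw, Units.val_mul, ZMod.val_mul]
    exact tw_congr hN (Nat.mod_modEq _ N) φ

theorem twAction_smul (N : ℕ) (hN : ∀ g : G, g ^ N = 1) (u : (ZMod N)ˣ) (φ : G → ℂ) :
    (twAction N hN).smul u φ = tw ((u : ZMod N).val) φ := rfl

theorem orbit_eq_gorb (p a : ℕ) (ha : 0 < a) (hN : ∀ g : G, g ^ (p ^ a) = 1)
    (φ : G → ℂ) :
    letI := twAction (p ^ a) hN
    MulAction.orbit (ZMod (p ^ a))ˣ φ = gorb p φ := by
  ext θ
  constructor
  · rintro ⟨u, rfl⟩
    refine ⟨(u : ZMod (p ^ a)).val, ?_, rfl⟩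
    exact Nat.Coprime.coprime_dvd_right (dvd_pow_self p ha.ne') (ZMod.val_coe_unit_coprime u)
  · rintro ⟨k, hk, rfl⟩
    have hk' : k.Coprime (p ^ a) := Nat.Coprime.pow_right a hk
    refine ⟨ZMod.unitOfCoprime k hk', ?_⟩
    show tw ((ZMod.unitOfCoprime k hk' : ZMod (p ^ a)).val) φ = tw k φ
    rw [ZMod.coe_unitOfCoprime, ZMod.val_natCast]
    exact tw_congr hN (Nat.mod_modEq k _) φ

theorem card_units_pow (p a : ℕ) (hp : p.Prime) (ha : 0 < a) :
    Nat.card (ZMod (p ^ a))ˣ = p ^ (a - 1) * (p - 1) := by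
  have : NeZero (p ^ a) := ⟨pow_ne_zero a hp.ne_zero⟩
  rw [Nat.card_eq_fintype_card, ZMod.card_units_eq_totient, Nat.totient_prime_pow hp ha]

theorem card_ker_unitsMap (p a : ℕ) (hp : p.Prime) (ha : 0 < a) :
    Nat.card (ZMod.unitsMap (dvd_pow_self p ha.ne')).ker = p ^ (a - 1) := by
  have : NeZero (p ^ a) := ⟨pow_ne_zero a hp.ne_zero⟩
  have : NeZero p := ⟨hp.ne_zero⟩
  have h1 := Subgroup.card_mul_index (ZMod.unitsMap (dvd_pow_self p ha.ne')).ker
  rw [Subgroup.index_ker, card_units_pow p a hp ha] at h1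
  have h2 : (ZMod.unitsMap (dvd_pow_self p ha.ne')).range = ⊤ :=
    MonoidHom.range_eq_top.mpr (ZMod.unitsMap_surjective (dvd_pow_self p ha.ne'))
  have h3 : Nat.card (ZMod.unitsMap (dvd_pow_self p ha.ne')).range = p - 1 := by
    rw [h2, Subgroup.card_top, Nat.card_eq_fintype_card, ZMod.card_units_eq_totient,
      Nat.totient_prime hp]
  rw [h3] at h1
  have hp1 : 0 < p - 1 := Nat.sub_pos_of_lt hp.one_lt
  exact Nat.eq_of_mul_eq_mul_right hp1 h1

/-- Orbit count: if every exponent fixing `φ` is `≡ 1 mod p`, the number of twists of `φ` is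
`(p - 1) p ^ j`. -/
theorem exists_ncard_gorb (p a : ℕ) (hp : p.Prime) (ha : 0 < a) (hN : ∀ g : G, g ^ (p ^ a) = 1)
    (φ : G → ℂ) (hφ : ∀ k : ℕ, k.Coprime p → tw k φ = φ → k ≡ 1 [MOD p]) :
    ∃ j : ℕ, (gorb p φ).ncard = (p - 1) * p ^ j := by
  have : NeZero (p ^ a) := ⟨pow_ne_zero a hp.ne_zero⟩
  have : NeZero p := ⟨hp.ne_zero⟩
  letI := twAction (p ^ a) hN
  have horb := orbit_eq_gorb p a ha hN φ
  set S := MulAction.stabilizer (ZMod (p ^ a))ˣ φ with hS
  have hidx : S.index = (gorb p φ).ncard := by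
    rw [← horb]
    exact MulAction.index_stabilizer _ φ
  have hle : S ≤ (ZMod.unitsMap (dvd_pow_self p ha.ne')).ker := by
    intro u hu
    rw [MulAction.mem_stabilizer_iff] at hu
    have hu' : tw ((u : ZMod (p ^ a)).val) φ = φ := hu
    have hcop : ((u : ZMod (p ^ a)).val).Coprime p :=
      Nat.Coprime.coprime_dvd_right (dvd_pow_self p ha.ne') (ZMod.val_coe_unit_coprime u)
    have hmod := hφ _ hcop hu'
    rw [MonoidHom.mem_ker]
    ext
    rw [ZMod.unitsMap_def, Units.coe_map, Units.val_one]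
    show ZMod.castHom (dvd_pow_self p ha.ne') (ZMod p) (u : ZMod (p ^ a)) = 1
    rw [ZMod.castHom_apply, ← ZMod.natCast_val]
    have := (ZMod.natCast_eq_natCast_iff _ _ _).mpr hmod
    rw [this, Nat.cast_one]
  have hdvd : Nat.card S ∣ p ^ (a - 1) := by
    rw [← card_ker_unitsMap p a hp ha]
    exact Subgroup.card_dvd_of_le hle
  obtain ⟨s, hsle, hs⟩ := (Nat.dvd_prime_pow hp).mp hdvd
  have hmul := Subgroup.card_mul_index S
  rw [card_units_pow p a hp ha, hidx, hs] at hmul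
  refine ⟨a - 1 - s, ?_⟩
  have hpow : p ^ (a - 1) = p ^ s * p ^ (a - 1 - s) := by
    rw [← pow_add]
    congr 1
    omega
  rw [hpow, mul_assoc] at hmul
  have hps : 0 < p ^ s := pow_pos hp.pos s
  have := Nat.eq_of_mul_eq_mul_left hps hmul
  rw [this, mul_comm]

end tw

end Cfsg.Agent.Lib.H26.PFld
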