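import Mathlib
import Cfsg.Prelude
import Cfsg.Agent.Lib.H26.PFldA
import Cfsg.Agent.Lib.H24.PGalConj1

/-!
# Fields of values of characters of `p`-groups, part B (helper26)

For a non-principal irreducible character `χ` of a `p`-group, any exponent `k` with
`χ (g ^ k) = χ g` for all `g` is `≡ 1 mod p`; hence `#(gorb p χ) = (p - 1) p ^ j`.
-/

set_option autoImplicit false

namespace Cfsg.Agent.Lib.H26.PFld

open Cfsg Cfsg.Agent.Lib.L0 Cfsg.Agent.Lib.H23 Cfsg.Agent.Lib.H24
open Cfsg.Agent.Lib.H24.PGalConj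

variable {P : Type*} [Group P] [Finite P]

/-- A `p`-group with a non-principal irreducible character `χ` has an element of `Z(χ)` of order
`p` modulo `ker χ`. -/
theorem exists_central_elt (p : ℕ) [hp : Fact p.Prime] (hP : IsPGroup p P) (χ : IrrCharacter P)
    (hker : ker χ ≠ ⊤) : ∃ z : P, z ∈ Zc χ ∧ z ∉ ker χ ∧ z ^ p ∈ ker χ := by
  classical
  have hQ : IsPGroup p (P ⧸ ker χ) := hP.to_quotient (ker χ)
  have hnt : Nontrivial (P ⧸ ker χ) := by
    by_contra h
    rw [not_nontrivial_iff_subsingleton] at h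
    exact hker (QuotientGroup.subgroup_eq_top_of_subsingleton (ker χ) h)
  have hc : Nontrivial (Subgroup.center (P ⧸ ker χ)) := hQ.center_nontrivial
  have hZ : IsPGroup p (Subgroup.center (P ⧸ ker χ)) := hQ.to_subgroup _
  have hdvd : p ∣ Nat.card (Subgroup.center (P ⧸ ker χ)) := by
    rcases hZ.card_eq_or_dvd with h | h
    · exfalso
      have := Nat.card_eq_one_iff_unique.mp h
      exact not_subsingleton _ this.1
    · exact h
  obtain ⟨w, hw⟩ := exists_prime_orderOf_dvd_card' p hdvd
  obtain ⟨z, hz⟩ := QuotientGroup.mk'_surjective (ker χ) (w : P ⧸ ker χ)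
  refine ⟨z, ?_, ?_, ?_⟩
  · show z ∈ relCenter (ker χ)
    unfold relCenter
    rw [Subgroup.mem_comap, hz]
    exact w.2
  · intro hzk
    have h1 : (w : P ⧸ ker χ) = 1 := by
      rw [← hz]
      exact (QuotientGroup.eq_one_iff z).mpr hzk
    have h2 : w = 1 := Subtype.ext h1
    rw [h2, orderOf_one] at hw
    exact hp.out.one_lt.ne hw
  · have h1 : (w : P ⧸ ker χ) ^ p = 1 := by
      have := pow_orderOf_eq_one w
      rw [hw] at this
      have h2 := congrArg (Subtype.val) this
      simpa using h2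
    rw [← hz, ← map_pow] at h1
    exact (QuotientGroup.eq_one_iff (z ^ p)).mp h1

/-- Exponents fixing a non-principal irreducible character of a `p`-group are `≡ 1 mod p`. -/
theorem modEq_one_of_tw_eq (p : ℕ) [hp : Fact p.Prime] (hP : IsPGroup p P) (χ : IrrCharacter P)
    (hker : ker χ ≠ ⊤) (k : ℕ) (hk : tw k (χ : P → ℂ) = (χ : P → ℂ)) : k ≡ 1 [MOD p] := by
  obtain ⟨z, hzZ, hzk, hzp⟩ := exists_central_elt p hP χ hker
  set c : ℂ := centralHom χ ⟨z, hzZ⟩ with hc
  have hcp : c ^ p = 1 := by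
    rw [hc, ← map_pow]
    exact (centralHom_eq_one_iff χ _).mpr hzp
  have hc1 : c ≠ 1 := by
    intro h
    exact hzk ((centralHom_eq_one_iff χ ⟨z, hzZ⟩).mp h)
  have hord : orderOf c = p := orderOf_eq_prime hcp hc1
  have hne : (χ : P → ℂ) 1 ≠ 0 := irr_one_ne_zero χ
  have hck : c ^ k = c := by
    rw [hc, ← map_pow, centralHom_apply, centralHom_apply]
    have := congrFun hk z
    rw [tw_apply] at this
    show (χ : P → ℂ) (z ^ k) / _ = _
    rw [this]
  have hc0 : c ≠ 0 := by
    intro h
    rw [h, zero_pow hp.out.ne_zero] at hcp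
    exact zero_ne_one hcp
  rcases Nat.eq_zero_or_pos k with hk0 | hk0
  · exfalso
    rw [hk0, pow_zero] at hck
    exact hc1 hck.symm
  · have h1 : c ^ (k - 1) = 1 := by
      have h2 : c ^ (k - 1) * c = 1 * c := by
        rw [← pow_succ, Nat.sub_add_cancel hk0, hck, one_mul]
      exact mul_right_cancel₀ hc0 h2
    have h3 := orderOf_dvd_of_pow_eq_one h1
    rw [hord] at h3
    exact ((Nat.modEq_iff_dvd' hk0).mpr h3).symm

/-- The number of power twists of a non-principal irreducible character of a `p`-group is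
`(p - 1) p ^ j`. -/
theorem exists_ncard_gorb_irr (p a : ℕ) (hp : p.Prime) (hcard : Nat.card P = p ^ a)
    (χ : IrrCharacter P) (hker : ker χ ≠ ⊤) :
    ∃ j : ℕ, (gorb p (χ : P → ℂ)).ncard = (p - 1) * p ^ j := by
  have : Fact p.Prime := ⟨hp⟩
  have hP : IsPGroup p P := IsPGroup.of_card hcard
  have ha : 0 < a := by
    rcases Nat.eq_zero_or_pos a with h | h
    · exfalso
      rw [h, pow_zero] at hcard
      have := Nat.card_eq_one_iff_unique.mp hcard
      have := this.1
      exact hker (Subsingleton.elim _ _)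
    · exact h
  have hN : ∀ g : P, g ^ (p ^ a) = 1 := fun g => by
    rw [← hcard]
    exact pow_card_eq_one'
  exact exists_ncard_gorb p a hp ha hN _
    (fun k _ hk => modEq_one_of_tw_eq p hP χ hker k hk)

end Cfsg.Agent.Lib.H26.PFld
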