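import Mathlib
import Cfsg.Prelude
import Cfsg.Agent.Lib.H26.PFldA
import Cfsg.Agent.Lib.H24.GlaubGalois
import Cfsg.Agent.Lib.L0.CharBasic

/-!
# Fields of values of characters of `p`-groups, part C (helper26)

The number of distinct power twists of a character is at most the degree of its field of values.
-/

set_option autoImplicit false

namespace Cfsg.Agent.Lib.H26.PFld

open Cfsg Cfsg.Agent.Lib.L0 Cfsg.Agent.Lib.H24

variable {G : Type*} [Group G] [Finite G]

/-- Power twists by exponents prime to the group order are induced by automorphisms of `ℂ`. -/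
theorem exists_aut_tw {χ : G → ℂ} (hχ : IsCharacter G χ) (k : ℕ) (hk : k.Coprime (Nat.card G)) :
    ∃ τ : ℂ ≃+* ℂ, ∀ g : G, τ (χ g) = tw k χ g := by
  have : NeZero (Nat.card G) := ⟨Nat.card_pos.ne'⟩
  obtain ⟨τ, hτ⟩ := Glaub.exists_aut_pow (Nat.card G) k hk
  obtain ⟨n, ρ, rfl⟩ := hχ
  refine ⟨τ, fun g => ?_⟩
  have hg : ρ g ^ Nat.card G = 1 := by rw [← map_pow, pow_card_eq_one', map_one]
  have h1 := Glaub.aut_trace_of_pow_eq_one τ (Nat.card G) k Nat.card_pos hτ (ρ g) hg
  rw [tw_apply]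
  unfold Representation.character
  rw [map_pow]
  exact h1

theorem ncard_gorb_le_finrank (p a : ℕ) (hcard : Nat.card G = p ^ a) {χ : G → ℂ}
    (hχ : IsCharacter G χ) :
    (gorb p χ).ncard ≤ Module.finrank ℚ (IntermediateField.adjoin ℚ (Set.range χ)) := by
  classical
  set E := IntermediateField.adjoin ℚ (Set.range χ) with hE
  have hfin : FiniteDimensional ℚ E := by
    have : Finite (Set.range χ) := Set.finite_range χ
    apply IntermediateField.finiteDimensional_adjoin
    rintro x ⟨g, rfl⟩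
    exact (isCharacter_isIntegral hχ g).tower_top
  have hmem : ∀ g : G, χ g ∈ E := fun g =>
    IntermediateField.subset_adjoin ℚ _ ⟨g, rfl⟩
  have hex : ∀ θ : gorb p χ, ∃ τ : ℂ ≃+* ℂ, ∀ g : G, τ (χ g) = (θ : G → ℂ) g := by
    rintro ⟨θ, k, hk, rfl⟩
    exact exists_aut_tw hχ k (by rw [hcard]; exact Nat.Coprime.pow_right a hk)
  choose τ hτ using hex
  let f : gorb p χ → (E →ₐ[ℚ] ℂ) := fun θ => ((τ θ).toRingHom.toRatAlgHom).comp E.val
  have hf : ∀ θ : gorb p χ, ∀ g : G, f θ ⟨χ g, hmem g⟩ = (θ : G → ℂ) g := fun θ g => hτ θ g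
  have hinj : Function.Injective f := by
    intro θ₁ θ₂ h
    apply Subtype.ext
    funext g
    rw [← hf θ₁ g, ← hf θ₂ g, h]
  have h1 : Nat.card (gorb p χ) ≤ Nat.card (E →ₐ[ℚ] ℂ) := Nat.card_le_card_of_injective f hinj
  rw [Nat.card_coe_set_eq, Nat.card_eq_fintype_card, AlgHom.card] at h1
  exact h1

end Cfsg.Agent.Lib.H26.PFld
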