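import Mathlib
import Cfsg.Prelude
import Cfsg.Agent.Lib.H23.MGroup
import Cfsg.Agent.Lib.H23.FullyRamified
import Cfsg.Agent.Lib.H23.DegreeDvd
import Cfsg.Agent.Lib.H12.CharSumIrr
import Cfsg.Agent.Lib.H1.PGroupBasic
import Cfsg.Agent.Lib.H26.DegGraphD

/-!
# Fields of values of characters of `p`-groups, part D (helper26)

A non-linear irreducible character of a `p`-group is induced from an irreducible character of a
(normal) subgroup of index `p`.
-/

set_option autoImplicit false

universe u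

namespace Cfsg.Agent.Lib.H26.PFld

open Cfsg Cfsg.Agent.Lib.L0 Cfsg.Agent.Lib.H23 Cfsg.Agent.Lib.H24

theorem exists_ind_index_p {P : Type u} [Group P] [Fintype P] (p : ℕ) [hp : Fact p.Prime]
    (hP : IsPGroup p P) {χ : P → ℂ} (hχ : IsIrrCharacter P χ) (h1 : χ 1 ≠ 1) :
    ∃ (H : Subgroup P) (_ : H.Normal) (ψ : H → ℂ), IsIrrCharacter H ψ ∧ H.index = p ∧
      indFun H ψ = χ ∧ charDegree χ = p * charDegree ψ := by
  classical
  have hnil : Group.IsNilpotent P := hP.isNilpotent
  obtain ⟨A, hA, ϑ, hϑ, hcon, hT⟩ := exists_proper_inertia hχ h1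
  let _ : Fintype A := Fintype.ofFinite A
  set T : Subgroup P := @H23.inertia P _ A hA ϑ with hTdef
  have : Fintype T := Fintype.ofFinite T
  have hAT : A ≤ T :=
    @le_inertia P _ A hA ϑ (isClassFunction_of_isCharacter (isCharacter_of_irr hϑ))
  obtain ⟨ψT, hψT, hind, -⟩ :=
    @clifford_correspondence P _ _ A T hA _ _ hAT ϑ hϑ (fun g => Iff.rfl) χ hχ hcon
  obtain ⟨H, hHco, hTH⟩ := (eq_top_or_exists_le_coatom T).resolve_left hT
  have hHn : H.Normal := Cfsg.Agent.Lib.H1.isPGroup_coatom_normal hP hHco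
  have hidx : H.index = p := Cfsg.Agent.Lib.H1.isPGroup_coatom_index hP hHco
  have : Fintype H := Fintype.ofFinite H
  have hvan : ∀ g : P, g ∉ H → χ g = 0 := by
    intro g hg
    rw [← hind, indFun_apply]
    have h0 : ∀ x : P, extendByZero T ψT (x⁻¹ * g * x) = 0 := by
      intro x
      apply extendByZero_apply_not_mem
      intro hx
      apply hg
      have h2 := hHn.conj_mem _ (hTH hx) x
      have e : x * (x⁻¹ * g * x) * x⁻¹ = g := by group
      rw [e] at h2
      exact h2
    rw [Finset.sum_congr rfl (fun x _ => h0 x), Finset.sum_const_zero, mul_zero]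
  have hnorm : classInner (fun n : H => χ n) (fun n : H => χ n) = (H.index : ℂ) :=
    (classInner_restrict_self_eq_index_iff H χ hχ).mpr hvan
  have hχH : IsCharacter H (fun n : H => χ n) := isCharacter_restrict H (isCharacter_of_irr hχ)
  have hχ1 : χ 1 = (charDegree χ : ℂ) := apply_one_eq_charDegree χ hχ
  have hpos : 0 < charDegree χ := charDegree_pos χ hχ
  have h1' : (fun n : H => χ n) 1 ≠ 0 := by
    show χ ((1 : H) : P) ≠ 0
    rw [Subgroup.coe_one, hχ1]
    exact_mod_cast hpos.ne'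
  obtain ⟨ψ, hψ, hψcon⟩ := exists_irr_constituent hχH h1'
  have hfrob : classInner (indFun H ψ) χ = classInner ψ (fun h : H => χ h) :=
    frobenius_reciprocity H ψ χ (isClassFunction_of_isCharacter (isCharacter_of_irr hχ))
  have hne : classInner (indFun H ψ) χ ≠ 0 := by
    rw [hfrob, ← classInner_conj_symm]
    intro h
    apply hψcon
    have := congrArg (starRingEnd ℂ) h
    simpa using this
  have hindchar : IsCharacter P (indFun H ψ) := isCharacter_indFun H (isCharacter_of_irr hψ)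
  have hsub1 : IsCharacter P (indFun H ψ - χ) :=
    Cfsg.Agent.Lib.H12.CharSumIrr.isCharacter_sub_irr hindchar hχ hne
  have hsub2 : IsCharacter H ((fun n : H => χ n) - ψ) :=
    Cfsg.Agent.Lib.H12.CharSumIrr.isCharacter_sub_irr hχH hψ hψcon
  have hψ1 : ψ 1 = (charDegree ψ : ℂ) := apply_one_eq_charDegree ψ hψ
  have hψpos : 0 < charDegree ψ := charDegree_pos ψ hψ
  have hind1 : indFun H ψ 1 = (p : ℂ) * (charDegree ψ : ℂ) := by
    rw [indFun_one', hidx, hψ1]
  -- `f ≤ p d`
  obtain ⟨n1, ρ1, hρ1⟩ := hsub1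
  have hn1 : (indFun H ψ - χ) 1 = (n1 : ℂ) := by
    rw [← hρ1, Representation.char_one, Module.finrank_fin_fun]
  have hn1' : (p : ℂ) * (charDegree ψ : ℂ) - (charDegree χ : ℂ) = (n1 : ℂ) := by
    rw [← hn1, Pi.sub_apply, hind1, hχ1]
  have hle1 : charDegree χ + n1 = p * charDegree ψ := by
    have : ((charDegree χ + n1 : ℕ) : ℂ) = ((p * charDegree ψ : ℕ) : ℂ) := by
      push_cast
      rw [← hn1']
      ring
    exact Nat.cast_injective this
  -- `d ≤ f`
  obtain ⟨n2, ρ2, hρ2⟩ := hsub2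
  have hn2 : ((fun n : H => χ n) - ψ) 1 = (n2 : ℂ) := by
    rw [← hρ2, Representation.char_one, Module.finrank_fin_fun]
  have hn2' : (charDegree χ : ℂ) - (charDegree ψ : ℂ) = (n2 : ℂ) := by
    rw [← hn2, Pi.sub_apply, hψ1]
    show _ = χ ((1 : H) : P) - _
    rw [Subgroup.coe_one, hχ1]
  have hle2 : charDegree ψ + n2 = charDegree χ := by
    have : ((charDegree ψ + n2 : ℕ) : ℂ) = ((charDegree χ : ℕ) : ℂ) := by
      push_cast
      rw [← hn2']
      ring
    exact Nat.cast_injective this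
  have hn2pos : n2 ≠ 0 := by
    intro h0
    have hzero : (fun n : H => χ n) - ψ = 0 := by
      apply DegGraph.eq_zero_of_isCharacter_of_apply_one ⟨n2, ρ2, hρ2⟩
      rw [hn2, h0, Nat.cast_zero]
    have heq : (fun n : H => χ n) = ψ := sub_eq_zero.mp hzero
    rw [heq, irr_classInner_self hψ, hidx] at hnorm
    have : (1 : ℕ) = p := by exact_mod_cast hnorm
    exact hp.out.one_lt.ne this
  -- degrees are powers of `p`
  obtain ⟨a, ha⟩ := IsPGroup.iff_card.mp hP
  obtain ⟨b, hb⟩ := IsPGroup.iff_card.mp (hP.to_subgroup H)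
  have hd1 := charDegree_dvd_card χ hχ
  have hd2 := charDegree_dvd_card ψ hψ
  rw [ha] at hd1
  rw [hb] at hd2
  obtain ⟨j, -, hj⟩ := (Nat.dvd_prime_pow hp.out).mp hd1
  obtain ⟨i, -, hi⟩ := (Nat.dvd_prime_pow hp.out).mp hd2
  have hlt : charDegree ψ < charDegree χ := by omega
  have hij : i < j := by
    rw [hi, hj] at hlt
    exact (Nat.pow_lt_pow_iff_right hp.out.one_lt).mp hlt
  have hge : p * charDegree ψ ≤ charDegree χ := by
    rw [hi, hj, ← pow_succ']
    exact Nat.pow_le_pow_right hp.out.pos hij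
  have hn1z : n1 = 0 := by omega
  have hdeg : charDegree χ = p * charDegree ψ := by omega
  refine ⟨H, hHn, ψ, hψ, hidx, ?_, hdeg⟩
  have hzero : indFun H ψ - χ = 0 := by
    apply DegGraph.eq_zero_of_isCharacter_of_apply_one ⟨n1, ρ1, hρ1⟩
    rw [hn1, hn1z, Nat.cast_zero]
  exact sub_eq_zero.mp hzero

end Cfsg.Agent.Lib.H26.PFld
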