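import Mathlib
import Cfsg.Prelude
import Cfsg.Agent.Lib.H26.PFldA
import Cfsg.Agent.Lib.H8.GaloisConj
import Cfsg.Agent.Lib.H8.GaloisClassFun
import Cfsg.Agent.Lib.H12.CharSumIrr
import Cfsg.Agent.Lib.H26.DegGraphD
import Cfsg.Agent.Lib.H24.CharKer
import Cfsg.Agent.Lib.H23.DegreeDvd

/-!
# Fields of values of characters of `p`-groups, part E (helper26)

Counting the fibres of induction on Galois orbits: if `χ = ind ψ` from a subgroup of index `p` of a
`p`-group, then `#gorb ψ = m · #gorb χ` with `m ≤ p`, and if the fibre over `χ` has `p` elements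
then `χ_H` is the sum of the twists of `ψ` in that fibre.
-/

set_option autoImplicit false

namespace Cfsg.Agent.Lib.H26.PFld

open Cfsg Cfsg.Agent.Lib.L0 Cfsg.Agent.Lib.H23 Cfsg.Agent.Lib.H24

section general

variable {G : Type*} [Group G] [Fintype G]

/-- A character minus a sum of distinct irreducible constituents is a character. -/
theorem isCharacter_sub_sum [DecidableEq (G → ℂ)] {α : G → ℂ} (hα : IsCharacter G α)
    (Φ : Finset (G → ℂ)) (hΦ : ∀ θ ∈ Φ, IsIrrCharacter G θ ∧ classInner α θ ≠ 0) :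
    IsCharacter G (α - ∑ θ ∈ Φ, θ) := by
  induction Φ using Finset.induction_on with
  | empty => simpa using hα
  | insert θ₀ Φ hnot ih =>
    have h1 := ih (fun θ hθ => hΦ θ (Finset.mem_insert_of_mem hθ))
    have h0 := hΦ θ₀ (Finset.mem_insert_self _ _)
    rw [Finset.sum_insert hnot]
    have e : α - (θ₀ + ∑ θ ∈ Φ, θ) = (α - ∑ θ ∈ Φ, θ) - θ₀ := by abel
    rw [e]
    apply Cfsg.Agent.Lib.H12.CharSumIrr.isCharacter_sub_irr h1 h0.1
    rw [classInner_sub_left, classInner_sum_left]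
    have h2 : ∑ θ ∈ Φ, classInner θ θ₀ = 0 := by
      apply Finset.sum_eq_zero
      intro θ hθ
      apply irr_classInner_ne (hΦ θ (Finset.mem_insert_of_mem hθ)).1 h0.1
      rintro rfl
      exact hnot hθ
    rw [h2, sub_zero]
    exact h0.2

/-- Degree count for distinct irreducible constituents of equal degree. -/
theorem card_le_of_constituents [DecidableEq (G → ℂ)] {α : G → ℂ} (hα : IsCharacter G α)
    (Φ : Finset (G → ℂ)) (hΦ : ∀ θ ∈ Φ, IsIrrCharacter G θ ∧ classInner α θ ≠ 0)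
    (d m : ℕ) (hd : ∀ θ ∈ Φ, θ 1 = (d : ℂ)) (hd0 : 0 < d) (hα1 : α 1 = ((m * d : ℕ) : ℂ)) :
    Φ.card ≤ m ∧ (Φ.card = m → α = ∑ θ ∈ Φ, θ) := by
  obtain ⟨n, ρ, hρ⟩ := isCharacter_sub_sum hα Φ hΦ
  have hn : (α - ∑ θ ∈ Φ, θ) 1 = (n : ℂ) := by
    rw [← hρ, Representation.char_one, Module.finrank_fin_fun]
  have hsum : (∑ θ ∈ Φ, θ) 1 = ((Φ.card * d : ℕ) : ℂ) := by
    rw [Finset.sum_apply, Finset.sum_congr rfl hd, Finset.sum_const, nsmul_eq_mul]
    push_cast
    ring
  have hnat : Φ.card * d + n = m * d := by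
    have : ((Φ.card * d + n : ℕ) : ℂ) = ((m * d : ℕ) : ℂ) := by
      rw [Nat.cast_add, ← hsum, ← hn, ← hα1, Pi.sub_apply]
      ring
    exact Nat.cast_injective this
  constructor
  · have : Φ.card * d ≤ m * d := by omega
    exact Nat.le_of_mul_le_mul_right this hd0
  · intro hc
    have hn0 : n = 0 := by
      rw [hc] at hnat
      omega
    have hzero : α - ∑ θ ∈ Φ, θ = 0 := by
      apply DegGraph.eq_zero_of_isCharacter_of_apply_one ⟨n, ρ, hρ⟩
      rw [hn, hn0, Nat.cast_zero]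
    exact sub_eq_zero.mp hzero

end general

theorem gorb_finite {G : Type*} [Group G] [Finite G] (p : ℕ) (φ : G → ℂ) : (gorb p φ).Finite := by
  have hN : ∀ g : G, g ^ Nat.card G = 1 := fun g => pow_card_eq_one'
  apply Set.Finite.subset ((Set.finite_Iio (Nat.card G)).image (fun k => tw k φ))
  rintro θ ⟨k, -, rfl⟩
  refine ⟨k % Nat.card G, Nat.mod_lt _ Nat.card_pos, ?_⟩
  exact tw_congr hN (Nat.mod_modEq k _) φ

/-- The data of an irreducible character of a `p`-group induced from index `p`. -/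
structure IndData (p : ℕ) {P : Type*} [Group P] [Fintype P] (H : Subgroup P) (ψ : H → ℂ)
    (χ : P → ℂ) : Prop where
  hp : p.Prime
  isP : IsPGroup p P
  hidx : H.index = p
  hψ : IsIrrCharacter H ψ
  hχ : IsIrrCharacter P χ
  hind : indFun H ψ = χ
  hdeg : charDegree χ = p * charDegree ψ

namespace IndData

variable {p : ℕ} {P : Type*} [Group P] [Fintype P] {H : Subgroup P} {ψ : H → ℂ} {χ : P → ℂ}

theorem coprime_card (D : IndData p H ψ χ) {k : ℕ} (hk : k.Coprime p) : k.Coprime (Nat.card P) := by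
  have : Fact p.Prime := ⟨D.hp⟩
  obtain ⟨n, hn⟩ := IsPGroup.iff_card.mp D.isP
  rw [hn]
  exact Nat.Coprime.pow_right n hk

theorem coprime_card' (D : IndData p H ψ χ) {k : ℕ} (hk : k.Coprime p) :
    k.Coprime (Nat.card H) := by
  have : Fact p.Prime := ⟨D.hp⟩
  obtain ⟨n, hn⟩ := IsPGroup.iff_card.mp (D.isP.to_subgroup H)
  rw [hn]
  exact Nat.Coprime.pow_right n hk

theorem irr_tw_psi (D : IndData p H ψ χ) {k : ℕ} (hk : k.Coprime p) :
    IsIrrCharacter H (tw k ψ) :=
  Cfsg.Agent.Lib.H8.isIrrCharacter_galoisConj D.hψ k (D.coprime_card' hk)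

theorem irr_tw_chi (D : IndData p H ψ χ) {k : ℕ} (hk : k.Coprime p) :
    IsIrrCharacter P (tw k χ) :=
  Cfsg.Agent.Lib.H8.isIrrCharacter_galoisConj D.hχ k (D.coprime_card hk)

theorem ind_tw (D : IndData p H ψ χ) {k : ℕ} (hk : k.Coprime p) :
    indFun H (tw k ψ) = tw k χ := by
  funext g
  rw [tw_apply, ← D.hind]
  exact (Cfsg.Agent.Lib.H8.indFun_comp_pow H ψ (D.coprime_card hk) g).symm

/-- The twisted data. -/
theorem twist (D : IndData p H ψ χ) {k : ℕ} (hk : k.Coprime p) :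
    IndData p H (tw k ψ) (tw k χ) where
  hp := D.hp
  isP := D.isP
  hidx := D.hidx
  hψ := D.irr_tw_psi hk
  hχ := D.irr_tw_chi hk
  hind := D.ind_tw hk
  hdeg := by
    have h1 : charDegree (tw k χ) = charDegree χ := by
      unfold charDegree
      rw [tw_apply, one_pow]
    have h2 : charDegree (tw k ψ) = charDegree ψ := by
      unfold charDegree
      rw [tw_apply, one_pow]
    rw [h1, h2]
    exact D.hdeg

end IndData

end Cfsg.Agent.Lib.H26.PFld
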