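import Mathlib
import Cfsg.Prelude
import Cfsg.Agent.Lib.H26.PFldE

/-!
# Fields of values of characters of `p`-groups, part F (helper26)

The fibres of induction on Galois orbits and the resulting dichotomy.
-/

set_option autoImplicit false

namespace Cfsg.Agent.Lib.H26.PFld

open Cfsg Cfsg.Agent.Lib.L0 Cfsg.Agent.Lib.H23 Cfsg.Agent.Lib.H24

namespace IndData

variable {p : ℕ} {P : Type*} [Group P] [Fintype P] {H : Subgroup P} [Fintype H] {ψ : H → ℂ}
  {χ : P → ℂ}

open Classical in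
/-- The fibre of induction over `χ'` inside the Galois orbit of `ψ`. -/
noncomputable def fib (p : ℕ) (H : Subgroup P) (ψ : H → ℂ) (χ' : P → ℂ) : Finset (H → ℂ) :=
  (gorb_finite p ψ).toFinset.filter (fun θ => indFun H θ = χ')

theorem mem_fib {p : ℕ} {H : Subgroup P} {ψ : H → ℂ} {χ' : P → ℂ} {θ : H → ℂ} :
    θ ∈ fib p H ψ χ' ↔ θ ∈ gorb p ψ ∧ indFun H θ = χ' := by
  unfold fib
  rw [Finset.mem_filter, Set.Finite.mem_toFinset]

theorem fib_card (D : IndData p H ψ χ) {k : ℕ} (hk : k.Coprime p) :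
    (fib p H ψ (tw k χ)).card ≤ p ∧
      ((fib p H ψ (tw k χ)).card = p →
        (fun h : H => tw k χ h) = ∑ θ ∈ fib p H ψ (tw k χ), θ) := by
  classical
  have hχ' : IsIrrCharacter P (tw k χ) := D.irr_tw_chi hk
  have hα : IsCharacter H (fun h : H => tw k χ h) :=
    isCharacter_restrict H (isCharacter_of_irr hχ')
  have hψpos : 0 < charDegree ψ := charDegree_pos ψ D.hψ
  apply card_le_of_constituents hα (fib p H ψ (tw k χ)) ?_ (charDegree ψ) p ?_ hψpos ?_
  · intro θ hθ
    rw [mem_fib] at hθ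
    obtain ⟨⟨j, hj, rfl⟩, hind⟩ := hθ
    refine ⟨D.irr_tw_psi hj, ?_⟩
    have hfrob := frobenius_reciprocity H (tw j ψ) (tw k χ)
      (isClassFunction_of_isCharacter (isCharacter_of_irr hχ'))
    rw [hind, irr_classInner_self hχ'] at hfrob
    rw [← classInner_conj_symm, ← hfrob, map_one]
    exact one_ne_zero
  · intro θ hθ
    rw [mem_fib] at hθ
    obtain ⟨⟨j, hj, rfl⟩, -⟩ := hθ
    rw [tw_apply, one_pow]
    exact apply_one_eq_charDegree ψ D.hψ
  · show tw k χ ((1 : H) : P) = _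
    rw [Subgroup.coe_one, tw_apply, one_pow, apply_one_eq_charDegree χ D.hχ, D.hdeg]

theorem ind_mem_gorb (D : IndData p H ψ χ) {θ : H → ℂ} (hθ : θ ∈ gorb p ψ) :
    indFun H θ ∈ gorb p χ := by
  obtain ⟨j, hj, rfl⟩ := hθ
  rw [D.ind_tw hj]
  exact tw_mem_gorb hj χ

/-- `#gorb χ ≤ #gorb ψ ≤ p · #gorb χ`, with strict inequality if the fibre over `χ` is small. -/
theorem ncard_bounds (D : IndData p H ψ χ) :
    (gorb p χ).ncard ≤ (gorb p ψ).ncard ∧ (gorb p ψ).ncard ≤ p * (gorb p χ).ncard ∧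
      ((fib p H ψ χ).card < p → (gorb p ψ).ncard < p * (gorb p χ).ncard) := by
  classical
  set A := (gorb_finite p ψ).toFinset with hA
  set B := (gorb_finite p χ).toFinset with hB
  have hAc : (gorb p ψ).ncard = A.card := Set.ncard_eq_toFinset_card _ (gorb_finite p ψ)
  have hBc : (gorb p χ).ncard = B.card := Set.ncard_eq_toFinset_card _ (gorb_finite p χ)
  rw [hAc, hBc]
  have hmaps : Set.MapsTo (fun θ : H → ℂ => indFun H θ) (A : Set (H → ℂ)) (B : Set (P → ℂ)) := by
    intro θ hθ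
    rw [Finset.mem_coe, Set.Finite.mem_toFinset] at hθ ⊢
    exact D.ind_mem_gorb hθ
  have hsum := Finset.card_eq_sum_card_fiberwise hmaps
  have hfibeq : ∀ b : P → ℂ, (A.filter (fun θ => indFun H θ = b)) = fib p H ψ b := fun b => by
    unfold fib
    rfl
  have hle : ∀ b ∈ B, (A.filter (fun θ => indFun H θ = b)).card ≤ p := by
    intro b hb
    rw [Set.Finite.mem_toFinset] at hb
    obtain ⟨k, hk, rfl⟩ := hb
    rw [hfibeq]
    exact (D.fib_card hk).1
  refine ⟨?_, ?_, ?_⟩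
  · have hsub : B ⊆ A.image (fun θ : H → ℂ => indFun H θ) := by
      intro b hb
      rw [Set.Finite.mem_toFinset] at hb
      obtain ⟨k, hk, rfl⟩ := hb
      rw [Finset.mem_image]
      refine ⟨tw k ψ, ?_, D.ind_tw hk⟩
      rw [Set.Finite.mem_toFinset]
      exact tw_mem_gorb hk ψ
    exact (Finset.card_le_card hsub).trans Finset.card_image_le
  · rw [hsum]
    calc ∑ b ∈ B, (A.filter (fun θ => indFun H θ = b)).card ≤ ∑ _b ∈ B, p := Finset.sum_le_sum hle
      _ = p * B.card := by rw [Finset.sum_const, smul_eq_mul, mul_comm]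
  · intro hlt
    rw [hsum]
    calc ∑ b ∈ B, (A.filter (fun θ => indFun H θ = b)).card < ∑ _b ∈ B, p := by
          apply Finset.sum_lt_sum hle
          refine ⟨χ, ?_, ?_⟩
          · rw [Set.Finite.mem_toFinset]
            exact self_mem_gorb p χ
          · rw [hfibeq]
            exact hlt
      _ = p * B.card := by rw [Finset.sum_const, smul_eq_mul, mul_comm]

/-- The dichotomy. -/
theorem dichotomy (D : IndData p H ψ χ) (t t' : ℕ) (ht : (gorb p χ).ncard = (p - 1) * p ^ t)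
    (ht' : (gorb p ψ).ncard = (p - 1) * p ^ t') :
    t' = t ∨ (t' = t + 1 ∧ ∃ Φ : Finset (H → ℂ), (∀ θ ∈ Φ, θ ∈ gorb p ψ) ∧
      (fun h : H => χ h) = ∑ θ ∈ Φ, θ) := by
  obtain ⟨h1, h2, h3⟩ := D.ncard_bounds
  rw [ht, ht'] at h1 h2 h3
  have hp1 : 0 < p - 1 := Nat.sub_pos_of_lt D.hp.one_lt
  have htt' : t ≤ t' := by
    have : p ^ t ≤ p ^ t' := Nat.le_of_mul_le_mul_left h1 hp1
    exact (Nat.pow_le_pow_iff_right D.hp.one_lt).mp this
  have ht't : t' ≤ t + 1 := by
    have : (p - 1) * p ^ t' ≤ (p - 1) * p ^ (t + 1) := by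
      rw [pow_succ]
      calc (p - 1) * p ^ t' ≤ p * ((p - 1) * p ^ t) := h2
        _ = (p - 1) * (p ^ t * p) := by ring
    have : p ^ t' ≤ p ^ (t + 1) := Nat.le_of_mul_le_mul_left this hp1
    exact (Nat.pow_le_pow_iff_right D.hp.one_lt).mp this
  rcases Nat.lt_or_ge t t' with hlt | hge
  · right
    have heq : t' = t + 1 := by omega
    refine ⟨heq, fib p H ψ χ, fun θ hθ => (mem_fib.mp hθ).1, ?_⟩
    have hfc := D.fib_card (k := 1) (Nat.coprime_one_left p)
    rw [tw_one] at hfc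
    have hcard : (fib p H ψ χ).card = p := by
      by_contra hne
      have hlt' : (fib p H ψ χ).card < p := lt_of_le_of_ne hfc.1 hne
      have := h3 hlt'
      rw [heq, pow_succ] at this
      have e : p * ((p - 1) * p ^ t) = (p - 1) * (p ^ t * p) := by ring
      rw [e] at this
      exact lt_irrefl _ this
    exact hfc.2 hcard
  · left
    omega

end IndData

end Cfsg.Agent.Lib.H26.PFld
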