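import Mathlib
import Cfsg.Prelude
import Cfsg.Agent.Lib.H26.PFldF

/-!
# Fields of values of characters of `p`-groups, part G (helper26)

Kernels: bounds for `|P : ker χ|` in terms of `|H : ker ψ|` when `χ = ind ψ`, `|P : H| = p`.
-/

set_option autoImplicit false

namespace Cfsg.Agent.Lib.H26.PFld

open Cfsg Cfsg.Agent.Lib.L0 Cfsg.Agent.Lib.H23 Cfsg.Agent.Lib.H24

namespace IndData

variable {p : ℕ} {P : Type*} [Group P] [Fintype P] {H : Subgroup P} [Fintype H] {ψ : H → ℂ}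
  {χ : P → ℂ}

/-- If `χ_H` is a sum of twists of `ψ` then `ker ψ ≤ ker χ`. -/
theorem apply_eq_of_sum (D : IndData p H ψ χ) (Φ : Finset (H → ℂ)) (hΦ : ∀ θ ∈ Φ, θ ∈ gorb p ψ)
    (hsum : (fun h : H => χ h) = ∑ θ ∈ Φ, θ) (h : H) (hh : ψ h = ψ 1) : χ h = χ 1 := by
  have hψc : IsCharacter H ψ := isCharacter_of_irr D.hψ
  have h1 : ∀ θ ∈ Φ, θ h = θ 1 := by
    intro θ hθ
    obtain ⟨j, -, rfl⟩ := hΦ θ hθ
    rw [tw_apply, tw_apply, one_pow]
    have hmem : h ∈ charKer ψ hψc := hh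
    exact (charKer ψ hψc).pow_mem hmem j
  have e1 : χ h = (∑ θ ∈ Φ, θ) h := by rw [← hsum]
  have e2 : χ 1 = (∑ θ ∈ Φ, θ) 1 := by
    rw [← hsum]
    simp
  rw [e1, e2, Finset.sum_apply, Finset.sum_apply]
  exact Finset.sum_congr rfl h1

theorem index_le_of_sum (D : IndData p H ψ χ) (Φ : Finset (H → ℂ))
    (hΦ : ∀ θ ∈ Φ, θ ∈ gorb p ψ) (hsum : (fun h : H => χ h) = ∑ θ ∈ Φ, θ) :
    (charKer χ (isCharacter_of_irr D.hχ)).index ≤
      (charKer ψ (isCharacter_of_irr D.hψ)).index * p := by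
  have hle : (charKer ψ (isCharacter_of_irr D.hψ)).map H.subtype ≤
      charKer χ (isCharacter_of_irr D.hχ) := by
    rintro _ ⟨h, hh, rfl⟩
    exact D.apply_eq_of_sum Φ hΦ hsum h hh
  have h1 := Subgroup.index_antitone hle
  rw [Subgroup.index_map_subtype, D.hidx] at h1
  exact h1

/-- In general `|P : ker χ| ≤ |H : ker ψ| ^ p · p`. -/
theorem index_le_pow (D : IndData p H ψ χ) [hH : H.Normal] :
    (charKer χ (isCharacter_of_irr D.hχ)).index ≤
      (charKer ψ (isCharacter_of_irr D.hψ)).index ^ p * p := by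
  classical
  set K := charKer ψ (isCharacter_of_irr D.hψ) with hK
  let f : (P ⧸ H) → (H →* H ⧸ K) := fun q =>
    (QuotientGroup.mk' K).comp ((MulAut.conjNormal ((q.out : P)⁻¹) : MulAut H).toMonoidHom)
  let F : H →* ((q : P ⧸ H) → H ⧸ K) := MonoidHom.pi f
  set L := F.ker with hL
  have hLidx : L.index ≤ K.index ^ p := by
    rw [hL, Subgroup.index_ker]
    calc Nat.card F.range ≤ Nat.card ((q : P ⧸ H) → H ⧸ K) := Subgroup.card_le_card_group _
      _ = K.index ^ p := by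
        rw [Nat.card_pi, Finset.prod_const, Finset.card_univ, ← Subgroup.index_eq_card,
          ← Nat.card_eq_fintype_card, ← Subgroup.index_eq_card, D.hidx]
  have hmemL : ∀ h : H, h ∈ L → ∀ q : P ⧸ H,
      (MulAut.conjNormal ((q.out : P)⁻¹) : MulAut H) h ∈ K := by
    intro h hh q
    have h1 : F h = 1 := hh
    have h2 : f q h = 1 := by
      have := congrFun h1 q
      exact this
    exact (QuotientGroup.eq_one_iff _).mp h2
  have hle : L.map H.subtype ≤ charKer χ (isCharacter_of_irr D.hχ) := by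
    rintro _ ⟨h, hh, rfl⟩
    show χ (H.subtype h) = χ 1
    have hconj : ∀ x : P, ∃ y : H, (y : P) = x⁻¹ * (h : P) * x ∧ ψ y = ψ 1 := by
      intro x
      obtain ⟨h₀, hh₀⟩ := QuotientGroup.mk_out_eq_mul H x
      set q : P ⧸ H := (x : P ⧸ H) with hq
      have hk := hmemL h hh q
      set y₀ : H := (MulAut.conjNormal ((q.out : P)⁻¹) : MulAut H) h with hy₀
      have hy₀val : (y₀ : P) = (q.out : P)⁻¹ * (h : P) * (q.out : P) := by
        rw [hy₀, MulAut.conjNormal_apply, inv_inv]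
      refine ⟨h₀ * y₀ * h₀⁻¹, ?_, ?_⟩
      · rw [Subgroup.coe_mul, Subgroup.coe_mul, Subgroup.coe_inv, hy₀val, hh₀]
        group
      · have : h₀ * y₀ * h₀⁻¹ ∈ K := (charKer_normal ψ _).conj_mem y₀ hk h₀
        exact this
    rw [← D.hind, indFun_apply, indFun_apply]
    congr 1
    refine Finset.sum_congr rfl fun x _ => ?_
    obtain ⟨y, hy, hy1⟩ := hconj x
    have e1 : extendByZero H ψ (x⁻¹ * H.subtype h * x) = ψ y := by
      have : x⁻¹ * H.subtype h * x = (y : P) := hy.symm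
      rw [this, extendByZero_apply_mem]
    have e2 : extendByZero H ψ (x⁻¹ * 1 * x) = ψ 1 := by
      have : x⁻¹ * 1 * x = ((1 : H) : P) := by simp
      rw [this, extendByZero_apply_mem]
    rw [e1, e2, hy1]
  have h1 := Subgroup.index_antitone hle
  rw [Subgroup.index_map_subtype, D.hidx] at h1
  exact h1.trans (Nat.mul_le_mul_right p hLidx)

end IndData

end Cfsg.Agent.Lib.H26.PFld
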