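import Mathlib
import Cfsg.Prelude
import Cfsg.Agent.Lib.H26.PFldB
import Cfsg.Agent.Lib.H26.PFldE
import Cfsg.Agent.Lib.L0.CharLinear

/-!
# Fields of values of characters of `p`-groups, part H (helper26)

The base case: for a non-principal linear character `λ` of a `p`-group with `|P : ker λ| = p ^ e`,
the number of power twists is at least `φ(p ^ e)`.
-/

set_option autoImplicit false

namespace Cfsg.Agent.Lib.H26.PFld

open Cfsg Cfsg.Agent.Lib.L0 Cfsg.Agent.Lib.H23 Cfsg.Agent.Lib.H24
open Cfsg.Agent.Lib.H24.PGalConj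

variable {P : Type*} [Group P] [Finite P]

theorem base_case (p : ℕ) (hp : p.Prime) (lam : IrrCharacter P)
    (hdeg : charDegree (lam : P → ℂ) = 1) (e t : ℕ) (he : (ker lam).index = p ^ e)
    (hker : ker lam ≠ ⊤) (ht : (gorb p (lam : P → ℂ)).ncard = (p - 1) * p ^ t) : e ≤ t + 1 := by
  classical
  have hc : IsCharacter P (lam : P → ℂ) := isCharacter_of_irr lam.2
  have h1 : (lam : P → ℂ) 1 = 1 := by
    rw [apply_one_eq_charDegree _ lam.2, hdeg, Nat.cast_one]
  set F : P →* ℂˣ := linearCharHom hc h1 with hF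
  have hFapp : ∀ g : P, ((F g : ℂˣ) : ℂ) = (lam : P → ℂ) g := fun g => rfl
  have hFker : F.ker = ker lam := by
    ext g
    rw [MonoidHom.mem_ker, mem_ker, h1, ← hFapp, Units.val_eq_one]
  have hcardR : Nat.card F.range = p ^ e := by
    rw [← Subgroup.index_ker, hFker, he]
  have he0 : 0 < e := by
    rcases Nat.eq_zero_or_pos e with h | h
    · exfalso
      rw [h, pow_zero, Subgroup.index_eq_one] at he
      exact hker he
    · exact h
  have hfinR : Finite F.range :=
    Finite.of_surjective F.rangeRestrict F.rangeRestrict_surjective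
  obtain ⟨w, hw⟩ := IsCyclic.exists_generator (α := F.range)
  have hword : orderOf w = p ^ e := by
    rw [orderOf_eq_card_of_forall_mem_zpowers hw, hcardR]
  obtain ⟨g₀, hg₀⟩ := w.2
  have hord : orderOf (F g₀) = p ^ e := by
    rw [hg₀, Subgroup.orderOf_coe, hword]
  have : NeZero (p ^ e) := ⟨pow_ne_zero e hp.ne_zero⟩
  have hfin : (gorb p (lam : P → ℂ)).Finite := gorb_finite p _
  have : Finite (gorb p (lam : P → ℂ)) := hfin
  let f : (ZMod (p ^ e))ˣ → gorb p (lam : P → ℂ) := fun u =>
    ⟨tw ((u : ZMod (p ^ e)).val) (lam : P → ℂ),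
      tw_mem_gorb (Nat.Coprime.coprime_dvd_right (dvd_pow_self p he0.ne')
        (ZMod.val_coe_unit_coprime u)) _⟩
  have hinj : Function.Injective f := by
    intro u v huv
    have h2 : tw ((u : ZMod (p ^ e)).val) (lam : P → ℂ) = tw ((v : ZMod (p ^ e)).val) (lam : P → ℂ) :=
      congrArg Subtype.val huv
    have h3 := congrFun h2 g₀
    rw [tw_apply, tw_apply, ← hFapp, ← hFapp, map_pow, map_pow] at h3
    have h4 : F g₀ ^ (u : ZMod (p ^ e)).val = F g₀ ^ (v : ZMod (p ^ e)).val := Units.ext h3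
    have h5 := pow_eq_pow_iff_modEq.mp h4
    rw [hord] at h5
    have h6 := (ZMod.natCast_eq_natCast_iff _ _ _).mpr h5
    rw [ZMod.natCast_zmod_val, ZMod.natCast_zmod_val] at h6
    exact Units.ext h6
  have hle := Nat.card_le_card_of_injective f hinj
  rw [Nat.card_coe_set_eq, ht, card_units_pow p e hp he0, mul_comm] at hle
  have hp1 : 0 < p - 1 := Nat.sub_pos_of_lt hp.one_lt
  have h7 : p ^ (e - 1) ≤ p ^ t := Nat.le_of_mul_le_mul_left hle hp1
  have h8 := (Nat.pow_le_pow_iff_right hp.one_lt).mp h7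
  omega

end Cfsg.Agent.Lib.H26.PFld
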