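import Mathlib
import Cfsg.Prelude
import Cfsg.Agent.Lib.H26.PFldB
import Cfsg.Agent.Lib.H26.PFldC
import Cfsg.Agent.Lib.H26.PFldD
import Cfsg.Agent.Lib.H26.PFldG
import Cfsg.Agent.Lib.H26.PFldH

/-!
# Fields of values of characters of `p`-groups, part I (helper26)

The main induction: for a non-principal irreducible character `χ` of a `p`-group with
`|P : ker χ| = p ^ e`, `χ(1) = f` and `(p - 1) p ^ t` power twists,
`(p - 1) e ≤ (f - 1) + (p - 1) (t + 1) f`.
-/

set_option autoImplicit false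

universe u

namespace Cfsg.Agent.Lib.H26.PFld

open Cfsg Cfsg.Agent.Lib.L0 Cfsg.Agent.Lib.H23 Cfsg.Agent.Lib.H24
open Cfsg.Agent.Lib.H24.PGalConj

/-- arithmetic, case of equal `t`. -/
theorem arith_one (p e e' f' t : ℕ) (hp : 2 ≤ p) (hf' : 1 ≤ f') (he : e ≤ p * e' + 1)
    (hIH : (p - 1) * e' ≤ (f' - 1) + (p - 1) * (t + 1) * f') :
    (p - 1) * e ≤ (p * f' - 1) + (p - 1) * (t + 1) * (p * f') := by
  obtain ⟨q, rfl⟩ : ∃ q, p = q + 1 := ⟨p - 1, by omega⟩
  obtain ⟨g, rfl⟩ : ∃ g, f' = g + 1 := ⟨f' - 1, by omega⟩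
  simp only [Nat.add_sub_cancel] at hIH ⊢
  have h1 : q * e ≤ q * ((q + 1) * e' + 1) := Nat.mul_le_mul_left q he
  have h2 : (q + 1) * (q * e') ≤ (q + 1) * (g + q * (t + 1) * (g + 1)) :=
    Nat.mul_le_mul_left (q + 1) hIH
  have h3 : (q + 1) * (g + 1) - 1 = (q + 1) * g + q := by
    have : (q + 1) * (g + 1) = (q + 1) * g + q + 1 := by ring
    omega
  rw [h3]
  nlinarith [h1, h2]

/-- arithmetic, case `t' = t + 1`. -/
theorem arith_two (p e e' f' t : ℕ) (hp : 2 ≤ p) (hf' : 1 ≤ f') (he : e ≤ e' + 1)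
    (hIH : (p - 1) * e' ≤ (f' - 1) + (p - 1) * (t + 1 + 1) * f') :
    (p - 1) * e ≤ (p * f' - 1) + (p - 1) * (t + 1) * (p * f') := by
  obtain ⟨q, rfl⟩ : ∃ q, p = q + 2 := ⟨p - 2, by omega⟩
  obtain ⟨g, rfl⟩ : ∃ g, f' = g + 1 := ⟨f' - 1, by omega⟩
  have e1 : q + 2 - 1 = q + 1 := by omega
  rw [e1] at hIH ⊢
  simp only [Nat.add_sub_cancel] at hIH
  have h1 : (q + 1) * e ≤ (q + 1) * (e' + 1) := Nat.mul_le_mul_left (q + 1) he
  have h3 : (q + 2) * (g + 1) - 1 = (q + 2) * g + q + 1 := by
    have : (q + 2) * (g + 1) = (q + 2) * g + q + 1 + 1 := by ring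
    omega
  rw [h3]
  nlinarith [h1, hIH, Nat.zero_le (q * g), Nat.zero_le (q * t * g), Nat.zero_le (q * q * g),
    Nat.zero_le (q * q * t * g), Nat.zero_le (q * t), Nat.zero_le (q * q * t),
    Nat.zero_le (t * g), Nat.zero_le (q * q)]

theorem main_aux : ∀ (n : ℕ) (P : Type u) [Group P] [Fintype P], Nat.card P = n →
    ∀ (p : ℕ), p.Prime → IsPGroup p P → ∀ χ : IrrCharacter P, ker χ ≠ ⊤ →
    ∀ e t f : ℕ, (ker χ).index = p ^ e → (gorb p (χ : P → ℂ)).ncard = (p - 1) * p ^ t →
      charDegree (χ : P → ℂ) = f → (p - 1) * e ≤ (f - 1) + (p - 1) * (t + 1) * f := by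
  intro n
  induction n using Nat.strong_induction_on with
  | _ n ih =>
    intro P _ _ hcard p hp hP χ hker e t f he ht hf
    classical
    have hfact : Fact p.Prime := ⟨hp⟩
    by_cases hf1 : f = 1
    · have h1 := base_case p hp χ (hf.trans hf1) e t he hker ht
      rw [hf1, mul_one]
      have : (p - 1) * e ≤ (p - 1) * (t + 1) := Nat.mul_le_mul_left _ h1
      omega
    · have hχ1 : (χ : P → ℂ) 1 ≠ 1 := by
        rw [apply_one_eq_charDegree _ χ.2, hf]
        exact_mod_cast hf1
      obtain ⟨H, hHn, ψ, hψ, hidx, hind, hdeg⟩ := exists_ind_index_p p hP χ.2 hχ1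
      have : Fintype H := Fintype.ofFinite H
      have D : IndData p H ψ (χ : P → ℂ) := ⟨hp, hP, hidx, hψ, χ.2, hind, hdeg⟩
      set ψ' : IrrCharacter H := ⟨ψ, hψ⟩ with hψ'
      -- `ψ` is not principal
      have hker' : ker ψ' ≠ ⊤ := by
        intro htop
        have htriv : ψ = fun _ => 1 := irr_eq_trivial_of_charKer_eq_top hψ htop
        have hfrob := frobenius_reciprocity H ψ (1 : P → ℂ)
          (isClassFunction_of_isCharacter (isCharacter_of_irr L0.isIrrCharacter_one))
        rw [hind] at hfrob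
        have hres : (fun h : H => (1 : P → ℂ) h) = ψ := by
          rw [htriv]
          rfl
        rw [hres, irr_classInner_self hψ] at hfrob
        have hne : (χ : P → ℂ) = 1 := by
          by_contra hne
          have := irr_classInner_ne χ.2 L0.isIrrCharacter_one hne
          rw [hfrob] at this
          exact one_ne_zero this
        apply hχ1
        rw [hne]
        rfl
      -- cardinalities
      have hHP : IsPGroup p H := hP.to_subgroup H
      obtain ⟨b, hb⟩ := IsPGroup.iff_card.mp hHP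
      have hlt : Nat.card H < n := by
        rw [← hcard]
        have h1 := H.card_mul_index
        rw [hidx] at h1
        have hHpos : 0 < Nat.card H := Nat.card_pos
        have : Nat.card H * 2 ≤ Nat.card H * p := Nat.mul_le_mul_left _ hp.two_le
        omega
      obtain ⟨t', ht'⟩ := exists_ncard_gorb_irr p b hp hb ψ' hker'
      obtain ⟨e', -, he'⟩ : ∃ e', e' ≤ b ∧ (ker ψ').index = p ^ e' := by
        have h1 : (ker ψ').index ∣ p ^ b := by
          rw [← hb]
          exact Subgroup.index_dvd_card _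
        exact (Nat.dvd_prime_pow hp).mp h1
      have hf'pos : 1 ≤ charDegree ψ := charDegree_pos ψ hψ
      have hfeq : f = p * charDegree ψ := hf.symm.trans hdeg
      have hIH := ih (Nat.card H) hlt H rfl p hp hHP ψ' hker' e' t' (charDegree ψ) he' ht' rfl
      rw [hfeq]
      rcases D.dichotomy t t' ht ht' with heq | ⟨heq, Φ, hΦ, hsum⟩
      · -- equal `t`
        have hidxle := D.index_le_pow
        have he2 : p ^ e ≤ (p ^ e') ^ p * p := by
          rw [← he, ← he']
          exact hidxle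
        rw [← pow_mul, ← pow_succ] at he2
        have he3 : e ≤ e' * p + 1 := (Nat.pow_le_pow_iff_right hp.one_lt).mp he2
        rw [heq] at hIH
        exact arith_one p e e' (charDegree ψ) t hp.two_le hf'pos (by rw [mul_comm]; exact he3) hIH
      · have hidxle := D.index_le_of_sum Φ hΦ hsum
        have he2 : p ^ e ≤ p ^ e' * p := by
          rw [← he, ← he']
          exact hidxle
        rw [← pow_succ] at he2
        have he3 : e ≤ e' + 1 := (Nat.pow_le_pow_iff_right hp.one_lt).mp he2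
        rw [heq] at hIH
        exact arith_two p e e' (charDegree ψ) t hp.two_le hf'pos he3 hIH

end Cfsg.Agent.Lib.H26.PFld
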