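import Mathlib
import Cfsg.Agent.Lib.H26.PPearlDefs
import Cfsg.Agent.Lib.H26.PPearlCollect
import Cfsg.Agent.Lib.H22.MCSCARD
import Cfsg.Agent.Lib.H23.PPearlBASE
import Cfsg.Agent.Lib.H23.PPearlIDX
import Cfsg.Agent.Lib.H2.PPearlCLS
import Cfsg.Agent.Lib.H2.PPearlFILA
import Cfsg.Agent.Lib.H27.PPearlU
import Cfsg.Agent.Lib.H21.PPearlPW
import Cfsg.Agent.Lib.H11.PPearlTWO
import Cfsg.Agent.Lib.H25.PPearlGEN

/-!
# S5238 (helper26): the group-theoretic main theorem

A finite `p`-group `G` of order `p^n`, `n ≥ 3`, with an element `e` of order dividing `p` whose centralizer has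
order `p²`, has maximal class and every subgroup is generated by at most `p` elements.
-/

set_option autoImplicit false

namespace Cfsg.Agent.Lib.H26.PPearl

open Cfsg.Agent.Lib.H22.Pearl

variable {p : ℕ} [Fact p.Prime] {G : Type*} [Group G] [Finite G] {n : ℕ} {e : G}

theorem main (h : PP p G n e) (hn : 3 ≤ n) :
    L G (n - 2) ≠ ⊥ ∧
      ∀ H : Subgroup G, ∃ T : Finset G, T.card ≤ p ∧ Subgroup.closure (T : Set G) = H := by
  have hpp : p.Prime := Fact.out
  have hmc : L G (n - 2) ≠ ⊥ := Cfsg.Agent.Lib.H23.PPearl.PP.lcs_ne_bot h hn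
  refine ⟨hmc, ?_⟩
  have hcard : ∀ i, 1 ≤ i → i ≤ n - 1 → Nat.card ↥(L G i) = p ^ (n - 1 - i) := fun i hi1 hin =>
    Cfsg.Agent.Lib.H22.MCS.card_lcs_of_maxclass p hn h.card hmc i hi1 hin
  have hL1 : Nat.card ↥(L G 1) = p ^ (n - 2) := by
    have := hcard 1 le_rfl (by omega)
    rwa [show n - 1 - 1 = n - 2 by omega] at this
  have hpowL1 : ∀ x : G, x ^ p ∈ L G 1 := fun x =>
    Cfsg.Agent.Lib.H22.MCS.pow_mem_commutator_of_maxclass p hn h.card hmc x
  have hbot : L G (n - 1) = ⊥ := by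
    have := hcard (n - 1) (by omega) le_rfl
    rw [Nat.sub_self, pow_zero] at this
    exact (Subgroup.card_eq_one).1 this
  -- the class of e
  have hconj : ∀ d ∈ L G 1, ∃ g : G, g * e * g⁻¹ = e * d :=
    Cfsg.Agent.Lib.H2.PPearl.PP.exists_conj_eq h hn hL1
  have hcls : ∀ d ∈ L G 1, (e * d) ^ p = 1 := by
    intro d hd
    obtain ⟨g, hg⟩ := hconj d hd
    rw [← hg, conj_pow, h.he]
    group
  -- U1, U2 for any element satisfying PP
  have hU2gen : ∀ t : G, PP p G n t → ∀ i, 1 ≤ i → i + 2 < n → ∀ d ∈ L G i, d ∉ L G (i + 1) →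
      d * t * d⁻¹ * t⁻¹ ∉ L G (i + 2) := by
    intro t ht i hi1 hi
    exact Cfsg.Agent.Lib.H27.PPearl.PP.comm_not_mem ht hn hcard
      (fun i hi1 hi => Cfsg.Agent.Lib.H27.PPearl.PP.exists_comm_eq ht hn hcard i hi1 hi) i hi1 (by omega)
  -- the power structure
  have hpw := Cfsg.Agent.Lib.H21.PPearl.pow_struct_of_collect (G := G) (e := e) hpp
    (fun K h1 h2 h3 h4 h5 d hd => collect hpp K e h1 h2 h3 h4 h5 d hd) h.he (n - 1) hbot hcls
    (fun i hi1 hi => hU2gen e h i hi1 (by omega))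
  -- the filtration of γ₂
  have hFil : Fil (fun i => L G (i + 1)) (n - 2) := by
    refine ⟨fun i => Subgroup.lowerCentralSeries_antitone _ (by omega), ?_, ?_⟩
    · show L G (n - 2 + 1) = ⊥
      rw [show n - 2 + 1 = n - 1 by omega]; exact hbot
    · intro i hi g hg w hw hwn
      have hc : Nat.card ↥(L G (i + 1)) = p * Nat.card ↥(L G (i + 1 + 1)) := by
        rw [hcard (i + 1) (by omega) (by omega), hcard (i + 1 + 1) (by omega) (by omega), ← pow_succ']
        congr 1; omega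
      exact Cfsg.Agent.Lib.H23.PPearl.exists_mul_pow_mem (p := p) (L G (i + 1)) (L G (i + 1 + 1))
        (Subgroup.lowerCentralSeries_antitone _ (by omega))
        (fun a _ k hk => (inferInstance : (L G (i + 1 + 1)).Normal).conj_mem k hk a) hc g hg w hw hwn
  have hA : ∀ H : Subgroup G, H ≤ L G 1 →
      ∃ T : Finset G, T.card ≤ p - 1 ∧ Subgroup.closure (T : Set G) = H := by
    intro H hH
    apply Cfsg.Agent.Lib.H2.PPearl.fil_gen hFil hpp.two_le ?_ H hH
    intro i hi d hd hdn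
    obtain ⟨h1, h2⟩ := hpw (i + 1) (by omega)
    refine ⟨?_, ?_⟩
    · have := h1 d hd
      rwa [show i + 1 + (p - 1) = i + (p - 1) + 1 by omega] at this
    · have := h2 (by omega) d hd hdn
      rwa [show i + 1 + p = i + p + 1 by omega] at this
  have hB : ∀ t : G, (∃ d ∈ L G 1, t = e * d) → ∀ H : Subgroup G, t ∈ H →
      ∃ x : G, Subgroup.closure ({t, x} : Set G) = H := by
    rintro t ⟨d, hd, rfl⟩ H htH
    obtain ⟨g, hg⟩ := hconj d hd
    have ht : PP p G n (e * d) := by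
      rw [← hg]; exact Cfsg.Agent.Lib.H23.PPearl.PP.conj h g
    exact Cfsg.Agent.Lib.H11.PPearl.two_gen_of_uniform hn h.card hcard (e * d)
      (Cfsg.Agent.Lib.H27.PPearl.PP.not_mem_L1 ht hn hcard) (hU2gen _ ht) H htH
  exact Cfsg.Agent.Lib.H25.PPearl.gen_le_p hn h.card hL1 hpowL1 hA hB

end Cfsg.Agent.Lib.H26.PPearl
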