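import Cfsg.Agent.Lib.H24.CharDefl
import Cfsg.Agent.Lib.H22.PPrimeCore

/-!
# S4886 piece QUOT (helper26), exact signature of `tools/blueprints/S4886_sigs.lean`.
-/

set_option autoImplicit false

namespace Cfsg.Agent.Lib.H26.PQ2

open Cfsg

/-- The image of `O_{p'}(G)` in `G ⧸ N` lies in `O_{p'}(G ⧸ N)`. -/
theorem map_pPrimeCore_le {G : Type*} [Group G] [Finite G] (p : ℕ) (N : Subgroup G) [N.Normal] :
    (pPrimeCore p G).map (QuotientGroup.mk' N) ≤ pPrimeCore p (G ⧸ N) := by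
  haveI := Cfsg.Agent.Lib.H22.pPrimeCore_normal (G := G) p
  apply Cfsg.Agent.Lib.H22.le_pPrimeCore
  · exact Subgroup.Normal.map inferInstance _ (QuotientGroup.mk'_surjective N)
  · have h1 : Nat.card ((pPrimeCore p G).map (QuotientGroup.mk' N)) ∣ Nat.card (pPrimeCore p G) :=
      Subgroup.card_map_dvd _ _
    exact Nat.Coprime.coprime_dvd_left h1 (Cfsg.Agent.Lib.H22.card_pPrimeCore_coprime p)

/-- QUOT: the cross hypothesis passes to quotients. -/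
theorem cross_quotient {G : Type*} [Group G] [Finite G] (p q : ℕ) [Fact p.Prime]
    (N : Subgroup G) [N.Normal]
    (h : ∀ χ : IrrCharacter G, (∀ a ∈ pPrimeCore p G, (χ : G → ℂ) a = (χ : G → ℂ) 1) →
      ¬ p ∣ charDegree (χ : G → ℂ) → ¬ q ∣ charDegree (χ : G → ℂ))
    (ψ : IrrCharacter (G ⧸ N))
    (hψ : ∀ a ∈ pPrimeCore p (G ⧸ N), (ψ : G ⧸ N → ℂ) a = (ψ : G ⧸ N → ℂ) 1)
    (hp : ¬ p ∣ charDegree (ψ : G ⧸ N → ℂ)) : ¬ q ∣ charDegree (ψ : G ⧸ N → ℂ) := by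
  have key := h (Cfsg.Agent.Lib.H24.inflIrr N ψ) ?_ ?_
  · rwa [Cfsg.Agent.Lib.H24.charDegree_inflIrr] at key
  · intro a ha
    rw [Cfsg.Agent.Lib.H24.inflIrr_apply, Cfsg.Agent.Lib.H24.inflIrr_apply, QuotientGroup.mk_one]
    apply hψ
    apply map_pPrimeCore_le p N
    exact Subgroup.mem_map_of_mem _ ha
  · rwa [Cfsg.Agent.Lib.H24.charDegree_inflIrr]

end Cfsg.Agent.Lib.H26.PQ2
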