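import Mathlib
import Cfsg.Agent.Lib.H20.BHM2
import Cfsg.Agent.Lib.H20.PowDecomp

set_option autoImplicit false

/-!
# Class sizes of `p`-singular elements, part A: `p`-elements, conjugation into subgroups
-/

namespace Cfsg.Agent.Lib.H26.PSing

open Cfsg.Agent.Lib.H20 Cfsg.Agent.Lib.H20.BHM

variable {G : Type*} [Group G]

/-- `x` is a `p`-element. -/
def PEl (p : ℕ) (x : G) : Prop := ∃ e : ℕ, orderOf x = p ^ e

theorem orderOf_conj' (g x : G) : orderOf (g * x * g⁻¹) = orderOf x := by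
  have h := MulEquiv.orderOf_eq (MulAut.conj g) x
  rwa [MulAut.conj_apply] at h

theorem PEl.conj {p : ℕ} {x : G} (h : PEl p x) (g : G) : PEl p (g * x * g⁻¹) := by
  obtain ⟨e, he⟩ := h
  exact ⟨e, by rw [orderOf_conj', he]⟩

theorem PEl.inv {p : ℕ} {x : G} (h : PEl p x) : PEl p x⁻¹ := by
  obtain ⟨e, he⟩ := h
  exact ⟨e, by rw [orderOf_inv, he]⟩

theorem PEl.one (p : ℕ) : PEl p (1 : G) := ⟨0, by simp⟩

theorem PEl.mul {p : ℕ} (hp : p.Prime) {x y : G} (hx : PEl p x) (hy : PEl p y)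
    (hc : Commute x y) : PEl p (x * y) := by
  obtain ⟨a, ha⟩ := hx
  obtain ⟨b, hb⟩ := hy
  have h1 : orderOf (x * y) ∣ p ^ (max a b) := by
    apply (hc.orderOf_mul_dvd_lcm).trans
    rw [ha, hb]
    apply Nat.lcm_dvd
    · exact pow_dvd_pow p (le_max_left a b)
    · exact pow_dvd_pow p (le_max_right a b)
  obtain ⟨e, _, he⟩ := (Nat.dvd_prime_pow hp).mp h1
  exact ⟨e, he⟩

theorem PEl.dvd_orderOf {p : ℕ} {x : G} (h : PEl p x) (h1 : x ≠ 1) : p ∣ orderOf x := by
  obtain ⟨e, he⟩ := h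
  rw [he]
  have : e ≠ 0 := by
    rintro rfl
    rw [pow_zero, orderOf_eq_one_iff] at he
    exact h1 he
  exact dvd_pow_self p this

theorem PEl.pow_eq_one {p : ℕ} {x : G} (h : PEl p x) : ∃ e : ℕ, x ^ p ^ e = 1 := by
  obtain ⟨e, he⟩ := h
  exact ⟨e, by rw [← he, pow_orderOf_eq_one]⟩

theorem PEl.isPGroup_zpowers {p : ℕ} {x : G} (h : PEl p x) : IsPGroup p (Subgroup.zpowers x) := by
  obtain ⟨e, he⟩ := h
  apply IsPGroup.of_card (n := e)
  rw [Nat.card_zpowers, he]

theorem PEl.of_mem {p : ℕ} [Fact p.Prime] {P : Subgroup G} (hP : IsPGroup p P) {x : G}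
    (hx : x ∈ P) : PEl p x := by
  obtain ⟨k, hk⟩ := hP ⟨x, hx⟩
  have h1 : x ^ p ^ k = 1 := by
    have := congrArg Subtype.val hk
    simpa using this
  have h2 : orderOf x ∣ p ^ k := orderOf_dvd_of_pow_eq_one h1
  obtain ⟨e, _, he⟩ := (Nat.dvd_prime_pow (Fact.out : p.Prime)).mp h2
  exact ⟨e, he⟩

/-- A nontrivial `p`-element is not central when `p ∤ |Z(G)|`. -/
theorem PEl.not_mem_center [Finite G] {p : ℕ} (hZ : ¬ p ∣ Nat.card ↥(Subgroup.center G)) {x : G}
    (h : PEl p x) (h1 : x ≠ 1) : x ∉ Subgroup.center G := by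
  intro hx
  apply hZ
  have h2 : orderOf (⟨x, hx⟩ : Subgroup.center G) ∣ Nat.card ↥(Subgroup.center G) :=
    orderOf_dvd_natCard _
  rw [Subgroup.orderOf_mk] at h2
  exact (h.dvd_orderOf h1).trans h2

/-- A `p`-element is conjugate into any subgroup of index prime to `p`. -/
theorem exists_conj_mem_of_not_dvd_index [Finite G] {p : ℕ} [Fact p.Prime] {H : Subgroup G}
    (hH : ¬ p ∣ H.index) {x : G} (hx : PEl p x) : ∃ g : G, g * x * g⁻¹ ∈ H := by
  have hcard : ¬ p ∣ Nat.card (G ⧸ H) := by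
    rwa [← Subgroup.index_eq_card]
  obtain ⟨q, hq⟩ := hx.isPGroup_zpowers.nonempty_fixed_point_of_prime_not_dvd_card (G ⧸ H) hcard
  induction q using QuotientGroup.induction_on with
  | H g =>
    refine ⟨g⁻¹, ?_⟩
    have h1 := hq ⟨x, Subgroup.mem_zpowers x⟩
    have h2 : (QuotientGroup.mk (x * g) : G ⧸ H) = QuotientGroup.mk g := h1
    rw [QuotientGroup.eq] at h2
    have e : g⁻¹ * x * g⁻¹⁻¹ = ((x * g)⁻¹ * g)⁻¹ := by group
    rw [e]
    exact H.inv_mem h2

theorem cs_conj' (g x : G) : cs (g⁻¹ * x * g) = cs x := by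
  have := cs_conj g⁻¹ x
  rwa [inv_inv] at this

/-- primes of `cs x` all lie in `A` -/
def InSet (A : Set ℕ) (x : G) : Prop := ∀ q : ℕ, q.Prime → q ∣ cs x → q ∈ A

theorem InSet.conj {A : Set ℕ} {x : G} (h : InSet A x) (g : G) : InSet A (g * x * g⁻¹) := by
  intro q hq hd
  rw [cs_conj] at hd
  exact h q hq hd

theorem InSet.of_dvd {A : Set ℕ} {x y : G} (h : InSet A x) (hd : cs y ∣ cs x) : InSet A y :=
  fun q hq hqd => h q hq (hqd.trans hd)

/-- `cs` of a commuting product of coprime-order elements is divisible by both class sizes. -/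
theorem cs_dvd_mul_left {x y : G} (hc : Commute x y) (hco : (orderOf x).Coprime (orderOf y)) :
    cs x ∣ cs (x * y) := by
  apply cs_dvd_of_le
  rw [centralizer_mul_of_coprime hc hco]
  exact inf_le_left

theorem cs_dvd_mul_right {x y : G} (hc : Commute x y) (hco : (orderOf x).Coprime (orderOf y)) :
    cs y ∣ cs (x * y) := by
  apply cs_dvd_of_le
  rw [centralizer_mul_of_coprime hc hco]
  exact inf_le_right

theorem PEl.coprime_orderOf {p : ℕ} {x w : G} (hx : PEl p x) (hw : (orderOf w).Coprime p) :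
    (orderOf x).Coprime (orderOf w) := by
  obtain ⟨e, he⟩ := hx
  rw [he]
  exact (Nat.Coprime.pow_right e hw).symm

/-- The product of a nontrivial `p`-element with a commuting `p'`-element is `p`-singular. -/
theorem dvd_orderOf_mul {p : ℕ} {x w : G} (hx : PEl p x) (h1 : x ≠ 1)
    (hw : (orderOf w).Coprime p) (hc : Commute x w) : p ∣ orderOf (x * w) := by
  rw [hc.orderOf_mul_eq_mul_orderOf_of_coprime (hx.coprime_orderOf hw)]
  exact (hx.dvd_orderOf h1).mul_right _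

end Cfsg.Agent.Lib.H26.PSing
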