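import Mathlib
import Cfsg.Agent.Lib.H26.PSingA
import Cfsg.Agent.Lib.H20.BHM3

set_option autoImplicit false

/-!
# Class sizes of `p`-singular elements, part B: the Bertram–Herzog–Mann coset trick on `p`-elements
-/

namespace Cfsg.Agent.Lib.H26.PSing

open Cfsg.Agent.Lib.H20 Cfsg.Agent.Lib.H20.BHM
open scoped Pointwise

variable {G : Type*} [Group G]

/-- nontrivial `p`-element whose class-size primes all lie in `A` -/
def PA (p : ℕ) (A : Set ℕ) (x : G) : Prop := x ≠ 1 ∧ PEl p x ∧ InSet A x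

theorem PA.conj {p : ℕ} {A : Set ℕ} {x : G} (h : PA p A x) (g : G) : PA p A (g * x * g⁻¹) := by
  refine ⟨?_, h.2.1.conj g, h.2.2.conj g⟩
  intro h1
  apply h.1
  have : x = g⁻¹ * (g * x * g⁻¹) * g := by group
  rw [this, h1]; group

/-- The two sets of primes are far apart in the `p`-singular class-size graph. -/
structure Far (G : Type*) [Group G] (p : ℕ) (A B : Set ℕ) : Prop where
  disj : ∀ q : ℕ, q ∈ A → q ∈ B → False
  noedge : ∀ x : G, p ∣ orderOf x → ∀ a b : ℕ, a ∈ A → b ∈ B → a.Prime → b.Prime →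
    a ∣ cs x → b ∣ cs x → False

theorem Far.symm {p : ℕ} {A B : Set ℕ} (h : Far G p A B) : Far G p B A where
  disj := fun q hB hA => h.disj q hA hB
  noedge := fun x hx a b ha hb hap hbp had hbd => h.noedge x hx b a hb ha hbp hap hbd had

section

variable [Finite G] {p : ℕ} [hp : Fact p.Prime] {A B : Set ℕ}

theorem Far.coprime (h : Far G p A B) {x y : G} (hx : InSet A x) (hy : InSet B y) :
    (cs x).Coprime (cs y) := by
  by_contra hn
  obtain ⟨q, hq, h1, h2⟩ := Nat.Prime.not_coprime_iff_dvd.mp hn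
  exact h.disj q (hx q hq h1) (hy q hq h2)

theorem commute_conj_iff {a b g : G} : Commute (g * a * g⁻¹) b ↔ Commute a (g⁻¹ * b * g) := by
  constructor
  · intro h
    have h1 : g * a * g⁻¹ * b = b * (g * a * g⁻¹) := h.eq
    show a * (g⁻¹ * b * g) = g⁻¹ * b * g * a
    calc a * (g⁻¹ * b * g) = g⁻¹ * (g * a * g⁻¹ * b) * g := by group
      _ = g⁻¹ * (b * (g * a * g⁻¹)) * g := by rw [h1]
      _ = g⁻¹ * b * g * a := by group
  · intro h
    have h1 : a * (g⁻¹ * b * g) = g⁻¹ * b * g * a := h.eq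
    show g * a * g⁻¹ * b = b * (g * a * g⁻¹)
    calc g * a * g⁻¹ * b = g * (a * (g⁻¹ * b * g)) * g⁻¹ := by group
      _ = g * (g⁻¹ * b * g * a) * g⁻¹ := by rw [h1]
      _ = b * (g * a * g⁻¹) := by group

/-- Two `p`-elements with coprime class sizes: some conjugate of one commutes with the other. -/
theorem exists_commute_conj {x y : G} (hx : PEl p x) (hy : PEl p y)
    (hco : (cs x).Coprime (cs y)) : ∃ g : G, Commute (g * y * g⁻¹) x := by
  by_cases h1 : p ∣ cs x
  · have h2 : ¬ p ∣ cs y := by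
      intro h2
      have := Nat.dvd_gcd h1 h2
      rw [hco] at this
      exact hp.out.one_lt.ne' (Nat.dvd_one.mp this)
    obtain ⟨g, hg⟩ := exists_conj_mem_of_not_dvd_index (p := p) h2 hx
    rw [Subgroup.mem_centralizer_singleton_iff] at hg
    refine ⟨g⁻¹, ?_⟩
    have h3 : Commute (g * x * g⁻¹) y := hg
    have h4 := commute_conj_iff.mp h3
    have e : g⁻¹ * y * g⁻¹⁻¹ = g⁻¹ * y * g := by group
    rw [e]
    exact h4.symm
  · obtain ⟨g, hg⟩ := exists_conj_mem_of_not_dvd_index (p := p) h1 hy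
    rw [Subgroup.mem_centralizer_singleton_iff] at hg
    exact ⟨g, hg⟩

theorem cs_mul_dvd_of_coprime {x y : G} (hco : (cs x).Coprime (cs y)) :
    cs (y * x) ∣ cs y * cs x := by
  have h1 : Subgroup.centralizer ({y} : Set G) ⊓ Subgroup.centralizer ({x} : Set G) ≤
      Subgroup.centralizer ({y * x} : Set G) := by
    intro g hg
    rw [Subgroup.mem_inf, Subgroup.mem_centralizer_singleton_iff,
      Subgroup.mem_centralizer_singleton_iff] at hg
    rw [Subgroup.mem_centralizer_singleton_iff]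
    have a1 : Commute g y := hg.1
    have a2 : Commute g x := hg.2
    exact (a1.mul_right a2).eq
  have h2 := Subgroup.index_dvd_of_le h1
  rwa [index_inf_of_coprime _ _ hco.symm] at h2

/-- A commuting product of an `A`-type and a `B`-type `p`-element is again of one of the types. -/
theorem PA.mul_of_commute (hF : Far G p A B) (hZ : ¬ p ∣ Nat.card ↥(Subgroup.center G))
    {x y : G} (hx : PA p A x) (hy : PA p B y) (hc : Commute y x) :
    PA p A (y * x) ∨ PA p B (y * x) := by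
  have hco := hF.coprime hx.2.2 hy.2.2
  have hpel : PEl p (y * x) := PEl.mul hp.out hy.2.1 hx.2.1 hc
  have hne : y * x ≠ 1 := by
    intro h1
    have h2 : y = x⁻¹ := eq_inv_of_mul_eq_one_left h1
    have h3 : cs y = cs x := by rw [h2, cs_inv]
    rw [h3, Nat.coprime_self] at hco
    exact hx.2.1.not_mem_center hZ hx.1 ((cs_eq_one_iff x).mp hco)
  have hd := cs_mul_dvd_of_coprime hco
  by_cases hA : InSet A (y * x)
  · exact Or.inl ⟨hne, hpel, hA⟩
  · right
    refine ⟨hne, hpel, ?_⟩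
    unfold InSet at hA
    push_neg at hA
    obtain ⟨q, hq, hqd, hqA⟩ := hA
    have hqB : q ∈ B := by
      rcases (Nat.Prime.dvd_mul hq).mp (hqd.trans hd) with h | h
      · exact hy.2.2 q hq h
      · exact absurd (hx.2.2 q hq h) hqA
    intro q' hq' hq'd
    rcases (Nat.Prime.dvd_mul hq').mp (hq'd.trans hd) with h | h
    · exact hy.2.2 q' hq' h
    · exfalso
      exact hF.noedge (y * x) (hpel.dvd_orderOf hne) q' q (hx.2.2 q' hq' h) hqB hq' hq hq'd hqd

/-- The class-size bound for products with an element of maximal class size. -/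
theorem cs_mul_le (hF : Far G p A B) (hZ : ¬ p ∣ Nat.card ↥(Subgroup.center G))
    {x0 : G} (hx0 : PA p A x0) (hmax : ∀ c : G, PA p A c ∨ PA p B c → cs c ≤ cs x0)
    {y : G} (hy : PA p B y) : cs (y * x0) ≤ cs x0 := by
  have hco := hF.coprime hx0.2.2 hy.2.2
  obtain ⟨g, hg⟩ := exists_commute_conj hx0.2.1 hy.2.1 hco
  have hy' := hy.conj g
  have h1 := hmax _ (PA.mul_of_commute hF hZ hx0 hy' hg)
  have hco' : (cs x0).Coprime (cs (g * y * g⁻¹)) := by rw [cs_conj]; exact hco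
  obtain ⟨u, hu, v, hv, huv⟩ := exists_mul_of_coprime hco' g⁻¹
  rw [Subgroup.mem_centralizer_singleton_iff] at hu hv
  have e1 : y = u * (g * y * g⁻¹) * u⁻¹ := by
    have hv' : v * (g * y * g⁻¹) * v⁻¹ = g * y * g⁻¹ := by rw [hv]; group
    calc y = g⁻¹ * (g * y * g⁻¹) * g⁻¹⁻¹ := by group
      _ = u * (v * (g * y * g⁻¹) * v⁻¹) * u⁻¹ := by rw [huv]; group
      _ = u * (g * y * g⁻¹) * u⁻¹ := by rw [hv']
  have e2 : y * x0 = u * (g * y * g⁻¹ * x0) * u⁻¹ := by
    have hu' : u * x0 * u⁻¹ = x0 := by rw [hu]; group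
    calc y * x0 = u * (g * y * g⁻¹) * u⁻¹ * x0 := by rw [← e1]
      _ = u * (g * y * g⁻¹) * u⁻¹ * (u * x0 * u⁻¹) := by rw [hu']
      _ = u * (g * y * g⁻¹ * x0) * u⁻¹ := by group
  rw [e2, cs_conj]
  exact h1

theorem smul_cls_eq' {a b0 : G} (hc : (cs a).Coprime (cs b0)) (hle : cs (a * b0) ≤ cs b0) :
    a • cls b0 = cls (a * b0) := by
  apply Set.eq_of_subset_of_ncard_le _ _ (Set.toFinite _)
  · rintro _ ⟨z, ⟨g, rfl⟩, rfl⟩
    obtain ⟨u, hu, v, hv, rfl⟩ := exists_mul_of_coprime hc g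
    rw [Subgroup.mem_centralizer_singleton_iff] at hu hv
    refine ⟨u, ?_⟩
    have hv' : v * b0 * v⁻¹ = b0 := by rw [hv]; group
    have hu' : u * a = a * u := hu
    have e1 : u * v * b0 * (u * v)⁻¹ = u * (v * b0 * v⁻¹) * u⁻¹ := by group
    simp only [smul_eq_mul]
    rw [e1, hv']
    calc u * (a * b0) * u⁻¹ = (u * a) * b0 * u⁻¹ := by group
      _ = (a * u) * b0 * u⁻¹ := by rw [hu']
      _ = a * (u * b0 * u⁻¹) := by group
  · rw [Set.ncard_smul_set, ← Nat.card_coe_set_eq, ← Nat.card_coe_set_eq, card_cls, card_cls]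
    exact hle

theorem inv_mul_conj_mem_stabK' {a b0 : G} (hc : (cs a).Coprime (cs b0))
    (hle : ∀ g : G, cs (g * a * g⁻¹ * b0) ≤ cs b0) (g : G) :
    a⁻¹ * (g * a * g⁻¹) ∈ stabK b0 := by
  have hc' : (cs (g * a * g⁻¹)).Coprime (cs b0) := by rw [cs_conj]; exact hc
  have hle1 : cs (a * b0) ≤ cs b0 := by
    have := hle 1
    simpa using this
  have h1 := smul_cls_eq' hc hle1
  have h2 := smul_cls_eq' hc' (hle g)
  have h3 : a * (g⁻¹ * b0 * g⁻¹⁻¹) ∈ cls (a * b0) := by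
    rw [← h1]
    exact ⟨_, ⟨g⁻¹, rfl⟩, rfl⟩
  have h4 : g * a * g⁻¹ * b0 ∈ cls (a * b0) := by
    have := conj_mem_cls h3 g
    have e : g * (a * (g⁻¹ * b0 * g⁻¹⁻¹)) * g⁻¹ = g * a * g⁻¹ * b0 := by group
    rwa [e] at this
  have h5 : cls (g * a * g⁻¹ * b0) = cls (a * b0) := cls_eq_of_mem h4
  rw [h5, ← h1] at h2
  unfold stabK
  rw [MulAction.mem_stabilizer_iff, mul_smul, h2, inv_smul_smul]

theorem stabK_le_centralizer' {a b0 : G} (hc : (cs a).Coprime (cs b0)) :
    stabK b0 ≤ Subgroup.centralizer ({a} : Set G) := by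
  rw [← Subgroup.relIndex_eq_one]
  have h1 : (Subgroup.centralizer ({a} : Set G)).relIndex (stabK b0) ∣ cs a :=
    Cfsg.Agent.Lib.H1.relIndex_dvd_index_of_normal_right _ _
  have h2 : (Subgroup.centralizer ({a} : Set G)).relIndex (stabK b0) ∣ cs b0 :=
    (Subgroup.relIndex_dvd_card _ _).trans (card_stabK_dvd b0)
  exact Nat.eq_one_of_dvd_coprimes hc h1 h2

/-- Half of the core: if the maximal class size among `A`- and `B`-type `p`-elements is attained
on the `A` side, then `p ∈ A` and conjugates of `B`-type elements commute. -/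
theorem core_half (hF : Far G p A B) (hZ : ¬ p ∣ Nat.card ↥(Subgroup.center G))
    {x0 : G} (hx0 : PA p A x0) (hmax : ∀ c : G, PA p A c ∨ PA p B c → cs c ≤ cs x0)
    (hB : ∃ y : G, PA p B y) :
    p ∈ A ∧ ∀ y : G, PA p B y → ∀ g : G, Commute (g * y * g⁻¹) y := by
  have key : ∀ y : G, PA p B y → ∀ g : G,
      y⁻¹ * (g * y * g⁻¹) ∈ stabK x0 ∧ Commute (y⁻¹ * (g * y * g⁻¹)) y := by
    intro y hy g
    have hco : (cs y).Coprime (cs x0) := (hF.coprime hx0.2.2 hy.2.2).symm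
    have hle : ∀ g : G, cs (g * y * g⁻¹ * x0) ≤ cs x0 := fun g =>
      cs_mul_le hF hZ hx0 hmax (hy.conj g)
    have h1 := inv_mul_conj_mem_stabK' hco hle g
    have h2 := stabK_le_centralizer' hco h1
    rw [Subgroup.mem_centralizer_singleton_iff] at h2
    exact ⟨h1, h2⟩
  have hcomm : ∀ y : G, PA p B y → ∀ g : G, Commute (g * y * g⁻¹) y := by
    intro y hy g
    have h1 := (key y hy g).2
    have e : g * y * g⁻¹ = y * (y⁻¹ * (g * y * g⁻¹)) := by group
    rw [e]
    exact (Commute.refl y).mul_left h1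
  refine ⟨?_, hcomm⟩
  obtain ⟨y, hy⟩ := hB
  have hyc := hy.2.1.not_mem_center hZ hy.1
  rw [Subgroup.mem_center_iff] at hyc
  push_neg at hyc
  obtain ⟨g, hg⟩ := hyc
  have hk := (key y hy g).1
  have hkne : y⁻¹ * (g * y * g⁻¹) ≠ 1 := by
    intro h1
    apply hg
    have h2 : g * y * g⁻¹ = y := by
      calc g * y * g⁻¹ = y * (y⁻¹ * (g * y * g⁻¹)) := by group
        _ = y := by rw [h1, mul_one]
    calc g * y = g * y * g⁻¹ * g := by group
      _ = y * g := by rw [h2]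
  have hkp : PEl p (y⁻¹ * (g * y * g⁻¹)) := by
    apply PEl.mul hp.out hy.2.1.inv (hy.2.1.conj g)
    exact ((hcomm y hy g).symm).inv_left
  have h1 : p ∣ orderOf (y⁻¹ * (g * y * g⁻¹)) := hkp.dvd_orderOf hkne
  have h2 : orderOf (y⁻¹ * (g * y * g⁻¹)) ∣ Nat.card (stabK x0) := by
    have := orderOf_dvd_natCard (⟨_, hk⟩ : stabK x0)
    rwa [Subgroup.orderOf_mk] at this
  have h3 : p ∣ cs x0 := (h1.trans h2).trans (card_stabK_dvd x0)
  exact hx0.2.2 p hp.out h3

/-- The core dichotomy. -/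
theorem core (hF : Far G p A B) (hZ : ¬ p ∣ Nat.card ↥(Subgroup.center G))
    (hA : ∃ x : G, PA p A x) (hB : ∃ y : G, PA p B y) :
    (p ∈ A ∧ ∀ y : G, PA p B y → ∀ g : G, Commute (g * y * g⁻¹) y) ∨
    (p ∈ B ∧ ∀ x : G, PA p A x → ∀ g : G, Commute (g * x * g⁻¹) x) := by
  haveI : Nonempty {c : G // PA p A c ∨ PA p B c} := by
    obtain ⟨x, hx⟩ := hA
    exact ⟨⟨x, Or.inl hx⟩⟩
  obtain ⟨⟨x0, hx0⟩, hmax⟩ := Finite.exists_max (fun c : {c : G // PA p A c ∨ PA p B c} => cs c.1)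
  have hmax' : ∀ c : G, PA p A c ∨ PA p B c → cs c ≤ cs x0 := fun c hc => hmax ⟨c, hc⟩
  rcases hx0 with h | h
  · exact Or.inl (core_half hF hZ h hmax' hB)
  · exact Or.inr (core_half hF.symm hZ h (fun c hc => hmax' c hc.symm) hA)

end

end Cfsg.Agent.Lib.H26.PSing
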