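import Mathlib
import Cfsg.Agent.Lib.H26.PSingB

set_option autoImplicit false

/-!
# Class sizes of `p`-singular elements, part C: the far configuration forces `p` isolated
-/

namespace Cfsg.Agent.Lib.H26.PSing

open Cfsg.Agent.Lib.H20 Cfsg.Agent.Lib.H20.BHM
open scoped Pointwise

variable {G : Type*} [Group G]

/-- The configuration of two vertices `r`, `s` at distance at least four. -/
structure Cfg (G : Type*) [Group G] (p r s : ℕ) (A B : Set ℕ) : Prop where
  far : Far G p A B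
  rA : r ∈ A
  sB : s ∈ B
  exr : ∃ x : G, p ∣ orderOf x ∧ r ∣ cs x
  exs : ∃ y : G, p ∣ orderOf y ∧ s ∣ cs y
  hA : ∀ x : G, p ∣ orderOf x → r ∣ cs x → InSet A x
  hB : ∀ y : G, p ∣ orderOf y → s ∣ cs y → InSet B y
  primeA : ∀ a ∈ A, a.Prime ∧ ∃ x : G, a ∣ cs x
  primeB : ∀ b ∈ B, b.Prime ∧ ∃ x : G, b ∣ cs x

theorem Cfg.symm {p r s : ℕ} {A B : Set ℕ} (h : Cfg G p r s A B) : Cfg G p s r B A where
  far := h.far.symm
  rA := h.sB
  sB := h.rA
  exr := h.exs
  exs := h.exr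
  hA := h.hB
  hB := h.hA
  primeA := h.primeB
  primeB := h.primeA

section

variable [Finite G] {p : ℕ} [hp : Fact p.Prime]

/-- The `p`-part / `p'`-part decomposition of a `p`-singular element. -/
theorem exists_parts {x : G} (hx : p ∣ orderOf x) :
    ∃ a w : G, a ≠ 1 ∧ PEl p a ∧ (orderOf w).Coprime p ∧ Commute a w ∧ a * w = x ∧
      cs a ∣ cs x ∧ cs w ∣ cs x := by
  obtain ⟨k, l, hkl, ⟨e, he⟩, hl⟩ := exists_pPart_pPrimePart x (isOfFinOrder_of_finite x) p hp.out
  refine ⟨x ^ k, x ^ l, ?_, ⟨e, he⟩, hl, ?_, hkl, cs_dvd_of_le (centralizer_le_pow x k),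
    cs_dvd_of_le (centralizer_le_pow x l)⟩
  · intro h1
    rw [h1, one_mul] at hkl
    rw [hkl] at hl
    have := Nat.dvd_gcd hx (dvd_refl p)
    rw [hl] at this
    exact hp.out.one_lt.ne' (Nat.dvd_one.mp this)
  · exact (Commute.refl x).pow_pow k l

theorem cs_ne_one_of_not_mem_center {x : G} (h : x ∉ Subgroup.center G) : cs x ≠ 1 :=
  fun h1 => h ((cs_eq_one_iff x).mp h1)

theorem exists_prime_dvd_cs {x : G} (h : x ∉ Subgroup.center G) : ∃ q : ℕ, q.Prime ∧ q ∣ cs x :=
  Nat.exists_prime_and_dvd (cs_ne_one_of_not_mem_center h)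

/-- If all `a`-elements are central then `a` divides no class size. -/
theorem not_dvd_cs_of_central {a : ℕ} (ha : a.Prime) (hcen : ∀ u : G, PEl a u → u ∈ Subgroup.center G)
    (x : G) : ¬ a ∣ cs x := by
  haveI : Fact a.Prime := ⟨ha⟩
  obtain ⟨Q⟩ : Nonempty (Sylow a G) := inferInstance
  have h1 : (Q : Subgroup G) ≤ Subgroup.centralizer ({x} : Set G) := by
    intro u hu
    have h2 := hcen u (PEl.of_mem Q.isPGroup' hu)
    rw [Subgroup.mem_center_iff] at h2
    rw [Subgroup.mem_centralizer_singleton_iff]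
    exact (h2 x).symm
  intro h3
  exact Q.not_dvd_index (h3.trans (Subgroup.index_dvd_of_le h1))

theorem conj_mem_center_iff {g u : G} : g * u * g⁻¹ ∈ Subgroup.center G ↔ u ∈ Subgroup.center G := by
  constructor
  · intro h
    have := (inferInstance : (Subgroup.center G).Normal).conj_mem _ h g⁻¹
    have e : g⁻¹ * (g * u * g⁻¹) * g⁻¹⁻¹ = u := by group
    rwa [e] at this
  · intro h
    exact (inferInstance : (Subgroup.center G).Normal).conj_mem _ h g

theorem PEl.coprime_of_ne {q : ℕ} (hq : q.Prime) (hqp : q ≠ p) {u : G} (hu : PEl q u) :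
    (orderOf u).Coprime p := by
  obtain ⟨e, he⟩ := hu
  rw [he]
  exact Nat.Coprime.pow_left e ((Nat.coprime_primes hq hp.out).mpr hqp)

variable {r s : ℕ} {A B : Set ℕ}

theorem Cfg.exists_PA (h : Cfg G p r s A B) : ∃ x : G, PA p A x := by
  obtain ⟨x, hx, hr⟩ := h.exr
  obtain ⟨a, w, ha1, hap, _, _, _, hda, _⟩ := exists_parts hx
  exact ⟨a, ha1, hap, (h.hA x hx hr).of_dvd hda⟩

/-- Step 3a: a `p'`-element commuting with a nontrivial `p`-element, the product having class size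
divisible by `s`, is central. -/
theorem Cfg.central_of_commute (h : Cfg G p r s A B) (hZ : ¬ p ∣ Nat.card ↥(Subgroup.center G))
    (hpA : p ∈ A) {b w : G} (hb : PEl p b) (hb1 : b ≠ 1) (hw : (orderOf w).Coprime p)
    (hc : Commute b w) (hs : s ∣ cs (b * w)) : w ∈ Subgroup.center G := by
  obtain ⟨x0, hx0⟩ := h.exists_PA
  have hco := hb.coprime_orderOf hw
  have hy : p ∣ orderOf (b * w) := dvd_orderOf_mul hb hb1 hw hc
  have hyB := h.hB _ hy hs
  have hpy : ¬ p ∣ cs (b * w) := fun hd => h.far.disj p hpA (hyB p hp.out hd)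
  obtain ⟨g, hg⟩ := exists_conj_mem_of_not_dvd_index (p := p) hpy hx0.2.1
  have hx0' := hx0.conj g
  rw [centralizer_mul_of_coprime hc hco, Subgroup.mem_inf,
    Subgroup.mem_centralizer_singleton_iff, Subgroup.mem_centralizer_singleton_iff] at hg
  have hcw : Commute (g * x0 * g⁻¹) w := hg.2
  by_contra hwc
  obtain ⟨t, ht, htd⟩ := exists_prime_dvd_cs hwc
  have htB : t ∈ B := hyB t ht (htd.trans (cs_dvd_mul_right hc hco))
  obtain ⟨a, ha, had⟩ := exists_prime_dvd_cs (hx0'.2.1.not_mem_center hZ hx0'.1)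
  have haA : a ∈ A := hx0'.2.2 a ha had
  have hco' := hx0'.2.1.coprime_orderOf hw
  exact h.far.noedge _ (dvd_orderOf_mul hx0'.2.1 hx0'.1 hw hcw) a t haA htB ha ht
    (had.trans (cs_dvd_mul_left hcw hco')) (htd.trans (cs_dvd_mul_right hcw hco'))

theorem cs_mul_central {b w : G} (hw : w ∈ Subgroup.center G) : cs (b * w) = cs b := by
  unfold cs
  congr 1
  ext g
  rw [Subgroup.mem_centralizer_singleton_iff, Subgroup.mem_centralizer_singleton_iff]
  rw [Subgroup.mem_center_iff] at hw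
  constructor
  · intro h1
    have h2 : g * b * w = b * g * w := by
      calc g * b * w = g * (b * w) := by group
        _ = b * w * g := h1
        _ = b * (w * g) := by group
        _ = b * (g * w) := by rw [← hw g]
        _ = b * g * w := by group
    exact mul_right_cancel h2
  · intro h1
    calc g * (b * w) = g * b * w := by group
      _ = b * g * w := by rw [h1]
      _ = b * (g * w) := by group
      _ = b * (w * g) := by rw [hw g]
      _ = b * w * g := by group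

/-- Step 3b: there is a nontrivial `p`-element whose class size is divisible by `s`. -/
theorem Cfg.exists_b (h : Cfg G p r s A B) (hZ : ¬ p ∣ Nat.card ↥(Subgroup.center G))
    (hpA : p ∈ A) : ∃ b : G, PEl p b ∧ b ≠ 1 ∧ s ∣ cs b := by
  obtain ⟨y, hy, hsy⟩ := h.exs
  obtain ⟨a, w, ha1, hap, hw, hc, haw, _, _⟩ := exists_parts hy
  rw [← haw] at hsy
  have hwc := h.central_of_commute hZ hpA hap ha1 hw hc hsy
  rw [cs_mul_central hwc] at hsy
  exact ⟨a, hap, ha1, hsy⟩

/-- Step 3c: `p'`-elements commuting with `b` are central. -/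
theorem Cfg.central_of_commute_b (h : Cfg G p r s A B) (hZ : ¬ p ∣ Nat.card ↥(Subgroup.center G))
    (hpA : p ∈ A) {b w : G} (hb : PEl p b) (hb1 : b ≠ 1) (hsb : s ∣ cs b)
    (hw : (orderOf w).Coprime p) (hc : Commute b w) : w ∈ Subgroup.center G :=
  h.central_of_commute hZ hpA hb hb1 hw hc (hsb.trans (cs_dvd_mul_left hc (hb.coprime_orderOf hw)))

/-- Step 4: every prime other than `p` dividing some class size lies in `B`. -/
theorem Cfg.mem_B_of_prime (h : Cfg G p r s A B) (hZ : ¬ p ∣ Nat.card ↥(Subgroup.center G))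
    (hpA : p ∈ A) {a : ℕ} (ha : a.Prime) (hap : a ≠ p) {x : G} (hax : a ∣ cs x) : a ∈ B := by
  obtain ⟨b, hb, hb1, hsb⟩ := h.exists_b hZ hpA
  by_cases hab : a ∣ cs b
  · exact h.hB b (hb.dvd_orderOf hb1) hsb a ha hab
  · exfalso
    haveI : Fact a.Prime := ⟨ha⟩
    refine not_dvd_cs_of_central ha ?_ x hax
    intro u hu
    obtain ⟨g, hg⟩ := exists_conj_mem_of_not_dvd_index (p := a) hab hu
    rw [Subgroup.mem_centralizer_singleton_iff] at hg
    have h1 : Commute b (g * u * g⁻¹) := (show Commute (g * u * g⁻¹) b from hg).symm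
    have h2 := h.central_of_commute_b hZ hpA hb hb1 hsb ((hu.conj g).coprime_of_ne ha hap) h1
    exact conj_mem_center_iff.mp h2

theorem Cfg.eq_of_mem_A (h : Cfg G p r s A B) (hZ : ¬ p ∣ Nat.card ↥(Subgroup.center G))
    (hpA : p ∈ A) {a : ℕ} (ha : a ∈ A) : a = p := by
  by_contra hap
  obtain ⟨hapr, x, hx⟩ := h.primeA a ha
  exact h.far.disj a ha (h.mem_B_of_prime hZ hpA hapr hap hx)

/-- `p` is an isolated vertex: a `p`-singular element with class size divisible by `p` has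
class size a power of `p`. -/
theorem Cfg.eq_of_dvd_cs (h : Cfg G p r s A B) (hZ : ¬ p ∣ Nat.card ↥(Subgroup.center G))
    (hpA : p ∈ A) {c : G} (hc : p ∣ orderOf c) (hpc : p ∣ cs c) {q : ℕ} (hq : q.Prime)
    (hqc : q ∣ cs c) : q = p := by
  have hr : r = p := h.eq_of_mem_A hZ hpA h.rA
  rw [← hr] at hpc
  exact h.eq_of_mem_A hZ hpA (h.hA c hc hpc q hq hqc)

theorem Cfg.s_ne (h : Cfg G p r s A B) (hpA : p ∈ A) : s ≠ p := by
  rintro rfl
  exact h.far.disj _ hpA h.sB

/-- Step 5b: `q`-elements (`q ≠ p`) have `p`-power class sizes. -/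
theorem Cfg.eq_of_dvd_cs_qel (h : Cfg G p r s A B) (hZ : ¬ p ∣ Nat.card ↥(Subgroup.center G))
    (hpA : p ∈ A) {q : ℕ} (hq : q.Prime) (hqp : q ≠ p) {u : G} (hu : PEl q u) {t : ℕ}
    (ht : t.Prime) (htu : t ∣ cs u) : t = p := by
  obtain ⟨x0, hx0⟩ := h.exists_PA
  haveI : Fact q.Prime := ⟨hq⟩
  have hx0c := hx0.2.1.not_mem_center hZ hx0.1
  obtain ⟨t0, ht0, ht0d⟩ := exists_prime_dvd_cs hx0c
  have ht0p : t0 = p := h.eq_of_mem_A hZ hpA (hx0.2.2 t0 ht0 ht0d)
  rw [ht0p] at ht0d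
  have hqx0 : ¬ q ∣ cs x0 := fun hd => hqp (h.eq_of_mem_A hZ hpA (hx0.2.2 q hq hd))
  obtain ⟨g, hg⟩ := exists_conj_mem_of_not_dvd_index (p := q) hqx0 hu
  rw [Subgroup.mem_centralizer_singleton_iff] at hg
  have hcu : Commute x0 (g * u * g⁻¹) := (show Commute (g * u * g⁻¹) x0 from hg).symm
  have hw := (hu.conj g).coprime_of_ne hq hqp (p := p)
  have hco := hx0.2.1.coprime_orderOf hw
  have hz : p ∣ orderOf (x0 * (g * u * g⁻¹)) := dvd_orderOf_mul hx0.2.1 hx0.1 hw hcu
  have hpz : p ∣ cs (x0 * (g * u * g⁻¹)) := ht0d.trans (cs_dvd_mul_left hcu hco)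
  have htz : t ∣ cs (x0 * (g * u * g⁻¹)) := by
    have := htu.trans (cs_conj g u).symm.dvd
    exact this.trans (cs_dvd_mul_right hcu hco)
  exact h.eq_of_dvd_cs hZ hpA hz hpz ht htz

/-- Step 5c: a nontrivial `p`-element of `p'` class size commutes with no noncentral `q`-element. -/
theorem Cfg.central_of_commute_pprime (h : Cfg G p r s A B)
    (hZ : ¬ p ∣ Nat.card ↥(Subgroup.center G)) (hpA : p ∈ A) {c : G} (hc : PEl p c) (hc1 : c ≠ 1)
    (hpc : ¬ p ∣ cs c) {q : ℕ} (hq : q.Prime) (hqp : q ≠ p) {u : G} (hu : PEl q u)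
    (hcu : Commute c u) : u ∈ Subgroup.center G := by
  by_contra huc
  obtain ⟨t, ht, htd⟩ := exists_prime_dvd_cs huc
  have htp : t = p := h.eq_of_dvd_cs_qel hZ hpA hq hqp hu ht htd
  rw [htp] at htd
  have hw := hu.coprime_of_ne hq hqp (p := p)
  have hco := hc.coprime_orderOf hw
  have hz : p ∣ orderOf (c * u) := dvd_orderOf_mul hc hc1 hw hcu
  have hpz : p ∣ cs (c * u) := htd.trans (cs_dvd_mul_right hcu hco)
  obtain ⟨t', ht', ht'd⟩ := exists_prime_dvd_cs (hc.not_mem_center hZ hc1)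
  have := h.eq_of_dvd_cs hZ hpA hz hpz ht' (ht'd.trans (cs_dvd_mul_left hcu hco))
  rw [this] at ht'd
  exact hpc ht'd

end

end Cfsg.Agent.Lib.H26.PSing
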