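import Mathlib
import Cfsg.Agent.Lib.H26.PSingC

set_option autoImplicit false

/-!
# Class sizes of `p`-singular elements, part D: normal Sylow subgroup and the final contradiction
-/

namespace Cfsg.Agent.Lib.H26.PSing

open Cfsg.Agent.Lib.H20 Cfsg.Agent.Lib.H20.BHM
open scoped Pointwise

variable {G : Type*} [Group G]

/-- The closure of a set of pairwise commuting `p`-elements is a `p`-group. -/
theorem isPGroup_closure_of_commute {p : ℕ} {X : Set G} (hX : ∀ x ∈ X, PEl p x)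
    (hc : ∀ x ∈ X, ∀ y ∈ X, Commute x y) : IsPGroup p (Subgroup.closure X) := by
  have h1 : Subgroup.closure X ≤ Subgroup.centralizer X := by
    rw [Subgroup.closure_le]
    intro x hx
    rw [SetLike.mem_coe, Subgroup.mem_centralizer_iff]
    intro y hy
    exact (hc y hy x hx).eq
  have h2 : X ⊆ Subgroup.centralizer (Subgroup.closure X : Set G) := by
    intro x hx
    rw [SetLike.mem_coe, Subgroup.mem_centralizer_iff]
    intro k hk
    have := h1 hk
    rw [Subgroup.mem_centralizer_iff] at this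
    exact (this x hx).symm
  have h3 : Subgroup.closure X ≤ Subgroup.centralizer (Subgroup.closure X : Set G) := by
    rw [Subgroup.closure_le]
    exact h2
  have key : ∀ y ∈ Subgroup.closure X, ∃ k : ℕ, y ^ p ^ k = 1 := by
    intro y hy
    induction hy using Subgroup.closure_induction with
    | mem x hx => exact (hX x hx).pow_eq_one
    | one => exact ⟨0, by simp⟩
    | mul a b ha hb iha ihb =>
      obtain ⟨k, hk⟩ := iha
      obtain ⟨l, hl⟩ := ihb
      have hab : Commute a b := by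
        have := h3 hb
        rw [Subgroup.mem_centralizer_iff] at this
        exact this a ha
      refine ⟨k + l, ?_⟩
      rw [hab.mul_pow, pow_add, pow_mul, hk, one_pow, one_mul, mul_comm (p ^ k), pow_mul, hl,
        one_pow]
    | inv a ha iha =>
      obtain ⟨k, hk⟩ := iha
      exact ⟨k, by rw [inv_pow, hk, inv_one]⟩
  intro g
  obtain ⟨k, hk⟩ := key g.1 g.2
  exact ⟨k, Subtype.ext hk⟩

/-- In a nonabelian `p`-subgroup there is a noncentral element whose commutators are central. -/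
theorem exists_second_center [Finite G] {p : ℕ} [hp : Fact p.Prime] {P : Subgroup G}
    (hP : IsPGroup p P) (hnc : ∃ a ∈ P, ∃ b ∈ P, ¬ Commute a b) :
    ∃ x ∈ P, (∃ t ∈ P, ¬ Commute x t) ∧
      ∀ t ∈ P, ∀ t' ∈ P, Commute (x * t * x⁻¹ * t⁻¹) t' := by
  obtain ⟨a, ha, b, hb, hab⟩ := hnc
  have haZ : (⟨a, ha⟩ : P) ∉ Subgroup.center P := by
    intro h
    rw [Subgroup.mem_center_iff] at h
    apply hab
    have := h ⟨b, hb⟩
    have h2 := congrArg Subtype.val this
    exact h2.symm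
  have hQ : IsPGroup p (P ⧸ Subgroup.center P) := hP.to_quotient _
  haveI : Nontrivial (P ⧸ Subgroup.center P) :=
    ⟨⟨QuotientGroup.mk ⟨a, ha⟩, 1, by rwa [Ne, QuotientGroup.eq_one_iff]⟩⟩
  haveI := hQ.center_nontrivial
  obtain ⟨ζ, hζ⟩ := exists_ne (1 : Subgroup.center (P ⧸ Subgroup.center P))
  obtain ⟨x, hx⟩ := QuotientGroup.mk_surjective (ζ : P ⧸ Subgroup.center P)
  have hζc := ζ.2
  rw [Subgroup.mem_center_iff] at hζc
  have hxZ : x ∉ Subgroup.center P := by
    intro h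
    apply hζ
    apply Subtype.ext
    rw [← hx]
    exact (QuotientGroup.eq_one_iff x).mpr h
  refine ⟨x.1, x.2, ?_, ?_⟩
  · rw [Subgroup.mem_center_iff] at hxZ
    push_neg at hxZ
    obtain ⟨t, ht⟩ := hxZ
    refine ⟨t.1, t.2, ?_⟩
    intro hc
    apply ht
    apply Subtype.ext
    exact hc.eq.symm
  · intro t ht t' ht'
    have h1 : x * ⟨t, ht⟩ * x⁻¹ * (⟨t, ht⟩ : P)⁻¹ ∈ Subgroup.center P := by
      rw [← QuotientGroup.eq_one_iff]
      have e : ((x * ⟨t, ht⟩ * x⁻¹ * (⟨t, ht⟩ : P)⁻¹ : P) : P ⧸ Subgroup.center P) =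
          (ζ : P ⧸ Subgroup.center P) * (QuotientGroup.mk ⟨t, ht⟩) *
            (ζ : P ⧸ Subgroup.center P)⁻¹ * (QuotientGroup.mk ⟨t, ht⟩)⁻¹ := by
        rw [← hx]; rfl
      rw [e, ← hζc (QuotientGroup.mk ⟨t, ht⟩)]
      group
    rw [Subgroup.mem_center_iff] at h1
    have h2 := congrArg Subtype.val (h1 ⟨t', ht'⟩)
    exact h2.symm

section

variable [Finite G] {p : ℕ} [hp : Fact p.Prime] {r s : ℕ} {A B : Set ℕ}

/-- Step 6a: a `p`-element with class size divisible by `p` lies in every Sylow `p`-subgroup. -/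
theorem Cfg.mem_sylow_of_dvd (h : Cfg G p r s A B) (hZ : ¬ p ∣ Nat.card ↥(Subgroup.center G))
    (hpA : p ∈ A) {x : G} (hx : PEl p x) (hx1 : x ≠ 1) (hpx : p ∣ cs x) (S : Sylow p G) :
    x ∈ S := by
  have hco : (S : Subgroup G).index.Coprime (cs x) := by
    by_contra hn
    obtain ⟨q, hq, h1, h2⟩ := Nat.Prime.not_coprime_iff_dvd.mp hn
    have := h.eq_of_dvd_cs hZ hpA (hx.dvd_orderOf hx1) hpx hq h2
    rw [this] at h1
    exact S.not_dvd_index h1
  obtain ⟨g, hg⟩ := exists_conj_mem_of_not_dvd_index (p := p) S.not_dvd_index hx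
  obtain ⟨t, ht, c, hc, rfl⟩ := Cfsg.Agent.Lib.H1.exists_mul_of_coprime_index hco g
  rw [Subgroup.mem_centralizer_singleton_iff] at hc
  have e1 : t * c * x * (t * c)⁻¹ = t * x * t⁻¹ := by
    have hc' : c * x * c⁻¹ = x := by rw [hc]; group
    calc t * c * x * (t * c)⁻¹ = t * (c * x * c⁻¹) * t⁻¹ := by group
      _ = t * x * t⁻¹ := by rw [hc']
  rw [e1] at hg
  have e2 : x = t⁻¹ * (t * x * t⁻¹) * t := by group
  rw [e2]
  exact (S : Subgroup G).mul_mem ((S : Subgroup G).mul_mem ((S : Subgroup G).inv_mem ht) hg) ht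

/-- Step 6b: a `p`-element with class size prime to `p` lies in every Sylow `p`-subgroup. -/
theorem Cfg.mem_sylow_of_not_dvd (h : Cfg G p r s A B) (hZ : ¬ p ∣ Nat.card ↥(Subgroup.center G))
    (hpA : p ∈ A) (hcomm : ∀ y : G, PA p B y → ∀ g : G, Commute (g * y * g⁻¹) y)
    {c : G} (hc : PEl p c) (hc1 : c ≠ 1) (hpc : ¬ p ∣ cs c) (S : Sylow p G) : c ∈ S := by
  have hcB : PA p B c := by
    refine ⟨hc1, hc, ?_⟩
    intro q hq hqd
    have hqp : q ≠ p := by
      rintro rfl
      exact hpc hqd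
    exact h.mem_B_of_prime hZ hpA hq hqp hqd
  have hconj : ∀ a ∈ Group.conjugatesOfSet ({c} : Set G), ∃ g : G, a = g * c * g⁻¹ := by
    intro a ha
    rw [Group.mem_conjugatesOfSet_iff] at ha
    obtain ⟨b, hb, hba⟩ := ha
    rw [Set.mem_singleton_iff] at hb
    rw [hb, isConj_iff] at hba
    obtain ⟨g, hg⟩ := hba
    exact ⟨g, hg.symm⟩
  have hM : IsPGroup p (Subgroup.normalClosure ({c} : Set G)) := by
    unfold Subgroup.normalClosure
    apply isPGroup_closure_of_commute
    · intro a ha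
      obtain ⟨g, rfl⟩ := hconj a ha
      exact hc.conj g
    · intro a ha b hb
      obtain ⟨g, rfl⟩ := hconj a ha
      obtain ⟨k, rfl⟩ := hconj b hb
      rw [commute_conj_iff]
      have e : g⁻¹ * (k * c * k⁻¹) * g = (g⁻¹ * k) * c * (g⁻¹ * k)⁻¹ := by group
      rw [e]
      exact (hcomm c hcB (g⁻¹ * k)).symm
  exact hM.le_sylow_of_normal S (Subgroup.subset_normalClosure (Set.mem_singleton c))

/-- Every `p`-element lies in every Sylow `p`-subgroup. -/
theorem Cfg.pel_mem_sylow (h : Cfg G p r s A B) (hZ : ¬ p ∣ Nat.card ↥(Subgroup.center G))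
    (hpA : p ∈ A) (hcomm : ∀ y : G, PA p B y → ∀ g : G, Commute (g * y * g⁻¹) y)
    {c : G} (hc : PEl p c) (S : Sylow p G) : c ∈ S := by
  by_cases hc1 : c = 1
  · rw [hc1]; exact (S : Subgroup G).one_mem
  by_cases hpc : p ∣ cs c
  · exact h.mem_sylow_of_dvd hZ hpA hc hc1 hpc S
  · exact h.mem_sylow_of_not_dvd hZ hpA hcomm hc hc1 hpc S

/-- For an element of the (normal) Sylow subgroup: central in it iff class size prime to `p`. -/
theorem central_iff_not_dvd (S : Sylow p G) (hall : ∀ x : G, PEl p x → x ∈ S) (c : G) :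
    (∀ t ∈ S, Commute c t) ↔ ¬ p ∣ cs c := by
  constructor
  · intro h1 hd
    have h2 : (S : Subgroup G) ≤ Subgroup.centralizer ({c} : Set G) := by
      intro t ht
      rw [Subgroup.mem_centralizer_singleton_iff]
      exact (h1 t ht).symm.eq
    exact S.not_dvd_index (hd.trans (Subgroup.index_dvd_of_le h2))
  · intro hd
    haveI : (S : Subgroup G).Normal := by
      constructor
      intro t ht g
      exact hall _ ((PEl.of_mem S.isPGroup' ht).conj g)
    have h1 : (Subgroup.centralizer ({c} : Set G)).relIndex (S : Subgroup G) ∣ cs c :=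
      Cfsg.Agent.Lib.H1.relIndex_dvd_index_of_normal_right _ _
    have h2 : (Subgroup.centralizer ({c} : Set G)).relIndex (S : Subgroup G) ∣
        Nat.card (S : Subgroup G) := Subgroup.relIndex_dvd_card _ _
    obtain ⟨n, hn⟩ := S.isPGroup'.exists_card_eq
    rw [hn] at h2
    obtain ⟨k, _, hk⟩ := (Nat.dvd_prime_pow hp.out).mp h2
    have hk0 : k = 0 := by
      by_contra hk0
      apply hd
      rw [hk] at h1
      exact (dvd_pow_self p hk0).trans h1
    rw [hk0, pow_zero, Subgroup.relIndex_eq_one] at hk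
    intro t ht
    have := hk ht
    rw [Subgroup.mem_centralizer_singleton_iff] at this
    exact (show Commute t c from this).symm

/-- The final contradiction. -/
theorem Cfg.endgame (h : Cfg G p r s A B) (hZ : ¬ p ∣ Nat.card ↥(Subgroup.center G))
    (hpA : p ∈ A) (S : Sylow p G) (hall : ∀ x : G, PEl p x → x ∈ S) {x : G} (hxS : x ∈ S)
    (hxn : ∃ t ∈ S, ¬ Commute x t)
    (hx2 : ∀ t ∈ S, ∀ t' ∈ S, Commute (x * t * x⁻¹ * t⁻¹) t') : False := by
  have hsp : s.Prime := (h.primeB s h.sB).1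
  have hsne : s ≠ p := h.s_ne hpA
  have hxp : PEl p x := PEl.of_mem S.isPGroup' hxS
  have hx1 : x ≠ 1 := by
    rintro rfl
    obtain ⟨t, _, ht⟩ := hxn
    exact ht (Commute.one_left t)
  have hpx : p ∣ cs x := by
    by_contra hd
    obtain ⟨t, ht, htc⟩ := hxn
    exact htc ((central_iff_not_dvd S hall x).mpr hd t ht)
  have hsx : ∀ c : G, PEl p c → c ≠ 1 → p ∣ cs c → ¬ s ∣ cs c := by
    intro c hc hc1 hpc hd
    exact hsne (h.eq_of_dvd_cs hZ hpA (hc.dvd_orderOf hc1) hpc hsp hd)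
  -- a noncentral `s`-element
  have hu0 : ∃ u0 : G, PEl s u0 ∧ u0 ∉ Subgroup.center G := by
    by_contra hn
    push_neg at hn
    obtain ⟨b, _, _, hsb⟩ := h.exists_b hZ hpA
    exact not_dvd_cs_of_central hsp hn b hsb
  obtain ⟨u0, hu0s, hu0c⟩ := hu0
  haveI : Fact s.Prime := ⟨hsp⟩
  obtain ⟨g0, hg0⟩ := exists_conj_mem_of_not_dvd_index (p := s) (hsx x hxp hx1 hpx) hu0s
  rw [Subgroup.mem_centralizer_singleton_iff] at hg0
  have hus : PEl s (g0 * u0 * g0⁻¹) := hu0s.conj g0
  have huc : g0 * u0 * g0⁻¹ ∉ Subgroup.center G := fun hh => hu0c (conj_mem_center_iff.mp hh)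
  have hux : Commute (g0 * u0 * g0⁻¹) x := hg0
  generalize g0 * u0 * g0⁻¹ = u at hus huc hux
  have hcoS : (S : Subgroup G).index.Coprime (cs x) := by
    by_contra hn
    obtain ⟨q, hq, h1, h2⟩ := Nat.Prime.not_coprime_iff_dvd.mp hn
    have := h.eq_of_dvd_cs hZ hpA (hxp.dvd_orderOf hx1) hpx hq h2
    rw [this] at h1
    exact S.not_dvd_index h1
  have hSn : ∀ t ∈ S, ∀ g : G, g * t * g⁻¹ ∈ S := fun t ht g =>
    hall _ ((PEl.of_mem S.isPGroup' ht).conj g)
  have key : ∀ t ∈ S, Commute x t := by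
    intro t ht
    by_cases htc : ∀ t' ∈ S, Commute t t'
    · exact (htc x hxS).symm
    have htp : PEl p t := PEl.of_mem S.isPGroup' ht
    have ht1 : t ≠ 1 := by
      rintro rfl
      exact htc (fun t' _ => Commute.one_left t')
    have hpt : p ∣ cs t := by
      by_contra hd
      exact htc ((central_iff_not_dvd S hall t).mpr hd)
    obtain ⟨g, hg⟩ := exists_conj_mem_of_not_dvd_index (p := s) (hsx t htp ht1 hpt) hus
    rw [Subgroup.mem_centralizer_singleton_iff] at hg
    obtain ⟨t', ht', c', hc', rfl⟩ := Cfsg.Agent.Lib.H1.exists_mul_of_coprime_index hcoS g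
    rw [Subgroup.mem_centralizer_singleton_iff] at hc'
    -- `u'' = c' u c'⁻¹` commutes with `x`
    have hu''x : Commute (c' * u * c'⁻¹) x := by
      rw [commute_conj_iff]
      have e : c'⁻¹ * x * c' = x := by
        calc c'⁻¹ * x * c' = c'⁻¹ * (x * c') := by group
          _ = c'⁻¹ * (c' * x) := by rw [hc']
          _ = x := by group
      rw [e]
      exact hux
    have hu''s : PEl s (c' * u * c'⁻¹) := hus.conj c'
    have hu''c : c' * u * c'⁻¹ ∉ Subgroup.center G := fun hh => huc (conj_mem_center_iff.mp hh)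
    have e1 : t' * c' * u * (t' * c')⁻¹ = t' * (c' * u * c'⁻¹) * t'⁻¹ := by group
    rw [e1] at hg
    have h3 : Commute (t' * (c' * u * c'⁻¹) * t'⁻¹) t := hg
    rw [commute_conj_iff] at h3
    generalize c' * u * c'⁻¹ = u'' at hu''x hu''s hu''c h3
    have ht''S : t'⁻¹ * t * t' ∈ S := by
      have := hSn t ht t'⁻¹
      rwa [inv_inv] at this
    -- the commutator
    have hzc : Commute u'' (x * (t'⁻¹ * t * t') * x⁻¹ * (t'⁻¹ * t * t')⁻¹) :=
      (((hu''x.mul_right h3).mul_right hu''x.inv_right)).mul_right h3.inv_right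
    have hzS : x * (t'⁻¹ * t * t') * x⁻¹ * (t'⁻¹ * t * t')⁻¹ ∈ S :=
      (S : Subgroup G).mul_mem ((S : Subgroup G).mul_mem ((S : Subgroup G).mul_mem hxS ht''S)
        ((S : Subgroup G).inv_mem hxS)) ((S : Subgroup G).inv_mem ht''S)
    have hz1 : x * (t'⁻¹ * t * t') * x⁻¹ * (t'⁻¹ * t * t')⁻¹ = 1 := by
      by_contra hz1
      have hzp := PEl.of_mem S.isPGroup' hzS
      have hzd : ¬ p ∣ cs (x * (t'⁻¹ * t * t') * x⁻¹ * (t'⁻¹ * t * t')⁻¹) :=
        (central_iff_not_dvd S hall _).mp (hx2 _ ht''S)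
      exact hu''c (h.central_of_commute_pprime hZ hpA hzp hz1 hzd hsp hsne hu''s hzc.symm)
    have h4 : Commute x (t'⁻¹ * t * t') := by
      have : x * (t'⁻¹ * t * t') = (t'⁻¹ * t * t') * x := by
        calc x * (t'⁻¹ * t * t')
            = (x * (t'⁻¹ * t * t') * x⁻¹ * (t'⁻¹ * t * t')⁻¹) * ((t'⁻¹ * t * t') * x) := by group
          _ = (t'⁻¹ * t * t') * x := by rw [hz1, one_mul]
      exact this
    have h5 : Commute (t' * x * t'⁻¹) t := commute_conj_iff.mpr h4
    have h6 : Commute (x * t' * x⁻¹ * t'⁻¹) t := hx2 t' ht' t ht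
    have e2 : x = (x * t' * x⁻¹ * t'⁻¹) * (t' * x * t'⁻¹) := by group
    rw [e2]
    exact h6.mul_left h5
  obtain ⟨t, ht, htc⟩ := hxn
  exact htc (key t ht)

/-- The configuration with `p ∈ A` is contradictory. -/
theorem Cfg.false_of_mem (h : Cfg G p r s A B) (hZ : ¬ p ∣ Nat.card ↥(Subgroup.center G))
    (hpA : p ∈ A) (hcomm : ∀ y : G, PA p B y → ∀ g : G, Commute (g * y * g⁻¹) y) : False := by
  obtain ⟨S⟩ : Nonempty (Sylow p G) := inferInstance
  have hall : ∀ x : G, PEl p x → x ∈ S := fun x hx => h.pel_mem_sylow hZ hpA hcomm hx S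
  obtain ⟨x0, hx0⟩ := h.exists_PA
  have hx0S := hall x0 hx0.2.1
  have hx0c := hx0.2.1.not_mem_center hZ hx0.1
  obtain ⟨t0, ht0, ht0d⟩ := exists_prime_dvd_cs hx0c
  have ht0p : t0 = p := h.eq_of_mem_A hZ hpA (hx0.2.2 t0 ht0 ht0d)
  rw [ht0p] at ht0d
  have hnc : ∃ a ∈ (S : Subgroup G), ∃ b ∈ (S : Subgroup G), ¬ Commute a b := by
    by_contra hn
    push_neg at hn
    exact (central_iff_not_dvd S hall x0).mp (fun t ht => hn x0 hx0S t ht) ht0d
  obtain ⟨x, hxS, hxn, hx2⟩ := exists_second_center S.isPGroup' hnc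
  exact h.endgame hZ hpA S hall hxS hxn hx2

/-- The far configuration is contradictory. -/
theorem Cfg.false (h : Cfg G p r s A B) (hZ : ¬ p ∣ Nat.card ↥(Subgroup.center G)) : False := by
  rcases core h.far hZ h.exists_PA h.symm.exists_PA with ⟨hpA, hcomm⟩ | ⟨hpB, hcomm⟩
  · exact h.false_of_mem hZ hpA hcomm
  · exact h.symm.false_of_mem hZ hpB hcomm

end

end Cfsg.Agent.Lib.H26.PSing
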