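import Mathlib
import Cfsg.Prelude.Def_Solvable
import Cfsg.Agent.Lib.H1.PCore

set_option autoImplicit false

/-!
`p`-stability for groups of automorphisms (helper26): the quadratic condition `Quad χ`, membership
in `O_p(A)` for a subgroup `A` of `Aut(R)` (`InCore p A χ`), and their behaviour under subgroups
and isomorphisms.
-/

namespace Cfsg.Agent.Lib.H26.PStab

open Cfsg

variable {R : Type*} [Group R]

/-- `χ` acts quadratically on `R`: `[R, χ, χ] = 1`. -/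
def Quad (χ : MulAut R) : Prop := ∀ a : R, χ a⁻¹ * a * χ a⁻¹ * χ (χ a) = 1

/-- `χ ∈ O_p(A)`, for a group `A` of automorphisms of `R`. -/
def InCore (p : ℕ) (A : Subgroup (MulAut R)) (χ : MulAut R) : Prop :=
  χ ∈ ((pCore p A).map A.subtype : Subgroup (MulAut R))

theorem inCore_iff {p : ℕ} [Fact p.Prime] (A : Subgroup (MulAut R)) (χ : MulAut R) :
    InCore p A χ ↔ ∃ D : Subgroup (MulAut R), D ≤ A ∧ IsPGroup p D ∧
      (∀ b ∈ A, ∀ d ∈ D, b * d * b⁻¹ ∈ D) ∧ χ ∈ D := by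
  constructor
  · intro h
    refine ⟨(pCore p A).map A.subtype, Subgroup.map_subtype_le _,
      (Cfsg.Agent.Lib.H1.pCore_isPGroup p A).map _, ?_, h⟩
    rintro b hb _ ⟨d, hd, rfl⟩
    have hn := Cfsg.Agent.Lib.H1.pCore_normal p A
    exact ⟨⟨b, hb⟩ * d * ⟨b, hb⟩⁻¹, hn.conj_mem d hd ⟨b, hb⟩, rfl⟩
  · rintro ⟨D, hDA, hDp, hDn, hχ⟩
    have hn : (D.subgroupOf A).Normal := by
      refine ⟨fun d hd b => ?_⟩
      rw [Subgroup.mem_subgroupOf] at hd ⊢
      exact hDn b b.2 d hd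
    have hp : IsPGroup p (D.subgroupOf A) := hDp.comap_subtype
    have hle := Cfsg.Agent.Lib.H1.le_pCore hn hp
    exact ⟨⟨χ, hDA hχ⟩, hle (Subgroup.mem_subgroupOf.2 hχ), rfl⟩

theorem InCore.mono {p : ℕ} [Fact p.Prime] {A B : Subgroup (MulAut R)} (hBA : B ≤ A)
    {χ : MulAut R} (h : InCore p A χ) (hχ : χ ∈ B) : InCore p B χ := by
  obtain ⟨D, hDA, hDp, hDn, hχD⟩ := (inCore_iff A χ).1 h
  refine (inCore_iff B χ).2 ⟨D ⊓ B, inf_le_right, hDp.to_le inf_le_left, ?_, ⟨hχD, hχ⟩⟩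
  rintro b hb d ⟨hd, hdB⟩
  exact ⟨hDn b (hBA hb) d hd, B.mul_mem (B.mul_mem hb hdB) (B.inv_mem hb)⟩

theorem InCore.congr {p : ℕ} [Fact p.Prime] {R' : Type*} [Group R'] (σ : R ≃* R')
    {A : Subgroup (MulAut R)} {χ : MulAut R} (h : InCore p A χ) :
    InCore p (A.map (MulAut.congr σ).toMonoidHom) (MulAut.congr σ χ) := by
  obtain ⟨D, hDA, hDp, hDn, hχD⟩ := (inCore_iff A χ).1 h
  refine (inCore_iff _ _).2 ⟨D.map (MulAut.congr σ).toMonoidHom, Subgroup.map_mono hDA,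
    hDp.map _, ?_, ⟨χ, hχD, rfl⟩⟩
  rintro _ ⟨b, hb, rfl⟩ _ ⟨d, hd, rfl⟩
  refine ⟨b * d * b⁻¹, hDn b hb d hd, ?_⟩
  rw [map_mul, map_mul, map_inv]

theorem Quad.congr {R' : Type*} [Group R'] (σ : R ≃* R') {χ : MulAut R} (h : Quad χ) :
    Quad (MulAut.congr σ χ) := by
  intro a'
  have hv : ∀ y : R', MulAut.congr σ χ y = σ (χ (σ.symm y)) := fun y => rfl
  have := h (σ.symm a')
  have h2 := congrArg σ this
  rw [map_mul, map_mul, map_mul, map_one] at h2
  rw [hv, hv, hv, map_inv, MulEquiv.symm_apply_apply]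
  simpa using h2

/-- the commutator `a⁻¹ χ(a)` -/
def cm' (χ : MulAut R) (a : R) : R := a⁻¹ * χ a

theorem Quad.fix {χ : MulAut R} (h : Quad χ) (a : R) : χ (cm' χ a) = cm' χ a := by
  have := h a
  unfold cm'
  rw [map_mul, map_inv]
  have e : χ a⁻¹ * a * χ a⁻¹ * χ (χ a) = (a⁻¹ * χ a)⁻¹ * ((χ a)⁻¹ * χ (χ a)) := by
    rw [map_inv]; group
  rw [e] at this
  have h2 := eq_inv_of_mul_eq_one_right this
  rw [inv_inv] at h2
  exact h2

theorem Quad.pow_apply {χ : MulAut R} (h : Quad χ) (m : ℕ) (a : R) :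
    (χ ^ m) a = a * (cm' χ a) ^ m := by
  induction m with
  | zero => simp
  | succ m ih =>
    rw [pow_succ', MulAut.mul_apply, ih, map_mul, map_pow, h.fix, pow_succ']
    have : χ a = a * cm' χ a := by unfold cm'; group
    rw [this]
    group

/-- a quadratic automorphism of a finite group `R` has order dividing `|R|` -/
theorem Quad.pow_card [Finite R] {χ : MulAut R} (h : Quad χ) : χ ^ (Nat.card R) = 1 := by
  ext a
  rw [h.pow_apply, pow_card_eq_one', mul_one]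
  rfl

end Cfsg.Agent.Lib.H26.PStab

namespace Cfsg.Agent.Lib.H26.PStab

open Cfsg

variable {R : Type*} [Group R]

/-- quadratic automorphisms of a cyclic `p`-group lie in `O_p` of any group of automorphisms -/
theorem inCore_of_isCyclic {p : ℕ} [Fact p.Prime] [Finite R] (hR : IsPGroup p R)
    (hc : IsCyclic R) {A : Subgroup (MulAut R)} {χ : MulAut R} (hχ : χ ∈ A) (hq : Quad χ) :
    InCore p A χ := by
  have hcomm : ∀ b d : MulAut R, b * d = d * b := by
    intro b d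
    apply (IsCyclic.mulAutMulEquiv R).injective
    rw [map_mul, map_mul, mul_comm]
  obtain ⟨n, hn⟩ := IsPGroup.iff_card.1 hR
  have hpow : χ ^ (p ^ n) = 1 := by rw [← hn]; exact hq.pow_card
  refine (inCore_iff A χ).2 ⟨Subgroup.zpowers χ, ?_, ?_, ?_, Subgroup.mem_zpowers χ⟩
  · rw [Subgroup.zpowers_le]; exact hχ
  · rintro ⟨d, hd⟩
    obtain ⟨i, rfl⟩ := Subgroup.mem_zpowers_iff.1 hd
    refine ⟨n, Subtype.ext ?_⟩
    show (χ ^ i) ^ (p ^ n) = 1
    rw [← zpow_natCast, ← zpow_mul, mul_comm, zpow_mul, zpow_natCast, hpow, one_zpow]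
  · intro b _ d hd
    rw [hcomm b d, mul_assoc, mul_inv_cancel, mul_one]
    exact hd

end Cfsg.Agent.Lib.H26.PStab
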