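import Mathlib
import Cfsg.Agent.Lib.H26.PStabBasic
import Cfsg.Agent.Lib.H25.SatEquiv
import Cfsg.Agent.Lib.H25.KNorm
import Cfsg.Agent.Lib.H26.NormalizerTransport
import Cfsg.Agent.S5096

set_option autoImplicit false
set_option linter.unusedSectionVars false
set_option linter.unusedVariables false

/-!
`p`-stability of fusion systems (helper26).

* `PStabAt p F Q`: every quadratic element of `Aut_F(Q)` lies in `O_p(Aut_F(Q))`;
  `PStabFN p F`: this for all fully normalized `Q` (the form of the statements).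
* invariance under isomorphisms of the system, hence `PStabFN` gives `PStabAt` for all `Q ≤ S`;
* passage to subsystems.
-/

namespace Cfsg.Agent.Lib.H26.PStab

open Cfsg Cfsg.FusionSystem Cfsg.Agent.Lib.H25 Cfsg.Agent.Lib.H26

variable {Ω : Type*} [Group Ω] {S : Subgroup Ω} {F : FusionSystem S}

/-- `p`-stability at `Q` -/
def PStabAt (p : ℕ) (F : FusionSystem S) (Q : Subgroup Ω) : Prop :=
  ∀ χ : MulAut Q, χ ∈ F.autGroup Q → Quad χ → InCore p (F.autGroup Q) χ

/-- `p`-stability of `F`, in the form of the statements -/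
def PStabFN (p : ℕ) (F : FusionSystem S) : Prop :=
  ∀ Q : Subgroup Ω, F.IsFullyNormalized Q → PStabAt p F Q

theorem PStabAt.of_isIso {p : ℕ} [Fact p.Prime] {Q Q' : Subgroup Ω} {f : Ω → Ω}
    (h : IsIso F Q Q' f) (hQ : PStabAt p F Q) : PStabAt p F Q' := by
  intro χ' hχ' hquad
  set σ := h.toMulEquiv with hσ
  have he : ∀ x : Q, ((σ x : Q') : Ω) = f x := fun x => h.toMulEquiv_apply x
  obtain ⟨g, hg, heg, -, -⟩ := h.symm_equiv σ he
  have hχ : MulAut.congr σ.symm χ' ∈ F.autGroup Q := congr_mem_autGroup hg σ.symm heg hχ'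
  have hq : Quad (MulAut.congr σ.symm χ') := hquad.congr σ.symm
  have h1 := (hQ _ hχ hq).congr σ
  rw [map_congr_autGroup h σ he] at h1
  have h2 : MulAut.congr σ (MulAut.congr σ.symm χ') = χ' := by
    ext y
    show ((σ (σ.symm (χ' (σ.symm.symm (σ.symm y)))) : Q') : Ω) = χ' y
    simp
  rwa [h2] at h1

theorem pStabAt_of_fn [Finite S] {p : ℕ} [Fact p.Prime] (hfn : PStabFN p F) {Q : Subgroup Ω}
    (hQ : Q ≤ S) : PStabAt p F Q := by
  obtain ⟨Q', hQQ', hQ'fn⟩ := exists_fullyNormalized_conj F hQ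
  obtain ⟨f, hf⟩ := (isConj_iff F).1 hQQ'
  obtain ⟨g, hg, -, -⟩ := hf.symm
  exact (hfn Q' hQ'fn).of_isIso hg

theorem autGroup_le_of_sub {T : Subgroup Ω} {E : FusionSystem T}
    (hEF : ∀ (P : Subgroup Ω) (φ : P →* Ω), φ ∈ E.Hom P → φ ∈ F.Hom P) {Q : Subgroup Ω}
    (hQT : Q ≤ T) (hQS : Q ≤ S) : E.autGroup Q ≤ F.autGroup Q := by
  intro α hα
  rw [mem_autGroup_iff F hQS]
  exact hEF _ _ ((mem_autGroup_iff E hQT α).1 hα)

theorem PStabAt.sub {p : ℕ} [Fact p.Prime] {T : Subgroup Ω} {E : FusionSystem T}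
    (hEF : ∀ (P : Subgroup Ω) (φ : P →* Ω), φ ∈ E.Hom P → φ ∈ F.Hom P) {Q : Subgroup Ω}
    (hQT : Q ≤ T) (hQS : Q ≤ S) (h : PStabAt p F Q) : PStabAt p E Q := by
  intro χ hχ hq
  have hle := autGroup_le_of_sub hEF hQT hQS
  exact (h χ (hle hχ) hq).mono hle hχ

/-- a `p`-stable system has `p`-stable normalizer systems -/
theorem pStabFN_normalizerSystem [Finite S] {p : ℕ} [Fact p.Prime] (hfn : PStabFN p F)
    {R : Subgroup Ω} {N : FusionSystem (normalizerIn S R)} (hN : F.IsNormalizerSystem R N) :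
    PStabFN p N := by
  intro Q hQ
  have hQT : Q ≤ normalizerIn S R := hQ.1
  have hQS : Q ≤ S := hQT.trans inf_le_left
  refine (pStabAt_of_fn hfn hQS).sub (fun P φ hφ => ?_) hQT hQS
  rw [hN P] at hφ
  exact hφ.1

/-! ### Automorphisms extending to a larger subgroup -/

/-- every `F`-automorphism of `Q` extends to an `F`-automorphism of `R` -/
def ExtAll (F : FusionSystem S) (Q R : Subgroup Ω) : Prop :=
  ∀ k : Ω → Ω, IsIso F Q Q k → ∃ kb : Ω → Ω, IsIso F R R kb ∧ ∀ x ∈ Q, kb x = k x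

theorem extAll_refl (F : FusionSystem S) (Q : Subgroup Ω) : ExtAll F Q Q :=
  fun k hk => ⟨k, hk, fun _ _ => rfl⟩

theorem ExtAll.trans {Q R R₁ : Subgroup Ω} (hQR : Q ≤ R) (h1 : ExtAll F Q R)
    (h2 : ExtAll F R R₁) : ExtAll F Q R₁ := by
  intro k hk
  obtain ⟨kb, hkb, hkbk⟩ := h1 k hk
  obtain ⟨kc, hkc, hkckb⟩ := h2 kb hkb
  exact ⟨kc, hkc, fun x hx => (hkckb x (hQR hx)).trans (hkbk x hx)⟩

/-- transport of `ExtAll` along an isomorphism of the system defined on `R` -/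
theorem ExtAll.transport {Q R Q' R' : Subgroup Ω} {f : Ω → Ω} (hQR : Q ≤ R)
    (hfR : IsIso F R R' f) (hfQ : IsIso F Q Q' f) (h : ExtAll F Q R) : ExtAll F Q' R' := by
  obtain ⟨g, hg, hgf, hfg⟩ := hfR.symm
  have hQ'R' : Q' ≤ R' := by
    intro y hy
    obtain ⟨x, hx, rfl⟩ := hfQ.surjOn hy
    exact hfR.map_mem (hQR hx)
  have hgQ : IsIso F Q' Q g := by
    refine hg.restrict' hQ'R' (fun y hy => ?_) (fun x hx => ⟨f x, hfQ.map_mem hx, hgf x (hQR hx)⟩)
    obtain ⟨x, hx, rfl⟩ := hfQ.surjOn hy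
    rw [hgf x (hQR hx)]
    exact hx
  intro k' hk'
  have hk : IsIso F Q Q (g ∘ k' ∘ f) := (hfQ.trans hk').trans hgQ
  obtain ⟨kb, hkb, hkbk⟩ := h _ hk
  refine ⟨f ∘ kb ∘ g, (hg.trans hkb).trans hfR, fun y hy => ?_⟩
  show f (kb (g y)) = k' y
  rw [hkbk _ (hgQ.map_mem hy)]
  show f (g (k' (f (g y)))) = k' y
  rw [hfg y (hQ'R' hy), hfg _ (hQ'R' (hk'.map_mem hy))]

/-- if every `F`-automorphism of `Q` extends to `R`, the normalizer system of `R` induces on `Q`
the full automizer -/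
theorem normalizerSystem_autGroup_eq_of_extAll {Q R : Subgroup Ω} (hQR : Q ≤ R) (hRS : R ≤ S)
    {N : FusionSystem (normalizerIn S R)} (hN : F.IsNormalizerSystem R N) (hext : ExtAll F Q R) :
    N.autGroup Q = F.autGroup Q := by
  have hRT : R ≤ normalizerIn S R := le_normalizerIn hRS
  have hQT : Q ≤ normalizerIn S R := hQR.trans hRT
  have hQS : Q ≤ S := hQR.trans hRS
  ext α
  rw [mem_autGroup_iff N hQT, mem_autGroup_iff F hQS, hN Q]
  constructor
  · intro h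
    exact h.1
  · intro hαF
    have hiso : IsIso F Q Q (ext1 (Q.subtype.comp α.toMonoidHom)) :=
      isIso_of_mem_autGroup F hQS ((mem_autGroup_iff F hQS α).2 hαF)
    obtain ⟨kb, hkb, hkbk⟩ := hext _ hiso
    have hsup : Q ⊔ R = R := sup_eq_right.2 hQR
    apply mem_of_isNHom (k := ext1 (Q.subtype.comp α.toMonoidHom)) ?_ (fun x => (ext1_apply _ x).symm)
    rw [isNHom_iff]
    refine ⟨hQT, fun x hx => hQT (hiso.map_mem hx), kb, R, by rw [hsup]; exact hkb, hkbk,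
      fun x hx => hkb.map_mem hx, fun y hy => hkb.surjOn hy⟩

end Cfsg.Agent.Lib.H26.PStab
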