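import Mathlib
import Cfsg.Agent.Lib.H26.PStabFusion

set_option autoImplicit false
set_option linter.unusedSectionVars false
set_option linter.unusedVariables false

/-!
The chain argument for `p`-stability (helper26): for a fully normalized `R` that is not both
centric and radical, `R₁ = N_S^K(R)` with `K = O_p(Aut_F(R))` is strictly larger than `R` and
every `F`-automorphism of `R` extends to an `F`-automorphism of `R₁`.  Hence `p`-stability of
the normalizer systems of the fully normalized centric radical subgroups gives `p`-stability.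
-/

namespace Cfsg.Agent.Lib.H26.PStab

open Cfsg Cfsg.FusionSystem Cfsg.Agent.Lib.H25 Cfsg.Agent.Lib.H26

variable {Ω : Type*} [Group Ω] {S : Subgroup Ω} {F : FusionSystem S}

/-- `O_p(Aut_F(R))` as a subgroup of `Aut(R)` -/
def coreAut (p : ℕ) (F : FusionSystem S) (R : Subgroup Ω) : Subgroup (MulAut R) :=
  (pCore p (F.autGroup R)).map (F.autGroup R).subtype

theorem coreAut_le (p : ℕ) (F : FusionSystem S) (R : Subgroup Ω) :
    coreAut p F R ≤ F.autGroup R := Subgroup.map_subtype_le _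

theorem coreAut_conj {p : ℕ} {R : Subgroup Ω} {b d : MulAut R} (hb : b ∈ F.autGroup R)
    (hd : d ∈ coreAut p F R) : b * d * b⁻¹ ∈ coreAut p F R := by
  obtain ⟨d', hd', rfl⟩ := hd
  have hn := Cfsg.Agent.Lib.H1.pCore_normal p (F.autGroup R)
  exact ⟨⟨b, hb⟩ * d' * ⟨b, hb⟩⁻¹, hn.conj_mem d' hd' ⟨b, hb⟩, rfl⟩

theorem inn_le_autGroup {R : Subgroup Ω} (hRS : R ≤ S) : Inn R ≤ F.autGroup R := by
  rintro _ ⟨r, rfl⟩
  apply autInducedBy_le_autGroup F hRS
  rw [mem_autInducedBy_iff]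
  exact ⟨r, hRS r.2, fun y => rfl⟩

theorem inn_le_coreAut {p : ℕ} [Fact p.Prime] (hS : IsPGroup p S) {R : Subgroup Ω} (hRS : R ≤ S) :
    Inn R ≤ coreAut p F R := by
  intro χ hχ
  have hR : IsPGroup p R := hS.to_le hRS
  refine (inCore_iff (F.autGroup R) χ).2 ⟨Inn R, inn_le_autGroup hRS, ?_, ?_, hχ⟩
  · exact hR.of_surjective (MulAut.conj : R →* MulAut R).rangeRestrict
      (MulAut.conj : R →* MulAut R).rangeRestrict_surjective
  · rintro b _ _ ⟨r, rfl⟩
    refine ⟨b r, ?_⟩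
    ext x
    apply congrArg Subtype.val
    show ((b r) * x * (b r)⁻¹ : R) = b (r * b⁻¹ x * r⁻¹)
    rw [map_mul, map_mul, map_inv]
    simp

theorem coreAut_le_autInducedBy {p : ℕ} [Fact p.Prime] {R : Subgroup Ω}
    (hfa : F.IsFullyAutomized p R) : coreAut p F R ≤ autInducedBy S R := by
  obtain ⟨-, P, hP⟩ := hfa
  rintro _ ⟨d, hd, rfl⟩
  have h1 : d ∈ (P : Subgroup (F.autGroup R)) := Cfsg.Agent.Lib.H1.pCore_le_sylow P hd
  rw [hP] at h1
  exact Subgroup.mem_subgroupOf.1 h1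

/-- `R₁ = N_S^K(R)` for `K = O_p(Aut_F(R))` -/
def R1 (p : ℕ) (F : FusionSystem S) (R : Subgroup Ω) : Subgroup Ω := NK S (coreAut p F R) id

theorem mem_R1 {p : ℕ} {R : Subgroup Ω} {y : Ω} :
    y ∈ R1 p F R ↔ y ∈ S ∧ ∃ k ∈ coreAut p F R, ∀ x : R, ((k x : R) : Ω) = y * x * y⁻¹ := Iff.rfl

theorem R1_le_normalizerIn [Finite S] {p : ℕ} {R : Subgroup Ω} (hRS : R ≤ S) :
    R1 p F R ≤ normalizerIn S R := NK_le_normalizerIn (F := F) (IsIso.refl hRS) _

theorem centralizerIn_le_R1 {p : ℕ} {R : Subgroup Ω} (hRS : R ≤ S) :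
    centralizerIn S R ≤ R1 p F R := centralizerIn_le_NK (F := F) (IsIso.refl hRS) _

theorem le_R1 {p : ℕ} [Fact p.Prime] (hS : IsPGroup p S) {R : Subgroup Ω} (hRS : R ≤ S) :
    R ≤ R1 p F R := by
  intro r hr
  refine mem_R1.2 ⟨hRS hr, MulAut.conj (⟨r, hr⟩ : R), inn_le_coreAut hS hRS ⟨_, rfl⟩, fun x => rfl⟩

/-- `R₁` is strictly larger than `R` unless `R` is centric and radical -/
theorem R1_ne [Finite S] {p : ℕ} [Fact p.Prime] (hS : IsPGroup p S) (hF : F.IsSaturated p)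
    {R : Subgroup Ω} (hfn : F.IsFullyNormalized R) (h : ¬ (F.IsCentric R ∧ F.IsRadical p R)) :
    R1 p F R ≠ R := by
  have hRS := hfn.1
  obtain ⟨hfc, hfa⟩ := fullyNormalized_props hS hF hfn
  intro heq
  apply h
  have hcen : F.IsCentric R := by
    apply isCentric_of_fullyCentralized hfc
    rw [← heq]
    conv_lhs => rw [heq]
    exact centralizerIn_le_R1 hRS
  refine ⟨hcen, hRS, ?_⟩
  apply le_antisymm _ (inn_le_coreAut hS hRS)
  intro κ hκ
  obtain ⟨g, hgS, hg⟩ := (mem_autInducedBy_iff S R κ).1 (coreAut_le_autInducedBy hfa hκ)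
  have hgR1 : g ∈ R1 p F R := mem_R1.2 ⟨hgS, κ, hκ, hg⟩
  rw [heq] at hgR1
  refine ⟨⟨g, hgR1⟩, ?_⟩
  ext x
  rw [hg x]
  rfl

/-- every `F`-automorphism of a fully normalized `R` extends to an `F`-automorphism of `R₁` -/
theorem extAll_R1 [Finite S] {p : ℕ} [Fact p.Prime] (hS : IsPGroup p S) (hF : F.IsSaturated p)
    {R : Subgroup Ω} (hfn : F.IsFullyNormalized R) : ExtAll F R (R1 p F R) := by
  have hRS := hfn.1
  obtain ⟨hfc, hfa⟩ := fullyNormalized_props hS hF hfn
  have hrec := isReceptive_of_fullyCentralized hS hF hfc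
  have hRR1 : R ≤ R1 p F R := le_R1 hS hRS
  have hR1N : R1 p F R ≤ normalizerIn S R := R1_le_normalizerIn hRS
  intro k hk
  obtain ⟨α, hα, hαk⟩ := exists_mem_autGroup_of_isIso F hk
  -- the basic computation
  have key : ∀ g ∈ R1 p F R, ∃ κ' ∈ coreAut p F R,
      ∀ x : R, (((κ' (α x) : R) : Ω) = k (g * x * g⁻¹)) := by
    intro g hg
    obtain ⟨-, κ, hκ, hκg⟩ := mem_R1.1 hg
    refine ⟨α * κ * α⁻¹, coreAut_conj hα hκ, fun x => ?_⟩
    have h1 : (α * κ * α⁻¹) (α x) = α (κ x) := by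
      show α (κ (α⁻¹ (α x))) = α (κ x)
      simp
    rw [h1, hαk, hκg]
  have hN : ∀ g ∈ R1 p F R, g ∈ S ∧ g ∈ Subgroup.normalizer (R : Set Ω) ∧
      ∃ h ∈ S, ∀ x ∈ R, k (g * x * g⁻¹) = h * k x * h⁻¹ := by
    intro g hg
    obtain ⟨κ', hκ', hκ'g⟩ := key g hg
    obtain ⟨h, hhS, hh⟩ := (mem_autInducedBy_iff S R κ').1 (coreAut_le_autInducedBy hfa hκ')
    refine ⟨(hR1N hg).1, (hR1N hg).2, h, hhS, fun x hx => ?_⟩
    rw [← hκ'g ⟨x, hx⟩, hh, hαk]
  obtain ⟨f', N', hf', hf'k⟩ := IsReceptive_extend hrec hk (R1 p F R) hN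
  haveI : Finite ↥(R1 p F R) := finite_of_le S (hR1N.trans inf_le_left)
  have hN'le : N' ≤ R1 p F R := by
    intro y hy
    obtain ⟨g, hg, rfl⟩ := hf'.surjOn hy
    obtain ⟨κ', hκ', hκ'g⟩ := key g hg
    refine mem_R1.2 ⟨hf'.le_right (hf'.map_mem hg), κ', hκ', fun y => ?_⟩
    have hy' : α (α⁻¹ y) = y := by simp
    have h1 := hκ'g (α⁻¹ y)
    rw [hy'] at h1
    rw [h1]
    set x := α⁻¹ y with hx
    have hxR1 : (x : Ω) ∈ R1 p F R := hRR1 x.2
    have hconj : g * (x : Ω) * g⁻¹ ∈ R := (Subgroup.mem_normalizer_iff.1 (hR1N hg).2 _).1 x.2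
    rw [← hf'k _ hconj (hRR1 hconj),
      hf'.map_mul (Subgroup.mul_mem _ hg hxR1) (Subgroup.inv_mem _ hg),
      hf'.map_mul hg hxR1, hf'.map_inv hg, hf'k _ x.2 hxR1, ← hαk, hy']
  have hN'eq : N' = R1 p F R :=
    Subgroup.eq_of_le_of_card_ge hN'le (le_of_eq hf'.card_eq)
  rw [hN'eq] at hf'
  exact ⟨f', hf', fun x hx => hf'k x hx (hRR1 hx)⟩

/-- **The chain argument.** -/
theorem pStabAt_of_local_aux [Finite S] {p : ℕ} [Fact p.Prime] (hS : IsPGroup p S)
    (hF : F.IsSaturated p)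
    (hloc : ∀ R : Subgroup Ω, F.IsFullyNormalized R → F.IsCentric R → F.IsRadical p R →
      ∀ N : FusionSystem (normalizerIn S R), F.IsNormalizerSystem R N → PStabFN p N) :
    ∀ n : ℕ, ∀ Q R : Subgroup Ω, Q ≤ R → R ≤ S → Nat.card S - Nat.card R = n → ExtAll F Q R →
      PStabAt p F Q := by
  intro n
  induction n using Nat.strong_induction_on with
  | _ n ih =>
    intro Q R hQR hRS hn hext
    obtain ⟨R', hRR', hR'fn⟩ := exists_fullyNormalized_conj F hRS
    obtain ⟨f, hf⟩ := (isConj_iff F).1 hRR'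
    obtain ⟨Q', hQ'R', hfQ, -⟩ := hf.restrict hQR
    have hR'S : R' ≤ S := hR'fn.1
    have hext' : ExtAll F Q' R' := hext.transport hQR hf hfQ
    obtain ⟨g, hg, -, -⟩ := hfQ.symm
    refine PStabAt.of_isIso hg ?_
    by_cases hcr : F.IsCentric R' ∧ F.IsRadical p R'
    · obtain ⟨N, hN⟩ := Cfsg.Agent.S5096.result F R' hR'S
      have hNst : PStabFN p N := hloc R' hR'fn hcr.1 hcr.2 N hN
      haveI : Finite ↥(normalizerIn S R') := finite_of_le S inf_le_left
      have hQ'T : Q' ≤ normalizerIn S R' := hQ'R'.trans (le_normalizerIn hR'S)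
      have hat := pStabAt_of_fn hNst hQ'T
      have heq := normalizerSystem_autGroup_eq_of_extAll hQ'R' hR'S hN hext'
      intro χ hχ hq
      have h1 := hat χ (heq ▸ hχ) hq
      unfold InCore at h1 ⊢
      rw [heq] at h1
      exact h1
    · have hne := R1_ne hS hF hR'fn hcr
      have hle : R' ≤ R1 p F R' := le_R1 hS hR'S
      have hR1S : R1 p F R' ≤ S := (R1_le_normalizerIn hR'S).trans inf_le_left
      haveI : Finite ↥(R1 p F R') := finite_of_le S hR1S
      have hlt : Nat.card R' < Nat.card (R1 p F R') := by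
        rcases lt_or_eq_of_le (Subgroup.card_le_of_le hle) with h | h
        · exact h
        · exact absurd (Subgroup.eq_of_le_of_card_ge hle h.ge).symm hne
      have hcard : Nat.card R = Nat.card R' := hf.card_eq
      have hle2 : Nat.card (R1 p F R') ≤ Nat.card S := Subgroup.card_le_of_le hR1S
      have hext₁ : ExtAll F Q' (R1 p F R') := hext'.trans hQ'R' (extAll_R1 hS hF hR'fn)
      exact ih (Nat.card S - Nat.card (R1 p F R')) (by omega) Q' (R1 p F R') (hQ'R'.trans hle) hR1S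
        rfl hext₁

/-- `p`-stability of the normalizer systems of the fully normalized centric radical subgroups
gives `p`-stability of a saturated fusion system. -/
theorem pStabFN_of_local [Finite S] {p : ℕ} [Fact p.Prime] (hS : IsPGroup p S)
    (hF : F.IsSaturated p)
    (hloc : ∀ R : Subgroup Ω, F.IsFullyNormalized R → F.IsCentric R → F.IsRadical p R →
      ∀ N : FusionSystem (normalizerIn S R), F.IsNormalizerSystem R N → PStabFN p N) :
    PStabFN p F := fun Q hQ =>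
  pStabAt_of_local_aux hS hF hloc _ Q Q le_rfl hQ.1 rfl (extAll_refl F Q)

end Cfsg.Agent.Lib.H26.PStab
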