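import Mathlib
import Cfsg.Prelude.Def_LocalEven
import Cfsg.Agent.Lib.H26.PStabFusion
import Cfsg.Agent.Lib.H26.GroupFusion

set_option autoImplicit false
set_option linter.unusedSectionVars false
set_option linter.unusedVariables false

/-!
`p`-stability of a finite group in the normalizer form versus `p`-stability of its fusion system
(helper26).
-/

namespace Cfsg.Agent.Lib.H26.PStab

open Cfsg Cfsg.FusionSystem Cfsg.Agent.Lib.H25 Cfsg.Agent.Lib.H26
open scoped commutatorElement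

universe u

variable {G : Type u} [Group G]

theorem pCore_map_equiv_le {A B : Type*} [Group A] [Group B] (p : ℕ) [Fact p.Prime] (f : A ≃* B) :
    (pCore p A).map f.toMonoidHom ≤ pCore p B :=
  Cfsg.Agent.Lib.H1.le_pCore ((Cfsg.Agent.Lib.H1.pCore_normal p A).map _ f.surjective)
    ((Cfsg.Agent.Lib.H1.pCore_isPGroup p A).map _)

theorem pCore_map_equiv {A B : Type*} [Group A] [Group B] (p : ℕ) [Fact p.Prime] (e : A ≃* B) :
    (pCore p A).map e.toMonoidHom = pCore p B := by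
  apply le_antisymm (pCore_map_equiv_le p e)
  intro b hb
  have h1 := pCore_map_equiv_le p e.symm ⟨b, hb, rfl⟩
  exact ⟨e.symm b, h1, e.apply_symm_apply b⟩

/-- the local form of `IsNormalizerPStable` -/
def LocStab (p : ℕ) (Q : Subgroup G) : Prop :=
  ∀ (g : G) (hg : g ∈ Subgroup.normalizer (Q : Set G)),
    ⁅⁅Q, Subgroup.zpowers g⁆, Subgroup.zpowers g⁆ = ⊥ →
      (QuotientGroup.mk (s := (Subgroup.centralizer (Q : Set G)).subgroupOf
        (Subgroup.normalizer (Q : Set G))) (⟨g, hg⟩ : ↥(Subgroup.normalizer (Q : Set G)))) ∈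
        pCore p (↥(Subgroup.normalizer (Q : Set G)) ⧸
          (Subgroup.centralizer (Q : Set G)).subgroupOf (Subgroup.normalizer (Q : Set G)))

theorem isNormalizerPStable_iff (p : ℕ) :
    IsNormalizerPStable p G ↔ ∀ Q : Subgroup G, IsPGroup p Q → LocStab p Q := Iff.rfl

theorem nmh_coe (Q : Subgroup G) (n : ↥(Subgroup.normalizer (Q : Set G))) (x : Q) :
    ((Q.normalizerMonoidHom n x : Q) : G) = n * x * (n : G)⁻¹ := rfl

/-- membership in `O_p(N(Q)/C(Q))` in terms of the image of `N(Q)` in `Aut(Q)` -/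
theorem mk_mem_pCore_iff {p : ℕ} [Fact p.Prime] (Q : Subgroup G)
    (n : ↥(Subgroup.normalizer (Q : Set G))) :
    (QuotientGroup.mk (s := (Subgroup.centralizer (Q : Set G)).subgroupOf
        (Subgroup.normalizer (Q : Set G))) n) ∈
        pCore p (↥(Subgroup.normalizer (Q : Set G)) ⧸
          (Subgroup.centralizer (Q : Set G)).subgroupOf (Subgroup.normalizer (Q : Set G))) ↔
      InCore p Q.normalizerMonoidHom.range (Q.normalizerMonoidHom n) := by
  set θ := Q.normalizerMonoidHom with hθ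
  let e₁ := QuotientGroup.quotientMulEquivOfEq (Subgroup.normalizerMonoidHom_ker (H := Q)).symm
  let e₂ := QuotientGroup.quotientKerEquivRange θ
  let e := e₁.trans e₂
  have he : e (QuotientGroup.mk n) = ⟨θ n, ⟨n, rfl⟩⟩ := rfl
  have hmap := pCore_map_equiv p e
  constructor
  · intro h
    have h1 : e (QuotientGroup.mk n) ∈ pCore p θ.range := by
      rw [← hmap]; exact ⟨_, h, rfl⟩
    rw [he] at h1
    exact ⟨_, h1, rfl⟩
  · rintro ⟨y, hy, hyn⟩
    have hy' : y = e (QuotientGroup.mk n) := by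
      rw [he]; exact Subtype.ext hyn
    rw [hy', ← hmap] at hy
    obtain ⟨z, hz, hzn⟩ := hy
    have : z = QuotientGroup.mk n := e.injective hzn
    rwa [this] at hz

/-- auxiliary subgroup: the elements `x` commuting with `g` such that all `⁅a, x⁆`, `a ∈ Q`,
commute with `g` -/
def auxX (Q : Subgroup G) (g : G) : Subgroup G where
  carrier := {x | Commute x g ∧ ∀ a ∈ Q, Commute ⁅a, x⁆ g}
  one_mem' := ⟨Commute.one_left g, fun a _ => by
    rw [commutatorElement_one_right]; exact Commute.one_left g⟩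
  mul_mem' := by
    rintro x y ⟨hx, hxa⟩ ⟨hy, hya⟩
    refine ⟨hx.mul_left hy, fun a ha => ?_⟩
    have e : ⁅a, x * y⁆ = ⁅a, x⁆ * (x * ⁅a, y⁆ * x⁻¹) := by
      simp only [commutatorElement_def]; group
    rw [e]
    exact (hxa a ha).mul_left ((hx.mul_left (hya a ha)).mul_left hx.inv_left)
  inv_mem' := by
    rintro x ⟨hx, hxa⟩
    refine ⟨hx.inv_left, fun a ha => ?_⟩
    have e : ⁅a, x⁻¹⁆ = x⁻¹ * ⁅a, x⁆⁻¹ * x := by
      simp only [commutatorElement_def]; group
    rw [e]
    exact (hx.inv_left.mul_left (hxa a ha).inv_left).mul_left hx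

theorem quad_iff (Q : Subgroup G) (n : ↥(Subgroup.normalizer (Q : Set G))) :
    Quad (Q.normalizerMonoidHom n) ↔
      ⁅⁅Q, Subgroup.zpowers (n : G)⁆, Subgroup.zpowers (n : G)⁆ = ⊥ := by
  set g : G := (n : G) with hg
  set χ := Q.normalizerMonoidHom n with hχ
  constructor
  · intro hq
    -- step 1
    have h1 : ∀ a ∈ Q, Commute ⁅a, g⁆ g := by
      intro a ha
      have hfix := hq.fix (⟨a, ha⟩⁻¹ : Q)
      have hc : ((cm' χ (⟨a, ha⟩⁻¹ : Q) : Q) : G) = ⁅a, g⁆ := by
        unfold cm'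
        rw [inv_inv]
        show a * (g * a⁻¹ * g⁻¹) = ⁅a, g⁆
        rw [commutatorElement_def]; group
      have h2 := congrArg Subtype.val hfix
      rw [nmh_coe, hc] at h2
      show ⁅a, g⁆ * g = g * ⁅a, g⁆
      calc ⁅a, g⁆ * g = (g * ⁅a, g⁆ * g⁻¹) * g := by rw [h2]
        _ = g * ⁅a, g⁆ := by group
    have hgX : g ∈ auxX Q g := ⟨Commute.refl g, h1⟩
    have hle : Subgroup.zpowers g ≤ auxX Q g := (Subgroup.zpowers_le).2 hgX
    rw [eq_bot_iff, Subgroup.commutator_le]
    intro y hy z hz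
    rw [Subgroup.mem_bot, commutatorElement_eq_one_iff_commute]
    -- `y` commutes with `g`
    have hyg : ∀ y ∈ ⁅Q, Subgroup.zpowers g⁆, Commute y g := by
      intro y hy
      have : ⁅Q, Subgroup.zpowers g⁆ ≤ Subgroup.centralizer {g} := by
        rw [Subgroup.commutator_le]
        intro a ha x hx
        rw [Subgroup.mem_centralizer_iff]
        intro w hw
        rw [Set.mem_singleton_iff] at hw
        subst hw
        exact ((hle hx).2 a ha).symm.eq
      have h3 := Subgroup.mem_centralizer_iff.1 (this hy) g rfl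
      exact h3.symm
    obtain ⟨i, rfl⟩ := Subgroup.mem_zpowers_iff.1 hz
    exact (hyg y hy).zpow_right i
  · intro hcomm a
    apply Subtype.ext
    have ha := a.2
    set c : G := ⁅(a : G)⁻¹, g⁆ with hc
    have hcm : c ∈ ⁅Q, Subgroup.zpowers g⁆ :=
      Subgroup.commutator_mem_commutator (Q.inv_mem ha) (Subgroup.mem_zpowers g)
    have hcg : ⁅c, g⁆ ∈ ⁅⁅Q, Subgroup.zpowers g⁆, Subgroup.zpowers g⁆ :=
      Subgroup.commutator_mem_commutator hcm (Subgroup.mem_zpowers g)
    rw [hcomm, Subgroup.mem_bot, commutatorElement_eq_one_iff_commute] at hcg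
    show (g * (a : G)⁻¹ * g⁻¹) * a * (g * (a : G)⁻¹ * g⁻¹) * (g * (g * a * g⁻¹) * g⁻¹) = 1
    have e : (g * (a : G)⁻¹ * g⁻¹) * a * (g * (a : G)⁻¹ * g⁻¹) * (g * (g * a * g⁻¹) * g⁻¹) =
        c⁻¹ * (g * c * g⁻¹) := by
      rw [hc, commutatorElement_def]; group
    rw [e, ← hcg.eq]
    group

/-- If `α ∈ Aut(Q)` is induced by conjugation by `g`, then `g` normalizes `Q`. -/
theorem mem_normalizer_of_aut' {Q : Subgroup G} {α : MulAut Q} {g : G}
    (h : ∀ x : Q, ((α x : Q) : G) = g * (x : G) * g⁻¹) : g ∈ Subgroup.normalizer (Q : Set G) := by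
  rw [Subgroup.mem_normalizer_iff]
  intro y
  constructor
  · intro hy
    rw [← h ⟨y, hy⟩]
    exact (α ⟨y, hy⟩).2
  · intro hy
    have h1 := h (α⁻¹ ⟨_, hy⟩)
    have h2 : α (α⁻¹ ⟨_, hy⟩) = ⟨_, hy⟩ := by simp
    rw [h2] at h1
    have h3 : ((α⁻¹ ⟨_, hy⟩ : Q) : G) = y := by
      have : g * y * g⁻¹ = g * ((α⁻¹ ⟨_, hy⟩ : Q) : G) * g⁻¹ := h1
      exact (mul_left_cancel (mul_right_cancel this)).symm
    rw [← h3]
    exact (α⁻¹ ⟨_, hy⟩).2

/-- `Aut_F(Q)` for the fusion system of a group is the image of `N_G(Q)` -/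
theorem groupFusionSystem_autGroup_eq {P Q : Subgroup G} (hQP : Q ≤ P) :
    (groupFusionSystem P).autGroup Q = Q.normalizerMonoidHom.range := by
  ext α
  rw [mem_autGroup_iff (groupFusionSystem P) hQP]
  constructor
  · rintro ⟨-, -, g, hg⟩
    have hgN : g ∈ Subgroup.normalizer (Q : Set G) := mem_normalizer_of_aut' (α := α) hg
    refine ⟨⟨g, hgN⟩, ?_⟩
    ext x
    rw [nmh_coe]
    exact (hg x).symm
  · rintro ⟨n, rfl⟩
    exact ⟨hQP, fun x => hQP (Q.normalizerMonoidHom n x).2, n, fun x => rfl⟩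

theorem locStab_iff_pStabAt {p : ℕ} [Fact p.Prime] {P Q : Subgroup G} (hQP : Q ≤ P) :
    LocStab p Q ↔ PStabAt p (groupFusionSystem P) Q := by
  have heq := groupFusionSystem_autGroup_eq hQP
  constructor
  · intro h χ hχ hq
    rw [heq] at hχ
    obtain ⟨n, rfl⟩ := hχ
    have h1 := h n n.2 ((quad_iff Q n).1 hq)
    have h2 := (mk_mem_pCore_iff (p := p) Q n).1 h1
    unfold InCore at h2 ⊢
    rw [heq]
    exact h2
  · intro h g hg hcomm
    have hq : Quad (Q.normalizerMonoidHom ⟨g, hg⟩) := (quad_iff Q ⟨g, hg⟩).2 hcomm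
    have hmem : Q.normalizerMonoidHom ⟨g, hg⟩ ∈ (groupFusionSystem P).autGroup Q := by
      rw [heq]; exact ⟨_, rfl⟩
    have h1 := h _ hmem hq
    apply (mk_mem_pCore_iff (p := p) Q ⟨g, hg⟩).2
    unfold InCore at h1 ⊢
    rw [heq] at h1
    exact h1

/-- local `p`-stability passes along injective homomorphisms (after helper10's
`isNormalizerPStable_of_injective`) -/
theorem locStab_of_injective {H₁ H₂ : Type*} [Group H₁] [Group H₂] {p : ℕ} [Fact p.Prime]
    (e : H₁ →* H₂) (he : Function.Injective e) {P : Subgroup H₁} (h : LocStab p (P.map e)) :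
    LocStab p P := by
  intro g hg hquad
  have hnorm : ∀ x ∈ Subgroup.normalizer ((P : Subgroup H₁) : Set H₁),
      e x ∈ Subgroup.normalizer ((P.map e : Subgroup H₂) : Set H₂) := by
    intro x hx
    exact Subgroup.le_normalizer_map e ⟨x, hx, rfl⟩
  have hquad' : ⁅⁅P.map e, Subgroup.zpowers (e g)⁆, Subgroup.zpowers (e g)⁆ = ⊥ := by
    rw [← MonoidHom.map_zpowers, ← Subgroup.map_commutator, ← Subgroup.map_commutator, hquad,
      Subgroup.map_bot]
  have hmem := h (e g) (hnorm g hg) hquad'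
  set N₁ := Subgroup.normalizer ((P : Subgroup H₁) : Set H₁) with hN₁
  set C₁ := (Subgroup.centralizer ((P : Subgroup H₁) : Set H₁)).subgroupOf N₁ with hC₁
  set N₂ := Subgroup.normalizer ((P.map e : Subgroup H₂) : Set H₂) with hN₂
  set C₂ := (Subgroup.centralizer ((P.map e : Subgroup H₂) : Set H₂)).subgroupOf N₂ with hC₂
  let θ : ↥N₁ →* ↥N₂ := (e.comp N₁.subtype).codRestrict N₂ (fun x => hnorm x x.2)
  let f : ↥N₁ →* ↥N₂ ⧸ C₂ := (QuotientGroup.mk' C₂).comp θ
  have hker : C₁ ≤ f.ker := by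
    intro x hx
    rw [MonoidHom.mem_ker]
    show QuotientGroup.mk' C₂ (θ x) = 1
    rw [QuotientGroup.mk'_apply, QuotientGroup.eq_one_iff, hC₂, Subgroup.mem_subgroupOf]
    rw [hC₁, Subgroup.mem_subgroupOf] at hx
    show e (x : H₁) ∈ Subgroup.centralizer ((P.map e : Subgroup H₂) : Set H₂)
    rw [Subgroup.mem_centralizer_iff]
    rintro _ ⟨y, hy, rfl⟩
    rw [← map_mul, ← map_mul, Subgroup.mem_centralizer_iff.mp hx y hy]
  let f' : ↥N₁ ⧸ C₁ →* ↥N₂ ⧸ C₂ := QuotientGroup.lift C₁ f hker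
  have hinj : Function.Injective f' := by
    rw [injective_iff_map_eq_one]
    intro q hq
    induction q using QuotientGroup.induction_on with
    | H x =>
    have h1 : QuotientGroup.mk' C₂ (θ x) = 1 := hq
    rw [QuotientGroup.mk'_apply, QuotientGroup.eq_one_iff, hC₂, Subgroup.mem_subgroupOf] at h1
    have h2 : e (x : H₁) ∈ Subgroup.centralizer ((P.map e : Subgroup H₂) : Set H₂) := h1
    rw [QuotientGroup.eq_one_iff, hC₁, Subgroup.mem_subgroupOf, Subgroup.mem_centralizer_iff]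
    intro y hy
    apply he
    rw [map_mul, map_mul]
    exact Subgroup.mem_centralizer_iff.mp h2 (e y) ⟨y, hy, rfl⟩
  set X := (pCore p (↥N₂ ⧸ C₂)).comap f' with hX
  have hXn : X.Normal := (Cfsg.Agent.Lib.H1.pCore_normal p _).comap f'
  have hXp : IsPGroup p ↥X := (Cfsg.Agent.Lib.H1.pCore_isPGroup p _).comap_of_injective f' hinj
  have hle : X ≤ pCore p (↥N₁ ⧸ C₁) := Cfsg.Agent.Lib.H1.le_pCore hXn hXp
  apply hle
  exact hmem

theorem exists_cj_le_sylow [Finite G] {p : ℕ} [Fact p.Prime] (P : Sylow p G) {Q : Subgroup G}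
    (hQ : IsPGroup p Q) : ∃ t : G, cj t Q ≤ P := by
  obtain ⟨P', hP'⟩ := hQ.exists_le_sylow
  obtain ⟨t, ht⟩ := MulAction.exists_smul_eq G P' P
  refine ⟨t, ?_⟩
  rintro _ ⟨y, hy, rfl⟩
  have h1 : t * y * t⁻¹ ∈ (t • P' : Sylow p G) := by
    rw [← SetLike.mem_coe, Sylow.coe_smul]
    exact ⟨_, hP' hy, rfl⟩
  rw [ht] at h1
  exact h1

/-- **`p`-stability of a group versus its fusion system.** -/
theorem isNormalizerPStable_iff_pStabFN [Finite G] {p : ℕ} [Fact p.Prime] (P : Sylow p G) :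
    IsNormalizerPStable p G ↔ PStabFN p (groupFusionSystem (P : Subgroup G)) := by
  constructor
  · intro h Q hQ
    exact (locStab_iff_pStabAt hQ.1).1 (h Q (P.isPGroup'.to_le hQ.1))
  · intro h Q hQ
    obtain ⟨t, ht⟩ := exists_cj_le_sylow P hQ
    have h1 : PStabAt p (groupFusionSystem (P : Subgroup G)) (cj t Q) := pStabAt_of_fn h ht
    have h2 : LocStab p (cj t Q) := (locStab_iff_pStabAt ht).2 h1
    exact locStab_of_injective (MulAut.conj t).toMonoidHom (MulAut.conj t).injective h2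

end Cfsg.Agent.Lib.H26.PStab
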