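import Mathlib
import Cfsg.Agent.Lib.H20.Cyclic

set_option autoImplicit false

/-!
Power graph of a finite group: basic relations (adjacency `R`, equal closed neighbourhoods `E`,
strict order `lt`), the prime-power lemma, betweenness, and compatibility of `lt` with `E`.
-/

namespace Cfsg.Agent.Lib.H26.PowG

open Subgroup

variable {G : Type*} [Group G]

/-- adjacency in the (reflexive) power graph -/
def R (x y : G) : Prop := x ∈ zpowers y ∨ y ∈ zpowers x

/-- equal closed neighbourhoods -/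
def E (x y : G) : Prop := ∀ z, R x z ↔ R y z

/-- `x` is a power of `y` and they are not neighbourhood-equivalent -/
def lt (x y : G) : Prop := x ∈ zpowers y ∧ ¬ E x y

/-- only the identity is adjacent to every vertex -/
def NoDom (G : Type*) [Group G] : Prop := ∀ y : G, (∀ z, R y z) → y = 1

theorem R_refl (x : G) : R x x := Or.inl (mem_zpowers x)

theorem R_symm {x y : G} (h : R x y) : R y x := Or.symm h

theorem R_comm (x y : G) : R x y ↔ R y x := ⟨R_symm, R_symm⟩

theorem R_one (z : G) : R 1 z := Or.inl (one_mem _)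

theorem E_refl (x : G) : E x x := fun _ => Iff.rfl

theorem E_symm {x y : G} (h : E x y) : E y x := fun z => (h z).symm

theorem E_trans {x y z : G} (h1 : E x y) (h2 : E y z) : E x z := fun w => (h1 w).trans (h2 w)

theorem E.toR {x y : G} (h : E x y) : R x y := R_symm ((h x).mp (R_refl x))

theorem mem_trans {x y z : G} (h1 : x ∈ zpowers y) (h2 : y ∈ zpowers z) : x ∈ zpowers z :=
  (zpowers_le.mpr h2) h1

theorem E_of_mem_mem {x y : G} (h1 : x ∈ zpowers y) (h2 : y ∈ zpowers x) : E x y := by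
  intro z
  constructor
  · rintro (h | h)
    · exact Or.inl (mem_trans h2 h)
    · exact Or.inr (mem_trans h h1)
  · rintro (h | h)
    · exact Or.inl (mem_trans h1 h)
    · exact Or.inr (mem_trans h h2)

theorem dom_of_E_one {y : G} (h : E 1 y) : ∀ z, R y z := fun z => (h z).mp (R_one z)

theorem eq_one_of_mem_zpowers_one {w : G} (h : w ∈ zpowers (1 : G)) : w = 1 := by
  rw [zpowers_one_eq_bot] at h
  exact mem_bot.mp h

/-- number theory: a divisor comparable with all divisors forces a prime power -/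
theorem nt_primepow {n m : ℕ} (hn : 0 < n) (hmn : m ∣ n) (hm1 : m ≠ 1) (hmne : m ≠ n)
    (h : ∀ d, d ∣ n → d ∣ m ∨ m ∣ d) : ∃ r k : ℕ, r.Prime ∧ n = r ^ k := by
  obtain ⟨t, ht⟩ := hmn
  have ht1 : t ≠ 1 := by
    rintro rfl
    apply hmne
    rw [ht, mul_one]
  set r := t.minFac with hr_def
  have hr : r.Prime := Nat.minFac_prime ht1
  have hrt : r ∣ t := Nat.minFac_dvd t
  have hmr : m * r ∣ n := by
    rw [ht]
    exact Nat.mul_dvd_mul_left m hrt
  set a := n.factorization r with ha_def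
  have hd : r ^ a ∣ n := Nat.ordProj_dvd n r
  have hnot : ¬ r ^ a ∣ m := by
    intro hdm
    have h1 : r ^ (a + 1) ∣ n := by
      rw [pow_succ]
      exact dvd_trans (Nat.mul_dvd_mul_right hdm r) hmr
    exact Nat.pow_succ_factorization_not_dvd hn.ne' hr h1
  have hm_pow : m ∣ r ^ a := (h _ hd).resolve_left hnot
  obtain ⟨c, -, hc⟩ := (Nat.dvd_prime_pow hr).mp hm_pow
  have hc0 : c ≠ 0 := by
    rintro rfl
    apply hm1
    rw [hc, pow_zero]
  have huniq : ∀ {s : ℕ}, s.Prime → s ∣ n → s = r := by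
    intro s hs hsn
    rcases h s hsn with h1 | h1
    · rw [hc] at h1
      exact (Nat.prime_dvd_prime_iff_eq hs hr).mp (hs.dvd_of_dvd_pow h1)
    · rcases (Nat.dvd_prime hs).mp h1 with h2 | h2
      · exact absurd h2 hm1
      · have : r ∣ s := by
          rw [← h2, hc]
          exact dvd_pow_self r hc0
        exact ((Nat.prime_dvd_prime_iff_eq hr hs).mp this).symm
  exact ⟨r, _, hr, Nat.eq_prime_pow_of_unique_prime_dvd hn.ne' huniq⟩

variable [Finite G]

theorem cmp_of_dvd {a b c : G} (ha : a ∈ zpowers c) (hb : b ∈ zpowers c)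
    (h : orderOf a ∣ orderOf b) : a ∈ zpowers b :=
  Cfsg.Agent.Lib.H20.mem_zpowers_of_orderOf_dvd ha hb h

theorem exists_order {c : G} {d : ℕ} (hd : d ∣ orderOf c) : ∃ w ∈ zpowers c, orderOf w = d := by
  have hpos : 0 < orderOf c := orderOf_pos c
  obtain ⟨k, hk⟩ := hd
  have hk0 : k ≠ 0 := by
    rintro rfl
    rw [mul_zero] at hk
    omega
  refine ⟨c ^ k, pow_mem (mem_zpowers c) k, ?_⟩
  rw [orderOf_pow_of_dvd hk0 ⟨d, by rw [hk, mul_comm]⟩, hk,
    Nat.mul_div_cancel _ (Nat.pos_of_ne_zero hk0)]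

/-- prime-power lemma -/
theorem pp_of_E {y' y : G} (hE : E y' y) (h1 : y' ∈ zpowers y) (h2 : y ∉ zpowers y')
    (h3 : y' ≠ 1) : ∃ r k : ℕ, r.Prime ∧ orderOf y = r ^ k := by
  apply nt_primepow (orderOf_pos y) (orderOf_dvd_of_mem_zpowers h1)
  · intro h
    exact h3 (orderOf_eq_one_iff.mp h)
  · intro h
    exact h2 (cmp_of_dvd (mem_zpowers y) h1 (dvd_of_eq h.symm))
  · intro d hd
    obtain ⟨w, hw, hwd⟩ := exists_order hd
    have hRy : R y w := Or.inr hw
    have hRy' : R y' w := (hE w).mpr hRy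
    rcases hRy' with h | h
    · right
      rw [← hwd]
      exact orderOf_dvd_of_mem_zpowers h
    · left
      rw [← hwd]
      exact orderOf_dvd_of_mem_zpowers h

theorem cmp_of_primepow {b v w : G} {r k : ℕ} (hr : r.Prime) (hb : orderOf b = r ^ k)
    (hv : v ∈ zpowers b) (hw : w ∈ zpowers b) : R v w := by
  have h1 : orderOf v ∣ r ^ k := hb ▸ orderOf_dvd_of_mem_zpowers hv
  have h2 : orderOf w ∣ r ^ k := hb ▸ orderOf_dvd_of_mem_zpowers hw
  obtain ⟨i, -, hi⟩ := (Nat.dvd_prime_pow hr).mp h1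
  obtain ⟨j, -, hj⟩ := (Nat.dvd_prime_pow hr).mp h2
  rcases le_total i j with hij | hij
  · left
    apply cmp_of_dvd hv hw
    rw [hi, hj]
    exact pow_dvd_pow r hij
  · right
    apply cmp_of_dvd hw hv
    rw [hi, hj]
    exact pow_dvd_pow r hij

/-- betweenness -/
theorem between (hS : NoDom G) {a w b : G} (hE : E a b) (h1 : a ∈ zpowers w)
    (h2 : w ∈ zpowers b) : E w b := by
  by_cases hba : b ∈ zpowers a
  · exact E_of_mem_mem h2 (mem_trans hba h1)
  by_cases ha1 : a = 1
  · subst ha1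
    have hb1 : b = 1 := hS b (dom_of_E_one hE)
    subst hb1
    have : w = 1 := eq_one_of_mem_zpowers_one h2
    subst this
    exact E_refl _
  obtain ⟨r, k, hr, hk⟩ := pp_of_E hE (mem_trans h1 h2) hba ha1
  intro v
  constructor
  · rintro (h | h)
    · exact (hE v).mp (Or.inl (mem_trans h1 h))
    · exact Or.inr (mem_trans h h2)
  · rintro (h | h)
    · exact Or.inl (mem_trans h2 h)
    · exact R_symm (cmp_of_primepow hr hk h h2)

/-- `lt` is compatible with `E` -/
theorem lt_congr (hS : NoDom G) {x x' y y' : G} (hx : E x x') (hy : E y y') (h : lt x y) :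
    lt x' y' := by
  obtain ⟨hxy, hnE⟩ := h
  have hnE' : ¬ E x' y' := fun h' => hnE (E_trans hx (E_trans h' (E_symm hy)))
  refine ⟨?_, hnE'⟩
  have hR1 : R x y := Or.inl hxy
  have hR2 : R x y' := R_symm ((hy x).mp (R_symm hR1))
  have hR3 : R x' y' := (hx y').mp hR2
  rcases hR3 with h3 | h3
  · exact h3
  exfalso
  rcases hx.toR with h4 | h4
  · -- x ∈ ⟨x'⟩
    rcases hy.toR with h5 | h5
    · -- y ∈ ⟨y'⟩
      have : E y x' := between hS hx hxy (mem_trans h5 h3)
      exact hnE (E_symm (E_trans this (E_symm hx)))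
    · -- y' ∈ ⟨y⟩
      have hR4 : R x' y := R_symm ((hy x').mpr (R_symm (Or.inr h3)))
      rcases hR4 with h6 | h6
      · -- x' ∈ ⟨y⟩
        have : E x' y := between hS (E_symm hy) h3 h6
        exact hnE (E_trans hx this)
      · -- y ∈ ⟨x'⟩
        have : E y x' := between hS hx hxy h6
        exact hnE (E_symm (E_trans this (E_symm hx)))
  · -- x' ∈ ⟨x⟩
    have : E x y := between hS (E_symm hy) (mem_trans h3 h4) hxy
    exact hnE this

end Cfsg.Agent.Lib.H26.PowG
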