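import Mathlib
import Cfsg.Agent.Lib.H26.PowGA

set_option autoImplicit false

/-!
Power graph of a finite group: neighbourhood classes, their sizes, and the size criterion that
recovers the orientation of an edge between two classes.
-/

namespace Cfsg.Agent.Lib.H26.PowG

open Subgroup

variable {G : Type*} [Group G]

/-- the neighbourhood class of `x` -/
def cls (x : G) : Set G := {z | E z x}

theorem mem_cls_self (x : G) : x ∈ cls x := E_refl x

theorem cls_eq_of_E {x y : G} (h : E x y) : cls x = cls y := by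
  ext z
  exact ⟨fun hz => E_trans hz h, fun hz => E_trans hz (E_symm h)⟩

/-- number theory: equal totients along a proper divisibility -/
theorem nt_totient_aux {s m m' : ℕ} (hs : s.Prime) (hm : 0 < m) (hm' : 0 < m') (hd : s * m ∣ m')
    (hphi : Nat.totient m' = Nat.totient m) : s = 2 ∧ ¬ 2 ∣ m := by
  have h1 : Nat.totient (s * m) ≤ Nat.totient m := by
    rw [← hphi]
    exact Nat.le_of_dvd (Nat.totient_pos.mpr hm') (Nat.totient_dvd_of_dvd hd)
  have hpos : 0 < Nat.totient m := Nat.totient_pos.mpr hm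
  by_cases hsm : s ∣ m
  · exfalso
    rw [Nat.totient_mul_of_prime_of_dvd hs hsm] at h1
    have : 2 ≤ s := hs.two_le
    nlinarith
  · rw [Nat.totient_mul_of_prime_of_not_dvd hs hsm] at h1
    have h2 : 2 ≤ s := hs.two_le
    have h3 : s - 1 ≤ 1 := by
      by_contra hcon
      push_neg at hcon
      have : 2 * Nat.totient m ≤ (s - 1) * Nat.totient m := Nat.mul_le_mul_right _ hcon
      omega
    have hs2 : s = 2 := by omega
    subst hs2
    exact ⟨rfl, hsm⟩

theorem nt_totient {n n' : ℕ} (hn' : 0 < n') (hd : n ∣ n') (hne : n ≠ n')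
    (hphi : Nat.totient n = Nat.totient n') : ¬ 2 ∣ n ∧ n' = 2 * n := by
  have hn : 0 < n := Nat.pos_of_dvd_of_pos hd hn'
  obtain ⟨k, hk⟩ := hd
  have hk1 : k ≠ 1 := by
    rintro rfl
    apply hne
    rw [hk, mul_one]
  have hsp : (k.minFac).Prime := Nat.minFac_prime hk1
  have hsk : k.minFac ∣ k := Nat.minFac_dvd k
  have h1 : k.minFac * n ∣ n' := by
    rw [hk, mul_comm]
    exact Nat.mul_dvd_mul_left n hsk
  obtain ⟨hs2, hodd⟩ := nt_totient_aux hsp hn hn' h1 hphi.symm
  refine ⟨hodd, ?_⟩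
  rw [hs2] at h1 hsk
  by_contra hne2
  obtain ⟨k', hk'⟩ := h1
  have hk'1 : k' ≠ 1 := by
    rintro rfl
    apply hne2
    rw [hk', mul_one]
  have hsp' : (k'.minFac).Prime := Nat.minFac_prime hk'1
  have h2 : k'.minFac * (2 * n) ∣ n' := by
    rw [hk', mul_comm]
    exact Nat.mul_dvd_mul_left (2 * n) (Nat.minFac_dvd k')
  have hphi2 : Nat.totient (2 * n) = Nat.totient n := by
    rw [Nat.totient_mul_of_prime_of_not_dvd Nat.prime_two hodd]
    simp
  obtain ⟨-, hbad⟩ := nt_totient_aux hsp' (by omega : 0 < 2 * n) hn' h2 (by rw [hphi2, hphi])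
  exact hbad (dvd_mul_right 2 n)

variable [Finite G]

theorem exists_top (x : G) : ∃ x₁, E x₁ x ∧ ∀ z, E z x → z ∈ zpowers x₁ := by
  obtain ⟨x₁, hx₁, hmax⟩ := Set.exists_max_image (cls x) orderOf (Set.toFinite _) ⟨x, mem_cls_self x⟩
  refine ⟨x₁, hx₁, ?_⟩
  intro z hz
  have hE : E z x₁ := E_trans hz (E_symm hx₁)
  rcases hE.toR with h | h
  · exact h
  · have h1 : orderOf x₁ ∣ orderOf z := orderOf_dvd_of_mem_zpowers h
    have h2 : orderOf z ≤ orderOf x₁ := hmax z hz
    have h3 : orderOf x₁ ≤ orderOf z := Nat.le_of_dvd (orderOf_pos z) h1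
    exact cmp_of_dvd (mem_zpowers z) h (dvd_of_eq (le_antisymm h2 h3))

theorem exists_bot (y : G) : ∃ y₀, E y₀ y ∧ ∀ z, E z y → y₀ ∈ zpowers z := by
  obtain ⟨y₀, hy₀, hmin⟩ := Set.exists_min_image (cls y) orderOf (Set.toFinite _) ⟨y, mem_cls_self y⟩
  refine ⟨y₀, hy₀, ?_⟩
  intro z hz
  have hE : E z y₀ := E_trans hz (E_symm hy₀)
  rcases hE.toR with h | h
  · have h1 : orderOf z ∣ orderOf y₀ := orderOf_dvd_of_mem_zpowers h
    have h2 : orderOf y₀ ≤ orderOf z := hmin z hz
    have h3 : orderOf z ≤ orderOf y₀ := Nat.le_of_dvd (orderOf_pos y₀) h1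
    exact cmp_of_dvd (mem_zpowers y₀) h (dvd_of_eq (le_antisymm h2 h3))
  · exact h

/-- the generators of `⟨c⟩` -/
def gens (c : G) : Set G := {z | z ∈ zpowers c ∧ orderOf z = orderOf c}

theorem ncard_gens (c : G) : (gens c).ncard = Nat.totient (orderOf c) := by
  classical
  haveI : Fintype ↥(zpowers c) := Fintype.ofFinite _
  have h := IsCyclic.card_orderOf_eq_totient (α := ↥(zpowers c)) (d := orderOf c)
    (by rw [← Nat.card_eq_fintype_card, Nat.card_zpowers])
  rw [← h]
  have hset : gens c = Subtype.val ''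
      ((Finset.univ.filter (fun a : ↥(zpowers c) => orderOf a = orderOf c) : Finset _) :
        Set ↥(zpowers c)) := by
    ext z
    simp only [gens, Set.mem_setOf_eq, Finset.coe_filter, Finset.mem_univ, true_and, Set.mem_image,
      Subtype.exists, exists_and_right, exists_eq_right]
    constructor
    · rintro ⟨hz, ho⟩
      exact ⟨hz, by rw [Subgroup.orderOf_mk]; exact ho⟩
    · rintro ⟨hz, ho⟩
      rw [Subgroup.orderOf_mk] at ho
      exact ⟨hz, ho⟩
  rw [hset, Set.ncard_image_of_injective _ Subtype.val_injective, Set.ncard_coe_finset]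

theorem gens_subset_cls (c : G) : gens c ⊆ cls c := by
  rintro z ⟨hz, ho⟩
  exact E_of_mem_mem hz (cmp_of_dvd (mem_zpowers c) hz (dvd_of_eq ho.symm))

theorem totient_le_ncard_cls (c : G) : Nat.totient (orderOf c) ≤ (cls c).ncard := by
  rw [← ncard_gens]
  exact Set.ncard_le_ncard (gens_subset_cls c) (Set.toFinite _)

theorem mem_zpowers_of_orderOf_eq_two {t z : G} (ht : orderOf t = 2) (hz : z ∈ zpowers t) :
    z = 1 ∨ z = t := by
  classical
  rw [mem_zpowers_iff_mem_range_orderOf, ht] at hz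
  simp only [Finset.mem_image, Finset.mem_range] at hz
  obtain ⟨k, hk, rfl⟩ := hz
  interval_cases k
  · left; simp
  · right; simp

/-- the class of the involution of a cyclic group of order `2n`, `n ≥ 3` odd, is a singleton -/
theorem cls_invol (hS : NoDom G) {y₀ t : G} {n : ℕ} (hn : ¬ 2 ∣ n) (hn3 : 3 ≤ n)
    (hy : orderOf y₀ = 2 * n) (ht : t ∈ zpowers y₀) (ht2 : orderOf t = 2) : cls t = {t} := by
  ext z
  simp only [cls, Set.mem_setOf_eq, Set.mem_singleton_iff]
  constructor
  swap
  · rintro rfl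
    exact E_refl _
  intro hz
  have hz1 : z ≠ 1 := by
    rintro rfl
    have := hS t (dom_of_E_one hz)
    rw [this, orderOf_one] at ht2
    omega
  have key : z ∈ zpowers t → z = t := by
    intro h
    rcases mem_zpowers_of_orderOf_eq_two ht2 h with h1 | h1
    · exact absurd h1 hz1
    · exact h1
  rcases hz.toR with h | h
  · exact key h
  -- t ∈ ⟨z⟩
  have h2k : 2 ∣ orderOf z := ht2 ▸ orderOf_dvd_of_mem_zpowers h
  -- w = y₀ ^ 2 has order n
  have hw_mem : y₀ ^ 2 ∈ zpowers y₀ := pow_mem (mem_zpowers y₀) 2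
  have hw_ord : orderOf (y₀ ^ 2) = n := by
    rw [orderOf_pow_of_dvd (by norm_num) ⟨n, hy⟩, hy]
    simp
  have hnRwt : ¬ R (y₀ ^ 2) t := by
    rintro (h1 | h1)
    · have := orderOf_dvd_of_mem_zpowers h1
      rw [hw_ord, ht2] at this
      have := Nat.le_of_dvd (by norm_num) this
      omega
    · have := orderOf_dvd_of_mem_zpowers h1
      rw [hw_ord, ht2] at this
      exact hn this
  have hnRzw : ¬ R z (y₀ ^ 2) := fun h1 => hnRwt (R_symm ((hz _).mp h1))
  have hRzy : R z y₀ := (hz y₀).mpr (Or.inl ht)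
  have hzy : z ∈ zpowers y₀ := by
    rcases hRzy with h1 | h1
    · exact h1
    · exact absurd (Or.inr (mem_trans hw_mem h1)) hnRzw
  have hk2n : orderOf z ∣ 2 * n := hy ▸ orderOf_dvd_of_mem_zpowers hzy
  have h4 : ¬ 4 ∣ orderOf z := by
    intro h4
    have : 4 ∣ 2 * n := dvd_trans h4 hk2n
    apply hn
    omega
  -- v = z ^ 2
  have hv_ord : orderOf (z ^ 2) = orderOf z / 2 := orderOf_pow_of_dvd (by norm_num) h2k
  have hRtv : R t (z ^ 2) := (hz _).mp (Or.inr (pow_mem (mem_zpowers z) 2))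
  rcases hRtv with h1 | h1
  · exfalso
    have := orderOf_dvd_of_mem_zpowers h1
    rw [ht2, hv_ord] at this
    apply h4
    obtain ⟨j, hj⟩ := h2k
    rw [hj] at this ⊢
    simp at this
    omega
  · have := orderOf_dvd_of_mem_zpowers h1
    rw [ht2, hv_ord] at this
    have hle := Nat.le_of_dvd (by norm_num) this
    obtain ⟨j, hj⟩ := h2k
    rw [hj] at this hle h4
    simp at this hle
    have hj0 : j ≠ 0 := by
      rintro rfl
      have := orderOf_pos z
      omega
    have hj1 : j = 1 := by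
      rcases (by omega : j = 1 ∨ j = 2) with h5 | h5
      · exact h5
      · exfalso
        rw [h5] at h4
        exact h4 (by norm_num)
    subst hj1
    apply key
    apply cmp_of_dvd hzy ht
    rw [hj, ht2]

/-- size comparison for `lt` -/
theorem lt_card (hS : NoDom G) {x y : G} (hx1 : x ≠ 1) (h : lt x y) :
    (cls x).ncard < (cls y).ncard ∨ ((cls x).ncard = (cls y).ncard ∧
      ∃ t, (cls t).ncard < (cls y).ncard ∧ R t y ∧ ¬ R t x) := by
  obtain ⟨x₁, hx₁E, hx₁top⟩ := exists_top x
  obtain ⟨y₀, hy₀E, hy₀bot⟩ := exists_bot y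
  have hlt' : lt x₁ y₀ := lt_congr hS (E_symm hx₁E) (E_symm hy₀E) h
  obtain ⟨hxy, hnE⟩ := hlt'
  have hdvd : orderOf x₁ ∣ orderOf y₀ := orderOf_dvd_of_mem_zpowers hxy
  have hne : orderOf x₁ ≠ orderOf y₀ := by
    intro heq
    exact hnE (E_of_mem_mem hxy (cmp_of_dvd (mem_zpowers y₀) hxy (dvd_of_eq heq.symm)))
  have hclsx : cls x = cls x₁ := (cls_eq_of_E hx₁E).symm
  have hclsy : cls y = cls y₀ := (cls_eq_of_E hy₀E).symm
  have hYge : Nat.totient (orderOf y₀) ≤ (cls y).ncard := hclsy ▸ totient_le_ncard_cls y₀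
  by_cases hcase : ∀ z, E z x → x₁ ∈ zpowers z
  · -- type (a)
    have hsub : cls x ⊆ gens x₁ := by
      intro z hz
      have h1 : z ∈ zpowers x₁ := hx₁top z hz
      have h2 : x₁ ∈ zpowers z := hcase z hz
      exact ⟨h1, Nat.dvd_antisymm (orderOf_dvd_of_mem_zpowers h1) (orderOf_dvd_of_mem_zpowers h2)⟩
    have hXle : (cls x).ncard ≤ Nat.totient (orderOf x₁) := by
      rw [← ncard_gens]
      exact Set.ncard_le_ncard hsub (Set.toFinite _)
    have hphi : Nat.totient (orderOf x₁) ≤ Nat.totient (orderOf y₀) :=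
      Nat.le_of_dvd (Nat.totient_pos.mpr (orderOf_pos y₀)) (Nat.totient_dvd_of_dvd hdvd)
    rcases lt_or_eq_of_le (le_trans hXle (le_trans hphi hYge)) with hlt | heq
    · exact Or.inl hlt
    right
    refine ⟨heq, ?_⟩
    have hphi_eq : Nat.totient (orderOf x₁) = Nat.totient (orderOf y₀) := by omega
    obtain ⟨hodd, h2n⟩ := nt_totient (orderOf_pos y₀) hdvd hne hphi_eq
    set n := orderOf x₁ with hn_def
    have hxo : orderOf x = n := (hsub (mem_cls_self x)).2
    have hn1 : n ≠ 1 := by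
      intro h1
      rw [h1] at hxo
      exact hx1 (orderOf_eq_one_iff.mp hxo)
    have hn0 : 0 < n := orderOf_pos x₁
    have hn3 : 3 ≤ n := by
      by_contra hcon
      push_neg at hcon
      interval_cases n
      · exact hn1 rfl
      · exact hodd (dvd_refl 2)
    have ht_mem : y₀ ^ n ∈ zpowers y₀ := pow_mem (mem_zpowers y₀) n
    have ht_ord : orderOf (y₀ ^ n) = 2 := by
      rw [orderOf_pow_of_dvd hn0.ne' ⟨2, by rw [h2n, mul_comm]⟩, h2n]
      exact Nat.mul_div_cancel 2 hn0
    refine ⟨y₀ ^ n, ?_, ?_, ?_⟩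
    · rw [cls_invol hS hodd hn3 h2n ht_mem ht_ord, Set.ncard_singleton]
      have h2 : Nat.totient n ≠ 1 := by
        intro h1
        rcases Nat.totient_eq_one_iff.mp h1 with h2 | h2 <;> omega
      have h3 : 0 < Nat.totient n := Nat.totient_pos.mpr hn0
      omega
    · exact R_symm ((hy₀E (y₀ ^ n)).mp (Or.inr ht_mem))
    · rintro (h1 | h1)
      · have := orderOf_dvd_of_mem_zpowers h1
        rw [ht_ord, hxo] at this
        exact hodd this
      · have := orderOf_dvd_of_mem_zpowers h1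
        rw [ht_ord, hxo] at this
        have := Nat.le_of_dvd (by norm_num) this
        omega
  · -- type (b)
    left
    push_neg at hcase
    obtain ⟨z, hzE, hzx⟩ := hcase
    have hz_mem : z ∈ zpowers x₁ := hx₁top z hzE
    have hz1 : z ≠ 1 := by
      rintro rfl
      exact hx1 (hS x (dom_of_E_one hzE))
    have hEz : E z x₁ := E_trans hzE (E_symm hx₁E)
    obtain ⟨r, a, hr, ha⟩ := pp_of_E hEz hz_mem hzx hz1
    have hzo : orderOf z ∣ r ^ a := ha ▸ orderOf_dvd_of_mem_zpowers hz_mem
    obtain ⟨c, hca, hc⟩ := (Nat.dvd_prime_pow hr).mp hzo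
    have hca' : c < a := by
      rcases lt_or_eq_of_le hca with h1 | h1
      · exact h1
      · exfalso
        apply hzx
        apply cmp_of_dvd (mem_zpowers x₁) hz_mem
        rw [ha, hc, h1]
    have hzy : z ∈ zpowers y₀ := mem_trans hz_mem hxy
    have huniq : ∀ {s : ℕ}, s.Prime → s ∣ orderOf y₀ → s = r := by
      intro s hs hsd
      by_contra hsr
      have hcop : Nat.Coprime (r ^ c) s :=
        Nat.Coprime.pow_left c ((Nat.coprime_primes hr hs).mpr (Ne.symm hsr))
      have hd1 : r ^ c ∣ orderOf y₀ := hc ▸ orderOf_dvd_of_mem_zpowers hzy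
      have hd : r ^ c * s ∣ orderOf y₀ := Nat.Coprime.mul_dvd_of_dvd_of_dvd hcop hd1 hsd
      obtain ⟨w, hw, hwo⟩ := exists_order hd
      have hzw : z ∈ zpowers w := by
        apply cmp_of_dvd hzy hw
        rw [hc, hwo]
        exact dvd_mul_right _ _
      have hRx₁w : R x₁ w := (hEz w).mp (Or.inl hzw)
      rcases hRx₁w with h1 | h1
      · have := orderOf_dvd_of_mem_zpowers h1
        rw [ha, hwo] at this
        have hcop2 : Nat.Coprime (r ^ a) s :=
          Nat.Coprime.pow_left a ((Nat.coprime_primes hr hs).mpr (Ne.symm hsr))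
        have := hcop2.dvd_of_dvd_mul_right this
        have := (Nat.pow_dvd_pow_iff_le_right hr.one_lt).mp this
        omega
      · have := orderOf_dvd_of_mem_zpowers h1
        rw [ha, hwo] at this
        have h2 : s ∣ r ^ a := dvd_trans (dvd_mul_left _ _) this
        exact hsr ((Nat.prime_dvd_prime_iff_eq hs hr).mp (hs.dvd_of_dvd_pow h2))
    have hn' := Nat.eq_prime_pow_of_unique_prime_dvd (orderOf_pos y₀).ne' huniq
    set a' := (orderOf y₀).primeFactorsList.length with ha'_def
    have haa' : a < a' := by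
      rw [ha, hn'] at hdvd hne
      have h1 := (Nat.pow_dvd_pow_iff_le_right hr.one_lt).mp hdvd
      rcases lt_or_eq_of_le h1 with h2 | h2
      · exact h2
      · exact absurd (by rw [h2]) hne
    have hphi_ge : r ^ a ≤ Nat.totient (orderOf y₀) := by
      rw [hn', Nat.totient_prime_pow hr (by omega : 0 < a')]
      have h1 : r ^ a ≤ r ^ (a' - 1) := Nat.pow_le_pow_right hr.pos (by omega)
      have h2 : 1 ≤ r - 1 := by have := hr.two_le; omega
      calc r ^ a ≤ r ^ (a' - 1) := h1
        _ = r ^ (a' - 1) * 1 := (mul_one _).symm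
        _ ≤ r ^ (a' - 1) * (r - 1) := Nat.mul_le_mul_left _ h2
    have hXlt : (cls x).ncard < r ^ a := by
      have hss : cls x ⊂ (zpowers x₁ : Set G) := by
        refine ⟨fun z hz => hx₁top z hz, ?_⟩
        intro hcon
        have h1 : (1 : G) ∈ cls x := hcon (one_mem _)
        exact hx1 (hS x (dom_of_E_one h1))
      have := Set.ncard_lt_ncard hss (Set.toFinite _)
      have hcard : ((zpowers x₁ : Set G)).ncard = orderOf x₁ := by
        rw [← Nat.card_zpowers x₁]
        exact (_root_.Nat.card_coe_set_eq _).symm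
      rw [hcard, ha] at this
      exact this
    omega

/-- the graph-theoretic criterion for `lt` -/
def crit (x y : G) : Prop :=
  (cls x).ncard < (cls y).ncard ∨ ((cls x).ncard = (cls y).ncard ∧
    ∃ t, (cls t).ncard < (cls y).ncard ∧ R t y ∧ ¬ R t x)

theorem lt_iff_crit (hS : NoDom G) {x y : G} (hx : x ≠ 1) (hy : y ≠ 1) (hR : R x y)
    (hE : ¬ E x y) : lt x y ↔ crit x y := by
  constructor
  · exact lt_card hS hx
  · intro hc
    by_contra hlt
    have hyx : y ∈ zpowers x := by
      rcases hR with h | h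
      · exact absurd ⟨h, hE⟩ hlt
      · exact h
    have hlt2 : lt y x := ⟨hyx, fun h => hE (E_symm h)⟩
    have h2 := lt_card hS hy hlt2
    rcases hc with hc | ⟨hceq, t, ht1, ht2, ht3⟩
    · rcases h2 with h2 | ⟨h2, -⟩ <;> omega
    · have hnEt : ¬ E t y := by
        intro h
        rw [cls_eq_of_E h] at ht1
        exact lt_irrefl _ ht1
      rcases ht2 with h3 | h3
      · exact ht3 (Or.inl (mem_trans h3 hyx))
      · have hlt3 : lt y t := ⟨h3, fun h => hnEt (E_symm h)⟩
        have h4 := lt_card hS hy hlt3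
        rcases h4 with h4 | ⟨h4, -⟩ <;> omega

end Cfsg.Agent.Lib.H26.PowG
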