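import Mathlib
import Cfsg.Agent.Lib.H26.PowGB

set_option autoImplicit false

/-!
Power graph of a finite group: the down-sets `B y`, transport along a graph isomorphism,
and the consequence for elements of order `p * q`.
-/

namespace Cfsg.Agent.Lib.H26.PowG

open Subgroup

section single

variable {G : Type*} [Group G] [Finite G]

/-- the class of `y` together with everything strictly below -/
def B (y : G) : Set G := {z | E z y ∨ lt z y}

theorem B_card (hS : NoDom G) (y : G) : ∃ y₁, y ∈ zpowers y₁ ∧ (B y).ncard = orderOf y₁ := by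
  obtain ⟨y₁, hy₁E, hy₁top⟩ := exists_top y
  refine ⟨y₁, hy₁top y (E_refl y), ?_⟩
  have hset : B y = (zpowers y₁ : Set G) := by
    ext z
    constructor
    · rintro (h | h)
      · exact hy₁top z h
      · exact (lt_congr hS (E_refl z) (E_symm hy₁E) h).1
    · intro hz
      by_cases hE : E z y
      · exact Or.inl hE
      · right
        have : lt z y₁ := ⟨hz, fun h => hE (E_trans h hy₁E)⟩
        exact lt_congr hS (E_refl z) hy₁E this
  rw [hset, ← Nat.card_zpowers y₁]
  exact (_root_.Nat.card_coe_set_eq _)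

theorem lt_one_left (hS : NoDom G) (y : G) : lt 1 y ↔ y ≠ 1 := by
  constructor
  · rintro ⟨-, h⟩ rfl
    exact h (E_refl _)
  · intro hy
    exact ⟨one_mem _, fun h => hy (hS y (dom_of_E_one h))⟩

theorem not_lt_one_right (x : G) : ¬ lt x 1 := by
  rintro ⟨h1, h2⟩
  have := eq_one_of_mem_zpowers_one h1
  subst this
  exact h2 (E_refl _)

/-- a nontrivial dominating vertex has order divisible by every two distinct primes dividing
the group order -/
theorem exists_orderOf_eq_of_dom {p q : ℕ} (hp : p.Prime) (hq : q.Prime) (hpq : p ≠ q)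
    (hpG : p ∣ Nat.card G) (hqG : q ∣ Nat.card G) {y : G} (hy1 : y ≠ 1) (hy : ∀ z, R y z) :
    ∃ g : G, orderOf g = p * q := by
  haveI := Fact.mk hp
  haveI := Fact.mk hq
  obtain ⟨zp, hzp⟩ := exists_prime_orderOf_dvd_card' p hpG
  obtain ⟨zq, hzq⟩ := exists_prime_orderOf_dvd_card' q hqG
  have hyo : orderOf y ≠ 1 := fun h => hy1 (orderOf_eq_one_iff.mp h)
  have key : ∀ {s s' : ℕ} (hs : s.Prime) (hs' : s'.Prime) (hss : s ≠ s') (z z' : G)
      (hz : orderOf z = s) (hz' : orderOf z' = s'), s ∣ orderOf y := by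
    intro s s' hs hs' hss z z' hz hz'
    rcases hy z with h | h
    · -- y ∈ ⟨z⟩ : order of y is s
      have h1 : orderOf y ∣ s := hz ▸ orderOf_dvd_of_mem_zpowers h
      rcases (Nat.dvd_prime hs).mp h1 with h2 | h2
      · exact absurd h2 hyo
      · rw [h2]
    · exact hz ▸ orderOf_dvd_of_mem_zpowers h
  have hpy : p ∣ orderOf y := key hp hq hpq zp zq hzp hzq
  have hqy : q ∣ orderOf y := key hq hp (Ne.symm hpq) zq zp hzq hzp
  have hd : p * q ∣ orderOf y :=
    Nat.Coprime.mul_dvd_of_dvd_of_dvd ((Nat.coprime_primes hp hq).mpr hpq) hpy hqy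
  obtain ⟨w, -, hw⟩ := exists_order hd
  exact ⟨w, hw⟩

end single

section transport

variable {G : Type*} [Group G] [Finite G] {H : Type*} [Group H] [Finite H]
variable (e : G ≃ H) (he : ∀ x y : G, R x y ↔ R (e x) (e y))

include he

theorem E_iff (x y : G) : E x y ↔ E (e x) (e y) := by
  constructor
  · intro h w
    obtain ⟨z, rfl⟩ := e.surjective w
    rw [← he, ← he]
    exact h z
  · intro h z
    rw [he, he y z]
    exact h (e z)

theorem cls_image (x : G) : e '' cls x = cls (e x) := by
  ext w
  obtain ⟨z, rfl⟩ := e.surjective w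
  constructor
  · rintro ⟨z', hz', hzz'⟩
    have := e.injective hzz'
    subst this
    exact (E_iff e he _ _).mp hz'
  · intro hz
    exact ⟨z, (E_iff e he _ _).mpr hz, rfl⟩

theorem ncard_cls (x : G) : (cls (e x)).ncard = (cls x).ncard := by
  rw [← cls_image e he, Set.ncard_image_of_injective _ e.injective]

theorem crit_iff (x y : G) : crit x y ↔ crit (e x) (e y) := by
  unfold crit
  rw [ncard_cls e he, ncard_cls e he]
  constructor
  · rintro (h | ⟨h1, t, ht1, ht2, ht3⟩)
    · exact Or.inl h
    · refine Or.inr ⟨h1, e t, ?_, (he _ _).mp ht2, fun h => ht3 ((he _ _).mpr h)⟩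
      rw [ncard_cls e he]
      exact ht1
  · rintro (h | ⟨h1, t', ht1, ht2, ht3⟩)
    · exact Or.inl h
    · obtain ⟨t, rfl⟩ := e.surjective t'
      refine Or.inr ⟨h1, t, ?_, (he _ _).mpr ht2, fun h => ht3 ((he _ _).mp h)⟩
      rw [ncard_cls e he] at ht1
      exact ht1

theorem lt_iff (hSG : NoDom G) (hSH : NoDom H) (he1 : e 1 = 1) (x y : G) :
    lt x y ↔ lt (e x) (e y) := by
  have hne : ∀ z : G, z ≠ 1 ↔ e z ≠ 1 := by
    intro z
    constructor
    · intro hz h
      apply hz
      apply e.injective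
      rw [h, he1]
    · rintro hz rfl
      exact hz he1
  by_cases hx : x = 1
  · subst hx
    rw [he1, lt_one_left hSG, lt_one_left hSH]
    exact hne y
  by_cases hy : y = 1
  · subst hy
    rw [he1]
    exact ⟨fun h => absurd h (not_lt_one_right x), fun h => absurd h (not_lt_one_right _)⟩
  by_cases hR : R x y
  swap
  · constructor
    · intro h
      exact absurd (Or.inl h.1) hR
    · intro h
      exact absurd ((he _ _).mpr (Or.inl h.1)) hR
  by_cases hE : E x y
  · constructor
    · intro h
      exact absurd hE h.2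
    · intro h
      exact absurd ((E_iff e he _ _).mp hE) h.2
  rw [lt_iff_crit hSG hx hy hR hE,
    lt_iff_crit hSH ((hne x).mp hx) ((hne y).mp hy) ((he _ _).mp hR)
      (fun h => hE ((E_iff e he _ _).mpr h))]
  exact crit_iff e he x y

theorem B_image (hSG : NoDom G) (hSH : NoDom H) (he1 : e 1 = 1) (y : G) :
    e '' B y = B (e y) := by
  ext w
  obtain ⟨z, rfl⟩ := e.surjective w
  constructor
  · rintro ⟨z', hz', hzz'⟩
    have := e.injective hzz'
    subst this
    rcases hz' with h | h
    · exact Or.inl ((E_iff e he _ _).mp h)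
    · exact Or.inr ((lt_iff e he hSG hSH he1 _ _).mp h)
  · rintro (h | h)
    · exact ⟨z, Or.inl ((E_iff e he _ _).mpr h), rfl⟩
    · exact ⟨z, Or.inr ((lt_iff e he hSG hSH he1 _ _).mpr h), rfl⟩

theorem ncard_B (hSG : NoDom G) (hSH : NoDom H) (he1 : e 1 = 1) (y : G) :
    (B (e y)).ncard = (B y).ncard := by
  rw [← B_image e he hSG hSH he1, Set.ncard_image_of_injective _ e.injective]

/-- one direction of the main theorem -/
theorem exists_orderOf_of_iso {p q : ℕ} (hp : p.Prime) (hq : q.Prime) (hpq : p ≠ q)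
    (hG : ∃ g : G, orderOf g = p * q) : ∃ h : H, orderOf h = p * q := by
  obtain ⟨g, hg⟩ := hG
  have hcard : Nat.card G = Nat.card H := Nat.card_congr e
  have hpqG : p * q ∣ Nat.card H := by
    rw [← hcard, ← hg]
    exact orderOf_dvd_natCard g
  have hpH : p ∣ Nat.card H := dvd_trans (dvd_mul_right p q) hpqG
  have hqH : q ∣ Nat.card H := dvd_trans (dvd_mul_left q p) hpqG
  by_cases hSH : NoDom H
  · -- then also `NoDom G` and `e 1 = 1`
    have hdomG : ∀ y : G, (∀ z, R y z) ↔ (∀ w, R (e y) w) := by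
      intro y
      constructor
      · intro h w
        obtain ⟨z, rfl⟩ := e.surjective w
        exact (he _ _).mp (h z)
      · intro h z
        exact (he _ _).mpr (h (e z))
    have he1 : e 1 = 1 := hSH _ ((hdomG 1).mp R_one)
    have hSG : NoDom G := by
      intro y hy
      have := hSH _ ((hdomG y).mp hy)
      apply e.injective
      rw [this, he1]
    obtain ⟨g₁, hgg₁, hB⟩ := B_card hSG g
    obtain ⟨h₁, -, hB'⟩ := B_card hSH (e g)
    rw [ncard_B e he hSG hSH he1, hB] at hB'
    have hd : p * q ∣ orderOf h₁ := by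
      rw [← hB', ← hg]
      exact orderOf_dvd_of_mem_zpowers hgg₁
    obtain ⟨w, -, hw⟩ := exists_order hd
    exact ⟨w, hw⟩
  · unfold NoDom at hSH
    push_neg at hSH
    obtain ⟨y, hy, hy1⟩ := hSH
    exact exists_orderOf_eq_of_dom hp hq hpq hpH hqH hy1 hy

end transport

end Cfsg.Agent.Lib.H26.PowG
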