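import Mathlib
import Cfsg.Prelude.Def_PLocal
import Cfsg.Prelude.Def_LocalEven
import Cfsg.Agent.Lib.H26.Involves
import Cfsg.Agent.Lib.H26.FactorLocal
import Cfsg.Agent.Lib.H1.QdGroup
import Cfsg.Agent.Lib.H1.PCore
import Cfsg.Agent.S0274

set_option autoImplicit false

/-!
Failure of `p`-stability on a section of a `p`-subgroup (helper26).

`GBad p R`: there are `R₀ ⊴ R`, a subgroup `X` normalizing `R` and `R₀`, and `a ∈ X` acting
quadratically on `R/R₀` whose image in `X/C_X(R/R₀)` does not lie in `O_p`.  By Glauberman's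
Theorem Q (helper1, `isPStableOn_of_not_involves_qd`) a finite group with such data for a
`p`-subgroup `R` involves `Qd(p)` (`p` odd).
-/

namespace Cfsg.Agent.Lib.H26.QdBad

open Cfsg Cfsg.Agent.Lib.H26
open scoped commutatorElement

universe u

/-- group-level failure of `p`-stability on a section of `R` -/
def GBad (p : ℕ) {G : Type*} [Group G] (R : Subgroup G) : Prop :=
  ∃ (R₀ X : Subgroup G) (a : G), R₀ ≤ R ∧ X ≤ Subgroup.normalizer (R : Set G) ∧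
    X ≤ Subgroup.normalizer (R₀ : Set G) ∧ R ≤ Subgroup.normalizer (R₀ : Set G) ∧ a ∈ X ∧
    (∀ i j : ℤ, ∀ r ∈ R, ⁅a ^ i, ⁅a ^ j, r⁆⁆ ∈ R₀) ∧
    ∀ D : Subgroup G, D ≤ X → (∀ x ∈ X, ∀ d ∈ D, x * d * x⁻¹ ∈ D) →
      (∀ d ∈ D, ∃ k : ℕ, ∀ r ∈ R, ⁅d ^ (p ^ k), r⁆ ∈ R₀) → a ∉ D

theorem conj_mem_of_mem_normalizer {G : Type*} [Group G] {H : Subgroup G} {g x : G}
    (hg : g ∈ Subgroup.normalizer (H : Set G)) (hx : x ∈ H) : g * x * g⁻¹ ∈ H :=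
  (Subgroup.mem_normalizer_iff.1 hg x).1 hx

/-- **No failure of `p`-stability in a `Qd(p)`-free group** (`p` odd). -/
theorem not_gBad {Y : Type u} [Group Y] [Finite Y] {p : ℕ} [Fact p.Prime] (hp2 : p ≠ 2)
    (hfree : ¬ Involves ↥(qd p) Y) {R : Subgroup Y} (hR : IsPGroup p R) : ¬ GBad p R := by
  rintro ⟨R₀, X, a, hR₀R, hXR, hXR₀, hRR₀, haX, hquad, hD⟩
  obtain ⟨K, hKdef⟩ : ∃ K : Subgroup Y, K = X ⊔ R := ⟨_, rfl⟩
  have hKR : K ≤ Subgroup.normalizer (R : Set Y) := hKdef ▸ sup_le hXR Subgroup.le_normalizer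
  have hKR₀ : K ≤ Subgroup.normalizer (R₀ : Set Y) := hKdef ▸ sup_le hXR₀ hRR₀
  have hRK : R ≤ K := hKdef ▸ le_sup_right
  have hXK : X ≤ K := hKdef ▸ le_sup_left
  have hKfree : ¬ Involves ↥(qd p) ↥K := fun h =>
    hfree (involves_of_injective K.subtype K.subtype_injective h)
  haveI hBn : (R.subgroupOf K).Normal := Subgroup.normal_subgroupOf_of_le_normalizer hKR
  haveI hNn : (R₀.subgroupOf K).Normal := Subgroup.normal_subgroupOf_of_le_normalizer hKR₀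
  have hΓfree : ¬ Involves ↥(qd p) (↥K ⧸ R₀.subgroupOf K) := fun h =>
    hKfree (Model.involves_of_surjective (QuotientGroup.mk' (R₀.subgroupOf K))
      (QuotientGroup.mk'_surjective _) h)
  obtain ⟨V, hVdef⟩ : ∃ V : Subgroup (↥K ⧸ R₀.subgroupOf K),
    V = (R.subgroupOf K).map (QuotientGroup.mk' (R₀.subgroupOf K)) := ⟨_, rfl⟩
  haveI hVn : V.Normal := hVdef ▸ hBn.map _ (QuotientGroup.mk'_surjective _)
  have hVp : IsPGroup p V := by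
    rw [hVdef]
    have h1 : IsPGroup p (R.subgroupOf K) := hR.comap_subtype
    exact h1.map _
  have hst := Cfsg.Agent.Lib.H1.QdGroup.isPStableOn_of_not_involves_qd hp2
    (Cfsg.Agent.S0274.dicksonHyp hp2) hΓfree V hVp
  have haK : a ∈ K := hXK haX
  -- quadratic action in the quotient
  have hcomm : ∀ (i j : ℤ) (r : ↥K), (r : Y) ∈ R →
      Commute ((QuotientGroup.mk' (R₀.subgroupOf K) ⟨a, haK⟩) ^ i)
        (QuotientGroup.mk' (R₀.subgroupOf K) ⁅(⟨a, haK⟩ : ↥K) ^ j, r⁆) := by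
    intro i j r hr
    have h1 : ⁅(⟨a, haK⟩ : ↥K) ^ i, ⁅(⟨a, haK⟩ : ↥K) ^ j, r⁆⁆ ∈ R₀.subgroupOf K := by
      rw [Subgroup.mem_subgroupOf]
      have := hquad i j r hr
      have e : ((⁅(⟨a, haK⟩ : ↥K) ^ i, ⁅(⟨a, haK⟩ : ↥K) ^ j, r⁆⁆ : ↥K) : Y) =
          ⁅a ^ i, ⁅a ^ j, (r : Y)⁆⁆ := by
        rfl
      rw [e]
      exact this
    have h2 := (QuotientGroup.eq_one_iff (N := R₀.subgroupOf K) _).2 h1
    rw [← QuotientGroup.mk'_apply, map_commutatorElement, map_zpow] at h2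
    exact commutatorElement_eq_one_iff_commute.1 h2
  have hq : ⁅⁅V, Subgroup.zpowers (QuotientGroup.mk' (R₀.subgroupOf K) ⟨a, haK⟩)⁆,
      Subgroup.zpowers (QuotientGroup.mk' (R₀.subgroupOf K) ⟨a, haK⟩)⁆ = ⊥ := by
    have h1 : ⁅V, Subgroup.zpowers (QuotientGroup.mk' (R₀.subgroupOf K) ⟨a, haK⟩)⁆ ≤
        Subgroup.centralizer
          ((Subgroup.zpowers (QuotientGroup.mk' (R₀.subgroupOf K) ⟨a, haK⟩) :
            Subgroup (↥K ⧸ R₀.subgroupOf K)) : Set (↥K ⧸ R₀.subgroupOf K)) := by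
      rw [Subgroup.commutator_le]
      intro v hv z hz
      rw [hVdef] at hv
      obtain ⟨r, hr, rfl⟩ := hv
      obtain ⟨j, rfl⟩ := Subgroup.mem_zpowers_iff.1 hz
      rw [Subgroup.mem_centralizer_iff]
      intro z' hz'
      obtain ⟨i, rfl⟩ := Subgroup.mem_zpowers_iff.1 hz'
      have h2 := hcomm i j r hr
      rw [map_commutatorElement, map_zpow] at h2
      have h3 : ⁅(QuotientGroup.mk' (R₀.subgroupOf K)) r,
          (QuotientGroup.mk' (R₀.subgroupOf K) ⟨a, haK⟩) ^ j⁆ =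
          (⁅(QuotientGroup.mk' (R₀.subgroupOf K) ⟨a, haK⟩) ^ j,
            (QuotientGroup.mk' (R₀.subgroupOf K)) r⁆)⁻¹ := (commutatorElement_inv _ _).symm
      rw [h3]
      exact (h2.inv_right).eq
    rw [eq_bot_iff, Subgroup.commutator_le]
    intro u hu z hz
    rw [Subgroup.mem_bot, commutatorElement_eq_one_iff_commute]
    exact ((Subgroup.mem_centralizer_iff.1 (h1 hu)) z hz).symm
  have hmem := hst _ hq
  -- the subgroup `D`
  obtain ⟨C, hCdef⟩ : ∃ C : Subgroup (↥K ⧸ R₀.subgroupOf K),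
    C = Subgroup.centralizer (V : Set (↥K ⧸ R₀.subgroupOf K)) := ⟨_, rfl⟩
  haveI hCn : C.Normal := by rw [hCdef]; infer_instance
  have hmem' : (QuotientGroup.mk' C) (QuotientGroup.mk' (R₀.subgroupOf K) ⟨a, haK⟩) ∈
      pCore p ((↥K ⧸ R₀.subgroupOf K) ⧸ C) := by
    subst hCdef
    exact hmem
  obtain ⟨D₀, hD₀def⟩ : ∃ D₀ : Subgroup ↥K, D₀ = ((pCore p ((↥K ⧸ R₀.subgroupOf K) ⧸ C)).comap
      (QuotientGroup.mk' C)).comap (QuotientGroup.mk' (R₀.subgroupOf K)) := ⟨_, rfl⟩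
  have hD₀n : D₀.Normal := by
    rw [hD₀def]
    exact ((Cfsg.Agent.Lib.H1.pCore_normal p _).comap _).comap _
  have haD₀ : (⟨a, haK⟩ : ↥K) ∈ D₀ := by
    rw [hD₀def]
    exact hmem'
  refine hD (D₀.map K.subtype ⊓ X) inf_le_right ?_ ?_ ⟨⟨⟨a, haK⟩, haD₀, rfl⟩, haX⟩
  · rintro x hx d ⟨⟨d₀, hd₀, rfl⟩, hdX⟩
    refine ⟨⟨(⟨x, hXK hx⟩ : ↥K) * d₀ * (⟨x, hXK hx⟩ : ↥K)⁻¹, hD₀n.conj_mem d₀ hd₀ _, rfl⟩, ?_⟩
    exact X.mul_mem (X.mul_mem hx hdX) (X.inv_mem hx)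
  · rintro d ⟨⟨d₀, hd₀, rfl⟩, -⟩
    rw [hD₀def] at hd₀
    have hd₀' : (QuotientGroup.mk' C) (QuotientGroup.mk' (R₀.subgroupOf K) d₀) ∈
        pCore p ((↥K ⧸ R₀.subgroupOf K) ⧸ C) := hd₀
    obtain ⟨k, hk⟩ := (Cfsg.Agent.Lib.H1.pCore_isPGroup p ((↥K ⧸ R₀.subgroupOf K) ⧸ C)) ⟨_, hd₀'⟩
    have hk' : ((QuotientGroup.mk' C) (QuotientGroup.mk' (R₀.subgroupOf K) d₀)) ^ (p ^ k) = 1 := by
      have := congrArg Subtype.val hk
      simpa using this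
    rw [← map_pow, ← map_pow] at hk'
    have hk'' : (QuotientGroup.mk' (R₀.subgroupOf K)) (d₀ ^ p ^ k) ∈ C :=
      (QuotientGroup.eq_one_iff _).1 hk'
    refine ⟨k, fun r hr => ?_⟩
    rw [hCdef, Subgroup.mem_centralizer_iff] at hk''
    have hrV : (QuotientGroup.mk' (R₀.subgroupOf K)) (⟨r, hRK hr⟩ : ↥K) ∈ V := by
      rw [hVdef]
      exact ⟨⟨r, hRK hr⟩, hr, rfl⟩
    have h1 := hk'' _ hrV
    have h2 : ⁅(QuotientGroup.mk' (R₀.subgroupOf K)) (d₀ ^ p ^ k),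
        (QuotientGroup.mk' (R₀.subgroupOf K)) (⟨r, hRK hr⟩ : ↥K)⁆ = 1 :=
      commutatorElement_eq_one_iff_commute.2 h1.symm
    rw [← map_commutatorElement] at h2
    have h3 := (QuotientGroup.eq_one_iff (N := R₀.subgroupOf K) _).1 h2
    rw [Subgroup.mem_subgroupOf] at h3
    have e : ((⁅d₀ ^ p ^ k, (⟨r, hRK hr⟩ : ↥K)⁆ : ↥K) : Y) = ⁅(d₀ : Y) ^ p ^ k, r⁆ := by
      rfl
    rw [e] at h3
    exact h3

end Cfsg.Agent.Lib.H26.QdBad
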