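import Mathlib
import Cfsg.Agent.Lib.H26.QdBad
import Cfsg.Agent.Lib.H26.ModelFusion

set_option autoImplicit false

/-!
Failure of `p`-stability on a section, in terms of a group of automorphisms (helper26).

`QuadFail p A` for `A ≤ Aut(R)`: there are an `A`-invariant normal subgroup `R₀` of `R` and
`a ∈ A` acting quadratically on `R/R₀` whose image in `A/C_A(R/R₀)` is not in `O_p`.
If `R` embeds in a group `Y` (`e : R →* Y`) and `Θ : N_Y(e R) → Aut(R)` is the conjugation action,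
then `GBad p (e R)` and `QuadFail` for subgroups of the image of `Θ` correspond.
-/

namespace Cfsg.Agent.Lib.H26.QdBad

open Cfsg Cfsg.Agent.Lib.H26 Cfsg.Agent.Lib.H26.Model
open scoped commutatorElement

universe u v

/-- image of failure data under an isomorphism -/
theorem GBad.map {p : ℕ} {G : Type u} {G' : Type v} [Group G] [Group G'] (σ : G ≃* G')
    {R : Subgroup G} (h : GBad p R) : GBad p (R.map σ.toMonoidHom) := by
  obtain ⟨R₀, X, a, hR₀R, hXR, hXR₀, hRR₀, haX, hquad, hD⟩ := h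
  have hinj : Function.Injective σ.toMonoidHom := σ.injective
  refine ⟨R₀.map σ.toMonoidHom, X.map σ.toMonoidHom, σ a, Subgroup.map_mono hR₀R,
    (Subgroup.map_mono hXR).trans (Subgroup.le_normalizer_map _),
    (Subgroup.map_mono hXR₀).trans (Subgroup.le_normalizer_map _),
    (Subgroup.map_mono hRR₀).trans (Subgroup.le_normalizer_map _), ⟨a, haX, rfl⟩, ?_, ?_⟩
  · rintro i j _ ⟨r, hr, rfl⟩
    refine ⟨⁅a ^ i, ⁅a ^ j, r⁆⁆, hquad i j r hr, ?_⟩
    show σ.toMonoidHom _ = ⁅σ.toMonoidHom a ^ i, ⁅σ.toMonoidHom a ^ j, σ.toMonoidHom r⁆⁆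
    rw [map_commutatorElement, map_commutatorElement, map_zpow, map_zpow]
  · intro D hDX hDn hDp haD
    refine hD (D.comap σ.toMonoidHom) ?_ ?_ ?_ haD
    · intro x hx
      obtain ⟨x', hx', hxx'⟩ := hDX hx
      rwa [← hinj hxx']
    · intro x hx d hd
      rw [Subgroup.mem_comap, map_mul, map_mul, map_inv]
      exact hDn _ ⟨x, hx, rfl⟩ _ hd
    · intro d hd
      obtain ⟨k, hk⟩ := hDp _ hd
      refine ⟨k, fun r hr => ?_⟩
      obtain ⟨y, hy, hyeq⟩ := hk _ ⟨r, hr, rfl⟩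
      have : σ.toMonoidHom y = σ.toMonoidHom ⁅d ^ p ^ k, r⁆ := by
        rw [hyeq, map_commutatorElement, map_pow]
      rwa [← hinj this]

section aut

variable {Y : Type u} [Group Y]

/-- conjugation action of the normalizer of `Q` on `Q` -/
def conjAutHom (Q : Subgroup Y) : ↥(Subgroup.normalizer (Q : Set Y)) →* MulAut Q where
  toFun n := conjAut Q n n.2
  map_one' := by
    ext x
    show (1 : Y) * x * (1 : Y)⁻¹ = x
    group
  map_mul' m n := by
    ext x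
    show ((m : Y) * n) * x * ((m : Y) * n)⁻¹ = m * (n * x * (n : Y)⁻¹) * (m : Y)⁻¹
    group

theorem conjAutHom_coe (Q : Subgroup Y) (n : ↥(Subgroup.normalizer (Q : Set Y))) (x : Q) :
    ((conjAutHom Q n x : Q) : Y) = n * x * (n : Y)⁻¹ := rfl

variable {R : Type v} [Group R]

/-- the action of `N_Y(e R)` on `R` -/
noncomputable def thetaHom (e : R →* Y) (he : Function.Injective e) :
    ↥(Subgroup.normalizer ((e.range : Subgroup Y) : Set Y)) →* MulAut R :=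
  (MulAut.congr (MonoidHom.ofInjective he).symm).toMonoidHom.comp (conjAutHom e.range)

theorem thetaHom_spec (e : R →* Y) (he : Function.Injective e)
    (n : ↥(Subgroup.normalizer ((e.range : Subgroup Y) : Set Y))) (r : R) :
    e (thetaHom e he n r) = n * e r * (n : Y)⁻¹ := by
  have h1 : thetaHom e he n r = (MonoidHom.ofInjective he).symm
      (conjAutHom e.range n (MonoidHom.ofInjective he r)) := rfl
  rw [h1, ← MonoidHom.ofInjective_apply he, MulEquiv.apply_symm_apply, conjAutHom_coe,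
    MonoidHom.ofInjective_apply]

/-- `cm α r = α(r) r⁻¹`, the commutator of an automorphism with an element -/
def cm (α : MulAut R) (r : R) : R := α r * r⁻¹

theorem e_cm (e : R →* Y) (he : Function.Injective e)
    (n : ↥(Subgroup.normalizer ((e.range : Subgroup Y) : Set Y))) (r : R) :
    e (cm (thetaHom e he n) r) = ⁅(n : Y), e r⁆ := by
  unfold cm
  rw [map_mul, map_inv, thetaHom_spec, commutatorElement_def]

/-- failure of `p`-stability for a group `A` of automorphisms of `R` -/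
def QuadFail (p : ℕ) (A : Subgroup (MulAut R)) : Prop :=
  ∃ (R₀ : Subgroup R) (a : MulAut R), R₀.Normal ∧ (∀ b ∈ A, ∀ r ∈ R₀, b r ∈ R₀) ∧ a ∈ A ∧
    (∀ i j : ℤ, ∀ r : R, cm (a ^ i) (cm (a ^ j) r) ∈ R₀) ∧
    ∀ D : Subgroup (MulAut R), D ≤ A → (∀ b ∈ A, ∀ d ∈ D, b * d * b⁻¹ ∈ D) →
      (∀ d ∈ D, ∃ k : ℕ, ∀ r : R, cm (d ^ (p ^ k)) r ∈ R₀) → a ∉ D

theorem QuadFail.mono {p : ℕ} {A B : Subgroup (MulAut R)} (hAB : A = B) (h : QuadFail p A) :
    QuadFail p B := hAB ▸ h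

/-- **From group data to automorphism data.** -/
theorem quadFail_of_gBad {p : ℕ} (e : R →* Y) (he : Function.Injective e)
    (h : GBad p (e.range : Subgroup Y)) :
    ∃ A : Subgroup (MulAut R), A ≤ (thetaHom e he).range ∧ QuadFail p A := by
  obtain ⟨R₀, X, a, hR₀R, hXR, hXR₀, hRR₀, haX, hquad, hD⟩ := h
  set N := Subgroup.normalizer ((e.range : Subgroup Y) : Set Y) with hN
  set Θ := thetaHom e he with hΘ
  have hΘz : ∀ (n : ↥N) (i : ℤ), Θ n ^ i = Θ (n ^ i) := fun n i => (map_zpow Θ n i).symm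
  have hΘp : ∀ (n : ↥N) (k : ℕ), Θ n ^ k = Θ (n ^ k) := fun n k => (map_pow Θ n k).symm
  refine ⟨(X.subgroupOf N).map Θ, ?_, R₀.comap e, Θ ⟨a, hXR haX⟩, ?_, ?_, ?_, ?_, ?_⟩
  · rintro _ ⟨n, -, rfl⟩
    exact ⟨n, rfl⟩
  · -- normal
    constructor
    intro r hr s
    rw [Subgroup.mem_comap] at hr ⊢
    rw [map_mul, map_mul, map_inv]
    exact conj_mem_of_mem_normalizer (hRR₀ ⟨s, rfl⟩) hr
  · rintro _ ⟨n, hn, rfl⟩ r hr
    rw [Subgroup.mem_comap] at hr ⊢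
    rw [thetaHom_spec]
    exact conj_mem_of_mem_normalizer (hXR₀ hn) hr
  · exact ⟨⟨a, hXR haX⟩, haX, rfl⟩
  · intro i j r
    rw [Subgroup.mem_comap, hΘz, hΘz, e_cm, e_cm]
    exact hquad i j _ ⟨r, rfl⟩
  · intro D hDA hDn hDp haD
    -- the subgroup of `X` acting through `D`
    refine hD (((D.comap Θ).map N.subtype) ⊓ X) inf_le_right ?_ ?_
      ⟨⟨⟨a, hXR haX⟩, haD, rfl⟩, haX⟩
    · rintro x hx _ ⟨⟨d, hd, rfl⟩, hdX⟩
      refine ⟨⟨⟨x, hXR hx⟩ * d * ⟨x, hXR hx⟩⁻¹, ?_, rfl⟩, ?_⟩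
      · show Θ (⟨x, hXR hx⟩ * d * ⟨x, hXR hx⟩⁻¹) ∈ D
        rw [map_mul, map_mul, map_inv]
        exact hDn _ ⟨⟨x, hXR hx⟩, hx, rfl⟩ _ hd
      · exact X.mul_mem (X.mul_mem hx hdX) (X.inv_mem hx)
    · rintro _ ⟨⟨d, hd, rfl⟩, -⟩
      obtain ⟨k, hk⟩ := hDp _ hd
      refine ⟨k, ?_⟩
      rintro _ ⟨r, rfl⟩
      have h1 := hk r
      rw [hΘp, Subgroup.mem_comap, e_cm] at h1
      exact h1

/-- **From automorphism data to group data.** -/
theorem gBad_of_quadFail {p : ℕ} (e : R →* Y) (he : Function.Injective e)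
    {A : Subgroup (MulAut R)} (hA : A ≤ (thetaHom e he).range) (h : QuadFail p A) :
    GBad p (e.range : Subgroup Y) := by
  obtain ⟨R₀, a, hR₀n, hinv, haA, hquad, hD⟩ := h
  set N := Subgroup.normalizer ((e.range : Subgroup Y) : Set Y) with hN
  set Θ := thetaHom e he with hΘ
  have hΘz : ∀ (n : ↥N) (i : ℤ), Θ n ^ i = Θ (n ^ i) := fun n i => (map_zpow Θ n i).symm
  have hΘp : ∀ (n : ↥N) (k : ℕ), Θ n ^ k = Θ (n ^ k) := fun n k => (map_pow Θ n k).symm
  obtain ⟨aY, haY⟩ := hA haA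
  have hconj : ∀ (n : ↥N), Θ n ∈ A → ∀ y ∈ R₀.map e, (n : Y) * y * (n : Y)⁻¹ ∈ R₀.map e := by
    rintro n hn _ ⟨r, hr, rfl⟩
    exact ⟨Θ n r, hinv _ hn r hr, thetaHom_spec e he n r⟩
  refine ⟨R₀.map e, (A.comap Θ).map N.subtype, (aY : Y), ?_, ?_, ?_, ?_, ?_, ?_, ?_⟩
  · rintro _ ⟨r, -, rfl⟩
    exact ⟨r, rfl⟩
  · rintro _ ⟨n, -, rfl⟩
    exact n.2
  · rintro _ ⟨n, hn, rfl⟩
    apply mem_normalizer_of_conj_mem (hconj n hn)
    have hn' : Θ n⁻¹ ∈ A := by rw [map_inv]; exact A.inv_mem hn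
    intro y hy
    have := hconj n⁻¹ hn' y hy
    simpa using this
  · rintro _ ⟨s, rfl⟩
    have key : ∀ s : R, ∀ y ∈ R₀.map e, e s * y * (e s)⁻¹ ∈ R₀.map e := by
      rintro s _ ⟨r, hr, rfl⟩
      exact ⟨s * r * s⁻¹, hR₀n.conj_mem r hr s, by rw [map_mul, map_mul, map_inv]⟩
    apply mem_normalizer_of_conj_mem (key s)
    intro y hy
    have := key s⁻¹ y hy
    simpa using this
  · exact ⟨aY, by show Θ aY ∈ A; rw [haY]; exact haA, rfl⟩
  · rintro i j _ ⟨r, rfl⟩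
    have h1 := hquad i j r
    rw [← haY, hΘz, hΘz] at h1
    refine ⟨_, h1, ?_⟩
    rw [e_cm, e_cm]
    rfl
  · intro D hDX hDn hDp haD
    refine hD ((D.subgroupOf N).map Θ) ?_ ?_ ?_ ⟨aY, haD, haY⟩
    · rintro _ ⟨n, hn, rfl⟩
      obtain ⟨n', hn', hnn'⟩ := hDX hn
      have : n' = n := Subtype.ext hnn'
      rw [← this]
      exact hn'
    · rintro b hb _ ⟨d, hd, rfl⟩
      obtain ⟨n, rfl⟩ := hA hb
      refine ⟨n * d * n⁻¹, ?_, by rw [map_mul, map_mul, map_inv]⟩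
      exact hDn _ ⟨n, hb, rfl⟩ _ hd
    · rintro _ ⟨d, hd, rfl⟩
      obtain ⟨k, hk⟩ := hDp _ hd
      refine ⟨k, fun r => ?_⟩
      obtain ⟨r', hr', hr'eq⟩ := hk _ ⟨r, rfl⟩
      rw [hΘp]
      have h2 : e (cm (Θ (d ^ p ^ k)) r) = e r' := by
        rw [e_cm, hr'eq]
        rfl
      rw [he h2]
      exact hr'

end aut

end Cfsg.Agent.Lib.H26.QdBad
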