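import Mathlib
import Cfsg.Agent.Lib.H26.QdBad
import Cfsg.Agent.Lib.H1.QdStable
import Cfsg.Agent.Lib.H1.QdFusion

set_option autoImplicit false

/-!
A group involving `Qd(p)` (`p` odd) has a `p`-subgroup `R` with failure data `GBad p R`
(helper26): lift the translation subgroup `V` of `Qd(p)` to a Sylow `p`-subgroup `R` of its
preimage; by the Frattini argument `N(R)` still maps onto `Qd(p)`, a lift of a transvection acts
quadratically on `R/(R ∩ ker)`, and its normal closure covers `SL₂(p)`, which contains `-1`.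
-/

namespace Cfsg.Agent.Lib.H26.QdBad

open Cfsg Cfsg.Agent.Lib.H26 Cfsg.Agent.Lib.H1.QdSec Cfsg.Agent.Lib.H1.QdStable
  Cfsg.Agent.Lib.H1.QdFusion
open scoped commutatorElement

universe u v

/-- **Frattini lift of a normal `p`-subgroup along a surjection.** -/
theorem exists_frattini_lift {H : Type u} [Group H] [Finite H] {Q : Type v} [Group Q]
    {p : ℕ} [Fact p.Prime] (f : H →* Q) (hf : Function.Surjective f) (V : Subgroup Q) [V.Normal]
    (hV : IsPGroup p V) :
    ∃ R : Subgroup H, IsPGroup p R ∧ R.map f = V ∧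
      (Subgroup.normalizer (R : Set H)).map f = ⊤ := by
  haveI hVn : (V.comap f).Normal := inferInstance
  obtain ⟨Pv⟩ : Nonempty (Sylow p ↥(V.comap f)) := inferInstance
  -- the restriction `V̂ → V`
  have hf' : Function.Surjective (f.subgroupComap V) := f.subgroupComap_surjective_of_surjective V hf
  have hP₁ : (Pv : Subgroup ↥(V.comap f)).map (f.subgroupComap V) = ⊤ := by
    have h1 : ((Pv.mapSurjective hf' : Sylow p ↥V) : Subgroup ↥V) =
        (Pv : Subgroup ↥(V.comap f)).map (f.subgroupComap V) := Sylow.coe_mapSurjective hf' Pv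
    have h2 := (Pv.mapSurjective hf').is_maximal' (Q := ⊤)
      (fun x => by
        obtain ⟨k, hk⟩ := hV x.1
        exact ⟨k, Subtype.ext hk⟩) le_top
    rw [← h1]; exact h2.symm
  refine ⟨(Pv : Subgroup ↥(V.comap f)).map (V.comap f).subtype, Pv.2.map _, ?_, ?_⟩
  · ext y
    constructor
    · rintro ⟨x, ⟨x', hx', rfl⟩, rfl⟩
      exact x'.2
    · intro hy
      have h1 : (⟨y, hy⟩ : ↥V) ∈ (Pv : Subgroup ↥(V.comap f)).map (f.subgroupComap V) := by
        rw [hP₁]; exact Subgroup.mem_top _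
      obtain ⟨x', hx', hx'y⟩ := h1
      refine ⟨x', ⟨x', hx', rfl⟩, ?_⟩
      exact congrArg Subtype.val hx'y
  · have hfr := Sylow.normalizer_sup_eq_top Pv
    have h1 := congrArg (Subgroup.map f) hfr
    rw [Subgroup.map_sup, ← MonoidHom.range_eq_map, MonoidHom.range_eq_top.mpr hf] at h1
    have h2 : (V.comap f).map f ≤
        (Subgroup.normalizer
          (((Pv : Subgroup ↥(V.comap f)).map (V.comap f).subtype : Subgroup H) : Set H)).map f := by
      rintro _ ⟨x, hx, rfl⟩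
      have h3 : (⟨f x, hx⟩ : ↥V) ∈ (Pv : Subgroup ↥(V.comap f)).map (f.subgroupComap V) := by
        rw [hP₁]; exact Subgroup.mem_top _
      obtain ⟨x', hx', hx'y⟩ := h3
      refine ⟨(x' : H), Subgroup.le_normalizer ⟨x', hx', rfl⟩, ?_⟩
      exact congrArg Subtype.val hx'y
    rw [sup_eq_left.mpr h2] at h1
    exact h1

variable {p : ℕ} [hp : Fact p.Prime]

/-- `-1 ∈ SL₂(p)` lies in every normal subgroup of `SL₂(p)` containing the transvection `uu 1`. -/
theorem neg_one_mem_of_uu_mem {S : Subgroup (Matrix.SpecialLinearGroup (Fin 2) (ZMod p))}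
    (hSn : S.Normal) (hu : uu (1 : ZMod p) ∈ S) :
    (-1 : Matrix.SpecialLinearGroup (Fin 2) (ZMod p)) ∈ S := by
  have hl : ll (1 : ZMod p) ∈ S := by
    have h1 := hSn.conj_mem _ hu ww
    rw [ww_conj_uu] at h1
    have h2 := S.inv_mem h1
    have h3 : (ll (-1 : ZMod p))⁻¹ = ll 1 := by
      rw [inv_eq_iff_mul_eq_one, ← ll_add]; simp [ll_zero]
    rwa [h3] at h2
  have htop : S = ⊤ := by
    rw [eq_top_iff, ← closure_uu_ll p, Subgroup.closure_le]
    rintro g (rfl | rfl)
    · exact hu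
    · exact hl
  exact htop ▸ Subgroup.mem_top _

/-- `β(-1)` does not centralize the translation `τ(e₁)` (`p` odd). -/
theorem not_commute_beta_neg_one (hp2 : p ≠ 2) :
    ¬ Commute (beta p (-1)) (tau p (Multiplicative.ofAdd ![1, 0])) := by
  intro hc
  have h1 : beta p (-1) * tau p (Multiplicative.ofAdd ![1, 0]) =
      tau p (Multiplicative.ofAdd ![1, 0]) * beta p (-1) := hc.eq
  rw [beta_mul_tau] at h1
  have h2 := tau_injective (mul_right_cancel h1)
  have h3 := congrFun (congrArg Multiplicative.toAdd h2) 0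
  simp at h3
  have h4 : (2 : ZMod p) = 0 := by linear_combination -h3
  have h5 : ((2 : ℕ) : ZMod p) = 0 := by exact_mod_cast h4
  rw [ZMod.natCast_eq_zero_iff] at h5
  exact hp2 ((Nat.prime_dvd_prime_iff_eq hp.out Nat.prime_two).mp h5)

/-- **A group involving `Qd(p)` has failure data.** -/
theorem exists_gBad_of_involves {G : Type u} [Group G] [Finite G] (hp2 : p ≠ 2)
    (h : Involves ↥(qd p) G) : ∃ R : Subgroup G, IsPGroup p R ∧ GBad p R := by
  obtain ⟨H, f, hf⟩ := involves_iff.1 h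
  haveI : (VV p).Normal := VV_normal
  obtain ⟨RH, hRHp, hRHV, hNtop⟩ := exists_frattini_lift f hf (VV p) isPGroup_VV
  -- a lift of the transvection in the normalizer
  obtain ⟨aH, haHN, haH⟩ : ∃ aH ∈ Subgroup.normalizer (RH : Set ↥H), f aH = beta p (uu 1) := by
    have : beta p (uu 1) ∈ (Subgroup.normalizer (RH : Set ↥H)).map f := by
      rw [hNtop]; exact Subgroup.mem_top _
    exact this
  have hker_le : Subgroup.normalizer (RH : Set ↥H) ≤
      Subgroup.normalizer ((RH ⊓ f.ker : Subgroup ↥H) : Set ↥H) := by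
    intro n hn
    rw [Subgroup.mem_normalizer_iff] at hn ⊢
    intro x
    rw [Subgroup.mem_inf, Subgroup.mem_inf, ← hn x]
    have hk : x ∈ f.ker ↔ n * x * n⁻¹ ∈ f.ker := by
      rw [MonoidHom.mem_ker, MonoidHom.mem_ker, map_mul, map_mul, map_inv]
      constructor
      · intro h; rw [h]; group
      · intro h
        have : f x = (f n)⁻¹ * (f n * f x * (f n)⁻¹) * f n := by group
        rw [this, h]; group
    rw [hk]
  -- the commutator computations in `H`
  have hcommR : ∀ (n : ↥H), n ∈ Subgroup.normalizer (RH : Set ↥H) → ∀ r ∈ RH, ⁅n, r⁆ ∈ RH := by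
    intro n hn r hr
    rw [commutatorElement_def]
    exact RH.mul_mem (conj_mem_of_mem_normalizer hn hr) (RH.inv_mem hr)
  have hquadH : ∀ (i j : ℤ), ∀ r ∈ RH, ⁅aH ^ i, ⁅aH ^ j, r⁆⁆ ∈ RH ⊓ f.ker := by
    intro i j r hr
    have hi := Subgroup.zpow_mem _ haHN i
    have hj := Subgroup.zpow_mem _ haHN j
    refine ⟨hcommR _ hi _ (hcommR _ hj r hr), ?_⟩
    show ⁅aH ^ i, ⁅aH ^ j, r⁆⁆ ∈ f.ker
    rw [MonoidHom.mem_ker, map_commutatorElement, map_commutatorElement, map_zpow, map_zpow, haH]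
    have hfr : f r ∈ VV p := by rw [← hRHV]; exact ⟨r, hr, rfl⟩
    have h1 : ⁅f r, (beta p (uu 1)) ^ j⁆ ∈ ⁅VV p, Subgroup.zpowers (beta p (uu 1))⁆ :=
      Subgroup.commutator_mem_commutator hfr (Subgroup.zpow_mem _ (Subgroup.mem_zpowers _) j)
    have h2 : ⁅⁅f r, (beta p (uu 1)) ^ j⁆, (beta p (uu 1)) ^ i⁆ ∈
        ⁅⁅VV p, Subgroup.zpowers (beta p (uu 1))⁆, Subgroup.zpowers (beta p (uu 1))⁆ :=
      Subgroup.commutator_mem_commutator h1 (Subgroup.zpow_mem _ (Subgroup.mem_zpowers _) i)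
    rw [quad_uu, Subgroup.mem_bot, commutatorElement_eq_one_iff_commute] at h2
    rw [commutatorElement_eq_one_iff_commute]
    have h3 : ⁅(beta p (uu 1)) ^ j, f r⁆ = (⁅f r, (beta p (uu 1)) ^ j⁆)⁻¹ :=
      (commutatorElement_inv _ _).symm
    rw [h3]
    exact h2.symm.inv_right
  refine ⟨RH.map H.subtype, hRHp.map _, (RH ⊓ f.ker).map H.subtype,
    (Subgroup.normalizer (RH : Set ↥H)).map H.subtype, (aH : G), Subgroup.map_mono inf_le_left,
    Subgroup.le_normalizer_map _, ?_, ?_, ⟨aH, haHN, rfl⟩, ?_, ?_⟩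
  · exact (Subgroup.map_mono hker_le).trans (Subgroup.le_normalizer_map _)
  · exact (Subgroup.map_mono (Subgroup.le_normalizer.trans hker_le)).trans
      (Subgroup.le_normalizer_map _)
  · rintro i j _ ⟨r, hr, rfl⟩
    exact ⟨⁅aH ^ i, ⁅aH ^ j, r⁆⁆, hquadH i j r hr, rfl⟩
  · intro D hDX hDn hDp haD
    -- the image of `D` in `Qd(p)`
    obtain ⟨DH, hDHdef⟩ : ∃ DH : Subgroup ↥H,
      DH = D.comap H.subtype ⊓ Subgroup.normalizer (RH : Set ↥H) := ⟨_, rfl⟩
    have hEn : (DH.map f).Normal := by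
      constructor
      rintro _ ⟨d, hd, rfl⟩ q
      have hq : q ∈ (Subgroup.normalizer (RH : Set ↥H)).map f := by
        rw [hNtop]; exact Subgroup.mem_top _
      obtain ⟨n, hn, rfl⟩ := hq
      refine ⟨n * d * n⁻¹, ?_, by rw [map_mul, map_mul, map_inv]⟩
      rw [hDHdef] at hd ⊢
      refine ⟨?_, Subgroup.mul_mem _ (Subgroup.mul_mem _ hn hd.2) (Subgroup.inv_mem _ hn)⟩
      show n * d * n⁻¹ ∈ D.comap H.subtype
      rw [Subgroup.mem_comap]
      exact hDn _ ⟨n, hn, rfl⟩ _ hd.1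
    have htE : beta p (uu 1) ∈ DH.map f := by
      refine ⟨aH, ?_, haH⟩
      rw [hDHdef]
      exact ⟨haD, haHN⟩
    have hSn : ((DH.map f).comap (beta p)).Normal := hEn.comap _
    have hneg := neg_one_mem_of_uu_mem hSn htE
    obtain ⟨d, hd, hdneg⟩ := hneg
    rw [hDHdef] at hd
    obtain ⟨k, hk⟩ := hDp _ hd.1
    -- a preimage of `τ(e₁)` in `RH`
    have hv : tau p (Multiplicative.ofAdd ![1, 0]) ∈ RH.map f := by
      rw [hRHV]; exact ⟨_, rfl⟩
    obtain ⟨r, hr, hrv⟩ := hv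
    have h1 := hk _ ⟨r, hr, rfl⟩
    obtain ⟨y, hy, hyeq⟩ := h1
    have hyeq' : y = ⁅d ^ p ^ k, r⁆ := by
      apply Subtype.ext
      exact hyeq
    have h2 : f ⁅d ^ p ^ k, r⁆ = 1 := by
      rw [← hyeq']; exact hy.2
    rw [map_commutatorElement, map_pow, hdneg, hrv, ← map_pow,
      commutatorElement_eq_one_iff_commute] at h2
    have hodd : Odd (p ^ k) := (hp.out.odd_of_ne_two hp2).pow
    rw [hodd.neg_one_pow] at h2
    exact not_commute_beta_neg_one hp2 h2

end Cfsg.Agent.Lib.H26.QdBad
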