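import Mathlib
import Cfsg.Agent.Lib.H26.QdBadAut
import Cfsg.Agent.Lib.H26.QdBadGroup
import Cfsg.Agent.Lib.H26.ZJCaseB
import Cfsg.Agent.Lib.H26.ModelPi
import Cfsg.Agent.S5090
import Cfsg.Agent.S5240

set_option autoImplicit false

/-!
`Qd(p)`-free saturated fusion systems have no failure of `p`-stability on sections (helper26):
if `F` is saturated and `Qd(p)`-free (`p` odd), `R ≤ S` is fully normalized and `A ≤ Aut_F(R)`,
then `QuadFail p A` is impossible.  Consequently a finite group whose fusion system is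
`Qd(p)`-free does not involve `Qd(p)`.
-/

namespace Cfsg.Agent.Lib.H26.QdBad

open Cfsg Cfsg.FusionSystem Cfsg.Agent.Lib.H25 Cfsg.Agent.Lib.H26 Cfsg.Agent.Lib.H26.Nil
  Cfsg.Agent.Lib.H26.Model Cfsg.Agent.Lib.H26.ZJ

universe u

variable {Ω : Type u} [Group Ω] {S : Subgroup Ω}

theorem isNHom_mono {F : FusionSystem S} {Q P P' : Subgroup Ω} {k : Ω → Ω}
    (h : IsNHom F Q P k) (hP' : P' ≤ P) : IsNHom F Q P' k := by
  rw [isNHom_iff] at h ⊢
  obtain ⟨h1, h2, kb, C, hkb, h3, h4, h5⟩ := h
  obtain ⟨C', -, hkb', -⟩ := hkb.restrict (sup_le_sup_right hP' Q)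
  exact ⟨hP'.trans h1, fun x hx => h2 x (hP' hx), kb, C', hkb', fun x hx => h3 x (hP' hx), h4, h5⟩

variable {p : ℕ} [Fact p.Prime]

/-- automorphisms realized in a group acting on the image of `R` -/
theorem le_thetaHom_range [Finite S] {F : FusionSystem S} {Y : Type u} [Group Y] {ι : S →* Y}
    (hreal : F.IsRealizedBy ι) {R : Subgroup Ω} (hRS : R ≤ S) {A : Subgroup (MulAut R)}
    (hA : A ≤ F.autGroup R)
    (he : Function.Injective (ι.comp (Subgroup.inclusion hRS))) :
    A ≤ (thetaHom (ι.comp (Subgroup.inclusion hRS)) he).range := by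
  intro α hα
  have hαF := (mem_autGroup_iff F hRS α).1 (hA hα)
  obtain ⟨g, hg⟩ := (hreal.2 R hRS (R.subtype.comp α.toMonoidHom) (fun x => hRS (α x).2)).1 hαF
  have hg' : ∀ x : R, (ι.comp (Subgroup.inclusion hRS)) (α x) =
      g * (ι.comp (Subgroup.inclusion hRS)) x * g⁻¹ := fun x => hg x
  have hgN : g ∈ Subgroup.normalizer
      (((ι.comp (Subgroup.inclusion hRS)).range : Subgroup Y) : Set Y) := by
    apply mem_normalizer_of_conj_mem
    · rintro _ ⟨x, rfl⟩
      exact ⟨α x, hg' x⟩
    · rintro _ ⟨x, rfl⟩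
      refine ⟨α⁻¹ x, ?_⟩
      have h1 := hg' (α⁻¹ x)
      rw [show α (α⁻¹ x) = x from by simp] at h1
      rw [h1]
      group
  refine ⟨⟨g, hgN⟩, ?_⟩
  ext x
  apply Subtype.ext_iff.1
  apply he
  rw [thetaHom_spec]
  exact (hg' x).symm

/-- **The case of a subgroup of a normal subgroup.** -/
theorem not_quadFail_of_le_normal (hp2 : p ≠ 2) [Finite S] (hS : IsPGroup p S) :
    ∀ k : ℕ, ∀ (F : FusionSystem S) (Q R : Subgroup Ω) (A : Subgroup (MulAut R)),
      F.IsSaturated p → F.IsSectionFree p ↥(qd p) → F.IsNormal Q → R ≤ Q → A ≤ F.autGroup R →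
      Nat.card S - Nat.card Q = k → ¬ QuadFail p A := by
  intro k
  induction k using Nat.strong_induction_on with
  | _ k IH =>
    intro F Q R A hF hfree hQ hRQ hA hk hfail
    have hQS := hQ.1
    have hRS : R ≤ S := hRQ.trans hQS
    by_cases hC : centralizerIn S Q ≤ Q
    · -- the constrained case: a model
      have hQc : F.IsCentric Q := isCentric_of_isNormal hQ hC
      have hcon : F.IsConstrained p := ⟨hF, Q, hQ, hQc⟩
      obtain ⟨G, hG, ι, hM⟩ := Cfsg.Agent.S5090.result p hS F hcon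
      have hNSQ : normalizerIn S Q = S :=
        stronglyClosed_normalizerIn_eq (isNormal_stronglyClosed hQ)
      have hQfn : F.IsFullyNormalized Q := isFullyNormalized_of_normalizerIn_eq hQS hNSQ
      have hN : F.IsNormalizerSystem Q (Cfsg.Agent.S5096.normSys F Q hQS) := fun _ => rfl
      obtain ⟨ι', hM'⟩ := exists_model_cast hM _ hNSQ (Cfsg.Agent.S5096.normSys F Q hQS)
        (fun P => (hN P).trans (normalizerHom_eq_of_isNormal hQ P))
      have hninv := hfree Q hQfn hQc _ hN G ι' hM'
      obtain ⟨hfinG, hreal, -, -⟩ := hM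
      have he : Function.Injective (ι.comp (Subgroup.inclusion hRS)) :=
        hreal.1.comp (Subgroup.inclusion_injective hRS)
      have hAr := le_thetaHom_range hreal hRS hA he
      have hgb := gBad_of_quadFail _ he hAr hfail
      have hRp : IsPGroup p ↥(ι.comp (Subgroup.inclusion hRS)).range :=
        (hS.to_le hRS).of_equiv (MonoidHom.ofInjective he)
      exact not_gBad hp2 hninv hRp hgb
    · -- pass to `N_F(Q C_S(Q))`
      have hQsc := isNormal_stronglyClosed hQ
      have hQn : S ≤ Subgroup.normalizer (Q : Set Ω) := stronglyClosed_le_normalizer hQsc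
      have hfinQ : Finite Q := finite_of_le S hQS
      set C := centralizerIn S Q with hCdef
      have hCS : C ≤ S := inf_le_left
      have hCn : S ≤ Subgroup.normalizer (C : Set Ω) := le_normalizer_centralizerIn hQn
      have hTS : Q ⊔ C ≤ S := sup_le hQS hCS
      have hTn : S ≤ Subgroup.normalizer ((Q ⊔ C : Subgroup Ω) : Set Ω) :=
        le_normalizer_sup hQn hCn
      have hNST : normalizerIn S (Q ⊔ C) = S := inf_eq_left.2 hTn
      have hTfn : F.IsFullyNormalized (Q ⊔ C) := isFullyNormalized_of_normalizerIn_eq hTS hNST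
      have hQT : Q < Q ⊔ C := by
        refine lt_of_le_of_ne le_sup_left (fun h => hC ?_)
        rw [h]
        exact le_sup_right
      have hcardT : Nat.card Q < Nat.card (Q ⊔ C : Subgroup Ω) := card_lt_of_lt' hTS hQT
      have hcardTS : Nat.card (Q ⊔ C : Subgroup Ω) ≤ Nat.card S := Subgroup.card_le_of_le hTS
      obtain ⟨N₁, hN₁, hN₁sat, hN₁T, hN₁free⟩ :=
        exists_normalizer_on_top_free hS hF hfree hTfn hNST
      have hA₁ : A ≤ N₁.autGroup R := by
        intro α hα
        rw [mem_autGroup_iff N₁ hRS, hN₁]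
        have hf := isIso_of_mem_autGroup F hRS (hA hα)
        obtain ⟨g, hg, hgf, hgQ⟩ := isNormal_exists_ext hQ hf
        have hRQsup : R ⊔ Q = Q := sup_eq_right.2 hRQ
        obtain ⟨β, γ, P'', hβ, hβN, hQP'', hγ, hγfix, hgγβ⟩ :=
          decompose hS hF hQ hg (le_sup_right : Q ≤ R ⊔ Q)
        have hβR := isNHom_mono hβN (le_sup_left : R ≤ R ⊔ Q)
        obtain ⟨φ, hφ, hφβ⟩ := hβR
        have hβQ : IsIso F Q Q β := stronglyClosed_isIso_self hQsc hβ le_sup_right
        have : φ = R.subtype.comp α.toMonoidHom := by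
          ext x
          rw [hφβ x]
          have hxRQ : (x : Ω) ∈ R ⊔ Q := (le_sup_left : R ≤ R ⊔ Q) x.2
          have h1 := hgγβ x hxRQ
          rw [hγfix _ (hβQ.map_mem (hRQ x.2)), hgf x x.2, ext1_apply_mem _ x.2] at h1
          exact h1.symm
        rw [← this]
        exact hφ
      exact IH (Nat.card S - Nat.card (Q ⊔ C : Subgroup Ω)) (by omega) N₁ (Q ⊔ C) R A hN₁sat
        hN₁free hN₁T (hRQ.trans le_sup_left) hA₁ rfl hfail

/-- **No failure of `p`-stability in a `Qd(p)`-free saturated fusion system** (`p` odd). -/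
theorem not_quadFail (hp2 : p ≠ 2) [Finite S] (hS : IsPGroup p S) (F : FusionSystem S)
    (hF : F.IsSaturated p) (hfree : F.IsSectionFree p ↥(qd p)) {R : Subgroup Ω}
    (hRfn : F.IsFullyNormalized R) {A : Subgroup (MulAut R)} (hA : A ≤ F.autGroup R) :
    ¬ QuadFail p A := by
  have hRS := hRfn.1
  have hN : F.IsNormalizerSystem R (Cfsg.Agent.S5096.normSys F R hRS) := fun _ => rfl
  haveI hfinT : Finite ↥(normalizerIn S R) := finite_of_le S inf_le_left
  have hST : IsPGroup p ↥(normalizerIn S R) := hS.to_le inf_le_left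
  have hNsat := normalizerSystem_isSaturated hS hF hRfn _ hN
  have hNfree := Cfsg.Agent.S5240.result p hS F hF hfree R hRfn _ hN
  have hRN := normalizerSystem_isNormal hRS hN
  have hA' : A ≤ (Cfsg.Agent.S5096.normSys F R hRS).autGroup R := by
    rw [normalizerSystem_autGroup_eq hRS hN]
    exact hA
  exact not_quadFail_of_le_normal hp2 hST _ _ R R A hNsat hNfree hRN le_rfl hA' rfl

end Cfsg.Agent.Lib.H26.QdBad
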