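import Mathlib
import Cfsg.Prelude.Def_FusionReduction
import Cfsg.Agent.Lib.H26.GroupSaturated
import Cfsg.Agent.Lib.H26.ModelReduce
import Cfsg.Agent.Lib.H26.ModelStruct
import Cfsg.Agent.Lib.H26.FactorLocal
import Cfsg.Agent.Lib.H26.Involves
import Cfsg.Agent.Lib.H25.NormalizerSystem

set_option autoImplicit false

/-!
Section-freeness of the fusion system of a group (helper26): if `H` is not involved in the finite
group `G`, then the fusion system of `G` on a Sylow `p`-subgroup is `H`-free: every model of the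
normalizer system of a fully normalized centric subgroup `Q` is isomorphic to a quotient of
`N_G(Q)`.
-/

namespace Cfsg.Agent.Lib.H26.QdFree

open Cfsg Cfsg.FusionSystem Cfsg.Agent.Lib.H25 Cfsg.Agent.Lib.H26 Cfsg.Agent.Lib.H26.Model

universe u v

variable {G : Type u} [Group G]

/-- the inclusion of `N_P(Q)` in `N_G(Q)` -/
def incN (P Q : Subgroup G) : ↥(normalizerIn P Q) →* ↥(Subgroup.normalizer (Q : Set G)) :=
  Subgroup.inclusion (inf_le_right : normalizerIn P Q ≤ Subgroup.normalizer (Q : Set G))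

theorem incN_coe (P Q : Subgroup G) (t : ↥(normalizerIn P Q)) :
    ((incN P Q t : ↥(Subgroup.normalizer (Q : Set G))) : G) = t := rfl

/-- the normalizer system of `Q` in the fusion system of `G` on `P` is realized by `N_G(Q)` -/
theorem normalizer_realizedBy {P Q : Subgroup G} (hQP : Q ≤ P)
    {N : FusionSystem (normalizerIn P Q)}
    (hN : (groupFusionSystem P).IsNormalizerSystem Q N) : N.IsRealizedBy (incN P Q) := by
  refine ⟨Subgroup.inclusion_injective _, fun A hA φ hφ => ?_⟩
  rw [hN A]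
  constructor
  · rintro ⟨-, -, -, ψ, ⟨-, -, g, hg⟩, hψφ, hψQ⟩
    have hgQ : g ∈ Subgroup.normalizer (Q : Set G) := by
      have hfin : ∀ q ∈ Q, g * q * g⁻¹ ∈ Q := by
        intro q hq
        have hq' : q ∈ A ⊔ Q := (le_sup_right : Q ≤ A ⊔ Q) hq
        have h1 : ψ ⟨q, hq'⟩ ∈ (Q.subgroupOf (A ⊔ Q)).map ψ := ⟨⟨q, hq'⟩, hq, rfl⟩
        rw [hψQ, hg] at h1
        exact h1
      have hsurj : ∀ q ∈ Q, g⁻¹ * q * g ∈ Q := by
        intro q hq
        have h1 : q ∈ (Q.subgroupOf (A ⊔ Q)).map ψ := by rw [hψQ]; exact hq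
        obtain ⟨⟨y, hy⟩, hyQ, hyq⟩ := h1
        rw [hg] at hyq
        have hyQ' : y ∈ Q := hyQ
        have : g⁻¹ * q * g = y := by
          rw [← hyq]
          show g⁻¹ * (g * y * g⁻¹) * g = y
          group
        rw [this]
        exact hyQ'
      rw [Subgroup.mem_normalizer_iff]
      intro x
      constructor
      · intro hx
        exact hfin x hx
      · intro hx
        have := hsurj _ hx
        have e : g⁻¹ * (g * x * g⁻¹) * g = x := by group
        rwa [e] at this
    refine ⟨⟨g, hgQ⟩, fun x => ?_⟩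
    apply Subtype.ext
    show φ x = g * (x : G) * g⁻¹
    rw [← hψφ x, hg]
    rfl
  · rintro ⟨⟨g, hgQ⟩, hg⟩
    have hφg : ∀ x : A, φ x = g * (x : G) * g⁻¹ := fun x => congrArg Subtype.val (hg x)
    have hAP : A ≤ P := hA.trans inf_le_left
    refine ⟨⟨hAP, fun x => (hφ x).1, g, hφg⟩, hA, hφ, conjHom (A ⊔ Q) g,
      ⟨sup_le hAP hQP, ?_, g, fun _ => rfl⟩, fun x => (hφg x).symm, ?_⟩
    · -- values in `P`
      have hcl : A ⊔ Q ≤ (P.comap (MulAut.conj g).toMonoidHom) := by
        apply sup_le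
        · intro x hx
          rw [Subgroup.mem_comap]
          show g * x * g⁻¹ ∈ P
          rw [← hφg ⟨x, hx⟩]
          exact (hφ ⟨x, hx⟩).1
        · intro x hx
          rw [Subgroup.mem_comap]
          show g * x * g⁻¹ ∈ P
          exact hQP ((Subgroup.mem_normalizer_iff.1 hgQ x).1 hx)
      intro x
      exact hcl x.2
    · ext y
      constructor
      · rintro ⟨⟨x, hx⟩, hxQ, rfl⟩
        exact (Subgroup.mem_normalizer_iff.1 hgQ x).1 hxQ
      · intro hy
        have h1 : g⁻¹ * y * g ∈ Q := by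
          have := (Subgroup.mem_normalizer_iff.1 (Subgroup.inv_mem _ hgQ) y).1 hy
          simpa using this
        refine ⟨⟨g⁻¹ * y * g, (le_sup_right : Q ≤ A ⊔ Q) h1⟩, h1, ?_⟩
        show g * (g⁻¹ * y * g) * g⁻¹ = y
        group

variable [Finite G] {p : ℕ} [Fact p.Prime]

/-- **Section-freeness of group fusion systems.** -/
theorem groupFusionSystem_isSectionFree (P : Sylow p G) {H : Type v} [Group H]
    (hH : ¬ Involves H G) : (groupFusionSystem (P : Subgroup G)).IsSectionFree p H := by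
  intro Q hQfn hQc N hN L _ ι hM hinv
  apply hH
  have hS : IsPGroup p (P : Subgroup G) := P.2
  have hF := groupFusionSystem_isSaturated P
  have hQP : Q ≤ P := hQfn.1
  haveI hfinT : Finite ↥(normalizerIn (P : Subgroup G) Q) := inferInstance
  have hST : IsPGroup p ↥(normalizerIn (P : Subgroup G) Q) := hS.to_le inf_le_left
  have hreal := normalizer_realizedBy hQP hN
  -- Sylow
  obtain ⟨Ts, hTs⟩ := (isFullyNormalized_iff P hQP).1 hQfn
  have hsyl : ∃ T : Sylow p ↥(Subgroup.normalizer (Q : Set G)),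
      (T : Subgroup ↥(Subgroup.normalizer (Q : Set G))) = (incN (P : Subgroup G) Q).range := by
    refine ⟨Ts, ?_⟩
    rw [hTs]
    exact (Subgroup.inclusion_range _).symm
  have hQT : Q ≤ normalizerIn (P : Subgroup G) Q := le_normalizerIn hQP
  have hQn : (imgOf (incN (P : Subgroup G) Q) Q).Normal := by
    constructor
    intro y hy m
    obtain ⟨x, hxT, hxQ, rfl⟩ := mem_imgOf.1 hy
    have h1 : (m : G) * x * (m : G)⁻¹ ∈ Q := (Subgroup.mem_normalizer_iff.1 m.2 x).1 hxQ
    refine mem_imgOf.2 ⟨(m : G) * x * (m : G)⁻¹, hQT h1, h1, ?_⟩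
    apply Subtype.ext
    rfl
  have hQcent : centralizerIn (normalizerIn (P : Subgroup G) Q) Q ≤ Q :=
    fun x hx => hQc.2 Q (isConj_refl _ hQP) ⟨hx.1.1, hx.2⟩
  obtain ⟨K', hK'n, hMq⟩ := exists_model_quotient hST hreal hsyl hQT hQn hQcent
  have hcon := normalizerSystem_isConstrained hS hF hQfn hQc N hN
  obtain ⟨Φ, -⟩ := model_unique hST hcon hM hMq
  have h1 : Involves H (↥(Subgroup.normalizer (Q : Set G)) ⧸ K') :=
    involves_of_injective Φ.toMonoidHom Φ.injective hinv
  have h2 := involves_of_surjective (QuotientGroup.mk' K') (QuotientGroup.mk'_surjective K') h1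
  exact involves_of_injective (Subgroup.normalizer (Q : Set G)).subtype
    (Subgroup.subtype_injective _) h2

end Cfsg.Agent.Lib.H26.QdFree
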