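import Mathlib
import Cfsg.Agent.Lib.H26.ZJMain
import Cfsg.Agent.S5204
import Cfsg.Agent.S0664

set_option autoImplicit false

/-!
Glauberman's ZJ-theorem for `Qd(p)`-free saturated fusion systems, `p` odd (helper26):
`Z(J(S))` is normal in the system.  Combines the functor form `ZJ.main_all` with the group
theorem S0664 (helper1).
-/

namespace Cfsg.Agent.Lib.H26.QdFree

open Cfsg Cfsg.FusionSystem

universe u

variable {Ω : Type u} [Group Ω] {S : Subgroup Ω}

/-- **ZJ-theorem for `Qd(p)`-free saturated fusion systems.** -/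
theorem zj_isNormal {p : ℕ} [Fact p.Prime] (hp : p ≠ 2) [Finite S] (hS : IsPGroup p S)
    (F : FusionSystem S) (hF : F.IsSaturated p) (hfree : F.IsSectionFree p ↥(qd p)) :
    F.IsNormal (centerThompsonAOf S) := by
  have hW3 : ∀ (L : Type u) [Group L] [Finite L] (P : Sylow p L),
      Subgroup.centralizer ((pCore p L : Subgroup L) : Set L) ≤ pCore p L →
      ¬ Involves ↥(qd p) L → ((Cfsg.Agent.S5204.zjFun p).W (P : Subgroup L)).Normal := by
    intro L _ _ P hC hI
    exact Cfsg.Agent.S0664.result hp hI hC P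
  exact Cfsg.Agent.Lib.H26.ZJ.main_all (Cfsg.Agent.S5204.zjFun p) hW3 _ rfl hS F hF hfree

end Cfsg.Agent.Lib.H26.QdFree
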