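import Mathlib

/-!
# Induced action on a quotient (helper26)

For a homomorphism `φ : E →* MulAut G` and a normal subgroup `N` of `G` that every `φ e` maps into
itself, the induced homomorphism `quotAct φ N h : E →* MulAut (G ⧸ N)` with
`quotAct φ N h e (g N) = (φ e g) N`.
-/

set_option autoImplicit false

namespace Cfsg.Agent.Lib.H26.QuotAct

universe u v

variable {G : Type u} [Group G] {E : Type v} [Group E]

theorem map_eq_of_forall_mem (φ : E →* MulAut G) (N : Subgroup G)
    (h : ∀ e : E, ∀ x ∈ N, φ e x ∈ N) (e : E) : N.map ((φ e : G ≃* G) : G →* G) = N := by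
  apply le_antisymm
  · rintro _ ⟨x, hx, rfl⟩
    exact h e x hx
  · intro x hx
    refine ⟨φ e⁻¹ x, h e⁻¹ x hx, ?_⟩
    change φ e (φ e⁻¹ x) = x
    rw [← MulAut.mul_apply, ← map_mul, mul_inv_cancel, map_one]
    rfl

/-- the induced action on the quotient -/
noncomputable def quotAct (φ : E →* MulAut G) (N : Subgroup G) [N.Normal]
    (h : ∀ e : E, ∀ x ∈ N, φ e x ∈ N) : E →* MulAut (G ⧸ N) where
  toFun e := QuotientGroup.congr N N (φ e) (map_eq_of_forall_mem φ N h e)
  map_one' := by
    apply MulEquiv.ext
    intro x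
    induction x using QuotientGroup.induction_on with
    | H g =>
      change QuotientGroup.congr N N (φ 1) (map_eq_of_forall_mem φ N h 1) (QuotientGroup.mk g) =
        QuotientGroup.mk g
      rw [QuotientGroup.congr_mk, map_one]
      rfl
  map_mul' := by
    intro a b
    apply MulEquiv.ext
    intro x
    induction x using QuotientGroup.induction_on with
    | H g =>
      change QuotientGroup.congr N N (φ (a * b)) (map_eq_of_forall_mem φ N h (a * b))
          (QuotientGroup.mk g) =
        QuotientGroup.congr N N (φ a) (map_eq_of_forall_mem φ N h a)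
          (QuotientGroup.congr N N (φ b) (map_eq_of_forall_mem φ N h b) (QuotientGroup.mk g))
      rw [QuotientGroup.congr_mk, QuotientGroup.congr_mk, QuotientGroup.congr_mk, map_mul]
      rfl

@[simp] theorem quotAct_mk (φ : E →* MulAut G) (N : Subgroup G) [N.Normal]
    (h : ∀ e : E, ∀ x ∈ N, φ e x ∈ N) (e : E) (g : G) :
    quotAct φ N h e (QuotientGroup.mk g : G ⧸ N) = (QuotientGroup.mk (φ e g) : G ⧸ N) := by
  change QuotientGroup.congr N N (φ e) (map_eq_of_forall_mem φ N h e) (QuotientGroup.mk g) = _
  rw [QuotientGroup.congr_mk]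

/-- a fixed element of `G` gives a fixed element of the quotient -/
theorem quotAct_fixed (φ : E →* MulAut G) (N : Subgroup G) [N.Normal]
    (h : ∀ e : E, ∀ x ∈ N, φ e x ∈ N) (g : G) (hg : ∀ e : E, φ e g = g) (e : E) :
    quotAct φ N h e (QuotientGroup.mk g : G ⧸ N) = QuotientGroup.mk g := by
  rw [quotAct_mk, hg]

end Cfsg.Agent.Lib.H26.QuotAct
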