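import Cfsg.Agent.Lib.H26.ROMain
import Cfsg.Agent.Lib.H4.ROTOP1
import Cfsg.Agent.Lib.H14.ROTWOGRP
import Cfsg.Agent.Lib.H2.ROI2
import Cfsg.Agent.Lib.H24.CharOrth

/-!
# S4581: final assembly (helper26)
-/

set_option autoImplicit false

universe u

namespace Cfsg.Agent.Lib.H26.RO

open Cfsg Cfsg.Agent.Lib.H24 Cfsg.Agent.Lib.H24.Glaub Cfsg.Agent.Lib.H4.RO Cfsg.Agent.Lib.H14.RO
  Cfsg.Agent.Lib.H2.RO

theorem mainAt_zero (ρ : Prop) : MainAt.{u} ρ 0 := by
  intro Γ _ _ H P N hcard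
  exfalso
  have : 0 < Nat.card H := Nat.card_pos
  omega

theorem mainAt_all (ρ : Prop) : ∀ n, MainAt.{u} ρ n := by
  intro n
  induction n with
  | zero => exact mainAt_zero ρ
  | succ n ih => exact mainAt_succ' ρ n ih

/-- transport along an equality of subgroups -/
theorem card_real_odd_congr {G : Type u} [Group G] (A B : Subgroup G) (h : A = B) :
    Nat.card {ψ : IrrCharacter ↥A // (∀ g, ((ψ : ↥A → ℂ) g).im = 0) ∧
        Odd (charDegree (ψ : ↥A → ℂ))} =
      Nat.card {ψ : IrrCharacter ↥B // (∀ g, ((ψ : ↥B → ℂ) g).im = 0) ∧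
        Odd (charDegree (ψ : ↥B → ℂ))} := by
  subst h
  rfl

/-- if the real odd-degree characters are as many as the odd-degree characters, all odd-degree
characters are real -/
theorem all_real_of_card_eq {A : Type u} [Group A] [Finite A]
    (h : Nat.card {ψ : IrrCharacter A // (∀ g, ((ψ : A → ℂ) g).im = 0) ∧
        Odd (charDegree (ψ : A → ℂ))} =
      Nat.card {ψ : IrrCharacter A // Odd (charDegree (ψ : A → ℂ))}) :
    ∀ ψ : IrrCharacter A, Odd (charDegree (ψ : A → ℂ)) → ∀ g : A, ((ψ : A → ℂ) g).im = 0 := by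
  classical
  haveI : Finite (IrrCharacter A) := finite_irr
  let f : {ψ : IrrCharacter A // (∀ g, ((ψ : A → ℂ) g).im = 0) ∧
      Odd (charDegree (ψ : A → ℂ))} → {ψ : IrrCharacter A // Odd (charDegree (ψ : A → ℂ))} :=
    fun ψ => ⟨ψ.1, ψ.2.2⟩
  have hinj : Function.Injective f := by
    intro a b hab
    apply Subtype.ext
    have := congrArg (fun x : {ψ : IrrCharacter A // Odd (charDegree (ψ : A → ℂ))} => x.1) hab
    exact this
  have hbij : Function.Bijective f := by
    rw [Nat.bijective_iff_injective_and_card]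
    exact ⟨hinj, h⟩
  intro ψ hψ
  obtain ⟨⟨φ, hφ⟩, hφe⟩ := hbij.2 ⟨ψ, hψ⟩
  have : φ = ψ := congrArg Subtype.val hφe
  subst this
  exact hφ.1

theorem card_eq_of_all_real {A : Type u} [Group A]
    (h : ∀ ψ : IrrCharacter A, Odd (charDegree (ψ : A → ℂ)) → ∀ g : A, ((ψ : A → ℂ) g).im = 0) :
    Nat.card {ψ : IrrCharacter A // (∀ g, ((ψ : A → ℂ) g).im = 0) ∧
        Odd (charDegree (ψ : A → ℂ))} =
      Nat.card {ψ : IrrCharacter A // Odd (charDegree (ψ : A → ℂ))} := by
  apply Nat.card_congr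
  exact Equiv.subtypeEquivRight (fun ψ => ⟨fun hh => hh.2, fun hh => ⟨h ψ hh, hh⟩⟩)

theorem s4581 {G : Type u} [Group G] [Finite G] [Group.IsSolvable G] (P : Sylow 2 G) :
    Nat.card {χ : Cfsg.IrrCharacter G // (∀ g : G, ((χ : G → ℂ) g).im = 0) ∧ Odd (Cfsg.charDegree (χ : G → ℂ))} =
      Nat.card {ψ : Cfsg.IrrCharacter (Subgroup.normalizer ((P : Subgroup G) : Set G)) // (∀ g, ((ψ : Subgroup.normalizer ((P : Subgroup G) : Set G) → ℂ) g).im = 0) ∧ Odd (Cfsg.charDegree (ψ : Subgroup.normalizer ((P : Subgroup G) : Set G) → ℂ))} ∧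
    ((∀ χ : Cfsg.IrrCharacter G, Odd (Cfsg.charDegree (χ : G → ℂ)) → ∀ g : G, ((χ : G → ℂ) g).im = 0) ↔
      (commutator (P : Subgroup G) = frattini (P : Subgroup G) ∧ Subgroup.normalizer ((P : Subgroup G) : Set G) = (P : Subgroup G))) := by
  have h1 := card_real_odd_eq (mainAt_all True) P
  refine ⟨h1, ?_⟩
  have hP2 : IsPGroup 2 ↥(P : Subgroup G) := P.isPGroup'
  constructor
  · intro hall
    have hself := normalizer_eq_of_all_real hall P
    refine ⟨?_, hself⟩
    have h2 := card_odd_eq_of_self_normalizing (mainAt_all False) P hself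
    have h3 := card_real_odd_congr _ _ hself
    have h4 := card_eq_of_all_real hall
    apply (all_odd_real_iff hP2).mp
    apply all_real_of_card_eq
    rw [← h3, ← h1, h4, h2]
  · rintro ⟨hcf, hself⟩
    have h2 := card_odd_eq_of_self_normalizing (mainAt_all False) P hself
    have h3 := card_real_odd_congr _ _ hself
    have h5 := card_eq_of_all_real ((all_odd_real_iff hP2).mpr hcf)
    apply all_real_of_card_eq
    rw [h1, h3, h5, h2]

end Cfsg.Agent.Lib.H26.RO
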