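import Cfsg.Agent.Lib.H26.RODefs
import Cfsg.Agent.Lib.H24.GlaubOver4
import Cfsg.Agent.Lib.H14.ROSYLFIX

/-!
# S4581 piece ORB (helper26): the `P`-invariant constituents of `χ_V` form one `N_Y(P)`-class
-/

set_option autoImplicit false

universe u

namespace Cfsg.Agent.Lib.H26.RO

open Cfsg Cfsg.Agent.Lib.L0 Cfsg.Agent.Lib.H23 Cfsg.Agent.Lib.H24 Cfsg.Agent.Lib.H24.Glaub

variable {Γ : Type u} [Group Γ] [Finite Γ]

/-- ORB. -/
theorem orb (Y P NY V : Subgroup Γ) (hVP : V ≤ P) (hPY : P ≤ Y) (hP : IsPGroup 2 P)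
    (hsyl : ¬ 2 ∣ P.relIndex Y) (hNY : IsNormIn Y P NY)
    (hVn : ∀ y ∈ Y, ∀ v ∈ V, y * v * y⁻¹ ∈ V)
    (χ : IrrCharacter ↥Y) (hodd : Odd (charDegree (χ : ↥Y → ℂ))) :
    ∃ μ₀ : IrrCharacter ↥V, (∀ x ∈ P, InvUnder V x (μ₀ : ↥V → ℂ)) ∧
      ∀ μ : IrrCharacter ↥V, (∀ x ∈ P, InvUnder V x (μ : ↥V → ℂ)) →
        (Over (hVP.trans hPY) (χ : ↥Y → ℂ) (μ : ↥V → ℂ) ↔
          NConj V NY (μ₀ : ↥V → ℂ) (μ : ↥V → ℂ)) := by
  classical
  letI : Fintype Γ := Fintype.ofFinite Γ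
  letI : Fintype ↥V := Fintype.ofFinite ↥V
  letI : Fintype ↥Y := Fintype.ofFinite ↥Y
  haveI : Finite (IrrCharacter ↥V) := finite_irr
  letI : Fintype (IrrCharacter ↥V) := Fintype.ofFinite _
  haveI : Fact (Nat.Prime 2) := ⟨Nat.prime_two⟩
  have hVY : V ≤ Y := hVP.trans hPY
  have hPV : ∀ q ∈ P, ∀ v ∈ V, q * v * q⁻¹ ∈ V := fun q hq => hVn q (hPY hq)
  have hχc := isCharacter_of_irr χ.2
  have hχinv : ∀ y ∈ Y, InvUnder Y y (χ : ↥Y → ℂ) := fun y hy =>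
    invUnder_of_mem hy (isClassFunction_of_isCharacter hχc)
  have key : ∀ μ : IrrCharacter ↥V, Over hVY (χ : ↥Y → ℂ) (μ : ↥V → ℂ) ↔
      resMult hVY (χ : ↥Y → ℂ) (μ : ↥V → ℂ) ≠ 0 := by
    intro μ
    exact (resMult_ne_zero_iff hVY χ μ).symm
  -- (1) existence of a `P`-invariant constituent
  have hex : ∃ μ₀ : IrrCharacter ↥V, (∀ q ∈ P, InvUnder V q (μ₀ : ↥V → ℂ)) ∧
      resMult hVY (χ : ↥Y → ℂ) (μ₀ : ↥V → ℂ) ≠ 0 := by
    set g : IrrCharacter ↥V → ℤ := fun φ =>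
      (resMult hVY (χ : ↥Y → ℂ) (φ : ↥V → ℂ) : ℤ) * (charDegree (φ : ↥V → ℂ) : ℤ) with hg
    have hginv : ∀ (q : P) (φ : IrrCharacter ↥V), g ((irrAct V P hPV).smul q φ) = g φ := by
      intro q φ
      have hq' : (q : Γ)⁻¹ ∈ P := P.inv_mem q.2
      show (resMult hVY (χ : ↥Y → ℂ) (((irrAct V P hPV).smul q φ : IrrCharacter ↥V) : ↥V → ℂ) : ℤ) *
        (charDegree (((irrAct V P hPV).smul q φ : IrrCharacter ↥V) : ↥V → ℂ) : ℤ) = _
      have h1 : charDegree (((irrAct V P hPV).smul q φ : IrrCharacter ↥V) : ↥V → ℂ) =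
          charDegree (φ : ↥V → ℂ) := by
        apply charDegree_eq_of_apply_one
        rw [irrAct_smul_coe, Function.comp_apply, map_one]
        exact apply_one_eq_charDegree _ φ.2
      rw [h1, irrAct_smul_coe,
        resMult_conj_right hVY (hPV _ hq') (inv_norm_of_norm (hPV _ hq')) (hχinv _ (hPY hq'))]
    have h1 := sum_irr_modEq V P hPV Nat.prime_two hP g hginv
    have h2 : (∑ φ : IrrCharacter ↥V, g φ) = (charDegree (χ : ↥Y → ℂ) : ℤ) := by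
      rw [charDegree_eq_sum_resMult hVY χ]
      push_cast
      rfl
    have h3 : ¬ (2 : ℤ) ∣ (charDegree (χ : ↥Y → ℂ) : ℤ) := by
      intro h
      have h4 : 2 ∣ charDegree (χ : ↥Y → ℂ) := by exact_mod_cast h
      exact (Nat.not_even_iff_odd.mpr hodd) (even_iff_two_dvd.mpr h4)
    by_contra hcon
    push_neg at hcon
    apply h3
    rw [← h2]
    apply (Int.ModEq.dvd_iff h1).mpr
    apply Finset.dvd_sum
    intro φ _
    by_cases hinv : ∀ q ∈ P, InvUnder V q (φ : ↥V → ℂ)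
    · rw [if_pos hinv]
      show ((2 : ℕ) : ℤ) ∣ (resMult hVY (χ : ↥Y → ℂ) (φ : ↥V → ℂ) : ℤ) * (charDegree (φ : ↥V → ℂ) : ℤ)
      rw [hcon φ hinv, Nat.cast_zero, zero_mul]
      exact dvd_zero _
    · rw [if_neg hinv]
      exact dvd_zero _
  obtain ⟨μ₀, hμ₀inv, hμ₀⟩ := hex
  refine ⟨μ₀, hμ₀inv, ?_⟩
  intro μ hμinv
  rw [key]
  constructor
  · intro hμ
    obtain ⟨c, hc, hcμ⟩ := exists_conj_of_constituents_amb hVY hVn χ μ₀ μ hμ₀ hμ
    letI : MulAction ↥Y (IrrCharacter ↥V) := irrAct V Y hVn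
    have hP' : IsPGroup 2 (P.subgroupOf Y) := hP.comap_subtype
    let PS : Sylow 2 ↥Y := hP'.toSylow hsyl
    have hPS : ∀ x : ↥Y, x ∈ (PS : Subgroup ↥Y) ↔ (x : Γ) ∈ P := fun x =>
      (IsPGroup.mem_toSylow hP' hsyl).trans Subgroup.mem_subgroupOf
    have hfix : ∀ (φ : IrrCharacter ↥V), (∀ q ∈ P, InvUnder V q (φ : ↥V → ℂ)) →
        ∀ x ∈ (PS : Subgroup ↥Y), x • φ = φ := by
      intro φ hφ x hx
      have hxP : (x : Γ) ∈ P := (hPS x).mp hx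
      apply Subtype.ext
      funext v
      show (((irrAct V Y hVn).smul x φ : IrrCharacter ↥V) : ↥V → ℂ) v = (φ : ↥V → ℂ) v
      rw [irrAct_smul_apply]
      exact hφ (x : Γ)⁻¹ (P.inv_mem hxP) v _ rfl
    set b : ↥Y := ⟨c, hc⟩⁻¹ with hb
    have hbμ : b • μ₀ = μ := by
      apply Subtype.ext
      funext v
      show (((irrAct V Y hVn).smul b μ₀ : IrrCharacter ↥V) : ↥V → ℂ) v = (μ : ↥V → ℂ) v
      rw [irrAct_smul_apply, hcμ, Function.comp_apply]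
      apply congrArg
      apply Subtype.ext
      rw [conjN_apply]
      simp [hb]
    obtain ⟨nn, hnn, hnμ⟩ := Cfsg.Agent.Lib.H14.RO.exists_normalizer_smul_eq 2 PS μ₀ b
      (hfix μ₀ hμ₀inv) (by rw [hbμ]; exact hfix μ hμinv)
    rw [hbμ] at hnμ
    refine ⟨(nn : Γ), ?_, ?_⟩
    · rw [hNY]
      refine ⟨nn.2, ?_⟩
      intro x
      have hnorm := Subgroup.mem_normalizer_iff.mp hnn
      constructor
      · intro hx
        have h1 := (hnorm ⟨x, hPY hx⟩).mp ((hPS _).mpr hx)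
        exact (hPS _).mp h1
      · intro hx
        have hxY : x ∈ Y := by
          have h1 : (nn : Γ)⁻¹ * ((nn : Γ) * x * (nn : Γ)⁻¹) * (nn : Γ) ∈ Y :=
            Y.mul_mem (Y.mul_mem (Y.inv_mem nn.2) (hPY hx)) nn.2
          have e : (nn : Γ)⁻¹ * ((nn : Γ) * x * (nn : Γ)⁻¹) * (nn : Γ) = x := by group
          rwa [e] at h1
        have h1 : nn * ⟨x, hxY⟩ * nn⁻¹ ∈ (PS : Subgroup ↥Y) := (hPS _).mpr hx
        exact (hPS _).mp ((hnorm ⟨x, hxY⟩).mpr h1)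
    · intro v v' hvv'
      have h1 := congrFun (congrArg Subtype.val hnμ) v'
      have h2 : (((irrAct V Y hVn).smul nn μ₀ : IrrCharacter ↥V) : ↥V → ℂ) v' = (μ : ↥V → ℂ) v' := h1
      rw [irrAct_smul_apply] at h2
      rw [← h2]
      apply congrArg
      apply Subtype.ext
      show (nn : Γ)⁻¹ * (v' : Γ) * ((nn : Γ)⁻¹)⁻¹ = (v : Γ)
      rw [hvv']
      group
  · rintro ⟨n, hn, hconj⟩
    have hnY : n ∈ Y := ((hNY n).mp hn).1
    have hnV := hVn n hnY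
    have hnV' := inv_norm_of_norm hnV
    have e : (μ₀ : ↥V → ℂ) = (μ : ↥V → ℂ) ∘ conjN V n hnV hnV' := by
      funext v
      rw [Function.comp_apply]
      exact (hconj v _ (by rw [conjN_apply])).symm
    rw [e, resMult_conj_right hVY hnV hnV' (hχinv n hnY)] at hμ₀
    exact hμ₀

end Cfsg.Agent.Lib.H26.RO
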