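import Cfsg.Agent.Lib.H26.RODefs
import Cfsg.Agent.Lib.H26.ROORB
import Cfsg.Agent.Lib.H14.ROCOUNT
import Cfsg.Agent.Lib.H18.ROEQV
import Cfsg.Agent.Lib.H18.ROLSTEPa
import Cfsg.Agent.Lib.H22.ROEMPTY
import Cfsg.Agent.Lib.H6.ROQSTEP
import Cfsg.Agent.Lib.H4.ROKAMB
import Cfsg.Agent.Lib.H24.ROCLIFFIB
import Cfsg.Agent.Lib.H1.PCore
import Cfsg.Agent.Lib.H22.PPrimeCore
import Cfsg.Agent.Lib.H24.CharKer
import Cfsg.Agent.Lib.L0.CharLinear
import Cfsg.Agent.Lib.H26.CopFix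

/-!
# S4581: the induction step `MainAt ρ n → MainAt ρ (n+1)` (helper26)
-/

set_option autoImplicit false

universe u

namespace Cfsg.Agent.Lib.H26.RO

open Cfsg Cfsg.Agent.Lib.L0 Cfsg.Agent.Lib.H24 Cfsg.Agent.Lib.H24.Glaub
  Cfsg.Agent.Lib.H14.RO Cfsg.Agent.Lib.H18.RO Cfsg.Agent.Lib.H22.RO Cfsg.Agent.Lib.H6.RO
  Cfsg.Agent.Lib.H4.RO Cfsg.Agent.Lib.H24.RO

section aux

variable {Γ : Type u} [Group Γ] [Finite Γ]

theorem isNormIn_self {H P N : Subgroup Γ} (hN : IsNormIn H P N) : IsNormIn N P N := by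
  intro g
  constructor
  · intro hg
    exact ⟨hg, ((hN g).mp hg).2⟩
  · intro hg
    exact hg.1

theorem le_of_isNormIn {H P N : Subgroup Γ} (hN : IsNormIn H P N) : N ≤ H :=
  fun g hg => ((hN g).mp hg).1

theorem sylow_le_of_isNormIn {H P N : Subgroup Γ} (hN : IsNormIn H P N) (hPH : P ≤ H) : P ≤ N := by
  intro g hg
  rw [hN g]
  refine ⟨hPH hg, fun x => ⟨fun hx => P.mul_mem (P.mul_mem hg hx) (P.inv_mem hg), fun hx => ?_⟩⟩
  have := P.mul_mem (P.mul_mem (P.inv_mem hg) hx) hg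
  have e : g⁻¹ * (g * x * g⁻¹) * g = x := by group
  rwa [e] at this

theorem not_dvd_relIndex_of_le {P T H : Subgroup Γ} (hPT : P ≤ T) (hTH : T ≤ H)
    (hsyl : ¬ 2 ∣ P.relIndex H) : ¬ 2 ∣ P.relIndex T ∧ Odd (T.relIndex H) := by
  have h := Subgroup.relIndex_mul_relIndex P T H hPT hTH
  constructor
  · intro h2
    apply hsyl
    rw [← h]
    exact Dvd.dvd.mul_right h2 _
  · rw [← Nat.not_even_iff_odd, even_iff_two_dvd]
    intro h2
    apply hsyl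
    rw [← h]
    exact Dvd.dvd.mul_left h2 _

theorem card_cc_eq_of_trivial (ρ : Prop) (Y M : Subgroup Γ) (z : Γ) (hzY : z ∈ Y) (ζ : ℂ)
    (h : ∀ χ : IrrCharacter ↥Y, χ ∈ CC ρ ↥Y ⟨z, hzY⟩ ζ →
      ∀ m : ↥Y, (m : Γ) ∈ M → (χ : ↥Y → ℂ) m = (χ : ↥Y → ℂ) 1) :
    Nat.card (CC ρ ↥Y ⟨z, hzY⟩ ζ) =
      Nat.card {χ : IrrCharacter ↥Y // χ ∈ CC ρ ↥Y ⟨z, hzY⟩ ζ ∧
        ∀ m : ↥Y, (m : Γ) ∈ M → (χ : ↥Y → ℂ) m = (χ : ↥Y → ℂ) 1} := by
  apply Nat.card_congr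
  exact Equiv.subtypeEquivRight (fun χ => ⟨fun hh => ⟨hh, h χ hh⟩, fun hh => hh.1⟩)

theorem step_A (ρ : Prop) (n : ℕ) (hIH : MainAt.{u} ρ n) (hn1 : 1 ≤ n) (H P N : Subgroup Γ)
    (hcard : Nat.card H ≤ n + 1) (hsolv : Group.IsSolvable H) (hPH : P ≤ H) (hP : IsPGroup 2 P)
    (hsyl : ¬ 2 ∣ P.relIndex H) (hN : IsNormIn H P N) (hflag : ρ ∨ N = P)
    (z : Γ) (hzH : z ∈ H) (hzN : z ∈ N) (hzc : ∀ h ∈ H, h * z = z * h)
    (hz2 : ∃ k : ℕ, z ^ 2 ^ k = 1) (ζ : ℂ) (hK : pPrimeCore 2 ↥H ≠ ⊥) :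
    Nat.card (CC ρ ↥H ⟨z, hzH⟩ ζ) = Nat.card (CC ρ ↥N ⟨z, hzN⟩ ζ) := by
  classical
  set M : Subgroup Γ := (pPrimeCore 2 ↥H).map H.subtype with hMdef
  have hMH : M ≤ H := Subgroup.map_subtype_le _
  haveI hKn : (pPrimeCore 2 ↥H).Normal := Cfsg.Agent.Lib.H22.pPrimeCore_normal 2
  have hMn : ∀ h ∈ H, ∀ m ∈ M, h * m * h⁻¹ ∈ M := by
    intro h hh m hm
    obtain ⟨m', hm', rfl⟩ := hm
    refine ⟨⟨h, hh⟩ * m' * ⟨h, hh⟩⁻¹, hKn.conj_mem m' hm' ⟨h, hh⟩, rfl⟩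
  have hcM : Nat.card M = Nat.card (pPrimeCore 2 ↥H) :=
    Subgroup.card_map_of_injective (Subgroup.subtype_injective H)
  have hcop : (Nat.card M).Coprime 2 := by
    rw [hcM]
    exact Cfsg.Agent.Lib.H22.card_pPrimeCore_coprime 2
  have hMo : Odd (Nat.card M) := Nat.coprime_two_right.mp hcop
  have hM1 : Nat.card M ≠ 1 := by
    intro h1
    apply hK
    rw [hcM] at h1
    exact (Subgroup.card_eq_one).mp h1
  have hM3 : 3 ≤ Nat.card M := by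
    have h0 : 0 < Nat.card M := Nat.card_pos
    obtain ⟨k, hk⟩ := hMo
    omega
  have hcard' : Nat.card H ≤ n * Nat.card M := by
    calc Nat.card H ≤ n + 1 := hcard
      _ ≤ n * 3 := by omega
      _ ≤ n * Nat.card M := Nat.mul_le_mul_left n hM3
  have hzc' : ∀ h ∈ H, h * z * h⁻¹ * z⁻¹ ∈ M := by
    intro h hh
    have : h * z * h⁻¹ * z⁻¹ = 1 := by
      rw [hzc h hh]; group
    rw [this]
    exact M.one_mem
  have hq := qstep ρ n hIH H P N M hcard' hsolv hPH hP hsyl hN hflag hMH hMn (Or.inl hMo)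
    z hzH hzN hzc' hz2 ζ
  have hA := card_cc_eq_of_trivial ρ H M z hzH ζ
    (fun χ hχ => cc_trivial_on ρ H P N M hPH hP hN hflag hMH hMn hMo z hzH ζ χ hχ)
  -- the `N`-side
  have hNH : N ≤ H := le_of_isNormIn hN
  have hPN : P ≤ N := sylow_le_of_isNormIn hN hPH
  have hMNn : ∀ h ∈ N, ∀ m ∈ M ⊓ N, h * m * h⁻¹ ∈ M ⊓ N := by
    intro h hh m hm
    exact ⟨hMn h (hNH hh) m hm.1, N.mul_mem (N.mul_mem hh hm.2) (N.inv_mem hh)⟩
  have hMNo : Odd (Nat.card ↥(M ⊓ N)) := by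
    have hd : Nat.card ↥(M ⊓ N) ∣ Nat.card M := Subgroup.card_dvd_of_le inf_le_left
    exact Nat.coprime_two_right.mp (Nat.Coprime.coprime_dvd_left hd hcop)
  have hB := card_cc_eq_of_trivial ρ N M z hzN ζ
    (fun ξ hξ m hm => cc_trivial_on ρ N P N (M ⊓ N) hPN hP (isNormIn_self hN) hflag inf_le_right
      hMNn hMNo z hzN ζ ξ hξ m ⟨hm, m.2⟩)
  rw [hA, hB, hq]

/-- the fibres over a `P`-invariant `μ ∈ Irr(V)` have the same size -/
theorem fiber_eq (ρ : Prop) (n : ℕ) (hIH : MainAt.{u} ρ n) (hn1 : 1 ≤ n) (H P N V : Subgroup Γ)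
    (hcard : Nat.card H ≤ n + 1) (hsolv : Group.IsSolvable H) (hPH : P ≤ H) (hP : IsPGroup 2 P)
    (hsyl : ¬ 2 ∣ P.relIndex H) (hN : IsNormIn H P N) (hflag : ρ ∨ N = P)
    (z : Γ) (hzH : z ∈ H) (hzN : z ∈ N) (hzc : ∀ h ∈ H, h * z = z * h) (ζ : ℂ)
    (hK : pPrimeCore 2 ↥H = ⊥) (hNH' : N ≠ H)
    (hVdef : V = (pCore 2 ↥H).map H.subtype) (hVP : V ≤ P) (hzV : z ∈ V)
    (hVn : ∀ h ∈ H, ∀ v ∈ V, h * v * h⁻¹ ∈ V)
    (μ : IrrCharacter ↥V) (hμP : ∀ x ∈ P, InvUnder V x (μ : ↥V → ℂ)) :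
    Nat.card {χ : ↥(CC ρ ↥H ⟨z, hzH⟩ ζ) //
        Over (hVP.trans hPH) ((χ : IrrCharacter ↥H) : ↥H → ℂ) (μ : ↥V → ℂ)} =
      Nat.card {ξ : ↥(CC ρ ↥N ⟨z, hzN⟩ ζ) //
        Over (hVP.trans (sylow_le_of_isNormIn hN hPH)) ((ξ : IrrCharacter ↥N) : ↥N → ℂ)
          (μ : ↥V → ℂ)} := by
  classical
  have hNH : N ≤ H := le_of_isNormIn hN
  have hPN : P ≤ N := sylow_le_of_isNormIn hN hPH
  have hVH : V ≤ H := hVP.trans hPH
  have hVN : V ≤ N := hVP.trans hPN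
  have hV2 : IsPGroup 2 V := hP.to_le hVP
  have hVnN : ∀ h ∈ N, ∀ v ∈ V, h * v * h⁻¹ ∈ V := fun h hh => hVn h (hNH hh)
  have hzcN : ∀ y ∈ N, y * z = z * y := fun y hy => hzc y (hNH hy)
  have hsylN : ¬ 2 ∣ P.relIndex N := (not_dvd_relIndex_of_le hPN hNH hsyl).1
  by_cases hgood : (μ : ↥V → ℂ) 1 = 1 ∧ (μ : ↥V → ℂ) ⟨z, hzV⟩ = ζ ∧
      (ρ → ∀ v : ↥V, ((μ : ↥V → ℂ) v).im = 0)
  · obtain ⟨hμ1, hμz, hμr⟩ := hgood
    have hμc : IsCharacter ↥V (μ : ↥V → ℂ) := isCharacter_of_irr μ.2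
    have hμcf := isClassFunction_of_isCharacter hμc
    have hHnorm : H ≤ Subgroup.normalizer (V : Set Γ) := by
      haveI := Fintype.ofFinite Γ
      exact Cfsg.Agent.Lib.H26.CopFix.mem_normalizer_of_conj_mem V H hVn
    set T : Subgroup Γ := H ⊓ invStab V (μ : ↥V → ℂ) with hTdef
    set T₂ : Subgroup Γ := N ⊓ invStab V (μ : ↥V → ℂ) with hT₂def
    have hT : ∀ g : Γ, g ∈ T ↔ g ∈ H ∧ InvUnder V g (μ : ↥V → ℂ) := by
      intro g
      constructor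
      · intro hg; exact ⟨hg.1, hg.2.2⟩
      · intro hg; exact ⟨hg.1, hHnorm hg.1, hg.2⟩
    have hT₂ : ∀ g : Γ, g ∈ T₂ ↔ g ∈ N ∧ InvUnder V g (μ : ↥V → ℂ) := by
      intro g
      constructor
      · intro hg; exact ⟨hg.1, hg.2.2⟩
      · intro hg; exact ⟨hg.1, hHnorm (hNH hg.1), hg.2⟩
    have hTH : T ≤ H := inf_le_left
    have hT₂N : T₂ ≤ N := inf_le_left
    have hPT : P ≤ T := fun x hx => (hT x).mpr ⟨hPH hx, hμP x hx⟩
    have hPT₂ : P ≤ T₂ := fun x hx => (hT₂ x).mpr ⟨hPN hx, hμP x hx⟩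
    have hVT : V ≤ T := hVP.trans hPT
    have hVT₂ : V ≤ T₂ := hVP.trans hPT₂
    have hsT := not_dvd_relIndex_of_le hPT hTH hsyl
    have hsT₂ := not_dvd_relIndex_of_le hPT₂ hT₂N hsylN
    have c1 := card_fiber_eq_card_rh ρ H T V hVT hTH hVn μ hT hsT.2 z hzV hzc ζ hμ1 hμz hμr
    have c2 := card_fiber_eq_card_rh ρ N T₂ V hVT₂ hT₂N hVnN μ hT₂ hsT₂.2 z hzV hzcN ζ hμ1 hμz hμr
    -- the kernel of `μ`
    set L : Subgroup Γ := (charKer (μ : ↥V → ℂ) hμc).map V.subtype with hLdef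
    have hLV : L ≤ V := Subgroup.map_subtype_le _
    have hL : ∀ v : ↥V, (v : Γ) ∈ L ↔ (μ : ↥V → ℂ) v = 1 := by
      intro v
      rw [hLdef, ← hμ1]
      constructor
      · rintro ⟨w, hw, hwv⟩
        have : w = v := Subtype.ext hwv
        rw [← this]
        exact hw
      · intro hv
        exact ⟨v, hv, rfl⟩
    have hsolvT : Group.IsSolvable T :=
      Group.isSolvable_of_isSolvable_injective (f := Subgroup.inclusion hTH) (Subgroup.inclusion_injective hTH)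
    have hNT : IsNormIn T P T₂ := by
      intro g
      rw [hT₂ g, hT g, hN g]
      tauto
    have hflagT : ρ ∨ T₂ = P := by
      rcases hflag with h | h
      · exact Or.inl h
      · right
        apply le_antisymm _ hPT₂
        rw [← h]
        exact hT₂N
    have hVnT : ∀ t ∈ T, ∀ v ∈ V, t * v * t⁻¹ ∈ V := fun t ht => hVn t (hTH ht)
    have hμT : ∀ t ∈ T, InvUnder V t (μ : ↥V → ℂ) := fun t ht => ((hT t).mp ht).2
    have hcardT : Nat.card T ≤ n * Nat.card L := by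
      have hLpos : 0 < Nat.card L := Nat.card_pos
      by_cases hTeq : T = H
      · by_cases hL1 : L = ⊥
        · exfalso
          apply hNH'
          -- `V` is central in `H`
          have hcen : pCore 2 ↥H ≤ Subgroup.center ↥H := by
            intro v' hv'
            rw [Subgroup.mem_center_iff]
            intro h'
            have hvV : (v' : Γ) ∈ V := by rw [hVdef]; exact ⟨v', hv', rfl⟩
            have hhT : (h' : Γ) ∈ T := by rw [hTeq]; exact h'.2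
            have hc : (h' : Γ) * v' * (h' : Γ)⁻¹ ∈ V := hVn _ h'.2 _ hvV
            have hw : (h' : Γ) * v' * (h' : Γ)⁻¹ * (v' : Γ)⁻¹ ∈ V := V.mul_mem hc (V.inv_mem hvV)
            have h1 : (μ : ↥V → ℂ) ⟨(h' : Γ) * v' * (h' : Γ)⁻¹ * (v' : Γ)⁻¹, hw⟩ = 1 := by
              have e : (⟨(h' : Γ) * v' * (h' : Γ)⁻¹ * (v' : Γ)⁻¹, hw⟩ : ↥V) =
                  ⟨(h' : Γ) * v' * (h' : Γ)⁻¹, hc⟩ * ⟨(v' : Γ), hvV⟩⁻¹ := rfl
              rw [e, linear_char_mul hμc hμ1]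
              have e2 := hμT _ hhT ⟨(v' : Γ), hvV⟩ ⟨(h' : Γ) * v' * (h' : Γ)⁻¹, hc⟩ rfl
              rw [e2, ← linear_char_mul hμc hμ1, mul_inv_cancel, hμ1]
            have h2 := (hL ⟨_, hw⟩).mpr h1
            rw [hL1, Subgroup.mem_bot] at h2
            have h2' : (h' : Γ) * v' * (h' : Γ)⁻¹ * (v' : Γ)⁻¹ = 1 := h2
            apply Subtype.ext
            have h3 : (h' : Γ) * v' = v' * h' := by
              calc (h' : Γ) * v' = ((h' : Γ) * v' * (h' : Γ)⁻¹ * (v' : Γ)⁻¹) * (v' * h') := by group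
                _ = v' * h' := by rw [h2', one_mul]
            exact h3
          have htop := pCore_eq_top_of_central hsolv hK hcen
          have hVeq : V = H := by
            rw [hVdef, htop]
            ext x
            constructor
            · rintro ⟨y, -, rfl⟩; exact y.2
            · intro hx; exact ⟨⟨x, hx⟩, Subgroup.mem_top _, rfl⟩
          apply le_antisymm hNH
          rw [← hVeq]
          exact hVN
        · have hL2 : 2 ≤ Nat.card L := by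
            have : Nat.card L ≠ 1 := fun h1 => hL1 (Subgroup.card_eq_one.mp h1)
            omega
          calc Nat.card T = Nat.card H := by rw [hTeq]
            _ ≤ n + 1 := hcard
            _ ≤ n * 2 := by omega
            _ ≤ n * Nat.card L := Nat.mul_le_mul_left n hL2
      · have hd : Nat.card T ∣ Nat.card H := Subgroup.card_dvd_of_le hTH
        obtain ⟨k, hk⟩ := hd
        have hTpos : 0 < Nat.card T := Nat.card_pos
        have hk2 : 2 ≤ k := by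
          rcases k with _ | _ | k
          · have : 0 < Nat.card H := Nat.card_pos
            rw [Nat.mul_zero] at hk
            omega
          · exfalso
            apply hTeq
            apply Subgroup.eq_of_le_of_card_ge hTH
            rw [hk]; simp
          · omega
        have : Nat.card T * 2 ≤ n + 1 := by
          calc Nat.card T * 2 ≤ Nat.card T * k := Nat.mul_le_mul_left _ hk2
            _ = Nat.card H := hk.symm
            _ ≤ n + 1 := hcard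
        calc Nat.card T ≤ n := by omega
          _ = n * 1 := (mul_one n).symm
          _ ≤ n * Nat.card L := Nat.mul_le_mul_left n hLpos
    have c3 := card_rh_eq_of_qstep
      (fun ρ n hIH H P N M a b c d e f g h i j z k l m o ζ =>
        qstep ρ n hIH H P N M a b c d e f g h i j z k l m o ζ) ρ n hIH T P T₂ V L hsolvT hVP hPT hP hsT.1 hNT hflagT hVnT μ hμ1 hμT
      hL hLV hcardT hPT₂
    calc Nat.card {χ : ↥(CC ρ ↥H ⟨z, hzH⟩ ζ) //
          Over (hVP.trans hPH) ((χ : IrrCharacter ↥H) : ↥H → ℂ) (μ : ↥V → ℂ)}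
        = Nat.card {χ : IrrCharacter ↥H // χ ∈ CC ρ ↥H ⟨z, hzH⟩ ζ ∧
            Over (hVP.trans hPH) (χ : ↥H → ℂ) (μ : ↥V → ℂ)} :=
          Nat.card_congr (Equiv.subtypeSubtypeEquivSubtypeInter
            (fun χ : IrrCharacter ↥H => χ ∈ CC ρ ↥H ⟨z, hzH⟩ ζ)
            (fun χ => Over (hVP.trans hPH) (χ : ↥H → ℂ) (μ : ↥V → ℂ)))
      _ = Nat.card (RH ρ hVT (μ : ↥V → ℂ)) := c1
      _ = Nat.card (RH ρ hVT₂ (μ : ↥V → ℂ)) := c3
      _ = Nat.card {ξ : IrrCharacter ↥N // ξ ∈ CC ρ ↥N ⟨z, hzN⟩ ζ ∧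
            Over (hVP.trans hPN) (ξ : ↥N → ℂ) (μ : ↥V → ℂ)} := c2.symm
      _ = _ := (Nat.card_congr (Equiv.subtypeSubtypeEquivSubtypeInter
            (fun ξ : IrrCharacter ↥N => ξ ∈ CC ρ ↥N ⟨z, hzN⟩ ζ)
            (fun ξ => Over (hVP.trans hPN) (ξ : ↥N → ℂ) (μ : ↥V → ℂ)))).symm
  · -- both fibres are empty
    have e1 : IsEmpty {χ : ↥(CC ρ ↥H ⟨z, hzH⟩ ζ) //
        Over (hVP.trans hPH) ((χ : IrrCharacter ↥H) : ↥H → ℂ) (μ : ↥V → ℂ)} := by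
      constructor
      rintro ⟨χ, hov⟩
      exact hgood (constituent_props ρ H V hVH hV2 hVn z hzV hzc ζ χ.1 χ.2 μ hov)
    have e2 : IsEmpty {ξ : ↥(CC ρ ↥N ⟨z, hzN⟩ ζ) //
        Over (hVP.trans hPN) ((ξ : IrrCharacter ↥N) : ↥N → ℂ) (μ : ↥V → ℂ)} := by
      constructor
      rintro ⟨ξ, hov⟩
      exact hgood (constituent_props ρ N V hVN hV2 hVnN z hzV hzcN ζ ξ.1 ξ.2 μ hov)
    rw [Nat.card_of_isEmpty, Nat.card_of_isEmpty]

theorem step_B (ρ : Prop) (n : ℕ) (hIH : MainAt.{u} ρ n) (hn1 : 1 ≤ n) (H P N : Subgroup Γ)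
    (hcard : Nat.card H ≤ n + 1) (hsolv : Group.IsSolvable H) (hPH : P ≤ H) (hP : IsPGroup 2 P)
    (hsyl : ¬ 2 ∣ P.relIndex H) (hN : IsNormIn H P N) (hflag : ρ ∨ N = P)
    (z : Γ) (hzH : z ∈ H) (hzN : z ∈ N) (hzc : ∀ h ∈ H, h * z = z * h)
    (hz2 : ∃ k : ℕ, z ^ 2 ^ k = 1) (ζ : ℂ) (hK : pPrimeCore 2 ↥H = ⊥) (hNH' : N ≠ H) :
    Nat.card (CC ρ ↥H ⟨z, hzH⟩ ζ) = Nat.card (CC ρ ↥N ⟨z, hzN⟩ ζ) := by
  classical
  haveI : Fact (Nat.Prime 2) := ⟨Nat.prime_two⟩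
  have hNH : N ≤ H := le_of_isNormIn hN
  have hPN : P ≤ N := sylow_le_of_isNormIn hN hPH
  set V : Subgroup Γ := (pCore 2 ↥H).map H.subtype with hVdef
  have hVH : V ≤ H := Subgroup.map_subtype_le _
  haveI hVnorm : (pCore 2 ↥H).Normal := Cfsg.Agent.Lib.H1.pCore_normal 2 ↥H
  have hVn : ∀ h ∈ H, ∀ v ∈ V, h * v * h⁻¹ ∈ V := by
    intro h hh m hm
    obtain ⟨m', hm', rfl⟩ := hm
    refine ⟨⟨h, hh⟩ * m' * ⟨h, hh⟩⁻¹, hVnorm.conj_mem m' hm' ⟨h, hh⟩, rfl⟩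
  -- `V ≤ P`
  have hVP : V ≤ P := by
    have hP' : IsPGroup 2 (P.subgroupOf H) := hP.comap_subtype
    let PS : Sylow 2 ↥H := hP'.toSylow hsyl
    have hle := Cfsg.Agent.Lib.H1.pCore_le_sylow PS
    rintro _ ⟨v, hv, rfl⟩
    have h1 : v ∈ (PS : Subgroup ↥H) := hle hv
    have h2 : v ∈ P.subgroupOf H := (IsPGroup.mem_toSylow hP' hsyl).mp h1
    exact Subgroup.mem_subgroupOf.mp h2
  -- `z ∈ V`
  have hzV : z ∈ V := by
    set z' : ↥H := ⟨z, hzH⟩ with hz'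
    have hz'c : ∀ h : ↥H, h * z' = z' * h := fun h => Subtype.ext (hzc h h.2)
    have hZn : (Subgroup.zpowers z').Normal := by
      constructor
      intro a ha g
      obtain ⟨j, rfl⟩ := Subgroup.mem_zpowers_iff.mp ha
      have hcomm : Commute g z' := hz'c g
      have : g * z' ^ j * g⁻¹ = z' ^ j := by
        rw [(hcomm.zpow_right j).eq, mul_inv_cancel_right]
      rw [this]
      exact Subgroup.zpow_mem_zpowers z' j
    have hZp : IsPGroup 2 (Subgroup.zpowers z') := by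
      obtain ⟨k, hk⟩ := hz2
      intro a
      obtain ⟨j, hj⟩ := Subgroup.mem_zpowers_iff.mp a.2
      refine ⟨k, ?_⟩
      apply Subtype.ext
      have hz'k : z' ^ 2 ^ k = 1 := Subtype.ext (by simpa using hk)
      show ((a : ↥H) ^ 2 ^ k) = 1
      rw [← hj, ← zpow_natCast, ← zpow_mul, mul_comm, zpow_mul, zpow_natCast, hz'k, one_zpow]
    have hle := Cfsg.Agent.Lib.H1.le_pCore hZn hZp
    exact ⟨z', hle (Subgroup.mem_zpowers z'), rfl⟩
  have hVN : V ≤ N := hVP.trans hPN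
  have hVnN : ∀ h ∈ N, ∀ v ∈ V, h * v * h⁻¹ ∈ V := fun h hh => hVn h (hNH hh)
  have hsylN : ¬ 2 ∣ P.relIndex N := (not_dvd_relIndex_of_le hPN hNH hsyl).1
  haveI : Finite (IrrCharacter ↥V) := finite_irr
  haveI : Finite (IrrCharacter ↥H) := finite_irr
  haveI : Finite (IrrCharacter ↥N) := finite_irr
  let Ω := {μ : IrrCharacter ↥V // ∀ x ∈ P, InvUnder V x (μ : ↥V → ℂ)}
  let s : Ω → Ω → Prop := fun μ μ' => NConj V N (μ.1 : ↥V → ℂ) (μ'.1 : ↥V → ℂ)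
  have hs : Equivalence s := by
    have he := nconj_equivalence V N hVnN
    exact ⟨fun a => he.refl _, fun h => he.symm h, fun h1 h2 => he.trans h1 h2⟩
  apply card_eq_of_fibers s hs
    (fun (χ : ↥(CC ρ ↥H ⟨z, hzH⟩ ζ)) (μ : Ω) =>
      Over (hVP.trans hPH) ((χ : IrrCharacter ↥H) : ↥H → ℂ) ((μ : IrrCharacter ↥V) : ↥V → ℂ))
    (fun (ξ : ↥(CC ρ ↥N ⟨z, hzN⟩ ζ)) (μ : Ω) =>
      Over (hVP.trans hPN) ((ξ : IrrCharacter ↥N) : ↥N → ℂ) ((μ : IrrCharacter ↥V) : ↥V → ℂ))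
  · intro χ
    obtain ⟨μ₀, hμ₀, hiff⟩ := orb H P N V hVP hPH hP hsyl hN hVn χ.1 χ.2.1
    exact ⟨⟨μ₀, hμ₀⟩, fun μ => hiff μ.1 μ.2⟩
  · intro ξ
    obtain ⟨μ₀, hμ₀, hiff⟩ := orb N P N V hVP hPN hP hsylN (isNormIn_self hN) hVnN ξ.1 ξ.2.1
    exact ⟨⟨μ₀, hμ₀⟩, fun μ => hiff μ.1 μ.2⟩
  · intro μ
    exact fiber_eq ρ n hIH hn1 H P N V hcard hsolv hPH hP hsyl hN hflag z hzH hzN hzc ζ hK hNH'
      hVdef hVP hzV hVn μ.1 μ.2

end aux

/-- **The induction step.** -/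
theorem mainAt_succ' (ρ : Prop) (n : ℕ) (hIH : MainAt.{u} ρ n) : MainAt.{u} ρ (n + 1) := by
  intro Γ _ _ H P N hcard hsolv hPH hP hsyl hN hflag z hzH hzN hzc hz2 ζ
  by_cases hNH : N = H
  · subst hNH
    rfl
  have hn1 : 1 ≤ n := by
    by_contra hn
    have hn0 : n = 0 := by omega
    subst hn0
    apply hNH
    have h1 : Nat.card H = 1 := by
      have : 0 < Nat.card H := Nat.card_pos
      omega
    have hHbot : H = ⊥ := Subgroup.card_eq_one.mp h1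
    apply le_antisymm (le_of_isNormIn hN)
    rw [hHbot]
    exact bot_le
  by_cases hK : pPrimeCore 2 ↥H = ⊥
  · exact step_B ρ n hIH hn1 H P N hcard hsolv hPH hP hsyl hN hflag z hzH hzN hzc hz2 ζ hK hNH
  · exact step_A ρ n hIH hn1 H P N hcard hsolv hPH hP hsyl hN hflag z hzH hzN hzc hz2 ζ hK

end Cfsg.Agent.Lib.H26.RO
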