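import Mathlib
import Cfsg.Agent.Lib.H20.IndexCoprime

/-!
# Abstract Clifford/determinant systems (helper26)

An abstract structure capturing what Clifford's theorem and the determinant give for the
irreducible characters `I` of a normal subgroup `N ≤ G'` of `G`, with `L` the group of linear
characters of `N`.  Used for Isaacs' theorem on the relative degree graph.
-/

set_option autoImplicit false

namespace Cfsg.Agent.Lib.H26.RelDeg

open MulAction

/-- Abstract Clifford/determinant system. -/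
structure Sys (G I L : Type*) [Group G] [CommGroup L] [MulAction G I]
    [MulDistribMulAction G L] where
  deg : I → ℕ
  det : I → L
  tw : I → L → I
  lin : L → I
  D : I → Set ℕ
  deg_smul : ∀ (g : G) (θ : I), deg (g • θ) = deg θ
  det_smul : ∀ (g : G) (θ : I), det (g • θ) = g • det θ
  tw_smul : ∀ (g : G) (θ : I) (l : L), g • tw θ l = tw (g • θ) (g • l)
  deg_tw : ∀ (θ : I) (l : L), deg (tw θ l) = deg θ
  det_tw : ∀ (θ : I) (l : L), det (tw θ l) = det θ * l ^ deg θ
  tw_one : ∀ θ : I, tw θ 1 = θ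
  tw_tw : ∀ (θ : I) (l m : L), tw (tw θ l) m = tw θ (l * m)
  deg_lin : ∀ l : L, deg (lin l) = 1
  det_lin : ∀ l : L, det (lin l) = l
  tw_lin : ∀ l m : L, tw (lin l) m = lin (l * m)
  lin_smul : ∀ (g : G) (l : L), g • lin l = lin (g • l)
  lin_det : ∀ θ : I, deg θ = 1 → lin (det θ) = θ
  D_nonempty : ∀ θ : I, (D θ).Nonempty
  D_pos : ∀ (θ : I) (c : ℕ), c ∈ D θ → 0 < c
  D_spec : ∀ (θ : I) (c : ℕ), c ∈ D θ → ∃ (O : Finset I) (e : ℕ),
      (O : Set I) = MulAction.orbit G θ ∧ c = e * O.card * deg θ ∧ (∏ a ∈ O, det a) ^ e = 1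

section general

variable {G : Type*} [Group G]

/-- Orbit sizes: a stabilizer inclusion gives divisibility of orbit sizes. -/
theorem ncard_orbit_dvd {X Y : Type*} [MulAction G X] [MulAction G Y] (a : X) (b : Y)
    (h : stabilizer G a ≤ stabilizer G b) : (orbit G b).ncard ∣ (orbit G a).ncard := by
  rw [← index_stabilizer, ← index_stabilizer]
  exact Subgroup.index_dvd_of_le h

theorem ncard_orbit_pos [Finite G] {X : Type*} [MulAction G X] (a : X) :
    0 < (orbit G a).ncard := by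
  rw [← index_stabilizer]
  exact Nat.pos_of_ne_zero Subgroup.index_ne_zero_of_finite

theorem finite_orbit [Finite G] {X : Type*} [MulAction G X] (a : X) : (orbit G a).Finite :=
  Set.finite_range _

theorem ncard_orbit_eq_one_iff [Finite G] {X : Type*} [MulAction G X] (a : X) :
    (orbit G a).ncard = 1 ↔ ∀ g : G, g • a = a := by
  rw [Set.ncard_eq_one]
  constructor
  · rintro ⟨b, hb⟩ g
    have h1 : g • a ∈ orbit G a := mem_orbit a g
    have h2 : a ∈ orbit G a := mem_orbit_self a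
    rw [hb] at h1 h2
    rw [Set.mem_singleton_iff] at h1 h2
    rw [h1, h2]
  · intro h
    refine ⟨a, ?_⟩
    ext b
    constructor
    · rintro ⟨g, rfl⟩
      exact h g
    · intro hb
      rw [Set.mem_singleton_iff] at hb
      rw [hb]
      exact mem_orbit_self a

theorem one_lt_ncard_orbit [Finite G] {X : Type*} [MulAction G X] (a : X) (g : G)
    (h : g • a ≠ a) : 1 < (orbit G a).ncard := by
  have h1 := ncard_orbit_pos (G := G) a
  have h2 : (orbit G a).ncard ≠ 1 := fun h3 => h ((ncard_orbit_eq_one_iff a).mp h3 g)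
  omega

/-- An element killed by two coprime exponents is trivial. -/
theorem eq_one_of_pow_of_pow {L : Type*} [Group L] (x : L) (a b : ℕ) (ha : x ^ a = 1)
    (hb : x ^ b = 1) (hab : Nat.Coprime a b) : x = 1 := by
  have h1 : orderOf x ∣ Nat.gcd a b :=
    Nat.dvd_gcd (orderOf_dvd_of_pow_eq_one ha) (orderOf_dvd_of_pow_eq_one hb)
  rw [hab] at h1
  exact orderOf_eq_one_iff.mp (Nat.dvd_one.mp h1)

end general

section sys

variable {G I L : Type*} [Group G] [CommGroup L] [MulAction G I] [MulDistribMulAction G L]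
  [Finite G] [Finite L]

/-- The `s`-part of `|L|`. -/
noncomputable def PP (L : Type*) (s : ℕ) : ℕ := s ^ (Nat.card L).factorization s

/-- The `s'`-part of `|L|`. -/
noncomputable def MM (L : Type*) (s : ℕ) : ℕ := Nat.card L / PP L s

theorem PP_mul_MM (s : ℕ) : PP L s * MM L s = Nat.card L :=
  Nat.ordProj_mul_ordCompl_eq_self _ _

theorem coprime_s_MM {s : ℕ} (hs : s.Prime) : Nat.Coprime s (MM L s) :=
  Nat.coprime_ordCompl hs (Nat.card_pos.ne')

theorem coprime_PP_MM {s : ℕ} (hs : s.Prime) : Nat.Coprime (PP L s) (MM L s) :=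
  Nat.Coprime.pow_left _ (coprime_s_MM hs)

theorem pow_PP_MM (s : ℕ) (x : L) : x ^ (PP L s * MM L s) = 1 := by
  rw [PP_mul_MM]; exact pow_card_eq_one'

theorem coprime_PP_of_not_dvd {s : ℕ} (hs : s.Prime) {n : ℕ} (h : ¬ s ∣ n) :
    Nat.Coprime n (PP L s) :=
  Nat.Coprime.pow_right _ ((Nat.Prime.coprime_iff_not_dvd hs).mpr h).symm

/-- `μ` has `s`-power order. -/
def Sp (s : ℕ) (μ : L) : Prop := μ ^ PP L s = 1

theorem Sp.one (s : ℕ) : Sp s (1 : L) := one_pow _

theorem Sp.mul {s : ℕ} {a b : L} (ha : Sp s a) (hb : Sp s b) : Sp s (a * b) := by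
  unfold Sp at *; rw [mul_pow, ha, hb, one_mul]

theorem Sp.inv {s : ℕ} {a : L} (ha : Sp s a) : Sp s a⁻¹ := by
  unfold Sp at *; rw [inv_pow, ha, inv_one]

theorem Sp.smul {s : ℕ} {a : L} (ha : Sp s a) (g : G) : Sp s (g • a) := by
  unfold Sp at *; rw [← smul_pow', ha, smul_one]

theorem Sp.pow {s : ℕ} {a : L} (ha : Sp s a) (n : ℕ) : Sp s (a ^ n) := by
  unfold Sp at *; rw [← pow_mul, mul_comm, pow_mul, ha, one_pow]

namespace Sys

variable (S : Sys G I L)

/-- The vertex set: degrees lying over a nontrivial member of `I`. -/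
def V : Set ℕ := {c | ∃ θ, θ ≠ S.lin 1 ∧ c ∈ S.D θ}

/-- `θ` is `s`-canonical: degree prime to `s` and determinant of order prime to `s`. -/
def Can (s : ℕ) (θ : I) : Prop := ¬ s ∣ S.deg θ ∧ S.det θ ^ MM L s = 1

theorem D_dvd {θ : I} {c : ℕ} (hc : c ∈ S.D θ) : (orbit G θ).ncard * S.deg θ ∣ c := by
  obtain ⟨O, e, hO, hce, -⟩ := S.D_spec θ c hc
  rw [← hO, Set.ncard_coe_finset, hce, mul_assoc]
  exact Dvd.intro_left _ rfl

theorem deg_dvd {θ : I} {c : ℕ} (hc : c ∈ S.D θ) : S.deg θ ∣ c :=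
  (Dvd.intro_left _ rfl).trans (S.D_dvd hc)

theorem ncard_dvd {θ : I} {c : ℕ} (hc : c ∈ S.D θ) : (orbit G θ).ncard ∣ c :=
  (Dvd.intro _ rfl).trans (S.D_dvd hc)

theorem lin_injective : Function.Injective S.lin := by
  intro a b h
  have := congrArg S.det h
  rwa [S.det_lin, S.det_lin] at this

theorem tw_injective (l : L) : Function.Injective (fun a => S.tw a l) := by
  intro a b h
  have h1 : S.tw (S.tw a l) l⁻¹ = S.tw (S.tw b l) l⁻¹ := congrArg (fun x => S.tw x l⁻¹) h
  rwa [S.tw_tw, S.tw_tw, mul_inv_cancel, S.tw_one, S.tw_one] at h1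

/-- The determinant trick. -/
theorem pstar (l : L) (hl : ∀ g : G, g • l = l) (θ : I) (c : ℕ) (hc : c ∈ S.D (S.tw θ l))
    (m : ℕ) (O : Finset I) (hO : (O : Set I) = orbit G θ)
    (hm : (∏ a ∈ O, S.det a) ^ m = 1) : l ^ (c * m) = 1 := by
  classical
  obtain ⟨O', e, hO', hce, hdet⟩ := S.D_spec _ _ hc
  have himg : O' = O.image (fun a => S.tw a l) := by
    apply Finset.coe_injective
    rw [hO', Finset.coe_image, hO]
    ext x
    constructor
    · rintro ⟨g, rfl⟩
      refine ⟨g • θ, mem_orbit θ g, ?_⟩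
      show S.tw (g • θ) l = g • S.tw θ l
      rw [S.tw_smul, hl]
    · rintro ⟨a, ⟨g, rfl⟩, rfl⟩
      refine ⟨g, ?_⟩
      show g • S.tw θ l = S.tw (g • θ) l
      rw [S.tw_smul, hl]
  have hdeg : ∀ a ∈ O, S.deg a = S.deg θ := by
    intro a ha
    have : a ∈ (O : Set I) := ha
    rw [hO] at this
    obtain ⟨g, rfl⟩ := this
    exact S.deg_smul g θ
  have hprod : ∏ a ∈ O', S.det a = (∏ a ∈ O, S.det a) * l ^ (S.deg θ * O.card) := by
    rw [himg, Finset.prod_image (fun a _ b _ h => S.tw_injective l h)]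
    rw [Finset.prod_congr rfl (fun a ha => by rw [S.det_tw, hdeg a ha])]
    rw [Finset.prod_mul_distrib, Finset.prod_const, ← pow_mul]
  have hcard : O'.card = O.card := by
    rw [himg, Finset.card_image_of_injective _ (S.tw_injective l)]
  rw [hprod, mul_pow] at hdet
  have h2 := congrArg (fun x => x ^ m) hdet
  simp only [one_pow, mul_pow] at h2
  rw [← pow_mul, mul_comm e m, pow_mul, hm, one_pow, one_mul, ← pow_mul, ← pow_mul] at h2
  rw [hce, hcard, S.deg_tw]
  have : e * O.card * S.deg θ * m = S.deg θ * O.card * (e * m) := by ring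
  rw [this]
  exact h2

theorem exists_orb (θ : I) : ∃ O : Finset I, (O : Set I) = orbit G θ :=
  ⟨(finite_orbit θ).toFinset, Set.Finite.coe_toFinset _⟩

/-- The determinant trick when `det θ` is killed by `m`. -/
theorem pstar_pow (l : L) (hl : ∀ g : G, g • l = l) (θ : I) (c : ℕ) (hc : c ∈ S.D (S.tw θ l))
    (m : ℕ) (hm : S.det θ ^ m = 1) : l ^ (c * m) = 1 := by
  obtain ⟨O, hO⟩ := exists_orb (G := G) θ
  refine S.pstar l hl θ c hc m O hO ?_
  rw [← Finset.prod_pow]
  apply Finset.prod_eq_one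
  intro a ha
  have : a ∈ (O : Set I) := ha
  rw [hO] at this
  obtain ⟨g, rfl⟩ := this
  rw [S.det_smul, ← smul_pow', hm, smul_one]

end Sys

end sys

end Cfsg.Agent.Lib.H26.RelDeg
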