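import Mathlib
import Cfsg.Agent.Lib.H26.RelDegA

/-!
# Abstract Clifford/determinant systems: canonical decomposition, hubs (helper26)
-/

set_option autoImplicit false

namespace Cfsg.Agent.Lib.H26.RelDeg

open MulAction

theorem one_lt_gcd_of_dvd {d a b : ℕ} (hd : 1 < d) (ha : d ∣ a) (hb : d ∣ b) (hpos : 0 < a) :
    1 < Nat.gcd a b := by
  have h1 : d ∣ Nat.gcd a b := Nat.dvd_gcd ha hb
  have h2 : 0 < Nat.gcd a b := Nat.gcd_pos_of_pos_left _ hpos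
  exact lt_of_lt_of_le hd (Nat.le_of_dvd h2 h1)

variable {G I L : Type*} [Group G] [CommGroup L] [MulAction G I] [MulDistribMulAction G L]
  [Finite G] [Finite L]

namespace Sys

variable (S : Sys G I L)

theorem stab_tw_le {s : ℕ} (hs : s.Prime) {θ : I} (hθ : S.Can s θ) {μ : L} (hμ : Sp s μ) :
    stabilizer G (S.tw θ μ) ≤ stabilizer G θ ⊓ stabilizer G μ := by
  intro g hg
  rw [mem_stabilizer_iff, S.tw_smul] at hg
  have h1 := congrArg S.det hg
  rw [S.det_tw, S.det_tw, S.deg_smul, S.det_smul] at h1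
  have hρ : Sp s ((g • μ) * μ⁻¹) := (hμ.smul g).mul hμ.inv
  have hρn : ((g • μ) * μ⁻¹) ^ S.deg θ = S.det θ * (g • S.det θ)⁻¹ := by
    rw [mul_pow, inv_pow]
    have h2 : (g • μ) ^ S.deg θ = (g • S.det θ)⁻¹ * (S.det θ * μ ^ S.deg θ) :=
      eq_inv_mul_of_mul_eq h1
    rw [h2, mul_assoc, mul_assoc, mul_inv_cancel, mul_one, mul_comm]
  have hρM : ((g • μ) * μ⁻¹) ^ (S.deg θ * MM L s) = 1 := by
    rw [pow_mul, hρn, mul_pow, inv_pow, ← smul_pow', hθ.2, smul_one, inv_one, mul_one]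
  have hcop : Nat.Coprime (PP L s) (S.deg θ * MM L s) :=
    Nat.Coprime.mul_right (coprime_PP_of_not_dvd hs hθ.1).symm (coprime_PP_MM hs)
  have hρ1 : (g • μ) * μ⁻¹ = 1 := eq_one_of_pow_of_pow _ _ _ hρ hρM hcop
  have hgμ : g • μ = μ := mul_inv_eq_one.mp hρ1
  rw [hgμ] at hg
  have hgθ : g • θ = θ := S.tw_injective μ hg
  exact ⟨hgθ, hgμ⟩

theorem exists_decomp {s : ℕ} (hs : s.Prime) (θ : I) (h : ¬ s ∣ S.deg θ) :
    ∃ (θ' : I) (μ : L), S.Can s θ' ∧ Sp s μ ∧ S.tw θ' μ = θ := by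
  have hcop : Nat.Coprime (MM L s * S.deg θ) (PP L s) :=
    Nat.Coprime.mul_left (coprime_PP_MM hs).symm (coprime_PP_of_not_dvd hs h)
  have hb := Nat.gcd_eq_gcd_ab (MM L s * S.deg θ) (PP L s)
  rw [hcop] at hb
  push_cast at hb
  set α := Nat.gcdA (MM L s * S.deg θ) (PP L s) with hα
  set β := Nat.gcdB (MM L s * S.deg θ) (PP L s) with hβ
  have hPM : ∀ (x : L) (k : ℤ), x ^ (((PP L s : ℕ) : ℤ) * (MM L s : ℕ) * k) = 1 := by
    intro x k
    have : ((PP L s : ℕ) : ℤ) * (MM L s : ℕ) = ((PP L s * MM L s : ℕ) : ℤ) := by push_cast; ring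
    rw [this, zpow_mul, zpow_natCast, pow_PP_MM, one_zpow]
  have hμ : Sp s (S.det θ ^ ((MM L s : ℤ) * α)) := by
    show (S.det θ ^ ((MM L s : ℤ) * α)) ^ PP L s = 1
    rw [← zpow_natCast, ← zpow_mul]
    have : (MM L s : ℤ) * α * (PP L s : ℕ) = ((PP L s : ℕ) : ℤ) * (MM L s : ℕ) * α := by ring
    rw [this]
    exact hPM _ _
  refine ⟨S.tw θ (S.det θ ^ ((MM L s : ℤ) * α))⁻¹, S.det θ ^ ((MM L s : ℤ) * α), ⟨?_, ?_⟩, hμ, ?_⟩
  · rw [S.deg_tw]; exact h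
  · rw [S.det_tw]
    have h1 : S.det θ * ((S.det θ ^ ((MM L s : ℤ) * α))⁻¹) ^ S.deg θ
        = S.det θ ^ (((PP L s : ℕ) : ℤ) * β) := by
      rw [inv_pow, ← zpow_natCast (S.det θ ^ ((MM L s : ℤ) * α)) (S.deg θ), ← zpow_mul,
        ← zpow_neg]
      nth_rewrite 1 [← zpow_one (S.det θ)]
      rw [← zpow_add]
      congr 1
      linarith [hb]
    rw [h1, ← zpow_natCast, ← zpow_mul]
    have : ((PP L s : ℕ) : ℤ) * β * (MM L s : ℕ) = ((PP L s : ℕ) : ℤ) * (MM L s : ℕ) * β := by ring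
    rw [this]
    exact hPM _ _
  · rw [S.tw_tw, inv_mul_cancel, S.tw_one]

theorem tw_ne_lin_one {s : ℕ} (hs : s.Prime) {ν : L} (hν : Sp s ν) (hν1 : ν ≠ 1) {θ₁ : I}
    (h₁ : S.Can s θ₁) : S.tw θ₁ ν ≠ S.lin 1 := by
  intro h
  have hdeg : S.deg θ₁ = 1 := by
    have := congrArg S.deg h
    rwa [S.deg_tw, S.deg_lin] at this
  have hdet := congrArg S.det h
  rw [S.det_tw, S.det_lin, hdeg, pow_one] at hdet
  have hν2 : ν = (S.det θ₁)⁻¹ := eq_inv_of_mul_eq_one_right hdet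
  have hνM : ν ^ MM L s = 1 := by rw [hν2, inv_pow, h₁.2, inv_one]
  exact hν1 (eq_one_of_pow_of_pow ν _ _ hν hνM (coprime_PP_MM hs))

/-- Two degrees lying over twists by the same nontrivial `ν` of `s`-power order of canonical
characters have a common divisor. -/
theorem hub {s : ℕ} (hs : s.Prime) {ν : L} (hν : Sp s ν) (hν1 : ν ≠ 1) {θ₁ θ₂ : I}
    (h₁ : S.Can s θ₁) (h₂ : S.Can s θ₂) {c₁ c₂ : ℕ} (hc₁ : c₁ ∈ S.D (S.tw θ₁ ν))
    (hc₂ : c₂ ∈ S.D (S.tw θ₂ ν)) : 1 < Nat.gcd c₁ c₂ := by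
  by_cases hinv : ∀ g : G, g • ν = ν
  · have key : ∀ (θ : I), S.Can s θ → ∀ c, c ∈ S.D (S.tw θ ν) → s ∣ c := by
      intro θ hθ c hc
      by_contra hsc
      have h1 := S.pstar_pow ν hinv θ c hc (MM L s) hθ.2
      have hcop : Nat.Coprime (PP L s) (c * MM L s) :=
        Nat.Coprime.mul_right (coprime_PP_of_not_dvd hs hsc).symm (coprime_PP_MM hs)
      exact hν1 (eq_one_of_pow_of_pow ν _ _ hν h1 hcop)
    exact one_lt_gcd_of_dvd hs.one_lt (key θ₁ h₁ c₁ hc₁) (key θ₂ h₂ c₂ hc₂) (S.D_pos _ _ hc₁)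
  · push_neg at hinv
    obtain ⟨g, hg⟩ := hinv
    have ht : 1 < (orbit G ν).ncard := one_lt_ncard_orbit ν g hg
    have key : ∀ (θ : I), S.Can s θ → ∀ c, c ∈ S.D (S.tw θ ν) → (orbit G ν).ncard ∣ c := by
      intro θ hθ c hc
      exact (ncard_orbit_dvd (S.tw θ ν) ν ((S.stab_tw_le hs hθ hν).trans inf_le_right)).trans
        (S.ncard_dvd hc)
    exact one_lt_gcd_of_dvd ht (key θ₁ h₁ c₁ hc₁) (key θ₂ h₂ c₂ hc₂) (S.D_pos _ _ hc₁)

/-- Degrees over two twists of the same nontrivial canonical character have a common divisor. -/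
theorem touch {s : ℕ} (hs : s.Prime) {θ : I} (hθ : S.Can s θ) (hθ1 : θ ≠ S.lin 1) {μ ν : L}
    (hμ : Sp s μ) (hν : Sp s ν) {x c : ℕ} (hx : x ∈ S.D (S.tw θ μ))
    (hc : c ∈ S.D (S.tw θ ν)) : 1 < Nat.gcd x c := by
  have hxpos := S.D_pos _ _ hx
  by_cases hd : 1 < (orbit G θ).ncard * S.deg θ
  · have key : ∀ (κ : L), Sp s κ → ∀ c, c ∈ S.D (S.tw θ κ) →
        (orbit G θ).ncard * S.deg θ ∣ c := by
      intro κ hκ c hc
      have h1 : (orbit G θ).ncard ∣ (orbit G (S.tw θ κ)).ncard :=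
        ncard_orbit_dvd (S.tw θ κ) θ ((S.stab_tw_le hs hθ hκ).trans inf_le_left)
      have h2 := S.D_dvd hc
      rw [S.deg_tw] at h2
      exact (Nat.mul_dvd_mul_right h1 _).trans h2
    exact one_lt_gcd_of_dvd hd (key μ hμ x hx) (key ν hν c hc) hxpos
  · have hdegpos : 0 < S.deg θ := by
      have h1 := S.deg_dvd hx
      rw [S.deg_tw] at h1
      exact Nat.pos_of_dvd_of_pos h1 hxpos
    have hopos := ncard_orbit_pos (G := G) θ
    have hprod : (orbit G θ).ncard * S.deg θ = 1 := by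
      have : 0 < (orbit G θ).ncard * S.deg θ := Nat.mul_pos hopos hdegpos
      omega
    have hdeg1 : S.deg θ = 1 := Nat.eq_one_of_mul_eq_one_left hprod
    have ho1 : (orbit G θ).ncard = 1 := Nat.eq_one_of_mul_eq_one_right hprod
    have hinvθ := (ncard_orbit_eq_one_iff θ).mp ho1
    have hlin : S.lin (S.det θ) = θ := S.lin_det θ hdeg1
    have hl1 : S.det θ ≠ 1 := by
      intro h
      rw [h] at hlin
      exact hθ1 hlin.symm
    have hlinv : ∀ g : G, g • S.det θ = S.det θ := by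
      intro g
      rw [← S.det_smul, hinvθ g]
    have key : ∀ (κ : L), Sp s κ → ∀ c, c ∈ S.D (S.tw θ κ) → orderOf (S.det θ) ∣ c := by
      intro κ hκ c hc
      have h1 : S.tw θ κ = S.tw (S.lin κ) (S.det θ) := by
        rw [S.tw_lin, ← hlin, S.tw_lin, S.det_lin, mul_comm]
      rw [h1] at hc
      have h2 := S.pstar_pow (S.det θ) hlinv (S.lin κ) c hc (PP L s) (by rw [S.det_lin]; exact hκ)
      have h3 : orderOf (S.det θ) ∣ c * PP L s := orderOf_dvd_of_pow_eq_one h2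
      have h4 : orderOf (S.det θ) ∣ MM L s := orderOf_dvd_of_pow_eq_one hθ.2
      have h5 : Nat.Coprime (orderOf (S.det θ)) (PP L s) :=
        Nat.Coprime.coprime_dvd_left h4 (coprime_PP_MM hs).symm
      exact h5.dvd_of_dvd_mul_right h3
    have ho : 1 < orderOf (S.det θ) := by
      have h1 : 0 < orderOf (S.det θ) := orderOf_pos _
      have h2 : orderOf (S.det θ) ≠ 1 := fun h => hl1 (orderOf_eq_one_iff.mp h)
      omega
    exact one_lt_gcd_of_dvd ho (key μ hμ x hx) (key ν hν c hc) hxpos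

end Sys

end Cfsg.Agent.Lib.H26.RelDeg
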