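import Mathlib
import Cfsg.Agent.Lib.H26.RelDegA

/-!
# The orbit-product lemma (helper26)

`G` acts on an abelian group `L` by automorphisms.  If `μ, μ'` have orbits of coprime sizes,
`μ'` is a non-invariant `s`-element and the orbit of `μ` has size prime to `s`, then the size of
the orbit of `μ μ'` is not coprime to the size of the orbit of `μ'`.
-/

set_option autoImplicit false

namespace Cfsg.Agent.Lib.H26.RelDeg

open MulAction

section

variable {G : Type*} [Group G] [Finite G]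

/-- A subgroup whose index is coprime to the size of an orbit is transitive on that orbit. -/
theorem orbit_subgroup_eq_of_coprime {Y : Type*} [MulAction G Y] (A : Subgroup G) (b : Y)
    (h : Nat.Coprime A.index (orbit G b).ncard) : orbit A b = orbit G b := by
  have hsub : orbit A b ⊆ orbit G b := orbit_subgroup_subset A b
  apply Set.eq_of_subset_of_ncard_le hsub _ (finite_orbit b)
  have h1 : stabilizer A b = (stabilizer G b).subgroupOf A := by
    ext x
    rw [mem_stabilizer_iff, Subgroup.mem_subgroupOf, mem_stabilizer_iff]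
    rfl
  have h2 : (orbit A b).ncard = (stabilizer G b).relIndex A := by
    rw [← index_stabilizer, h1]
    rfl
  have h3 : (stabilizer G b).relIndex A * A.index = (stabilizer G b ⊓ A).index := by
    rw [← Subgroup.inf_relIndex_right]
    exact Subgroup.relIndex_mul_index inf_le_right
  have h4 : (stabilizer G b ⊓ A).index = (stabilizer G b).index * A.index := by
    apply Cfsg.Agent.Lib.H20.index_inf_of_coprime
    rw [index_stabilizer]
    exact h.symm
  have h5 : (stabilizer G b).relIndex A = (stabilizer G b).index := by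
    rw [h4] at h3
    exact Nat.eq_of_mul_eq_mul_right (Nat.pos_of_ne_zero Subgroup.index_ne_zero_of_finite) h3
  rw [h2, h5, index_stabilizer]

variable {L : Type*} [CommGroup L] [MulDistribMulAction G L]

theorem orbit_prod_not_coprime {s : ℕ} (hs : s.Prime) (k : ℕ) (μ μ' : L)
    (hμ' : μ' ^ (s ^ k) = 1)
    (hcop : Nat.Coprime (orbit G μ).ncard (orbit G μ').ncard)
    (h1 : 1 < (orbit G μ').ncard) (hst : ¬ s ∣ (orbit G μ).ncard) :
    ¬ Nat.Coprime (orbit G (μ * μ')).ncard (orbit G μ').ncard := by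
  classical
  intro hc
  -- transitivity
  have htr'' : orbit (stabilizer G (μ * μ')) μ' = orbit G μ' :=
    orbit_subgroup_eq_of_coprime _ _ (by rw [index_stabilizer]; exact hc)
  have htr : orbit (stabilizer G μ) μ' = orbit G μ' :=
    orbit_subgroup_eq_of_coprime _ _ (by rw [index_stabilizer]; exact hcop)
  -- step 5
  have h5 : ∀ b ∈ orbit G μ', μ * μ' * b⁻¹ ∈ orbit G μ := by
    intro b hb
    rw [← htr''] at hb
    obtain ⟨⟨h, hh⟩, rfl⟩ := hb
    refine ⟨h, ?_⟩
    show h • μ = μ * μ' * (h • μ')⁻¹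
    rw [mem_stabilizer_iff, smul_mul'] at hh
    rw [← hh, mul_inv_cancel_right]
  -- step 6
  have h6 : ∀ a ∈ orbit G μ, ∀ b₁ ∈ orbit G μ', ∀ b₂ ∈ orbit G μ',
      a * b₁ * b₂⁻¹ ∈ orbit G μ := by
    rintro a ⟨g, rfl⟩ b₁ hb₁ b₂ hb₂
    have hb₁' : g⁻¹ • b₁ ∈ orbit G μ' := by
      obtain ⟨g₁, rfl⟩ := hb₁
      exact ⟨g⁻¹ * g₁, by simp [mul_smul]⟩
    rw [← htr] at hb₁'
    obtain ⟨⟨h, hh⟩, hh'⟩ := hb₁'
    have hh'' : h • μ' = g⁻¹ • b₁ := hh'
    rw [mem_stabilizer_iff] at hh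
    have hb₂' : (g * h)⁻¹ • b₂ ∈ orbit G μ' := by
      obtain ⟨g₂, rfl⟩ := hb₂
      exact ⟨(g * h)⁻¹ * g₂, by simp [mul_smul]⟩
    obtain ⟨g₃, hg₃⟩ := h5 _ hb₂'
    have hg₃' : g₃ • μ = μ * μ' * ((g * h)⁻¹ • b₂)⁻¹ := hg₃
    refine ⟨g * h * g₃, ?_⟩
    show (g * h * g₃) • μ = g • μ * b₁ * b₂⁻¹
    rw [mul_smul, hg₃', smul_mul', smul_mul', smul_inv', smul_inv_smul, mul_smul, mul_smul, hh,
      hh'', smul_inv_smul]
  -- two distinct elements of the orbit of μ'
  obtain ⟨b₁, hb₁, b₂, hb₂, hne⟩ := (Set.one_lt_ncard (finite_orbit μ')).mp h1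
  have hk1 : b₁ * b₂⁻¹ ≠ 1 := fun h => hne (mul_inv_eq_one.mp h)
  have hpow : ∀ b ∈ orbit G μ', b ^ (s ^ k) = 1 := by
    rintro b ⟨g, rfl⟩
    show (g • μ') ^ (s ^ k) = 1
    rw [← smul_pow', hμ', smul_one]
  have hkP : (b₁ * b₂⁻¹) ^ (s ^ k) = 1 := by
    rw [mul_pow, inv_pow, hpow b₁ hb₁, hpow b₂ hb₂, inv_one, mul_one]
  -- the map a ↦ a * k on the orbit of μ
  haveI : Fintype (orbit G μ) := (finite_orbit μ).fintype
  let f : Function.End (orbit G μ) := fun a =>
    ⟨(a : L) * (b₁ * b₂⁻¹), by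
      have := h6 a a.2 b₁ hb₁ b₂ hb₂
      rwa [mul_assoc] at this⟩
  have hfn : ∀ (n : ℕ) (a : orbit G μ), (((f ^ n) a : orbit G μ) : L) = a * (b₁ * b₂⁻¹) ^ n := by
    intro n
    induction n with
    | zero =>
      intro a
      rw [pow_zero, pow_zero, mul_one]
      rfl
    | succ n ih =>
      intro a
      rw [pow_succ]
      show (((f ^ n) (f a) : orbit G μ) : L) = _
      rw [ih (f a)]
      show (a : L) * (b₁ * b₂⁻¹) * (b₁ * b₂⁻¹) ^ n = _
      rw [pow_succ', mul_assoc]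
  have hf : f ^ s ^ k = 1 := by
    funext a
    apply Subtype.ext
    rw [hfn, hkP, mul_one]
    rfl
  haveI : Fact s.Prime := ⟨hs⟩
  have hmod := Equiv.Perm.card_fixedPoints_modEq (f := f) (p := s) (n := k) hf
  have hfix : Fintype.card (Function.fixedPoints f) = 0 := by
    rw [Fintype.card_eq_zero_iff]
    constructor
    rintro ⟨a, ha⟩
    have ha' : f a = a := ha
    have : ((f a : orbit G μ) : L) = a := by rw [ha']
    have h2 : (a : L) * (b₁ * b₂⁻¹) = a := this
    exact hk1 (mul_eq_left.mp h2)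
  rw [hfix] at hmod
  have hdvd : s ∣ Fintype.card (orbit G μ) := (Nat.modEq_zero_iff_dvd).mp hmod
  apply hst
  rw [← Nat.card_coe_set_eq, Nat.card_eq_fintype_card]
  exact hdvd

end

end Cfsg.Agent.Lib.H26.RelDeg
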