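import Mathlib
import Cfsg.Prelude.Def_DegreeGraph
import Cfsg.Agent.Lib.H26.RelDegB
import Cfsg.Agent.Lib.H26.RelDegC

/-!
# Abstract Clifford/determinant systems: the graph theorem (helper26)
-/

set_option autoImplicit false

namespace Cfsg.Agent.Lib.H26.RelDeg

open MulAction

/-- Reachability in the induced common-divisor graph, phrased on naturals. -/
def Conn (V : Set ℕ) (x y : ℕ) : Prop :=
  ∃ (hx : x ∈ V) (hy : y ∈ V),
    (Cfsg.commonDivisorGraph.induce V).Reachable ⟨x, hx⟩ ⟨y, hy⟩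

theorem Conn.symm {V : Set ℕ} {x y : ℕ} (h : Conn V x y) : Conn V y x := by
  obtain ⟨hx, hy, h⟩ := h
  exact ⟨hy, hx, h.symm⟩

theorem Conn.trans {V : Set ℕ} {x y z : ℕ} (h1 : Conn V x y) (h2 : Conn V y z) :
    Conn V x z := by
  obtain ⟨hx, hy, h⟩ := h1
  obtain ⟨hy', hz, h'⟩ := h2
  exact ⟨hx, hz, h.trans h'⟩

theorem conn_of_gcd {V : Set ℕ} {x y : ℕ} (hx : x ∈ V) (hy : y ∈ V)
    (h : 1 < Nat.gcd x y) : Conn V x y := by
  refine ⟨hx, hy, ?_⟩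
  by_cases hxy : x = y
  · subst hxy
    exact SimpleGraph.Reachable.refl _
  · apply SimpleGraph.Adj.reachable
    rw [SimpleGraph.induce_adj]
    exact ⟨hxy, h⟩

variable {G I L : Type*} [Group G] [CommGroup L] [MulAction G I] [MulDistribMulAction G L]
  [Finite G] [Finite L]

theorem exists_Sp_ne_one {s : ℕ} (hs : s.Prime) (hsL : s ∣ Nat.card L) :
    ∃ ν : L, Sp s ν ∧ ν ≠ 1 := by
  haveI : Fact s.Prime := ⟨hs⟩
  obtain ⟨ν, hν⟩ := exists_prime_orderOf_dvd_card' s hsL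
  refine ⟨ν, ?_, ?_⟩
  · show ν ^ PP L s = 1
    apply orderOf_dvd_iff_pow_eq_one.mp
    rw [hν]
    exact dvd_pow_self s (Nat.Prime.factorization_pos_of_dvd hs Nat.card_pos.ne' hsL).ne'
  · intro h
    rw [h, orderOf_one] at hν
    exact hs.one_lt.ne hν

theorem PP_dvd_MM {r s : ℕ} (hr : r.Prime) (hs : s.Prime) (hrs : r ≠ s) :
    PP L r ∣ MM L s := by
  have h1 : PP L r ∣ PP L s * MM L s := by
    rw [PP_mul_MM]
    exact Nat.ordProj_dvd _ _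
  have h2 : Nat.Coprime (PP L r) (PP L s) :=
    Nat.Coprime.pow _ _ ((Nat.coprime_primes hr hs).mpr hrs)
  exact h2.dvd_of_dvd_mul_left h1

namespace Sys

variable (S : Sys G I L)

theorem exists_rep {s : ℕ} (hs : s.Prime) {x : ℕ} (hx : x ∈ S.V) (hsx : ¬ s ∣ x) :
    ∃ (θ : I) (μ : L), S.Can s θ ∧ Sp s μ ∧ S.tw θ μ ≠ S.lin 1 ∧ x ∈ S.D (S.tw θ μ) := by
  obtain ⟨θ₀, hθ₀, hxD⟩ := hx
  have hdeg : ¬ s ∣ S.deg θ₀ := fun h => hsx (h.trans (S.deg_dvd hxD))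
  obtain ⟨θ, μ, hθ, hμ, rfl⟩ := S.exists_decomp hs θ₀ hdeg
  exact ⟨θ, μ, hθ, hμ, hθ₀, hxD⟩

theorem mem_V_of_hub {s : ℕ} (hs : s.Prime) {ν : L} (hν : Sp s ν) (hν1 : ν ≠ 1) {θ₁ : I}
    (h₁ : S.Can s θ₁) {c : ℕ} (hc : c ∈ S.D (S.tw θ₁ ν)) : c ∈ S.V :=
  ⟨_, S.tw_ne_lin_one hs hν hν1 h₁, hc⟩

theorem lemA_aux {s : ℕ} (hs : s.Prime) (hsL : s ∣ Nat.card L) {x y : ℕ} {θ θ' : I} {μ μ' : L}
    (hθ : S.Can s θ) (hμ : Sp s μ) (hx1 : S.tw θ μ ≠ S.lin 1) (hx : x ∈ S.D (S.tw θ μ))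
    (hθ' : S.Can s θ') (hμ' : Sp s μ') (hy1 : S.tw θ' μ' ≠ S.lin 1)
    (hy : y ∈ S.D (S.tw θ' μ')) (hne : θ ≠ S.lin 1) : Conn S.V x y := by
  have hxV : x ∈ S.V := ⟨_, hx1, hx⟩
  have hyV : y ∈ S.V := ⟨_, hy1, hy⟩
  by_cases hμ'1 : μ' = 1
  · subst hμ'1
    have hy1' : θ' ≠ S.lin 1 := by rwa [S.tw_one] at hy1
    obtain ⟨ν, hν, hν1⟩ := exists_Sp_ne_one (L := L) hs hsL
    obtain ⟨c, hc⟩ := S.D_nonempty (S.tw θ ν)
    obtain ⟨c', hc'⟩ := S.D_nonempty (S.tw θ' ν)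
    have hcV := S.mem_V_of_hub hs hν hν1 hθ hc
    have hc'V := S.mem_V_of_hub hs hν hν1 hθ' hc'
    have h1 : Conn S.V x c := conn_of_gcd hxV hcV (S.touch hs hθ hne hμ hν hx hc)
    have h2 : Conn S.V c c' := conn_of_gcd hcV hc'V (S.hub hs hν hν1 hθ hθ' hc hc')
    have h3 : Conn S.V y c' :=
      conn_of_gcd hyV hc'V (S.touch hs hθ' hy1' (Sp.one s) hν hy hc')
    exact h1.trans (h2.trans h3.symm)
  · obtain ⟨c, hc⟩ := S.D_nonempty (S.tw θ μ')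
    have hcV := S.mem_V_of_hub hs hμ' hμ'1 hθ hc
    have h1 : Conn S.V x c := conn_of_gcd hxV hcV (S.touch hs hθ hne hμ hμ' hx hc)
    have h2 : Conn S.V c y := conn_of_gcd hcV hyV (S.hub hs hμ' hμ'1 hθ hθ' hc hy)
    exact h1.trans h2

theorem stabilizer_lin (μ : L) : stabilizer G (S.lin μ) = stabilizer G μ := by
  ext g
  rw [mem_stabilizer_iff, mem_stabilizer_iff, S.lin_smul]
  exact ⟨fun h => S.lin_injective h, fun h => by rw [h]⟩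

theorem ncard_orbit_lin_dvd {μ : L} {c : ℕ} (hc : c ∈ S.D (S.lin μ)) :
    (orbit G μ).ncard ∣ c :=
  (ncard_orbit_dvd (S.lin μ) μ (S.stabilizer_lin μ).le).trans (S.ncard_dvd hc)

theorem not_inv_of_lin {s : ℕ} (hs : s.Prime) {μ : L} (hμ : Sp s μ) (hμ1 : μ ≠ 1) {x : ℕ}
    (hx : x ∈ S.D (S.lin μ)) (hsx : ¬ s ∣ x) : ∃ g : G, g • μ ≠ μ := by
  by_contra hinv
  push_neg at hinv
  have hx' : x ∈ S.D (S.tw (S.lin 1) μ) := by rwa [S.tw_lin, one_mul]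
  have h1 := S.pstar_pow μ hinv (S.lin 1) x hx' 1 (by rw [S.det_lin, one_pow])
  rw [mul_one] at h1
  exact hμ1 (eq_one_of_pow_of_pow μ _ _ hμ h1 (coprime_PP_of_not_dvd hs hsx).symm)

theorem lemA_lin {s : ℕ} (hs : s.Prime) {x y : ℕ} {μ μ' : L} (hμ : Sp s μ) (hμ' : Sp s μ')
    (hμ1 : μ ≠ 1) (hμ'1 : μ' ≠ 1) (hx : x ∈ S.D (S.lin μ)) (hy : y ∈ S.D (S.lin μ'))
    (hsx : ¬ s ∣ x) (hsy : ¬ s ∣ y) : Conn S.V x y := by
  have hxV : x ∈ S.V := ⟨_, fun h => hμ1 (S.lin_injective h), hx⟩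
  have hyV : y ∈ S.V := ⟨_, fun h => hμ'1 (S.lin_injective h), hy⟩
  have hxpos := S.D_pos _ _ hx
  have hypos := S.D_pos _ _ hy
  by_cases hg : 1 < Nat.gcd x y
  · exact conn_of_gcd hxV hyV hg
  · have hcopxy : Nat.Coprime x y := by
      have : 0 < Nat.gcd x y := Nat.gcd_pos_of_pos_left _ hxpos
      show Nat.gcd x y = 1
      omega
    have htx := S.ncard_orbit_lin_dvd hx
    have hty := S.ncard_orbit_lin_dvd hy
    obtain ⟨g, hg⟩ := S.not_inv_of_lin hs hμ hμ1 hx hsx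
    obtain ⟨g', hg'⟩ := S.not_inv_of_lin hs hμ' hμ'1 hy hsy
    have ht1 : 1 < (orbit G μ).ncard := one_lt_ncard_orbit μ g hg
    have ht'1 : 1 < (orbit G μ').ncard := one_lt_ncard_orbit μ' g' hg'
    have hcop : Nat.Coprime (orbit G μ).ncard (orbit G μ').ncard :=
      Nat.Coprime.coprime_dvd_left htx (Nat.Coprime.coprime_dvd_right hty hcopxy)
    have hst : ¬ s ∣ (orbit G μ).ncard := fun h => hsx (h.trans htx)
    have hst' : ¬ s ∣ (orbit G μ').ncard := fun h => hsy (h.trans hty)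
    have hn1 := orbit_prod_not_coprime hs _ μ μ' hμ' hcop ht'1 hst
    have hn2 := orbit_prod_not_coprime hs _ μ' μ hμ hcop.symm ht1 hst'
    rw [mul_comm] at hn2
    have hne : μ * μ' ≠ 1 := by
      intro h
      apply hn1
      rw [h]
      have : (orbit G (1 : L)).ncard = 1 :=
        (ncard_orbit_eq_one_iff (1 : L)).mpr (fun g => smul_one g)
      rw [this]
      exact Nat.coprime_one_left _
    obtain ⟨c, hc⟩ := S.D_nonempty (S.lin (μ * μ'))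
    have hcV : c ∈ S.V := ⟨_, fun h => hne (S.lin_injective h), hc⟩
    have htc := S.ncard_orbit_lin_dvd hc
    have hcpos := S.D_pos _ _ hc
    have hoppos := ncard_orbit_pos (G := G) (μ * μ')
    have key : ∀ (t z : ℕ), t ∣ z → 0 < z → ¬ Nat.Coprime (orbit G (μ * μ')).ncard t →
        1 < Nat.gcd z c := by
      intro t z htz hz hn
      have h0 : 0 < Nat.gcd (orbit G (μ * μ')).ncard t := Nat.gcd_pos_of_pos_left _ hoppos
      have h1 : 1 < Nat.gcd (orbit G (μ * μ')).ncard t := by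
        have : Nat.gcd (orbit G (μ * μ')).ncard t ≠ 1 := hn
        omega
      exact one_lt_gcd_of_dvd h1 ((Nat.gcd_dvd_right _ _).trans htz)
        ((Nat.gcd_dvd_left _ _).trans htc) hz
    have h1 : Conn S.V x c := conn_of_gcd hxV hcV (key _ x htx hxpos hn2)
    have h2 : Conn S.V y c := conn_of_gcd hyV hcV (key _ y hty hypos hn1)
    exact h1.trans h2.symm

theorem lemA {s : ℕ} (hs : s.Prime) (hsL : s ∣ Nat.card L) {x y : ℕ} (hx : x ∈ S.V)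
    (hy : y ∈ S.V) (hsx : ¬ s ∣ x) (hsy : ¬ s ∣ y) : Conn S.V x y := by
  obtain ⟨θ, μ, hθ, hμ, hx1, hxD⟩ := S.exists_rep hs hx hsx
  obtain ⟨θ', μ', hθ', hμ', hy1, hyD⟩ := S.exists_rep hs hy hsy
  by_cases h1 : θ = S.lin 1
  · by_cases h2 : θ' = S.lin 1
    · subst h1 h2
      rw [S.tw_lin, one_mul] at hx1 hxD hy1 hyD
      have hμ1 : μ ≠ 1 := fun h => hx1 (by rw [h])
      have hμ'1 : μ' ≠ 1 := fun h => hy1 (by rw [h])
      exact S.lemA_lin hs hμ hμ' hμ1 hμ'1 hxD hyD hsx hsy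
    · exact (S.lemA_aux hs hsL hθ' hμ' hy1 hyD hθ hμ hx1 hxD h2).symm
  · exact S.lemA_aux hs hsL hθ hμ hx1 hxD hθ' hμ' hy1 hyD h1

theorem exists_touch {s : ℕ} (hs : s.Prime) (hsL : s ∣ Nat.card L) {x : ℕ} (hx : x ∈ S.V)
    (hsx : ¬ s ∣ x) : ∃ ν : L, Sp s ν ∧ ν ≠ 1 ∧ ∃ θ₁, S.Can s θ₁ ∧
      ∃ c ∈ S.D (S.tw θ₁ ν), 1 < Nat.gcd x c := by
  obtain ⟨θ, μ, hθ, hμ, hx1, hxD⟩ := S.exists_rep hs hx hsx
  by_cases h1 : θ = S.lin 1
  · have hμ1 : μ ≠ 1 := by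
      rintro rfl
      rw [S.tw_one] at hx1
      exact hx1 h1
    exact ⟨μ, hμ, hμ1, θ, hθ, x, hxD, S.hub hs hμ hμ1 hθ hθ hxD hxD⟩
  · obtain ⟨ν, hν, hν1⟩ := exists_Sp_ne_one (L := L) hs hsL
    obtain ⟨c, hc⟩ := S.D_nonempty (S.tw θ ν)
    exact ⟨ν, hν, hν1, θ, hθ, c, hc, S.touch hs hθ h1 hμ hν hxD hc⟩

theorem can_lin {r s : ℕ} (hr : r.Prime) (hs : s.Prime) (hrs : r ≠ s) {ν : L} (hν : Sp r ν) :
    S.Can s (S.lin ν) := by
  refine ⟨?_, ?_⟩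
  · rw [S.deg_lin]
    exact hs.not_dvd_one
  · rw [S.det_lin]
    obtain ⟨q, hq⟩ := PP_dvd_MM (L := L) hr hs hrs
    rw [hq, pow_mul, hν, one_pow]

theorem lemB {r s : ℕ} (hr : r.Prime) (hs : s.Prime) (hrs : r ≠ s) (hrL : r ∣ Nat.card L)
    (hsL : s ∣ Nat.card L) {x y : ℕ} (hx : x ∈ S.V) (hy : y ∈ S.V) (hsx : ¬ s ∣ x)
    (hry : ¬ r ∣ y) : Conn S.V x y := by
  obtain ⟨ν', hν', hν'1, θ₁, hθ₁, c, hc, hxc⟩ := S.exists_touch hs hsL hx hsx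
  obtain ⟨ν, hν, hν1, θ₂, hθ₂, c', hc', hyc'⟩ := S.exists_touch hr hrL hy hry
  obtain ⟨c₀, hc₀⟩ := S.D_nonempty (S.lin (ν * ν'))
  have hcan1 : S.Can s (S.lin ν) := S.can_lin hr hs hrs hν
  have hcan2 : S.Can r (S.lin ν') := S.can_lin hs hr (Ne.symm hrs) hν'
  have hc₀1 : c₀ ∈ S.D (S.tw (S.lin ν) ν') := by rwa [S.tw_lin]
  have hc₀2 : c₀ ∈ S.D (S.tw (S.lin ν') ν) := by rwa [S.tw_lin, mul_comm]
  have hcV := S.mem_V_of_hub hs hν' hν'1 hθ₁ hc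
  have hc'V := S.mem_V_of_hub hr hν hν1 hθ₂ hc'
  have hc₀V := S.mem_V_of_hub hs hν' hν'1 hcan1 hc₀1
  have h1 : Conn S.V x c := conn_of_gcd hx hcV hxc
  have h2 : Conn S.V c c₀ := conn_of_gcd hcV hc₀V (S.hub hs hν' hν'1 hθ₁ hcan1 hc hc₀1)
  have h3 : Conn S.V c₀ c' := conn_of_gcd hc₀V hc'V (S.hub hr hν hν1 hcan2 hθ₂ hc₀2 hc')
  have h4 : Conn S.V y c' := conn_of_gcd hy hc'V hyc'
  exact h1.trans (h2.trans (h3.trans h4.symm))

/-- The abstract graph theorem. -/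
theorem main (hL : ∃ s : ℕ, s.Prime ∧ s ∣ Nat.card L) :
    Nat.card (Cfsg.commonDivisorGraph.induce S.V).ConnectedComponent ≤ 2 ∧
    ∀ (a b : ℕ) (ha : a ∈ S.V) (hb : b ∈ S.V),
      ¬ (Cfsg.commonDivisorGraph.induce S.V).Reachable ⟨a, ha⟩ ⟨b, hb⟩ →
      ((∀ r : ℕ, r.Prime → r ∣ Nat.card L → ¬ r ∣ a) ∧
          (∀ r : ℕ, r.Prime → r ∣ Nat.card L → r ∣ b)) ∨
        ((∀ r : ℕ, r.Prime → r ∣ Nat.card L → ¬ r ∣ b) ∧
          (∀ r : ℕ, r.Prime → r ∣ Nat.card L → r ∣ a)) := by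
  classical
  obtain ⟨s₀, hs₀, hs₀L⟩ := hL
  have hpos : ∀ x ∈ S.V, 0 < x := by
    rintro x ⟨θ, -, hx⟩
    exact S.D_pos _ _ hx
  have key1 : ∀ x ∈ S.V, ∀ y ∈ S.V,
      ¬ (∀ r : ℕ, r.Prime → r ∣ Nat.card L → r ∣ x) →
      ¬ (∀ r : ℕ, r.Prime → r ∣ Nat.card L → r ∣ y) → Conn S.V x y := by
    intro x hx y hy h1 h2
    push_neg at h1 h2
    obtain ⟨s, hs, hsL, hsx⟩ := h1
    obtain ⟨r, hr, hrL, hry⟩ := h2
    by_cases hrs : r = s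
    · subst hrs
      exact S.lemA hr hrL hx hy hsx hry
    · exact S.lemB hr hs hrs hrL hsL hx hy hsx hry
  have key2 : ∀ x ∈ S.V, ∀ y ∈ S.V, ∀ r : ℕ, r.Prime → r ∣ x → r ∣ y → Conn S.V x y := by
    intro x hx y hy r hr hrx hry
    exact conn_of_gcd hx hy (one_lt_gcd_of_dvd hr.one_lt hrx hry (hpos x hx))
  have key3 : ∀ x ∈ S.V, ∀ y ∈ S.V,
      ((∀ r : ℕ, r.Prime → r ∣ Nat.card L → r ∣ x) ↔
        (∀ r : ℕ, r.Prime → r ∣ Nat.card L → r ∣ y)) → Conn S.V x y := by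
    intro x hx y hy h
    by_cases hx1 : ∀ r : ℕ, r.Prime → r ∣ Nat.card L → r ∣ x
    · exact key2 x hx y hy s₀ hs₀ (hx1 s₀ hs₀ hs₀L) (h.mp hx1 s₀ hs₀ hs₀L)
    · exact key1 x hx y hy hx1 (fun h' => hx1 (h.mpr h'))
  constructor
  · let φ : (Cfsg.commonDivisorGraph.induce S.V).ConnectedComponent → Bool :=
      fun c => decide (∀ r : ℕ, r.Prime → r ∣ Nat.card L → r ∣ ((Quot.out c : ↥S.V) : ℕ))
    have hφ : Function.Injective φ := by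
      intro c c' h
      have h' : (∀ r : ℕ, r.Prime → r ∣ Nat.card L → r ∣ ((Quot.out c : ↥S.V) : ℕ)) ↔
          (∀ r : ℕ, r.Prime → r ∣ Nat.card L → r ∣ ((Quot.out c' : ↥S.V) : ℕ)) := by
        simpa [φ] using h
      obtain ⟨_, _, hr⟩ := key3 _ (Quot.out c).2 _ (Quot.out c').2 h'
      have h2 : (Cfsg.commonDivisorGraph.induce S.V).connectedComponentMk (Quot.out c) =
          (Cfsg.commonDivisorGraph.induce S.V).connectedComponentMk (Quot.out c') :=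
        SimpleGraph.ConnectedComponent.eq.mpr hr
      have h3 : ∀ d : (Cfsg.commonDivisorGraph.induce S.V).ConnectedComponent,
          (Cfsg.commonDivisorGraph.induce S.V).connectedComponentMk (Quot.out d) = d :=
        fun d => Quot.out_eq d
      rw [h3, h3] at h2
      exact h2
    have := Nat.card_le_card_of_injective φ hφ
    simpa using this
  · intro a b ha hb hnr
    have hnc : ¬ Conn S.V a b := fun ⟨_, _, h⟩ => hnr h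
    by_cases ha1 : ∀ r : ℕ, r.Prime → r ∣ Nat.card L → r ∣ a
    · by_cases hb1 : ∀ r : ℕ, r.Prime → r ∣ Nat.card L → r ∣ b
      · exact absurd (key2 a ha b hb s₀ hs₀ (ha1 s₀ hs₀ hs₀L) (hb1 s₀ hs₀ hs₀L)) hnc
      · right
        refine ⟨fun r hr hrL hrb => hnc (key2 a ha b hb r hr (ha1 r hr hrL) hrb), ha1⟩
    · by_cases hb1 : ∀ r : ℕ, r.Prime → r ∣ Nat.card L → r ∣ b
      · left
        refine ⟨fun r hr hrL hra => hnc (key2 a ha b hb r hr hra (hb1 r hr hrL)), hb1⟩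
      · exact absurd (key1 a ha b hb ha1 hb1) hnc

end Sys

end Cfsg.Agent.Lib.H26.RelDeg
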