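import Mathlib
import Cfsg.Prelude.Def_DegreeGraph
import Cfsg.Prelude.Def_CharExt
import Cfsg.Agent.Lib.H26.RelDegD
import Cfsg.Agent.Lib.H23.DetChar
import Cfsg.Agent.Lib.H24.DetCyclic
import Cfsg.Agent.Lib.H24.CharLinearMul
import Cfsg.Agent.Lib.H1.TDRestrict
import Cfsg.Agent.Lib.L0.RealPDegD
import Cfsg.Agent.S0174

/-!
# The Clifford/determinant system of a normal subgroup `N ≤ G'` (helper26)
-/

set_option autoImplicit false

namespace Cfsg.Agent.Lib.H26.RelDeg

open Cfsg Cfsg.Agent.Lib.L0 Cfsg.Agent.Lib.H23 Cfsg.Agent.Lib.H24 MulAction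

section concrete

variable {G : Type*} [Group G] [Fintype G] (N : Subgroup G) [hN : N.Normal] [Fintype N]

/-- The conjugation action of `G` on the irreducible characters of `N`. -/
noncomputable def irrAct : MulAction G (IrrCharacter N) where
  smul g θ := ⟨(θ : N → ℂ) ∘ (MulAut.conjNormal g⁻¹ : N ≃* N),
    isIrrCharacter_comp_mulEquiv _ θ.2⟩
  one_smul θ := by
    apply Subtype.ext
    funext n
    show (θ : N → ℂ) ((MulAut.conjNormal (1 : G)⁻¹ : N ≃* N) n) = _
    rw [inv_one, map_one]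
    rfl
  mul_smul g h θ := by
    apply Subtype.ext
    funext n
    show (θ : N → ℂ) ((MulAut.conjNormal (g * h)⁻¹ : N ≃* N) n) =
      (θ : N → ℂ) ((MulAut.conjNormal h⁻¹ : N ≃* N) ((MulAut.conjNormal g⁻¹ : N ≃* N) n))
    rw [mul_inv_rev, map_mul]
    rfl

/-- The conjugation action of `G` on the linear characters of `N`. -/
noncomputable def linAct : MulDistribMulAction G (N →* ℂˣ) where
  smul g f := f.comp (MulAut.conjNormal g⁻¹ : N ≃* N).toMonoidHom
  one_smul f := by
    apply MonoidHom.ext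
    intro n
    show f ((MulAut.conjNormal (1 : G)⁻¹ : N ≃* N) n) = f n
    rw [inv_one, map_one]
    rfl
  mul_smul g h f := by
    apply MonoidHom.ext
    intro n
    show f ((MulAut.conjNormal (g * h)⁻¹ : N ≃* N) n) =
      f ((MulAut.conjNormal h⁻¹ : N ≃* N) ((MulAut.conjNormal g⁻¹ : N ≃* N) n))
    rw [mul_inv_rev, map_mul]
    rfl
  smul_mul g f₁ f₂ := rfl
  smul_one g := rfl

attribute [local instance] irrAct linAct

theorem irrAct_apply (g : G) (θ : IrrCharacter N) (n : N) :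
    ((g • θ : IrrCharacter N) : N → ℂ) n =
      (θ : N → ℂ) ((MulAut.conjNormal g⁻¹ : N ≃* N) n) := rfl

theorem irrAct_coe (g : G) (θ : IrrCharacter N) :
    ((g • θ : IrrCharacter N) : N → ℂ) =
      (θ : N → ℂ) ∘ (MulAut.conjNormal g⁻¹ : N ≃* N).toMonoidHom := rfl

theorem linAct_apply (g : G) (f : N →* ℂˣ) (n : N) :
    (g • f) n = f ((MulAut.conjNormal g⁻¹ : N ≃* N) n) := rfl

/-- The determinant of an irreducible character, as a homomorphism. -/
noncomputable def detL (θ : IrrCharacter N) : N →* ℂˣ :=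
  Classical.choose (exists_hom_detChar (isCharacter_of_irr θ.2))

theorem detL_spec (θ : IrrCharacter N) :
    Cfsg.detChar (θ : N → ℂ) = homToFun N (detL N θ) :=
  Classical.choose_spec (exists_hom_detChar (isCharacter_of_irr θ.2))

/-- Twisting an irreducible character by a linear one. -/
noncomputable def twL (θ : IrrCharacter N) (l : N →* ℂˣ) : IrrCharacter N :=
  ⟨fun n => (θ : N → ℂ) n * (l n : ℂ), isIrrCharacter_mul_hom _ θ.2 l⟩

theorem twL_coe (θ : IrrCharacter N) (l : N →* ℂˣ) :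
    ((twL N θ l : IrrCharacter N) : N → ℂ) = (θ : N → ℂ) * homToFun N l := rfl

/-- The degrees of the irreducible characters of `G` lying over `θ`. -/
def DL (θ : IrrCharacter N) : Set ℕ :=
  {c | ∃ χ : IrrCharacter G,
    classInner (fun n : N => (χ : G → ℂ) n) (θ : N → ℂ) ≠ 0 ∧ charDegree (χ : G → ℂ) = c}

theorem charDegree_smul (g : G) (θ : IrrCharacter N) :
    charDegree ((g • θ : IrrCharacter N) : N → ℂ) = charDegree (θ : N → ℂ) := by
  unfold charDegree
  rw [irrAct_apply, map_one]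

theorem detL_smul (g : G) (θ : IrrCharacter N) : detL N (g • θ) = g • detL N θ := by
  apply homToFun_injective
  rw [← detL_spec, irrAct_coe, detChar_comp _ (isCharacter_of_irr θ.2), detL_spec]
  rfl

theorem detL_twL (θ : IrrCharacter N) (l : N →* ℂˣ) :
    detL N (twL N θ l) = detL N θ * l ^ charDegree (θ : N → ℂ) := by
  apply homToFun_injective
  rw [← detL_spec, twL_coe, detChar_mul_homToFun (isCharacter_of_irr θ.2) _
    (apply_one_eq_charDegree _ θ.2), detL_spec, map_mul, ← map_pow]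

theorem detL_homIrr (l : N →* ℂˣ) : detL N (homIrr l) = l := by
  apply homToFun_injective
  rw [← detL_spec]
  exact detChar_homToFun l

theorem homIrr_detL (θ : IrrCharacter N) (h : charDegree (θ : N → ℂ) = 1) :
    homIrr (detL N θ) = θ := by
  apply Subtype.ext
  have h1 : (θ : N → ℂ) 1 = 1 := by
    rw [apply_one_eq_charDegree _ θ.2, h, Nat.cast_one]
  have h2 := detChar_homToFun (linearCharHom (isCharacter_of_irr θ.2) h1)
  rw [homToFun_linearCharHom (isCharacter_of_irr θ.2) h1] at h2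
  show homToFun N (detL N θ) = (θ : N → ℂ)
  rw [← detL_spec, h2]

theorem DL_spec (hNG : N ≤ commutator G) (θ : IrrCharacter N) (c : ℕ) (hc : c ∈ DL N θ) :
    ∃ (O : Finset (IrrCharacter N)) (e : ℕ), (O : Set (IrrCharacter N)) = orbit G θ ∧
      c = e * O.card * charDegree (θ : N → ℂ) ∧ (∏ a ∈ O, detL N a) ^ e = 1 := by
  classical
  obtain ⟨χ, hcon, rfl⟩ := hc
  have hcl := Cfsg.Agent.S0174.result N hN (χ : G → ℂ) χ.2 (θ : N → ℂ) θ.2 hcon
  obtain ⟨e, he⟩ :=
    classInner_char_irr_nat (isCharacter_restrict N (isCharacter_of_irr χ.2)) θ.2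
  let O : Finset (IrrCharacter N) := (finite_orbit (G := G) θ).toFinset
  have hO : (O : Set (IrrCharacter N)) = orbit G θ := Set.Finite.coe_toFinset _
  have hset : {ψ : N → ℂ | ∃ g : G, ψ = fun n : N =>
      (θ : N → ℂ) ⟨g * n * g⁻¹, hN.conj_mem n n.2 g⟩} =
      Subtype.val '' (O : Set (IrrCharacter N)) := by
    rw [hO]
    ext ψ
    constructor
    · rintro ⟨g, rfl⟩
      refine ⟨g⁻¹ • θ, mem_orbit θ g⁻¹, ?_⟩
      funext n
      rw [irrAct_apply, inv_inv]
      rfl
    · rintro ⟨a, ⟨g, rfl⟩, rfl⟩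
      refine ⟨g⁻¹, ?_⟩
      funext n
      rw [irrAct_apply]
      rfl
  have hsum : (∑ᶠ ψ ∈ {ψ : N → ℂ | ∃ g : G, ψ = fun n : N =>
      (θ : N → ℂ) ⟨g * n * g⁻¹, hN.conj_mem n n.2 g⟩}, ψ) = ∑ a ∈ O, (a : N → ℂ) := by
    rw [hset, finsum_mem_image (Subtype.val_injective.injOn), finsum_mem_coe_finset]
  rw [hsum, he] at hcl
  have hdegO : ∀ a ∈ O, charDegree (a : N → ℂ) = charDegree (θ : N → ℂ) := by
    intro a ha
    have : a ∈ (O : Set (IrrCharacter N)) := ha
    rw [hO] at this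
    obtain ⟨g, rfl⟩ := this
    exact charDegree_smul N g θ
  refine ⟨O, e, hO, ?_, ?_⟩
  · apply charDegree_eq_of_apply_one
    have h1 := congrFun hcl 1
    simp only [Pi.smul_apply, Finset.sum_apply, smul_eq_mul] at h1
    have h2 : ((1 : N) : G) = 1 := rfl
    rw [h2] at h1
    rw [h1, Finset.sum_congr rfl (fun a ha => by
      rw [apply_one_eq_charDegree _ a.2, hdegO a ha]), Finset.sum_const, nsmul_eq_mul]
    push_cast
    ring
  · have hdet1 : Cfsg.detChar (fun n : N => (χ : G → ℂ) n) = 1 := by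
      rw [detChar_restrict N (isCharacter_of_irr χ.2)]
      obtain ⟨f, hf⟩ := exists_hom_detChar (isCharacter_of_irr χ.2)
      funext n
      rw [hf, homToFun_apply, hom_apply_eq_one_of_mem_commutator f (hNG n.2)]
      rfl
    have hdet2 : Cfsg.detChar ((e : ℂ) • ∑ a ∈ O, (a : N → ℂ)) =
        (∏ a ∈ O, Cfsg.detChar (a : N → ℂ)) ^ e := by
      rw [Nat.cast_smul_eq_nsmul]
      obtain ⟨hs1, hs2⟩ := detChar_sum O (fun a => (a : N → ℂ))
        (fun a _ => isCharacter_of_irr a.2)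
      rw [detChar_nsmul hs2, hs1]
    rw [hcl, hdet2] at hdet1
    have h3 : ∏ a ∈ O, Cfsg.detChar (a : N → ℂ) = homToFun N (∏ a ∈ O, detL N a) := by
      rw [map_prod]
      exact Finset.prod_congr rfl (fun a _ => detL_spec N a)
    rw [h3, ← map_pow] at hdet1
    exact homToFun_injective (hdet1.trans (map_one _).symm)

/-- The Clifford/determinant system of `N ≤ G'`. -/
noncomputable def relSys (hNG : N ≤ commutator G) : Sys G (IrrCharacter N) (N →* ℂˣ) where
  deg θ := charDegree (θ : N → ℂ)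
  det := detL N
  tw := twL N
  lin := homIrr
  D := DL N
  deg_smul := charDegree_smul N
  det_smul := detL_smul N
  tw_smul g θ l := rfl
  deg_tw θ l := by
    unfold charDegree
    show ⌊((θ : N → ℂ) 1 * ((l 1 : ℂˣ) : ℂ)).re⌋₊ = _
    rw [map_one, Units.val_one, mul_one]
  det_tw := detL_twL N
  tw_one θ := by
    apply Subtype.ext
    funext n
    show (θ : N → ℂ) n * (((1 : N →* ℂˣ) n : ℂˣ) : ℂ) = _
    rw [MonoidHom.one_apply, Units.val_one, mul_one]
  tw_tw θ l m := by
    apply Subtype.ext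
    funext n
    show (θ : N → ℂ) n * (l n : ℂ) * (m n : ℂ) = (θ : N → ℂ) n * (((l * m) n : ℂˣ) : ℂ)
    rw [MonoidHom.mul_apply, Units.val_mul, mul_assoc]
  deg_lin l := charDegree_homIrr l
  det_lin := detL_homIrr N
  tw_lin l m := by
    apply Subtype.ext
    funext n
    show (l n : ℂ) * (m n : ℂ) = (((l * m) n : ℂˣ) : ℂ)
    rw [MonoidHom.mul_apply, Units.val_mul]
  lin_smul g l := rfl
  lin_det := homIrr_detL N
  D_nonempty θ := by
    obtain ⟨χ, hχ⟩ := Cfsg.Agent.Lib.H1.TD.exists_over N θ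
    exact ⟨_, χ, hχ, rfl⟩
  D_pos θ c hc := by
    obtain ⟨χ, -, rfl⟩ := hc
    exact Cfsg.Agent.Lib.H24.charDegree_pos χ
  D_spec := DL_spec N hNG

end concrete

end Cfsg.Agent.Lib.H26.RelDeg
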