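import Mathlib
import Cfsg.Agent.Lib.H26.RelDegE

/-!
# Isaacs' theorem on the relative degree graph for `N' < N ≤ G'` (helper26)
-/

set_option autoImplicit false

namespace Cfsg.Agent.Lib.H26.RelDeg

open Cfsg Cfsg.Agent.Lib.L0 Cfsg.Agent.Lib.H23 Cfsg.Agent.Lib.H24 MulAction

section concrete

variable {G : Type*} [Group G] [Fintype G] (N : Subgroup G) [hN : N.Normal] [Fintype N]

attribute [local instance] irrAct linAct

theorem homIrr_one_coe : ((homIrr (1 : N →* ℂˣ) : IrrCharacter N) : N → ℂ) = fun _ => 1 := by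
  funext n
  show (((1 : N →* ℂˣ) n : ℂˣ) : ℂ) = 1
  rw [MonoidHom.one_apply, Units.val_one]

theorem relSys_V (hNG : N ≤ commutator G) : (relSys N hNG).V = Cfsg.relCharDegrees N := by
  ext c
  constructor
  · rintro ⟨θ, hθ, χ, hcon, rfl⟩
    refine ⟨χ, ?_, rfl⟩
    by_contra h
    push_neg at h
    apply hcon
    have h1 : (fun n : N => (χ : G → ℂ) n) = ((χ : G → ℂ) 1) • (fun _ : N => (1 : ℂ)) := by
      funext n
      rw [Pi.smul_apply, smul_eq_mul, mul_one]
      exact h n n.2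
    rw [h1, classInner_smul_left]
    have h2 : (fun _ : N => (1 : ℂ)) ≠ (θ : N → ℂ) := by
      intro h3
      apply hθ
      apply Subtype.ext
      rw [← h3]
      exact homIrr_one_coe N
    rw [irr_classInner_ne (Cfsg.Agent.Lib.L0.RealPDeg.isIrrCharacter_const_one N) θ.2 h2, mul_zero]
  · rintro ⟨χ, ⟨x, hxN, hx⟩, rfl⟩
    obtain ⟨θ, hθ⟩ := Cfsg.Agent.Lib.H1.TD.exists_under N χ
    refine ⟨θ, ?_, χ, hθ, rfl⟩
    intro h
    have h' : θ = homIrr (1 : N →* ℂˣ) := h
    rw [h', homIrr_one_coe] at hθ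
    exact hx (Cfsg.Agent.Lib.L0.RealPDeg.trivial_on_of_classInner_ne_zero N χ hθ x hxN)

theorem card_lin : Nat.card (N →* ℂˣ) = (⁅N, N⁆ : Subgroup G).relIndex N := by
  have e : (N →* ℂˣ) ≃ (Abelianization N →* ℂˣ) := Abelianization.lift
  rw [Nat.card_congr e]
  haveI : NeZero (Monoid.exponent (Abelianization N)) := ⟨Monoid.exponent_ne_zero_of_finite⟩
  rw [CommGroup.card_monoidHom_of_hasEnoughRootsOfUnity (Abelianization N) ℂ]
  show Nat.card (N ⧸ commutator N) = _
  rw [← Subgroup.index_eq_card]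
  unfold Subgroup.relIndex
  congr 1
  rw [← Subgroup.map_subtype_commutator, Subgroup.subgroupOf,
    Subgroup.comap_map_eq_self_of_injective N.subtype_injective]

instance finite_lin : Finite (N →* ℂˣ) := by
  apply Nat.finite_of_card_ne_zero
  rw [card_lin]
  unfold Subgroup.relIndex
  exact Subgroup.index_ne_zero_of_finite

end concrete

end Cfsg.Agent.Lib.H26.RelDeg
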