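import Cfsg.Agent.Lib.H9.S3571Defs
import Cfsg.Agent.Lib.H13.AGNORM
import Cfsg.Agent.Lib.H5.AGH7

/-!
helper26: S3571 GR piece C4c (primitive of degree 7 without `A_7`: no element of order 5), from the
landed S4150 core (`closure {x, y} = A_7` for a 5-cycle `x` and a 7-cycle `y`).
-/

set_option autoImplicit false

namespace Cfsg.Agent.Lib.H26.S3571C4

open Equiv

/-- An element of prime order `p` of `Perm (Fin m)`, `m < 2p`, is a single `p`-cycle. -/
theorem cycleType_of_prime_order {m p : ℕ} (hp : p.Prime) (hm : m < 2 * p) (σ : Perm (Fin m))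
    (hσ : orderOf σ = p) : σ.cycleType = {p} := by
  obtain ⟨n, hn⟩ := Equiv.Perm.cycleType_prime_order (σ := σ) (by rw [hσ]; exact hp)
  rw [hσ] at hn
  have hsum : σ.cycleType.sum ≤ m := by
    rw [Equiv.Perm.sum_cycleType]
    calc σ.support.card ≤ Fintype.card (Fin m) := Finset.card_le_univ _
      _ = m := Fintype.card_fin m
  rw [hn, Multiset.sum_replicate, smul_eq_mul] at hsum
  have h0 : n = 0 := by
    by_contra h
    have h1 : 1 ≤ n := Nat.one_le_iff_ne_zero.mpr h
    have h2 : 2 * p ≤ (n + 1) * p := Nat.mul_le_mul_right p (by omega)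
    omega
  subst h0
  simpa using hn

theorem c4c : Cfsg.Agent.Lib.H9.S3571.C4cStmt := by
  intro H hprim hA h5
  haveI : Fact (Nat.Prime 5) := ⟨by norm_num⟩
  haveI : Fact (Nat.Prime 7) := ⟨by norm_num⟩
  haveI : MulAction.IsPretransitive ↥H (Fin 7) := hprim.toIsPretransitive
  have h7 : 7 ∣ Nat.card ↥H := by
    have h1 := MulAction.index_stabilizer_of_transitive ↥H (0 : Fin 7)
    have h2 := (MulAction.stabilizer ↥H (0 : Fin 7)).index_dvd_card
    rw [h1] at h2
    simpa using h2
  obtain ⟨x, hx⟩ := exists_prime_orderOf_dvd_card' 5 h5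
  obtain ⟨y, hy⟩ := exists_prime_orderOf_dvd_card' 7 h7
  have hx' : orderOf (x : Perm (Fin 7)) = 5 := by rw [Subgroup.orderOf_coe]; exact hx
  have hy' : orderOf (y : Perm (Fin 7)) = 7 := by rw [Subgroup.orderOf_coe]; exact hy
  have hxc := cycleType_of_prime_order (by norm_num : Nat.Prime 5) (by norm_num) _ hx'
  have hyc := cycleType_of_prime_order (by norm_num : Nat.Prime 7) (by norm_num) _ hy'
  have core7 : ∀ x y : Equiv.Perm (Fin 7), x.cycleType = {5} → y.cycleType = {7} →
      Subgroup.closure ({x, y} : Set (Equiv.Perm (Fin 7))) = alternatingGroup (Fin 7) :=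
    Cfsg.Agent.Lib.H13.AG.core_of_normalized 3 (by norm_num) (by norm_num)
      Cfsg.Agent.Lib.H5.AG.normalized7
  apply hA
  rw [← core7 _ _ hxc hyc, Subgroup.closure_le]
  intro g hg
  rcases hg with rfl | rfl
  · exact x.2
  · exact y.2

end Cfsg.Agent.Lib.H26.S3571C4
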