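import Cfsg.Agent.Lib.H9.S3571Defs
import Cfsg.Agent.Lib.H18.AGN1
import Cfsg.Agent.Lib.H26.S3571C4c
import Cfsg.Agent.S0713

/-!
helper26: S3571 GR piece C4a (primitive of degree `m ≥ 8` without `A_m`: some prime `p'` with
`m/2 < p' ≤ m` does not divide `|H|`), from the landed Jordan theorem S0713 and the landed prime
gap lemma `H18.AGN1.exists_primes_gap`.
-/

set_option autoImplicit false

namespace Cfsg.Agent.Lib.H26.S3571C4

open Equiv

/-- a prime `p'` with `m < 2p'` and `p' + 3 ≤ m`, for `m ≥ 8` -/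
theorem exists_prime_mid (m : ℕ) (hm : 8 ≤ m) : ∃ p' : ℕ, p'.Prime ∧ m < 2 * p' ∧ p' + 3 ≤ m := by
  by_cases h1 : m ≤ 9
  · exact ⟨5, by norm_num, by omega, by omega⟩
  by_cases h2 : m ≤ 13
  · exact ⟨7, by norm_num, by omega, by omega⟩
  by_cases h3 : m ≤ 16
  · exact ⟨11, by norm_num, by omega, by omega⟩
  obtain ⟨p, q, hp, _, hmp, hpq, hqm⟩ := Cfsg.Agent.Lib.H18.AG.exists_primes_gap m (by omega)
  exact ⟨p, hp, hmp, by omega⟩

theorem c4a : Cfsg.Agent.Lib.H9.S3571.C4aStmt := by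
  intro m H hm hprim hA
  obtain ⟨p', hp', h1, h2⟩ := exists_prime_mid m hm
  refine ⟨p', hp', h1, by omega, ?_⟩
  intro hdvd
  haveI : Fact p'.Prime := ⟨hp'⟩
  obtain ⟨x, hx⟩ := exists_prime_orderOf_dvd_card' p' hdvd
  have hx' : orderOf (x : Perm (Fin m)) = p' := by rw [Subgroup.orderOf_coe]; exact hx
  have hxc := cycleType_of_prime_order hp' h1 _ hx'
  have hcyc : (x : Perm (Fin m)).IsCycle := by
    rw [← Equiv.Perm.card_cycleType_eq_one, hxc]
    simp
  have hsupp : (x : Perm (Fin m)).support.card = p' := by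
    rw [← Equiv.Perm.sum_cycleType, hxc]
    simp
  apply hA
  exact Cfsg.Agent.S0713.result H hprim hp' (by rw [Fintype.card_fin]; omega)
    (by rw [Fintype.card_fin]; omega) hcyc hsupp x.2

end Cfsg.Agent.Lib.H26.S3571C4
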