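import Mathlib

/-!
helper26: S3571 block NT (Sylvester-Schur), pieces SS9 / SS10: the two large-`k` inequalities
(`k ≥ 2^16`, `n² < k³`), in strong pure-`ℕ` forms.  Light file, Mathlib only.
-/

set_option autoImplicit false

namespace Cfsg.Agent.Lib.H26.S3571SS9

/-- Integer fourth root. -/
theorem exists_fourth_root (k : ℕ) : ∃ m, m ^ 4 ≤ k ∧ k < (m + 1) ^ 4 := by
  refine ⟨Nat.sqrt (Nat.sqrt k), ?_, ?_⟩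
  · have h1 := Nat.sqrt_le' (Nat.sqrt k)
    have h2 := Nat.sqrt_le' k
    calc (Nat.sqrt (Nat.sqrt k)) ^ 4 = ((Nat.sqrt (Nat.sqrt k)) ^ 2) ^ 2 := by ring
      _ ≤ (Nat.sqrt k) ^ 2 := Nat.pow_le_pow_left h1 2
      _ ≤ k := h2
  · have h1 : Nat.sqrt k < (Nat.sqrt (Nat.sqrt k) + 1) ^ 2 := Nat.lt_succ_sqrt' (Nat.sqrt k)
    have h2 : k < (Nat.sqrt k + 1) ^ 2 := Nat.lt_succ_sqrt' k
    have h3 : Nat.sqrt k + 1 ≤ (Nat.sqrt (Nat.sqrt k) + 1) ^ 2 := h1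
    calc k < (Nat.sqrt k + 1) ^ 2 := h2
      _ ≤ ((Nat.sqrt (Nat.sqrt k) + 1) ^ 2) ^ 2 := Nat.pow_le_pow_left h3 2
      _ = (Nat.sqrt (Nat.sqrt k) + 1) ^ 4 := by ring

theorem pow_four_le_two_pow (M : ℕ) (hM : 16 ≤ M) : M ^ 4 ≤ 2 ^ M := by
  induction M, hM using Nat.le_induction with
  | base => norm_num
  | succ M hM ih =>
    have h : (M + 1) ^ 4 ≤ 2 * M ^ 4 := by
      obtain ⟨d, rfl⟩ := Nat.exists_eq_add_of_le hM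
      nlinarith [Nat.zero_le d, Nat.zero_le (d ^ 2), Nat.zero_le (d ^ 3), Nat.zero_le (d ^ 4)]
    calc (M + 1) ^ 4 ≤ 2 * M ^ 4 := h
      _ ≤ 2 * 2 ^ M := Nat.mul_le_mul_left 2 ih
      _ = 2 ^ (M + 1) := by ring

theorem thirteen_cube_le (m : ℕ) (hm : 16 ≤ m) : 13 * (m + 1) ^ 3 ≤ m ^ 4 := by
  obtain ⟨d, rfl⟩ := Nat.exists_eq_add_of_le hm
  nlinarith [Nat.zero_le d, Nat.zero_le (d ^ 2), Nat.zero_le (d ^ 3), Nat.zero_le (d ^ 4)]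

theorem two_mul_pow_le (M : ℕ) (hM : 16 ≤ M) : 2 * M ^ (6 * M ^ 2 + 4) ≤ 4 ^ (M ^ 3) := by
  have h4 : (2 * M ^ (6 * M ^ 2 + 4)) ^ 4 ≤ (4 ^ (M ^ 3)) ^ 4 := by
    have e1 : (2 * M ^ (6 * M ^ 2 + 4)) ^ 4 = 2 ^ 4 * (M ^ 4) ^ (6 * M ^ 2 + 4) := by
      rw [mul_pow, ← pow_mul, ← pow_mul, mul_comm 4]
    have e2 : (4 ^ (M ^ 3)) ^ 4 = 2 ^ (8 * M ^ 3) := by
      rw [show (4 : ℕ) = 2 ^ 2 from rfl, ← pow_mul, ← pow_mul]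
      congr 1
      ring
    rw [e1, e2]
    have h1 : (M ^ 4) ^ (6 * M ^ 2 + 4) ≤ (2 ^ M) ^ (6 * M ^ 2 + 4) :=
      Nat.pow_le_pow_left (pow_four_le_two_pow M hM) _
    have hexp : 4 + M * (6 * M ^ 2 + 4) ≤ 8 * M ^ 3 := by
      obtain ⟨d, rfl⟩ := Nat.exists_eq_add_of_le hM
      nlinarith [Nat.zero_le d, Nat.zero_le (d ^ 2), Nat.zero_le (d ^ 3)]
    calc 2 ^ 4 * (M ^ 4) ^ (6 * M ^ 2 + 4) ≤ 2 ^ 4 * (2 ^ M) ^ (6 * M ^ 2 + 4) :=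
          Nat.mul_le_mul_left _ h1
      _ = 2 ^ (4 + M * (6 * M ^ 2 + 4)) := by rw [← pow_mul, ← pow_add]
      _ ≤ 2 ^ (8 * M ^ 3) := Nat.pow_le_pow_right (by norm_num) hexp
  exact (Nat.pow_le_pow_iff_left (by norm_num : (4 : ℕ) ≠ 0)).mp h4

/-- **Core**: the three-level bound is below `16 ^ j` with `13 j ≤ k`. -/
theorem key (k n s t : ℕ) (hk : 2 ^ 16 ≤ k) (hn : n ^ 2 ≤ k ^ 3) (hs : s ^ 2 ≤ n)
    (ht : t ^ 3 ≤ n) : ∃ j, 13 * j ≤ k ∧ 2 * k * 4 ^ s * n ^ t < 16 ^ j := by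
  obtain ⟨m, hm1, hm2⟩ := exists_fourth_root k
  have hm16 : 16 ≤ m := by
    by_contra hlt
    push_neg at hlt
    have h1 : m + 1 ≤ 16 := hlt
    have h2 : (m + 1) ^ 4 ≤ 16 ^ 4 := Nat.pow_le_pow_left h1 4
    have h3 : (16 : ℕ) ^ 4 = 2 ^ 16 := by norm_num
    omega
  have hM16 : 16 ≤ m + 1 := by omega
  have hMpos : 0 < m + 1 := by omega
  -- `k ^ 3 < (m+1) ^ 12`
  have hk3 : k ^ 3 < (m + 1) ^ 12 := by
    calc k ^ 3 < ((m + 1) ^ 4) ^ 3 := Nat.pow_lt_pow_left hm2 (by norm_num)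
      _ = (m + 1) ^ 12 := by rw [← pow_mul]
  have hn2 : n ^ 2 < (m + 1) ^ 12 := lt_of_le_of_lt hn hk3
  -- `s < (m+1)^3`
  have hs' : s < (m + 1) ^ 3 := by
    have h1 : s ^ 4 ≤ n ^ 2 := by
      calc s ^ 4 = (s ^ 2) ^ 2 := by rw [← pow_mul]
        _ ≤ n ^ 2 := Nat.pow_le_pow_left hs 2
    have h2 : s ^ 4 < ((m + 1) ^ 3) ^ 4 := by
      calc s ^ 4 ≤ n ^ 2 := h1
        _ < (m + 1) ^ 12 := hn2
        _ = ((m + 1) ^ 3) ^ 4 := by rw [← pow_mul]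
    exact (Nat.pow_lt_pow_iff_left (by norm_num : (4 : ℕ) ≠ 0)).mp h2
  -- `t < (m+1)^2`
  have ht' : t < (m + 1) ^ 2 := by
    have h1 : t ^ 6 ≤ n ^ 2 := by
      calc t ^ 6 = (t ^ 3) ^ 2 := by rw [← pow_mul]
        _ ≤ n ^ 2 := Nat.pow_le_pow_left ht 2
    have h2 : t ^ 6 < ((m + 1) ^ 2) ^ 6 := by
      calc t ^ 6 ≤ n ^ 2 := h1
        _ < (m + 1) ^ 12 := hn2
        _ = ((m + 1) ^ 2) ^ 6 := by rw [← pow_mul]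
    exact (Nat.pow_lt_pow_iff_left (by norm_num : (6 : ℕ) ≠ 0)).mp h2
  -- `n < (m+1)^6`
  have hn' : n < (m + 1) ^ 6 := by
    have h2 : n ^ 2 < ((m + 1) ^ 6) ^ 2 := by
      calc n ^ 2 < (m + 1) ^ 12 := hn2
        _ = ((m + 1) ^ 6) ^ 2 := by rw [← pow_mul]
    exact (Nat.pow_lt_pow_iff_left (by norm_num : (2 : ℕ) ≠ 0)).mp h2
  -- `n ^ t ≤ (m+1)^(6 (m+1)^2)`
  have hnt : n ^ t ≤ (m + 1) ^ (6 * (m + 1) ^ 2) := by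
    calc n ^ t ≤ ((m + 1) ^ 6) ^ t := Nat.pow_le_pow_left hn'.le t
      _ ≤ ((m + 1) ^ 6) ^ ((m + 1) ^ 2) :=
          Nat.pow_le_pow_right (pow_pos hMpos 6) ht'.le
      _ = (m + 1) ^ (6 * (m + 1) ^ 2) := by rw [← pow_mul]
  have h4s : 4 ^ s ≤ 4 ^ ((m + 1) ^ 3) := Nat.pow_le_pow_right (by norm_num) hs'.le
  refine ⟨(m + 1) ^ 3, ?_, ?_⟩
  · exact le_trans (thirteen_cube_le m hm16) hm1
  · calc 2 * k * 4 ^ s * n ^ t ≤ 2 * k * 4 ^ ((m + 1) ^ 3) * (m + 1) ^ (6 * (m + 1) ^ 2) :=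
          Nat.mul_le_mul (Nat.mul_le_mul_left _ h4s) hnt
      _ < 2 * (m + 1) ^ 4 * 4 ^ ((m + 1) ^ 3) * (m + 1) ^ (6 * (m + 1) ^ 2) := by
          apply Nat.mul_lt_mul_of_lt_of_le _ (le_refl _) (pow_pos hMpos _)
          apply Nat.mul_lt_mul_of_lt_of_le _ (le_refl _) (pow_pos (by norm_num) _)
          omega
      _ = (2 * (m + 1) ^ (6 * (m + 1) ^ 2 + 4)) * 4 ^ ((m + 1) ^ 3) := by
          rw [pow_add]; ring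
      _ ≤ 4 ^ ((m + 1) ^ 3) * 4 ^ ((m + 1) ^ 3) :=
          Nat.mul_le_mul_right _ (two_mul_pow_le (m + 1) hM16)
      _ = 16 ^ ((m + 1) ^ 3) := by
          rw [← mul_pow]
          norm_num

/-- **SS9**: `(5/4)^k` beats the three-level bound. -/
theorem ineq9 (k n s t : ℕ) (hk : 2 ^ 16 ≤ k) (hn : n ^ 2 ≤ k ^ 3) (hs : s ^ 2 ≤ n)
    (ht : t ^ 3 ≤ n) : 2 * k * 4 ^ s * n ^ t * 4 ^ k < 5 ^ k := by
  obtain ⟨j, hj, hX⟩ := key k n s t hk hn hs ht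
  have h13 : 16 * 4 ^ 13 ≤ 5 ^ 13 := by norm_num
  have h1 : 16 ^ j * 4 ^ (13 * j) ≤ 5 ^ (13 * j) := by
    calc 16 ^ j * 4 ^ (13 * j) = (16 * 4 ^ 13) ^ j := by rw [mul_pow, ← pow_mul]
      _ ≤ (5 ^ 13) ^ j := Nat.pow_le_pow_left h13 j
      _ = 5 ^ (13 * j) := by rw [← pow_mul]
  have h2 : 4 ^ (k - 13 * j) ≤ 5 ^ (k - 13 * j) := Nat.pow_le_pow_left (by norm_num) _
  calc 2 * k * 4 ^ s * n ^ t * 4 ^ k < 16 ^ j * 4 ^ k :=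
        Nat.mul_lt_mul_of_lt_of_le hX (le_refl _) (pow_pos (by norm_num) _)
    _ = (16 ^ j * 4 ^ (13 * j)) * 4 ^ (k - 13 * j) := by
        rw [mul_assoc, ← pow_add, Nat.add_sub_cancel' hj]
    _ ≤ 5 ^ (13 * j) * 5 ^ (k - 13 * j) := Nat.mul_le_mul h1 h2
    _ = 5 ^ k := by rw [← pow_add, Nat.add_sub_cancel' hj]

/-- **SS10**: `4^(k/6)` beats the three-level bound. -/
theorem ineq10 (k n s t : ℕ) (hk : 2 ^ 16 ≤ k) (hn : n ^ 2 ≤ k ^ 3) (hs : s ^ 2 ≤ n)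
    (ht : t ^ 3 ≤ n) : (2 * k * 4 ^ s * n ^ t) ^ 3 < 2 ^ k := by
  obtain ⟨j, hj, hX⟩ := key k n s t hk hn hs ht
  calc (2 * k * 4 ^ s * n ^ t) ^ 3 < (16 ^ j) ^ 3 := Nat.pow_lt_pow_left hX (by norm_num)
    _ = 2 ^ (12 * j) := by
        rw [show (16 : ℕ) = 2 ^ 4 from rfl, ← pow_mul, ← pow_mul]
        congr 1
        ring
    _ ≤ 2 ^ k := Nat.pow_le_pow_right (by norm_num) (by omega)

end Cfsg.Agent.Lib.H26.S3571SS9
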