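import Cfsg.Agent.Lib.H8.S3571SSDefs
import Cfsg.Agent.Lib.H26.S3571SS9

/-!
helper26: S3571 block NT, pieces SS9 and SS10 in the EXACT shapes of helper8's cut
(`Cfsg.Agent.Lib.H8.S3571SS.SS9Stmt`, `SS10Stmt`), from `S3571SS9.ineq9 / ineq10`.
-/

set_option autoImplicit false

namespace Cfsg.Agent.Lib.H26.S3571SS910

open Cfsg.Agent.Lib.H8.S3571SS
open Cfsg.Agent.Lib.H26.S3571SS9

theorem ss9 : SS9Stmt := by
  intro n k s t hk h5 hn hs ht
  have hk16 : 2 ^ 16 ≤ k := le_trans (by norm_num) hk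
  have h9 := ineq9 k n s t hk16 hn hs ht
  have hkk : 0 < k ^ k := pow_pos (by omega) k
  calc 2 * k * k ^ k * (4 ^ (k + s) * n ^ t)
      = (2 * k * 4 ^ s * n ^ t * 4 ^ k) * k ^ k := by rw [pow_add]; ring
    _ < 5 ^ k * k ^ k := Nat.mul_lt_mul_of_lt_of_le h9 (le_refl _) hkk
    _ = (5 * k) ^ k := by rw [mul_pow]
    _ ≤ (2 * n) ^ k := Nat.pow_le_pow_left h5 k

theorem ss10 : SS10Stmt := by
  intro n k s t hk h2 h5 hs ht
  have hk16 : 2 ^ 16 ≤ k := le_trans (by norm_num) hk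
  have hk9 : 9 ≤ k := le_trans (by norm_num) hk
  have hn : n ^ 2 ≤ k ^ 3 := by
    have h3 : n ≤ 3 * k := by omega
    calc n ^ 2 ≤ (3 * k) ^ 2 := Nat.pow_le_pow_left h3 2
      _ = 9 * (k * k) := by ring
      _ ≤ k * (k * k) := Nat.mul_le_mul_right _ hk9
      _ = k ^ 3 := by ring
  have h10 := ineq10 k n s t hk16 hn hs ht
  have hdiv : n / 3 ≤ k := by omega
  -- `X < 4 ^ (k - n/3)`
  have hX : 2 * k * 4 ^ s * n ^ t < 4 ^ (k - n / 3) := by
    have h6 : k ≤ 6 * (k - n / 3) := by omega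
    have h1 : (2 * k * 4 ^ s * n ^ t) ^ 3 < (4 ^ (k - n / 3)) ^ 3 := by
      calc (2 * k * 4 ^ s * n ^ t) ^ 3 < 2 ^ k := h10
        _ ≤ 2 ^ (6 * (k - n / 3)) := Nat.pow_le_pow_right (by norm_num) h6
        _ = (4 ^ (k - n / 3)) ^ 3 := by
            rw [show (4 : ℕ) = 2 ^ 2 from rfl, ← pow_mul, ← pow_mul]
            congr 1
            ring
    exact (Nat.pow_lt_pow_iff_left (by norm_num : (3 : ℕ) ≠ 0)).mp h1
  have hkk : 0 < k ^ k := pow_pos (by omega) k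
  have h4k : (4 * k) ^ k ≤ (2 * n) ^ k := Nat.pow_le_pow_left (by omega) k
  calc 2 * k * k ^ k * (4 ^ (n / 3 + s) * n ^ t)
      = (2 * k * 4 ^ s * n ^ t) * 4 ^ (n / 3) * k ^ k := by rw [pow_add]; ring
    _ < 4 ^ (k - n / 3) * 4 ^ (n / 3) * k ^ k := by
        apply Nat.mul_lt_mul_of_lt_of_le _ (le_refl _) hkk
        exact Nat.mul_lt_mul_of_lt_of_le hX (le_refl _) (pow_pos (by norm_num) _)
    _ = (4 * k) ^ k := by
        rw [← pow_add, Nat.sub_add_cancel hdiv, mul_pow]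
    _ ≤ (2 * n) ^ k := h4k

end Cfsg.Agent.Lib.H26.S3571SS910
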