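import Cfsg.Agent.Lib.H1.Hall

/-!
# S3776, reduction to an odd-order group of automorphisms (helper26)

A solvable group `Y` of automorphisms of a finite group `G`, transitive on the involutions of `G`,
whose number is odd, contains a subgroup `E` of odd order (a Hall `2'`-subgroup) that is still
transitive on the involutions.  Also: the number of involutions of a finite group of even order is
odd.
-/

set_option autoImplicit false

namespace Cfsg.Agent.Lib.H26.S3776Odd

universe u

variable {G : Type u} [Group G] [Finite G]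

/-- the number of solutions of `x ^ 2 = 1` in a finite group of even order is even -/
theorem even_card_sq_eq_one (heven : Even (Nat.card G)) : Even (Nat.card {x : G // x ^ 2 = 1}) := by
  classical
  have : Fact (Nat.Prime 2) := ⟨Nat.prime_two⟩
  let _ : Fintype G := Fintype.ofFinite G
  let f : Function.End G := fun x => x⁻¹
  have hf : f ^ 2 ^ 1 = 1 := by
    rw [pow_one, sq]
    funext x
    change (x⁻¹)⁻¹ = x
    exact inv_inv x
  have h1 := Equiv.Perm.card_fixedPoints_modEq (p := 2) (n := 1) hf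
  have h3 : Nat.card {x : G // x ^ 2 = 1} = Fintype.card ↑(Function.fixedPoints f) := by
    rw [← Nat.card_eq_fintype_card]
    refine Nat.card_congr (Equiv.subtypeEquivRight (fun x => ?_))
    change x ^ 2 = 1 ↔ x⁻¹ = x
    rw [inv_eq_iff_mul_eq_one, sq]
  rw [h3]
  rw [Nat.card_eq_fintype_card] at heven
  rw [Nat.even_iff] at heven ⊢
  have h4 := h1.symm
  unfold Nat.ModEq at h4
  rw [h4]
  exact heven

/-- the number of involutions of a finite group of even order is odd -/
theorem odd_card_invol (heven : Even (Nat.card G)) :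
    Odd (Nat.card {x : G // x ≠ 1 ∧ x ^ 2 = 1}) := by
  classical
  have h1 := even_card_sq_eq_one heven
  -- `{x // x ^ 2 = 1} ≃ Option {x // x ≠ 1 ∧ x ^ 2 = 1}`
  have h2 : Nat.card {x : G // x ^ 2 = 1} = Nat.card {x : G // x ≠ 1 ∧ x ^ 2 = 1} + 1 := by
    have e : {x : G // x ^ 2 = 1} ≃ Option {x : G // x ≠ 1 ∧ x ^ 2 = 1} :=
      { toFun := fun x => if h : x.1 = 1 then none else some ⟨x.1, h, x.2⟩
        invFun := fun o => match o with
          | none => ⟨1, one_pow 2⟩
          | some y => ⟨y.1, y.2.2⟩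
        left_inv := by
          intro x
          by_cases h : x.1 = 1
          · simp only [h, dite_true]
            exact Subtype.ext h.symm
          · simp only [h, dite_false]
        right_inv := by
          intro o
          cases o with
          | none => simp
          | some y => simp [y.2.1] }
    rw [Nat.card_congr e, Finite.card_option]
  rw [h2] at h1
  rcases Nat.even_or_odd (Nat.card {x : G // x ≠ 1 ∧ x ^ 2 = 1}) with h | h
  · exact absurd h1 (Nat.not_even_iff_odd.mpr h.add_one)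
  · exact h

/-- reduction to odd order -/
theorem exists_odd_transitive (Y : Subgroup (MulAut G)) (hY : Group.IsSolvable Y)
    (hodd : Odd (Nat.card {x : G // x ≠ 1 ∧ x ^ 2 = 1}))
    (htr : ∀ x y : G, x ≠ 1 → x ^ 2 = 1 → y ≠ 1 → y ^ 2 = 1 → ∃ a ∈ Y, a x = y) :
    ∃ E : Subgroup (MulAut G), E ≤ Y ∧ Odd (Nat.card E) ∧
      ∀ x y : G, x ≠ 1 → x ^ 2 = 1 → y ≠ 1 → y ^ 2 = 1 → ∃ a ∈ E, a x = y := by
  classical
  have : Fact (Nat.Prime 2) := ⟨Nat.prime_two⟩
  obtain ⟨⟨v, hv1, hv2⟩⟩ : Nonempty {x : G // x ≠ 1 ∧ x ^ 2 = 1} := by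
    by_contra h
    rw [not_nonempty_iff] at h
    rw [Nat.card_of_isEmpty] at hodd
    exact absurd hodd (by decide)
  set St : Subgroup ↥Y := MulAction.stabilizer ↥Y v with hSt
  have horb : MulAction.orbit ↥Y v = {x : G | x ≠ 1 ∧ x ^ 2 = 1} := by
    ext y
    constructor
    · rintro ⟨a, rfl⟩
      refine ⟨?_, ?_⟩
      · intro h
        apply hv1
        have h1 : (a : MulAut G) v = 1 := h
        exact (MulEquiv.map_eq_one_iff (a : MulAut G)).mp h1
      · change ((a : MulAut G) v) ^ 2 = 1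
        rw [← map_pow, hv2, map_one]
    · rintro ⟨hy1, hy2⟩
      obtain ⟨a, ha, hav⟩ := htr v y hv1 hv2 hy1 hy2
      exact ⟨⟨a, ha⟩, hav⟩
  have hidx : St.index = Nat.card {x : G // x ≠ 1 ∧ x ^ 2 = 1} := by
    rw [hSt, MulAction.index_stabilizer, horb]
    exact (Nat.card_coe_set_eq _).symm
  obtain ⟨k, m, hm, hkm⟩ := Nat.exists_eq_two_pow_mul_odd (Nat.card_pos (α := ↥Y)).ne'
  have hSt_card : Nat.card St * St.index = Nat.card ↥Y := Subgroup.card_mul_index St
  have h2k : 2 ^ k ∣ Nat.card St := by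
    have h1 : 2 ^ k ∣ Nat.card St * St.index := by
      rw [hSt_card, hkm]
      exact dvd_mul_right _ _
    have hcop : Nat.Coprime (2 ^ k) St.index := by
      rw [hidx]
      exact Nat.Coprime.pow_left k (Nat.coprime_two_left.mpr hodd)
    exact hcop.dvd_of_dvd_mul_right h1
  obtain ⟨P0, hP0⟩ := Sylow.exists_subgroup_card_pow_prime 2 h2k
  obtain ⟨P, hPdef⟩ : ∃ P : Subgroup ↥Y, P = P0.map St.subtype := ⟨_, rfl⟩
  have hP : Nat.card P = 2 ^ k := by
    rw [hPdef, Subgroup.card_map_of_injective St.subtype_injective, hP0]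
  have hcop2 : Nat.Coprime m (2 ^ k) := Nat.Coprime.pow_right k (Nat.coprime_two_right.mpr hm)
  have := hY
  obtain ⟨H, hH⟩ := Cfsg.Agent.Lib.H1.hall_exists (G := ↥Y) (m := m) (n := 2 ^ k)
    (by rw [hkm, mul_comm]) hcop2
  have hcompl : H.IsComplement' P :=
    Subgroup.isComplement'_of_coprime (by rw [hH, hP, hkm, mul_comm]) (by rw [hH, hP]; exact hcop2)
  have key : ∀ z : G, z ≠ 1 → z ^ 2 = 1 → ∃ h ∈ H, (h : MulAut G) v = z := by
    intro z hz1 hz2
    obtain ⟨a, ha, hav⟩ := htr v z hv1 hv2 hz1 hz2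
    obtain ⟨⟨h, p⟩, hhp, -⟩ := (Subgroup.isComplement'_def.mp hcompl).existsUnique ⟨a, ha⟩
    refine ⟨h.1, h.2, ?_⟩
    have hpv : ((p : ↥Y) : MulAut G) v = v := by
      have hp2 : (p : ↥Y) ∈ P0.map St.subtype := by
        rw [← hPdef]
        exact p.2
      obtain ⟨p0, -, hp0⟩ := hp2
      rw [← hp0]
      exact MulAction.mem_stabilizer_iff.mp p0.2
    have h4 : ((h : ↥Y) : MulAut G) (((p : ↥Y) : MulAut G) v) = z := by
      rw [← hav]
      have h5 := congrArg (fun w : ↥Y => (w : MulAut G) v) hhp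
      exact h5
    rw [hpv] at h4
    exact h4
  refine ⟨H.map Y.subtype, ?_, ?_, ?_⟩
  · exact Subgroup.map_subtype_le H
  · rw [Subgroup.card_map_of_injective Y.subtype_injective, hH]
    exact hm
  · intro x y hx1 hx2 hy1 hy2
    obtain ⟨h1, hh1, e1⟩ := key x hx1 hx2
    obtain ⟨h2, hh2, e2⟩ := key y hy1 hy2
    refine ⟨((h2 * h1⁻¹ : ↥Y) : MulAut G), ?_, ?_⟩
    · exact Subgroup.mem_map_of_mem Y.subtype (H.mul_mem hh2 (H.inv_mem hh1))
    · change ((h2 : MulAut G) * ((h1 : ↥Y)⁻¹ : ↥Y)) x = y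
      rw [← e1, ← e2]
      change (h2 : MulAut G) ((((h1 : ↥Y)⁻¹ : ↥Y) : MulAut G) ((h1 : MulAut G) v)) = (h2 : MulAut G) v
      congr 1
      change ((h1 : MulAut G)⁻¹) ((h1 : MulAut G) v) = v
      exact (h1 : MulAut G).symm_apply_apply v

end Cfsg.Agent.Lib.H26.S3776Odd
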