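import Cfsg.Agent.Lib.H9.S3776Defs
import Cfsg.Agent.Lib.H26.S3776Odd

/-!
# S3776, piece FIN (helper26): the frozen statement from `(*)` and the Hall reduction.
-/

set_option autoImplicit false

namespace Cfsg.Agent.Lib.H26.S3776Fin

open Cfsg.Agent.Lib.H9.S3776

universe u

theorem fin : FinStmt.{u} := by
  intro hstar G _ _ hG hna htwo hY
  obtain ⟨Y, hYs, htr⟩ := hY
  -- the number of involutions is odd
  have hodd : Odd (Nat.card {x : G // x ≠ 1 ∧ x ^ 2 = 1}) := by
    apply Cfsg.Agent.Lib.H26.S3776Odd.odd_card_invol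
    obtain ⟨x, -, -, hx1, hx2, -, -⟩ := htwo
    have h2 : orderOf x = 2 := orderOf_eq_prime hx2 hx1
    rw [even_iff_two_dvd, ← h2]
    exact orderOf_dvd_natCard x
  obtain ⟨E, hEY, hEodd, hEtr⟩ :=
    Cfsg.Agent.Lib.H26.S3776Odd.exists_odd_transitive Y hYs hodd htr
  have hsolv : Group.IsSolvable ↥E := by
    have := hYs
    exact Group.isSolvable_of_isSolvable_injective (Subgroup.inclusion_injective hEY)
  have hyp : Hyp G ↥E E.subtype :=
    { pG := hG
      solv := hsolv
      odd := hEodd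
      two := htwo
      trans := by
        intro x y hx1 hx2 hy1 hy2
        obtain ⟨a, ha, hax⟩ := hEtr x y hx1 hx2 hy1 hy2
        exact ⟨⟨a, ha⟩, hax⟩ }
  rcases hstar G ↥E E.subtype hyp with hc | hs
  · exact absurd (⟨⟨hc⟩⟩ : IsMulCommutative G) hna
  · exact hs

example : FinStmt.{0} := fin

end Cfsg.Agent.Lib.H26.S3776Fin
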