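import Cfsg.Agent.Lib.H9.S3776Defs
import Cfsg.Agent.Lib.H26.QuotAct
import Cfsg.Agent.Lib.H1.PGroupBasic

/-!
# S3776, piece S1Q (helper26): the induction hypothesis for `G ⧸ V` with the induced action,
pulled back to `G`.
-/

set_option autoImplicit false

namespace Cfsg.Agent.Lib.H26.S3776S1Q

open Cfsg.Agent.Lib.H9.S3776 Cfsg.Agent.Lib.H26.QuotAct

universe u

theorem central_inv_mul_sq {G : Type u} [Group G] {z w : G} (hz : z ∈ Subgroup.center G) :
    (z⁻¹ * w) ^ 2 = (z ^ 2)⁻¹ * w ^ 2 := by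
  have hcomm : Commute z w := (Subgroup.mem_center_iff.mp hz w).symm
  rw [hcomm.inv_left.mul_pow 2, inv_pow]

theorem s1q : S1QStmt.{u} := by
  intro G E _ _ _ _ φ V hyp ih fr hA hB
  classical
  have : Fact (Nat.Prime 2) := ⟨Nat.prime_two⟩
  have hVn : V.Normal := ⟨fun v hv g => by
    have h1 := fr.cen v hv g
    rw [h1, mul_assoc, mul_inv_cancel, mul_one]
    exact hv⟩
  obtain ⟨ψ, hψdef⟩ : ∃ ψ : E →* MulAut (G ⧸ V), ψ = quotAct φ V fr.inv := ⟨_, rfl⟩
  have hψ : ∀ e g, ψ e (QuotientGroup.mk g : G ⧸ V) = (QuotientGroup.mk (φ e g) : G ⧸ V) := by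
    intro e g
    rw [hψdef]
    exact quotAct_mk φ V fr.inv e g
  have hone : ∀ g : G, (QuotientGroup.mk g : G ⧸ V) = 1 ↔ g ∈ V := fun g =>
    QuotientGroup.eq_one_iff g
  -- involutions of the quotient
  have hinv : ∀ a : G, (QuotientGroup.mk a : G ⧸ V) ≠ 1 → (QuotientGroup.mk a : G ⧸ V) ^ 2 = 1 →
      a ∈ Subgroup.center G ∧ a ^ 2 ∈ V ∧ a ^ 2 ≠ 1 := by
    intro a ha1 ha2
    have h1 : a ^ 2 ∈ V := by
      rw [← hone, QuotientGroup.mk_pow]
      exact ha2
    refine ⟨hB a h1, h1, ?_⟩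
    intro h
    exact ha1 ((hone a).mpr ((fr.mem a).mpr h))
  have hypQ : Hyp (G ⧸ V) E ψ := by
    refine ⟨hyp.pG.to_quotient V, hyp.solv, hyp.odd, ?_, ?_⟩
    · obtain ⟨x, y, hxV, hyV, hxy, hx1, hy1⟩ := fr.two
      obtain ⟨zx, hzxc, hzx⟩ := hA x hxV
      obtain ⟨zy, hzyc, hzy⟩ := hA y hyV
      refine ⟨QuotientGroup.mk zx, QuotientGroup.mk zy, ?_, ?_, ?_, ?_, ?_⟩
      · intro h
        rw [QuotientGroup.eq] at h
        have h2 := (fr.mem _).mp h
        rw [central_inv_mul_sq hzxc, hzx, hzy] at h2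
        exact hxy (inv_mul_eq_one.mp h2)
      · intro h
        have h2 := (fr.mem _).mp ((hone zx).mp h)
        rw [hzx] at h2
        exact hx1 h2
      · rw [← QuotientGroup.mk_pow, hzx]
        exact (hone x).mpr hxV
      · intro h
        have h2 := (fr.mem _).mp ((hone zy).mp h)
        rw [hzy] at h2
        exact hy1 h2
      · rw [← QuotientGroup.mk_pow, hzy]
        exact (hone y).mpr hyV
    · intro xb yb hx1 hx2 hy1 hy2
      obtain ⟨a, rfl⟩ := QuotientGroup.mk_surjective xb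
      obtain ⟨b, rfl⟩ := QuotientGroup.mk_surjective yb
      obtain ⟨hac, haV, ha1⟩ := hinv a hx1 hx2
      obtain ⟨hbc, hbV, hb1⟩ := hinv b hy1 hy2
      obtain ⟨e, he⟩ := fr.trans (a ^ 2) (b ^ 2) haV hbV ha1 hb1
      refine ⟨e, ?_⟩
      rw [hψ, QuotientGroup.eq]
      have hc2 : (φ e a) ^ 2 = b ^ 2 := by
        rw [← map_pow]
        exact he
      have hcc : φ e a ∈ Subgroup.center G := hB _ (by rw [hc2]; exact hbV)
      apply (fr.mem _).mpr
      rw [central_inv_mul_sq hcc, hc2, inv_mul_cancel]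
  have hlt : Nat.card (G ⧸ V) < Nat.card G := by
    have h1 := Subgroup.card_mul_index V
    rw [Subgroup.index_eq_card] at h1
    have h2 : 1 < Nat.card V := by
      rw [Subgroup.one_lt_card_iff_ne_bot]
      intro hbot
      obtain ⟨x, y, hxV, hyV, hxy, hx1, hy1⟩ := fr.two
      rw [hbot, Subgroup.mem_bot] at hxV
      exact hx1 hxV
    have h3 : 0 < Nat.card (G ⧸ V) := Nat.card_pos
    calc Nat.card (G ⧸ V) = 1 * Nat.card (G ⧸ V) := (one_mul _).symm
      _ < Nat.card V * Nat.card (G ⧸ V) := Nat.mul_lt_mul_of_pos_right h2 h3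
      _ = Nat.card G := h1
  rcases ih (G ⧸ V) E ψ hlt hypQ with hc | ⟨h1, h2, h3⟩
  · left
    intro x y
    rw [← hone]
    simp only [QuotientGroup.mk_mul, QuotientGroup.mk_inv]
    rw [hc (QuotientGroup.mk x) (QuotientGroup.mk y)]
    group
  · right
    constructor
    · intro x
      have h4 : (QuotientGroup.mk x : G ⧸ V) ^ 2 ∈ frattini (G ⧸ V) :=
        Cfsg.Agent.Lib.H1.isPGroup_pow_mem_frattini (hyp.pG.to_quotient V) _
      rw [h2] at h4
      have h5 := (h3 _).mp h4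
      rw [← hone, QuotientGroup.mk_pow, QuotientGroup.mk_pow]
      exact h5
    · intro x y
      have h4 : (QuotientGroup.mk x : G ⧸ V) * QuotientGroup.mk y * (QuotientGroup.mk x)⁻¹ *
          (QuotientGroup.mk y)⁻¹ ∈ commutator (G ⧸ V) := by
        rw [commutator_def, ← commutatorElement_def]
        exact Subgroup.commutator_mem_commutator (Subgroup.mem_top _) (Subgroup.mem_top _)
      rw [h1, h2] at h4
      have h5 := (h3 _).mp h4
      rw [← hone, QuotientGroup.mk_pow]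
      simp only [QuotientGroup.mk_mul, QuotientGroup.mk_inv]
      exact h5

example : S1QStmt.{0} := s1q

end Cfsg.Agent.Lib.H26.S3776S1Q
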