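import Cfsg.Agent.Lib.H19.S3797Defs

/-!
# S3797, piece DESC, second half (helper26)

`descB`: in a frame `(Q, V)`, if `G1` is a normal subgroup of index 2 all of whose 2-elements lie
in `Q`, then the Sylow 2-subgroups of `G` are normal.  Route: Sylow--Frattini for every odd prime
(no Schur--Zassenhaus, no solvability).
-/

set_option autoImplicit false

namespace Cfsg.Agent.Lib.H26.S3797DescB

open Cfsg.Agent.Lib.H19.S3797

universe u

variable {G : Type u} [Group G]

/-- a nontrivial element killed by a power of two has an involution among its powers -/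
theorem exists_invol_pow {x : G} (hx : x ≠ 1) {k : ℕ} (hk : x ^ (2 ^ k) = 1) :
    ∃ m : ℕ, x ^ m ≠ 1 ∧ (x ^ m) ^ 2 = 1 := by
  have hd : orderOf x ∣ 2 ^ k := orderOf_dvd_of_pow_eq_one hk
  obtain ⟨j, _, hoj⟩ := (Nat.dvd_prime_pow Nat.prime_two).mp hd
  have hj1 : j ≠ 0 := by
    rintro rfl
    rw [pow_zero, orderOf_eq_one_iff] at hoj
    exact hx hoj
  obtain ⟨i, rfl⟩ := Nat.exists_eq_succ_of_ne_zero hj1
  refine ⟨2 ^ i, ?_, ?_⟩
  · intro h
    have h1 := orderOf_dvd_of_pow_eq_one h
    rw [hoj] at h1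
    have h2 := Nat.le_of_dvd (by positivity) h1
    rw [pow_succ] at h2
    have h3 : 0 < 2 ^ i := by positivity
    omega
  · rw [← pow_mul, ← pow_succ, ← hoj, pow_orderOf_eq_one]

/-- odd powers of an element outside a subgroup of index 2 stay outside -/
theorem pow_not_mem_of_index_two {G1 : Subgroup G} (hidx : G1.index = 2) {x : G} (hx : x ∉ G1)
    {m : ℕ} (hm : Odd m) : x ^ m ∉ G1 := by
  obtain ⟨t, rfl⟩ := hm
  rw [pow_succ, Subgroup.mul_mem_iff_of_index_two hidx]
  intro h
  apply hx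
  apply h.mp
  rw [pow_mul]
  exact G1.pow_mem (Subgroup.sq_mem_of_index_two hidx x) t

/-- membership in a conjugate Sylow subgroup -/
theorem mem_smul_sylow {p : ℕ} (g : G) (P : Sylow p G) (t : G) :
    t ∈ ((g • P : Sylow p G) : Subgroup G) ↔ g⁻¹ * t * g ∈ (P : Subgroup G) := by
  rw [Sylow.coe_subgroup_smul, Subgroup.mem_pointwise_smul_iff_inv_smul_mem]
  simp [MulAut.smul_def]

theorem descB [Finite G] (Q V : Subgroup G) (hF : Frame Q V) (G1 : Subgroup G) (hn : G1.Normal)
    (hidx : G1.index = 2) (h2 : ∀ x ∈ G1, (∃ k : ℕ, x ^ (2 ^ k) = 1) → x ∈ Q) (S : Sylow 2 G) :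
    (S : Subgroup G).Normal := by
  classical
  have : Fact (Nat.Prime 2) := ⟨Nat.prime_two⟩
  have := hF.Qn
  have := hn
  -- `Q ≤ S`
  have hQS : Q ≤ (S : Subgroup G) := by
    obtain ⟨P, hP⟩ := hF.Q2.exists_le_sylow
    obtain ⟨g, hg⟩ := MulAction.exists_smul_eq G P S
    intro q hq
    have h1 : g⁻¹ * q * g⁻¹⁻¹ ∈ Q := hF.Qn.conj_mem q hq g⁻¹
    rw [inv_inv] at h1
    have h3 : q ∈ ((g • P : Sylow 2 G) : Subgroup G) := (mem_smul_sylow g P q).mpr (hP h1)
    rw [hg] at h3
    exact h3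
  by_cases hSQ : (S : Subgroup G) ≤ Q
  · have h1 : Q = (S : Subgroup G) := S.is_maximal' hF.Q2 hSQ
    rw [← h1]
    exact hF.Qn
  · exfalso
    obtain ⟨s0, hs0S, hs0Q⟩ := SetLike.not_le_iff_exists.mp hSQ
    have hS2 : ∀ t ∈ (S : Subgroup G), ∃ k : ℕ, t ^ (2 ^ k) = 1 := by
      intro t ht
      obtain ⟨k, hk⟩ := S.isPGroup' ⟨t, ht⟩
      exact ⟨k, by simpa using congrArg Subtype.val hk⟩
    have hs0G1 : s0 ∉ G1 := fun h => hs0Q (h2 s0 h (hS2 s0 hs0S))
    have hmul : ∀ a b : G, a * b ∈ G1 ↔ (a ∈ G1 ↔ b ∈ G1) :=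
      fun a b => Subgroup.mul_mem_iff_of_index_two hidx
    -- `Q ≤ G1`
    have hQG1 : Q ≤ G1 := by
      intro q hq
      by_contra hqG1
      have h3 : q⁻¹ * s0 ∈ G1 := by
        rw [hmul]
        constructor
        · intro h
          exact absurd (G1.inv_mem_iff.mp h) hqG1
        · intro h
          exact absurd h hs0G1
      have h4 : q⁻¹ * s0 ∈ Q :=
        h2 _ h3 (hS2 _ ((S : Subgroup G).mul_mem ((S : Subgroup G).inv_mem (hQS hq)) hs0S))
      apply hs0Q
      have h5 := Q.mul_mem hq h4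
      rwa [mul_inv_cancel_left] at h5
    have hVG1 : V ≤ G1 := hF.VQ.trans hQG1
    -- `S = Q ∪ s0 Q`
    have hSdec : ∀ t ∈ (S : Subgroup G), t ∈ Q ∨ s0⁻¹ * t ∈ Q := by
      intro t ht
      by_cases htG : t ∈ G1
      · exact Or.inl (h2 t htG (hS2 t ht))
      · right
        have h3 : s0⁻¹ * t ∈ G1 := by
          rw [hmul]
          constructor
          · intro h
            exact absurd (G1.inv_mem_iff.mp h) hs0G1
          · intro h
            exact absurd h htG
        exact h2 _ h3 (hS2 _ ((S : Subgroup G).mul_mem ((S : Subgroup G).inv_mem hs0S) ht))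
    obtain ⟨x, y, hxy, hx1, hx2, hy1, hy2⟩ := hF.four
    have hxV : x ∈ V := (hF.Vmem x).mpr hx2
    have hyV : y ∈ V := (hF.Vmem y).mpr hy2
    have hVab : ∀ a ∈ V, ∀ b ∈ V, a * b = b * a :=
      fun a ha b hb => hF.Vcen b hb a (hF.VQ ha)
    have hs0sq : s0 * s0 ∈ Q := by
      have h3 : s0 ^ 2 ∈ G1 := Subgroup.sq_mem_of_index_two hidx s0
      rw [sq] at h3
      exact h2 _ h3 (hS2 _ ((S : Subgroup G).mul_mem hs0S hs0S))
    -- an involution centralised by `S`
    have hz0 : ∃ z0 ∈ V, z0 ≠ 1 ∧ ∀ t ∈ (S : Subgroup G), t * z0 = z0 * t := by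
      have h3 : ∃ z0 ∈ V, z0 ≠ 1 ∧ s0 * z0 = z0 * s0 := by
        by_cases hfix : s0 * x = x * s0
        · exact ⟨x, hxV, hx1, hfix⟩
        · obtain ⟨x', hx'⟩ : ∃ x', x' = s0 * x * s0⁻¹ := ⟨_, rfl⟩
          have hx'V : x' ∈ V := by
            rw [hx']
            exact hF.Vn.conj_mem x hxV s0
          refine ⟨x * x', V.mul_mem hxV hx'V, ?_, ?_⟩
          · intro h
            apply hfix
            have hxinv : x⁻¹ = x := by
              rw [inv_eq_iff_mul_eq_one, ← sq]
              exact hx2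
            have h4 : x' = x := by
              have h5 := eq_inv_of_mul_eq_one_right h
              rw [h5, hxinv]
            rw [hx'] at h4
            calc s0 * x = s0 * x * s0⁻¹ * s0 := by group
              _ = x * s0 := by rw [h4]
          · have h5 : s0 * x' * s0⁻¹ = x := by
              have h6 := hF.Vcen x hxV (s0 * s0) hs0sq
              calc s0 * x' * s0⁻¹ = (s0 * s0) * x * (s0 * s0)⁻¹ := by rw [hx']; group
                _ = x * (s0 * s0) * (s0 * s0)⁻¹ := by rw [h6]
                _ = x := by group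
            calc s0 * (x * x') = (s0 * x * s0⁻¹) * (s0 * x' * s0⁻¹) * s0 := by group
              _ = x' * x * s0 := by rw [h5, ← hx']
              _ = x * x' * s0 := by rw [hVab x' hx'V x hxV]
      obtain ⟨z0, hz0V, hz01, hz0s⟩ := h3
      refine ⟨z0, hz0V, hz01, ?_⟩
      intro t ht
      rcases hSdec t ht with h | h
      · exact hF.Vcen z0 hz0V t h
      · have h7 := hF.Vcen z0 hz0V _ h
        calc t * z0 = s0 * ((s0⁻¹ * t) * z0) := by group
          _ = s0 * (z0 * (s0⁻¹ * t)) := by rw [h7]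
          _ = (s0 * z0) * (s0⁻¹ * t) := by group
          _ = (z0 * s0) * (s0⁻¹ * t) := by rw [hz0s]
          _ = z0 * t := by group
    -- every Sylow subgroup for an odd prime centralises an involution
    have hodd : ∀ p : ℕ, p.Prime → p ≠ 2 → ∀ P : Sylow p G,
        ∃ z ∈ V, z ≠ 1 ∧ ∀ a ∈ (P : Subgroup G), a * z = z * a := by
      intro p hp hp2 P
      have : Fact p.Prime := ⟨hp⟩
      have hPG1 : (P : Subgroup G) ≤ G1 := by
        intro a ha
        by_contra haG
        obtain ⟨k, hk⟩ := P.isPGroup' ⟨a, ha⟩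
        have hk' : a ^ (p ^ k) = 1 := by simpa using congrArg Subtype.val hk
        have hoddpk : Odd (p ^ k) := (hp.odd_of_ne_two hp2).pow
        exact (pow_not_mem_of_index_two hidx haG hoddpk) (hk' ▸ G1.one_mem)
      have hfr : Subgroup.normalizer ((P : Subgroup G) : Set G) ⊔ G1 = ⊤ :=
        Sylow.normalizer_sup_eq_top' P hPG1
      have hex : ∃ x0 ∈ Subgroup.normalizer ((P : Subgroup G) : Set G), x0 ∉ G1 := by
        by_contra hcon
        push Not at hcon
        have h3 : Subgroup.normalizer ((P : Subgroup G) : Set G) ≤ G1 := hcon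
        rw [sup_eq_right.mpr h3] at hfr
        rw [hfr, Subgroup.index_top] at hidx
        exact absurd hidx (by norm_num)
      obtain ⟨x0, hx0N, hx0G⟩ := hex
      obtain ⟨k, m, hm, hkm⟩ := Nat.exists_eq_two_pow_mul_odd (orderOf_pos x0).ne'
      obtain ⟨s, hs⟩ : ∃ s, s = x0 ^ m := ⟨_, rfl⟩
      have hsk : s ^ (2 ^ k) = 1 := by
        rw [hs, ← pow_mul, mul_comm, ← hkm, pow_orderOf_eq_one]
      have hsG : s ∉ G1 := by
        rw [hs]
        exact pow_not_mem_of_index_two hidx hx0G hm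
      have hsN : s ∈ Subgroup.normalizer ((P : Subgroup G) : Set G) := by
        rw [hs]
        exact Subgroup.pow_mem _ hx0N m
      have hwG : s ^ 2 ∈ G1 := Subgroup.sq_mem_of_index_two hidx s
      have hwk : (s ^ 2) ^ (2 ^ k) = 1 := by
        rw [← pow_mul, mul_comm, pow_mul, hsk, one_pow]
      have hwQ : s ^ 2 ∈ Q := h2 _ hwG ⟨k, hwk⟩
      have hw1 : s ^ 2 ≠ 1 := fun h => hsG (hVG1 ((hF.Vmem s).mpr h))
      obtain ⟨j, hz1, hz2⟩ := exists_invol_pow hw1 hwk
      obtain ⟨z, hz⟩ : ∃ z, z = (s ^ 2) ^ j := ⟨_, rfl⟩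
      rw [← hz] at hz1 hz2
      have hzQ : z ∈ Q := by
        rw [hz]
        exact Q.pow_mem hwQ j
      have hzN : z ∈ Subgroup.normalizer ((P : Subgroup G) : Set G) := by
        rw [hz]
        exact Subgroup.pow_mem _ (Subgroup.pow_mem _ hsN 2) j
      have hzV : z ∈ V := (hF.Vmem z).mpr hz2
      refine ⟨z, hzV, hz1, ?_⟩
      intro a ha
      have hdisj := IsPGroup.disjoint_of_ne p 2 hp2 (P : Subgroup G) Q P.isPGroup' hF.Q2
      have hc1 : z * a * z⁻¹ * a⁻¹ ∈ (P : Subgroup G) :=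
        (P : Subgroup G).mul_mem ((Subgroup.mem_normalizer_iff.mp hzN a).mp ha)
          ((P : Subgroup G).inv_mem ha)
      have hc2 : z * a * z⁻¹ * a⁻¹ ∈ Q := by
        have h3 : a * z⁻¹ * a⁻¹ ∈ Q := hF.Qn.conj_mem _ (Q.inv_mem hzQ) a
        have h4 := Q.mul_mem hzQ h3
        have h5 : z * (a * z⁻¹ * a⁻¹) = z * a * z⁻¹ * a⁻¹ := by group
        rwa [h5] at h4
      have hc := Subgroup.disjoint_def.mp hdisj hc1 hc2
      calc a * z = (z * a * z⁻¹ * a⁻¹)⁻¹ * (z * a) := by group
        _ = z * a := by rw [hc, inv_one, one_mul]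
    obtain ⟨z0, hz0V, hz01, hz0S⟩ := hz0
    -- the centraliser of `z0` has index 1
    have hidx1 : (Subgroup.centralizer ({z0} : Set G)).index = 1 := by
      rw [Nat.eq_one_iff_not_exists_prime_dvd]
      intro p hp hdvd
      have : Fact p.Prime := ⟨hp⟩
      by_cases hp2 : p = 2
      · subst hp2
        have hle : (S : Subgroup G) ≤ Subgroup.centralizer ({z0} : Set G) := by
          intro t ht
          rw [Subgroup.mem_centralizer_iff]
          intro b hb
          rw [Set.mem_singleton_iff] at hb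
          subst hb
          exact (hz0S t ht).symm
        exact S.not_dvd_index (dvd_trans hdvd (Subgroup.index_dvd_of_le hle))
      · have P : Sylow p G := default
        obtain ⟨z, hzV, hz1, hzP⟩ := hodd p hp hp2 P
        obtain ⟨g, hg⟩ := hF.trans z z0 hzV hz0V hz1 hz01
        have hle : ((g • P : Sylow p G) : Subgroup G) ≤ Subgroup.centralizer ({z0} : Set G) := by
          intro t ht
          rw [mem_smul_sylow] at ht
          have h3 := hzP _ ht
          rw [Subgroup.mem_centralizer_iff]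
          intro b hb
          rw [Set.mem_singleton_iff] at hb
          subst hb
          rw [← hg]
          calc g * z * g⁻¹ * t = g * (z * (g⁻¹ * t * g)) * g⁻¹ := by group
            _ = g * (g⁻¹ * t * g * z) * g⁻¹ := by rw [h3]
            _ = t * (g * z * g⁻¹) := by group
        exact (g • P).not_dvd_index (dvd_trans hdvd (Subgroup.index_dvd_of_le hle))
    have htop := Subgroup.index_eq_one.mp hidx1
    have hcen : ∀ g : G, g * z0 * g⁻¹ = z0 := by
      intro g
      have h3 : g ∈ Subgroup.centralizer ({z0} : Set G) := by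
        rw [htop]
        exact Subgroup.mem_top g
      have h4 := Subgroup.mem_centralizer_iff.mp h3 z0 (Set.mem_singleton z0)
      rw [← h4]
      group
    obtain ⟨g1, hg1⟩ := hF.trans z0 x hz0V hxV hz01 hx1
    obtain ⟨g2, hg2⟩ := hF.trans z0 y hz0V hyV hz01 hy1
    rw [hcen] at hg1 hg2
    exact hxy (hg1.symm.trans hg2)

end Cfsg.Agent.Lib.H26.S3797DescB
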