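import Cfsg.Agent.Lib.H26.S3797DescA
import Cfsg.Agent.Lib.H26.S3797DescB

/-!
# S3797, piece DESC (helper26): `desc : DescStmt`, from `descA` and `descB`.
-/

set_option autoImplicit false

namespace Cfsg.Agent.Lib.H26.S3797Desc

open Cfsg.Agent.Lib.H19.S3797

universe u

theorem desc : DescStmt.{u} := fun _ _ _ hT hIH Q V hF G1 hn hidx S =>
  Cfsg.Agent.Lib.H26.S3797DescB.descB Q V hF G1 hn hidx
    (Cfsg.Agent.Lib.H26.S3797DescA.descA hT hIH Q V hF G1 hn hidx) S

example : DescStmt.{0} := desc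
example : DescStmt.{2} := desc

end Cfsg.Agent.Lib.H26.S3797Desc
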