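import Cfsg.Agent.Lib.H19.S3797Defs

/-!
# S3797, piece DESC, first half (helper26)

`descA`: under the hypotheses of Theorem T and its induction hypothesis, in a frame `(Q, V)`, every
2-element of a normal subgroup `G1` of index 2 lies in `Q`.
-/

set_option autoImplicit false

namespace Cfsg.Agent.Lib.H26.S3797DescA

open Cfsg.Agent.Lib.H19.S3797

universe u

variable {G : Type u} [Group G]

theorem conj_pow_eq {a q c : G} (hac : a * c = c * a) (h : a * q * a⁻¹ = c * q) (k : ℕ) :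
    a ^ k * q * (a ^ k)⁻¹ = c ^ k * q := by
  induction k with
  | zero => simp
  | succ k ih =>
    have hck : a * c ^ k = c ^ k * a := (Commute.pow_right (show Commute a c from hac) k).eq
    calc a ^ (k + 1) * q * (a ^ (k + 1))⁻¹ = a * (a ^ k * q * (a ^ k)⁻¹) * a⁻¹ := by
          rw [pow_succ', mul_inv_rev]
          simp only [mul_assoc]
      _ = a * (c ^ k * q) * a⁻¹ := by rw [ih]
      _ = (a * c ^ k) * q * a⁻¹ := by simp only [mul_assoc]
      _ = c ^ k * (a * q * a⁻¹) := by rw [hck]; simp only [mul_assoc]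
      _ = c ^ (k + 1) * q := by rw [h, pow_succ]; simp only [mul_assoc]

theorem eq_one_of_pow_odd_of_two_pow {c : G} {n k : ℕ} (hn : Odd n) (h1 : c ^ n = 1)
    (h2 : c ^ (2 ^ k) = 1) : c = 1 := by
  have d1 := orderOf_dvd_of_pow_eq_one h1
  have d2 := orderOf_dvd_of_pow_eq_one h2
  have hcop : Nat.Coprime n (2 ^ k) := Nat.Coprime.pow_right k (Nat.coprime_two_right.mpr hn)
  exact orderOf_eq_one_iff.mp (Nat.eq_one_of_dvd_coprimes hcop d1 d2)

/-- a Sylow 2-subgroup centralises some involution of a normal subgroup containing an involution -/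
theorem exists_fixed_invol [Finite G] (V : Subgroup G) [V.Normal] (S : Sylow 2 G) (x : G)
    (hxV : x ∈ V) (hx1 : x ≠ 1) (hx2 : x ^ 2 = 1) :
    ∃ z ∈ V, z ≠ 1 ∧ ∀ t ∈ (S : Subgroup G), t * z = z * t := by
  classical
  have : Fact (Nat.Prime 2) := ⟨Nat.prime_two⟩
  let φ : ↥(S : Subgroup G) →* MulAut ↥V :=
    (MulAut.conjNormal (H := V)).comp (S : Subgroup G).subtype
  let _ : MulAction ↥(S : Subgroup G) ↥V := MulAction.compHom ↥V φ
  have hdvd : 2 ∣ Nat.card ↥V := by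
    have h1 : orderOf (⟨x, hxV⟩ : ↥V) = 2 := by
      apply orderOf_eq_prime
      · ext
        simpa using hx2
      · intro h
        apply hx1
        simpa using congrArg Subtype.val h
    rw [← h1]
    exact orderOf_dvd_natCard _
  have hfix1 : (1 : ↥V) ∈ MulAction.fixedPoints ↥(S : Subgroup G) ↥V := by
    intro s
    change (φ s) (1 : ↥V) = 1
    exact map_one _
  obtain ⟨b, hb, hb1⟩ :=
    S.isPGroup'.exists_fixed_point_of_prime_dvd_card_of_fixed_point ↥V hdvd hfix1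
  refine ⟨b.1, b.2, ?_, ?_⟩
  · intro h
    apply hb1
    ext
    exact h.symm
  · intro t ht
    have h3 : (φ ⟨t, ht⟩) b = b := hb ⟨t, ht⟩
    have h4 : t * b.1 * t⁻¹ = b.1 := by
      have h5 := congrArg Subtype.val h3
      simpa [φ, MulAut.conjNormal_apply] using h5
    calc t * b.1 = t * b.1 * t⁻¹ * t := by group
      _ = b.1 * t := by rw [h4]

theorem descA [Finite G] (hT : THyp G) (hIH : IH G) (Q V : Subgroup G) (hF : Frame Q V)
    (G1 : Subgroup G) (hn : G1.Normal) (hidx : G1.index = 2) :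
    ∀ x ∈ G1, (∃ k : ℕ, x ^ (2 ^ k) = 1) → x ∈ Q := by
  classical
  have : Fact (Nat.Prime 2) := ⟨Nat.prime_two⟩
  have := hF.Qn
  have := hF.Vn
  have := hn
  obtain ⟨hsol, -, -, -⟩ := hT
  have hmul : ∀ a b : G, a * b ∈ G1 ↔ (a ∈ G1 ↔ b ∈ G1) :=
    fun a b => Subgroup.mul_mem_iff_of_index_two hidx
  obtain ⟨x, y, hxy, hx1, hx2, hy1, hy2⟩ := hF.four
  have hxV : x ∈ V := (hF.Vmem x).mpr hx2
  have hyV : y ∈ V := (hF.Vmem y).mpr hy2
  -- `V ≤ G1`
  have hVG1 : V ≤ G1 := by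
    have hw : ∃ w ∈ V, w ∈ G1 ∧ w ≠ 1 := by
      by_cases hxG : x ∈ G1
      · exact ⟨x, hxV, hxG, hx1⟩
      · by_cases hyG : y ∈ G1
        · exact ⟨y, hyV, hyG, hy1⟩
        · refine ⟨x * y, V.mul_mem hxV hyV, ?_, ?_⟩
          · rw [hmul]
            exact ⟨fun h => absurd h hxG, fun h => absurd h hyG⟩
          · intro h
            have hyinv : y⁻¹ = y := by
              rw [inv_eq_iff_mul_eq_one, ← sq]
              exact hy2
            exact hxy ((eq_inv_of_mul_eq_one_left h).trans hyinv)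
    obtain ⟨w, hwV, hwG, hw1⟩ := hw
    intro v hv
    by_cases hv1 : v = 1
    · rw [hv1]
      exact G1.one_mem
    · obtain ⟨g, hg⟩ := hF.trans w v hwV hv hw1 hv1
      rw [← hg]
      exact hn.conj_mem w hwG g
  -- an involution `z` centralised by an element `t` outside `G1`
  have S : Sylow 2 G := default
  obtain ⟨z, hzV, hz1, hzS⟩ := exists_fixed_invol V S x hxV hx1 hx2
  have hSG1 : ∃ t ∈ (S : Subgroup G), t ∉ G1 := by
    by_contra hcon
    push Not at hcon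
    have hle : (S : Subgroup G) ≤ G1 := hcon
    have h3 := Subgroup.index_dvd_of_le hle
    rw [hidx] at h3
    exact S.not_dvd_index h3
  obtain ⟨t, htS, htG⟩ := hSG1
  have htz := hzS t htS
  have hG1trans : ∀ v ∈ V, v ≠ 1 → ∃ h ∈ G1, h * z * h⁻¹ = v := by
    intro v hv hv1
    obtain ⟨g, hg⟩ := hF.trans z v hzV hv hz1 hv1
    by_cases hgG : g ∈ G1
    · exact ⟨g, hgG, hg⟩
    · refine ⟨g * t, (hmul g t).mpr ⟨fun h => absurd h hgG, fun h => absurd h htG⟩, ?_⟩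
      rw [← hg]
      calc g * t * z * (g * t)⁻¹ = g * (t * z) * t⁻¹ * g⁻¹ := by group
        _ = g * (z * t) * t⁻¹ * g⁻¹ := by rw [htz]
        _ = g * z * g⁻¹ := by group
  -- `THyp` for the type `G1`
  have hT1 : THyp ↥G1 := by
    refine ⟨?_, ?_, ?_, ?_⟩
    · have := hsol
      infer_instance
    · intro N hN hNodd
      -- work in `G` with `N' = N.map G1.subtype`
      have hpow : ∀ b : G, (∃ hb : b ∈ G1, (⟨b, hb⟩ : ↥G1) ∈ N) → b ^ Nat.card N = 1 := by
        rintro b ⟨hb, hbN⟩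
        have h1 : orderOf (⟨b, hb⟩ : ↥G1) ∣ Nat.card N := Subgroup.orderOf_dvd_natCard N hbN
        rw [Subgroup.orderOf_mk] at h1
        exact orderOf_dvd_iff_pow_eq_one.mp h1
      have hconjN : ∀ b : G, (∃ hb : b ∈ G1, (⟨b, hb⟩ : ↥G1) ∈ N) → ∀ h ∈ G1,
          ∃ hb' : h * b * h⁻¹ ∈ G1, (⟨h * b * h⁻¹, hb'⟩ : ↥G1) ∈ N := by
        rintro b ⟨hb, hbN⟩ h hh
        refine ⟨G1.mul_mem (G1.mul_mem hh hb) (G1.inv_mem hh), ?_⟩
        have h1 := hN.conj_mem _ hbN ⟨h, hh⟩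
        exact h1
      have hinvN : ∀ b : G, (∃ hb : b ∈ G1, (⟨b, hb⟩ : ↥G1) ∈ N) →
          ∃ hb' : b⁻¹ ∈ G1, (⟨b⁻¹, hb'⟩ : ↥G1) ∈ N := by
        rintro b ⟨hb, hbN⟩
        exact ⟨G1.inv_mem hb, N.inv_mem hbN⟩
      have hmulN : ∀ b c : G, (∃ hb : b ∈ G1, (⟨b, hb⟩ : ↥G1) ∈ N) →
          (∃ hc : c ∈ G1, (⟨c, hc⟩ : ↥G1) ∈ N) →
          ∃ hbc : b * c ∈ G1, (⟨b * c, hbc⟩ : ↥G1) ∈ N := by
        rintro b c ⟨hb, hbN⟩ ⟨hc, hcN⟩
        exact ⟨G1.mul_mem hb hc, N.mul_mem hbN hcN⟩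
      have hQ2 : ∀ c ∈ Q, ∃ k : ℕ, c ^ (2 ^ k) = 1 := by
        intro c hc
        obtain ⟨k, hk⟩ := hF.Q2 ⟨c, hc⟩
        exact ⟨k, by simpa using congrArg Subtype.val hk⟩
      -- elements of `N'` centralise `Q ⊓ G1`
      have hcen1 : ∀ b : G, (∃ hb : b ∈ G1, (⟨b, hb⟩ : ↥G1) ∈ N) → ∀ q ∈ Q, q ∈ G1 →
          b * q * b⁻¹ = q := by
        intro b hb q hqQ hqG
        have hcN : ∃ hc : b * (q * b⁻¹ * q⁻¹) ∈ G1, (⟨b * (q * b⁻¹ * q⁻¹), hc⟩ : ↥G1) ∈ N :=
          hmulN _ _ hb (hconjN _ (hinvN b hb) q hqG)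
        have hcQ : b * (q * b⁻¹ * q⁻¹) ∈ Q := by
          have h1 : b * q * b⁻¹ ∈ Q := hF.Qn.conj_mem q hqQ b
          have h3 := Q.mul_mem h1 (Q.inv_mem hqQ)
          have h4 : b * q * b⁻¹ * q⁻¹ = b * (q * b⁻¹ * q⁻¹) := by group
          rwa [h4] at h3
        obtain ⟨k, hk⟩ := hQ2 _ hcQ
        have hc1 := eq_one_of_pow_odd_of_two_pow hNodd (hpow _ hcN) hk
        calc b * q * b⁻¹ = b * (q * b⁻¹ * q⁻¹) * q := by group
          _ = q := by rw [hc1, one_mul]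
      -- elements of `N'` centralise `Q`
      have hcen : ∀ b : G, (∃ hb : b ∈ G1, (⟨b, hb⟩ : ↥G1) ∈ N) → ∀ q ∈ Q, b * q * b⁻¹ = q := by
        intro b hb q hqQ
        obtain ⟨hbG, hbN⟩ := hb
        obtain ⟨c, hc⟩ : ∃ c, c = b * q * b⁻¹ * q⁻¹ := ⟨_, rfl⟩
        have hcQ : c ∈ Q := by
          rw [hc]
          exact Q.mul_mem (hF.Qn.conj_mem q hqQ b) (Q.inv_mem hqQ)
        have hcG : c ∈ G1 := by
          have h1 : q * b⁻¹ * q⁻¹ ∈ G1 := hn.conj_mem _ (G1.inv_mem hbG) q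
          have h3 := G1.mul_mem hbG h1
          have h4 : b * (q * b⁻¹ * q⁻¹) = c := by rw [hc]; group
          rwa [h4] at h3
        have hbc : b * c = c * b := by
          have h1 := hcen1 b ⟨hbG, hbN⟩ c hcQ hcG
          calc b * c = b * c * b⁻¹ * b := by group
            _ = c * b := by rw [h1]
        have hbq : b * q * b⁻¹ = c * q := by rw [hc]; group
        have h5 := conj_pow_eq hbc hbq (Nat.card N)
        rw [hpow b ⟨hbG, hbN⟩] at h5
        have h6 : c ^ Nat.card N = 1 := by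
          have h7 : c ^ Nat.card N * q = q := by
            rw [← h5]
            group
          exact mul_eq_right.mp h7
        obtain ⟨k, hk⟩ := hQ2 c hcQ
        have hc1 := eq_one_of_pow_odd_of_two_pow hNodd h6 hk
        rw [hbq, hc1, one_mul]
      rw [Subgroup.eq_bot_iff_forall]
      intro a haN
      have hb : ∃ hb : (a : G) ∈ G1, (⟨(a : G), hb⟩ : ↥G1) ∈ N := ⟨a.2, haN⟩
      have haQ : (a : G) ∈ Q := by
        apply hF.cent
        rw [Subgroup.mem_centralizer_iff]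
        intro q hq
        have h1 := hcen (a : G) hb q hq
        calc q * (a : G) = ((a : G) * q * (a : G)⁻¹)⁻¹⁻¹ * (a : G) := by rw [h1, inv_inv]
          _ = (a : G) * q := by group
      obtain ⟨k, hk⟩ := hQ2 _ haQ
      have h1 := eq_one_of_pow_odd_of_two_pow hNodd (hpow _ hb) hk
      exact Subtype.ext h1
    · intro a b ha1 ha2 hb1 hb2
      have haV : (a : G) ∈ V := (hF.Vmem a).mpr (by
        have h1 := congrArg Subtype.val ha2
        simpa using h1)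
      have hbV : (b : G) ∈ V := (hF.Vmem b).mpr (by
        have h1 := congrArg Subtype.val hb2
        simpa using h1)
      have ha1' : (a : G) ≠ 1 := fun h => ha1 (Subtype.ext h)
      have hb1' : (b : G) ≠ 1 := fun h => hb1 (Subtype.ext h)
      obtain ⟨h1, h1G, e1⟩ := hG1trans a haV ha1'
      obtain ⟨h2, h2G, e2⟩ := hG1trans b hbV hb1'
      rw [isConj_iff]
      refine ⟨⟨h2 * h1⁻¹, G1.mul_mem h2G (G1.inv_mem h1G)⟩, Subtype.ext ?_⟩
      change h2 * h1⁻¹ * (a : G) * (h2 * h1⁻¹)⁻¹ = (b : G)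
      rw [← e1, ← e2]
      group
    · refine ⟨⟨x, hVG1 hxV⟩, ⟨y, hVG1 hyV⟩, ?_, ?_, ?_, ?_, ?_⟩
      · intro h
        exact hxy (congrArg Subtype.val h)
      · intro h
        exact hx1 (congrArg Subtype.val h)
      · exact Subtype.ext hx2
      · intro h
        exact hy1 (congrArg Subtype.val h)
      · exact Subtype.ext hy2
  -- the induction hypothesis
  have hcard : Nat.card ↥G1 < Nat.card G := by
    have h1 := Subgroup.card_mul_index G1
    rw [hidx] at h1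
    have h3 : 0 < Nat.card ↥G1 := Nat.card_pos
    omega
  have hS1 := hIH ↥G1 hcard hT1
  have P1 : Sylow 2 ↥G1 := default
  have hP1n : (P1 : Subgroup ↥G1).Normal := hS1 P1
  have hP1c : (P1 : Subgroup ↥G1).Characteristic := Sylow.characteristic_of_normal P1 hP1n
  have hPn : ((P1 : Subgroup ↥G1).map G1.subtype).Normal :=
    ConjAct.normal_of_characteristic_of_normal
  have hP2 : IsPGroup 2 ((P1 : Subgroup ↥G1).map G1.subtype) := P1.isPGroup'.map _
  have hPQ := hF.Qmax _ hPn hP2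
  intro a haG hak
  obtain ⟨k, hk⟩ := hak
  apply hPQ
  rw [Subgroup.mem_map]
  refine ⟨⟨a, haG⟩, ?_, rfl⟩
  have hk' : (⟨a, haG⟩ : ↥G1) ^ (2 ^ k) = 1 := Subtype.ext (by simpa using hk)
  have hzp : IsPGroup 2 (Subgroup.zpowers (⟨a, haG⟩ : ↥G1)) := by
    intro g
    refine ⟨k, ?_⟩
    obtain ⟨g, hg⟩ := g
    obtain ⟨i, rfl⟩ := Subgroup.mem_zpowers_iff.mp hg
    apply Subtype.ext
    change ((⟨a, haG⟩ : ↥G1) ^ i) ^ (2 ^ k) = 1
    rw [← zpow_natCast, ← zpow_mul, mul_comm, zpow_mul, zpow_natCast, hk', one_zpow]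
  obtain ⟨P', hP'⟩ := hzp.exists_le_sylow
  obtain ⟨g, hg⟩ := MulAction.exists_smul_eq ↥G1 P1 P'
  have := hP1n
  rw [Sylow.smul_eq_of_normal] at hg
  rw [hg]
  exact hP' (Subgroup.mem_zpowers _)

end Cfsg.Agent.Lib.H26.S3797DescA
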