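import Cfsg.Agent.Lib.H26.S3814C1LCycE
import Cfsg.Agent.Lib.H27.S3814C1Defs

/-!
# S3814, Case 1, piece (21) LCYC (helper26, twin): a coprime automorphism of prime order `t' ∣ t - 1`
acting nontrivially on a `t`-group normalises, and does not centralise, some cyclic subgroup

Route: type-level statement for an endomorphism `φ` with `φ^[t'] = id`; elementary abelian case by
explicit idempotents (`S3814C1LCycE.eigen`); abelian case by induction through the subgroup of
`t`-th powers; general case by induction through the centre and the quotient by the centre.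
-/

set_option autoImplicit false

namespace Cfsg.Agent.Lib.H26.S3814C1LCyc

universe u

section tools

variable {P : Type u} [Group P]

/-- restriction of an endomorphism to an invariant subgroup -/
def res (φ : P →* P) (H : Subgroup P) (hH : ∀ a ∈ H, φ a ∈ H) : H →* H where
  toFun a := ⟨φ a.1, hH a.1 a.2⟩
  map_one' := Subtype.ext (by simp)
  map_mul' a b := Subtype.ext (by simp)

theorem res_coe (φ : P →* P) (H : Subgroup P) (hH : ∀ a ∈ H, φ a ∈ H) (a : H) :
    ((res φ H hH a : H) : P) = φ a.1 := rfl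

theorem res_iter (φ : P →* P) (H : Subgroup P) (hH : ∀ a ∈ H, φ a ∈ H) (k : ℕ) (a : H) :
    (((res φ H hH)^[k] a : H) : P) = φ^[k] a.1 := by
  induction k with
  | zero => rfl
  | succ k ih =>
    rw [Function.iterate_succ_apply', Function.iterate_succ_apply', res_coe, ih]

theorem res_transfer (φ : P →* P) (H : Subgroup P) (hH : ∀ a ∈ H, φ a ∈ H) (g : H)
    (h1 : res φ H hH g ∈ Subgroup.zpowers g) (h2 : res φ H hH g ≠ g) :
    ∃ g' : P, g' ∈ H ∧ φ g' ∈ Subgroup.zpowers g' ∧ φ g' ≠ g' := by
  refine ⟨g.1, g.2, ?_, ?_⟩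
  · obtain ⟨k, hk⟩ := Subgroup.mem_zpowers_iff.mp h1
    refine Subgroup.mem_zpowers_iff.mpr ⟨k, ?_⟩
    have := congrArg Subtype.val hk
    rw [Subgroup.coe_zpow, res_coe] at this
    exact this
  · intro h
    apply h2
    exact Subtype.ext h

/-- stability: `φ x = x z`, `φ z = z`, `φ^[t'] = id`, `z` a `t`-element, `(t', t) = 1`: `z = 1` -/
theorem stab {t t' : ℕ} (hcop : t'.Coprime t) (φ : P →* P) (hφ : ∀ x, φ^[t'] x = x) (x z : P)
    (hx : φ x = x * z) (hz : φ z = z) (hzt : ∃ m : ℕ, z ^ t ^ m = 1) : z = 1 := by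
  have key : ∀ k : ℕ, φ^[k] x = x * z ^ k := by
    intro k
    induction k with
    | zero => simp
    | succ k ih =>
      rw [Function.iterate_succ_apply', ih, map_mul, map_pow, hx, hz, mul_assoc, ← pow_succ']
  have h1 : z ^ t' = 1 := by
    have h := key t'
    rw [hφ x] at h
    have h' : x * z ^ t' = x * 1 := by rw [mul_one]; exact h.symm
    exact mul_left_cancel h'
  obtain ⟨m, hm⟩ := hzt
  have d1 := orderOf_dvd_of_pow_eq_one h1
  have d2 := orderOf_dvd_of_pow_eq_one hm
  have d3 : orderOf z ∣ Nat.gcd t' (t ^ m) := Nat.dvd_gcd d1 d2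
  have hc : Nat.gcd t' (t ^ m) = 1 := Nat.Coprime.pow_right m hcop
  rw [hc] at d3
  exact orderOf_eq_one_iff.mp (Nat.dvd_one.mp d3)

end tools

theorem lt_of_dvd_pred {t t' : ℕ} (ht : t.Prime) (hdvd : t' ∣ t - 1) : t' < t := by
  have h1 : t' ≤ t - 1 := Nat.le_of_dvd (Nat.sub_pos_of_lt ht.one_lt) hdvd
  have h2 := ht.pos
  omega

/-- the elementary abelian case, with the module structure given -/
theorem elem_case_aux {P : Type u} [CommGroup P] [Finite P] {t t' : ℕ} [Fact t.Prime]
    [Module (ZMod t) (Additive P)]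
    (ht' : t'.Prime) (hdvd : t' ∣ t - 1) (φ : P →* P)
    (hφ : ∀ x, φ^[t'] x = x) (a : P) (ha : φ a ≠ a) :
    ∃ g : P, φ g ∈ Subgroup.zpowers g ∧ φ g ≠ g := by
  have ht : t.Prime := Fact.out
  have : Fact t'.Prime := ⟨ht'⟩
  have : NeZero t := ⟨ht.ne_zero⟩
  have hcard : t' ∣ Nat.card (ZMod t)ˣ := by
    rw [Nat.card_eq_fintype_card, ZMod.card_units_eq_totient, Nat.totient_prime ht]
    exact hdvd
  obtain ⟨u, hu⟩ := exists_prime_orderOf_dvd_card' t' hcard
  let ψ : Additive P →ₗ[ZMod t] Additive P := (MonoidHom.toAdditive φ).toZModLinearMap t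
  have hψ_apply : ∀ x : Additive P, ψ x = Additive.ofMul (φ (Additive.toMul x)) := fun x => rfl
  have hψ_iter : ∀ (k : ℕ) (x : Additive P),
      ψ^[k] x = Additive.ofMul (φ^[k] (Additive.toMul x)) := by
    intro k
    induction k with
    | zero => intro x; rfl
    | succ k ih =>
      intro x
      rw [Function.iterate_succ_apply', Function.iterate_succ_apply', ih, hψ_apply]
      rfl
  have ht'lt : t' < t := lt_of_dvd_pred ht hdvd
  obtain ⟨g, c, hg0, hc1, hgc⟩ := Cfsg.Agent.Lib.H26.S3814C1LCycE.eigen ψ t' ht'.pos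
    (fun x => by rw [hψ_iter, hφ]; rfl) (u : ZMod t)
    (by rw [← Units.val_pow_eq_pow_val, ← hu, pow_orderOf_eq_one]; rfl)
    (fun i hi hin h => by
      have h' : u ^ i = 1 := Units.ext (by rw [Units.val_pow_eq_pow_val]; exact h)
      exact pow_ne_one_of_lt_orderOf hi.ne' (hu ▸ hin) h')
    (by
      rw [Ne, ZMod.natCast_eq_zero_iff]
      intro hdiv
      exact absurd (Nat.le_of_dvd ht'.pos hdiv) (not_le.mpr ht'lt))
    (Additive.ofMul a) (by
      intro h
      apply ha
      exact congrArg Additive.toMul h)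
  refine ⟨Additive.toMul g, ?_, ?_⟩
  · have h1 : ψ g = c.val • g := by
      rw [hgc, ← Nat.cast_smul_eq_nsmul (ZMod t), ZMod.natCast_zmod_val]
    refine Subgroup.mem_zpowers_iff.mpr ⟨c.val, ?_⟩
    have h2 : φ (Additive.toMul g) = Additive.toMul (ψ g) := rfl
    rw [h2, h1, toMul_nsmul, zpow_natCast]
  · intro h
    have h2 : ψ g = g := congrArg Additive.ofMul h
    rw [hgc] at h2
    have h3 : (c - 1) • g = 0 := by rw [sub_smul, one_smul, h2, sub_self]
    rcases smul_eq_zero.mp h3 with h4 | h4
    · exact hc1 (sub_eq_zero.mp h4)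
    · exact hg0 h4

/-- the elementary abelian case -/
theorem elem_case {P : Type u} [CommGroup P] [Finite P] {t t' : ℕ} (ht : t.Prime)
    (ht' : t'.Prime) (hdvd : t' ∣ t - 1) (hexp : ∀ x : P, x ^ t = 1) (φ : P →* P)
    (hφ : ∀ x, φ^[t'] x = x) (a : P) (ha : φ a ≠ a) :
    ∃ g : P, φ g ∈ Subgroup.zpowers g ∧ φ g ≠ g := by
  have hF : Fact t.Prime := ⟨ht⟩
  have hmod : ∀ x : Additive P, t • x = 0 := by
    intro x
    have h := hexp (Additive.toMul x)
    have h2 : t • x = Additive.ofMul ((Additive.toMul x) ^ t) := rfl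
    rw [h2, h]
    rfl
  exact @elem_case_aux P _ _ t t' hF (AddCommGroup.zmodModule hmod) ht' hdvd φ hφ a ha

/-- the abelian case -/
theorem ab_case {t t' : ℕ} (ht : t.Prime) (ht' : t'.Prime) (hdvd : t' ∣ t - 1) :
    ∀ n : ℕ, ∀ (P : Type u) [CommGroup P] [Finite P], Nat.card P ≤ n → IsPGroup t P →
      ∀ φ : P →* P, (∀ x, φ^[t'] x = x) → (∃ a, φ a ≠ a) →
        ∃ g : P, φ g ∈ Subgroup.zpowers g ∧ φ g ≠ g := by
  have hcop : t'.Coprime t :=
    (Nat.coprime_primes ht' ht).mpr (ne_of_lt (lt_of_dvd_pred ht hdvd))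
  haveI : Fact t.Prime := ⟨ht⟩
  intro n
  induction n with
  | zero =>
    intro P _ _ hcard
    exact absurd hcard (not_le.mpr Nat.card_pos)
  | succ n ih =>
    intro P _ _ hcard hP φ hφ hnt
    obtain ⟨a, ha⟩ := hnt
    have hΩinv : ∀ x ∈ (powMonoidHom t : P →* P).ker, φ x ∈ (powMonoidHom t : P →* P).ker := by
      intro x hx
      rw [MonoidHom.mem_ker, powMonoidHom_apply] at hx ⊢
      rw [← map_pow, hx, map_one]
    by_cases hΩ : ∃ x ∈ (powMonoidHom t : P →* P).ker, φ x ≠ x
    · obtain ⟨x, hxΩ, hx⟩ := hΩ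
      obtain ⟨g, hg1, hg2⟩ := elem_case (P := (powMonoidHom t : P →* P).ker) ht ht' hdvd (by
          intro y
          apply Subtype.ext
          have h := y.2
          rw [MonoidHom.mem_ker, powMonoidHom_apply] at h
          simpa using h)
        (res φ _ hΩinv) (fun y => Subtype.ext (by rw [res_iter, hφ])) ⟨x, hxΩ⟩ (by
          intro h
          apply hx
          exact congrArg Subtype.val h)
      obtain ⟨g', -, h1, h2⟩ := res_transfer φ _ hΩinv g hg1 hg2
      exact ⟨g', h1, h2⟩
    · push Not at hΩ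
      have hRinv : ∀ x ∈ (powMonoidHom t : P →* P).range,
          φ x ∈ (powMonoidHom t : P →* P).range := by
        rintro x ⟨y, rfl⟩
        exact ⟨φ y, by rw [powMonoidHom_apply, powMonoidHom_apply, map_pow]⟩
      have hRnt : ∃ x ∈ (powMonoidHom t : P →* P).range, φ x ≠ x := by
        by_contra hcon
        push Not at hcon
        apply ha
        have hat : φ (a ^ t) = a ^ t := hcon (a ^ t) ⟨a, rfl⟩
        have hz : (a⁻¹ * φ a) ^ t = 1 := by
          rw [mul_pow, inv_pow, ← map_pow, hat, inv_mul_cancel]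
        have hzfix : φ (a⁻¹ * φ a) = a⁻¹ * φ a :=
          hΩ _ (by rw [MonoidHom.mem_ker, powMonoidHom_apply]; exact hz)
        have h1 := stab hcop φ hφ a (a⁻¹ * φ a) (by group) hzfix ⟨1, by rw [pow_one]; exact hz⟩
        exact (inv_mul_eq_one.mp h1).symm
      obtain ⟨x, hxR, hx⟩ := hRnt
      have hlt : Nat.card (powMonoidHom t : P →* P).range < Nat.card P := by
        refine lt_of_le_of_ne (Subgroup.card_le_card_group _) (fun h => ?_)
        have htop := Subgroup.eq_top_of_card_eq _ h
        have hsurj : Function.Surjective (powMonoidHom t : P →* P) :=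
          MonoidHom.range_eq_top.mp htop
        have hinj : Function.Injective (powMonoidHom t : P →* P) :=
          Finite.injective_iff_surjective.mpr hsurj
        -- an element of order `t`
        haveI : Nontrivial P := ⟨⟨φ a, a, ha⟩⟩
        obtain ⟨k, hk⟩ := IsPGroup.iff_card.mp hP
        have hk0 : k ≠ 0 := by
          intro h0
          rw [h0, pow_zero] at hk
          have := Finite.one_lt_card (α := P)
          omega
        have htd : t ∣ Nat.card P := by
          rw [hk]
          exact dvd_pow_self t hk0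
        obtain ⟨y, hy⟩ := exists_prime_orderOf_dvd_card' t htd
        have hy1 : (powMonoidHom t : P →* P) y = (powMonoidHom t : P →* P) 1 := by
          rw [powMonoidHom_apply, powMonoidHom_apply, one_pow, ← hy, pow_orderOf_eq_one]
        have := hinj hy1
        rw [this, orderOf_one] at hy
        exact ht.ne_one hy.symm
      obtain ⟨g, hg1, hg2⟩ := ih (powMonoidHom t : P →* P).range (by omega)
        (hP.to_subgroup _) (res φ _ hRinv) (fun y => Subtype.ext (by rw [res_iter, hφ]))
        ⟨⟨x, hxR⟩, fun h => hx (congrArg Subtype.val h)⟩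
      obtain ⟨g', -, h1, h2⟩ := res_transfer φ _ hRinv g hg1 hg2
      exact ⟨g', h1, h2⟩

open scoped IsMulCommutative in
/-- the general case -/
theorem gen_case {t t' : ℕ} (ht : t.Prime) (ht' : t'.Prime) (hdvd : t' ∣ t - 1) :
    ∀ n : ℕ, ∀ (P : Type u) [Group P] [Finite P], Nat.card P ≤ n → IsPGroup t P →
      ∀ φ : P →* P, (∀ x, φ^[t'] x = x) → (∃ a, φ a ≠ a) →
        ∃ g : P, φ g ∈ Subgroup.zpowers g ∧ φ g ≠ g := by
  have hcop : t'.Coprime t :=
    (Nat.coprime_primes ht' ht).mpr (ne_of_lt (lt_of_dvd_pred ht hdvd))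
  have hF : Fact t.Prime := ⟨ht⟩
  intro n
  induction n with
  | zero =>
    intro P _ _ hcard
    exact absurd hcard (not_le.mpr Nat.card_pos)
  | succ n ih =>
    intro P _ _ hcard hP φ hφ hnt
    obtain ⟨a, ha⟩ := hnt
    have hsurj : ∀ y : P, ∃ x : P, φ x = y := by
      intro y
      refine ⟨φ^[t' - 1] y, ?_⟩
      rw [← Function.iterate_succ_apply' φ]
      have : (t' - 1).succ = t' := Nat.succ_pred_eq_of_pos ht'.pos
      rw [this, hφ]
    have hZinv : ∀ z ∈ Subgroup.center P, φ z ∈ Subgroup.center P := by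
      intro z hz
      rw [Subgroup.mem_center_iff] at hz ⊢
      intro y
      obtain ⟨x, rfl⟩ := hsurj y
      rw [← map_mul, ← map_mul, hz x]
    by_cases hZ : ∃ z ∈ Subgroup.center P, φ z ≠ z
    · obtain ⟨z, hzZ, hz⟩ := hZ
      obtain ⟨g, hg1, hg2⟩ := ab_case ht ht' hdvd (Nat.card (Subgroup.center P))
        (Subgroup.center P) le_rfl (hP.to_subgroup _) (res φ _ hZinv)
        (fun y => Subtype.ext (by rw [res_iter, hφ]))
        ⟨⟨z, hzZ⟩, fun h => hz (congrArg Subtype.val h)⟩
      obtain ⟨g', -, h1, h2⟩ := res_transfer φ _ hZinv g hg1 hg2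
      exact ⟨g', h1, h2⟩
    · push Not at hZ
      have hle : Subgroup.center P ≤ (Subgroup.center P).comap φ := fun z hz => hZinv z hz
      have hq_iter : ∀ (k : ℕ) (x : P),
          (QuotientGroup.map (Subgroup.center P) (Subgroup.center P) φ hle)^[k]
            (x : P ⧸ Subgroup.center P) = ((φ^[k] x : P) : P ⧸ Subgroup.center P) := by
        intro k
        induction k with
        | zero => intro x; rfl
        | succ k ih2 =>
          intro x
          rw [Function.iterate_succ_apply', Function.iterate_succ_apply', ih2]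
          rfl
      have hq_nt : ∃ b : P ⧸ Subgroup.center P,
          QuotientGroup.map (Subgroup.center P) (Subgroup.center P) φ hle b ≠ b := by
        by_contra hcon
        push Not at hcon
        apply ha
        have h1 : ((φ a : P) : P ⧸ Subgroup.center P) = (a : P ⧸ Subgroup.center P) := hcon a
        have h2 : a⁻¹ * φ a ∈ Subgroup.center P := QuotientGroup.eq.mp h1.symm
        have h3 := stab hcop φ hφ a (a⁻¹ * φ a) (by group) (hZ _ h2) (hP (a⁻¹ * φ a))
        exact (inv_mul_eq_one.mp h3).symm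
      have hPnt : Nontrivial P := ⟨⟨φ a, a, ha⟩⟩
      have hZnt : Subgroup.center P ≠ ⊥ := by
        have := hP.center_nontrivial
        exact (Subgroup.nontrivial_iff_ne_bot _).mp this
      have hlt : Nat.card (P ⧸ Subgroup.center P) < Nat.card P := by
        have h1 := Subgroup.card_eq_card_quotient_mul_card_subgroup (Subgroup.center P)
        have h2 : 1 < Nat.card (Subgroup.center P) := (Subgroup.one_lt_card_iff_ne_bot (Subgroup.center P)).mpr hZnt
        have h3 : 0 < Nat.card (P ⧸ Subgroup.center P) := Nat.card_pos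
        nlinarith
      obtain ⟨gq, hgq1, hgq2⟩ := ih (P ⧸ Subgroup.center P) (by omega)
        (hP.to_quotient (Subgroup.center P))
        (QuotientGroup.map (Subgroup.center P) (Subgroup.center P) φ hle) (by
          intro b
          induction b using QuotientGroup.induction_on with
          | H x => rw [hq_iter, hφ]) hq_nt
      obtain ⟨g, rfl⟩ := QuotientGroup.mk_surjective gq
      have hQinv : ∀ x ∈ (Subgroup.zpowers (g : P ⧸ Subgroup.center P)).comap
          (QuotientGroup.mk' (Subgroup.center P)),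
          φ x ∈ (Subgroup.zpowers (g : P ⧸ Subgroup.center P)).comap
            (QuotientGroup.mk' (Subgroup.center P)) := by
        intro x hx
        obtain ⟨k, hk⟩ := Subgroup.mem_zpowers_iff.mp (Subgroup.mem_comap.mp hx)
        rw [Subgroup.mem_comap]
        have h1 : (QuotientGroup.mk' (Subgroup.center P)) (φ x) =
            (QuotientGroup.map (Subgroup.center P) (Subgroup.center P) φ hle
              (g : P ⧸ Subgroup.center P)) ^ k := by
          rw [← map_zpow, hk]
          rfl
        rw [h1]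
        exact Subgroup.zpow_mem _ hgq1 k
      have hgQ : g ∈ (Subgroup.zpowers (g : P ⧸ Subgroup.center P)).comap
          (QuotientGroup.mk' (Subgroup.center P)) :=
        Subgroup.mem_comap.mpr (Subgroup.mem_zpowers _)
      have hgnt : φ g ≠ g := fun h => hgq2 (by
        show ((φ g : P) : P ⧸ Subgroup.center P) = g
        rw [h])
      have hQcomm : ∀ x ∈ (Subgroup.zpowers (g : P ⧸ Subgroup.center P)).comap
          (QuotientGroup.mk' (Subgroup.center P)),
          ∀ y ∈ (Subgroup.zpowers (g : P ⧸ Subgroup.center P)).comap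
            (QuotientGroup.mk' (Subgroup.center P)), x * y = y * x := by
        intro x hx y hy
        obtain ⟨i, hi⟩ := Subgroup.mem_zpowers_iff.mp (Subgroup.mem_comap.mp hx)
        obtain ⟨j, hj⟩ := Subgroup.mem_zpowers_iff.mp (Subgroup.mem_comap.mp hy)
        have hx' : (g ^ i)⁻¹ * x ∈ Subgroup.center P :=
          QuotientGroup.eq.mp (by rw [QuotientGroup.mk_zpow]; exact hi)
        have hy' : (g ^ j)⁻¹ * y ∈ Subgroup.center P :=
          QuotientGroup.eq.mp (by rw [QuotientGroup.mk_zpow]; exact hj)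
        have c1 : ∀ w : P, Commute ((g ^ i)⁻¹ * x) w := fun w =>
          (Subgroup.mem_center_iff.mp hx' w).symm
        have c2 : ∀ w : P, Commute ((g ^ j)⁻¹ * y) w := fun w =>
          (Subgroup.mem_center_iff.mp hy' w).symm
        have ex : g ^ i * ((g ^ i)⁻¹ * x) = x := by group
        have ey : g ^ j * ((g ^ j)⁻¹ * y) = y := by group
        have hcomm : Commute (g ^ i * ((g ^ i)⁻¹ * x)) (g ^ j * ((g ^ j)⁻¹ * y)) :=
          Commute.mul_left
            (Commute.mul_right ((Commute.refl g).zpow_zpow i j) (c2 _).symm) (c1 _)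
        rw [ex, ey] at hcomm
        exact hcomm
      have hQne : (Subgroup.zpowers (g : P ⧸ Subgroup.center P)).comap
          (QuotientGroup.mk' (Subgroup.center P)) ≠ ⊤ := by
        intro htop
        apply ha
        apply hZ a
        rw [Subgroup.mem_center_iff]
        intro y
        exact hQcomm y (htop ▸ Subgroup.mem_top y) a (htop ▸ Subgroup.mem_top a)
      have hQlt : Nat.card ((Subgroup.zpowers (g : P ⧸ Subgroup.center P)).comap
          (QuotientGroup.mk' (Subgroup.center P))) < Nat.card P :=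
        lt_of_le_of_ne (Subgroup.card_le_card_group _)
          (fun h => hQne (Subgroup.eq_top_of_card_eq _ h))
      obtain ⟨g2, hg21, hg22⟩ := ih _ (by omega) (hP.to_subgroup _) (res φ _ hQinv)
        (fun y => Subtype.ext (by rw [res_iter, hφ]))
        ⟨⟨g, hgQ⟩, fun h => hgnt (congrArg Subtype.val h)⟩
      obtain ⟨g', -, h1, h2⟩ := res_transfer φ _ hQinv g2 hg21 hg22
      exact ⟨g', h1, h2⟩

/-- PIECE (21) LCYC -/
theorem lcyc : Cfsg.Agent.H27.S3814C1.LCycStmt.{u} := by
  intro G _ _ P t t' ht ht' hdvd hP α hα hnorm hnc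
  obtain ⟨a, haP, ha⟩ := hnc
  let φ : P →* P :=
    { toFun := fun x => ⟨α * x.1 * α⁻¹, hnorm x.1 x.2⟩
      map_one' := Subtype.ext (by simp)
      map_mul' := fun x y => Subtype.ext (by simp [mul_assoc]) }
  have hφ_coe : ∀ x : P, ((φ x : P) : G) = α * x.1 * α⁻¹ := fun x => rfl
  have hiter : ∀ (k : ℕ) (x : P), ((φ^[k] x : P) : G) = α ^ k * x.1 * (α ^ k)⁻¹ := by
    intro k
    induction k with
    | zero => intro x; simp
    | succ k ih =>
      intro x
      rw [Function.iterate_succ_apply', hφ_coe, ih, pow_succ']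
      group
  obtain ⟨g, hg1, hg2⟩ := gen_case ht ht' hdvd (Nat.card P) P le_rfl hP φ
    (fun x => Subtype.ext (by rw [hiter, ← hα, pow_orderOf_eq_one]; simp))
    ⟨⟨a, haP⟩, fun h => ha (by
      have h1 : α * a * α⁻¹ = a := congrArg Subtype.val h
      exact mul_inv_eq_iff_eq_mul.mp h1)⟩
  refine ⟨g.1, g.2, ?_, ?_⟩
  · obtain ⟨k, hk⟩ := Subgroup.mem_zpowers_iff.mp hg1
    refine Subgroup.mem_zpowers_iff.mpr ⟨k, ?_⟩
    have h1 := congrArg Subtype.val hk
    rw [Subgroup.coe_zpow, hφ_coe] at h1
    exact h1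
  · intro h
    apply hg2
    apply Subtype.ext
    rw [hφ_coe]
    exact mul_inv_eq_iff_eq_mul.mpr h

example : Cfsg.Agent.H27.S3814C1.LCycStmt.{0} := lcyc

end Cfsg.Agent.Lib.H26.S3814C1LCyc
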