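import Mathlib

/-!
# S3814, Case 1, piece LCYC, part 1 (helper26): an eigenvector for an endomorphism of finite order
whose order is invertible, when the scalars contain a primitive root of unity of that order
-/

set_option autoImplicit false

namespace Cfsg.Agent.Lib.H26.S3814C1LCycE

open Finset

variable {F : Type*} [Field F] {M : Type*} [AddCommGroup M] [Module F M]

theorem eigen (ψ : M →ₗ[F] M) (n : ℕ) (hn : 0 < n) (hψ : ∀ x, ψ^[n] x = x) (lam : F)
    (hlam : lam ^ n = 1) (hprim : ∀ i, 0 < i → i < n → lam ^ i ≠ 1) (hnF : (n : F) ≠ 0)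
    (a : M) (ha : ψ a ≠ a) : ∃ g : M, ∃ c : F, g ≠ 0 ∧ c ≠ 1 ∧ ψ g = c • g := by
  have hlam0 : lam ≠ 0 := by
    intro h0
    rw [h0, zero_pow hn.ne'] at hlam
    exact zero_ne_one hlam
  set μ : F := lam⁻¹ with hμ
  have hμn : μ ^ n = 1 := by rw [hμ, inv_pow, hlam, inv_one]
  have hlm : ∀ j : ℕ, lam ^ j * μ ^ j = 1 := by
    intro j
    rw [← mul_pow, hμ, mul_inv_cancel₀ hlam0, one_pow]
  let e : ℕ → M := fun j => ∑ i ∈ range n, (μ ^ (i * j)) • ψ^[i] a
  -- Claim 1
  have h1 : ∀ j, ψ (e j) = (lam ^ j) • e j := by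
    intro j
    let f : ℕ → M := fun i => (lam ^ j * μ ^ (i * j)) • ψ^[i] a
    have hL : ψ (e j) = ∑ i ∈ range n, f (i + 1) := by
      simp only [e, map_sum, map_smul]
      apply sum_congr rfl
      intro i _
      simp only [f]
      rw [Function.iterate_succ_apply']
      congr 1
      rw [add_mul, one_mul, pow_add, ← mul_assoc, mul_comm (lam ^ j), mul_assoc, hlm, mul_one]
    have hR : (lam ^ j) • e j = ∑ i ∈ range n, f i := by
      simp only [e, smul_sum, smul_smul, f]
    have hf : f n = f 0 := by
      simp only [f]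
      rw [hψ a, Function.iterate_zero_apply, zero_mul, pow_zero, pow_mul, hμn, one_pow]
    have hs : ∑ i ∈ range n, f (i + 1) + f 0 = ∑ i ∈ range n, f i + f n := by
      rw [← sum_range_succ' f n, ← sum_range_succ f n]
    rw [hL, hR]
    rw [hf] at hs
    exact add_right_cancel hs
  -- Claim 2
  have h2 : ∑ j ∈ range n, e j = (n : F) • a := by
    simp only [e]
    rw [sum_comm]
    have hi : ∀ i ∈ range n, ∑ j ∈ range n, (μ ^ (i * j)) • ψ^[i] a =
        (if i = 0 then (n : F) else 0) • ψ^[i] a := by
      intro i hi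
      rw [← sum_smul]
      congr 1
      by_cases h0 : i = 0
      · subst h0
        simp
      · rw [if_neg h0]
        have hin : i < n := mem_range.mp hi
        have hν : μ ^ i ≠ 1 := by
          rw [hμ, inv_pow]
          intro h
          exact hprim i (Nat.pos_of_ne_zero h0) hin (inv_eq_one.mp h)
        have hg := geom_sum_mul (μ ^ i) n
        have hpow : (μ ^ i) ^ n = 1 := by rw [← pow_mul, mul_comm, pow_mul, hμn, one_pow]
        rw [hpow, sub_self] at hg
        have hsum : ∑ j ∈ range n, (μ ^ i) ^ j = 0 := by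
          rcases mul_eq_zero.mp hg with h | h
          · exact h
          · exact absurd (sub_eq_zero.mp h) hν
        simpa [pow_mul] using hsum
    rw [sum_congr rfl hi]
    rw [sum_eq_single 0]
    · simp
    · intro b _ hb
      rw [if_neg hb, zero_smul]
    · intro h
      exact absurd (mem_range.mpr hn) h
  by_contra hcon
  push Not at hcon
  have hz : ∀ j, 0 < j → j < n → e j = 0 := by
    intro j hj hjn
    by_contra hne
    have := hcon (e j) (lam ^ j) hne (hprim j hj hjn)
    exact this (h1 j)
  have h3 : ∑ j ∈ range n, e j = e 0 := by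
    rw [sum_eq_single 0]
    · intro b hb hb0
      exact hz b (Nat.pos_of_ne_zero hb0) (mem_range.mp hb)
    · intro h
      exact absurd (mem_range.mpr hn) h
  have h4 : ψ ((n : F) • a) = (n : F) • a := by
    rw [← h2, h3, h1 0, pow_zero, one_smul]
  rw [map_smul] at h4
  exact ha (smul_right_injective M hnF h4)

end Cfsg.Agent.Lib.H26.S3814C1LCycE
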