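import Cfsg.Agent.Lib.H8.S3814MPDefs

/-!
# S3814, block (MP), piece (K1) (helper26): `X` has no elementary abelian subgroup of rank 3
-/

set_option autoImplicit false

namespace Cfsg.Agent.Lib.H26.S3814MPK1

open Cfsg.Agent.H7.S3814Defs Cfsg.Agent.Lib.H8.S3814MP

universe u

section tools

variable {G : Type u} [Group G]

/-- an element commuting with a set commutes with its closure -/
theorem comm_closure {S : Set G} {x : G} (h : ∀ z ∈ S, x * z = z * x) :
    ∀ w ∈ Subgroup.closure S, x * w = w * x := by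
  have hle : Subgroup.closure S ≤ Subgroup.centralizer {x} := by
    rw [Subgroup.closure_le]
    intro z hz
    rw [SetLike.mem_coe, Subgroup.mem_centralizer_iff]
    intro y hy
    rw [Set.mem_singleton_iff] at hy
    subst hy
    exact h z hz
  intro w hw
  have := Subgroup.mem_centralizer_iff.mp (hle hw) x (Set.mem_singleton x)
  exact this

/-- the elements of the closure of a commuting pair are `a ^ i * b ^ j` -/
theorem pair_form {a b : G} (hab : a * b = b * a) :
    ∀ x ∈ Subgroup.closure ({a, b} : Set G), ∃ i j : ℤ, x = a ^ i * b ^ j := by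
  have hc : Commute a b := hab
  intro x hx
  induction hx using Subgroup.closure_induction with
  | mem x hx =>
    rcases hx with rfl | rfl
    · exact ⟨1, 0, by simp⟩
    · exact ⟨0, 1, by simp⟩
  | one => exact ⟨0, 0, by simp⟩
  | mul x y _ _ ihx ihy =>
    obtain ⟨i, j, rfl⟩ := ihx
    obtain ⟨i', j', rfl⟩ := ihy
    refine ⟨i + i', j + j', ?_⟩
    have h1 : Commute (b ^ j) (a ^ i') := (hc.zpow_zpow i' j).symm
    calc a ^ i * b ^ j * (a ^ i' * b ^ j') = a ^ i * (b ^ j * a ^ i') * b ^ j' := by group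
      _ = a ^ i * (a ^ i' * b ^ j) * b ^ j' := by rw [h1.eq]
      _ = a ^ (i + i') * b ^ (j + j') := by rw [zpow_add, zpow_add]; group
  | inv x _ ihx =>
    obtain ⟨i, j, rfl⟩ := ihx
    refine ⟨-i, -j, ?_⟩
    have h1 : Commute (a ^ (-i)) (b ^ (-j)) := hc.zpow_zpow (-i) (-j)
    calc (a ^ i * b ^ j)⁻¹ = b ^ (-j) * a ^ (-i) := by group
      _ = a ^ (-i) * b ^ (-j) := h1.eq.symm

/-- the `t`-th powers of the closure of a commuting pair of elements killed by `t` are trivial -/
theorem pair_pow {a b : G} {t : ℕ} (hab : a * b = b * a) (ha : a ^ t = 1) (hb : b ^ t = 1) :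
    ∀ x ∈ Subgroup.closure ({a, b} : Set G), x ^ t = 1 := by
  intro x hx
  obtain ⟨i, j, rfl⟩ := pair_form hab x hx
  have hc : Commute (a ^ i) (b ^ j) := (show Commute a b from hab).zpow_zpow i j
  rw [hc.mul_pow, ← zpow_natCast, ← zpow_natCast, ← zpow_mul, ← zpow_mul, mul_comm i, mul_comm j,
    zpow_mul, zpow_mul, zpow_natCast, zpow_natCast, ha, hb, one_zpow, one_zpow, one_mul]

/-- in a group, a nontrivial power of an element of prime order generates it -/
theorem prime_gen [Finite G] {x : G} {t : ℕ} (ht : t.Prime) (hx : orderOf x = t) {z : G}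
    (hz : z ∈ Subgroup.zpowers x) (hz1 : z ≠ 1) : x ∈ Subgroup.zpowers z := by
  have hfin : IsOfFinOrder x := by
    rw [← orderOf_pos_iff, hx]; exact ht.pos
  have hle : Subgroup.zpowers z ≤ Subgroup.zpowers x := by
    rw [Subgroup.zpowers_le]; exact hz
  have hzfin : IsOfFinOrder z := by
    obtain ⟨k, rfl⟩ := Subgroup.mem_zpowers_iff.mp hz
    exact hfin.zpow
  have hdvd : orderOf z ∣ t := by
    rw [← hx]
    obtain ⟨k, rfl⟩ := Subgroup.mem_zpowers_iff.mp hz
    exact orderOf_dvd_of_pow_eq_one (by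
      rw [← zpow_natCast, ← zpow_mul, mul_comm, zpow_mul, zpow_natCast, pow_orderOf_eq_one,
        one_zpow])
  have hoz : orderOf z = t := by
    rcases (Nat.dvd_prime ht).mp hdvd with h | h
    · exact absurd (orderOf_eq_one_iff.mp h) hz1
    · exact h
  have heq : Subgroup.zpowers z = Subgroup.zpowers x := by
    apply Subgroup.eq_of_le_of_card_ge hle
    rw [Nat.card_zpowers, Nat.card_zpowers, hx, hoz]
  rw [heq]
  exact Subgroup.mem_zpowers x

/-- if `g` of prime order is not in `H`, the powers of `g` in `H` are trivial -/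
theorem pow_eq_one_of_not_mem [Finite G] {g : G} {t : ℕ} (ht : t.Prime) (hg : orderOf g = t)
    (H : Subgroup G) (hgH : g ∉ H) (l : ℤ) (hl : g ^ l ∈ H) : g ^ l = 1 := by
  by_contra h1
  have := prime_gen ht hg (Subgroup.zpow_mem_zpowers g l) h1
  exact hgH ((Subgroup.zpowers_le.mpr hl) this)

end tools

theorem k1 : K1Stmt.{u} := by
  intro hLine hNcf G _ _ r s V W X h t e f g ht heX hfX hgX hoe hof hog hef heg hfg hfe hgef
  have : Fact t.Prime := ⟨ht⟩
  have hnorm : ∀ x ∈ X, ∀ u ∈ V, x * u * x⁻¹ ∈ V := by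
    intro x hx u hu
    exact (Subgroup.mem_normalizer_iff.mp (h.normV hx) u).mp hu
  have hclX : Subgroup.closure ({e, f} : Set G) ≤ X := by
    rw [Subgroup.closure_le]
    intro z hz
    rcases hz with rfl | rfl
    · exact heX
    · exact hfX
  have het : e ^ t = 1 := hoe ▸ pow_orderOf_eq_one e
  have hft : f ^ t = 1 := hof ▸ pow_orderOf_eq_one f
  have hgt : g ^ t = 1 := hog ▸ pow_orderOf_eq_one g
  -- Step 1: a `V`-coloured `e'` in `⟨e, f⟩`
  obtain ⟨e', he'cl, he'1, he'col⟩ :=
    hLine h ht heX hfX ⟨hoe, hof, hef, hfe⟩ V le_rfl h.neV (hnorm e heX) (hnorm f hfX)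
  have he'X : e' ∈ X := hclX he'cl
  have hoe' : orderOf e' = t := orderOf_eq_prime (pair_pow hef het hft e' he'cl) he'1
  -- Step 2: `f' ∈ {e, f}` with `e' ∉ ⟨f'⟩`
  obtain ⟨f', hf'X, hof', hf'cl, hf'e, hf'f, hf'g, he'f'⟩ :
      ∃ f' : G, f' ∈ X ∧ orderOf f' = t ∧ f' ∈ Subgroup.closure ({e, f} : Set G) ∧
        f' * e = e * f' ∧ f' * f = f * f' ∧ f' * g = g * f' ∧ e' ∉ Subgroup.zpowers f' := by
    by_cases hcase : e' ∈ Subgroup.zpowers e
    · refine ⟨f, hfX, hof, Subgroup.subset_closure (by simp), hef.symm, rfl, hfg, ?_⟩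
      intro hmem
      have h1 : e ∈ Subgroup.zpowers e' := prime_gen ht hoe hcase he'1
      have h2 : e ∈ Subgroup.zpowers f := (Subgroup.zpowers_le.mpr hmem) h1
      have he1 : e ≠ 1 := by
        intro h0
        rw [h0, orderOf_one] at hoe
        exact ht.ne_one hoe.symm
      exact hfe (prime_gen ht hof h2 he1)
    · exact ⟨e, heX, hoe, Subgroup.subset_closure (by simp), rfl, hef, heg, hcase⟩
  have hf't : f' ^ t = 1 := hof' ▸ pow_orderOf_eq_one f'
  have hgf' : g ∉ Subgroup.zpowers f' := fun hmem =>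
    hgef ((Subgroup.zpowers_le.mpr hf'cl) hmem)
  -- commutation
  have hf'e' : f' * e' = e' * f' := comm_closure (x := f') (S := {e, f}) (by
    intro z hz
    rcases hz with rfl | rfl
    · exact hf'e
    · exact hf'f) e' he'cl
  have hge' : g * e' = e' * g := comm_closure (x := g) (S := {e, f}) (by
    intro z hz
    rcases hz with rfl | rfl
    · exact heg.symm
    · exact hfg.symm) e' he'cl
  -- Step 3: `U := C_V(e')`
  have hU1 : V ⊓ Subgroup.centralizer {e'} ≠ ⊥ := by
    obtain ⟨v, hvV, hv1, hvc⟩ := he'col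
    intro hbot
    have hmem : v ∈ V ⊓ Subgroup.centralizer {e'} := by
      refine Subgroup.mem_inf.mpr ⟨hvV, Subgroup.mem_centralizer_iff.mpr ?_⟩
      intro y hy
      rw [Set.mem_singleton_iff] at hy
      subst hy
      exact hvc
    rw [hbot, Subgroup.mem_bot] at hmem
    exact hv1 hmem
  have hUinv : ∀ x ∈ X, x * e' = e' * x →
      ∀ u ∈ V ⊓ Subgroup.centralizer {e'}, x * u * x⁻¹ ∈ V ⊓ Subgroup.centralizer {e'} := by
    intro x hx hxe u hu
    have hu' := Subgroup.mem_inf.mp hu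
    refine Subgroup.mem_inf.mpr ⟨hnorm x hx u hu'.1, Subgroup.mem_centralizer_iff.mpr ?_⟩
    have huc : e' * u = u * e' :=
      Subgroup.mem_centralizer_iff.mp hu'.2 e' (Set.mem_singleton e')
    intro y hy
    rw [Set.mem_singleton_iff] at hy
    subst hy
    have hxe' : x⁻¹ * y = y * x⁻¹ := by
      have : y = x⁻¹ * (x * y) := by group
      calc x⁻¹ * y = x⁻¹ * y * (x * x⁻¹) := by group
        _ = x⁻¹ * (y * x) * x⁻¹ := by group
        _ = x⁻¹ * (x * y) * x⁻¹ := by rw [hxe]
        _ = y * x⁻¹ := by group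
    calc y * (x * u * x⁻¹) = (y * x) * u * x⁻¹ := by group
      _ = (x * y) * u * x⁻¹ := by rw [hxe]
      _ = x * (y * u) * x⁻¹ := by group
      _ = x * (u * y) * x⁻¹ := by rw [huc]
      _ = x * u * (y * x⁻¹) := by group
      _ = x * u * (x⁻¹ * y) := by rw [hxe']
      _ = x * u * x⁻¹ * y := by group
  obtain ⟨y, hycl, hy1, v, hvU, hv1, hyv⟩ :=
    hLine h ht hf'X hgX ⟨hof', hog, hf'g, hgf'⟩ (V ⊓ Subgroup.centralizer {e'}) inf_le_left hU1
      (hUinv f' hf'X hf'e') (hUinv g hgX hge')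
  have hyX : y ∈ X := by
    have : Subgroup.closure ({f', g} : Set G) ≤ X := by
      rw [Subgroup.closure_le]
      intro z hz
      rcases hz with rfl | rfl
      · exact hf'X
      · exact hgX
    exact this hycl
  have hoy : orderOf y = t := orderOf_eq_prime (pair_pow hf'g hf't hgt y hycl) hy1
  have he'y : e' * y = y * e' := comm_closure (x := e') (S := {f', g}) (by
    intro z hz
    rcases hz with rfl | rfl
    · exact hf'e'.symm
    · exact hge'.symm) y hycl
  -- Step 4: `y ∉ ⟨e'⟩`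
  have hye' : y ∉ Subgroup.zpowers e' := by
    intro hmem
    obtain ⟨m, l, hyml⟩ := pair_form hf'g y hycl
    have hycl2 : y ∈ Subgroup.closure ({e, f} : Set G) :=
      (Subgroup.zpowers_le.mpr he'cl) hmem
    have hgl : g ^ l ∈ Subgroup.closure ({e, f} : Set G) := by
      have : g ^ l = (f' ^ m)⁻¹ * y := by rw [hyml]; group
      rw [this]
      exact Subgroup.mul_mem _ (Subgroup.inv_mem _ (Subgroup.zpow_mem _ hf'cl m)) hycl2
    have hgl1 : g ^ l = 1 := pow_eq_one_of_not_mem ht hog _ hgef l hgl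
    rw [hgl1, mul_one] at hyml
    have h1 : f' ∈ Subgroup.zpowers y :=
      prime_gen ht hof' (hyml ▸ Subgroup.zpow_mem_zpowers f' m) hy1
    have h2 : f' ∈ Subgroup.zpowers e' := (Subgroup.zpowers_le.mpr hmem) h1
    have hf'1 : f' ≠ 1 := by
      intro h0
      rw [h0, orderOf_one] at hof'
      exact ht.ne_one hof'.symm
    exact he'f' (prime_gen ht hoe' h2 hf'1)
  -- (NCF) for the pair `(e', y)`
  have hvU' := Subgroup.mem_inf.mp hvU
  have hvV : v ∈ V := hvU'.1
  have hve' : e' * v = v * e' :=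
    Subgroup.mem_centralizer_iff.mp hvU'.2 e' (Set.mem_singleton e')
  exact hv1 (hNcf h ht he'X hyX ⟨hoe', hoy, he'y, hye'⟩ v hvV hve' hyv)

example : K1Stmt.{0} := k1

end Cfsg.Agent.Lib.H26.S3814MPK1
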