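import Cfsg.Agent.Lib.H7.S3814Defs2

/-!
# S3814, piece R2IDX (helper26, twin): `C_t × C_t` moves into any subgroup of index prime to `t`
-/

set_option autoImplicit false

namespace Cfsg.Agent.Lib.H26.S3814R2Idx

open Cfsg.Agent.H7.S3814Defs
open scoped Pointwise

universe u

/-- the elements of the closure of two commuting elements of order dividing `t` have order
dividing `t`, and commute -/
theorem closure_pair {G : Type u} [Group G] {e₁ e₂ : G} {t : ℕ} (h1 : e₁ ^ t = 1)
    (h2 : e₂ ^ t = 1) (hc : e₁ * e₂ = e₂ * e₁) :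
    ∀ x ∈ Subgroup.closure ({e₁, e₂} : Set G), x ^ t = 1 := by
  have hcomm : ∀ x ∈ ({e₁, e₂} : Set G), ∀ y ∈ ({e₁, e₂} : Set G), x * y = y * x := by
    intro x hx y hy
    rcases hx with rfl | rfl <;> rcases hy with rfl | rfl
    · rfl
    · exact hc
    · exact hc.symm
    · rfl
  have hinst : IsMulCommutative (Subgroup.closure ({e₁, e₂} : Set G)) :=
    Subgroup.isMulCommutative_closure hcomm
  have hT : ∀ x ∈ Subgroup.closure ({e₁, e₂} : Set G), ∀ y ∈ Subgroup.closure ({e₁, e₂} : Set G),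
      x * y = y * x := by
    intro x hx y hy
    have := hinst.is_comm.comm (⟨x, hx⟩ : Subgroup.closure ({e₁, e₂} : Set G)) ⟨y, hy⟩
    exact congrArg Subtype.val this
  intro x hx
  induction hx using Subgroup.closure_induction with
  | mem x hx =>
    rcases hx with rfl | rfl
    · exact h1
    · exact h2
  | one => exact one_pow t
  | mul x y hx hy ihx ihy =>
    have hxy : Commute x y := hT x hx y hy
    rw [hxy.mul_pow, ihx, ihy, one_mul]
  | inv x hx ihx => rw [inv_pow, ihx, inv_one]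

theorem r2idx : Rank2IndexStmt.{u} := by
  intro G _ _ K t ht hR hidx
  obtain ⟨e₁, -, e₂, -, h1, h2, hc, hnot⟩ := hR
  have : Fact t.Prime := ⟨ht⟩
  have hpow := closure_pair (t := t) (h1 ▸ pow_orderOf_eq_one e₁) (h2 ▸ pow_orderOf_eq_one e₂) hc
  have hTp : IsPGroup t (Subgroup.closure ({e₁, e₂} : Set G)) := by
    intro x
    refine ⟨1, ?_⟩
    apply Subtype.ext
    simpa using hpow x.1 x.2
  obtain ⟨P, hTP⟩ := hTp.exists_le_sylow
  -- a Sylow subgroup of `K` is a Sylow subgroup of `G`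
  obtain ⟨Q0⟩ : Nonempty (Sylow t K) := inferInstance
  have hcardQ : Nat.card ((Q0 : Subgroup K).map K.subtype) =
      t ^ (Nat.card G).factorization t := by
    rw [Subgroup.card_map_of_injective K.subtype_injective, Q0.card_eq_multiplicity]
    congr 1
    have hmul : Nat.card G = Nat.card K * K.index := (Subgroup.card_mul_index K).symm
    have hK0 : Nat.card K ≠ 0 := Nat.card_pos.ne'
    have hi0 : K.index ≠ 0 := Subgroup.index_ne_zero_of_finite
    rw [hmul, Nat.factorization_mul hK0 hi0]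
    simp [Nat.factorization_eq_zero_of_not_dvd hidx]
  obtain ⟨g, hg⟩ := MulAction.exists_smul_eq G P (Sylow.ofCard _ hcardQ)
  have hmemK : ∀ x ∈ Subgroup.closure ({e₁, e₂} : Set G), g * x * g⁻¹ ∈ K := by
    intro x hx
    have hxP : x ∈ (P : Subgroup G) := hTP hx
    have h2 : g * x * g⁻¹ ∈ ((g • P : Sylow t G) : Subgroup G) := by
      have h3 : ((g • P : Sylow t G) : Subgroup G) = MulAut.conj g • (P : Subgroup G) :=
        Sylow.coe_subgroup_smul
      rw [h3]
      have := Subgroup.smul_mem_pointwise_smul x (MulAut.conj g) (P : Subgroup G) hxP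
      simpa [MulAut.smul_def, MulAut.conj_apply] using this
    rw [hg, Sylow.coe_ofCard] at h2
    exact Subgroup.map_subtype_le _ h2
  have hord : ∀ x : G, orderOf (g * x * g⁻¹) = orderOf x := by
    intro x
    have := orderOf_injective (MulAut.conj g).toMonoidHom (MulAut.conj g).injective x
    simpa [MulAut.conj_apply] using this
  refine ⟨g * e₁ * g⁻¹, hmemK e₁ (Subgroup.subset_closure (by simp)), g * e₂ * g⁻¹,
    hmemK e₂ (Subgroup.subset_closure (by simp)), (hord e₁).trans h1, (hord e₂).trans h2, ?_, ?_⟩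
  · have e1 : g * e₁ * g⁻¹ * (g * e₂ * g⁻¹) = g * (e₁ * e₂) * g⁻¹ := by group
    have e2 : g * e₂ * g⁻¹ * (g * e₁ * g⁻¹) = g * (e₂ * e₁) * g⁻¹ := by group
    rw [e1, e2, hc]
  · intro hmem
    obtain ⟨k, hk⟩ := Subgroup.mem_zpowers_iff.mp hmem
    apply hnot
    refine Subgroup.mem_zpowers_iff.mpr ⟨k, ?_⟩
    have h3 : (g * e₁ * g⁻¹) ^ k = g * e₁ ^ k * g⁻¹ := conj_zpow
    rw [h3] at hk
    have h4 : g⁻¹ * (g * e₁ ^ k * g⁻¹) * g = g⁻¹ * (g * e₂ * g⁻¹) * g := by rw [hk]
    simpa [mul_assoc] using h4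

example : Rank2IndexStmt.{0} := r2idx

end Cfsg.Agent.Lib.H26.S3814R2Idx
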