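import Cfsg.Agent.Lib.H22.S3901Defs
import Cfsg.Agent.Lib.H6.FrobActG

/-!
# S3901, piece (1): the local lemma `LLStmt` (helper26; architect helper22)

`L ≤ M` normal in `T`, `|T : M| = q`, `M / L` a nontrivial `p`-group, every element outside `L` of
prime-power order, `V ≤ L` a nontrivial abelian normal `r`-subgroup: impossible.
-/

set_option autoImplicit false

namespace Cfsg.Agent.Lib.H26.S3901LL

open Cfsg.Agent.Lib.H22.S3901Defs

universe u

/-- coprime exponents: `x ^ m ∈ H`, `x ^ n ∈ H`, `gcd m n = 1` give `x ∈ H`. -/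
theorem mem_of_pow_mem_coprime {G : Type*} [Group G] (H : Subgroup G) (x : G) (m n : ℕ)
    (hmn : Nat.Coprime m n) (hm : x ^ m ∈ H) (hn : x ^ n ∈ H) : x ∈ H := by
  have h1 : x ^ ((Nat.gcd m n : ℕ) : ℤ) = x ^ ((m : ℤ) * Nat.gcdA m n + (n : ℤ) * Nat.gcdB m n) := by
    rw [Nat.gcd_eq_gcd_ab]
  rw [hmn.gcd_eq_one] at h1
  simp only [Nat.cast_one, zpow_one] at h1
  rw [h1, zpow_add, zpow_mul, zpow_mul]
  refine H.mul_mem (H.zpow_mem ?_ _) (H.zpow_mem ?_ _)
  · simpa using hm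
  · simpa using hn

/-- a number divisible by two distinct primes is not a prime power -/
theorem not_isPrimePow_of_two_primes {n a b : ℕ} (ha : a.Prime) (hb : b.Prime) (hab : a ≠ b)
    (h1 : a ∣ n) (h2 : b ∣ n) : ¬ IsPrimePow n := by
  intro h
  rw [isPrimePow_nat_iff] at h
  obtain ⟨t, k, ht, _, rfl⟩ := h
  have e1 := (Nat.prime_dvd_prime_iff_eq ha ht).1 (ha.dvd_of_dvd_pow h1)
  have e2 := (Nat.prime_dvd_prime_iff_eq hb ht).1 (hb.dvd_of_dvd_pow h2)
  exact hab (e1.trans e2.symm)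

/-- FACT 0: commuting `x`, `c` of coprime orders divisible by distinct primes `a`, `b`, with
`x * c ∉ L`: contradiction with the prime-power hypothesis. -/
theorem bad {T : Type*} [Group T] (L : Subgroup T)
    (hpp : ∀ x : T, x ∉ L → IsPrimePow (orderOf x)) (x c : T) (hxc : Commute x c)
    (hnot : x * c ∉ L) (a b : ℕ) (ha : a.Prime) (hb : b.Prime) (hab : a ≠ b)
    (hax : a ∣ orderOf x) (hbc : b ∣ orderOf c) (hcop : Nat.Coprime (orderOf x) (orderOf c)) :
    False := by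
  have h1 : orderOf (x * c) = orderOf x * orderOf c :=
    hxc.orderOf_mul_eq_mul_orderOf_of_coprime hcop
  refine not_isPrimePow_of_two_primes ha hb hab ?_ ?_ (hpp _ hnot)
  · rw [h1]; exact Dvd.dvd.mul_right hax _
  · rw [h1]; exact Dvd.dvd.mul_left hbc _

theorem prime_dvd_orderOf_of_pow {T : Type*} [Group T] {p : ℕ} (x : T) (hx1 : x ≠ 1) (j : ℕ)
    (hj : orderOf x = p ^ j) : p ∣ orderOf x := by
  rw [hj]
  apply dvd_pow_self
  rintro rfl
  apply hx1
  rw [← orderOf_eq_one_iff, hj, pow_zero]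

theorem orderOf_of_mem_sylow {T : Type*} [Group T] {p : ℕ} [Fact p.Prime] (P : Sylow p T) (x : T)
    (hx : x ∈ (P : Subgroup T)) : ∃ j, orderOf x = p ^ j := by
  obtain ⟨k, hk⟩ := P.2 ⟨x, hx⟩
  have h1 : x ^ (p ^ k) = 1 := by
    have := congrArg Subtype.val hk
    simpa using this
  obtain ⟨j, -, hj⟩ := (Nat.dvd_prime_pow (Fact.out : p.Prime)).1 (orderOf_dvd_of_pow_eq_one h1)
  exact ⟨j, hj⟩

/-- CLAIM (2): no element of prime order `s ≠ p` of `L` normalises `P`. -/
theorem claim2 {T : Type u} [Group T] [Finite T] (L : Subgroup T) [L.Normal] (p : ℕ)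
    [Fact p.Prime]
    (hpp : ∀ x : T, x ∉ L → IsPrimePow (orderOf x))
    (P : Sylow p T) (x0 : T) (hx0P : x0 ∈ (P : Subgroup T)) (hx0L : x0 ∉ L)
    (c : T) (hcL : c ∈ L) (hcN : c ∈ Subgroup.normalizer ((P : Subgroup T) : Set T)) (s : ℕ)
    (hs : s.Prime) (hsp : s ≠ p) (hc : orderOf c = s) : False := by
  classical
  have hp : p.Prime := Fact.out
  have hCL : Subgroup.zpowers c ≤ L := by rw [Subgroup.zpowers_le]; exact hcL
  have hCN : Subgroup.zpowers c ≤ Subgroup.normalizer ((P : Subgroup T) : Set T) := by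
    rw [Subgroup.zpowers_le]; exact hcN
  have hstab : ∀ g ∈ Subgroup.zpowers c, ∀ x : T, x ∈ (P : Subgroup T) ∧ x0⁻¹ * x ∈ L →
      g * x * g⁻¹ ∈ (P : Subgroup T) ∧ x0⁻¹ * (g * x * g⁻¹) ∈ L := by
    intro g hg x hx
    refine ⟨(Subgroup.mem_normalizer_iff.1 (hCN hg) x).1 hx.1, ?_⟩
    have h1 : x⁻¹ * g * x ∈ L := by
      have := (inferInstance : L.Normal).conj_mem g (hCL hg) x⁻¹
      simpa using this
    have h2 : x0⁻¹ * (g * x * g⁻¹) = (x0⁻¹ * x) * (x⁻¹ * g * x) * g⁻¹ := by group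
    rw [h2]
    exact L.mul_mem (L.mul_mem hx.2 h1) (L.inv_mem (hCL hg))
  let S := {x : T // x ∈ (P : Subgroup T) ∧ x0⁻¹ * x ∈ L}
  let act : MulAction (Subgroup.zpowers c) S :=
    { smul := fun g x => ⟨g.1 * x.1 * g.1⁻¹, hstab g.1 g.2 x.1 x.2⟩
      one_smul := fun x => Subtype.ext (by
        show ((1 : Subgroup.zpowers c) : T) * x.1 * ((1 : Subgroup.zpowers c) : T)⁻¹ = x.1
        simp)
      mul_smul := fun g h x => Subtype.ext (by
        show ((g * h : Subgroup.zpowers c) : T) * x.1 * ((g * h : Subgroup.zpowers c) : T)⁻¹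
          = (g : T) * ((h : T) * x.1 * (h : T)⁻¹) * (g : T)⁻¹
        simp [mul_assoc]) }
  let e : S ≃ ↥((P : Subgroup T) ⊓ L) :=
    { toFun := fun x => ⟨x0⁻¹ * x.1,
        Subgroup.mem_inf.2 ⟨(P : Subgroup T).mul_mem ((P : Subgroup T).inv_mem hx0P) x.2.1, x.2.2⟩⟩
      invFun := fun d => ⟨x0 * d.1, ⟨(P : Subgroup T).mul_mem hx0P (Subgroup.mem_inf.1 d.2).1, by
        simpa using (Subgroup.mem_inf.1 d.2).2⟩⟩
      left_inv := fun x => Subtype.ext (by simp)
      right_inv := fun d => Subtype.ext (by simp) }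
  have hcard : Nat.card S = Nat.card ↥((P : Subgroup T) ⊓ L) := Nat.card_congr e
  have hdvd : Nat.card ↥((P : Subgroup T) ⊓ L) ∣ Nat.card (P : Subgroup T) :=
    Subgroup.card_dvd_of_le inf_le_left
  obtain ⟨n, hn⟩ := P.2.exists_card_eq
  have hns : ¬ s ∣ Nat.card S := by
    intro hdiv
    have h3 : s ∣ p ^ n := by
      rw [← hn]
      exact (hcard ▸ hdiv).trans hdvd
    exact hsp ((Nat.prime_dvd_prime_iff_eq hs hp).1 (hs.dvd_of_dvd_pow h3))
  have : Fact s.Prime := ⟨hs⟩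
  have hCp : IsPGroup s (Subgroup.zpowers c) :=
    IsPGroup.of_card (n := 1) (by rw [Nat.card_zpowers, hc, pow_one])
  obtain ⟨x, hx⟩ := hCp.nonempty_fixed_point_of_prime_not_dvd_card S hns
  have hfix : c * x.1 * c⁻¹ = x.1 := by
    have := hx ⟨c, Subgroup.mem_zpowers c⟩
    exact congrArg Subtype.val this
  have hxL : x.1 ∉ L := by
    intro hxL
    apply hx0L
    have := L.mul_mem hxL (L.inv_mem x.2.2)
    simpa using this
  have hx1 : x.1 ≠ 1 := by
    intro h1
    exact hxL (h1 ▸ L.one_mem)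
  have hcomm : Commute x.1 c := (mul_inv_eq_iff_eq_mul.1 hfix).symm
  have hxcL : x.1 * c ∉ L := by
    intro h
    apply hxL
    have := L.mul_mem h (L.inv_mem hcL)
    simpa using this
  obtain ⟨j, hj⟩ := orderOf_of_mem_sylow P x.1 x.2.1
  refine bad L hpp x.1 c hcomm hxcL p s hp hs (Ne.symm hsp)
    (prime_dvd_orderOf_of_pow x.1 hx1 j hj) (by rw [hc]) ?_
  rw [hj, hc]
  exact Nat.Coprime.pow_left _ ((Nat.coprime_primes hp hs).2 (Ne.symm hsp))

/-- **The local lemma.** -/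
theorem ll : LLStmt.{u} := by
  intro T _ _ L M V _ _ _ p q r hp hq hr hpq hpr hqr hLM hidx hMp hML hpp hVL hVne hVc hVr
  classical
  have : Fact p.Prime := ⟨hp⟩
  have : Fact q.Prime := ⟨hq⟩
  -- a `p`-element outside `L`
  obtain ⟨m, hmM, hmL⟩ := hML
  have hmp : ∃ j, orderOf m = p ^ j := by
    have hm := hpp m hmL
    rw [isPrimePow_nat_iff] at hm
    obtain ⟨s, j, hs, _, hsj⟩ := hm
    by_cases hsp : s = p
    · exact ⟨j, by rw [← hsj, hsp]⟩
    · exfalso
      obtain ⟨k, hk⟩ := hMp m hmM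
      apply hmL
      refine mem_of_pow_mem_coprime L m (p ^ k) (s ^ j) ?_ hk ?_
      · exact Nat.Coprime.pow _ _ ((Nat.coprime_primes hp hs).2 (Ne.symm hsp))
      · rw [hsj, pow_orderOf_eq_one]; exact L.one_mem
  obtain ⟨jm, hjm⟩ := hmp
  have hzp : IsPGroup p (Subgroup.zpowers m) :=
    IsPGroup.of_card (n := jm) (by rw [Nat.card_zpowers, hjm])
  obtain ⟨P, hP⟩ := hzp.exists_le_sylow
  have hx0P : m ∈ (P : Subgroup T) := hP (Subgroup.mem_zpowers m)
  -- `P ≤ M`
  have hPM : (P : Subgroup T) ≤ M := by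
    intro x hx
    obtain ⟨j, hj⟩ := orderOf_of_mem_sylow P x hx
    refine mem_of_pow_mem_coprime M x (p ^ j) q ?_ ?_ ?_
    · exact Nat.Coprime.pow_left _ ((Nat.coprime_primes hp hq).2 hpq)
    · rw [← hj, pow_orderOf_eq_one]; exact M.one_mem
    · rw [← hidx]; exact M.pow_index_mem x
  -- Frattini
  have hfr : Subgroup.normalizer ((P : Subgroup T) : Set T) ⊔ M = ⊤ :=
    Sylow.normalizer_sup_eq_top' P hPM
  have hq1 : q ∣ Nat.card (Subgroup.normalizer ((P : Subgroup T) : Set T)) := by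
    have h1 : M.relIndex (Subgroup.normalizer ((P : Subgroup T) : Set T) ⊔ M)
        = M.relIndex (Subgroup.normalizer ((P : Subgroup T) : Set T)) :=
      Subgroup.relIndex_sup_right _ _
    rw [hfr, Subgroup.relIndex_top_right, hidx] at h1
    rw [h1]
    exact Subgroup.relIndex_dvd_card _ _
  obtain ⟨y', hy'⟩ := exists_prime_orderOf_dvd_card' q hq1
  have hyN : (y' : T) ∈ Subgroup.normalizer ((P : Subgroup T) : Set T) := y'.2
  have hyq : orderOf (y' : T) = q := by rw [Subgroup.orderOf_coe]; exact hy'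
  -- `y ∉ L`
  have hyL : (y' : T) ∉ L := fun hyL =>
    claim2 L p hpp P m hx0P hmL (y' : T) hyL hyN q hq (Ne.symm hpq) hyq
  have hy1 : (y' : T) ≠ 1 := fun h1 => hyL (h1 ▸ L.one_mem)
  -- apply T1
  have hcent : ∀ k ∈ (P : Subgroup T), ∀ v ∈ V, k * v * k⁻¹ = v := by
    refine Cfsg.Agent.Lib.H6.FrobActG.t1_group (P : Subgroup T) V (y' : T) hq hyq
      (fun k hk => (Subgroup.mem_normalizer_iff.1 hyN k).1 hk)
      (fun v hv => (inferInstance : V.Normal).conj_mem v hv _)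
      (fun k _ v hv => (inferInstance : V.Normal).conj_mem v hv k)
      hVc ?_ ?_ ?_
    · -- fixed-point-free on `P`
      intro k hk hfix
      by_contra hk1
      obtain ⟨j, hj⟩ := orderOf_of_mem_sylow P k hk
      have hcomm : Commute (y' : T) k := mul_inv_eq_iff_eq_mul.1 hfix
      have hykL : (y' : T) * k ∉ L := by
        intro h
        apply hyL
        refine mem_of_pow_mem_coprime L (y' : T) (p ^ j) q ?_ ?_ ?_
        · exact Nat.Coprime.pow_left _ ((Nat.coprime_primes hp hq).2 hpq)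
        · have h2 := L.pow_mem h (p ^ j)
          have hk' : k ^ (p ^ j) = 1 := by rw [← hj]; exact pow_orderOf_eq_one k
          rw [hcomm.mul_pow, hk', mul_one] at h2
          exact h2
        · rw [← hyq, pow_orderOf_eq_one]; exact L.one_mem
      refine bad L hpp (y' : T) k hcomm hykL q p hq hp (Ne.symm hpq) (by rw [hyq])
        (prime_dvd_orderOf_of_pow k hk1 j hj) ?_
      rw [hyq, hj]
      exact Nat.Coprime.pow_right _ ((Nat.coprime_primes hq hp).2 (Ne.symm hpq))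
    · -- coprime
      intro v hv hv1
      obtain ⟨n, hn⟩ := P.2.exists_card_eq
      obtain ⟨k, hk⟩ := hVr v hv
      have : v ∈ (⊥ : Subgroup T) := by
        refine mem_of_pow_mem_coprime ⊥ v (p ^ n) (r ^ k) ?_ ?_ ?_
        · exact Nat.Coprime.pow _ _ ((Nat.coprime_primes hp hr).2 hpr)
        · rw [← hn]; exact Subgroup.mem_bot.2 hv1
        · exact Subgroup.mem_bot.2 hk
      exact Subgroup.mem_bot.1 this
    · -- `C_V(y) = 1`
      intro v hv hfix
      by_contra hv1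
      obtain ⟨k, hk⟩ := hVr v hv
      obtain ⟨j, -, hj⟩ := (Nat.dvd_prime_pow hr).1 (orderOf_dvd_of_pow_eq_one hk)
      have hcomm : Commute (y' : T) v := mul_inv_eq_iff_eq_mul.1 hfix
      have hyvL : (y' : T) * v ∉ L := by
        intro h
        apply hyL
        have := L.mul_mem h (L.inv_mem (hVL hv))
        simpa using this
      refine bad L hpp (y' : T) v hcomm hyvL q r hq hr hqr (by rw [hyq])
        (prime_dvd_orderOf_of_pow v hv1 j hj) ?_
      rw [hyq, hj]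
      exact Nat.Coprime.pow_right _ ((Nat.coprime_primes hq hr).2 hqr)
  -- final contradiction
  obtain ⟨v', hv'⟩ := (Subgroup.ne_bot_iff_exists_ne_one).1 hVne
  have hv1 : (v' : T) ≠ 1 := fun h => hv' (Subtype.ext h)
  obtain ⟨k, hk⟩ := hVr (v' : T) v'.2
  obtain ⟨j, -, hj⟩ := (Nat.dvd_prime_pow hr).1 (orderOf_dvd_of_pow_eq_one hk)
  have hm1 : m ≠ 1 := fun h1 => hmL (h1 ▸ L.one_mem)
  have hcomm : Commute m (v' : T) := mul_inv_eq_iff_eq_mul.1 (hcent m hx0P (v' : T) v'.2)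
  have hmvL : m * (v' : T) ∉ L := by
    intro h
    apply hmL
    have := L.mul_mem h (L.inv_mem (hVL v'.2))
    simpa using this
  refine bad L hpp m (v' : T) hcomm hmvL p r hp hr hpr
    (prime_dvd_orderOf_of_pow m hm1 jm hjm) (prime_dvd_orderOf_of_pow (v' : T) hv1 j hj) ?_
  rw [hjm, hj]
  exact Nat.Coprime.pow _ _ ((Nat.coprime_primes hp hr).2 hpr)

example : LLStmt.{0} := ll
example : LLStmt.{3} := ll

end Cfsg.Agent.Lib.H26.S3901LL
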