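import Mathlib
import Cfsg.Prelude.Def_Transfer

/-!
helper26: S4415 FRONT piece F0 -- extraction of the three involutions `x₁, x₂, x₃` of the four-group `Q`
cycled by `b`.  Light file (Mathlib + Prelude.Def_Transfer).
-/

set_option autoImplicit false

namespace Cfsg.Agent.Lib.H26.S4415F0

variable {S : Type*} [Group S]

/-- A four-group `Q` normalised but not centralised by `b` of order dividing `3` is
`{1, x₁, x₂, x₃}` with `b` cycling `x₁ → x₂ → x₃ → x₁`. -/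
theorem exists_x (Q : Subgroup S) (hQ : Cfsg.IsElementaryAbelian 2 Q) (hQ4 : Nat.card ↥Q = 4)
    (b : S) (hb3 : b ^ 3 = 1)
    (hBQ : Subgroup.zpowers b ≤ Subgroup.normalizer (Q : Set S))
    (hBQ' : ¬ Subgroup.zpowers b ≤ Subgroup.centralizer (Q : Set S)) :
    ∃ x₁ x₂ x₃ : S, x₁ ∈ Q ∧ x₂ ∈ Q ∧ x₃ ∈ Q ∧ x₁ ≠ 1 ∧ x₁ * x₁ = 1 ∧ x₂ * x₂ = 1 ∧ x₃ * x₃ = 1 ∧
      x₁ * x₂ = x₃ ∧ x₂ * x₁ = x₃ ∧ b * x₁ * b⁻¹ = x₂ ∧ b * x₂ * b⁻¹ = x₃ ∧ b * x₃ * b⁻¹ = x₁ := by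
  obtain ⟨hcomm, hsq⟩ := hQ
  have hbn : ∀ q, q ∈ Q ↔ b * q * b⁻¹ ∈ Q := by
    have : b ∈ Subgroup.normalizer (Q : Set S) := hBQ (Subgroup.mem_zpowers b)
    exact fun q => Subgroup.mem_normalizer_iff.mp this q
  have hc : ∀ x ∈ Q, ∀ y ∈ Q, x * y = y * x := fun x hx y hy =>
    congrArg Subtype.val (hcomm.is_comm.comm ⟨x, hx⟩ ⟨y, hy⟩)
  have hsq' : ∀ x ∈ Q, x * x = 1 := fun x hx => by
    have := hsq x hx
    rwa [pow_two] at this
  have hex : ∃ x ∈ Q, b * x * b⁻¹ ≠ x := by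
    by_contra hcon
    push_neg at hcon
    apply hBQ'
    rw [Subgroup.zpowers_le, Subgroup.mem_centralizer_iff]
    intro q hq
    have := hcon q hq
    calc q * b = (b * q * b⁻¹) * b := by rw [this]
      _ = b * q := by group
  obtain ⟨x₁, hx₁, hne⟩ := hex
  have hx₂ : b * x₁ * b⁻¹ ∈ Q := (hbn x₁).mp hx₁
  have hx₃ : x₁ * (b * x₁ * b⁻¹) ∈ Q := Q.mul_mem hx₁ hx₂
  have hb2 : b * b = b⁻¹ := by
    have : b * b * b = 1 := by rw [← hb3, pow_succ, pow_two]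
    exact eq_inv_of_mul_eq_one_left this
  have h1 : x₁ ≠ 1 := by
    intro h
    apply hne
    rw [h]
    group
  have h2 : b * x₁ * b⁻¹ ≠ 1 := by
    intro h
    apply h1
    have : x₁ = b⁻¹ * (b * x₁ * b⁻¹) * b := by group
    rw [this, h]
    group
  have h3 : x₁ * (b * x₁ * b⁻¹) ≠ 1 := by
    intro h
    apply hne
    have h' := hsq' x₁ hx₁
    exact (mul_left_cancel (h.trans h'.symm))
  have h13 : x₁ * (b * x₁ * b⁻¹) ≠ x₁ := by
    intro h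
    apply h2
    exact mul_left_cancel (h.trans (mul_one x₁).symm)
  have h23 : x₁ * (b * x₁ * b⁻¹) ≠ b * x₁ * b⁻¹ := by
    intro h
    apply h1
    exact mul_right_cancel (h.trans (one_mul _).symm)
  have : Finite Q := Nat.finite_of_card_ne_zero (by rw [hQ4]; norm_num)
  have henum : ∀ q ∈ Q, q = 1 ∨ q = x₁ ∨ q = b * x₁ * b⁻¹ ∨ q = x₁ * (b * x₁ * b⁻¹) := by
    intro q hq
    let f : Fin 4 → Q := ![1, ⟨x₁, hx₁⟩, ⟨b * x₁ * b⁻¹, hx₂⟩, ⟨x₁ * (b * x₁ * b⁻¹), hx₃⟩]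
    have hf : Function.Injective f := by
      intro i j h
      have h' : ((f i : Q) : S) = (f j : Q) := congrArg Subtype.val h
      fin_cases i <;> fin_cases j <;> simp [f] at h' ⊢
      all_goals first
        | exact absurd h' h1 | exact absurd h'.symm h1 | exact absurd h' h2 | exact absurd h'.symm h2
        | exact absurd h' h3 | exact absurd h'.symm h3 | exact absurd h' hne
        | exact absurd h'.symm hne | exact absurd h' h13 | exact absurd h'.symm h13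
        | exact absurd h' h23 | exact absurd h'.symm h23
    have hbij := hf.bijective_of_nat_card_le (by rw [hQ4]; simp)
    obtain ⟨i, hi⟩ := hbij.2 ⟨q, hq⟩
    have hi' : ((f i : Q) : S) = q := congrArg Subtype.val hi
    fin_cases i <;> simp [f] at hi'
    · exact Or.inl hi'.symm
    · exact Or.inr (Or.inl hi'.symm)
    · exact Or.inr (Or.inr (Or.inl hi'.symm))
    · exact Or.inr (Or.inr (Or.inr hi'.symm))
  -- the image of x₂ under b
  have hx₂' : b * (b * x₁ * b⁻¹) * b⁻¹ ∈ Q := (hbn _).mp hx₂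
  have key : b * (b * x₁ * b⁻¹) * b⁻¹ = x₁ * (b * x₁ * b⁻¹) := by
    rcases henum _ hx₂' with h | h | h | h
    · exfalso
      apply h2
      have : b * x₁ * b⁻¹ = b⁻¹ * (b * (b * x₁ * b⁻¹) * b⁻¹) * b := by group
      rw [this, h]
      group
    · exfalso
      apply hne
      -- b² x₁ b⁻² = x₁, b² = b⁻¹
      have e : b * (b * x₁ * b⁻¹) * b⁻¹ = (b * b) * x₁ * (b * b)⁻¹ := by group
      rw [e, hb2, inv_inv] at h
      -- b⁻¹ x₁ b = x₁
      calc b * x₁ * b⁻¹ = b * (b⁻¹ * x₁ * b) * b⁻¹ := by rw [h]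
        _ = x₁ := by group
    · exfalso
      apply hne
      have : b * x₁ * b⁻¹ = b⁻¹ * (b * (b * x₁ * b⁻¹) * b⁻¹) * b := by group
      rw [h] at this
      have e : b⁻¹ * (b * x₁ * b⁻¹) * b = x₁ := by group
      rw [e] at this
      exact this
    · exact h
  refine ⟨x₁, b * x₁ * b⁻¹, x₁ * (b * x₁ * b⁻¹), hx₁, hx₂, hx₃, h1, hsq' _ hx₁, hsq' _ hx₂,
    hsq' _ hx₃, rfl, (hc _ hx₁ _ hx₂).symm, rfl, key, ?_⟩
  -- b x₃ b⁻¹ = x₂ x₃ = x₁
  have e : b * (x₁ * (b * x₁ * b⁻¹)) * b⁻¹ = (b * x₁ * b⁻¹) * (b * (b * x₁ * b⁻¹) * b⁻¹) := by group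
  rw [e, key, hc _ hx₂ _ hx₃, mul_assoc, hsq' _ hx₂, mul_one]

end Cfsg.Agent.Lib.H26.S4415F0
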