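import Mathlib

/-!
helper26: S4415 FRONT piece F3 -- coprime splitting `E = C_E(R) ⊕ [E,R]` for a finite `3'`-subgroup
`R` acting on an `F_3`-module `E` (averaging projector).  Light file, Mathlib only.
-/

set_option autoImplicit false

namespace Cfsg.Agent.Lib.H26.S4415F3

variable {S E : Type*} [Group S] [AddCommGroup E] [Module (ZMod 3) E]

/-- `C_E(R)`: the vectors fixed by every element of `R`. -/
def fixedSub (ρ : Representation (ZMod 3) S E) (R : Subgroup S) : Submodule (ZMod 3) E where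
  carrier := {v | ∀ r ∈ R, ρ r v = v}
  add_mem' := by
    intro a b ha hb r hr
    rw [map_add, ha r hr, hb r hr]
  zero_mem' := by
    intro r _
    simp
  smul_mem' := by
    intro c v hv r hr
    rw [map_smul, hv r hr]

/-- `[E,R]`: the span of all `ρ r v - v`, `r ∈ R`. -/
def commSub (ρ : Representation (ZMod 3) S E) (R : Subgroup S) : Submodule (ZMod 3) E :=
  Submodule.span (ZMod 3) {x | ∃ r ∈ R, ∃ v, x = ρ r v - v}

theorem mem_fixedSub (ρ : Representation (ZMod 3) S E) (R : Subgroup S) (v : E) :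
    v ∈ fixedSub ρ R ↔ ∀ r ∈ R, ρ r v = v := Iff.rfl

theorem sub_mem_commSub (ρ : Representation (ZMod 3) S E) (R : Subgroup S) {r : S} (hr : r ∈ R)
    (v : E) : ρ r v - v ∈ commSub ρ R :=
  Submodule.subset_span ⟨r, hr, v, rfl⟩

/-- (e) `[E,R] ≤ N` as soon as `R` acts trivially on `E / N`. -/
theorem commSub_le (ρ : Representation (ZMod 3) S E) (R : Subgroup S) (N : Submodule (ZMod 3) E)
    (h : ∀ r ∈ R, ∀ v, ρ r v - v ∈ N) : commSub ρ R ≤ N := by
  unfold commSub
  rw [Submodule.span_le]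
  rintro x ⟨r, hr, v, rfl⟩
  exact h r hr v

/-- The un-normalised averaging operator. -/
noncomputable def avgL (ρ : Representation (ZMod 3) S E) (R : Subgroup S) [Fintype R] :
    E →ₗ[ZMod 3] E := ∑ r : R, ρ (r : S)

theorem avgL_apply (ρ : Representation (ZMod 3) S E) (R : Subgroup S) [Fintype R] (v : E) :
    avgL ρ R v = ∑ r : R, ρ (r : S) v := by
  unfold avgL
  rw [LinearMap.sum_apply]

theorem avgL_mem_fixedSub (ρ : Representation (ZMod 3) S E) (R : Subgroup S) [Fintype R] (v : E) :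
    avgL ρ R v ∈ fixedSub ρ R := by
  intro s hs
  rw [avgL_apply, map_sum]
  have : ∀ r : R, ρ s (ρ (r : S) v) = ρ ((⟨s, hs⟩ * r : R) : S) v := by
    intro r
    rw [Subgroup.coe_mul, map_mul]
    rfl
  simp_rw [this]
  exact Fintype.sum_equiv (Equiv.mulLeft (⟨s, hs⟩ : R)) _ _ (fun r => rfl)

theorem avgL_of_mem_fixedSub (ρ : Representation (ZMod 3) S E) (R : Subgroup S) [Fintype R] {v : E}
    (hv : v ∈ fixedSub ρ R) : avgL ρ R v = (Fintype.card R : ZMod 3) • v := by
  rw [avgL_apply]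
  have : ∀ r : R, ρ (r : S) v = v := fun r => hv r r.2
  simp_rw [this]
  rw [Finset.sum_const, Finset.card_univ, Nat.cast_smul_eq_nsmul]

theorem avgL_sub (ρ : Representation (ZMod 3) S E) (R : Subgroup S) [Fintype R] (v : E) :
    avgL ρ R v - (Fintype.card R : ZMod 3) • v ∈ commSub ρ R := by
  have h : avgL ρ R v - (Fintype.card R : ZMod 3) • v = ∑ r : R, (ρ (r : S) v - v) := by
    rw [avgL_apply, Finset.sum_sub_distrib, Finset.sum_const, Finset.card_univ,
      Nat.cast_smul_eq_nsmul]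
  rw [h]
  exact Submodule.sum_mem _ (fun r _ => sub_mem_commSub ρ R r.2 v)

theorem avgL_commSub (ρ : Representation (ZMod 3) S E) (R : Subgroup S) [Fintype R] {w : E}
    (hw : w ∈ commSub ρ R) : avgL ρ R w = 0 := by
  unfold commSub at hw
  induction hw using Submodule.span_induction with
  | mem x hx =>
    obtain ⟨s, hs, v, rfl⟩ := hx
    rw [map_sub, avgL_apply, avgL_apply, sub_eq_zero]
    have : ∀ r : R, ρ (r : S) (ρ s v) = ρ ((r * ⟨s, hs⟩ : R) : S) v := by
      intro r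
      rw [Subgroup.coe_mul, map_mul]
      rfl
    simp_rw [this]
    exact Fintype.sum_equiv (Equiv.mulRight (⟨s, hs⟩ : R)) _ _ (fun r => rfl)
  | zero => simp
  | add x y _ _ hx hy => rw [map_add, hx, hy, add_zero]
  | smul c x _ hx => rw [map_smul, hx, smul_zero]

theorem card_isUnit (R : Subgroup S) [Fintype R] (hR : (Nat.card R).Coprime 3) :
    IsUnit (Fintype.card R : ZMod 3) := by
  rw [ZMod.isUnit_iff_coprime, ← Nat.card_eq_fintype_card]
  exact hR

/-- (a) `[E,R] ∩ C_E(R) = 0` for a finite `3'`-group `R`. -/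
theorem commSub_inf_fixedSub (ρ : Representation (ZMod 3) S E) (R : Subgroup S) [Finite R]
    (hR : (Nat.card R).Coprime 3) : commSub ρ R ⊓ fixedSub ρ R = ⊥ := by
  cases nonempty_fintype R
  rw [eq_bot_iff]
  rintro w ⟨hw1, hw2⟩
  have h1 := avgL_commSub ρ R hw1
  have h2 := avgL_of_mem_fixedSub ρ R hw2
  rw [h1] at h2
  obtain ⟨u, hu⟩ := card_isUnit R hR
  rw [← hu] at h2
  have : w = (↑u⁻¹ : ZMod 3) • ((u : ZMod 3) • w) := by
    rw [smul_smul, Units.inv_mul, one_smul]
  rw [Submodule.mem_bot, this, ← h2, smul_zero]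

/-- (b) `[E,R] + C_E(R) = E` for a finite `3'`-group `R`. -/
theorem commSub_sup_fixedSub (ρ : Representation (ZMod 3) S E) (R : Subgroup S) [Finite R]
    (hR : (Nat.card R).Coprime 3) : commSub ρ R ⊔ fixedSub ρ R = ⊤ := by
  cases nonempty_fintype R
  rw [eq_top_iff]
  intro v _
  obtain ⟨u, hu⟩ := card_isUnit R hR
  have h1 := avgL_sub ρ R v
  have h2 := avgL_mem_fixedSub ρ R v
  rw [← hu] at h1
  have hv : v = (↑u⁻¹ : ZMod 3) • (-(avgL ρ R v - (u : ZMod 3) • v)) +
      (↑u⁻¹ : ZMod 3) • avgL ρ R v := by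
    rw [← smul_add, neg_sub, sub_add_cancel, smul_smul, Units.inv_mul, one_smul]
  rw [hv]
  exact Submodule.add_mem_sup (Submodule.smul_mem _ _ (Submodule.neg_mem _ h1))
    (Submodule.smul_mem _ _ h2)

/-- (d) a vector of `[E,R]` fixed by `R` is zero. -/
theorem eq_zero_of_mem_commSub_of_fixed (ρ : Representation (ZMod 3) S E) (R : Subgroup S) [Finite R]
    (hR : (Nat.card R).Coprime 3) {w : E} (hw : w ∈ commSub ρ R) (hfix : ∀ r ∈ R, ρ r w = w) :
    w = 0 := by
  have : w ∈ commSub ρ R ⊓ fixedSub ρ R := ⟨hw, hfix⟩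
  rw [commSub_inf_fixedSub ρ R hR] at this
  exact this

/-- (f) a submodule of `[E,R]` on which `R` acts trivially is zero. -/
theorem eq_bot_of_le_commSub_of_fixed (ρ : Representation (ZMod 3) S E) (R : Subgroup S) [Finite R]
    (hR : (Nat.card R).Coprime 3) (N : Submodule (ZMod 3) E) (hN : N ≤ commSub ρ R)
    (hfix : ∀ r ∈ R, ∀ v ∈ N, ρ r v = v) : N = ⊥ := by
  rw [eq_bot_iff]
  intro v hv
  rw [Submodule.mem_bot]
  exact eq_zero_of_mem_commSub_of_fixed ρ R hR (hN hv) (fun r hr => hfix r hr v hv)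

/-- The explicit decomposition `v = w + c`. -/
theorem exists_decomp (ρ : Representation (ZMod 3) S E) (R : Subgroup S) [Finite R]
    (hR : (Nat.card R).Coprime 3) (v : E) :
    ∃ w ∈ commSub ρ R, ∃ c ∈ fixedSub ρ R, v = w + c := by
  have hv : v ∈ commSub ρ R ⊔ fixedSub ρ R := by
    rw [commSub_sup_fixedSub ρ R hR]
    trivial
  obtain ⟨w, hw, c, hc, h⟩ := Submodule.mem_sup.mp hv
  exact ⟨w, hw, c, hc, h.symm⟩

/-- (c) `[E,R]` is invariant under every `g` with `g R g⁻¹ ≤ R`. -/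
theorem commSub_inv (ρ : Representation (ZMod 3) S E) (R : Subgroup S) (g : S)
    (hg : ∀ r ∈ R, g * r * g⁻¹ ∈ R) : ∀ w ∈ commSub ρ R, ρ g w ∈ commSub ρ R := by
  intro w hw
  unfold commSub at hw
  induction hw using Submodule.span_induction with
  | mem x hx =>
    obtain ⟨s, hs, v, rfl⟩ := hx
    have : ρ g (ρ s v - v) = ρ (g * s * g⁻¹) (ρ g v) - ρ g v := by
      rw [map_sub, ← Module.End.mul_apply, ← Module.End.mul_apply, ← map_mul, ← map_mul]
      congr 3
      group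
    rw [this]
    exact sub_mem_commSub ρ R (hg s hs) _
  | zero => rw [map_zero]; exact Submodule.zero_mem _
  | add x y _ _ hx hy => rw [map_add]; exact Submodule.add_mem _ hx hy
  | smul c x _ hx => rw [map_smul]; exact Submodule.smul_mem _ _ hx

/-- `C_E(R)` is invariant under every `g` with `g⁻¹ R g ≤ R`. -/
theorem fixedSub_inv (ρ : Representation (ZMod 3) S E) (R : Subgroup S) (g : S)
    (hg : ∀ r ∈ R, g⁻¹ * r * g ∈ R) : ∀ w ∈ fixedSub ρ R, ρ g w ∈ fixedSub ρ R := by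
  intro w hw r hr
  have e : r * g = g * (g⁻¹ * r * g) := by group
  have : ρ r (ρ g w) = ρ g (ρ (g⁻¹ * r * g) w) := by
    rw [← Module.End.mul_apply, ← map_mul, e, map_mul, Module.End.mul_apply]
  rw [this, hw _ (hg r hr)]

/-- For a finite subgroup, `g R g⁻¹ ≤ R` implies `g⁻¹ R g ≤ R`. -/
theorem conj_inv_mem (R : Subgroup S) [Finite R] (g : S) (hg : ∀ r ∈ R, g * r * g⁻¹ ∈ R) :
    ∀ r ∈ R, g⁻¹ * r * g ∈ R := by
  intro r hr
  let f : R → R := fun x => ⟨g * x * g⁻¹, hg x x.2⟩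
  have hinj : Function.Injective f := by
    intro x y hxy
    have := congrArg Subtype.val hxy
    simp only [f] at this
    exact Subtype.ext (by simpa using this)
  obtain ⟨x, hx⟩ := (Finite.injective_iff_surjective.mp hinj) ⟨r, hr⟩
  have hx' : g * (x : S) * g⁻¹ = r := congrArg Subtype.val hx
  have : g⁻¹ * r * g = x := by
    rw [← hx']
    group
  rw [this]
  exact x.2

/-- `R ⊔ ⟨b⟩` normalises `R` when `b R b⁻¹ ≤ R` (finite `R`). -/
theorem sup_zpowers_le_normalizer (R : Subgroup S) [Finite R] (b : S)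
    (hb : ∀ r ∈ R, b * r * b⁻¹ ∈ R) : R ⊔ Subgroup.zpowers b ≤ Subgroup.normalizer (R : Set S) := by
  rw [sup_le_iff]
  refine ⟨Subgroup.le_normalizer, ?_⟩
  rw [Subgroup.zpowers_le]
  rw [Subgroup.mem_normalizer_iff]
  intro h
  refine ⟨fun hh => hb h hh, fun hh => ?_⟩
  have := conj_inv_mem R b hb _ hh
  have e : b⁻¹ * (b * h * b⁻¹) * b = h := by group
  rwa [e] at this

/-- (c') `[E,R]` is `R⟨b⟩`-invariant. -/
theorem commSub_inv_sup (ρ : Representation (ZMod 3) S E) (R : Subgroup S) [Finite R] (b : S)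
    (hb : ∀ r ∈ R, b * r * b⁻¹ ∈ R) :
    ∀ g ∈ R ⊔ Subgroup.zpowers b, ∀ w ∈ commSub ρ R, ρ g w ∈ commSub ρ R := by
  intro g hg
  have hn := sup_zpowers_le_normalizer R b hb hg
  rw [Subgroup.mem_normalizer_iff] at hn
  exact commSub_inv ρ R g (fun r hr => (hn r).mp hr)

/-- (c'') `C_E(R)` is `R⟨b⟩`-invariant. -/
theorem fixedSub_inv_sup (ρ : Representation (ZMod 3) S E) (R : Subgroup S) [Finite R] (b : S)
    (hb : ∀ r ∈ R, b * r * b⁻¹ ∈ R) :
    ∀ g ∈ R ⊔ Subgroup.zpowers b, ∀ w ∈ fixedSub ρ R, ρ g w ∈ fixedSub ρ R := by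
  intro g hg
  have hn := sup_zpowers_le_normalizer R b hb hg
  rw [Subgroup.mem_normalizer_iff] at hn
  exact fixedSub_inv ρ R g
    (conj_inv_mem R g (fun r hr => (hn r).mp hr))

/-- (g) `[E,R] = [[E,R],R]`: the commutator space is spanned by the `ρ r w - w` with `w ∈ [E,R]`. -/
theorem commSub_eq_span_commSub (ρ : Representation (ZMod 3) S E) (R : Subgroup S) [Finite R]
    (hR : (Nat.card R).Coprime 3) :
    commSub ρ R = Submodule.span (ZMod 3) {x | ∃ r ∈ R, ∃ v ∈ commSub ρ R, x = ρ r v - v} := by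
  apply le_antisymm
  · apply commSub_le
    intro r hr v
    obtain ⟨w, hw, c, hc, rfl⟩ := exists_decomp ρ R hR v
    have : ρ r (w + c) - (w + c) = ρ r w - w := by
      rw [map_add, hc r hr]
      abel
    rw [this]
    exact Submodule.subset_span ⟨r, hr, w, hw, rfl⟩
  · rw [Submodule.span_le]
    rintro x ⟨r, hr, v, _, rfl⟩
    exact sub_mem_commSub ρ R hr v

end Cfsg.Agent.Lib.H26.S4415F3
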