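import Cfsg.Agent.Lib.H10.S4415Defs
import Cfsg.Agent.Lib.H8.S4415F1
import Cfsg.Agent.Lib.H21.S4415F2
import Cfsg.Agent.Lib.H26.S4415F0
import Cfsg.Agent.Lib.H26.S4415F3

/-!
helper26: S4415 FRONT ASSEMBLY.  `front_of : F4Stmt → FaithStmt → IrredStmt → FrontStmt`, from the
landed pieces F0 (helper26), F1 (helper8), F2 (helper21), F3 (helper26) and hypotheses-as-inputs for
F4 (Q-eigenlines, helper29) and F5 (faithful / irreducible, helper1).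
-/

set_option autoImplicit false

namespace Cfsg.Agent.Lib.H26.S4415FA

open Cfsg.Agent.Lib.H10.S4415
open Cfsg.Agent.Lib.H26.S4415F3

/-- Shape of F4: the `Q`-eigenlines inside a `Q`-invariant submodule `W` on which `x₁` is nontrivial. -/
def F4Stmt : Prop :=
  ∀ {S : Type*} [Group S] {E : Type*} [AddCommGroup E] [Module (ZMod 3) E] [Finite E]
    (ρ : Representation (ZMod 3) S E) (b x₁ x₂ x₃ : S) (_hb3 : b ^ 3 = 1)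
    (_hx1 : x₁ * x₁ = 1) (_hx2 : x₂ * x₂ = 1) (_hx12 : x₁ * x₂ = x₃) (_hx21 : x₂ * x₁ = x₃)
    (_hbx1 : b * x₁ * b⁻¹ = x₂) (_hbx2 : b * x₂ * b⁻¹ = x₃) (_hbx3 : b * x₃ * b⁻¹ = x₁)
    (E₀ E₁ : Submodule (ZMod 3) E) (_hE01 : E₀ ⊓ E₁ = ⊥) (_hE01' : E₀ ⊔ E₁ = ⊤)
    (_hE1 : ∀ v ∈ E₁, ρ b v = v) (_hE0inv : ∀ v ∈ E₀, ρ b v ∈ E₀) (_hE0 : Nat.card ↥E₀ = 27)
    (_hind : ∃ v ∈ E₀, ρ b (ρ b v - v) - (ρ b v - v) ≠ 0)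
    (W : Submodule (ZMod 3) E) (_hW1 : ∀ w ∈ W, ρ x₁ w ∈ W) (_hW2 : ∀ w ∈ W, ρ x₂ w ∈ W)
    (_hW3 : ∀ w ∈ W, ρ x₃ w ∈ W) (_hW : ∃ w ∈ W, ρ x₁ w ≠ w),
    ∃ e₁ e₂ e₃ : E, e₁ ∈ W ∧ e₂ ∈ W ∧ e₃ ∈ W ∧ e₁ ≠ 0 ∧
      ρ b e₁ = e₂ ∧ ρ b e₂ = e₃ ∧ ρ b e₃ = e₁ ∧
      ρ x₁ e₁ = e₁ ∧ ρ x₁ e₂ = -e₂ ∧ ρ x₁ e₃ = -e₃ ∧
      ρ x₂ e₁ = -e₁ ∧ ρ x₂ e₂ = e₂ ∧ ρ x₂ e₃ = -e₃ ∧
      ρ x₃ e₁ = -e₁ ∧ ρ x₃ e₂ = -e₂ ∧ ρ x₃ e₃ = e₃ ∧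
      ∀ w ∈ W, ∃ w₀ ∈ W, ∃ c₁ c₂ c₃ : ZMod 3,
        w = w₀ + c₁ • e₁ + c₂ • e₂ + c₃ • e₃ ∧ ρ x₁ w₀ = w₀ ∧ ρ x₂ w₀ = w₀ ∧ ρ x₃ w₀ = w₀ ∧
          ρ b w₀ = w₀

/-- Shape of F5 (a): faithfulness of `R⟨b⟩` on `W`. -/
def FaithStmt : Prop :=
  ∀ {S : Type*} [Group S] {E : Type*} [AddCommGroup E] [Module (ZMod 3) E]
    (ρ : Representation (ZMod 3) S E) (R : Subgroup S) (b : S) (W C : Submodule (ZMod 3) E)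
    (x₁ x₂ x₃ : S) (e₁ e₂ e₃ : E)
    (_hinj : Function.Injective ρ) (_hb3 : b ^ 3 = 1) (_hbR : ∀ r ∈ R, b * r * b⁻¹ ∈ R)
    [Finite R] (_hRcop : (Nat.card R).Coprime 3) (_hWC : W ⊔ C = ⊤)
    (_hCfix : ∀ r ∈ R, ∀ v ∈ C, ρ r v = v) (_hQ : QData ρ R b W x₁ x₂ x₃ e₁ e₂ e₃),
    ∀ g ∈ RB R b, (∀ w ∈ W, ρ g w = w) → g = 1

/-- Shape of F5 (b): irreducibility of `R⟨b⟩` on `W`. -/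
def IrredStmt : Prop :=
  ∀ {S : Type*} [Group S] {E : Type*} [AddCommGroup E] [Module (ZMod 3) E]
    (ρ : Representation (ZMod 3) S E) (R : Subgroup S) (b : S) (W C : Submodule (ZMod 3) E)
    (x₁ x₂ x₃ : S) (e₁ e₂ e₃ : E)
    (_hbR : ∀ r ∈ R, b * r * b⁻¹ ∈ R) (_hWinv : InvBy ρ (RB R b) W)
    (_hgen : ∀ g ∈ RB R b, g ∈ Subgroup.closure {x : S | ∃ y ∈ RB R b, x = y * b * y⁻¹})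
    (_hWspan : W ≤ Submodule.span (ZMod 3) {x | ∃ r ∈ R, ∃ v : E, x = ρ r v - v})
    (_hWC : W ⊔ C = ⊤) (_hCfix : ∀ r ∈ R, ∀ v ∈ C, ρ r v = v)
    (_hfixW : ∀ w ∈ W, (∀ r ∈ R, ρ r w = w) → w = 0)
    (_hQ : QData ρ R b W x₁ x₂ x₃ e₁ e₂ e₃),
    ∀ N : Submodule (ZMod 3) E, N ≤ W → InvBy ρ (RB R b) N → N = ⊥ ∨ N = W

universe u v

theorem front_of (f4 : F4Stmt.{u, v}) (f5a : FaithStmt.{u, v}) (f5b : IrredStmt.{u, v}) :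
    FrontStmt.{u, v} := by
  intro S _ _ _ E _ _ _ ρ hfaith _hO3 B hB b hb E₀ E₁ hE01 hE01' hE1 hE0inv hE0 hind Q hQ hQ4 hBQ
    hBQ' P hBZ
  have hbord : orderOf b = 3 := Cfsg.Agent.Lib.H21.S4415F2.b_ord B hB b hb
  have hb3 : b ^ 3 = 1 := by
    rw [← hbord]
    exact pow_orderOf_eq_one b
  have hbn : ∀ r ∈ ⁅Cfsg.pPrimeCore 3 S, B⁆, b * r * b⁻¹ ∈ ⁅Cfsg.pPrimeCore 3 S, B⁆ :=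
    Cfsg.Agent.Lib.H21.S4415F2.b_norm B b hb
  have hRcop : (Nat.card ↥⁅Cfsg.pPrimeCore 3 S, B⁆).Coprime 3 :=
    Cfsg.Agent.Lib.H21.S4415F2.R_coprime B
  have hRcomm : ⁅⁅Cfsg.pPrimeCore 3 S, B⁆, Subgroup.zpowers b⁆ = ⁅Cfsg.pPrimeCore 3 S, B⁆ :=
    Cfsg.Agent.Lib.H21.S4415F2.R_comm B hB b hb
  have hQR : Q ≤ ⁅Cfsg.pPrimeCore 3 S, B⁆ :=
    Cfsg.Agent.Lib.H8.S4415F1.Q_le_R B hB Q hQ hQ4 hBQ hBQ' P hBZ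
  obtain ⟨x₁, x₂, x₃, hx1Q, hx2Q, hx3Q, hx1ne, hx1sq, hx2sq, hx3sq, hx12, hx21, hbx1, hbx2, hbx3⟩ :=
    Cfsg.Agent.Lib.H26.S4415F0.exists_x Q hQ hQ4 b hb3 (by rw [hb]; exact hBQ)
      (by rw [hb]; exact hBQ')
  have hx1R := hQR hx1Q
  have hx2R := hQR hx2Q
  have hx3R := hQR hx3Q
  have hWC1 := commSub_inf_fixedSub ρ ⁅Cfsg.pPrimeCore 3 S, B⁆ hRcop
  have hWC2 := commSub_sup_fixedSub ρ ⁅Cfsg.pPrimeCore 3 S, B⁆ hRcop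
  have hCfix : ∀ r ∈ ⁅Cfsg.pPrimeCore 3 S, B⁆,
      ∀ v ∈ fixedSub ρ ⁅Cfsg.pPrimeCore 3 S, B⁆, ρ r v = v := fun r hr v hv => hv r hr
  have hWinv : InvBy ρ (RB ⁅Cfsg.pPrimeCore 3 S, B⁆ b) (commSub ρ ⁅Cfsg.pPrimeCore 3 S, B⁆) :=
    commSub_inv_sup ρ _ b hbn
  have hRRB : ⁅Cfsg.pPrimeCore 3 S, B⁆ ≤ RB ⁅Cfsg.pPrimeCore 3 S, B⁆ b := le_sup_left
  -- `x₁` is nontrivial on `W`
  have hW : ∃ w ∈ commSub ρ ⁅Cfsg.pPrimeCore 3 S, B⁆, ρ x₁ w ≠ w := by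
    by_contra hcon
    push_neg at hcon
    apply hx1ne
    apply hfaith
    rw [map_one]
    apply LinearMap.ext
    intro v
    obtain ⟨w, hw, c, hc, rfl⟩ := exists_decomp ρ ⁅Cfsg.pPrimeCore 3 S, B⁆ hRcop v
    rw [map_add, hcon w hw, hCfix x₁ hx1R c hc]
    rfl
  obtain ⟨e₁, e₂, e₃, he1W, he2W, he3W, he1ne, hbe1, hbe2, hbe3, h11, h12, h13, h21, h22, h23,
      h31, h32, h33, hdec⟩ :=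
    f4 ρ b x₁ x₂ x₃ hb3 hx1sq hx2sq hx12 hx21 hbx1 hbx2 hbx3 E₀ E₁ hE01 hE01' hE1 hE0inv hE0 hind
      (commSub ρ ⁅Cfsg.pPrimeCore 3 S, B⁆)
      (hWinv x₁ (hRRB hx1R)) (hWinv x₂ (hRRB hx2R)) (hWinv x₃ (hRRB hx3R)) hW
  have hQD : QData ρ ⁅Cfsg.pPrimeCore 3 S, B⁆ b (commSub ρ ⁅Cfsg.pPrimeCore 3 S, B⁆)
      x₁ x₂ x₃ e₁ e₂ e₃ :=
    ⟨hx1R, hx2R, hx3R, hx1sq, hx2sq, hx3sq, hx12, hx21, hbx1, hbx2, hbx3, he1W, he2W, he3W, he1ne,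
      hbe1, hbe2, hbe3, h11, h12, h13, h21, h22, h23, h31, h32, h33, hdec⟩
  have hgen : ∀ g ∈ RB ⁅Cfsg.pPrimeCore 3 S, B⁆ b,
      g ∈ Subgroup.closure {x : S | ∃ y ∈ RB ⁅Cfsg.pPrimeCore 3 S, B⁆ b, x = y * b * y⁻¹} := by
    have h := Cfsg.Agent.Lib.H8.S4415F1.RB_le_closure_conj B hB b hb
    have hRB : RB ⁅Cfsg.pPrimeCore 3 S, B⁆ b = ⁅Cfsg.pPrimeCore 3 S, B⁆ ⊔ B := by
      unfold RB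
      rw [hb]
    rw [hRB]
    exact fun g hg => h hg
  have hfa := f5a ρ ⁅Cfsg.pPrimeCore 3 S, B⁆ b (commSub ρ ⁅Cfsg.pPrimeCore 3 S, B⁆)
    (fixedSub ρ ⁅Cfsg.pPrimeCore 3 S, B⁆) x₁ x₂ x₃ e₁ e₂ e₃ hfaith hb3 hbn hRcop hWC2 hCfix hQD
  have hir := f5b ρ ⁅Cfsg.pPrimeCore 3 S, B⁆ b (commSub ρ ⁅Cfsg.pPrimeCore 3 S, B⁆)
    (fixedSub ρ ⁅Cfsg.pPrimeCore 3 S, B⁆) x₁ x₂ x₃ e₁ e₂ e₃ hbn hWinv hgen (le_refl _) hWC2 hCfix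
    (fun w hw hfix => eq_zero_of_mem_commSub_of_fixed ρ _ hRcop hw hfix) hQD
  exact ⟨commSub ρ ⁅Cfsg.pPrimeCore 3 S, B⁆, fixedSub ρ ⁅Cfsg.pPrimeCore 3 S, B⁆,
    x₁, x₂, x₃, e₁, e₂, e₃, hWC1, hWC2, hCfix,
    ⟨hbord, hbn, hRcop, hRcomm, Cfsg.Agent.Lib.H21.S4415F2.R_solv B, hWinv, hfa, hir⟩, hQD⟩

end Cfsg.Agent.Lib.H26.S4415FA
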