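import Cfsg.Agent.Lib.H26.S4415FA
import Cfsg.Agent.Lib.H29.S4415F4

/-!
helper26: S4415 FRONT ASSEMBLY, second file.  `f4_in` = helper29's `front4` relativised to a
`Q⟨b⟩`-invariant submodule `W`; `front_of2 : FaithStmt → IrredStmt → FrontStmt`
(supersedes `S4415FA.front_of`, whose `F4Stmt` lacks the `b`-invariance of `W`).
-/

set_option autoImplicit false

namespace Cfsg.Agent.Lib.H26.S4415FB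

open Cfsg.Agent.Lib.H10.S4415
open Cfsg.Agent.Lib.H26.S4415F3
open Cfsg.Agent.Lib.H26.S4415FA

/-- F4 inside a `⟨x₁,x₂,x₃,b⟩`-invariant submodule `W` on which `x₁` is nontrivial. -/
theorem f4_in {S : Type*} [Group S] {E : Type*} [AddCommGroup E] [Module (ZMod 3) E] [Finite E]
    (ρ : Representation (ZMod 3) S E) (b x₁ x₂ x₃ : S) (hb3 : b ^ 3 = 1)
    (hx1 : x₁ * x₁ = 1) (hx2 : x₂ * x₂ = 1) (hx12 : x₁ * x₂ = x₃) (hx21 : x₂ * x₁ = x₃)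
    (hbx1 : b * x₁ * b⁻¹ = x₂) (hbx2 : b * x₂ * b⁻¹ = x₃) (hbx3 : b * x₃ * b⁻¹ = x₁)
    (E₀ E₁ : Submodule (ZMod 3) E) (hE01 : E₀ ⊓ E₁ = ⊥) (hE01' : E₀ ⊔ E₁ = ⊤)
    (hE1 : ∀ v ∈ E₁, ρ b v = v) (hE0inv : ∀ v ∈ E₀, ρ b v ∈ E₀) (hE0 : Nat.card ↥E₀ = 27)
    (hind : ∃ v ∈ E₀, ρ b (ρ b v - v) - (ρ b v - v) ≠ 0)
    (W : Submodule (ZMod 3) E) (hW1 : ∀ w ∈ W, ρ x₁ w ∈ W) (hW2 : ∀ w ∈ W, ρ x₂ w ∈ W)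
    (hW3 : ∀ w ∈ W, ρ x₃ w ∈ W) (hWb : ∀ w ∈ W, ρ b w ∈ W) (hW : ∃ w ∈ W, ρ x₁ w ≠ w) :
    ∃ e₁ e₂ e₃ : E, e₁ ∈ W ∧ e₂ ∈ W ∧ e₃ ∈ W ∧ e₁ ≠ 0 ∧
      ρ b e₁ = e₂ ∧ ρ b e₂ = e₃ ∧ ρ b e₃ = e₁ ∧
      ρ x₁ e₁ = e₁ ∧ ρ x₁ e₂ = -e₂ ∧ ρ x₁ e₃ = -e₃ ∧
      ρ x₂ e₁ = -e₁ ∧ ρ x₂ e₂ = e₂ ∧ ρ x₂ e₃ = -e₃ ∧
      ρ x₃ e₁ = -e₁ ∧ ρ x₃ e₂ = -e₂ ∧ ρ x₃ e₃ = e₃ ∧
      ∀ w ∈ W, ∃ w₀ ∈ W, ∃ c₁ c₂ c₃ : ZMod 3,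
        w = w₀ + c₁ • e₁ + c₂ • e₂ + c₃ • e₃ ∧ ρ x₁ w₀ = w₀ ∧ ρ x₂ w₀ = w₀ ∧ ρ x₃ w₀ = w₀ ∧
          ρ b w₀ = w₀ := by
  obtain ⟨w, hw, hwne⟩ := hW
  obtain ⟨e₁, e₂, e₃, hne, hb1, hb2, hb3', s11, s12, s13, s21, s22, s23, s31, s32, s33, hdec,
      hfix, _⟩ :=
    Cfsg.Agent.Lib.H29.S4415F4.front4 ρ b x₁ x₂ x₃ hb3 hx1 hx2 hx12 hx21 hbx1 hbx2 hbx3
      ⟨w, hwne⟩ E₀ E₁ hE01 hE01' hE1 hE0inv hE0 hind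
  have hP0W : ∀ v ∈ W, v + ρ x₁ v + ρ x₂ v + ρ x₃ v ∈ W := fun v hv =>
    W.add_mem (W.add_mem (W.add_mem hv (hW1 v hv)) (hW2 v hv)) (hW3 v hv)
  -- the `e_i` lie in `W`
  have hmem : e₁ ∈ W ∧ e₂ ∈ W ∧ e₃ ∈ W := by
    obtain ⟨c₁, c₂, c₃, hwd⟩ := hdec w
    obtain ⟨f1, f2, f3, _⟩ := hfix w
    obtain ⟨w₀, hw₀⟩ : ∃ w₀ : E, w₀ = w + ρ x₁ w + ρ x₂ w + ρ x₃ w := ⟨_, rfl⟩
    rw [← hw₀] at hwd f1 f2 f3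
    have hx1w : ρ x₁ w = w₀ + c₁ • e₁ - c₂ • e₂ - c₃ • e₃ := by
      conv_lhs => rw [hwd]
      rw [map_add, map_add, map_add, map_smul, map_smul, map_smul, f1, s11, s12, s13]
      module
    have hx2w : ρ x₂ w = w₀ - c₁ • e₁ + c₂ • e₂ - c₃ • e₃ := by
      conv_lhs => rw [hwd]
      rw [map_add, map_add, map_add, map_smul, map_smul, map_smul, f2, s21, s22, s23]
      module
    have hx3w : ρ x₃ w = w₀ - c₁ • e₁ - c₂ • e₂ + c₃ • e₃ := by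
      conv_lhs => rw [hwd]
      rw [map_add, map_add, map_add, map_smul, map_smul, map_smul, f3, s31, s32, s33]
      module
    have hp2 : c₂ • e₂ ∈ W := by
      have : c₂ • e₂ = w - ρ x₁ w + ρ x₂ w - ρ x₃ w := by
        rw [hx1w, hx2w, hx3w]
        conv_rhs => rw [hwd]
        linear_combination (norm := module)
          -(Cfsg.Agent.Lib.H29.S4415F4.three_nsmul_zero (c₂ • e₂))
      rw [this]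
      exact W.sub_mem (W.add_mem (W.sub_mem hw (hW1 w hw)) (hW2 w hw)) (hW3 w hw)
    have hp3 : c₃ • e₃ ∈ W := by
      have : c₃ • e₃ = w - ρ x₁ w - ρ x₂ w + ρ x₃ w := by
        rw [hx1w, hx2w, hx3w]
        conv_rhs => rw [hwd]
        linear_combination (norm := module)
          -(Cfsg.Agent.Lib.H29.S4415F4.three_nsmul_zero (c₃ • e₃))
      rw [this]
      exact W.add_mem (W.sub_mem (W.sub_mem hw (hW1 w hw)) (hW2 w hw)) (hW3 w hw)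
    have hc : c₂ ≠ 0 ∨ c₃ ≠ 0 := by
      by_contra hcon
      push_neg at hcon
      apply hwne
      rw [hx1w]
      conv_rhs => rw [hwd]
      rw [hcon.1, hcon.2]
      module
    rcases hc with hc | hc
    · have he2 : e₂ ∈ W := by
        have : e₂ = c₂⁻¹ • (c₂ • e₂) := by
          rw [smul_smul, inv_mul_cancel₀ hc, one_smul]
        rw [this]
        exact W.smul_mem _ hp2
      have he3 : e₃ ∈ W := hb2 ▸ hWb e₂ he2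
      have he1 : e₁ ∈ W := hb3' ▸ hWb e₃ he3
      exact ⟨he1, he2, he3⟩
    · have he3 : e₃ ∈ W := by
        have : e₃ = c₃⁻¹ • (c₃ • e₃) := by
          rw [smul_smul, inv_mul_cancel₀ hc, one_smul]
        rw [this]
        exact W.smul_mem _ hp3
      have he1 : e₁ ∈ W := hb3' ▸ hWb e₃ he3
      have he2 : e₂ ∈ W := hb1 ▸ hWb e₁ he1
      exact ⟨he1, he2, he3⟩
  refine ⟨e₁, e₂, e₃, hmem.1, hmem.2.1, hmem.2.2, hne, hb1, hb2, hb3', s11, s12, s13, s21, s22,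
    s23, s31, s32, s33, ?_⟩
  intro v hv
  obtain ⟨c₁, c₂, c₃, hvd⟩ := hdec v
  obtain ⟨f1, f2, f3, fb⟩ := hfix v
  exact ⟨_, hP0W v hv, c₁, c₂, c₃, hvd, f1, f2, f3, fb⟩

universe u v

/-- FRONT from F5 (faithful / irreducible) alone. -/
theorem front_of2 (f5a : FaithStmt.{u, v}) (f5b : IrredStmt.{u, v}) : FrontStmt.{u, v} := by
  intro S _ _ _ E _ _ _ ρ hfaith _hO3 B hB b hb E₀ E₁ hE01 hE01' hE1 hE0inv hE0 hind Q hQ hQ4 hBQ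
    hBQ' P hBZ
  have hbord : orderOf b = 3 := Cfsg.Agent.Lib.H21.S4415F2.b_ord B hB b hb
  have hb3 : b ^ 3 = 1 := by
    rw [← hbord]
    exact pow_orderOf_eq_one b
  have hbn : ∀ r ∈ ⁅Cfsg.pPrimeCore 3 S, B⁆, b * r * b⁻¹ ∈ ⁅Cfsg.pPrimeCore 3 S, B⁆ :=
    Cfsg.Agent.Lib.H21.S4415F2.b_norm B b hb
  have hRcop : (Nat.card ↥⁅Cfsg.pPrimeCore 3 S, B⁆).Coprime 3 :=
    Cfsg.Agent.Lib.H21.S4415F2.R_coprime B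
  have hRcomm : ⁅⁅Cfsg.pPrimeCore 3 S, B⁆, Subgroup.zpowers b⁆ = ⁅Cfsg.pPrimeCore 3 S, B⁆ :=
    Cfsg.Agent.Lib.H21.S4415F2.R_comm B hB b hb
  have hQR : Q ≤ ⁅Cfsg.pPrimeCore 3 S, B⁆ :=
    Cfsg.Agent.Lib.H8.S4415F1.Q_le_R B hB Q hQ hQ4 hBQ hBQ' P hBZ
  obtain ⟨x₁, x₂, x₃, hx1Q, hx2Q, hx3Q, hx1ne, hx1sq, hx2sq, hx3sq, hx12, hx21, hbx1, hbx2, hbx3⟩ :=
    Cfsg.Agent.Lib.H26.S4415F0.exists_x Q hQ hQ4 b hb3 (by rw [hb]; exact hBQ)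
      (by rw [hb]; exact hBQ')
  have hx1R := hQR hx1Q
  have hx2R := hQR hx2Q
  have hx3R := hQR hx3Q
  have hWC1 := commSub_inf_fixedSub ρ ⁅Cfsg.pPrimeCore 3 S, B⁆ hRcop
  have hWC2 := commSub_sup_fixedSub ρ ⁅Cfsg.pPrimeCore 3 S, B⁆ hRcop
  have hCfix : ∀ r ∈ ⁅Cfsg.pPrimeCore 3 S, B⁆,
      ∀ v ∈ fixedSub ρ ⁅Cfsg.pPrimeCore 3 S, B⁆, ρ r v = v := fun r hr v hv => hv r hr
  have hWinv : InvBy ρ (RB ⁅Cfsg.pPrimeCore 3 S, B⁆ b) (commSub ρ ⁅Cfsg.pPrimeCore 3 S, B⁆) :=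
    commSub_inv_sup ρ _ b hbn
  have hRRB : ⁅Cfsg.pPrimeCore 3 S, B⁆ ≤ RB ⁅Cfsg.pPrimeCore 3 S, B⁆ b := le_sup_left
  have hbRB : b ∈ RB ⁅Cfsg.pPrimeCore 3 S, B⁆ b :=
    Subgroup.mem_sup_right (Subgroup.mem_zpowers b)
  have hW : ∃ w ∈ commSub ρ ⁅Cfsg.pPrimeCore 3 S, B⁆, ρ x₁ w ≠ w := by
    by_contra hcon
    push_neg at hcon
    apply hx1ne
    apply hfaith
    rw [map_one]
    apply LinearMap.ext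
    intro v
    obtain ⟨w, hw, c, hc, rfl⟩ := exists_decomp ρ ⁅Cfsg.pPrimeCore 3 S, B⁆ hRcop v
    rw [map_add, hcon w hw, hCfix x₁ hx1R c hc]
    rfl
  obtain ⟨e₁, e₂, e₃, he1W, he2W, he3W, he1ne, hbe1, hbe2, hbe3, h11, h12, h13, h21, h22, h23,
      h31, h32, h33, hdec⟩ :=
    f4_in ρ b x₁ x₂ x₃ hb3 hx1sq hx2sq hx12 hx21 hbx1 hbx2 hbx3 E₀ E₁ hE01 hE01' hE1 hE0inv hE0
      hind (commSub ρ ⁅Cfsg.pPrimeCore 3 S, B⁆)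
      (hWinv x₁ (hRRB hx1R)) (hWinv x₂ (hRRB hx2R)) (hWinv x₃ (hRRB hx3R)) (hWinv b hbRB) hW
  have hQD : QData ρ ⁅Cfsg.pPrimeCore 3 S, B⁆ b (commSub ρ ⁅Cfsg.pPrimeCore 3 S, B⁆)
      x₁ x₂ x₃ e₁ e₂ e₃ :=
    ⟨hx1R, hx2R, hx3R, hx1sq, hx2sq, hx3sq, hx12, hx21, hbx1, hbx2, hbx3, he1W, he2W, he3W, he1ne,
      hbe1, hbe2, hbe3, h11, h12, h13, h21, h22, h23, h31, h32, h33, hdec⟩
  have hgen : ∀ g ∈ RB ⁅Cfsg.pPrimeCore 3 S, B⁆ b,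
      g ∈ Subgroup.closure {x : S | ∃ y ∈ RB ⁅Cfsg.pPrimeCore 3 S, B⁆ b, x = y * b * y⁻¹} := by
    have h := Cfsg.Agent.Lib.H8.S4415F1.RB_le_closure_conj B hB b hb
    have hRB : RB ⁅Cfsg.pPrimeCore 3 S, B⁆ b = ⁅Cfsg.pPrimeCore 3 S, B⁆ ⊔ B := by
      unfold RB
      rw [hb]
    rw [hRB]
    exact fun g hg => h hg
  have hfa := f5a ρ ⁅Cfsg.pPrimeCore 3 S, B⁆ b (commSub ρ ⁅Cfsg.pPrimeCore 3 S, B⁆)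
    (fixedSub ρ ⁅Cfsg.pPrimeCore 3 S, B⁆) x₁ x₂ x₃ e₁ e₂ e₃ hfaith hb3 hbn hRcop hWC2 hCfix hQD
  have hir := f5b ρ ⁅Cfsg.pPrimeCore 3 S, B⁆ b (commSub ρ ⁅Cfsg.pPrimeCore 3 S, B⁆)
    (fixedSub ρ ⁅Cfsg.pPrimeCore 3 S, B⁆) x₁ x₂ x₃ e₁ e₂ e₃ hbn hWinv hgen (le_refl _) hWC2 hCfix
    (fun w hw hfix => eq_zero_of_mem_commSub_of_fixed ρ _ hRcop hw hfix) hQD
  exact ⟨commSub ρ ⁅Cfsg.pPrimeCore 3 S, B⁆, fixedSub ρ ⁅Cfsg.pPrimeCore 3 S, B⁆,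
    x₁, x₂, x₃, e₁, e₂, e₃, hWC1, hWC2, hCfix,
    ⟨hbord, hbn, hRcop, hRcomm, Cfsg.Agent.Lib.H21.S4415F2.R_solv B, hWinv, hfa, hir⟩, hQD⟩

end Cfsg.Agent.Lib.H26.S4415FB
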