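import Cfsg.Agent.Lib.H24.S4415GD

/-!
helper26: S4415 GOOD block, twin of `ThreeStmt` (G4, `n = 3`), with a generic (any `n`) sign-cocycle
toolkit `sg`, `prodSg` for a `MonoFrame`.
-/

set_option autoImplicit false

namespace Cfsg.Agent.Lib.H26.S4415G4

open Cfsg.Agent.Lib.H10.S4415
open Cfsg.Agent.Lib.H24.S4415G
open scoped commutatorElement

variable {S E : Type*} [Group S] [AddCommGroup E] [Module (ZMod 3) E]
variable {ρ : Representation (ZMod 3) S E} {R : Subgroup S} {b : S} {W : Submodule (ZMod 3) E}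
  {n : ℕ} {f : Fin n → E} {φ : ↥(RB R b) → Equiv.Perm (Fin n)}

theorem rho_mul_apply (ρ : Representation (ZMod 3) S E) (g h : S) (v : E) :
    ρ (g * h) v = ρ g (ρ h v) := by
  rw [map_mul]; rfl

theorem rho_inv_apply (ρ : Representation (ZMod 3) S E) (g : S) (v : E) :
    ρ g⁻¹ (ρ g v) = v := by
  rw [← rho_mul_apply, inv_mul_cancel, map_one]; rfl

/-- The sign of `g` at the index `i`. -/
noncomputable def sg (ρ : Representation (ZMod 3) S E) (f : Fin n → E)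
    (φ : ↥(RB R b) → Equiv.Perm (Fin n)) (g : ↥(RB R b)) (i : Fin n) : ZMod 3 :=
  open Classical in if ρ (g : S) (f i) = f (φ g i) then 1 else -1

theorem sg_cases (g : ↥(RB R b)) (i : Fin n) : sg ρ f φ g i = 1 ∨ sg ρ f φ g i = -1 := by
  unfold sg
  split_ifs
  · exact Or.inl rfl
  · exact Or.inr rfl

theorem sg_mul_self (g : ↥(RB R b)) (i : Fin n) : sg ρ f φ g i * sg ρ f φ g i = 1 := by
  rcases sg_cases (ρ := ρ) (f := f) (φ := φ) g i with h | h <;> rw [h] <;> decide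

theorem sg_spec (hM : MonoFrame ρ R b W f φ) (g : ↥(RB R b)) (i : Fin n) :
    ρ (g : S) (f i) = sg ρ f φ g i • f (φ g i) := by
  unfold sg
  split_ifs with h
  · rw [one_smul]; exact h
  · rcases hM.mono g i with h' | h'
    · exact absurd h' h
    · rw [neg_smul, one_smul]; exact h'

/-- uniqueness of the index and the sign -/
theorem sg_unique (hM : MonoFrame ρ R b W f φ) (g : ↥(RB R b)) (i j : Fin n) (c : ZMod 3)
    (hc : c = 1 ∨ c = -1) (h : ρ (g : S) (f i) = c • f j) : j = φ g i ∧ c = sg ρ f φ g i := by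
  have h1 := sg_spec hM g i
  rw [h] at h1
  have hj : j = φ g i := by
    apply idx_eq_of_pm hM
    rcases hc with hc | hc <;> rcases sg_cases (ρ := ρ) (f := f) (φ := φ) g i with hs | hs <;>
      rw [hc, hs] at h1 <;> simp only [one_smul, neg_smul] at h1
    · exact Or.inl h1
    · exact Or.inr h1
    · exact Or.inr (by rw [← h1, neg_neg])
    · exact Or.inl (neg_injective h1)
  refine ⟨hj, ?_⟩
  subst hj
  have h2 : (c - sg ρ f φ g i) • f (φ g i) = 0 := by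
    rw [sub_smul, h1, sub_self]
  rcases smul_eq_zero.mp h2 with h3 | h3
  · exact sub_eq_zero.mp h3
  · exact absurd h3 (f_ne_zero hM _)

theorem sg_mul (hM : MonoFrame ρ R b W f φ) (g h : ↥(RB R b)) (i : Fin n) :
    sg ρ f φ (g * h) i = sg ρ f φ h i * sg ρ f φ g (φ h i) := by
  have h1 : ρ ((g * h : ↥(RB R b)) : S) (f i) =
      (sg ρ f φ h i * sg ρ f φ g (φ h i)) • f (φ g (φ h i)) := by
    rw [Subgroup.coe_mul, rho_mul_apply, sg_spec hM h i, map_smul, sg_spec hM g (φ h i), smul_smul]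
  have hc : sg ρ f φ h i * sg ρ f φ g (φ h i) = 1 ∨ sg ρ f φ h i * sg ρ f φ g (φ h i) = -1 := by
    rcases sg_cases (ρ := ρ) (f := f) (φ := φ) h i with a | a <;>
      rcases sg_cases (ρ := ρ) (f := f) (φ := φ) g (φ h i) with c | c <;> rw [a, c] <;> decide
  exact ((sg_unique hM (g * h) i _ _ hc h1).2).symm

/-- The product of the signs. -/
noncomputable def prodSg (ρ : Representation (ZMod 3) S E) (f : Fin n → E)
    (φ : ↥(RB R b) → Equiv.Perm (Fin n)) (g : ↥(RB R b)) : ZMod 3 := ∏ i, sg ρ f φ g i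

theorem prodSg_mul (hM : MonoFrame ρ R b W f φ) (g h : ↥(RB R b)) :
    prodSg ρ f φ (g * h) = prodSg ρ f φ h * prodSg ρ f φ g := by
  unfold prodSg
  simp_rw [sg_mul hM g h]
  rw [Finset.prod_mul_distrib]
  congr 1
  exact Equiv.prod_comp (φ h) (fun j => sg ρ f φ g j)

theorem sg_one (hM : MonoFrame ρ R b W f φ) (i : Fin n) : sg ρ f φ 1 i = 1 := by
  have h1 : ρ ((1 : ↥(RB R b)) : S) (f i) = (1 : ZMod 3) • f i := by
    rw [Subgroup.coe_one, map_one, one_smul]; rfl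
  exact ((sg_unique hM 1 i i 1 (Or.inl rfl) h1).2).symm

theorem prodSg_one (hM : MonoFrame ρ R b W f φ) : prodSg ρ f φ 1 = 1 := by
  unfold prodSg
  simp_rw [sg_one hM]
  exact Finset.prod_const_one

theorem prodSg_inv_mul (hM : MonoFrame ρ R b W f φ) (g : ↥(RB R b)) :
    prodSg ρ f φ g * prodSg ρ f φ g⁻¹ = 1 := by
  rw [← prodSg_mul hM, inv_mul_cancel, prodSg_one hM]

/-- The elements of `R<b>` with product of signs `1`, as a subgroup of `S`. -/
noncomputable def kerSg (hM : MonoFrame ρ R b W f φ) : Subgroup S where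
  carrier := {g | ∃ hg : g ∈ RB R b, prodSg ρ f φ ⟨g, hg⟩ = 1}
  mul_mem' := by
    rintro x y ⟨hx, hx1⟩ ⟨hy, hy1⟩
    refine ⟨(RB R b).mul_mem hx hy, ?_⟩
    have : (⟨x * y, (RB R b).mul_mem hx hy⟩ : ↥(RB R b)) = ⟨x, hx⟩ * ⟨y, hy⟩ := rfl
    rw [this, prodSg_mul hM, hx1, hy1, one_mul]
  one_mem' := ⟨(RB R b).one_mem, prodSg_one hM⟩
  inv_mem' := by
    rintro x ⟨hx, hx1⟩
    refine ⟨(RB R b).inv_mem hx, ?_⟩
    have : (⟨x⁻¹, (RB R b).inv_mem hx⟩ : ↥(RB R b)) = (⟨x, hx⟩ : ↥(RB R b))⁻¹ := rfl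
    rw [this]
    have h := prodSg_inv_mul hM ⟨x, hx⟩
    rw [hx1, one_mul] at h
    exact h

/-- `prodSg = 1` on `R = [R, b]`. -/
theorem prodSg_R (hL : LinCtx ρ R b W) (hM : MonoFrame ρ R b W f φ) (r : ↥(RB R b))
    (hr : (r : S) ∈ R) : prodSg ρ f φ r = 1 := by
  have hle : ⁅R, Subgroup.zpowers b⁆ ≤ kerSg hM := by
    rw [Subgroup.commutator_le]
    intro x hx c hc
    have hxRB : x ∈ RB R b := R_le_RB R b hx
    have hcRB : c ∈ RB R b := (le_sup_right : Subgroup.zpowers b ≤ R ⊔ Subgroup.zpowers b) hc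
    have hmem : ⁅x, c⁆ ∈ RB R b := by
      rw [commutatorElement_def]
      exact (RB R b).mul_mem ((RB R b).mul_mem ((RB R b).mul_mem hxRB hcRB)
        ((RB R b).inv_mem hxRB)) ((RB R b).inv_mem hcRB)
    refine ⟨hmem, ?_⟩
    have : (⟨⁅x, c⁆, hmem⟩ : ↥(RB R b)) =
        (⟨x, hxRB⟩ : ↥(RB R b)) * ⟨c, hcRB⟩ * (⟨x, hxRB⟩ : ↥(RB R b))⁻¹ * (⟨c, hcRB⟩ : ↥(RB R b))⁻¹ := by
      apply Subtype.ext
      simp [commutatorElement_def]
    rw [this, prodSg_mul hM, prodSg_mul hM, prodSg_mul hM]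
    have h1 := prodSg_inv_mul hM ⟨x, hxRB⟩
    have h2 := prodSg_inv_mul hM ⟨c, hcRB⟩
    calc prodSg ρ f φ (⟨c, hcRB⟩ : ↥(RB R b))⁻¹ * (prodSg ρ f φ (⟨x, hxRB⟩ : ↥(RB R b))⁻¹ *
          (prodSg ρ f φ ⟨c, hcRB⟩ * prodSg ρ f φ ⟨x, hxRB⟩))
        = (prodSg ρ f φ ⟨x, hxRB⟩ * prodSg ρ f φ (⟨x, hxRB⟩ : ↥(RB R b))⁻¹) *
          (prodSg ρ f φ ⟨c, hcRB⟩ * prodSg ρ f φ (⟨c, hcRB⟩ : ↥(RB R b))⁻¹) := by ring
      _ = 1 := by rw [h1, h2, one_mul]
  rw [hL.R_comm] at hle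
  obtain ⟨hg, h1⟩ := hle hr
  exact h1

/-- An element of `S` fixing every `f i` is trivial on `W`. -/
theorem triv_of_fix (hM : MonoFrame ρ R b W f φ) (g : S) (h : ∀ i, ρ g (f i) = f i) :
    ∀ w ∈ W, ρ g w = w := by
  have key : ∀ w ∈ Submodule.span (ZMod 3) (Set.range f), ρ g w = w := by
    intro w hs
    induction hs using Submodule.span_induction with
    | mem x hx =>
      obtain ⟨i, rfl⟩ := hx
      exact h i
    | zero => rw [map_zero]
    | add x y _ _ hx hy => rw [map_add, hx, hy]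
    | smul c x _ hx => rw [map_smul, hx]
  exact fun w hw => key w (hM.span w hw)

/-- Two elements of `R<b>` with the same action on the frame are equal. -/
theorem eq_of_act (hL : LinCtx ρ R b W) (hM : MonoFrame ρ R b W f φ) (g h : S) (hg : g ∈ RB R b)
    (hh : h ∈ RB R b) (hact : ∀ i, ρ g (f i) = ρ h (f i)) : g = h := by
  have h1 : h⁻¹ * g = 1 := by
    apply hL.faithful _ ((RB R b).mul_mem ((RB R b).inv_mem hh) hg)
    apply triv_of_fix hM
    intro i
    rw [rho_mul_apply, hact i, rho_inv_apply]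
  calc g = h * (h⁻¹ * g) := by group
    _ = h := by rw [h1, mul_one]

/-! ### `n = 3` -/

set_option maxRecDepth 100000 in
set_option synthInstance.maxSize 2000 in
theorem s3_key : ∀ c σ : Equiv.Perm (Fin 3), c ^ 3 = 1 → c ≠ 1 → σ ^ 2 = 1 →
    (c * σ * c⁻¹ * σ⁻¹) ^ 2 = 1 → σ = 1 := by decide +kernel

set_option maxRecDepth 100000 in
theorem s3_pow_six : ∀ σ : Equiv.Perm (Fin 3), σ ^ 6 = 1 := by decide +kernel

/-- the image under `φ` of an element of `R` has square one (`n = 3`) -/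
theorem phi_sq_three [Finite S] {f : Fin 3 → E} {φ : ↥(RB R b) → Equiv.Perm (Fin 3)}
    (hL : LinCtx ρ R b W) (hM : MonoFrame ρ R b W f φ) (r : ↥(RB R b)) (hr : (r : S) ∈ R) :
    (φ r) ^ 2 = 1 := by
  have h1 : orderOf (phiHom hM r) ∣ orderOf r := orderOf_map_dvd _ r
  have h2 : orderOf r ∣ Nat.card ↥R := by
    have : orderOf r = orderOf (⟨(r : S), hr⟩ : ↥R) := by
      rw [← Subgroup.orderOf_coe r, ← Subgroup.orderOf_coe (⟨(r : S), hr⟩ : ↥R)]
    rw [this]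
    exact orderOf_dvd_natCard _
  have h3 : (orderOf (phiHom hM r)).Coprime 3 :=
    Nat.Coprime.coprime_dvd_left (h1.trans h2) hL.R_coprime
  have h4 : orderOf (phiHom hM r) ∣ 2 * 3 := by
    rw [orderOf_dvd_iff_pow_eq_one]
    exact s3_pow_six _
  have h5 : orderOf (phiHom hM r) ∣ 2 := h3.dvd_of_dvd_mul_right h4
  have := orderOf_dvd_iff_pow_eq_one.mp h5
  simpa using this

/-- `R` acts diagonally on the frame (`n = 3`). -/
theorem phi_R_three [Finite S] {f : Fin 3 → E} {φ : ↥(RB R b) → Equiv.Perm (Fin 3)}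
    (hL : LinCtx ρ R b W) (hM : MonoFrame ρ R b W f φ) (r : ↥(RB R b)) (hr : (r : S) ∈ R) :
    φ r = 1 := by
  have hc3 : (φ (bRB R b)) ^ 3 = 1 := by
    have h3 := pow_orderOf_eq_one (φ (bRB R b))
    rwa [hM.three.orderOf] at h3
  have hc1 : φ (bRB R b) ≠ 1 := by
    intro h
    have := hM.three.orderOf
    rw [h, orderOf_one] at this
    exact absurd this (by norm_num)
  have hs2 := phi_sq_three hL hM r hr
  have hcomm : ((bRB R b) * r * (bRB R b)⁻¹ * r⁻¹ : ↥(RB R b)).1 ∈ R := by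
    have h1 : b * (r : S) * b⁻¹ ∈ R := hL.b_norm _ hr
    have : ((bRB R b) * r * (bRB R b)⁻¹ * r⁻¹ : ↥(RB R b)).1 = b * (r : S) * b⁻¹ * (r : S)⁻¹ := rfl
    rw [this]
    exact R.mul_mem h1 (R.inv_mem hr)
  have hs3 := phi_sq_three hL hM _ hcomm
  rw [phi_mul hM, phi_mul hM, phi_mul hM] at hs3
  have hi1 : φ (bRB R b)⁻¹ = (φ (bRB R b))⁻¹ := map_inv (phiHom hM) _
  have hi2 : φ r⁻¹ = (φ r)⁻¹ := map_inv (phiHom hM) _
  rw [hi1, hi2] at hs3
  exact s3_key _ _ hc3 hc1 hs2 hs3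

theorem three_stmt_aux [Finite S] {f : Fin 3 → E} {φ : ↥(RB R b) → Equiv.Perm (Fin 3)}
    {x₁ x₂ x₃ : S} {e₁ e₂ e₃ : E}
    (hL : LinCtx ρ R b W) (hQ : QData ρ R b W x₁ x₂ x₃ e₁ e₂ e₃) (hM : MonoFrame ρ R b W f φ) :
    Cfsg.IsElementaryAbelian 2 R ∧ Nat.card ↥R = 4 := by
  -- diagonal action
  have hdiag : ∀ (r : S) (hr : r ∈ R) (i : Fin 3),
      ρ r (f i) = sg ρ f φ ⟨r, R_le_RB R b hr⟩ i • f i := by
    intro r hr i
    have h1 := sg_spec hM ⟨r, R_le_RB R b hr⟩ i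
    rw [phi_R_three hL hM ⟨r, R_le_RB R b hr⟩ hr] at h1
    exact h1
  have hprod : ∀ (r : S) (hr : r ∈ R),
      sg ρ f φ ⟨r, R_le_RB R b hr⟩ 0 * sg ρ f φ ⟨r, R_le_RB R b hr⟩ 1 *
        sg ρ f φ ⟨r, R_le_RB R b hr⟩ 2 = 1 := by
    intro r hr
    have := prodSg_R hL hM ⟨r, R_le_RB R b hr⟩ hr
    unfold prodSg at this
    rw [Fin.prod_univ_three] at this
    exact this
  -- squares
  have hsq : ∀ r ∈ R, r * r = 1 := by
    intro r hr
    apply eq_of_act hL hM _ _ ((RB R b).mul_mem (R_le_RB R b hr) (R_le_RB R b hr)) (RB R b).one_mem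
    intro i
    rw [rho_mul_apply, hdiag r hr i, map_smul, hdiag r hr i, smul_smul, sg_mul_self, one_smul,
      map_one]
    rfl
  have hcomm : ∀ r ∈ R, ∀ r' ∈ R, r * r' = r' * r := by
    intro r hr r' hr'
    apply eq_of_act hL hM _ _ ((RB R b).mul_mem (R_le_RB R b hr) (R_le_RB R b hr'))
      ((RB R b).mul_mem (R_le_RB R b hr') (R_le_RB R b hr))
    intro i
    rw [rho_mul_apply, rho_mul_apply, hdiag r' hr' i, map_smul, hdiag r hr i, map_smul,
      hdiag r' hr' i, smul_smul, smul_smul, mul_comm]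
  refine ⟨⟨⟨⟨fun a c => Subtype.ext (hcomm a a.2 c c.2)⟩⟩, fun a ha => by
    rw [pow_two]; exact hsq a ha⟩, ?_⟩
  apply le_antisymm
  · -- at most four elements: the signs at `0` and `1` determine `r`
    have hinj : Function.Injective (fun r : ↥R =>
        ((sg ρ f φ ⟨r, R_le_RB R b r.2⟩ 0, sg ρ f φ ⟨r, R_le_RB R b r.2⟩ 1) : ZMod 3 × ZMod 3)) := by
      intro r r' h
      simp only [Prod.mk.injEq] at h
      obtain ⟨h0, h1⟩ := h
      have hp := hprod r r.2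
      have hp' := hprod r' r'.2
      have h2 : sg ρ f φ ⟨r, R_le_RB R b r.2⟩ 2 = sg ρ f φ ⟨r', R_le_RB R b r'.2⟩ 2 := by
        have e1 : sg ρ f φ ⟨r, R_le_RB R b r.2⟩ 2 =
            sg ρ f φ ⟨r, R_le_RB R b r.2⟩ 0 * sg ρ f φ ⟨r, R_le_RB R b r.2⟩ 1 := by
          have a := sg_mul_self (ρ := ρ) (f := f) (φ := φ) ⟨r, R_le_RB R b r.2⟩ 2
          calc sg ρ f φ ⟨r, R_le_RB R b r.2⟩ 2
              = (sg ρ f φ ⟨r, R_le_RB R b r.2⟩ 0 * sg ρ f φ ⟨r, R_le_RB R b r.2⟩ 1 *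
                sg ρ f φ ⟨r, R_le_RB R b r.2⟩ 2) * sg ρ f φ ⟨r, R_le_RB R b r.2⟩ 2 := by
                  rw [hp, one_mul]
            _ = sg ρ f φ ⟨r, R_le_RB R b r.2⟩ 0 * sg ρ f φ ⟨r, R_le_RB R b r.2⟩ 1 *
                (sg ρ f φ ⟨r, R_le_RB R b r.2⟩ 2 * sg ρ f φ ⟨r, R_le_RB R b r.2⟩ 2) := by ring
            _ = _ := by rw [a, mul_one]
        have e2 : sg ρ f φ ⟨r', R_le_RB R b r'.2⟩ 2 =
            sg ρ f φ ⟨r', R_le_RB R b r'.2⟩ 0 * sg ρ f φ ⟨r', R_le_RB R b r'.2⟩ 1 := by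
          have a := sg_mul_self (ρ := ρ) (f := f) (φ := φ) ⟨r', R_le_RB R b r'.2⟩ 2
          calc sg ρ f φ ⟨r', R_le_RB R b r'.2⟩ 2
              = (sg ρ f φ ⟨r', R_le_RB R b r'.2⟩ 0 * sg ρ f φ ⟨r', R_le_RB R b r'.2⟩ 1 *
                sg ρ f φ ⟨r', R_le_RB R b r'.2⟩ 2) * sg ρ f φ ⟨r', R_le_RB R b r'.2⟩ 2 := by
                  rw [hp', one_mul]
            _ = sg ρ f φ ⟨r', R_le_RB R b r'.2⟩ 0 * sg ρ f φ ⟨r', R_le_RB R b r'.2⟩ 1 *
                (sg ρ f φ ⟨r', R_le_RB R b r'.2⟩ 2 * sg ρ f φ ⟨r', R_le_RB R b r'.2⟩ 2) := by ring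
            _ = _ := by rw [a, mul_one]
        rw [e1, e2, h0, h1]
      apply Subtype.ext
      apply eq_of_act hL hM _ _ (R_le_RB R b r.2) (R_le_RB R b r'.2)
      intro i
      rw [hdiag r r.2 i, hdiag r' r'.2 i]
      fin_cases i
      · exact congrArg (· • f 0) h0
      · exact congrArg (· • f 1) h1
      · exact congrArg (· • f 2) h2
    -- the image lies in `{±1} × {±1}`
    let T : Finset (ZMod 3 × ZMod 3) := {(1, 1), (1, -1), (-1, 1), (-1, -1)}
    have hT : ∀ r : ↥R, ((sg ρ f φ ⟨r, R_le_RB R b r.2⟩ 0, sg ρ f φ ⟨r, R_le_RB R b r.2⟩ 1) :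
        ZMod 3 × ZMod 3) ∈ T := by
      intro r
      rcases sg_cases (ρ := ρ) (f := f) (φ := φ) ⟨r, R_le_RB R b r.2⟩ 0 with a | a <;>
        rcases sg_cases (ρ := ρ) (f := f) (φ := φ) ⟨r, R_le_RB R b r.2⟩ 1 with c | c <;>
        rw [a, c] <;> decide
    have hinj' : Function.Injective (fun r : ↥R =>
        (⟨_, hT r⟩ : {p : ZMod 3 × ZMod 3 // p ∈ T})) := by
      intro r r' h
      exact hinj (congrArg Subtype.val h)
    have := Nat.card_le_card_of_injective _ hinj'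
    have hc : Nat.card {p : ZMod 3 × ZMod 3 // p ∈ T} = 4 := by
      rw [Nat.card_eq_fintype_card, Fintype.card_coe]
      decide
    rw [hc] at this
    exact this
  · -- at least four elements: `1, x₁, x₂, x₃`
    have he2 : e₂ ≠ 0 := by
      intro h
      apply hQ.e₁ne
      have := hQ.be₁
      rw [h] at this
      have h' : ρ b⁻¹ (ρ b e₁) = e₁ := rho_inv_apply ρ b e₁
      rw [this, map_zero] at h'
      exact h'.symm
    have he3 : e₃ ≠ 0 := by
      intro h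
      apply he2
      have := hQ.be₂
      rw [h] at this
      have h' : ρ b⁻¹ (ρ b e₂) = e₂ := rho_inv_apply ρ b e₂
      rw [this, map_zero] at h'
      exact h'.symm
    have hne : ∀ {v : E}, v ≠ 0 → v ≠ -v := fun hv h => hv (eq_zero_of_eq_neg h)
    have h1 : x₁ ≠ 1 := by
      intro h
      have := hQ.x₁e₂
      rw [h, map_one] at this
      exact hne he2 this
    have h2 : x₂ ≠ 1 := by
      intro h
      have := hQ.x₂e₁
      rw [h, map_one] at this
      exact hne hQ.e₁ne this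
    have h3 : x₃ ≠ 1 := by
      intro h
      have := hQ.x₃e₁
      rw [h, map_one] at this
      exact hne hQ.e₁ne this
    have h12 : x₁ ≠ x₂ := by
      intro h
      have := hQ.x₂e₁
      rw [← h, hQ.x₁e₁] at this
      exact hne hQ.e₁ne this
    have h13 : x₁ ≠ x₃ := by
      intro h
      have := hQ.x₃e₁
      rw [← h, hQ.x₁e₁] at this
      exact hne hQ.e₁ne this
    have h23 : x₂ ≠ x₃ := by
      intro h
      have := hQ.x₃e₂
      rw [← h, hQ.x₂e₂] at this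
      exact hne he2 this
    let F : Fin 4 → ↥R := ![1, ⟨x₁, hQ.x₁R⟩, ⟨x₂, hQ.x₂R⟩, ⟨x₃, hQ.x₃R⟩]
    have hF : Function.Injective F := by
      intro i j h
      have h' : ((F i : ↥R) : S) = (F j : ↥R) := congrArg Subtype.val h
      fin_cases i <;> fin_cases j <;> simp [F] at h' ⊢
      all_goals first
        | exact absurd h' h1 | exact absurd h'.symm h1 | exact absurd h' h2 | exact absurd h'.symm h2
        | exact absurd h' h3 | exact absurd h'.symm h3 | exact absurd h' h12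
        | exact absurd h'.symm h12 | exact absurd h' h13 | exact absurd h'.symm h13
        | exact absurd h' h23 | exact absurd h'.symm h23
    have := Nat.card_le_card_of_injective F hF
    simpa using this

universe u v

/-- **ThreeStmt** (G4): three lines give the four-group. -/
theorem three : ThreeStmt.{u, v} := by
  intro S _ _ E _ _ _ ρ R b W x₁ x₂ x₃ e₁ e₂ e₃ f φ hL hQ hM
  exact three_stmt_aux hL hQ hM

end Cfsg.Agent.Lib.H26.S4415G4
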