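import Mathlib

/-!
# S0429 piece (OVOID): in an srg(15,6,1,3) every vertex lies in exactly two 5-cocliques

Abstract lemma on a finite set `K` with a symmetric irreflexive relation `R` with the
parameters of the collinearity graph of GQ(2,2).

Route: for non-adjacent `a ≠ x` the set `W` of points adjacent to neither (4 points) induces a
claw `K_{1,3}`; hence `a, x` lie in exactly one 5-coclique; a double count over the 8
non-neighbours of `a` gives `4 * #ovoids = 8`.
-/

set_option autoImplicit false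
set_option linter.unusedSectionVars false

namespace Cfsg.Agent.Lib.H26.S77

open Finset

section
variable {U : Type*} [DecidableEq U]

/-- The hypotheses of `ovoid_count`, bundled. -/
structure OvHyp (K : Finset U) (R : U → U → Prop) [DecidableRel R] : Prop where
  symm : ∀ a b, R a b → R b a
  irr : ∀ a ∈ K, ¬ R a a
  card : K.card = 15
  deg : ∀ a ∈ K, (K.filter (fun c => R a c)).card = 6
  lam : ∀ a ∈ K, ∀ b ∈ K, R a b → (K.filter (fun c => R a c ∧ R b c)).card = 1
  mu : ∀ a ∈ K, ∀ b ∈ K, a ≠ b → ¬ R a b → (K.filter (fun c => R a c ∧ R b c)).card = 3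

/-- four-way partition count relative to a non-adjacent pair `a, x` -/
theorem part4 (R : U → U → Prop) [DecidableRel R] (a x : U)
    (haa : ¬ R a a) (hxx : ¬ R x x) (hax : ¬ R a x) (hxa : ¬ R x a) (T : Finset U) :
    (T.filter (fun c => c = a ∨ c = x)).card + (T.filter (fun c => R a c)).card
      + (T.filter (fun c => R x c)).card
      + (T.filter (fun c => c ≠ a ∧ c ≠ x ∧ ¬ R a c ∧ ¬ R x c)).card
    = T.card + (T.filter (fun c => R a c ∧ R x c)).card := by
  simp only [Finset.card_filter, Finset.card_eq_sum_ones T, ← Finset.sum_add_distrib]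
  apply Finset.sum_congr rfl
  intro c _
  by_cases h1 : c = a
  · subst h1; simp [haa, hxa]
  by_cases h2 : c = x
  · subst h2; simp [hxx, hax]
  by_cases h3 : R a c <;> by_cases h4 : R x c <;> simp [h1, h2, h3, h4]

variable {K : Finset U} {R : U → U → Prop} [DecidableRel R]

theorem OvHyp.cn_unique (h : OvHyp K R) {p q c c' : U} (hp : p ∈ K) (hq : q ∈ K) (hpq : R p q)
    (hc : c ∈ K) (hc' : c' ∈ K) (h1 : R p c) (h2 : R q c) (h3 : R p c') (h4 : R q c') :
    c = c' := by
  have h5 := h.lam p hp q hq hpq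
  rw [Finset.card_eq_one] at h5
  obtain ⟨z, hz⟩ := h5
  have e1 : c ∈ K.filter (fun c => R p c ∧ R q c) := by simp [hc, h1, h2]
  have e2 : c' ∈ K.filter (fun c => R p c ∧ R q c) := by simp [hc', h3, h4]
  rw [hz] at e1 e2
  rw [mem_singleton] at e1 e2
  rw [e1, e2]

theorem OvHyp.cn_nonadj (h : OvHyp K R) {p q c c' : U} (hp : p ∈ K) (hq : q ∈ K) (hne : p ≠ q)
    (hc : c ∈ K) (hc' : c' ∈ K) (h1 : R p c) (h2 : R q c) (h3 : R p c') (h4 : R q c') :
    ¬ R c c' := by
  intro hcc
  exact hne (h.cn_unique hc hc' hcc hp hq (h.symm _ _ h1) (h.symm _ _ h3)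
    (h.symm _ _ h2) (h.symm _ _ h4))

/-- common neighbours of `a, x` -/
def ovL (K : Finset U) (R : U → U → Prop) [DecidableRel R] (a x : U) : Finset U :=
  K.filter (fun c => R a c ∧ R x c)

/-- points other than `a, x` adjacent to neither -/
def ovW (K : Finset U) (R : U → U → Prop) [DecidableRel R] (a x : U) : Finset U :=
  K.filter (fun c => c ≠ a ∧ c ≠ x ∧ ¬ R a c ∧ ¬ R x c)

theorem mem_ovL {a x c : U} : c ∈ ovL K R a x ↔ c ∈ K ∧ R a c ∧ R x c := by
  simp [ovL]

theorem mem_ovW {a x c : U} :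
    c ∈ ovW K R a x ↔ c ∈ K ∧ c ≠ a ∧ c ≠ x ∧ ¬ R a c ∧ ¬ R x c := by
  simp [ovW]


section pair
variable (h : OvHyp K R) {a x : U} (ha : a ∈ K) (hx : x ∈ K) (hne : a ≠ x) (hnr : ¬ R a x)
include h ha hx hne hnr

theorem OvHyp.card_L : (ovL K R a x).card = 3 := h.mu a ha x hx hne hnr

theorem OvHyp.card_W : (ovW K R a x).card = 4 := by
  have h0 := part4 R a x (h.irr a ha) (h.irr x hx) hnr (fun h' => hnr (h.symm _ _ h')) K
  have e1 : (K.filter (fun c => c = a ∨ c = x)).card = 2 := by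
    have : K.filter (fun c => c = a ∨ c = x) = {a, x} := by
      ext c
      simp only [mem_filter, mem_insert, mem_singleton]
      constructor
      · exact fun h => h.2
      · rintro (rfl | rfl)
        · exact ⟨ha, Or.inl rfl⟩
        · exact ⟨hx, Or.inr rfl⟩
    rw [this, card_pair hne]
  rw [e1, h.deg a ha, h.deg x hx, h.mu a ha x hx hne hnr, h.card] at h0
  unfold ovW
  omega

/-- the key count for the neighbourhood of an arbitrary `v ∈ K` -/
theorem OvHyp.part_nb {v : U} (hv : v ∈ K) :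
    (K.filter (fun c => R v c ∧ (c = a ∨ c = x))).card
      + (K.filter (fun c => R v c ∧ R a c)).card
      + (K.filter (fun c => R v c ∧ R x c)).card
      + ((ovW K R a x).filter (fun c => R v c)).card
    = 6 + ((ovL K R a x).filter (fun c => R v c)).card := by
  have h0 := part4 R a x (h.irr a ha) (h.irr x hx) hnr (fun h' => hnr (h.symm _ _ h'))
    (K.filter (fun c => R v c))
  rw [h.deg v hv] at h0
  simp only [Finset.filter_filter] at h0
  have e1 : (ovW K R a x).filter (fun c => R v c)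
      = K.filter (fun c => R v c ∧ c ≠ a ∧ c ≠ x ∧ ¬ R a c ∧ ¬ R x c) := by
    unfold ovW
    rw [Finset.filter_filter]
    apply Finset.filter_congr; intro c _; tauto
  have e2 : (ovL K R a x).filter (fun c => R v c)
      = K.filter (fun c => R v c ∧ R a c ∧ R x c) := by
    unfold ovL
    rw [Finset.filter_filter]
    apply Finset.filter_congr; intro c _; tauto
  rw [e1, e2]
  exact h0

/-- (N1) for `w ∈ W` the number of `W`-neighbours equals the number of `L`-neighbours -/
theorem OvHyp.deg_W {w : U} (hw : w ∈ ovW K R a x) :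
    ((ovW K R a x).filter (fun c => R w c)).card = ((ovL K R a x).filter (fun c => R w c)).card := by
  obtain ⟨hwK, hwa, hwx, hwra, hwrx⟩ := mem_ovW.1 hw
  have h0 := h.part_nb ha hx hne hnr hwK
  have hwa' : ¬ R w a := fun h' => hwra (h.symm _ _ h')
  have hwx' : ¬ R w x := fun h' => hwrx (h.symm _ _ h')
  have e1 : K.filter (fun c => R w c ∧ (c = a ∨ c = x)) = ∅ := by
    apply Finset.filter_eq_empty_iff.2
    rintro c _ ⟨h1, (rfl | rfl)⟩
    · exact hwa' h1
    · exact hwx' h1
  rw [e1, h.mu w hwK a ha hwa hwa', h.mu w hwK x hx hwx hwx', Finset.card_empty] at h0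
  omega

/-- `L` is a coclique -/
theorem OvHyp.L_coclique {u u' : U} (hu : u ∈ ovL K R a x) (hu' : u' ∈ ovL K R a x) :
    ¬ R u u' := by
  obtain ⟨huK, hua, hux⟩ := mem_ovL.1 hu
  obtain ⟨huK', hua', hux'⟩ := mem_ovL.1 hu'
  exact h.cn_nonadj ha hx hne huK huK' hua hux hua' hux'

/-- (N2) every `u ∈ L` has exactly two neighbours in `W` -/
theorem OvHyp.deg_L {u : U} (hu : u ∈ ovL K R a x) :
    ((ovW K R a x).filter (fun c => R u c)).card = 2 := by
  obtain ⟨huK, hua, hux⟩ := mem_ovL.1 hu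
  have h0 := h.part_nb ha hx hne hnr huK
  have hua' : R u a := h.symm _ _ hua
  have hux' : R u x := h.symm _ _ hux
  have e1 : K.filter (fun c => R u c ∧ (c = a ∨ c = x)) = {a, x} := by
    ext c
    simp only [mem_filter, mem_insert, mem_singleton]
    constructor
    · exact fun h => h.2.2
    · rintro (rfl | rfl)
      · exact ⟨ha, hua', Or.inl rfl⟩
      · exact ⟨hx, hux', Or.inr rfl⟩
  have e2 : (ovL K R a x).filter (fun c => R u c) = ∅ := by
    apply Finset.filter_eq_empty_iff.2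
    intro c hc
    exact h.L_coclique ha hx hne hnr hu hc
  rw [e1, e2, h.lam u huK a ha hua', h.lam u huK x hx hux', card_pair hne, Finset.card_empty] at h0
  omega

/-- (N3) two distinct points of `L` have a common neighbour in `W` -/
theorem OvHyp.third_cn {u u' : U} (hu : u ∈ ovL K R a x) (hu' : u' ∈ ovL K R a x)
    (huu : u ≠ u') : ∃ t ∈ ovW K R a x, R u t ∧ R u' t := by
  obtain ⟨huK, hua, hux⟩ := mem_ovL.1 hu
  obtain ⟨huK', hua', hux'⟩ := mem_ovL.1 hu'
  have h3 := h.mu u huK u' huK' huu (h.L_coclique ha hx hne hnr hu hu')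
  have hex : ∃ t ∈ K.filter (fun c => R u c ∧ R u' c), t ≠ a ∧ t ≠ x := by
    by_contra hcon
    push Not at hcon
    have hsub : K.filter (fun c => R u c ∧ R u' c) ⊆ {a, x} := by
      intro t ht
      simp only [mem_insert, mem_singleton]
      by_cases hta : t = a
      · exact Or.inl hta
      · exact Or.inr (hcon t ht hta)
    have := Finset.card_le_card hsub
    rw [h3, card_pair hne] at this
    omega
  obtain ⟨t, ht, hta, htx⟩ := hex
  obtain ⟨htK, hut, hut'⟩ := mem_filter.1 ht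
  refine ⟨t, mem_ovW.2 ⟨htK, hta, htx, ?_, ?_⟩, hut, hut'⟩
  · intro hat
    exact huu (h.cn_unique ha htK hat huK huK' hua (h.symm _ _ hut) hua' (h.symm _ _ hut'))
  · intro hxt
    exact huu (h.cn_unique hx htK hxt huK huK' hux (h.symm _ _ hut) hux' (h.symm _ _ hut'))

/-- (N2'') the two `W`-neighbours of `u ∈ L` are adjacent -/
theorem OvHyp.W_nbrs_adj {u e e' : U} (hu : u ∈ ovL K R a x) (he : e ∈ ovW K R a x)
    (he' : e' ∈ ovW K R a x) (hue : R u e) (hue' : R u e') (hee : e ≠ e') : R e e' := by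
  obtain ⟨huK, hua, hux⟩ := mem_ovL.1 hu
  obtain ⟨heK, hea, hex, hera, herx⟩ := mem_ovW.1 he
  have h1 := h.lam u huK e heK hue
  have hne1 : (K.filter (fun c => R u c ∧ R e c)).Nonempty := by
    rw [← Finset.card_pos, h1]; norm_num
  obtain ⟨τ, hτ⟩ := hne1
  obtain ⟨hτK, huτ, heτ⟩ := mem_filter.1 hτ
  have hτe : τ ≠ e := by
    rintro rfl
    exact h.irr τ hτK heτ
  have hτW : τ ∈ ovW K R a x := by
    refine mem_ovW.2 ⟨hτK, ?_, ?_, ?_, ?_⟩
    · rintro rfl
      exact hera (h.symm _ _ heτ)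
    · rintro rfl
      exact herx (h.symm _ _ heτ)
    · intro haτ
      exact hea (h.cn_unique huK hτK huτ ha heK (h.symm _ _ hua) (h.symm _ _ haτ) hue
        (h.symm _ _ heτ)).symm
    · intro hxτ
      exact hex (h.cn_unique huK hτK huτ hx heK (h.symm _ _ hux) (h.symm _ _ hxτ) hue
        (h.symm _ _ heτ)).symm
  have h2 := h.deg_L ha hx hne hnr hu
  obtain ⟨y, z, hyz, hf⟩ := Finset.card_eq_two.1 h2
  have m1 : e ∈ ({y, z} : Finset U) := hf ▸ (mem_filter.2 ⟨he, hue⟩)
  have m2 : e' ∈ ({y, z} : Finset U) := hf ▸ (mem_filter.2 ⟨he', hue'⟩)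
  have m3 : τ ∈ ({y, z} : Finset U) := hf ▸ (mem_filter.2 ⟨hτW, huτ⟩)
  simp only [mem_insert, mem_singleton] at m1 m2 m3
  have hτe' : τ = e' := by
    rcases m1 with m1 | m1 <;> rcases m2 with m2 | m2 <;> rcases m3 with m3 | m3
    · exact absurd (m1.trans m2.symm) hee
    · exact absurd (m1.trans m2.symm) hee
    · exact absurd (m3.trans m1.symm) hτe
    · exact m3.trans m2.symm
    · exact m3.trans m2.symm
    · exact absurd (m3.trans m1.symm) hτe
    · exact absurd (m1.trans m2.symm) hee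
    · exact absurd (m1.trans m2.symm) hee
  rw [← hτe']
  exact heτ

/-- regularity: some point of `W` is adjacent to all of `L` -/
theorem OvHyp.exists_center : ∃ c ∈ ovW K R a x, ∀ u ∈ ovL K R a x, R u c := by
  obtain ⟨u1, u2, u3, h12, h13, h23, hL⟩ := Finset.card_eq_three.1 (h.card_L ha hx hne hnr)
  have m1 : u1 ∈ ovL K R a x := by rw [hL]; simp
  have m2 : u2 ∈ ovL K R a x := by rw [hL]; simp
  have m3 : u3 ∈ ovL K R a x := by rw [hL]; simp
  obtain ⟨t3, ht3, h1t3, h2t3⟩ := h.third_cn ha hx hne hnr m1 m2 h12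
  obtain ⟨t2, ht2, h1t2, h3t2⟩ := h.third_cn ha hx hne hnr m1 m3 h13
  obtain ⟨t1, ht1, h2t1, h3t1⟩ := h.third_cn ha hx hne hnr m2 m3 h23
  by_cases c3 : R u3 t3
  · refine ⟨t3, ht3, ?_⟩
    intro u hu
    rw [hL] at hu
    simp only [mem_insert, mem_singleton] at hu
    rcases hu with rfl | rfl | rfl <;> assumption
  by_cases c2 : R u2 t2
  · refine ⟨t2, ht2, ?_⟩
    intro u hu
    rw [hL] at hu
    simp only [mem_insert, mem_singleton] at hu
    rcases hu with rfl | rfl | rfl <;> assumption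
  by_cases c1 : R u1 t1
  · refine ⟨t1, ht1, ?_⟩
    intro u hu
    rw [hL] at hu
    simp only [mem_insert, mem_singleton] at hu
    rcases hu with rfl | rfl | rfl <;> assumption
  exfalso
  have n23 : t2 ≠ t3 := by rintro rfl; exact c3 h3t2
  have n13 : t1 ≠ t3 := by rintro rfl; exact c3 h3t1
  have n12 : t1 ≠ t2 := by rintro rfl; exact c2 h2t1
  have a23 : R t2 t3 := h.W_nbrs_adj ha hx hne hnr m1 ht2 ht3 h1t2 h1t3 n23
  have a13 : R t1 t3 := h.W_nbrs_adj ha hx hne hnr m2 ht1 ht3 h2t1 h2t3 n13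
  have a12 : R t1 t2 := h.W_nbrs_adj ha hx hne hnr m3 ht1 ht2 h3t1 h3t2 n12
  have hK2 := (mem_ovW.1 ht2).1
  have hK3 := (mem_ovW.1 ht3).1
  have hK1 := (mem_ovW.1 ht1).1
  have e : u1 = t1 := h.cn_unique hK2 hK3 a23 (mem_ovL.1 m1).1 hK1 (h.symm _ _ h1t2)
    (h.symm _ _ h1t3) (h.symm _ _ a12) (h.symm _ _ a13)
  exact (mem_ovW.1 ht1).2.2.2.1 (e ▸ (mem_ovL.1 m1).2.1)

/-- the claw: `W` has a centre adjacent to the other three points, which are pairwise
non-adjacent -/
theorem OvHyp.claw : ∃ c ∈ ovW K R a x, (∀ w ∈ ovW K R a x, w ≠ c → R c w) ∧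
    (∀ w ∈ ovW K R a x, ∀ w' ∈ ovW K R a x, w ≠ c → w' ≠ c → ¬ R w w') := by
  obtain ⟨c, hc, hcL⟩ := h.exists_center ha hx hne hnr
  have hcK := (mem_ovW.1 hc).1
  have hl : (ovL K R a x).filter (fun u => R c u) = ovL K R a x := by
    apply Finset.filter_true_of_mem
    intro u hu
    exact h.symm _ _ (hcL u hu)
  have hd := h.deg_W ha hx hne hnr hc
  rw [hl, h.card_L ha hx hne hnr] at hd
  have hsub : (ovW K R a x).filter (fun w => R c w) ⊆ (ovW K R a x).erase c := by
    intro w hw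
    obtain ⟨hwW, hcw⟩ := mem_filter.1 hw
    refine mem_erase.2 ⟨?_, hwW⟩
    rintro rfl
    exact h.irr w hcK hcw
  have heq : (ovW K R a x).filter (fun w => R c w) = (ovW K R a x).erase c := by
    apply Finset.eq_of_subset_of_card_le hsub
    rw [Finset.card_erase_of_mem hc, h.card_W ha hx hne hnr, hd]
  have hadj : ∀ w ∈ ovW K R a x, w ≠ c → R c w := by
    intro w hw hwc
    have : w ∈ (ovW K R a x).filter (fun w => R c w) := by
      rw [heq]; exact mem_erase.2 ⟨hwc, hw⟩
    exact (mem_filter.1 this).2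
  refine ⟨c, hc, hadj, ?_⟩
  intro w hw w' hw' hwc hwc' hww
  have hcw := hadj w hw hwc
  have hcw' := hadj w' hw' hwc'
  have hdw := h.deg_W ha hx hne hnr hw
  have hpos : 0 < ((ovW K R a x).filter (fun c => R w c)).card :=
    Finset.card_pos.2 ⟨c, mem_filter.2 ⟨hc, h.symm _ _ hcw⟩⟩
  rw [hdw] at hpos
  obtain ⟨u, hu⟩ := Finset.card_pos.1 hpos
  obtain ⟨huL, hwu⟩ := mem_filter.1 hu
  have e : u = w' := h.cn_unique hcK (mem_ovW.1 hw).1 hcw (mem_ovL.1 huL).1 (mem_ovW.1 hw').1
    (h.symm _ _ (hcL u huL)) hwu hcw' hww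
  exact (mem_ovW.1 hw').2.2.2.1 (e ▸ (mem_ovL.1 huL).2.1)

/-- two non-adjacent points lie in exactly one 5-coclique -/
theorem OvHyp.pair_unique :
    ((K.powerset.filter
      (fun S => S.card = 5 ∧ a ∈ S ∧ ∀ p ∈ S, ∀ q ∈ S, ¬ R p q)).filter (fun S => x ∈ S)).card
      = 1 := by
  obtain ⟨c, hc, hadj, hco⟩ := h.claw ha hx hne hnr
  have hWK : ∀ w ∈ ovW K R a x, w ∈ K := fun w hw => (mem_ovW.1 hw).1
  have haW : a ∉ ovW K R a x := fun h' => (mem_ovW.1 h').2.1 rfl
  have hxW : x ∉ ovW K R a x := fun h' => (mem_ovW.1 h').2.2.1 rfl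
  have hcard0 : (insert a (insert x ((ovW K R a x).erase c))).card = 5 := by
    rw [Finset.card_insert_of_notMem, Finset.card_insert_of_notMem, Finset.card_erase_of_mem hc,
      h.card_W ha hx hne hnr]
    · exact fun h' => hxW (Finset.mem_of_mem_erase h')
    · intro h'
      rcases Finset.mem_insert.1 h' with h' | h'
      · exact hne h'
      · exact haW (Finset.mem_of_mem_erase h')
  rw [Finset.card_eq_one]
  refine ⟨insert a (insert x ((ovW K R a x).erase c)), ?_⟩
  ext S
  simp only [mem_filter, mem_powerset, mem_singleton]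
  constructor
  · rintro ⟨⟨hSK, hS5, haS, hSco⟩, hxS⟩
    have hSW : ∀ s ∈ S, s ≠ a → s ≠ x → s ∈ ovW K R a x := fun s hs hsa hsx =>
      mem_ovW.2 ⟨hSK hs, hsa, hsx, hSco a haS s hs, hSco x hxS s hs⟩
    have hcS : c ∉ S := by
      intro hcS
      have hlt : ({a, x, c} : Finset U).card < S.card := by
        rw [hS5]
        exact lt_of_le_of_lt Finset.card_le_three (by norm_num)
      obtain ⟨w, hwS, hw⟩ := Finset.exists_mem_notMem_of_card_lt_card hlt
      simp only [mem_insert, mem_singleton, not_or] at hw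
      obtain ⟨hwa, hwx, hwc⟩ := hw
      exact hSco c hcS w hwS (hadj w (hSW w hwS hwa hwx) hwc)
    apply Finset.eq_of_subset_of_card_le
    · intro s hs
      by_cases hsa : s = a
      · rw [hsa]; exact Finset.mem_insert_self _ _
      by_cases hsx : s = x
      · rw [hsx]; exact Finset.mem_insert_of_mem (Finset.mem_insert_self _ _)
      refine Finset.mem_insert_of_mem (Finset.mem_insert_of_mem (Finset.mem_erase.2 ⟨?_, hSW s hs hsa hsx⟩))
      rintro rfl
      exact hcS hs
    · rw [hcard0, hS5]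
  · rintro rfl
    refine ⟨⟨?_, hcard0, Finset.mem_insert_self _ _, ?_⟩,
      Finset.mem_insert_of_mem (Finset.mem_insert_self _ _)⟩
    · intro s hs
      rcases Finset.mem_insert.1 hs with rfl | hs
      · exact ha
      rcases Finset.mem_insert.1 hs with rfl | hs
      · exact hx
      exact hWK s (Finset.mem_of_mem_erase hs)
    · intro p hp q hq
      have hxa : ¬ R x a := fun h' => hnr (h.symm _ _ h')
      rcases Finset.mem_insert.1 hp with rfl | hp
      · rcases Finset.mem_insert.1 hq with rfl | hq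
        · exact h.irr _ ha
        rcases Finset.mem_insert.1 hq with rfl | hq
        · exact hnr
        · exact (mem_ovW.1 (Finset.mem_of_mem_erase hq)).2.2.2.1
      rcases Finset.mem_insert.1 hp with rfl | hp
      · rcases Finset.mem_insert.1 hq with rfl | hq
        · exact hxa
        rcases Finset.mem_insert.1 hq with rfl | hq
        · exact h.irr _ hx
        · exact (mem_ovW.1 (Finset.mem_of_mem_erase hq)).2.2.2.2
      · have hpW := Finset.mem_of_mem_erase hp
        have hpc := Finset.ne_of_mem_erase hp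
        rcases Finset.mem_insert.1 hq with rfl | hq
        · exact fun h' => (mem_ovW.1 hpW).2.2.2.1 (h.symm _ _ h')
        rcases Finset.mem_insert.1 hq with rfl | hq
        · exact fun h' => (mem_ovW.1 hpW).2.2.2.2 (h.symm _ _ h')
        · exact hco p hpW q (Finset.mem_of_mem_erase hq) hpc (Finset.ne_of_mem_erase hq)

end pair

end

/-- **(OVOID)** in an srg(15,6,1,3) every vertex lies in exactly two cocliques of size 5. -/
theorem ovoid_count {U : Type*} [DecidableEq U] (K : Finset U) (R : U → U → Prop) [DecidableRel R]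
    (hsymm : ∀ a b, R a b → R b a) (hirr : ∀ a ∈ K, ¬ R a a) (hcard : K.card = 15)
    (hdeg : ∀ a ∈ K, (K.filter (fun c => R a c)).card = 6)
    (hlam : ∀ a ∈ K, ∀ b ∈ K, R a b → (K.filter (fun c => R a c ∧ R b c)).card = 1)
    (hmu : ∀ a ∈ K, ∀ b ∈ K, a ≠ b → ¬ R a b → (K.filter (fun c => R a c ∧ R b c)).card = 3) :
    ∀ a ∈ K, (K.powerset.filter
      (fun S => S.card = 5 ∧ a ∈ S ∧ ∀ x ∈ S, ∀ y ∈ S, ¬ R x y)).card = 2 := by
  intro a ha
  have h : OvHyp K R := ⟨hsymm, hirr, hcard, hdeg, hlam, hmu⟩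
  -- the 8 non-neighbours of `a`
  have hX : (K.filter (fun c => c ≠ a ∧ ¬ R a c)).card = 8 := by
    have h1 := Finset.card_filter_add_card_filter_not (s := K) (fun c => R a c)
    rw [hdeg a ha, hcard] at h1
    have h2 : K.filter (fun c => c ≠ a ∧ ¬ R a c) = (K.filter (fun c => ¬ R a c)).erase a := by
      ext c
      simp only [mem_filter, mem_erase]
      tauto
    have h3 : a ∈ K.filter (fun c => ¬ R a c) := mem_filter.2 ⟨ha, hirr a ha⟩
    rw [h2, Finset.card_erase_of_mem h3]
    omega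
  -- double count
  have hdc : ∑ S ∈ K.powerset.filter
        (fun S => S.card = 5 ∧ a ∈ S ∧ ∀ x ∈ S, ∀ y ∈ S, ¬ R x y),
        ((K.filter (fun c => c ≠ a ∧ ¬ R a c)).filter (fun x => x ∈ S)).card
      = ∑ x ∈ K.filter (fun c => c ≠ a ∧ ¬ R a c),
        ((K.powerset.filter
          (fun S => S.card = 5 ∧ a ∈ S ∧ ∀ x ∈ S, ∀ y ∈ S, ¬ R x y)).filter
            (fun S => x ∈ S)).card := by
    simp only [Finset.card_filter]
    exact Finset.sum_comm
  have hl : ∀ S ∈ K.powerset.filter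
        (fun S => S.card = 5 ∧ a ∈ S ∧ ∀ x ∈ S, ∀ y ∈ S, ¬ R x y),
        ((K.filter (fun c => c ≠ a ∧ ¬ R a c)).filter (fun x => x ∈ S)).card = 4 := by
    intro S hS
    obtain ⟨hSK, hS5, haS, hSco⟩ := mem_filter.1 hS
    have hSK' := mem_powerset.1 hSK
    have : (K.filter (fun c => c ≠ a ∧ ¬ R a c)).filter (fun x => x ∈ S) = S.erase a := by
      ext c
      simp only [mem_filter, mem_erase]
      constructor
      · rintro ⟨⟨_, hca, _⟩, hcS⟩
        exact ⟨hca, hcS⟩
      · rintro ⟨hca, hcS⟩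
        exact ⟨⟨hSK' hcS, hca, hSco a haS c hcS⟩, hcS⟩
    rw [this, Finset.card_erase_of_mem haS, hS5]
  have hr : ∀ x ∈ K.filter (fun c => c ≠ a ∧ ¬ R a c),
        ((K.powerset.filter
          (fun S => S.card = 5 ∧ a ∈ S ∧ ∀ x ∈ S, ∀ y ∈ S, ¬ R x y)).filter
            (fun S => x ∈ S)).card = 1 := by
    intro x hx
    obtain ⟨hxK, hxa, hax⟩ := mem_filter.1 hx
    exact h.pair_unique ha hxK (Ne.symm hxa) hax
  rw [Finset.sum_congr rfl hl, Finset.sum_congr rfl hr, Finset.sum_const, Finset.sum_const, hX,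
    smul_eq_mul, smul_eq_mul] at hdc
  omega

end Cfsg.Agent.Lib.H26.S77
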