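import Mathlib
import Cfsg.Agent.Lib.H26.SH16Min
import Cfsg.Agent.Lib.H4.SHPIHC
import Cfsg.Agent.Lib.H12.SHPSYL
import Cfsg.Agent.Lib.H6.SHPCASEB
import Cfsg.Agent.Lib.H16.SHINVp
import Cfsg.Agent.Lib.H1.ShIWrap

/-!
# S3016 (Shult, odd `p`): assembly

`partII_of` : conclusion (II) of S3016 from the `|H| = 3` CASE B theorem (the other case theorems are
plugged in: helper12's `caseA_top`, helper6's `caseB_p` with helper16's rank bound).
`result_of` : both conclusions from the `|H| = 3` CASE B theorem and the lemma `C_{[Y,H]}(H) = 1`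
(conclusion (I) through helper1's `concl_I_of_II`).
-/

set_option autoImplicit false

namespace Cfsg.Agent.Lib.H26.SH16

open Cfsg

universe u

/-- CASE A in the shape consumed by `min_normal_p` (helper12's `caseA_top`). -/
theorem caseA_stmt {p : ℕ} [Fact p.Prime] : CaseAStmtP.{u} p :=
  fun _ _ _ M hM H hHp hHab hcl hloc _ hncl hO _ hnt =>
    Cfsg.Agent.Lib.H12.SHP.caseA_top M hM H hHp
      (fun _ ha _ hb => setLike_mul_comm ha hb) hcl hloc hncl hO hnt

/-- CASE B for `5 ≤ |H|` in the shape consumed by `min_normal_p` (helper6's `caseB_p` with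
helper16's rank bound). -/
theorem caseB5_stmt {p : ℕ} [hp : Fact p.Prime] (hp2 : p ≠ 2) : CaseB5StmtP.{u} p := by
  intro G _ _ M hM H hHp _ hloc hncl htr hq
  refine Cfsg.Agent.Lib.H6.SHP.caseB_p hp2 M hM H hHp hloc hncl htr hq ?_
  intro χ hχ x y hx hy d hdx hdy
  have h := Cfsg.Agent.Lib.H16.SHp.char_mul_order_p_ge' χ hχ p hp.out.pos x y hx hy (d : ℂ) hdx hdy
  simpa using h

/-- conclusion (II) of S3016, given the `|H| = 3` CASE B theorem -/
theorem partII_of {p : ℕ} [Fact p.Prime] (hp2 : p ≠ 2) (caseB3 : CaseB3Stmt.{u}) :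
    ∀ (G : Type u) [Group G] [Finite G] (H : Subgroup G), IsPGroup p H → IsMulCommutative H →
      IsExtremelyClosed H → Subgroup.normalizer (H : Set G) ⊔ pPrimeCore p G = ⊤ := by
  refine Cfsg.Agent.Lib.H4.SHP.red_p ?_
  intro G _ _ H hHp hHab hcl IH hO hncl hZ
  exact min_normal_p hp2 caseA_stmt (caseB5_stmt hp2) caseB3 G H hHp hHab hcl
    (Cfsg.Agent.Lib.H4.SHP.ih_centralizer_p hHp hHab hcl IH hZ) hO hncl

/-- both conclusions of S3016, given the `|H| = 3` CASE B theorem and the lemma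
`C_{[Y,H]}(H) = 1` -/
theorem result_of {G : Type u} [Group G] [Finite G] {p : ℕ} [Fact p.Prime] (hp2 : p ≠ 2)
    (caseB3 : CaseB3Stmt.{u}) (H : Subgroup G) (hHp : IsPGroup p H) (hHab : IsMulCommutative H)
    (hcl : IsExtremelyClosed H)
    (hlem : ∀ Y : Subgroup G, ¬ p ∣ Nat.card Y → (∀ h ∈ H, ∀ y ∈ Y, h * y * h⁻¹ ∈ Y) →
      Cfsg.Agent.Lib.H24.ShI.EC H Y → ⁅Y, H⁆ ⊓ Subgroup.centralizer (H : Set G) = ⊥) :
    Subgroup.normalClosure (H : Set G) ⊓ Subgroup.normalizer (H : Set G) = H ∧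
      Subgroup.normalizer (H : Set G) ⊔ Cfsg.pPrimeCore p G = ⊤ := by
  have hII := partII_of hp2 caseB3 G H hHp hHab hcl
  exact ⟨Cfsg.Agent.Lib.H1.ShIWrap.concl_I_of_II hp2 H hHp hHab hcl hlem hII, hII⟩

end Cfsg.Agent.Lib.H26.SH16
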