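import Mathlib

/-!
# S3017 (Shult), CASE B (`N_G(H)` transitive on `H#`): the pure arithmetic endgame (helper26)

`d = χ(a)` (constant on `H#`), `f = χ(1)`, `q = |H| ≥ 4`, `R` = the average of `χ(a · g a g⁻¹)` over the `g` with
`a · g a g⁻¹` of odd order.

* `bound_of_eigen` : the class-sum identity `(q-1) d² = f ((q-2) d + R)` and the eigenvalue bound `2 d - f ≤ R`
  give `(q-1) d ≤ f` when `d < f`.
* `endb_arith` : `∑_χ d_χ R_χ = 0`, i.e. `∑_χ d² ((q-2) f - (q-1) d) / f = 0`, is impossible.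
-/

set_option autoImplicit false

namespace Cfsg.Agent.Lib.H26.SH

/-- `((q-1) d - f)(d - f) ≥ 0` and `d < f` give `(q-1) d ≤ f`. -/
theorem bound_of_eigen (q d f R : ℝ) (hCS : (q - 1) * d ^ 2 = f * ((q - 2) * d + R))
    (hR : 2 * d - f ≤ R) (hf : 0 < f) (hdf : d < f) : (q - 1) * d ≤ f := by
  by_contra hcon
  push_neg at hcon
  have h1 : f * ((q - 2) * d + (2 * d - f)) ≤ f * ((q - 2) * d + R) := by
    apply mul_le_mul_of_nonneg_left _ hf.le
    linarith
  have h2 : 0 ≤ ((q - 1) * d - f) * (d - f) := by nlinarith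
  have h3 : ((q - 1) * d - f) * (d - f) < 0 := mul_neg_of_pos_of_neg (by linarith) (by linarith)
  linarith

/-- the integer inequality behind `endb_arith`: a nonzero term exceeds `1`. -/
theorem term_gt_aux (q d f : ℤ) (hq : 4 ≤ q) (hf : 0 < f) (hb : (q - 1) * d ≤ f) (hdiv : q ∣ f - d)
    (hd : d ≠ 0) : f < d ^ 2 * ((q - 2) * f - (q - 1) * d) := by
  have hX : (q - 3) * f ≤ (q - 2) * f - (q - 1) * d := by linarith
  have hX1 : f ≤ (q - 3) * f := by nlinarith
  have hcases : d ≤ -2 ∨ d = -1 ∨ d = 1 ∨ 2 ≤ d := by omega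
  rcases hcases with h | h | h | h
  · have : 4 ≤ d ^ 2 := by nlinarith
    nlinarith
  · subst h
    have : (q - 2) * f ≥ 2 * f := by nlinarith
    nlinarith
  · subst h
    obtain ⟨k, hk⟩ := hdiv
    have hfq : q - 1 ≤ f := by linarith
    rcases (show q = 4 ∨ 5 ≤ q by omega) with h4 | h5
    · subst h4
      have : f ≠ 3 := by
        intro h3
        rw [h3] at hk
        omega
      have : 4 ≤ f := by omega
      nlinarith
    · have : 2 * f ≤ (q - 3) * f := by nlinarith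
      nlinarith
  · have : 4 ≤ d ^ 2 := by nlinarith
    nlinarith

/-- CASE B endgame: the identity `∑_χ d² ((q-2) f - (q-1) d) / f = 0` (from `∑ d R = 0`) is impossible. -/
theorem endb_arith {ι : Type*} (s : Finset ι) (i₀ : ι) (hi₀ : i₀ ∈ s) (q : ℤ) (hq : 4 ≤ q)
    (d f : ι → ℤ) (hf : ∀ i ∈ s, 0 < f i) (hd0 : d i₀ = 1) (hf0 : f i₀ = 1)
    (hbound : ∀ i ∈ s, i ≠ i₀ → (q - 1) * d i ≤ f i) (hdiv : ∀ i ∈ s, q ∣ f i - d i)
    (hsum : ∑ i ∈ s, ((d i : ℚ)) ^ 2 * (((q : ℚ) - 2) * (f i : ℚ) - ((q : ℚ) - 1) * (d i : ℚ)) / (f i : ℚ) = 0) :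
    False := by
  classical
  set t : ι → ℚ := fun i =>
    ((d i : ℚ)) ^ 2 * (((q : ℚ) - 2) * (f i : ℚ) - ((q : ℚ) - 1) * (d i : ℚ)) / (f i : ℚ) with ht
  have ht0 : t i₀ = -1 := by
    simp only [ht, hd0, hf0]
    push_cast
    ring
  -- the other terms
  have hterm : ∀ i ∈ s, i ≠ i₀ → (d i = 0 ∧ t i = 0) ∨ 1 < t i := by
    intro i hi hne
    by_cases hd : d i = 0
    · left
      refine ⟨hd, ?_⟩
      simp only [ht, hd]
      push_cast
      ring
    · right
      have hZ := term_gt_aux q (d i) (f i) hq (hf i hi) (hbound i hi hne) (hdiv i hi) hd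
      have hfpos : (0 : ℚ) < (f i : ℚ) := by exact_mod_cast hf i hi
      have hQ : (f i : ℚ) < ((d i : ℚ)) ^ 2 * (((q : ℚ) - 2) * (f i : ℚ) - ((q : ℚ) - 1) * (d i : ℚ)) := by
        exact_mod_cast hZ
      simp only [ht]
      rw [lt_div_iff₀ hfpos, one_mul]
      exact hQ
  have hnonneg : ∀ i ∈ s.erase i₀, 0 ≤ t i := by
    intro i hi
    have hi' := Finset.mem_erase.1 hi
    rcases hterm i hi'.2 hi'.1 with h | h
    · rw [h.2]
    · linarith
  have hsplit : ∑ i ∈ s, t i = t i₀ + ∑ i ∈ s.erase i₀, t i := by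
    rw [Finset.add_sum_erase s t hi₀]
  have hrest : ∑ i ∈ s.erase i₀, t i = 1 := by
    have : ∑ i ∈ s, t i = 0 := hsum
    rw [hsplit, ht0] at this
    linarith
  by_cases hall : ∀ i ∈ s.erase i₀, t i = 0
  · rw [Finset.sum_eq_zero hall] at hrest
    norm_num at hrest
  · push_neg at hall
    obtain ⟨j, hj, hj0⟩ := hall
    have hj' := Finset.mem_erase.1 hj
    have hgt : 1 < t j := by
      rcases hterm j hj'.2 hj'.1 with h | h
      · exact absurd h.2 hj0
      · exact h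
    have hle : t j ≤ ∑ i ∈ s.erase i₀, t i := Finset.single_le_sum hnonneg hj
    linarith

end Cfsg.Agent.Lib.H26.SH
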