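import Mathlib
import Cfsg.Agent.Lib.H5.Sims.Defs

/-!
# Piece (L3B)/(L3C) of S3685/S3385: the final contradiction (9d) in the case `l = 3`

Hypothesis form (the fields are those of helper8's `Chain3`).
-/

set_option autoImplicit false
open scoped Pointwise
open Cfsg.Agent.Lib.H5.Sims

namespace Cfsg.Agent.Lib.H26.Sims

variable {G : Type*} [Group G]

theorem cj_mul (x x' : G) (A : Subgroup G) :
    MulAut.conj (x * x') • A = MulAut.conj x • (MulAut.conj x' • A) := by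
  rw [map_mul, mul_smul]

theorem cj_one (A : Subgroup G) : MulAut.conj (1 : G) • A = A := by
  rw [map_one, one_smul]

theorem cj_inv_cancel (x : G) (A : Subgroup G) : MulAut.conj x⁻¹ • (MulAut.conj x • A) = A := by
  rw [← cj_mul, inv_mul_cancel, cj_one]

theorem cj_cancel_inv (x : G) (A : Subgroup G) : MulAut.conj x • (MulAut.conj x⁻¹ • A) = A := by
  rw [← cj_mul, mul_inv_cancel, cj_one]

theorem cj_mem {x : G} {A : Subgroup G} (hx : x ∈ A) : MulAut.conj x • A = A :=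
  Subgroup.conj_smul_eq_self_of_mem hx

theorem cj_inj {x : G} {A B : Subgroup G} (h : MulAut.conj x • A = MulAut.conj x • B) : A = B :=
  smul_left_cancel _ h

theorem cj_conj (x g : G) (B : Subgroup G) (hxB : MulAut.conj x • B = B) :
    MulAut.conj (x * g * x⁻¹) • B = MulAut.conj x • (MulAut.conj g • B) := by
  have h1 : MulAut.conj x⁻¹ • B = B := by
    conv_lhs => rw [← hxB]
    exact cj_inv_cancel x B
  rw [cj_mul, cj_mul, h1]

theorem eq_or_of_card_three {α : Type*} (h : Nat.card α = 3) {a b c : α} (hab : a ≠ b)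
    (hac : a ≠ c) (hbc : b ≠ c) (x : α) : x = a ∨ x = b ∨ x = c := by
  classical
  haveI : Finite α := Nat.finite_of_card_ne_zero (by rw [h]; norm_num)
  haveI : Fintype α := Fintype.ofFinite α
  have hcard : ({a, b, c} : Finset α).card = 3 := by
    rw [Finset.card_insert_of_notMem, Finset.card_insert_of_notMem, Finset.card_singleton]
    · simpa using hbc
    · simp only [Finset.mem_insert, Finset.mem_singleton, not_or]
      exact ⟨hab, hac⟩
  have huniv : ({a, b, c} : Finset α) = Finset.univ := by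
    apply Finset.eq_univ_of_card
    rw [hcard, ← Nat.card_eq_fintype_card, h]
  have := Finset.mem_univ x
  rw [← huniv] at this
  simpa using this

/-- if `A ⊓ B` has index three in `A`, three distinct `A`-conjugates of `B` are all of them -/
theorem three_nb {A B : Subgroup G} (hidx : (A ⊓ B).relIndex A = 3) {b c : G} (hb : b ∈ A)
    (hc : c ∈ A) (h1 : MulAut.conj b • B ≠ B) (h2 : MulAut.conj c • B ≠ B)
    (h3 : MulAut.conj b • B ≠ MulAut.conj c • B) {x : G} (hx : x ∈ A) :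
    MulAut.conj x • B = B ∨ MulAut.conj x • B = MulAut.conj b • B ∨
      MulAut.conj x • B = MulAut.conj c • B := by
  have key : ∀ u v : G, u⁻¹ * v ∈ B → MulAut.conj v • B = MulAut.conj u • B := by
    intro u v h
    have : v = u * (u⁻¹ * v) := by group
    rw [this, cj_mul, cj_mem h]
  have hcard : Nat.card (A ⧸ (A ⊓ B).subgroupOf A) = 3 := hidx
  have hcls : ∀ u v : A, (QuotientGroup.mk u : A ⧸ (A ⊓ B).subgroupOf A) = QuotientGroup.mk v →
      (u : G)⁻¹ * v ∈ B := by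
    intro u v h
    rw [QuotientGroup.eq, Subgroup.mem_subgroupOf] at h
    exact h.2
  have d1 : (QuotientGroup.mk (1 : A) : A ⧸ (A ⊓ B).subgroupOf A) ≠ QuotientGroup.mk ⟨b, hb⟩ := by
    intro h
    apply h1
    have := hcls 1 ⟨b, hb⟩ h
    rw [key 1 b (by simpa using this), cj_one]
  have d2 : (QuotientGroup.mk (1 : A) : A ⧸ (A ⊓ B).subgroupOf A) ≠ QuotientGroup.mk ⟨c, hc⟩ := by
    intro h
    apply h2
    have := hcls 1 ⟨c, hc⟩ h
    rw [key 1 c (by simpa using this), cj_one]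
  have d3 : (QuotientGroup.mk (⟨b, hb⟩ : A) : A ⧸ (A ⊓ B).subgroupOf A) ≠
      QuotientGroup.mk ⟨c, hc⟩ := by
    intro h
    apply h3
    exact (key b c (hcls ⟨b, hb⟩ ⟨c, hc⟩ h)).symm
  rcases eq_or_of_card_three hcard d1 d2 d3 (QuotientGroup.mk ⟨x, hx⟩) with h | h | h
  · left
    have := hcls 1 ⟨x, hx⟩ h.symm
    rw [key 1 x (by simpa using this), cj_one]
  · right; left
    exact key b x (hcls ⟨b, hb⟩ ⟨x, hx⟩ h.symm)
  · right; right
    exact key c x (hcls ⟨c, hc⟩ ⟨x, hx⟩ h.symm)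

/-! ### involution algebra -/

theorem alg_L1 {c a b : G} (hca : c * a = a * c) (hcb : c * b = b * c) (hcc : c * c = 1) :
    (c * a) * b * (c * a) * b = a * b * a * b := by
  calc (c * a) * b * (c * a) * b = c * a * (b * c) * a * b := by simp only [mul_assoc]
    _ = c * a * (c * b) * a * b := by rw [hcb]
    _ = c * (a * c) * b * a * b := by simp only [mul_assoc]
    _ = c * (c * a) * b * a * b := by rw [hca]
    _ = (c * c) * a * b * a * b := by simp only [mul_assoc]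
    _ = a * b * a * b := by rw [hcc, one_mul]

theorem alg_L2 {c a b : G} (hca : c * a = a * c) (hcb : c * b = b * c) (hcc : c * c = 1) :
    a * (c * b) * a * (c * b) = a * b * a * b := by
  calc a * (c * b) * a * (c * b) = (a * c) * b * (a * c) * b := by simp only [mul_assoc]
    _ = (c * a) * b * (c * a) * b := by rw [hca]
    _ = a * b * a * b := alg_L1 hca hcb hcc

theorem alg_L3 {a b c : G} (h : a * b * a * b = c) (hbb : b * b = 1) : a * b * a = c * b := by
  calc a * b * a = a * b * a * (b * b) := by rw [hbb, mul_one]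
    _ = (a * b * a * b) * b := by simp only [mul_assoc]
    _ = c * b := by rw [h]

theorem alg_L4 {a b c : G} (h : a * b * a * b = c) (haa : a * a = 1) (hbb : b * b = 1)
    (hcc : c * c = 1) : b * a * b * a = c := by
  have ha : a⁻¹ = a := inv_eq_of_mul_eq_one_right haa
  have hb : b⁻¹ = b := inv_eq_of_mul_eq_one_right hbb
  have hc : c⁻¹ = c := inv_eq_of_mul_eq_one_right hcc
  calc b * a * b * a = (a⁻¹ * b⁻¹ * a⁻¹ * b⁻¹)⁻¹ := by group
    _ = (a * b * a * b)⁻¹ := by rw [ha, hb]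
    _ = c := by rw [h, hc]

/-- the hypotheses of (9d): same fields as helper8's `Chain3` -/
structure Chain3 (P : ℤ → Subgroup G) (y : ℤ → G) : Prop where
  selfnorm : ∀ (j : ℤ) (x : G), MulAut.conj x • P j = P j → x ∈ P j
  canon : ∀ (i j : ℤ) (x : G), MulAut.conj x • P i = P j → x * y i * x⁻¹ = y j
  ysq : ∀ j : ℤ, y j * y j = 1
  ycen : ∀ j : ℤ, ∀ x ∈ P j, x * y j = y j * x
  ymem : ∀ i j : ℤ, |i - j| ≤ 3 → y j ∈ P i
  ynot : ∀ j : ℤ, y j ∉ P (j + 4) ∧ y j ∉ P (j - 4)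
  yrel : ∀ j : ℤ, y j * y (j + 4) * (y j)⁻¹ * (y (j + 4))⁻¹ = y (j + 2)
  yne : ∀ j : ℤ, y j ≠ y (j + 1)
  idxR : ∀ j : ℤ, (P j ⊓ P (j + 1)).relIndex (P j) = 3
  idxL : ∀ j : ℤ, (P j ⊓ P (j - 1)).relIndex (P j) = 3
  selfp : ∀ j : ℤ, ∃ g ∈ P j, MulAut.conj g • P (j + 1) = P (j - 1)
  pne : ∀ j : ℤ, P (j - 1) ≠ P (j + 1)
  qnorm : ∀ j : ℤ, ∀ x ∈ P j,
    MulAut.conj x • (P (j - 1) ⊓ P j ⊓ P (j + 1)) = P (j - 1) ⊓ P j ⊓ P (j + 1)
  t3 : ∀ j : ℤ, ∃ t ∈ P j, orderOf t = 3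
  no3 : ∀ j : ℤ, ∀ t ∈ P j ⊓ P (j + 1), orderOf t ≠ 3


namespace Chain3

variable {P : ℤ → Subgroup G} {y : ℤ → G}

theorem half (C : Chain3 P y) : (y 0 * y 5) ^ 4 = y 2 := by
  have yinv : ∀ j, (y j)⁻¹ = y j := fun j => inv_eq_of_mul_eq_one_right (C.ysq j)
  have ycomm : ∀ i j : ℤ, |i - j| ≤ 3 → y i * y j = y j * y i :=
    fun i j h => (C.ycen i (y j) (C.ymem i j h)).symm
  -- membership facts
  have m02 : y 0 ∈ P 2 := C.ymem 2 0 (by norm_num)
  have m03 : y 0 ∈ P 3 := C.ymem 3 0 (by norm_num)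
  have m04 : y 0 ∉ P 4 := by have := (C.ynot 0).1; simpa using this
  have m42 : y 4 ∈ P 2 := C.ymem 2 4 (by norm_num)
  have m41 : y 4 ∈ P 1 := C.ymem 1 4 (by norm_num)
  have m40 : y 4 ∉ P 0 := by have := (C.ynot 4).2; simpa using this
  have m52 : y 5 ∈ P 2 := C.ymem 2 5 (by norm_num)
  have m53 : y 5 ∈ P 3 := C.ymem 3 5 (by norm_num)
  have m51 : y 5 ∉ P 1 := by
    have := (C.ynot 5).2
    rwa [show (5 : ℤ) - 4 = 1 by norm_num] at this
  have e10 : (1 : ℤ) - 1 = 0 := by norm_num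
  have e12 : (1 : ℤ) + 1 = 2 := by norm_num
  have e21 : (2 : ℤ) - 1 = 1 := by norm_num
  have e23 : (2 : ℤ) + 1 = 3 := by norm_num
  have e32 : (3 : ℤ) - 1 = 2 := by norm_num
  have e34 : (3 : ℤ) + 1 = 4 := by norm_num
  have p13 : P 1 ≠ P 3 := by have := C.pne 2; rwa [e21, e23] at this
  have p24 : P 2 ≠ P 4 := by have := C.pne 3; rwa [e32, e34] at this
  have p02 : P 0 ≠ P 2 := by have := C.pne 1; rwa [e10, e12] at this
  -- the elements realizing self-pairedness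
  obtain ⟨g1, hg1, hg1c⟩ := C.selfp 1
  rw [e10, e12] at hg1c
  obtain ⟨g2, hg2, hg2c⟩ := C.selfp 2
  rw [e21, e23] at hg2c
  obtain ⟨g3, hg3, hg3c⟩ := C.selfp 3
  rw [e32, e34] at hg3c
  have hg2' : MulAut.conj g2⁻¹ • P 1 = P 3 := by rw [← hg2c, cj_inv_cancel]
  have hg3' : MulAut.conj g3⁻¹ • P 2 = P 4 := by rw [← hg3c, cj_inv_cancel]
  -- Step A: the neighbours of `P 2`
  have hA : ∀ x ∈ P 2, MulAut.conj x • P 1 = P 1 ∨ MulAut.conj x • P 1 = P 3 ∨
      MulAut.conj x • P 1 = MulAut.conj (y 5) • P 1 := by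
    intro x hx
    have hidx : (P 2 ⊓ P 1).relIndex (P 2) = 3 := by have := C.idxL 2; rwa [e21] at this
    have := three_nb hidx ((P 2).inv_mem hg2) m52 ?_ ?_ ?_ hx
    · rwa [hg2'] at this
    · rw [hg2']; exact p13.symm
    · intro h; exact m51 (C.selfnorm 1 _ h)
    · rw [hg2']
      intro h
      apply p13
      have : MulAut.conj (y 5) • P 3 = MulAut.conj (y 5) • P 1 := by rw [cj_mem m53]; exact h
      exact (cj_inj this).symm
  -- Step B: an element `t` of `P 2` cycling the neighbours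
  have hB : ∃ t ∈ P 2, MulAut.conj t • P 1 = P 3 ∧ MulAut.conj t • P 3 = MulAut.conj (y 5) • P 1 ∧
      MulAut.conj t • (MulAut.conj (y 5) • P 1) = P 1 := by
    obtain ⟨s, hs, hsord⟩ := C.t3 2
    have hs3 : s ^ 3 = 1 := by rw [← hsord]; exact pow_orderOf_eq_one s
    have hs1 : s ∉ P 1 := by
      intro h1
      exact C.no3 1 s (by rw [e12]; exact ⟨h1, hs⟩) hsord
    have hX1 : MulAut.conj s • P 1 ≠ P 1 := fun h => hs1 (C.selfnorm 1 _ h)
    have hX2 : MulAut.conj s • (MulAut.conj s • P 1) ≠ P 1 := by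
      intro h
      rw [← cj_mul] at h
      have h2 := C.selfnorm 1 _ h
      apply hs1
      have : s = (s * s) * (s * s) * (s ^ 3)⁻¹ := by group
      rw [this, hs3, inv_one, mul_one]
      exact (P 1).mul_mem h2 h2
    have hX3 : MulAut.conj s • (MulAut.conj s • (MulAut.conj s • P 1)) = P 1 := by
      rw [← cj_mul, ← cj_mul]
      have : s * s * s = s ^ 3 := (pow_three' s).symm
      rw [this, hs3, cj_one]
    have hX12 : MulAut.conj s • (MulAut.conj s • P 1) ≠ MulAut.conj s • P 1 :=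
      fun h => hX1 (cj_inj h)
    have hss : s * s ∈ P 2 := (P 2).mul_mem hs hs
    rcases hA s hs with h1 | h1 | h1
    · exact absurd h1 hX1
    · -- `X1 = P 3`
      refine ⟨s, hs, h1, ?_, ?_⟩
      · have h2 := hA (s * s) hss
        rw [cj_mul] at h2
        rcases h2 with h2 | h2 | h2
        · exact absurd h2 hX2
        · exfalso; apply hX12; rw [h2, h1]
        · rw [← h1]; exact h2
      · have h2 := hA (s * s) hss
        rw [cj_mul] at h2
        rcases h2 with h2 | h2 | h2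
        · exact absurd h2 hX2
        · exfalso; apply hX12; rw [h2, h1]
        · rw [← h2]; exact hX3
    · -- `X1 = P1'`
      have h2 := hA (s * s) hss
      rw [cj_mul] at h2
      rcases h2 with h2 | h2 | h2
      · exact absurd h2 hX2
      · refine ⟨s * s, hss, ?_, ?_, ?_⟩
        · rw [cj_mul]; exact h2
        · rw [cj_mul, ← h2, hX3]; exact h1
        · rw [cj_mul, ← h1]; exact hX3
      · exfalso; apply hX12; rw [h2, h1]
  obtain ⟨t, ht, htA, htB, htC⟩ := hB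
  have ht2 : MulAut.conj t • P 2 = P 2 := cj_mem ht
  -- Step C: the neighbours of `P 3`
  have hC : ∀ x ∈ P 3, MulAut.conj x • P 2 = P 2 ∨ MulAut.conj x • P 2 = P 4 ∨
      MulAut.conj x • P 2 = MulAut.conj (y 0) • P 4 := by
    intro x hx
    have hidx : (P 3 ⊓ P 2).relIndex (P 3) = 3 := by have := C.idxL 3; rwa [e32] at this
    have hc2 : MulAut.conj (y 0 * g3⁻¹) • P 2 = MulAut.conj (y 0) • P 4 := by rw [cj_mul, hg3']
    have := three_nb hidx ((P 3).inv_mem hg3) ((P 3).mul_mem m03 ((P 3).inv_mem hg3)) ?_ ?_ ?_ hx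
    · rwa [hg3', hc2] at this
    · rw [hg3']; exact p24.symm
    · rw [hc2]
      intro h
      apply p24
      have : MulAut.conj (y 0) • P 4 = MulAut.conj (y 0) • P 2 := by rw [cj_mem m02]; exact h
      exact (cj_inj this).symm
    · rw [hg3', hc2]
      intro h
      exact m04 (C.selfnorm 4 _ h.symm)
  -- Step D: the neighbours of `P 1`
  have hD : ∀ x ∈ P 1, MulAut.conj x • P 2 = P 2 ∨ MulAut.conj x • P 2 = P 0 ∨
      MulAut.conj x • P 2 = MulAut.conj (y 4) • P 0 := by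
    intro x hx
    have hidx : (P 1 ⊓ P 2).relIndex (P 1) = 3 := by have := C.idxR 1; rwa [e12] at this
    have hc2 : MulAut.conj (y 4 * g1) • P 2 = MulAut.conj (y 4) • P 0 := by rw [cj_mul, hg1c]
    have := three_nb hidx hg1 ((P 1).mul_mem m41 hg1) ?_ ?_ ?_ hx
    · rwa [hg1c, hc2] at this
    · rw [hg1c]; exact p02
    · rw [hc2]
      intro h
      apply p02
      have : MulAut.conj (y 4) • P 0 = MulAut.conj (y 4) • P 2 := by rw [cj_mem m42]; exact h
      exact cj_inj this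
    · rw [hg1c, hc2]
      intro h
      exact m40 (C.selfnorm 0 _ h.symm)
  -- the `y`-element of `conj t • P 0`
  have ha : t * y 0 * t⁻¹ = y 4 ∨ t * y 0 * t⁻¹ = y 0 * y 4 * (y 0)⁻¹ := by
    have hx3 : t * g1 * t⁻¹ ∈ P 3 := by rw [← htA]; exact conj_mem_conj_smul hg1
    have hcx : MulAut.conj (t * g1 * t⁻¹) • P 2 = MulAut.conj t • P 0 := by
      rw [cj_conj _ _ _ ht2, hg1c]
    have h := hC _ hx3
    rw [hcx] at h
    rcases h with h | h | h
    · exfalso
      apply p02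
      rw [← ht2] at h
      exact cj_inj h
    · left; exact C.canon 0 4 t h
    · right
      have h2 : MulAut.conj ((y 0)⁻¹ * t) • P 0 = P 4 := by rw [cj_mul, h, cj_inv_cancel]
      have h3 := C.canon 0 4 _ h2
      rw [← h3]; group
  -- the `y`-element of `conj (t * t) • P 4`
  have htt1 : MulAut.conj (t * t) • P 3 = P 1 := by rw [cj_mul, htB, htC]
  have htt2 : MulAut.conj (t * t) • P 2 = P 2 := cj_mem ((P 2).mul_mem ht ht)
  have hz' : (t * t) * y 4 * (t * t)⁻¹ = y 0 ∨ (t * t) * y 4 * (t * t)⁻¹ = y 4 * y 0 * (y 4)⁻¹ := by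
    have hx1 : (t * t) * g3⁻¹ * (t * t)⁻¹ ∈ P 1 := by
      rw [← htt1]; exact conj_mem_conj_smul ((P 3).inv_mem hg3)
    have hcx : MulAut.conj ((t * t) * g3⁻¹ * (t * t)⁻¹) • P 2 = MulAut.conj (t * t) • P 4 := by
      rw [cj_conj _ _ _ htt2, hg3']
    have h := hD _ hx1
    rw [hcx] at h
    rcases h with h | h | h
    · exfalso
      apply p24
      rw [← htt2] at h
      exact (cj_inj h).symm
    · left; exact C.canon 4 0 _ h
    · right
      have h2 : MulAut.conj ((y 4)⁻¹ * (t * t)) • P 4 = P 0 := by rw [cj_mul, h, cj_inv_cancel]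
      have h3 := C.canon 4 0 _ h2
      rw [← h3]; group
  -- the `y`-element of `conj (y 5) • P 0`
  have hy52 : MulAut.conj (y 5) • P 2 = P 2 := cj_mem m52
  have hw : y 5 * y 0 * (y 5)⁻¹ = t * y 4 * t⁻¹ ∨
      y 5 * y 0 * (y 5)⁻¹ = t * (y 0 * y 4 * (y 0)⁻¹) * t⁻¹ := by
    have hx : y 5 * g1 * (y 5)⁻¹ ∈ MulAut.conj (y 5) • P 1 := conj_mem_conj_smul hg1
    have hcx : MulAut.conj (y 5 * g1 * (y 5)⁻¹) • P 2 = MulAut.conj (y 5) • P 0 := by
      rw [cj_conj _ _ _ hy52, hg1c]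
    have hu : t⁻¹ * (y 5 * g1 * (y 5)⁻¹) * t ∈ P 3 := by
      rw [← htB] at hx
      exact mem_conj_smul.mp hx
    have hcu : MulAut.conj (t⁻¹ * (y 5 * g1 * (y 5)⁻¹) * t) • P 2 =
        MulAut.conj t⁻¹ • (MulAut.conj (y 5) • P 0) := by
      rw [cj_mul, cj_mul, ht2, hcx]
    have h := hC _ hu
    rw [hcu] at h
    rcases h with h | h | h
    · exfalso
      apply p02
      have h2 : MulAut.conj (y 5) • P 0 = MulAut.conj (y 5) • P 2 := by
        rw [hy52]
        have := congrArg (fun X => MulAut.conj t • X) h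
        simp only [cj_cancel_inv] at this
        rw [this, ht2]
      exact cj_inj h2
    · left
      have h2 : MulAut.conj (t⁻¹ * y 5) • P 0 = P 4 := by rw [cj_mul]; exact h
      have h3 := C.canon 0 4 _ h2
      rw [← h3]; group
    · right
      have h2 : MulAut.conj ((y 0)⁻¹ * (t⁻¹ * y 5)) • P 0 = P 4 := by
        rw [cj_mul, cj_mul, h, cj_inv_cancel]
      have h3 := C.canon 0 4 _ h2
      rw [← h3]; group
  -- the algebra
  have E0 : y 0 * y 4 * y 0 * y 4 = y 2 := by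
    have := C.yrel 0
    rwa [show (0 : ℤ) + 4 = 4 by norm_num, show (0 : ℤ) + 2 = 2 by norm_num, yinv, yinv] at this
  have c20 : y 2 * y 0 = y 0 * y 2 := ycomm 2 0 (by norm_num)
  have c24 : y 2 * y 4 = y 4 * y 2 := ycomm 2 4 (by norm_num)
  have c25 : y 2 * y 5 = y 5 * y 2 := ycomm 2 5 (by norm_num)
  have c22 : y 2 * y 2 = 1 := C.ysq 2
  set z := t * y 4 * t⁻¹ with hz
  have hzP : z ∈ P 2 := (P 2).mul_mem ((P 2).mul_mem ht m42) ((P 2).inv_mem ht)
  have c2z : y 2 * z = z * y 2 := (C.ycen 2 z hzP).symm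
  have c2t : t * y 2 * t⁻¹ = y 2 := by rw [C.ycen 2 t ht]; group
  have hzz : z * z = 1 := by
    have : z * z = t * (y 4 * y 4) * t⁻¹ := by rw [hz]; group
    rw [this, C.ysq 4]; group
  have B0 : y 0 * y 4 * y 0 = y 2 * y 4 := alg_L3 E0 (C.ysq 4)
  have B0' : y 4 * y 0 * y 4 = y 2 * y 0 :=
    alg_L3 (alg_L4 E0 (C.ysq 0) (C.ysq 4) c22) (C.ysq 0)
  -- conjugate `E0` by `t`
  have E0t : (t * y 0 * t⁻¹) * z * (t * y 0 * t⁻¹) * z = y 2 := by
    have : (t * y 0 * t⁻¹) * z * (t * y 0 * t⁻¹) * z = t * (y 0 * y 4 * y 0 * y 4) * t⁻¹ := by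
      rw [hz]; group
    rw [this, E0, c2t]
  have E1 : y 4 * z * y 4 * z = y 2 := by
    rcases ha with ha | ha
    · rwa [ha] at E0t
    · rw [ha, yinv, B0] at E0t
      rwa [alg_L1 c24 c2z c22] at E0t
  -- conjugate `E1` by `t`
  have hz'eq : t * z * t⁻¹ = (t * t) * y 4 * (t * t)⁻¹ := by rw [hz]; group
  have E1t : z * (t * z * t⁻¹) * z * (t * z * t⁻¹) = y 2 := by
    have : z * (t * z * t⁻¹) * z * (t * z * t⁻¹) = t * (y 4 * z * y 4 * z) * t⁻¹ := by
      rw [hz]; group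
    rw [this, E1, c2t]
  have E2 : z * y 0 * z * y 0 = y 2 := by
    rw [hz'eq] at E1t
    rcases hz' with h | h
    · rwa [h] at E1t
    · rw [h, yinv, B0'] at E1t
      rwa [alg_L2 c2z c20 c22] at E1t
  have E3 : y 0 * z * y 0 * z = y 2 := alg_L4 E2 hzz (C.ysq 0) c22
  -- the final computation
  have hpow : (y 0 * y 5) ^ 4 =
      y 0 * (y 5 * y 0 * (y 5)⁻¹) * y 0 * (y 5 * y 0 * (y 5)⁻¹) := by
    have h5 : y 5 = (y 5)⁻¹ := (yinv 5).symm
    calc (y 0 * y 5) ^ 4 = y 0 * (y 5 * y 0 * y 5) * y 0 * (y 5 * y 0 * y 5) := by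
          simp only [pow_succ, pow_zero, one_mul, mul_assoc]
      _ = _ := by rw [← h5]
  rw [hpow]
  rcases hw with h | h
  · rw [h]; exact E3
  · have h2 : t * (y 0 * y 4 * (y 0)⁻¹) * t⁻¹ = y 2 * z := by
      rw [yinv, B0]
      have : t * (y 2 * y 4) * t⁻¹ = (t * y 2 * t⁻¹) * z := by rw [hz]; group
      rw [this, c2t]
    rw [h, h2, alg_L2 c20 c2z c22]
    exact E3

/-- the mirror image `j ↦ 5 - j` of a chain -/
theorem mirror (C : Chain3 P y) : Chain3 (fun j => P (5 - j)) (fun j => y (5 - j)) := by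
  have yinv : ∀ j, (y j)⁻¹ = y j := fun j => inv_eq_of_mul_eq_one_right (C.ysq j)
  refine ⟨?_, ?_, ?_, ?_, ?_, ?_, ?_, ?_, ?_, ?_, ?_, ?_, ?_, ?_, ?_⟩
  · intro j x h
    exact C.selfnorm (5 - j) x h
  · intro i j x h
    exact C.canon (5 - i) (5 - j) x h
  · intro j
    exact C.ysq (5 - j)
  · intro j x hx
    exact C.ycen (5 - j) x hx
  · intro i j h
    apply C.ymem (5 - i) (5 - j)
    rw [show (5 - i) - (5 - j) = -(i - j) by ring, abs_neg]
    exact h
  · intro j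
    constructor
    · show y (5 - j) ∉ P (5 - (j + 4))
      rw [show 5 - (j + 4) = 5 - j - 4 by ring]
      exact (C.ynot (5 - j)).2
    · show y (5 - j) ∉ P (5 - (j - 4))
      rw [show 5 - (j - 4) = 5 - j + 4 by ring]
      exact (C.ynot (5 - j)).1
  · intro j
    show y (5 - j) * y (5 - (j + 4)) * (y (5 - j))⁻¹ * (y (5 - (j + 4)))⁻¹ = y (5 - (j + 2))
    have h := C.yrel (5 - (j + 4))
    rw [show 5 - (j + 4) + 4 = 5 - j by ring, show 5 - (j + 4) + 2 = 5 - (j + 2) by ring] at h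
    have h2 : y (5 - j) * y (5 - (j + 4)) * (y (5 - j))⁻¹ * (y (5 - (j + 4)))⁻¹ =
        (y (5 - (j + 4)) * y (5 - j) * (y (5 - (j + 4)))⁻¹ * (y (5 - j))⁻¹)⁻¹ := by group
    rw [h2, h, yinv]
  · intro j
    show y (5 - j) ≠ y (5 - (j + 1))
    have h := C.yne (5 - (j + 1))
    rw [show 5 - (j + 1) + 1 = 5 - j by ring] at h
    exact h.symm
  · intro j
    show (P (5 - j) ⊓ P (5 - (j + 1))).relIndex (P (5 - j)) = 3
    rw [show 5 - (j + 1) = 5 - j - 1 by ring]
    exact C.idxL (5 - j)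
  · intro j
    show (P (5 - j) ⊓ P (5 - (j - 1))).relIndex (P (5 - j)) = 3
    rw [show 5 - (j - 1) = 5 - j + 1 by ring]
    exact C.idxR (5 - j)
  · intro j
    show ∃ g ∈ P (5 - j), MulAut.conj g • P (5 - (j + 1)) = P (5 - (j - 1))
    obtain ⟨g, hg, hgc⟩ := C.selfp (5 - j)
    refine ⟨g⁻¹, (P (5 - j)).inv_mem hg, ?_⟩
    rw [show 5 - (j + 1) = 5 - j - 1 by ring, show 5 - (j - 1) = 5 - j + 1 by ring, ← hgc,
      cj_inv_cancel]
  · intro j
    show P (5 - (j - 1)) ≠ P (5 - (j + 1))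
    rw [show 5 - (j + 1) = 5 - j - 1 by ring, show 5 - (j - 1) = 5 - j + 1 by ring]
    exact (C.pne (5 - j)).symm
  · intro j x hx
    show MulAut.conj x • (P (5 - (j - 1)) ⊓ P (5 - j) ⊓ P (5 - (j + 1))) =
      P (5 - (j - 1)) ⊓ P (5 - j) ⊓ P (5 - (j + 1))
    have h := C.qnorm (5 - j) x hx
    have e : P (5 - (j - 1)) ⊓ P (5 - j) ⊓ P (5 - (j + 1)) =
        P (5 - j - 1) ⊓ P (5 - j) ⊓ P (5 - j + 1) := by
      rw [show 5 - (j + 1) = 5 - j - 1 by ring, show 5 - (j - 1) = 5 - j + 1 by ring]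
      ac_rfl
    rw [e]
    exact h
  · intro j
    exact C.t3 (5 - j)
  · intro j t ht
    show orderOf t ≠ 3
    have ht' : t ∈ P (5 - j) ⊓ P (5 - (j + 1)) := ht
    apply C.no3 (5 - (j + 1)) t
    rw [show 5 - (j + 1) + 1 = 5 - j by ring]
    exact ⟨ht'.2, ht'.1⟩

/-- (9d): the case `l = 3` is impossible -/
theorem false (C : Chain3 P y) : False := by
  have h1 : (y 0 * y 5) ^ 4 = y 2 := C.half
  have h2 : (y 5 * y 0) ^ 4 = y 3 := by
    have := C.mirror.half
    simpa using this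
  have h3 : (y 5 * y 0) ^ 4 = y 5 * (y 0 * y 5) ^ 4 * (y 5)⁻¹ := by
    simp only [pow_succ, pow_zero, one_mul, mul_assoc, mul_inv_cancel, mul_one]
  have c25 : y 5 * y 2 = y 2 * y 5 := C.ycen 2 (y 5) (C.ymem 2 5 (by norm_num))
  have h4 : y 3 = y 2 := by
    rw [← h2, h3, h1, c25]; group
  have := C.yne 2
  rw [show (2 : ℤ) + 1 = 3 by norm_num] at this
  exact this h4.symm

end Chain3

end Cfsg.Agent.Lib.H26.Sims
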