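import Mathlib
import Cfsg.Agent.Lib.H26.TransvPair

set_option autoImplicit false

/-!
Transvections of a finite abelian `2`-group (helper26): in a group of automorphisms whose
`2`-subgroups have order at most `2`, the transvections lying in it are at most three, `u`, `v`, `uvu`.
-/

namespace Cfsg.Agent.Lib.H26.TransvPair

variable {A : Type*} [Group A]

theorem eq_of_card_two {L : Subgroup A} (hL : Nat.card L = 2) {a b : A} (ha : a ∈ L) (hb : b ∈ L)
    (ha1 : a ≠ 1) (hb1 : b ≠ 1) : a = b := by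
  obtain ⟨y, -, hy⟩ := (Nat.card_eq_two_iff' (1 : L)).1 hL
  have h1 : (⟨a, ha⟩ : L) = y := hy _ (fun h => ha1 (congrArg Subtype.val h))
  have h2 : (⟨b, hb⟩ : L) = y := hy _ (fun h => hb1 (congrArg Subtype.val h))
  exact congrArg Subtype.val (h1.trans h2.symm)

theorem mul_self_of_card_two {L : Subgroup A} (hL : Nat.card L = 2) {a : A} (ha : a ∈ L) :
    a * a = 1 := by
  have : Finite L := Nat.finite_of_card_ne_zero (by rw [hL]; norm_num)
  have : (⟨a, ha⟩ : L) ^ Nat.card L = 1 := pow_card_eq_one'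
  rw [hL, sq] at this
  exact congrArg Subtype.val this

theorem exists_ne_one_of_card_two {L : Subgroup A} (hL : Nat.card L = 2) : ∃ a ∈ L, a ≠ 1 := by
  obtain ⟨y, hy, -⟩ := (Nat.card_eq_two_iff' (1 : L)).1 hL
  exact ⟨y, y.2, fun h => hy (Subtype.ext h)⟩

theorem mem_zpowers_of_mul_self {G : Type*} [Group G] {u k : G} (hu : u * u = 1)
    (hk : k ∈ Subgroup.zpowers u) : k = 1 ∨ k = u := by
  obtain ⟨i, rfl⟩ := hk
  rcases Int.even_or_odd' i with ⟨m, rfl | rfl⟩
  · left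
    show u ^ (2 * m) = 1
    rw [zpow_mul, zpow_two, hu, one_zpow]
  · right
    show u ^ (2 * m + 1) = u
    rw [zpow_add, zpow_mul, zpow_two, hu, one_zpow, one_mul, zpow_one]

/-- A transvection: the fixed points have index `p` and `[A,u]` is fixed pointwise. -/
def IsTv (p : ℕ) (u : MulAut A) : Prop :=
  (fixSub u).index = p ∧ ∀ x : A, u (x⁻¹ * u x) = x⁻¹ * u x

theorem IsTv.conj {p : ℕ} {u : MulAut A} (h : IsTv p u) (g : MulAut A) :
    IsTv p (g * u * g⁻¹) := by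
  refine ⟨by rw [index_fixSub_conj]; exact h.1, fun x => ?_⟩
  show g (u (g⁻¹ (x⁻¹ * g (u (g⁻¹ x))))) = x⁻¹ * g (u (g⁻¹ x))
  have h1 := h.2 (g⁻¹ x)
  have h2 : g⁻¹ (x⁻¹ * g (u (g⁻¹ x))) = (g⁻¹ x)⁻¹ * u (g⁻¹ x) := by
    rw [map_mul, map_inv]
    simp
  rw [h2, h1, map_mul, map_inv]
  simp

theorem IsTv.ne_one {p : ℕ} (hp : p ≠ 1) {u : MulAut A} (h : IsTv p u) : u ≠ 1 := by
  intro h1
  apply hp
  rw [← h.1, h1]
  have : fixSub (1 : MulAut A) = ⊤ := by
    ext x
    simp [mem_fixSub]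
  rw [this, Subgroup.index_top]

theorem setup_of_tv [Finite A] {p : ℕ} [Fact p.Prime] (hc : ∀ x y : A, x * y = y * x)
    (hA : IsPGroup p A) {u v : MulAut A} (hu : IsTv p u) (hv : IsTv p v)
    (hnotp : ¬ IsPGroup p (Subgroup.closure ({u, v} : Set (MulAut A)))) :
    Setup p u v (movSub hc u) (movSub hc v) where
  comm := hc
  pgrp := hA
  cardLu := by rw [card_movSub, hu.1]
  cardLv := by rw [card_movSub, hv.1]
  u_mv := fun x => ⟨x, rfl⟩
  u_fix := by
    rintro _ ⟨x, rfl⟩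
    exact hu.2 x
  v_mv := fun x => ⟨x, rfl⟩
  v_fix := by
    rintro _ ⟨x, rfl⟩
    exact hv.2 x
  idx_u := hu.1
  idx_v := hv.1
  notp := hnotp

theorem IsTv.mul_self [Finite A] (hc : ∀ x y : A, x * y = y * x) {u : MulAut A}
    (hu : IsTv 2 u) : u * u = 1 := by
  ext x
  show u (u x) = x
  have hm : x⁻¹ * u x ∈ movSub hc u := ⟨x, rfl⟩
  have hcard : Nat.card (movSub hc u) = 2 := by rw [card_movSub, hu.1]
  have h1 := mul_self_of_card_two hcard hm
  calc u (u x) = u (x * (x⁻¹ * u x)) := by rw [mul_inv_cancel_left]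
    _ = u x * (x⁻¹ * u x) := by rw [map_mul, hu.2]
    _ = x * ((x⁻¹ * u x) * (x⁻¹ * u x)) := by group
    _ = x := by rw [h1, mul_one]

theorem IsTv.inv_eq [Finite A] (hc : ∀ x y : A, x * y = y * x) {u : MulAut A}
    (hu : IsTv 2 u) : u⁻¹ = u := inv_eq_of_mul_eq_one_right (hu.mul_self hc)

namespace Setup

variable {u v : MulAut A} {Lu Lv : Subgroup A}

theorem apply_two [Finite A] (h : Setup 2 u v Lu Lv) {a b : A} (ha : a ∈ Lu) (ha1 : a ≠ 1)
    (hb : b ∈ Lv) (hb1 : b ≠ 1) : u b = b * a := by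
  have h1 : b⁻¹ * u b ∈ Lu := h.u_mv b
  have h2 : b⁻¹ * u b ≠ 1 := by
    intro h0
    have : u b = b := by
      rw [inv_mul_eq_one] at h0
      exact h0.symm
    exact h.not_fix_u (fixes_of_prime_card h.cardLv hb hb1 u this)
  have := eq_of_card_two h.cardLu h1 ha h2 ha1
  rw [← this, mul_inv_cancel_left]

/-- `W` has exponent `2`. -/
theorem W_mul_self [Finite A] (h : Setup 2 u v Lu Lv) {w : A} (hw : w ∈ Lu ⊔ Lv) : w * w = 1 := by
  obtain ⟨a, ha, b, hb, rfl⟩ := h.mem_sup.1 hw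
  have h1 := mul_self_of_card_two h.cardLu ha
  have h2 := mul_self_of_card_two h.cardLv hb
  calc a * b * (a * b) = a * (b * a) * b := by group
    _ = a * (a * b) * b := by rw [h.comm b a]
    _ = (a * a) * (b * b) := by group
    _ = 1 := by rw [h1, h2, one_mul]

/-- `W ∩ C_A(u) = [A,u]`. -/
theorem W_inf_fix_le [Finite A] (h : Setup 2 u v Lu Lv) : (Lu ⊔ Lv) ⊓ fixSub u ≤ Lu := by
  rintro w ⟨hwW, hwu⟩
  rw [h.fix_u_eq] at hwu
  haveI := normal_of_comm h.comm (fixSub u ⊓ fixSub v)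
  obtain ⟨l, hl, c, hcC, rfl⟩ := Subgroup.mem_sup_of_normal_right.1 hwu
  have hcW : c ∈ Lu ⊔ Lv := by
    have : c = l⁻¹ * (l * c) := by group
    rw [this]
    exact Subgroup.mul_mem _ (Subgroup.inv_mem _ (le_sup_left (a := Lu) hl)) hwW
  have : c ∈ (Lu ⊔ Lv) ⊓ (fixSub u ⊓ fixSub v) := ⟨hcW, hcC⟩
  rw [h.inf_eq_bot, Subgroup.mem_bot] at this
  rw [this, mul_one]
  exact hl

/-- `u` maps `W` into `W`. -/
theorem u_W_mem (h : Setup 2 u v Lu Lv) {w : A} (hw : w ∈ Lu ⊔ Lv) : u w ∈ Lu ⊔ Lv := by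
  have : u w = w * (w⁻¹ * u w) := by group
  rw [this]
  exact Subgroup.mul_mem _ hw (le_sup_left (a := Lu) (h.u_mv w))

end Setup

/-- Three transvections pairwise not generating a `2`-group: contradiction. -/
theorem three_tv [Finite A] (hc : ∀ x y : A, x * y = y * x) (hA : IsPGroup 2 A)
    {u v v' : MulAut A} (hu : IsTv 2 u) (hv : IsTv 2 v) (hv' : IsTv 2 v')
    (h1 : ¬ IsPGroup 2 (Subgroup.closure ({u, v} : Set (MulAut A))))
    (h2 : ¬ IsPGroup 2 (Subgroup.closure ({u, v'} : Set (MulAut A))))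
    (h3 : ¬ IsPGroup 2 (Subgroup.closure ({v, v'} : Set (MulAut A))))
    (h4 : ¬ IsPGroup 2 (Subgroup.closure ({u * v * u⁻¹, v'} : Set (MulAut A)))) : False := by
  have S1 := setup_of_tv hc hA hu hv h1
  have S2 := setup_of_tv hc hA hu hv' h2
  have S3 := setup_of_tv hc hA hv hv' h3
  have S4 := setup_of_tv hc hA (hv.conj u) hv' h4
  obtain ⟨a, ha, ha1⟩ := exists_ne_one_of_card_two S1.cardLu
  obtain ⟨b, hb, hb1⟩ := exists_ne_one_of_card_two S1.cardLv
  obtain ⟨c, hc', hc1⟩ := exists_ne_one_of_card_two S2.cardLv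
  have e1 : u b = b * a := S1.apply_two ha ha1 hb hb1
  have e2 : v' a = a * c := S2.symm.apply_two hc' hc1 ha ha1
  have e3 : v' b = b * c := S3.symm.apply_two hc' hc1 hb hb1
  have hw : b * a ∈ movSub hc (u * v * u⁻¹) := by
    rw [movSub_conj]
    exact ⟨b, hb, e1⟩
  have hw1 : b * a ≠ 1 := by
    intro h0
    rw [← e1] at h0
    exact hb1 (u.injective (h0.trans (map_one u).symm))
  have e4 : v' (b * a) = (b * a) * c := S4.symm.apply_two hc' hc1 hw hw1
  rw [map_mul, e2, e3] at e4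
  have hcc : c * c = 1 := mul_self_of_card_two S2.cardLv hc'
  have h5 : b * c * (a * c) = b * a := by
    calc b * c * (a * c) = b * (c * a) * c := by group
      _ = b * (a * c) * c := by rw [hc c a]
      _ = b * a * (c * c) := by group
      _ = b * a := by rw [hcc, mul_one]
  rw [h5] at e4
  apply hc1
  have : b * a * 1 = b * a * c := by rw [mul_one]; exact e4
  exact (mul_left_cancel this).symm

section sylow

variable [Finite A] {G : Subgroup (MulAut A)} {u : MulAut A}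

/-- Two distinct nontrivial elements of `G` do not generate a `2`-group, when the `2`-subgroups of
`G` are conjugate into `⟨u⟩`. -/
theorem not_isPGroup_closure_of_ne (hc : ∀ x y : A, x * y = y * x) (hu : IsTv 2 u)
    (hsyl : ∀ K : Subgroup (MulAut A), K ≤ G → IsPGroup 2 K →
      ∃ a : MulAut A, ∀ k ∈ K, a * k * a⁻¹ ∈ Subgroup.zpowers u)
    {t t' : MulAut A} (ht : t ∈ G) (ht' : t' ∈ G) (ht1 : t ≠ 1) (ht'1 : t' ≠ 1) (hne : t ≠ t') :
    ¬ IsPGroup 2 (Subgroup.closure ({t, t'} : Set (MulAut A))) := by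
  intro hK
  have hle : Subgroup.closure ({t, t'} : Set (MulAut A)) ≤ G := by
    rw [Subgroup.closure_le]
    rintro x (rfl | hx)
    · exact ht
    · rw [Set.mem_singleton_iff] at hx
      rw [hx]; exact ht'
  obtain ⟨a, ha⟩ := hsyl _ hle hK
  have huu := hu.mul_self hc
  have h1 := mem_zpowers_of_mul_self huu (ha t (Subgroup.subset_closure (Set.mem_insert _ _)))
  have h2 := mem_zpowers_of_mul_self huu
    (ha t' (Subgroup.subset_closure (Set.mem_insert_of_mem _ rfl)))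
  have conj_ne : ∀ s : MulAut A, s ≠ 1 → a * s * a⁻¹ ≠ 1 := by
    intro s hs h0
    apply hs
    have : a * s * a⁻¹ = a * 1 * a⁻¹ := by rw [h0]; group
    exact mul_left_cancel (mul_right_cancel this)
  rcases h1 with h1 | h1
  · exact conj_ne t ht1 h1
  rcases h2 with h2 | h2
  · exact conj_ne t' ht'1 h2
  apply hne
  have : a * t * a⁻¹ = a * t' * a⁻¹ := h1.trans h2.symm
  exact mul_left_cancel (mul_right_cancel this)

/-- At most three transvections. -/
theorem tv_mem_three (hc : ∀ x y : A, x * y = y * x) (hA : IsPGroup 2 A) (hu : IsTv 2 u)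
    (hsyl : ∀ K : Subgroup (MulAut A), K ≤ G → IsPGroup 2 K →
      ∃ a : MulAut A, ∀ k ∈ K, a * k * a⁻¹ ∈ Subgroup.zpowers u)
    {t₁ t₂ t₃ : MulAut A} (h₁ : t₁ ∈ G) (h₂ : t₂ ∈ G) (h₃ : t₃ ∈ G) (hv₁ : IsTv 2 t₁)
    (hv₂ : IsTv 2 t₂) (hv₃ : IsTv 2 t₃) (hne : t₁ ≠ t₂) :
    t₃ = t₁ ∨ t₃ = t₂ ∨ t₃ = t₁ * t₂ * t₁⁻¹ := by
  by_contra hcon
  push Not at hcon
  obtain ⟨n1, n2, n3⟩ := hcon
  have two : (2 : ℕ) ≠ 1 := by norm_num
  apply three_tv hc hA hv₁ hv₂ hv₃
  · exact not_isPGroup_closure_of_ne hc hu hsyl h₁ h₂ (hv₁.ne_one two) (hv₂.ne_one two) hne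
  · exact not_isPGroup_closure_of_ne hc hu hsyl h₁ h₃ (hv₁.ne_one two) (hv₃.ne_one two)
      (Ne.symm n1)
  · exact not_isPGroup_closure_of_ne hc hu hsyl h₂ h₃ (hv₂.ne_one two) (hv₃.ne_one two)
      (Ne.symm n2)
  · exact not_isPGroup_closure_of_ne hc hu hsyl
      (G.mul_mem (G.mul_mem h₁ h₂) (G.inv_mem h₁)) h₃ ((hv₂.conj t₁).ne_one two)
      (hv₃.ne_one two) (Ne.symm n3)

end sylow

section three

variable [Finite A] {G : Subgroup (MulAut A)} {u v : MulAut A}

theorem fix_of_three {t : MulAut A} (ht : t = u ∨ t = v ∨ t = u * v * u⁻¹) {c : A}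
    (hcu : u c = c) (hcv : v c = c) : t c = c := by
  rcases ht with rfl | rfl | rfl
  · exact hcu
  · exact hcv
  · have h1 : u⁻¹ c = c := by
      have := congrArg (fun y => u⁻¹ y) hcu
      simpa using this.symm
    show u (v (u⁻¹ c)) = c
    rw [h1, hcv, hcu]

theorem fix_of_mem_closure {k : MulAut A}
    (hk : k ∈ Subgroup.closure ({u, v} : Set (MulAut A)))
    {c : A} (hcu : u c = c) (hcv : v c = c) : k c = c := by
  induction hk using Subgroup.closure_induction with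
  | mem x hx =>
    rcases hx with rfl | hx
    · exact hcu
    · rw [Set.mem_singleton_iff] at hx
      rw [hx]; exact hcv
  | one => rfl
  | mul a b _ _ iha ihb =>
    show a (b c) = c
    rw [ihb, iha]
  | inv a _ iha =>
    have := congrArg (fun y => a⁻¹ y) iha
    simpa using this.symm

/-- The standing hypotheses on `G`, `u`, `v`. -/
structure Three (hc : ∀ x y : A, x * y = y * x) (G : Subgroup (MulAut A)) (u v : MulAut A) :
    Prop where
  pgrp : IsPGroup 2 A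
  uG : u ∈ G
  vG : v ∈ G
  tu : IsTv 2 u
  tv : IsTv 2 v
  ne : u ≠ v
  syl : ∀ K : Subgroup (MulAut A), K ≤ G → IsPGroup 2 K →
      ∃ a : MulAut A, ∀ k ∈ K, a * k * a⁻¹ ∈ Subgroup.zpowers u

namespace Three

variable {hc : ∀ x y : A, x * y = y * x}

theorem setup (h : Three hc G u v) : Setup 2 u v (movSub hc u) (movSub hc v) :=
  setup_of_tv hc h.pgrp h.tu h.tv
    (not_isPGroup_closure_of_ne hc h.tu h.syl h.uG h.vG (h.tu.ne_one (by norm_num))
      (h.tv.ne_one (by norm_num)) h.ne)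

/-- Every conjugate of `u` or `v` under `G` is one of `u`, `v`, `uvu⁻¹`. -/
theorem conj_mem (h : Three hc G u v) {α : MulAut A} (hα : α ∈ G) {t : MulAut A}
    (ht : t = u ∨ t = v) :
    α * t * α⁻¹ = u ∨ α * t * α⁻¹ = v ∨ α * t * α⁻¹ = u * v * u⁻¹ := by
  have htG : t ∈ G := by rcases ht with rfl | rfl; exact h.uG; exact h.vG
  have htv : IsTv 2 t := by rcases ht with rfl | rfl; exact h.tu; exact h.tv
  exact tv_mem_three hc h.pgrp h.tu h.syl h.uG h.vG (G.mul_mem (G.mul_mem hα htG) (G.inv_mem hα))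
    h.tu h.tv (htv.conj α) h.ne

/-- `C = C_A(u) ∩ C_A(v)` is `G`-invariant. -/
theorem fix_conj (h : Three hc G u v) {α : MulAut A} (hα : α ∈ G) {c : A} (hcu : u c = c)
    (hcv : v c = c) : u (α c) = α c ∧ v (α c) = α c := by
  have key : ∀ t : MulAut A, (t = u ∨ t = v) → t (α c) = α c := by
    intro t ht
    have h1 := h.conj_mem (G.inv_mem hα) ht
    rw [inv_inv] at h1
    have h2 := fix_of_three h1 hcu hcv
    have h3 : α⁻¹ (t (α c)) = c := h2
    have := congrArg (fun y => α y) h3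
    simpa using this
  exact ⟨key u (Or.inl rfl), key v (Or.inr rfl)⟩

theorem movSub_le_of_three (h : Three hc G u v) {t : MulAut A}
    (ht : t = u ∨ t = v ∨ t = u * v * u⁻¹) : movSub hc t ≤ movSub hc u ⊔ movSub hc v := by
  rcases ht with rfl | rfl | rfl
  · exact le_sup_left
  · exact le_sup_right
  · rw [movSub_conj]
    rintro _ ⟨y, hy, rfl⟩
    exact h.setup.u_W_mem (le_sup_right (a := movSub hc u) hy)

/-- `W = [A,u][A,v]` is `G`-invariant. -/
theorem W_conj (h : Three hc G u v) {α : MulAut A} (hα : α ∈ G) {w : A}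
    (hw : w ∈ movSub hc u ⊔ movSub hc v) : α w ∈ movSub hc u ⊔ movSub hc v := by
  have hle : (movSub hc u ⊔ movSub hc v).map α.toMonoidHom ≤ movSub hc u ⊔ movSub hc v := by
    rw [Subgroup.map_sup, ← movSub_conj, ← movSub_conj]
    exact sup_le (h.movSub_le_of_three (h.conj_mem hα (Or.inl rfl)))
      (h.movSub_le_of_three (h.conj_mem hα (Or.inr rfl)))
  exact hle ⟨w, hw, rfl⟩

theorem conj_ne (h : Three hc G u v) : v ≠ u * v * u⁻¹ := by
  intro heq
  have S1 := h.setup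
  obtain ⟨a, ha, ha1⟩ := exists_ne_one_of_card_two S1.cardLu
  obtain ⟨b, hb, hb1⟩ := exists_ne_one_of_card_two S1.cardLv
  have e1 : u b = b * a := S1.apply_two ha ha1 hb hb1
  have hw : b * a ∈ movSub hc (u * v * u⁻¹) := by
    rw [movSub_conj]
    exact ⟨b, hb, e1⟩
  rw [← heq] at hw
  have haL : a ∈ movSub hc v := by
    have : a = b⁻¹ * (b * a) := by group
    rw [this]
    exact Subgroup.mul_mem _ (Subgroup.inv_mem _ hb) hw
  have : a ∈ movSub hc u ⊓ movSub hc v := ⟨ha, haL⟩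
  rw [S1.Lu_inf_Lv, Subgroup.mem_bot] at this
  exact ha1 this

/-- The braid relation, in the form `u = (vu) v (vu)⁻¹`. -/
theorem braid (h : Three hc G u v) : u = v * (u * v * u⁻¹) * v⁻¹ := by
  have h3 := tv_mem_three hc h.pgrp h.tu h.syl h.vG
    (G.mul_mem (G.mul_mem h.uG h.vG) (G.inv_mem h.uG)) h.uG h.tv (h.tv.conj u) h.tu h.conj_ne
  rcases h3 with h3 | h3 | h3
  · exact absurd h3 h.ne
  · exfalso
    apply h.ne
    have : u * u * u⁻¹ = u * v * u⁻¹ := by rw [← h3]; group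
    exact mul_left_cancel (mul_right_cancel this)
  · exact h3

/-- Frattini argument: every conjugate of `u` under `G` is a conjugate under `⟨u, v⟩`. -/
theorem exists_closure_conj (h : Three hc G u v) {α : MulAut A} (hα : α ∈ G) :
    ∃ k ∈ Subgroup.closure ({u, v} : Set (MulAut A)), k * u * k⁻¹ = α * u * α⁻¹ := by
  have hu_mem : u ∈ Subgroup.closure ({u, v} : Set (MulAut A)) :=
    Subgroup.subset_closure (Set.mem_insert u _)
  have hv_mem : v ∈ Subgroup.closure ({u, v} : Set (MulAut A)) :=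
    Subgroup.subset_closure (Set.mem_insert_of_mem u rfl)
  have hb := h.braid
  have hk1 : (v * u)⁻¹ * u * (v * u)⁻¹⁻¹ = v := by
    have : (v * u)⁻¹ * (v * (u * v * u⁻¹) * v⁻¹) * (v * u)⁻¹⁻¹ = v := by group
    rwa [← hb] at this
  rcases h.conj_mem hα (Or.inl rfl) with h1 | h1 | h1
  · exact ⟨1, Subgroup.one_mem _, by rw [h1]; group⟩
  · refine ⟨(v * u)⁻¹, Subgroup.inv_mem _ (Subgroup.mul_mem _ hv_mem hu_mem), ?_⟩
    rw [h1, hk1]
  · refine ⟨u * (v * u)⁻¹, Subgroup.mul_mem _ hu_mem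
      (Subgroup.inv_mem _ (Subgroup.mul_mem _ hv_mem hu_mem)), ?_⟩
    rw [h1]
    calc u * (v * u)⁻¹ * u * (u * (v * u)⁻¹)⁻¹
        = u * ((v * u)⁻¹ * u * (v * u)⁻¹⁻¹) * u⁻¹ := by group
      _ = u * v * u⁻¹ := by rw [hk1]

end Three

end three

end Cfsg.Agent.Lib.H26.TransvPair
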