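import Mathlib
import Cfsg.Prelude.Def_FusionSystem
import Cfsg.Agent.Lib.H26.TransvTwo
import Cfsg.Agent.Lib.H26.SmallCenterOdd

set_option autoImplicit false

/-!
The structure of an essential subgroup `T` of a saturated fusion system on a `2`-group `S` with
`|S : Z(S)| = 4` (helper26): `T = W × C` with `W` a four-group containing `[S,S]` and a noncentral
involution, `C ≤ Z(S)`, both invariant under `Aut_F(T)`, and the Frattini argument
`Aut_F(T) = ⟨u,v⟩ N(Aut_S(T))`.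
-/

namespace Cfsg.Agent.Lib.H26.SmallCenter

open Cfsg Cfsg.FusionSystem Cfsg.Agent.Lib.H25 Cfsg.Agent.Lib.H26.TransvPair

variable {Ω : Type*} [Group Ω] {S : Subgroup Ω} {p : ℕ} [Fact p.Prime] [Finite S]

/-- An element of `Aut_F(T)` normalizing `Aut_S(T)` extends to `S`. -/
theorem exists_extend_of_conj_mem (hS : IsPGroup p S) (h : Ctx p S) {F : FusionSystem S}
    (hF : F.IsSaturated p) {T : Subgroup Ω} (hT : F.IsEssential p T) {x : Ω} (d : XData S T x)
    {α : MulAut T} (hα : α ∈ F.autGroup T) (hcase : α * d.uAut h * α⁻¹ ∈ autInducedBy S T) :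
    ∃ γ ∈ F.autGroup S, ∀ t : T, ((γ ⟨t, d.mid.le t.2⟩ : S) : Ω) = ((α t : T) : Ω) := by
  have hTS : T ≤ S := d.mid.le
  have hf := isIso_of_mem_autGroup F hTS hα
  obtain ⟨hfc, -⟩ := fullyNormalized_props hS hF hT.2.1
  have hrec := isReceptive_of_fullyCentralized hS hF hfc
  obtain ⟨f', N', hf', hf'T⟩ := IsReceptive_extend hrec hf S (by
    intro s hs
    have hsN : s ∈ Subgroup.normalizer (T : Set Ω) := h.mid_le_normalizer d.mid hs
    have h1 : cAut T s hsN ∈ Subgroup.zpowers (d.uAut h) :=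
      d.autInducedBy_le_zpowers h (cAut_mem_autInducedBy hs hsN)
    have h2 : α * cAut T s hsN * α⁻¹ ∈ autInducedBy S T := by
      obtain ⟨i, hi⟩ := h1
      have hi' : d.uAut h ^ i = cAut T s hsN := hi
      rw [← hi', ← conj_zpow]
      exact Subgroup.zpow_mem _ hcase i
    obtain ⟨s', hs', hs'α⟩ := (mem_autInducedBy_iff S T _).1 h2
    refine ⟨hs, hsN, s', hs', fun e he => ?_⟩
    have hse : s * e * s⁻¹ ∈ T := h.mid_conj_mem d.mid hs he
    rw [ext1_apply_mem _ hse, ext1_apply_mem _ he]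
    show ((α ⟨s * e * s⁻¹, hse⟩ : T) : Ω) = s' * ((α ⟨e, he⟩ : T) : Ω) * s'⁻¹
    have h3 := hs'α (α ⟨e, he⟩)
    rw [← h3]
    show _ = ((α (cAut T s hsN (α⁻¹ (α ⟨e, he⟩))) : T) : Ω)
    have h4 : α⁻¹ (α ⟨e, he⟩) = ⟨e, he⟩ := by simp
    rw [h4]
    rfl)
  have hN'S : N' = S := by
    apply Subgroup.eq_of_le_of_card_ge hf'.le_right
    rw [hf'.card_eq]
  rw [hN'S] at hf'
  obtain ⟨γ, hγ, hγf⟩ := exists_mem_autGroup_of_isIso F hf'
  refine ⟨γ, hγ, fun t => ?_⟩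
  rw [hγf, hf'T _ t.2 (hTS t.2), ext1_apply_mem _ t.2]
  rfl

/-- The structure of an essential subgroup, `p = 2`. -/
structure EssData (F : FusionSystem S) (T W C : Subgroup Ω) : Prop where
  mid : Ctx.Mid S T
  W_le : W ≤ T
  C_le : C ≤ centralizerIn S S
  der_le : derS S ≤ W
  W_inf : W ⊓ centralizerIn S S ≤ derS S
  der_inf : derS S ⊓ C = ⊥
  decomp : ∀ t ∈ T, ∃ w ∈ W, ∃ c ∈ C, t = w * c
  sq : ∀ w ∈ W, w * w = 1
  nc : ∃ b ∈ W, b ∉ centralizerIn S S
  W_inv : ∀ α ∈ F.autGroup T, ∀ w : T, (w : Ω) ∈ W → ((α w : T) : Ω) ∈ W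
  C_inv : ∀ α ∈ F.autGroup T, ∀ c : T, (c : Ω) ∈ C → ((α c : T) : Ω) ∈ C
  ext : ∀ α ∈ F.autGroup T, ∃ k ∈ F.autGroup T, (∀ c : T, (c : Ω) ∈ C → k c = c) ∧
      ∃ β ∈ F.autGroup S, ∀ t : T, ((β ⟨t, mid.le t.2⟩ : S) : Ω) = (((k⁻¹ * α) t : T) : Ω)

theorem exists_essData (hS : IsPGroup 2 S) (h : Ctx 2 S) {F : FusionSystem S}
    (hF : F.IsSaturated 2) {T : Subgroup Ω} (hT : F.IsEssential 2 T) :
    ∃ W C : Subgroup Ω, EssData F T W C := by
  obtain ⟨x, d, g, hg, hv⟩ := exists_xdata hS h hF hT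
  have hTS : T ≤ S := d.mid.le
  have hfinT : Finite T := finite_of_le S hTS
  have hc := d.hcE h
  obtain ⟨-, hfa⟩ := fullyNormalized_props hS hF hT.2.1
  have huA : d.uAut h ∈ F.autGroup T := autInducedBy_le_autGroup F hTS (d.uAut_mem h)
  have hvA : g * d.uAut h * g⁻¹ ∈ F.autGroup T :=
    Subgroup.mul_mem _ (Subgroup.mul_mem _ hg huA) (Subgroup.inv_mem _ hg)
  have htu : IsTv 2 (d.uAut h) := ⟨d.index_fixSub_uAut h, d.uAut_fix h⟩
  have h3 : Three hc (F.autGroup T) (d.uAut h) (g * d.uAut h * g⁻¹) :=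
    { pgrp := hS.to_le hTS
      uG := huA
      vG := hvA
      tu := htu
      tv := htu.conj g
      ne := fun heq => hv (heq ▸ d.uAut_mem h)
      syl := by
        intro K hKA hK
        obtain ⟨a, -, ha⟩ := IsFullyAutomized_exists_conj hfa K hK hKA
        exact ⟨a, fun k hk => d.autInducedBy_le_zpowers h (ha k hk)⟩ }
  have hset := h3.setup
  have hder := d.derS_eq h
  refine ⟨(movSub hc (d.uAut h) ⊔ movSub hc (g * d.uAut h * g⁻¹)).map T.subtype, cSub d h g, ?_⟩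
  refine
    { mid := d.mid
      W_le := Subgroup.map_subtype_le _
      C_le := ?_
      der_le := ?_
      W_inf := ?_
      der_inf := ?_
      decomp := ?_
      sq := ?_
      nc := ?_
      W_inv := ?_
      C_inv := ?_
      ext := ?_ }
  · rintro _ ⟨e, ⟨he1, -⟩, rfl⟩
    exact (d.mem_fixSub_uAut h e).1 he1
  · rw [hder]
    exact Subgroup.map_mono le_sup_left
  · rintro _ ⟨⟨w, hw, rfl⟩, hz⟩
    have hwu : w ∈ fixSub (d.uAut h) := (d.mem_fixSub_uAut h w).2 hz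
    rw [hder]
    exact ⟨w, hset.W_inf_fix_le ⟨hw, hwu⟩, rfl⟩
  · rw [eq_bot_iff]
    rintro y ⟨hy1, hy2⟩
    rw [Subgroup.mem_bot]
    rw [hder] at hy1
    obtain ⟨l', hl', rfl⟩ := hy1
    obtain ⟨c', hc', hcl⟩ := hy2
    have : c' = l' := Subtype.ext hcl
    subst this
    have hmem : c' ∈ (movSub hc (d.uAut h) ⊔ movSub hc (g * d.uAut h * g⁻¹)) ⊓
        (fixSub (d.uAut h) ⊓ fixSub (g * d.uAut h * g⁻¹)) :=
      ⟨le_sup_left (a := movSub hc (d.uAut h)) hl', hc'⟩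
    rw [hset.inf_eq_bot, Subgroup.mem_bot] at hmem
    rw [hmem]
    rfl
  · intro t ht
    have hmem : (⟨t, ht⟩ : T) ∈ (movSub hc (d.uAut h) ⊔ movSub hc (g * d.uAut h * g⁻¹)) ⊔
        (fixSub (d.uAut h) ⊓ fixSub (g * d.uAut h * g⁻¹)) := by
      rw [hset.sup_eq_top]; exact Subgroup.mem_top _
    haveI := normal_of_comm hc (fixSub (d.uAut h) ⊓ fixSub (g * d.uAut h * g⁻¹))
    obtain ⟨w, hw, c, hcC, hwc⟩ := Subgroup.mem_sup_of_normal_right.1 hmem
    refine ⟨(w : Ω), ⟨w, hw, rfl⟩, (c : Ω), ⟨c, hcC, rfl⟩, ?_⟩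
    exact (congrArg Subtype.val hwc).symm
  · rintro _ ⟨w, hw, rfl⟩
    have := hset.W_mul_self hw
    exact congrArg Subtype.val this
  · obtain ⟨a, ha, ha1⟩ := exists_ne_one_of_card_two hset.cardLu
    obtain ⟨b, hb, hb1⟩ := exists_ne_one_of_card_two hset.cardLv
    have e1 : d.uAut h b = b * a := hset.apply_two ha ha1 hb hb1
    refine ⟨(b : Ω), ⟨b, le_sup_right (a := movSub hc (d.uAut h)) hb, rfl⟩, fun hbZ => ?_⟩
    have hfix : d.uAut h b = b := (d.mem_fixSub_uAut h b).2 hbZ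
    rw [hfix] at e1
    apply ha1
    have : b * 1 = b * a := by rw [mul_one]; exact e1
    exact (mul_left_cancel this).symm
  · rintro α hα w ⟨w', hw', hww'⟩
    have : w' = w := Subtype.ext hww'
    subst this
    exact ⟨α w', h3.W_conj hα hw', rfl⟩
  · rintro α hα c ⟨c', hc', hcc'⟩
    have : c' = c := Subtype.ext hcc'
    subst this
    obtain ⟨h1, h2⟩ := h3.fix_conj hα hc'.1 hc'.2
    exact ⟨α c', ⟨h1, h2⟩, rfl⟩
  · intro α hα
    obtain ⟨k, hk, hku⟩ := h3.exists_closure_conj hα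
    have hkA : k ∈ F.autGroup T := by
      have hle : Subgroup.closure ({d.uAut h, g * d.uAut h * g⁻¹} : Set (MulAut T)) ≤
          F.autGroup T := by
        rw [Subgroup.closure_le]
        rintro β (rfl | hβ)
        · exact huA
        · rw [Set.mem_singleton_iff] at hβ
          rw [hβ]; exact hvA
      exact hle hk
    refine ⟨k, hkA, ?_, ?_⟩
    · rintro c ⟨c', hc', hcc'⟩
      have : c' = c := Subtype.ext hcc'
      subst this
      exact fix_of_mem_closure hk hc'.1 hc'.2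
    · have hkα : k⁻¹ * α ∈ F.autGroup T := Subgroup.mul_mem _ (Subgroup.inv_mem _ hkA) hα
      have hcase : (k⁻¹ * α) * d.uAut h * (k⁻¹ * α)⁻¹ ∈ autInducedBy S T := by
        have : (k⁻¹ * α) * d.uAut h * (k⁻¹ * α)⁻¹ = k⁻¹ * (α * d.uAut h * α⁻¹) * k := by group
        rw [this, ← hku]
        have : k⁻¹ * (k * d.uAut h * k⁻¹) * k = d.uAut h := by group
        rw [this]
        exact d.uAut_mem h
      exact exists_extend_of_conj_mem hS h hF hT d hkα hcase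

end Cfsg.Agent.Lib.H26.SmallCenter
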