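import Mathlib
import Cfsg.Prelude.Def_FusionSystem
import Cfsg.Agent.Lib.H1.TwoInvolutions
import Cfsg.Agent.Lib.H26.SmallCenterTwo

set_option autoImplicit false

/-!
A saturated fusion system on a `2`-group `S` with `|S : Z(S)| = 4`, no nontrivial normal subgroup
and hyperfocal subgroup `S` (helper26): `Z(S) = [S,S]` and `S` is dihedral of order `8`.
-/

namespace Cfsg.Agent.Lib.H26.SmallCenter

open Cfsg Cfsg.FusionSystem Cfsg.Agent.Lib.H25 Cfsg.Agent.Lib.H26.TransvPair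

variable {Ω : Type*} [Group Ω] {S : Subgroup Ω} [Finite S]

/-- Distinct subgroups strictly between `Z(S)` and `S` meet in `Z(S)`. -/
theorem mid_inf_le {p : ℕ} [Fact p.Prime] (h : Ctx p S) {T T' : Subgroup Ω} (hT : Ctx.Mid S T)
    (hT' : Ctx.Mid S T') (hne : T ≠ T') : T ⊓ T' ≤ centralizerIn S S := by
  have hfinT : Finite T := finite_of_le S hT.le
  have hfinT' : Finite T' := finite_of_le S hT'.le
  have hnle : ¬ T' ≤ T := by
    intro hle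
    apply hne
    obtain ⟨h1, -⟩ := h.card_mid hT.zle hT.le hT.ne_top hT.not_le
    obtain ⟨h2, -⟩ := h.card_mid hT'.zle hT'.le hT'.ne_top hT'.not_le
    exact (Subgroup.eq_of_le_of_card_ge hle (by rw [h1, h2])).symm
  obtain ⟨b', hb'T', hb'T⟩ := SetLike.not_le_iff_exists.1 hnle
  rintro y ⟨hyT, hyT'⟩
  exact h.mid_centralizer hT (hT'.le hb'T') hb'T hyT (h.mid_comm hT' hb'T' hyT')

/-- `T = Z(S) ∪ Z(S) b`. -/
theorem mid_two_cases (h : Ctx 2 S) {T : Subgroup Ω} (hT : Ctx.Mid S T) {b t : Ω} (hb : b ∈ T)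
    (hbZ : b ∉ centralizerIn S S) (ht : t ∈ T) :
    t ∈ centralizerIn S S ∨ ∃ z ∈ centralizerIn S S, t = z * b := by
  have hfinT : Finite T := finite_of_le S hT.le
  have hfinZ : Finite (centralizerIn S S) := finite_of_le S (zs_le S)
  obtain ⟨hc1, -⟩ := h.card_mid hT.zle hT.le hT.ne_top hT.not_le
  have hidx : ((centralizerIn S S).subgroupOf T).index = 2 := by
    have h1 := ((centralizerIn S S).subgroupOf T).index_mul_card
    have h2 : Nat.card ((centralizerIn S S).subgroupOf T) = Nat.card (centralizerIn S S) :=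
      Nat.card_congr (Subgroup.subgroupOfEquivOfLe hT.zle).toEquiv
    rw [h2, hc1] at h1
    have hZpos : 0 < Nat.card (centralizerIn S S) := Nat.card_pos
    exact Nat.eq_of_mul_eq_mul_right hZpos h1
  by_cases htZ : t ∈ centralizerIn S S
  · exact Or.inl htZ
  · right
    have key := Subgroup.mul_mem_iff_of_index_two hidx (a := (⟨t, ht⟩ : T)) (b := (⟨b, hb⟩ : T)⁻¹)
    have h1 : (⟨t, ht⟩ : T) * (⟨b, hb⟩ : T)⁻¹ ∈ (centralizerIn S S).subgroupOf T := by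
      rw [key]
      constructor
      · intro h0
        exact absurd (Subgroup.mem_subgroupOf.1 h0) htZ
      · intro h0
        exfalso
        apply hbZ
        have := Subgroup.inv_mem _ h0
        rw [inv_inv] at this
        exact Subgroup.mem_subgroupOf.1 this
    rw [Subgroup.mem_subgroupOf] at h1
    refine ⟨t * b⁻¹, h1, ?_⟩
    group

theorem pow_eq_of_mul_self {G : Type*} [Group G] {b : G} (hb : b * b = 1) (j : ℕ) :
    b ^ j = 1 ∨ b ^ j = b := by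
  rcases Nat.even_or_odd' j with ⟨m, rfl | rfl⟩
  · left
    rw [pow_mul, sq, hb, one_pow]
  · right
    rw [pow_succ, pow_mul, sq, hb, one_pow, one_mul]

namespace EssData

variable {F : FusionSystem S} {T W C : Subgroup Ω}

theorem z_decomp (e : EssData F T W C) {z : Ω} (hz : z ∈ centralizerIn S S) :
    ∃ l ∈ derS S, ∃ c ∈ C, z = l * c := by
  obtain ⟨w, hw, c, hc, hwc⟩ := e.decomp z (e.mid.zle hz)
  refine ⟨w, e.W_inf ⟨hw, ?_⟩, c, hc, hwc⟩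
  have : w = z * c⁻¹ := by rw [hwc]; group
  rw [this]
  exact Subgroup.mul_mem _ hz (Subgroup.inv_mem _ (e.C_le hc))

/-- The involutions outside `T` lie in a single coset of `Z(S)`. -/
theorem invol_mem (h : Ctx 2 S) (e : EssData F T W C) {b' : Ω} (hb'S : b' ∈ S) (hb'T : b' ∉ T)
    (hb'2 : b' * b' = 1) {y : Ω} (hyS : y ∈ S) (hyT : y ∉ T) (hy2 : y * y = 1) :
    ∃ z ∈ centralizerIn S S, y = z * b' := by
  obtain ⟨t, ht, j, rfl⟩ := h.mid_decomp e.mid hb'S hb'T hyS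
  rcases pow_eq_of_mul_self hb'2 j with hj | hj
  · exfalso
    apply hyT
    rw [hj, mul_one]
    exact ht
  rw [hj] at hy2 hyT ⊢
  refine ⟨t, ?_, rfl⟩
  by_contra htZ
  obtain ⟨w, hw, c, hc, rfl⟩ := e.decomp t ht
  have hwT : w ∈ T := e.W_le hw
  have hcT : c ∈ T := e.mid.zle (e.C_le hc)
  obtain ⟨m, hm⟩ : ∃ m : Ω, m = (w * c)⁻¹ * (b' * (w * c) * b'⁻¹) := ⟨_, rfl⟩
  have hmD : m ∈ derS S := by
    have := comm_mem_derS (S := S) (S.inv_mem (e.mid.le ht)) hb'S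
    have e1 : m = (w * c)⁻¹ * b' * ((w * c)⁻¹)⁻¹ * b'⁻¹ := by rw [hm]; group
    rw [e1]
    exact this
  have hm1 : m ≠ 1 := by
    intro h1
    apply htZ
    apply h.mid_centralizer e.mid hb'S hb'T ht
    have h2 : b' * (w * c) * b'⁻¹ = w * c := by
      rw [h1] at hm
      exact (inv_mul_eq_one.1 hm.symm).symm
    calc b' * (w * c) = (b' * (w * c) * b'⁻¹) * b' := by group
      _ = w * c * b' := by rw [h2]
  have hb'inv : b'⁻¹ = b' := inv_eq_of_mul_eq_one_right hb'2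
  have hww := e.sq w hw
  have hcw : c * w = w * c := h.mid_comm e.mid hcT hwT
  have h3 : w * c * b' * (w * c * b') = c * c * m := by
    have h4 : b' * (w * c) * b' = w * c * m := by
      rw [hm, mul_inv_cancel_left, hb'inv]
    calc w * c * b' * (w * c * b') = w * c * (b' * (w * c) * b') := by group
      _ = w * c * (w * c * m) := by rw [h4]
      _ = w * (c * w) * c * m := by group
      _ = w * (w * c) * c * m := by rw [hcw]
      _ = (w * w) * c * c * m := by group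
      _ = c * c * m := by rw [hww, one_mul]
  rw [h3] at hy2
  have hmC : m ∈ C := by
    have : m = (c * c)⁻¹ := eq_inv_of_mul_eq_one_right hy2
    rw [this]
    exact Subgroup.inv_mem _ (Subgroup.mul_mem _ hc hc)
  have : m ∈ derS S ⊓ C := ⟨hmD, hmC⟩
  rw [e.der_inf, Subgroup.mem_bot] at this
  exact hm1 this

/-- Every element of `Aut_F(S)` preserves an essential subgroup. -/
theorem aut_mem (hS : IsPGroup 2 S) (h : Ctx 2 S) (hF : F.IsSaturated 2) (e : EssData F T W C)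
    {β : MulAut S} (hβ : β ∈ F.autGroup S) (t : S) (ht : (t : Ω) ∈ T) :
    ((β t : S) : Ω) ∈ T := by
  obtain ⟨b, hbW, hbZ⟩ := e.nc
  have hbT : b ∈ T := e.W_le hbW
  have hbS : b ∈ S := e.mid.le hbT
  have hbb : b * b = 1 := e.sq b hbW
  have key : ((β ⟨b, hbS⟩ : S) : Ω) ∈ T := by
    by_contra hb1
    obtain ⟨b₁, hb₁⟩ : ∃ b₁ : S, b₁ = β ⟨b, hbS⟩ := ⟨_, rfl⟩
    rw [← hb₁] at hb1
    have hb₁2' : b₁ * b₁ = 1 := by
      rw [hb₁, ← map_mul]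
      have : (⟨b, hbS⟩ : S) * ⟨b, hbS⟩ = 1 := Subtype.ext hbb
      rw [this, map_one]
    have hb₁2 : (b₁ : Ω) * b₁ = 1 := congrArg Subtype.val hb₁2'
    have h3 : β⁻¹ b₁ = ⟨b, hbS⟩ := by rw [hb₁]; simp
    have hb₂ : ∃ z' : S, (z' : Ω) ∈ centralizerIn S S ∧ β b₁ = z' * ⟨b, hbS⟩ := by
      have hb₂2 : ((β b₁ : S) : Ω) * (β b₁ : S) = 1 := by
        have : β b₁ * β b₁ = 1 := by rw [← map_mul, hb₁2', map_one]
        exact congrArg Subtype.val this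
      have hb₂T : ((β b₁ : S) : Ω) ∈ T := by
        by_contra hb₂T
        obtain ⟨z, hz, hzb⟩ := e.invol_mem h b₁.2 hb1 hb₁2 (β b₁).2 hb₂T hb₂2
        apply hb1
        have hzS : z ∈ S := zs_le S hz
        have h1 : β b₁ = ⟨z, hzS⟩ * b₁ := Subtype.ext hzb
        have h2 : b₁ = β⁻¹ ⟨z, hzS⟩ * ⟨b, hbS⟩ := by
          have := congrArg (fun y => β⁻¹ y) h1
          simp only [map_mul, h3] at this
          simpa using this
        rw [h2]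
        exact T.mul_mem (e.mid.zle (aut_zs_mem β⁻¹ hz)) hbT
      have hb₂Z : ((β b₁ : S) : Ω) ∉ centralizerIn S S := by
        intro hz
        apply hb1
        have := aut_zs_mem β⁻¹ hz
        have h4 : β⁻¹ (β b₁) = b₁ := by simp
        rw [h4] at this
        exact e.mid.zle this
      rcases mid_two_cases h e.mid hbT hbZ hb₂T with h5 | ⟨z', hz', h5⟩
      · exact absurd h5 hb₂Z
      · exact ⟨⟨z', zs_le S hz'⟩, hz', Subtype.ext h5⟩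
    have hind : ∀ k : ℕ,
        (Even k → ∃ z : S, (z : Ω) ∈ centralizerIn S S ∧ (β ^ k) ⟨b, hbS⟩ = z * ⟨b, hbS⟩) ∧
        (Odd k → ∃ z : S, (z : Ω) ∈ centralizerIn S S ∧ (β ^ k) ⟨b, hbS⟩ = z * b₁) := by
      intro k
      induction k with
      | zero =>
        exact ⟨fun _ => ⟨1, Subgroup.one_mem _, by simp⟩, fun h0 => absurd h0 (by decide)⟩
      | succ k ih =>
        constructor
        · intro hev
          have hodd : Odd k := Nat.not_even_iff_odd.1 (Nat.even_add_one.1 hev)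
          obtain ⟨z, hz, hzk⟩ := ih.2 hodd
          obtain ⟨z', hz', hz'b⟩ := hb₂
          refine ⟨β z * z', Subgroup.mul_mem _ (aut_zs_mem β hz) hz', ?_⟩
          rw [pow_succ', MulAut.mul_apply, hzk, map_mul, hz'b, mul_assoc]
        · intro hodd
          have hev : Even k := Nat.not_odd_iff_even.1 (Nat.odd_add_one.1 hodd)
          obtain ⟨z, hz, hzk⟩ := ih.1 hev
          refine ⟨β z, aut_zs_mem β hz, ?_⟩
          rw [pow_succ', MulAut.mul_apply, hzk, map_mul, hb₁]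
    obtain ⟨n, hn, hpow⟩ := exists_pow_mem_inn hS hF
    have hoddn : Odd n := Nat.coprime_two_right.1 hn
    obtain ⟨z, hz, hzn⟩ := (hind n).2 hoddn
    obtain ⟨s, hs, hγs⟩ := (mem_autInducedBy_iff S S _).1 (hpow β hβ)
    have h6 : (((β ^ n) ⟨b, hbS⟩ : S) : Ω) ∈ T := by
      rw [hγs]
      exact h.mid_conj_mem e.mid hs hbT
    rw [hzn] at h6
    apply hb1
    have h7 : (b₁ : Ω) = (z : Ω)⁻¹ * ((z : Ω) * (b₁ : Ω)) := by group
    rw [h7]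
    exact T.mul_mem (T.inv_mem (e.mid.zle hz)) h6
  rcases mid_two_cases h e.mid hbT hbZ ht with h5 | ⟨z, hz, h5⟩
  · exact e.mid.zle (aut_zs_mem β h5)
  · have hzS : z ∈ S := zs_le S hz
    have h8 : t = ⟨z, hzS⟩ * ⟨b, hbS⟩ := Subtype.ext h5
    rw [h8, map_mul]
    exact T.mul_mem (e.mid.zle (aut_zs_mem β hz)) key

/-- `Aut_F(S)` preserves `C`. -/
theorem aut_C_mem (hS : IsPGroup 2 S) (h : Ctx 2 S) (hF : F.IsSaturated 2) (e : EssData F T W C)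
    {β : MulAut S} (hβ : β ∈ F.autGroup S) (y : S) (hy : (y : Ω) ∈ C) :
    ((β y : S) : Ω) ∈ C := by
  obtain ⟨α, hα, hαβ⟩ := exists_restrict_aut e.mid.le hβ (e.aut_mem hS h hF hβ)
  have hyT : (y : Ω) ∈ T := e.mid.zle (e.C_le hy)
  have := e.C_inv α hα ⟨y, hyT⟩ hy
  rw [hαβ] at this
  exact this

/-- There are at most two essential subgroups. -/
theorem eq_or_eq (h : Ctx 2 S) {T₁ W₁ C₁ T₂ W₂ C₂ T' W' C' : Subgroup Ω}
    (e₁ : EssData F T₁ W₁ C₁) (e₂ : EssData F T₂ W₂ C₂) (e' : EssData F T' W' C')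
    (hne : T₁ ≠ T₂) : T' = T₁ ∨ T' = T₂ := by
  by_contra hcon
  push Not at hcon
  obtain ⟨hn1, hn2⟩ := hcon
  obtain ⟨b₂, hb₂W, hb₂Z⟩ := e₂.nc
  obtain ⟨b', hb'W, hb'Z⟩ := e'.nc
  have hb₂T₂ : b₂ ∈ T₂ := e₂.W_le hb₂W
  have hb'T' : b' ∈ T' := e'.W_le hb'W
  have hb₂T₁ : b₂ ∉ T₁ := fun hin => hb₂Z (mid_inf_le h e₁.mid e₂.mid hne ⟨hin, hb₂T₂⟩)
  have hb'T₁ : b' ∉ T₁ := fun hin => hb'Z (mid_inf_le h e₁.mid e'.mid (Ne.symm hn1) ⟨hin, hb'T'⟩)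
  obtain ⟨z, hz, hzb⟩ := e₁.invol_mem h (e₂.mid.le hb₂T₂) hb₂T₁ (e₂.sq b₂ hb₂W)
    (e'.mid.le hb'T') hb'T₁ (e'.sq b' hb'W)
  apply hb'Z
  apply mid_inf_le h e'.mid e₂.mid hn2
  refine ⟨hb'T', ?_⟩
  rw [hzb]
  exact T₂.mul_mem (e₂.mid.zle hz) hb₂T₂

end EssData

/-- The intersection of the two complements is normal in the system, hence trivial. -/
theorem inf_C_eq_bot (hS : IsPGroup 2 S) (h : Ctx 2 S) {F : FusionSystem S}
    (hF : F.IsSaturated 2) (hcore : F.core = ⊥) {T₁ W₁ C₁ T₂ W₂ C₂ : Subgroup Ω}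
    (e₁ : EssData F T₁ W₁ C₁) (e₂ : EssData F T₂ W₂ C₂) (hne : T₁ ≠ T₂) : C₁ ⊓ C₂ = ⊥ := by
  have hS_inv : ∀ β ∈ F.autGroup S, ∀ y : S, (y : Ω) ∈ C₁ ⊓ C₂ → ((β y : S) : Ω) ∈ C₁ ⊓ C₂ :=
    fun β hβ y hy => ⟨e₁.aut_C_mem hS h hF hβ y hy.1, e₂.aut_C_mem hS h hF hβ y hy.2⟩
  -- invariance under the automorphisms of one essential subgroup
  have hT_inv : ∀ {T W C T' W' C' : Subgroup Ω} (e : EssData F T W C) (_ : EssData F T' W' C'),
      (∀ β ∈ F.autGroup S, ∀ y : S, (y : Ω) ∈ C ⊓ C' → ((β y : S) : Ω) ∈ C ⊓ C') →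
      ∀ α ∈ F.autGroup T, ∀ y : T, (y : Ω) ∈ C ⊓ C' → ((α y : T) : Ω) ∈ C ⊓ C' := by
    intro T W C T' W' C' e _ hSi α hα y hy
    obtain ⟨k, hk, hkC, β, hβ, hβt⟩ := e.ext α hα
    have h1 := hSi β hβ ⟨y, e.mid.le y.2⟩ hy
    rw [hβt] at h1
    have h2 : k ((k⁻¹ * α) y) = (k⁻¹ * α) y := hkC _ h1.1
    have h3 : k ((k⁻¹ * α) y) = α y := by
      show k (k⁻¹ (α y)) = α y
      simp
    rw [← h3, h2]
    exact h1
  have hn : F.IsNormal (C₁ ⊓ C₂) := isNormal_of_essential hS hF (fun T' hT' => by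
    rcases hT' with rfl | hT'
    · exact ⟨inf_le_left.trans (e₁.C_le.trans (zs_le _)), hS_inv⟩
    · obtain ⟨W', C', e'⟩ := exists_essData hS h hF hT'
      rcases EssData.eq_or_eq h e₁ e₂ e' hne with rfl | rfl
      · exact ⟨inf_le_left.trans (e₁.C_le.trans e₁.mid.zle), hT_inv e₁ e₂ hS_inv⟩
      · refine ⟨inf_le_right.trans (e₂.C_le.trans e₂.mid.zle), fun α hα y hy => ?_⟩
        have := hT_inv e₂ e₁ (fun β hβ y hy => (hS_inv β hβ y hy.symm).symm) α hα y hy.symm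
        exact this.symm)
  rw [eq_bot_iff, ← hcore]
  exact le_sSup hn

namespace EssData

variable {F : FusionSystem S} {T W C : Subgroup Ω}

/-- `Aut_F(T₁)` centralizes `C₁` when `C₁ ∩ C₂ = 1`. -/
theorem aut_C_fix (hD : Nat.card (derS S) = 2) {T₁ W₁ C₁ T₂ W₂ C₂ : Subgroup Ω}
    (e₁ : EssData F T₁ W₁ C₁) (e₂ : EssData F T₂ W₂ C₂) (hbot : C₁ ⊓ C₂ = ⊥)
    {α : MulAut T₁} (hα : α ∈ F.autGroup T₁) (c : T₁) (hc : (c : Ω) ∈ C₁) : α c = c := by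
  have h1 := e₁.C_inv α hα c hc
  obtain ⟨l, hl, c₂, hc₂, hlc⟩ := e₂.z_decomp (e₁.C_le hc)
  obtain ⟨l', hl', c₂', hc₂', hlc'⟩ := e₂.z_decomp (e₁.C_le h1)
  by_cases hl1 : l = 1
  · have : (c : Ω) ∈ C₁ ⊓ C₂ := ⟨hc, by rw [hlc, hl1, one_mul]; exact hc₂⟩
    rw [hbot, Subgroup.mem_bot] at this
    have hc1 : c = 1 := Subtype.ext this
    rw [hc1, map_one]
  by_cases hl'1 : l' = 1
  · have : ((α c : T₁) : Ω) ∈ C₁ ⊓ C₂ := ⟨h1, by rw [hlc', hl'1, one_mul]; exact hc₂'⟩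
    rw [hbot, Subgroup.mem_bot] at this
    have hc1 : α c = 1 := Subtype.ext this
    have : c = 1 := α.injective (hc1.trans (map_one α).symm)
    rw [this, map_one]
  have hll : l = l' := eq_of_card_two hD hl hl' hl1 hl'1
  have h2 : (c : Ω)⁻¹ * ((α c : T₁) : Ω) ∈ C₁ ⊓ C₂ := by
    refine ⟨Subgroup.mul_mem _ (Subgroup.inv_mem _ hc) h1, ?_⟩
    rw [hlc, hlc', hll]
    have : (l' * c₂)⁻¹ * (l' * c₂') = c₂⁻¹ * c₂' := by group
    rw [this]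
    exact Subgroup.mul_mem _ (Subgroup.inv_mem _ hc₂) hc₂'
  rw [hbot, Subgroup.mem_bot] at h2
  apply Subtype.ext
  exact (inv_mul_eq_one.1 h2).symm

/-- `[T, Aut_F(T)] ≤ W` when `Aut_F(T)` centralizes `C`. -/
theorem mov_mem (h : Ctx 2 S) (e : EssData F T W C)
    (hfix : ∀ α ∈ F.autGroup T, ∀ c : T, (c : Ω) ∈ C → α c = c)
    {α : MulAut T} (hα : α ∈ F.autGroup T) (t : T) : (t : Ω)⁻¹ * ((α t : T) : Ω) ∈ W := by
  obtain ⟨w, hw, c, hc, hwc⟩ := e.decomp t t.2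
  have hwT : w ∈ T := e.W_le hw
  have hcT : c ∈ T := e.mid.zle (e.C_le hc)
  have ht : t = ⟨w, hwT⟩ * ⟨c, hcT⟩ := Subtype.ext hwc
  have h1 : α t = α ⟨w, hwT⟩ * ⟨c, hcT⟩ := by rw [ht, map_mul, hfix α hα ⟨c, hcT⟩ hc]
  have h2 : ((α t : T) : Ω) = ((α ⟨w, hwT⟩ : T) : Ω) * c := congrArg Subtype.val h1
  have hαw : ((α ⟨w, hwT⟩ : T) : Ω) ∈ W := e.W_inv α hα ⟨w, hwT⟩ hw
  have hcomm : c * (w⁻¹ * ((α ⟨w, hwT⟩ : T) : Ω)) = (w⁻¹ * ((α ⟨w, hwT⟩ : T) : Ω)) * c :=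
    h.mid_comm e.mid hcT (T.mul_mem (T.inv_mem hwT) (α ⟨w, hwT⟩).2)
  rw [h2, hwc]
  have : (w * c)⁻¹ * (((α ⟨w, hwT⟩ : T) : Ω) * c) = w⁻¹ * ((α ⟨w, hwT⟩ : T) : Ω) := by
    calc (w * c)⁻¹ * (((α ⟨w, hwT⟩ : T) : Ω) * c)
        = c⁻¹ * ((w⁻¹ * ((α ⟨w, hwT⟩ : T) : Ω)) * c) := by group
      _ = c⁻¹ * (c * (w⁻¹ * ((α ⟨w, hwT⟩ : T) : Ω))) := by rw [hcomm]
      _ = w⁻¹ * ((α ⟨w, hwT⟩ : T) : Ω) := by group
  rw [this]
  exact Subgroup.mul_mem _ (Subgroup.inv_mem _ hw) hαw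

end EssData

/-- Subgroups of `S` containing `[S,S]` are normalized by `S`. -/
theorem conj_mem_of_der_le {W : Subgroup Ω} (hWS : W ≤ S) (hder : derS S ≤ W) {s w : Ω}
    (hs : s ∈ S) (hw : w ∈ W) : s * w * s⁻¹ ∈ W := by
  have h1 := hder (comm_mem_derS hs (hWS hw))
  have : s * w * s⁻¹ = (s * w * s⁻¹ * w⁻¹) * w := by group
  rw [this]
  exact W.mul_mem h1 hw

theorem le_normalizer_of_der_le {W : Subgroup Ω} (hWS : W ≤ S) (hder : derS S ≤ W) :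
    S ≤ Subgroup.normalizer (W : Set Ω) := by
  intro s hs
  rw [Subgroup.mem_normalizer_iff]
  intro w
  refine ⟨fun hw => conj_mem_of_der_le hWS hder hs hw, fun hw => ?_⟩
  have := conj_mem_of_der_le hWS hder (S.inv_mem hs) hw
  have e2 : s⁻¹ * (s * w * s⁻¹) * s⁻¹⁻¹ = w := by group
  rwa [e2] at this

theorem hyperfocal_le_focal (F : FusionSystem S) (p : ℕ) :
    F.hyperfocalSubgroup p ≤ F.focalSubgroup := by
  unfold hyperfocalSubgroup focalSubgroup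
  rw [Subgroup.closure_le]
  rintro _ ⟨P, α, x, hPS, -, rfl⟩
  apply Subgroup.subset_closure
  exact ⟨P, P.subtype.comp (α : MulAut P).toMonoidHom, x, (mem_autGroup_iff F hPS α).1 α.2, rfl⟩

/-- The focal subgroup lies in `W₁ W₂`. -/
theorem focal_le_sup (hS : IsPGroup 2 S) (h : Ctx 2 S) {F : FusionSystem S}
    (hF : F.IsSaturated 2) {T₁ W₁ C₁ T₂ W₂ C₂ : Subgroup Ω}
    (e₁ : EssData F T₁ W₁ C₁) (e₂ : EssData F T₂ W₂ C₂) (hne : T₁ ≠ T₂)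
    (hfix₁ : ∀ α ∈ F.autGroup T₁, ∀ c : T₁, (c : Ω) ∈ C₁ → α c = c)
    (hfix₂ : ∀ α ∈ F.autGroup T₂, ∀ c : T₂, (c : Ω) ∈ C₂ → α c = c) :
    F.focalSubgroup ≤ W₁ ⊔ W₂ := by
  obtain ⟨Y, hY⟩ : ∃ Y : Subgroup Ω, Y = W₁ ⊔ W₂ := ⟨_, rfl⟩
  rw [← hY]
  have hW₁Y : W₁ ≤ Y := hY ▸ le_sup_left
  have hW₂Y : W₂ ≤ Y := hY ▸ le_sup_right
  have hYS : Y ≤ S := hY ▸ sup_le (e₁.W_le.trans e₁.mid.le) (e₂.W_le.trans e₂.mid.le)
  have hderY : derS S ≤ Y := e₁.der_le.trans hW₁Y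
  have key : ∀ (P : Subgroup Ω) (φ : P →* Ω), φ ∈ F.Hom P → ∀ x : P, (x : Ω)⁻¹ * φ x ∈ Y := by
    refine alperin_pred hS F hF (fun P φ => ∀ x : P, (x : Ω)⁻¹ * φ x ∈ Y) ?_ ?_ ?_ ?_
    · intro P g hP hg x
      rw [conjHom_apply]
      have := comm_mem_derS (S := S) (S.inv_mem (hP x.2)) hg
      have e1 : (x : Ω)⁻¹ * (g * x * g⁻¹) = (x : Ω)⁻¹ * g * ((x : Ω)⁻¹)⁻¹ * g⁻¹ := by group
      rw [e1]
      exact hderY this
    · intro P Q φ ψ hPQ _ _ hφ hψ x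
      have h1 := hφ x
      have h2 := hψ ⟨φ x, hPQ x⟩
      have e : (x : Ω)⁻¹ * (ψ.comp (φ.codRestrict Q hPQ)) x =
          ((x : Ω)⁻¹ * φ x) * ((φ x)⁻¹ * ψ ⟨φ x, hPQ x⟩) := by
        show (x : Ω)⁻¹ * ψ ⟨φ x, hPQ x⟩ = _
        group
      rw [e]
      exact Subgroup.mul_mem _ h1 h2
    · rintro P φ ψ _ _ hψφ hφ ⟨y, x, rfl⟩
      rw [hψφ x]
      have h1 := Subgroup.inv_mem _ (hφ x)
      have e : ((x : Ω)⁻¹ * φ x)⁻¹ = (φ x)⁻¹ * (x : Ω) := by group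
      rw [e] at h1
      exact h1
    · intro T' hT' α hα x
      rcases hT' with rfl | hT'
      · obtain ⟨b₂, hb₂W, hb₂Z⟩ := e₂.nc
        have hb₂T₂ : b₂ ∈ T₂ := e₂.W_le hb₂W
        have hb₂T₁ : b₂ ∉ T₁ :=
          fun hin => hb₂Z (mid_inf_le h e₁.mid e₂.mid hne ⟨hin, hb₂T₂⟩)
        obtain ⟨e, he, j, hx⟩ := h.mid_decomp e₁.mid (e₂.mid.le hb₂T₂) hb₂T₁ x.2
        obtain ⟨y, hy⟩ : ∃ y : Ω, y = b₂ ^ j := ⟨_, rfl⟩
        rw [← hy] at hx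
        have hyT₂ : y ∈ T₂ := hy ▸ T₂.pow_mem hb₂T₂ j
        have heS : e ∈ T' := e₁.mid.le he
        have hyS : y ∈ T' := e₂.mid.le hyT₂
        obtain ⟨α₁, hα₁, hα₁β⟩ := exists_restrict_aut e₁.mid.le hα (e₁.aut_mem hS h hF hα)
        obtain ⟨α₂, hα₂, hα₂β⟩ := exists_restrict_aut e₂.mid.le hα (e₂.aut_mem hS h hF hα)
        have hm₁ := e₁.mov_mem h hfix₁ hα₁ ⟨e, he⟩
        have hm₂ := e₂.mov_mem h hfix₂ hα₂ ⟨y, hyT₂⟩
        rw [hα₁β] at hm₁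
        rw [hα₂β] at hm₂
        have hxx : x = ⟨e, heS⟩ * ⟨y, hyS⟩ := Subtype.ext hx
        have h1 : ((α x : T') : Ω) = ((α ⟨e, heS⟩ : T') : Ω) * ((α ⟨y, hyS⟩ : T') : Ω) := by
          rw [hxx, map_mul]
          rfl
        show (x : Ω)⁻¹ * ((α x : T') : Ω) ∈ Y
        rw [h1, hx]
        have e3 : (e * y)⁻¹ * (((α ⟨e, heS⟩ : T') : Ω) * ((α ⟨y, hyS⟩ : T') : Ω)) =
            (y⁻¹ * (e⁻¹ * ((α ⟨e, heS⟩ : T') : Ω)) * y⁻¹⁻¹) *
              (y⁻¹ * ((α ⟨y, hyS⟩ : T') : Ω)) := by group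
        rw [e3]
        exact Y.mul_mem (conj_mem_of_der_le hYS hderY (T'.inv_mem hyS) (hW₁Y hm₁)) (hW₂Y hm₂)
      · obtain ⟨W', C', e'⟩ := exists_essData hS h hF hT'
        rcases EssData.eq_or_eq h e₁ e₂ e' hne with rfl | rfl
        · exact hW₁Y (e₁.mov_mem h hfix₁ hα x)
        · exact hW₂Y (e₂.mov_mem h hfix₂ hα x)
  unfold focalSubgroup
  rw [Subgroup.closure_le]
  rintro _ ⟨P, φ, x, hφ, rfl⟩
  exact key P φ hφ x

/-- If `S = W₁ W₂` then `Z(S) = [S,S]`. -/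
theorem zs_le_derS_of_le (h : Ctx 2 S) {F : FusionSystem S} {T₁ W₁ C₁ T₂ W₂ C₂ : Subgroup Ω}
    (e₁ : EssData F T₁ W₁ C₁) (e₂ : EssData F T₂ W₂ C₂) (hne : T₁ ≠ T₂)
    (hSY : S ≤ W₁ ⊔ W₂) : centralizerIn S S ≤ derS S := by
  intro z hz
  have hzY : z ∈ W₂ ⊔ W₁ := by rw [sup_comm]; exact hSY (zs_le S hz)
  have hnorm : W₂ ≤ Subgroup.normalizer (W₁ : Set Ω) :=
    (e₂.W_le.trans e₂.mid.le).trans
      (le_normalizer_of_der_le (e₁.W_le.trans e₁.mid.le) e₁.der_le)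
  have hcoe := Subgroup.coe_mul_of_left_le_normalizer_right W₂ W₁ hnorm
  have hz' : z ∈ ((W₂ ⊔ W₁ : Subgroup Ω) : Set Ω) := hzY
  rw [hcoe] at hz'
  obtain ⟨w₂, hw₂, w₁, hw₁, hzw⟩ := Set.mem_mul.1 hz'
  have hw₂' : w₂ ∈ W₂ := hw₂
  have hw₁' : w₁ ∈ W₁ := hw₁
  have hw₂T₁ : w₂ ∈ T₁ := by
    have : w₂ = z * w₁⁻¹ := by rw [← hzw]; group
    rw [this]
    exact T₁.mul_mem (e₁.mid.zle hz) (T₁.inv_mem (e₁.W_le hw₁'))
  have hw₂Z : w₂ ∈ centralizerIn S S := mid_inf_le h e₁.mid e₂.mid hne ⟨hw₂T₁, e₂.W_le hw₂'⟩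
  have hw₂D : w₂ ∈ derS S := e₂.W_inf ⟨hw₂', hw₂Z⟩
  apply e₁.W_inf
  refine ⟨?_, hz⟩
  rw [← hzw]
  exact W₁.mul_mem (e₁.der_le hw₂D) hw₁'

/-- Main theorem for `p = 2`. -/
theorem two_main (hS : IsPGroup 2 S) (h : Ctx 2 S) {F : FusionSystem S} (hF : F.IsSaturated 2)
    (hcore : F.core = ⊥) (hhyp : F.hyperfocalSubgroup 2 = S) {E : Subgroup Ω}
    (hE : F.IsEssential 2 E) :
    centralizerIn S S = derS S ∧
      ∃ b₁ ∈ S, ∃ b₂ ∈ S, b₁ * b₁ = 1 ∧ b₂ * b₂ = 1 ∧ b₁ * b₂ ≠ b₂ * b₁ := by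
  obtain ⟨W₁, C₁, e₁⟩ := exists_essData hS h hF hE
  have hex : ∃ T₂ : Subgroup Ω, F.IsEssential 2 T₂ ∧ T₂ ≠ E := by
    by_contra hno
    push Not at hno
    have hn : F.IsNormal E := isNormal_of_essential hS hF (fun T hT => by
      rcases hT with rfl | hT
      · exact ⟨e₁.mid.le, fun α hα x hx => e₁.aut_mem hS h hF hα x hx⟩
      · have := hno T hT
        subst this
        exact ⟨le_rfl, fun α _ x _ => (α x).2⟩)
    have hEbot : E ≤ ⊥ := by rw [← hcore]; exact le_sSup hn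
    exact e₁.mid.not_le (hEbot.trans bot_le)
  obtain ⟨T₂, hT₂, hne'⟩ := hex
  have hne : E ≠ T₂ := Ne.symm hne'
  obtain ⟨W₂, C₂, e₂⟩ := exists_essData hS h hF hT₂
  obtain ⟨x, d, -⟩ := exists_xdata hS h hF hE
  have hD : Nat.card (derS S) = 2 := d.card_derS h
  have hbot := inf_C_eq_bot hS h hF hcore e₁ e₂ hne
  have hfix₁ : ∀ α ∈ F.autGroup E, ∀ c : E, (c : Ω) ∈ C₁ → α c = c :=
    fun α hα c hc => EssData.aut_C_fix hD e₁ e₂ hbot hα c hc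
  have hfix₂ : ∀ α ∈ F.autGroup T₂, ∀ c : T₂, (c : Ω) ∈ C₂ → α c = c :=
    fun α hα c hc => EssData.aut_C_fix hD e₂ e₁ (by rw [inf_comm]; exact hbot) hα c hc
  have hfoc := focal_le_sup hS h hF e₁ e₂ hne hfix₁ hfix₂
  have hSY : S ≤ W₁ ⊔ W₂ :=
    (le_of_eq hhyp.symm).trans ((hyperfocal_le_focal F 2).trans hfoc)
  refine ⟨le_antisymm (zs_le_derS_of_le h e₁ e₂ hne hSY) h.derS_le_zs, ?_⟩
  obtain ⟨b₁, hb₁W, hb₁Z⟩ := e₁.nc
  obtain ⟨b₂, hb₂W, hb₂Z⟩ := e₂.nc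
  have hb₁E : b₁ ∈ E := e₁.W_le hb₁W
  have hb₂T₂ : b₂ ∈ T₂ := e₂.W_le hb₂W
  have hb₂E : b₂ ∉ E := fun hin => hb₂Z (mid_inf_le h e₁.mid e₂.mid hne ⟨hin, hb₂T₂⟩)
  refine ⟨b₁, e₁.mid.le hb₁E, b₂, e₂.mid.le hb₂T₂, e₁.sq b₁ hb₁W, e₂.sq b₂ hb₂W, fun hcomm => ?_⟩
  exact hb₁Z (h.mid_centralizer e₁.mid (e₂.mid.le hb₂T₂) hb₂E hb₁E hcomm.symm)

/-- A group of order `8` with two noncommuting involutions is dihedral. -/
theorem dihedral_of_two_involutions {G : Type*} [Group G] [Finite G] (hcard : Nat.card G = 8)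
    {x y : G} (hx : x * x = 1) (hy : y * y = 1) (hxy : x * y ≠ y * x) :
    Nonempty (G ≃* DihedralGroup 4) := by
  have hx1 : x ≠ 1 := by rintro rfl; exact hxy (by simp)
  have hy1 : y ≠ 1 := by rintro rfl; exact hxy (by simp)
  have hox : orderOf x = 2 := orderOf_eq_prime (by rw [sq]; exact hx) hx1
  have hoy : orderOf y = 2 := orderOf_eq_prime (by rw [sq]; exact hy) hy1
  have hne : x ≠ y := by rintro rfl; exact hxy rfl
  obtain ⟨e⟩ := Cfsg.Agent.Lib.H1.twoInv_closure_equiv_dihedral hox hoy hne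
  have hpos : 0 < orderOf (x * y) := orderOf_pos _
  haveI : NeZero (orderOf (x * y)) := ⟨hpos.ne'⟩
  have hcardH : Nat.card (Subgroup.closure ({x, y} : Set G)) = 2 * orderOf (x * y) := by
    rw [Nat.card_congr e.toEquiv, DihedralGroup.nat_card]
  have hdvd : 2 * orderOf (x * y) ∣ 2 * 4 := by
    rw [← hcardH, show 2 * 4 = 8 by norm_num, ← hcard]
    exact Subgroup.card_subgroup_dvd_card _
  have hn4 : orderOf (x * y) ∣ 2 ^ 2 := Nat.dvd_of_mul_dvd_mul_left (by norm_num) hdvd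
  have hxinv : x⁻¹ = x := inv_eq_of_mul_eq_one_right hx
  have hyinv : y⁻¹ = y := inv_eq_of_mul_eq_one_right hy
  obtain ⟨j, hj, hnj⟩ := (Nat.dvd_prime_pow Nat.prime_two).1 hn4
  have hn : orderOf (x * y) = 4 := by
    interval_cases j
    · exfalso
      rw [pow_zero, orderOf_eq_one_iff] at hnj
      apply hxy
      have : y = x⁻¹ := (inv_eq_of_mul_eq_one_right hnj).symm
      rw [this, mul_inv_cancel, inv_mul_cancel]
    · exfalso
      rw [pow_one] at hnj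
      have h2 : (x * y) ^ 2 = 1 := by rw [← hnj]; exact pow_orderOf_eq_one _
      rw [sq] at h2
      apply hxy
      have : x * y = (x * y)⁻¹ := (inv_eq_of_mul_eq_one_right h2).symm
      rw [this, mul_inv_rev, hxinv, hyinv]
    · rw [hnj]; norm_num
  have htop : Subgroup.closure ({x, y} : Set G) = ⊤ := by
    apply Subgroup.eq_top_of_card_eq
    rw [hcardH, hn, hcard]
  rw [hn] at e
  exact ⟨(Subgroup.topEquiv.symm.trans (MulEquiv.subgroupCongr htop.symm)).trans e⟩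

end Cfsg.Agent.Lib.H26.SmallCenter
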