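import Mathlib
import Cfsg.Prelude.Def_FusionSystem
import Cfsg.Agent.Lib.H25.Fusion
import Cfsg.Agent.Lib.H25.Normal
import Cfsg.Agent.Lib.H25.NormalSeries
import Cfsg.Agent.Lib.H26.SmallExponent
import Cfsg.Agent.Lib.H26.SmallCyclic
import Cfsg.Agent.Lib.H26.SmallFocal
import Cfsg.Agent.Lib.H26.EssentialAut
import Cfsg.Agent.S5124

set_option autoImplicit false

/-!
Cyclic subgroups of order `p` or `4` of the hyperfocal subgroup whose maps extend to automorphisms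
of `S` (helper26).
-/

namespace Cfsg.Agent.Lib.H26

open Cfsg Cfsg.FusionSystem Cfsg.Agent.Lib.H25

variable {Ω : Type*} [Group Ω] {S : Subgroup Ω}

/-- The upper central series of `S`, viewed in the ambient group. -/
def zs (S : Subgroup Ω) (i : ℕ) : Subgroup Ω := (Subgroup.upperCentralSeries S i).map S.subtype

theorem zs_zero (S : Subgroup Ω) : zs S 0 = ⊥ := by
  unfold zs
  rw [Subgroup.upperCentralSeries_zero, Subgroup.map_bot]

theorem zs_le (S : Subgroup Ω) (i : ℕ) : zs S i ≤ S := by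
  rintro _ ⟨x, -, rfl⟩
  exact x.2

/-- Commutators of elements of `Z_{i+1}(S)` with elements of `S` lie in `Z_i(S)`. -/
theorem comm_mem_zs {i : ℕ} {x s : Ω} (hx : x ∈ zs S (i + 1)) (hs : s ∈ S) :
    x⁻¹ * (s * x * s⁻¹) ∈ zs S i := by
  obtain ⟨x₀, hx₀, rfl⟩ := hx
  have h1 := (Subgroup.mem_upperCentralSeries_succ_iff).1
    ((Subgroup.upperCentralSeries S (i + 1)).inv_mem hx₀) ⟨s, hs⟩
  refine ⟨_, h1, ?_⟩
  rw [commutatorElement_def]
  simp [mul_assoc]

/-- Automorphisms of `S` in the system preserve the upper central series. -/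
theorem isIso_top_mem_zs {F : FusionSystem S} {β : Ω → Ω} (hβ : IsIso F S S β) (i : ℕ) {x : Ω}
    (hx : x ∈ zs S i) : β x ∈ zs S i := by
  obtain ⟨x₀, hx₀, rfl⟩ := hx
  set b : S ≃* S := hβ.toMulEquiv with hb
  have hchar : (Subgroup.upperCentralSeries S i).Characteristic := inferInstance
  have h1 : b x₀ ∈ Subgroup.upperCentralSeries S i := by
    have := hchar.fixed b.symm
    rw [← this]
    show b.symm (b x₀) ∈ Subgroup.upperCentralSeries S i
    simpa using hx₀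
  exact ⟨b x₀, h1, hβ.toMulEquiv_apply x₀⟩

theorem exists_zs_eq_top [Finite S] {p : ℕ} [Fact p.Prime] (hS : IsPGroup p S) :
    ∃ n : ℕ, ∀ x ∈ S, x ∈ zs S n := by
  have hnil : Group.IsNilpotent S := hS.isNilpotent
  obtain ⟨n, hn⟩ := hnil.nilpotent
  refine ⟨n, fun x hx => ⟨⟨x, hx⟩, ?_, rfl⟩⟩
  rw [hn]
  exact Subgroup.mem_top _

/-- Under the hypothesis on cyclic subgroups of the hyperfocal subgroup: a map of the system agrees
on a small element of the hyperfocal subgroup with an automorphism of `S` in the system. -/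
theorem exists_aut_top_of_small {p : ℕ} [Fact p.Prime] {F : FusionSystem S}
    (hsc : F.StronglyClosed (F.hyperfocalSubgroup p))
    (h : ∀ A B : Subgroup Ω, A ≤ F.hyperfocalSubgroup p → B ≤ F.hyperfocalSubgroup p →
      IsCyclic A → (Nat.card A = p ∨ Nat.card A = 4) → IsCyclic B →
      (Nat.card B = p ∨ Nat.card B = 4) → F.homSet A B ⊆ F.normalizerHom S A)
    {P : Subgroup Ω} {φ : P →* Ω} (hφ : φ ∈ F.Hom P) {u : Ω} (huP : u ∈ P)
    (hu : u ∈ F.hyperfocalSubgroup p) (hsmall : u ^ p = 1 ∨ (p = 2 ∧ u ^ 4 = 1)) :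
    ∃ β : Ω → Ω, IsIso F S S β ∧ β u = φ ⟨u, huP⟩ := by
  by_cases hu1 : u = 1
  · refine ⟨id, IsIso.refl le_rfl, ?_⟩
    have : (⟨u, huP⟩ : P) = 1 := Subtype.ext hu1
    rw [this, map_one]
    exact hu1
  have hAP : Subgroup.zpowers u ≤ P := Subgroup.zpowers_le.2 huP
  have hAhyp : Subgroup.zpowers u ≤ F.hyperfocalSubgroup p := Subgroup.zpowers_le.2 hu
  have hφ' := restrict_mem F hφ hAP
  have hφ'val : ∀ y : Subgroup.zpowers u,
      (φ.comp (Subgroup.inclusion hAP)) y = φ ⟨(y : Ω), hAP y.2⟩ := fun y => rfl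
  have hvhyp : φ ⟨u, huP⟩ ∈ F.hyperfocalSubgroup p :=
    hsc.2 _ hAhyp _ hφ' ⟨u, Subgroup.mem_zpowers u⟩
  have hφB : ∀ y : Subgroup.zpowers u,
      (φ.comp (Subgroup.inclusion hAP)) y ∈ Subgroup.zpowers (φ ⟨u, huP⟩) := by
    intro y
    rw [hφ'val]
    obtain ⟨k, hk⟩ := Subgroup.mem_zpowers_iff.1 y.2
    have : (⟨(y : Ω), hAP y.2⟩ : P) = (⟨u, huP⟩ : P) ^ k := Subtype.ext (by simpa using hk.symm)
    rw [this, map_zpow]
    exact Subgroup.zpow_mem_zpowers _ k
  have hinj := F.injective_of_mem hφ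
  have hord : orderOf (φ ⟨u, huP⟩) = orderOf u := by
    rw [orderOf_injective φ hinj]
    exact Subgroup.orderOf_mk u huP
  have hordu := orderOf_small hu1 hsmall
  have hmem := h (Subgroup.zpowers u) (Subgroup.zpowers (φ ⟨u, huP⟩)) hAhyp
    (Subgroup.zpowers_le.2 hvhyp) inferInstance (by rw [Nat.card_zpowers]; exact hordu)
    inferInstance (by rw [Nat.card_zpowers, hord]; exact hordu) ⟨hφ', hφB⟩
  obtain ⟨-, -, -, ψ, hψ, hψφ, hmap⟩ := hmem
  have hiso := isIso_of_mem F hψ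
  have hSle : S ≤ Subgroup.zpowers u ⊔ S := le_sup_right
  have hβ : IsIso F S S (ext1 ψ) := by
    refine hiso.restrict' hSle (fun x hx => ?_) (fun y hy => ?_)
    · rw [ext1_apply_mem ψ (hSle hx)]
      exact (le_of_eq hmap) ⟨⟨x, hSle hx⟩, Subgroup.mem_subgroupOf.2 hx, rfl⟩
    · have hy' := (le_of_eq hmap.symm) hy
      obtain ⟨x, hx, rfl⟩ := hy'
      exact ⟨(x : Ω), Subgroup.mem_subgroupOf.1 hx, ext1_apply ψ x⟩
  refine ⟨ext1 ψ, hβ, ?_⟩
  have huA : u ∈ Subgroup.zpowers u ⊔ S := (le_sup_left : Subgroup.zpowers u ≤ _) (Subgroup.mem_zpowers u)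
  rw [ext1_apply_mem ψ huA]
  exact hψφ ⟨u, Subgroup.mem_zpowers u⟩

/-- If every map of the system between cyclic subgroups of order `p` or `4` of the hyperfocal
subgroup extends to an automorphism of `S`, the saturated system has no essential subgroups. -/
theorem not_essential_of_small_normalizer [Finite S] {p : ℕ} [Fact p.Prime]
    (hS : IsPGroup p S) {F : FusionSystem S} (hF : F.IsSaturated p)
    (h : ∀ A B : Subgroup Ω, A ≤ F.hyperfocalSubgroup p → B ≤ F.hyperfocalSubgroup p →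
      IsCyclic A → (Nat.card A = p ∨ Nat.card A = 4) → IsCyclic B →
      (Nat.card B = p ∨ Nat.card B = 4) → F.homSet A B ⊆ F.normalizerHom S A)
    {R : Subgroup Ω} (hess : F.IsEssential p R) : False := by
  classical
  have hsc := Cfsg.Agent.S5124.result p hS F hF
  have hRS : R ≤ S := hess.1.1
  have hfinR : Finite R := finite_of_le S hRS
  have hRp : IsPGroup p R := hS.to_le hRS
  let GI : Subgroup R → Prop := fun U =>
    (∀ γ ∈ F.autGroup R, ∀ u ∈ U, γ u ∈ U) ∧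
      (∀ u ∈ U, (u : Ω) ∈ F.hyperfocalSubgroup p ∧
        ((u : Ω) ^ p = 1 ∨ (p = 2 ∧ (u : Ω) ^ 4 = 1)))
  have hzs : ∀ γ ∈ F.autGroup R, ∀ u : R, (u : Ω) ∈ F.hyperfocalSubgroup p →
      ((u : Ω) ^ p = 1 ∨ (p = 2 ∧ (u : Ω) ^ 4 = 1)) → ∀ i : ℕ, (u : Ω) ∈ zs S i →
      ((γ u : R) : Ω) ∈ zs S i := by
    intro γ hγ u hu hsm i hi
    obtain ⟨β, hβ, hβu⟩ :=
      exists_aut_top_of_small hsc h ((mem_autGroup_iff F hRS γ).1 hγ) u.2 hu hsm
    have := isIso_top_mem_zs hβ i hi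
    rw [hβu] at this
    exact this
  let N : Subgroup (MulAut R) :=
    { carrier := {γ | γ ∈ F.autGroup R ∧ ∀ U : Subgroup R, GI U → ∀ i : ℕ, ∀ u ∈ U,
        (u : Ω) ∈ zs S (i + 1) → (u : Ω)⁻¹ * ((γ u : R) : Ω) ∈ zs S i}
      one_mem' := by
        refine ⟨Subgroup.one_mem _, fun U _ i u _ _ => ?_⟩
        rw [MulAut.one_apply, inv_mul_cancel]
        exact Subgroup.one_mem _
      mul_mem' := by
        rintro γ' γ ⟨hγ', h'⟩ ⟨hγ, h0⟩
        refine ⟨Subgroup.mul_mem _ hγ' hγ, fun U hU i u hu hui => ?_⟩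
        have hγu : γ u ∈ U := hU.1 γ hγ u hu
        have hγui : ((γ u : R) : Ω) ∈ zs S (i + 1) :=
          hzs γ hγ u (hU.2 u hu).1 (hU.2 u hu).2 (i + 1) hui
        have h1 := h0 U hU i u hu hui
        have h2 := h' U hU i (γ u) hγu hγui
        have h3 : (u : Ω)⁻¹ * (((γ' * γ) u : R) : Ω) =
            ((u : Ω)⁻¹ * ((γ u : R) : Ω)) * (((γ u : R) : Ω)⁻¹ * ((γ' (γ u) : R) : Ω)) := by
          rw [MulAut.mul_apply]; group
        rw [h3]
        exact Subgroup.mul_mem _ h1 h2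
      inv_mem' := by
        rintro γ ⟨hγ, h0⟩
        have hγ' : γ⁻¹ ∈ F.autGroup R := Subgroup.inv_mem _ hγ
        refine ⟨hγ', fun U hU i u hu hui => ?_⟩
        have hyU : γ⁻¹ u ∈ U := hU.1 γ⁻¹ hγ' u hu
        have hyi : ((γ⁻¹ u : R) : Ω) ∈ zs S (i + 1) :=
          hzs γ⁻¹ hγ' u (hU.2 u hu).1 (hU.2 u hu).2 (i + 1) hui
        have h1 := h0 U hU i (γ⁻¹ u) hyU hyi
        have h2 : γ (γ⁻¹ u) = u := by simp
        rw [h2] at h1
        have h3 := Subgroup.inv_mem _ h1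
        have h4 : (((γ⁻¹ u : R) : Ω)⁻¹ * (u : Ω))⁻¹ = (u : Ω)⁻¹ * ((γ⁻¹ u : R) : Ω) := by group
        rwa [h4] at h3 }
  have hNG : N ≤ F.autGroup R := fun γ hγ => hγ.1
  have hNnorm : ∀ α ∈ F.autGroup R, ∀ γ ∈ N, α * γ * α⁻¹ ∈ N := by
    rintro α hα γ ⟨hγ, h0⟩
    have hα' : α⁻¹ ∈ F.autGroup R := Subgroup.inv_mem _ hα
    refine ⟨Subgroup.mul_mem _ (Subgroup.mul_mem _ hα hγ) hα', fun U hU i u hu hui => ?_⟩
    have hyU : α⁻¹ u ∈ U := hU.1 α⁻¹ hα' u hu
    have hyi : ((α⁻¹ u : R) : Ω) ∈ zs S (i + 1) :=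
      hzs α⁻¹ hα' u (hU.2 u hu).1 (hU.2 u hu).2 (i + 1) hui
    have h1 := h0 U hU i (α⁻¹ u) hyU hyi
    have hwU : (α⁻¹ u)⁻¹ * γ (α⁻¹ u) ∈ U := U.mul_mem (U.inv_mem hyU) (hU.1 γ hγ _ hyU)
    have hwi : (((α⁻¹ u)⁻¹ * γ (α⁻¹ u) : R) : Ω) ∈ zs S i := by
      rw [Subgroup.coe_mul, Subgroup.coe_inv]
      exact h1
    have h2 := hzs α hα _ (hU.2 _ hwU).1 (hU.2 _ hwU).2 i hwi
    have h3 : α ((α⁻¹ u)⁻¹ * γ (α⁻¹ u)) = u⁻¹ * (α * γ * α⁻¹) u := by
      rw [map_mul, map_inv]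
      simp
    rw [h3, Subgroup.coe_mul, Subgroup.coe_inv] at h2
    exact h2
  have hTN : autInducedBy S R ≤ N := by
    intro τ hτ
    obtain ⟨s, hs, hτs⟩ := (mem_autInducedBy_iff S R τ).1 hτ
    refine ⟨autInducedBy_le_autGroup F hRS hτ, fun U _ i u _ hui => ?_⟩
    rw [hτs]
    exact comm_mem_zs hui hs
  have hcoprime : ∀ δ ∈ N, Nat.Coprime (orderOf δ) p → δ = 1 := by
    intro δ hδN hcop
    by_contra hne
    let R₀ : Subgroup R := (F.hyperfocalSubgroup p).subgroupOf R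
    let 𝒰 : Set (Subgroup R) := {U | (∀ γ ∈ F.autGroup R, ∀ u ∈ U, γ u ∈ U) ∧
      (∀ u ∈ U, (u : Ω) ∈ F.hyperfocalSubgroup p) ∧
      ∃ δ' ∈ N, Nat.Coprime (orderOf δ') p ∧ ∃ u ∈ U, δ' u ≠ u}
    have hR₀ : R₀ ∈ 𝒰 := by
      refine ⟨fun γ hγ u hu => ?_, fun u hu => Subgroup.mem_subgroupOf.1 hu,
        δ, hδN, hcop, ?_⟩
      · exact Subgroup.mem_subgroupOf.2
          (stronglyClosed_aut_mem' hsc hRS hγ u (Subgroup.mem_subgroupOf.1 hu))
      · by_contra hall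
        push Not at hall
        apply hne
        ext x
        rw [MulAut.one_apply]
        have key := fix_of_fixes_comm δ hcop x
          (by obtain ⟨k, hk⟩ := hRp (x⁻¹ * δ x); exact ⟨k, hk⟩)
          (by
            apply hall
            apply Subgroup.mem_subgroupOf.2
            have := mem_hyperfocal_gen F p hRS ⟨δ, hNG hδN⟩
              (mem_pResidual_of_coprime (hNG hδN) hcop) x
            simpa using this)
        rw [key]
    have hfin : 𝒰.Finite := Set.toFinite 𝒰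
    obtain ⟨U, hU𝒰, hUmin⟩ := Set.exists_min_image 𝒰 (fun U => Nat.card U) hfin ⟨R₀, hR₀⟩
    obtain ⟨hUinv, hUhyp, δ', hδ'N, hcop', u₀, hu₀, hu₀ne⟩ := hU𝒰
    have hδ'G : δ' ∈ F.autGroup R := hNG hδ'N
    set a' := restrictAut δ' U (hUinv δ' hδ'G) with ha'
    have ha'cop : Nat.Coprime (orderOf a') p :=
      Nat.Coprime.coprime_dvd_left (orderOf_restrictAut_dvd δ' U (hUinv δ' hδ'G)) hcop'
    have ha'ne : a' ≠ 1 := by
      intro h1
      apply hu₀ne
      have h5 : ((a' ⟨u₀, hu₀⟩ : U) : R) = δ' u₀ := rfl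
      rw [h1] at h5
      exact h5.symm
    have hUp : IsPGroup p U := hRp.to_subgroup U
    have hmin' : ∀ H : Subgroup U, H.Characteristic → H ≠ ⊤ → ∀ y ∈ H, a' y = y := by
      intro H hHchar hHtop y hy
      by_contra hay
      have hle : H.map U.subtype ≤ U := by
        rintro _ ⟨z, -, rfl⟩
        exact z.2
      have hneq : H.map U.subtype ≠ U := by
        intro h1
        apply hHtop
        rw [eq_top_iff]
        intro z _
        have : (z : R) ∈ H.map U.subtype := by rw [h1]; exact z.2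
        obtain ⟨w, hw, hwz⟩ := this
        have : w = z := Subtype.ext hwz
        rwa [← this]
      have hmem : H.map U.subtype ∈ 𝒰 := by
        refine ⟨?_, ?_, δ', hδ'N, hcop', (y : R), ⟨y, hy, rfl⟩, ?_⟩
        · rintro γ hγ _ ⟨z, hz, rfl⟩
          refine ⟨restrictAut γ U (hUinv γ hγ) z, ?_, rfl⟩
          have := hHchar.fixed (restrictAut γ U (hUinv γ hγ))⁻¹
          rw [← this]
          show (restrictAut γ U (hUinv γ hγ))⁻¹ (restrictAut γ U (hUinv γ hγ) z) ∈ H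
          simpa using hz
        · rintro _ ⟨z, -, rfl⟩
          exact hUhyp _ z.2
        · intro h1
          apply hay
          exact Subtype.ext h1
      have h1 := hUmin _ hmem
      exact hneq (Subgroup.eq_of_le_of_card_ge hle h1)
    have hUsmall : ∀ u ∈ U, (u : Ω) ^ p = 1 ∨ (p = 2 ∧ (u : Ω) ^ 4 = 1) := by
      intro u hu
      rcases small_of_minimal hUp a' ha'cop ha'ne hmin' ⟨u, hu⟩ with h1 | ⟨hp2, h1⟩
      · left
        have := congrArg Subtype.val (congrArg Subtype.val h1)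
        simpa using this
      · right
        refine ⟨hp2, ?_⟩
        have := congrArg Subtype.val (congrArg Subtype.val h1)
        simpa using this
    have hGI : GI U := ⟨hUinv, fun u hu => ⟨hUhyp u hu, hUsmall u hu⟩⟩
    have hchain : ∀ i : ℕ, ∀ u ∈ U, (u : Ω) ∈ zs S i → δ' u = u := by
      intro i
      induction i with
      | zero =>
        intro u _ hui
        rw [zs_zero, Subgroup.mem_bot] at hui
        have : u = 1 := Subtype.ext hui
        rw [this, map_one]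
      | succ i ih =>
        intro u hu hui
        have hc := hδ'N.2 U hGI i u hu hui
        have hcU : u⁻¹ * δ' u ∈ U := U.mul_mem (U.inv_mem hu) (hUinv δ' hδ'G u hu)
        have hci : ((u⁻¹ * δ' u : R) : Ω) ∈ zs S i := by
          rw [Subgroup.coe_mul, Subgroup.coe_inv]
          exact hc
        exact fix_of_fixes_comm δ' hcop' u
          (by obtain ⟨k, hk⟩ := hRp (u⁻¹ * δ' u); exact ⟨k, hk⟩) (ih _ hcU hci)
    obtain ⟨n, hn⟩ := exists_zs_eq_top hS
    exact hu₀ne (hchain n u₀ hu₀ (hn _ (hRS u₀.2)))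
  have hNp : IsPGroup p N := isPGroup_of_coprime_trivial N hcoprime
  exact not_essential_of_normal_pgroup hS hF hess N hNG hNnorm hNp hTN

end Cfsg.Agent.Lib.H26
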