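import Mathlib
import Cfsg.Prelude.Def_FusionSystem
import Cfsg.Agent.Lib.H25.Fusion
import Cfsg.Agent.Lib.H25.Normal
import Cfsg.Agent.Lib.H25.ExtMod

set_option autoImplicit false
set_option linter.unusedSectionVars false

/-!
For `T` strongly closed in a saturated fusion system over `S`, the subgroup `T C_S(T)` is strongly
closed (helper26), using the extension of maps modulo `T` (`exists_extMod`, helper25).
-/

namespace Cfsg.Agent.Lib.H26

open Cfsg Cfsg.FusionSystem Cfsg.Agent.Lib.H25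
open scoped Pointwise

variable {Ω : Type*} [Group Ω] {S : Subgroup Ω}

/-- Elements of `T C_S(T)` are products. -/
theorem exists_mul_of_mem_sup_centralizerIn {T : Subgroup Ω} {x : Ω}
    (hx : x ∈ T ⊔ centralizerIn S T) : ∃ t ∈ T, ∃ c ∈ centralizerIn S T, t * c = x := by
  have hCn : centralizerIn S T ≤ Subgroup.normalizer (T : Set Ω) :=
    inf_le_right.trans (Subgroup.centralizer_le_normalizer _)
  have hmul := Subgroup.coe_mul_of_right_le_normalizer_left T (centralizerIn S T) hCn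
  have hx' : x ∈ ((T ⊔ centralizerIn S T : Subgroup Ω) : Set Ω) := hx
  rw [hmul] at hx'
  obtain ⟨t, ht, c, hc, htc⟩ := hx'
  exact ⟨t, ht, c, hc, htc⟩

/-- `T C_S(T)` is strongly closed when `T` is. -/
theorem sup_centralizerIn_stronglyClosed [Finite S] {p : ℕ} [Fact p.Prime] (hS : IsPGroup p S)
    {F : FusionSystem S} (hF : F.IsSaturated p) {T : Subgroup Ω} (hT : F.StronglyClosed T) :
    F.StronglyClosed (T ⊔ centralizerIn S T) := by
  have hTS := hT.1
  have hCS : centralizerIn S T ≤ S := inf_le_left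
  refine ⟨sup_le hTS hCS, ?_⟩
  intro A hA φ hφ x
  obtain ⟨g, R, hg, hgφ⟩ := exists_extMod hS hF hT (isIso_of_mem F hφ)
  obtain ⟨t, ht, c, hc, htc⟩ := exists_mul_of_mem_sup_centralizerIn (hA x.2)
  have htAT : t ∈ A ⊔ T := (le_sup_right : T ≤ A ⊔ T) ht
  have hcAT : c ∈ A ⊔ T := by
    have : c = t⁻¹ * (x : Ω) := by rw [← htc]; group
    rw [this]
    exact Subgroup.mul_mem _ (Subgroup.inv_mem _ htAT) ((le_sup_left : A ≤ A ⊔ T) x.2)
  have hgT : IsIso F T T g := stronglyClosed_isIso_self hT hg le_sup_right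
  have hgx : g (x : Ω) = g t * g c := by
    rw [← htc]
    exact hg.map_mul htAT hcAT
  have hgt : g t ∈ T := hgT.map_mem ht
  have hgc : g c ∈ centralizerIn S T := by
    refine ⟨hg.le_right (hg.map_mem hcAT), ?_⟩
    show g c ∈ Subgroup.centralizer (T : Set Ω)
    rw [Subgroup.mem_centralizer_iff]
    intro y hy
    obtain ⟨y', hy', rfl⟩ := hgT.surjOn hy
    have hy'AT : y' ∈ A ⊔ T := (le_sup_right : T ≤ A ⊔ T) hy'
    rw [← hg.map_mul hy'AT hcAT, ← hg.map_mul hcAT hy'AT]
    congr 1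
    exact (Subgroup.mem_centralizer_iff.1 hc.2) y' hy'
  have h1 := hgφ x x.2
  rw [ext1_apply] at h1
  have e : φ x = g (x : Ω) * ((φ x)⁻¹ * g (x : Ω))⁻¹ := by group
  have h2 : g (x : Ω) ∈ T ⊔ centralizerIn S T := by
    rw [hgx]
    exact Subgroup.mul_mem _ ((le_sup_left : T ≤ _) hgt)
      ((le_sup_right : centralizerIn S T ≤ _) hgc)
  rw [e]
  exact Subgroup.mul_mem _ h2 ((le_sup_left : T ≤ _) (Subgroup.inv_mem _ h1))

end Cfsg.Agent.Lib.H26
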