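import Mathlib
import Cfsg.Prelude.Def_FusionSystem
import Cfsg.Agent.Lib.H25.Fusion
import Cfsg.Agent.Lib.H25.Saturation
import Cfsg.Agent.Lib.H25.Alperin
import Cfsg.Agent.Lib.H25.SatEquiv
import Cfsg.Agent.Lib.H26.CentricExt

set_option autoImplicit false
set_option linter.unusedSectionVars false

/-!
Saturated subsystems and centric subgroups: a map of `F` whose restriction to a centric subgroup
lies in the saturated subsystem `F'` lies in `F'` (helper26).
-/

namespace Cfsg.Agent.Lib.H26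

open Cfsg Cfsg.FusionSystem Cfsg.Agent.Lib.H25

variable {Ω : Type*} [Group Ω] {S : Subgroup Ω}

theorem isIso_of_le_system {F F' : FusionSystem S} (hle : F' ≤ F) {P Q : Subgroup Ω} {f : Ω → Ω}
    (h : IsIso F' P Q f) : IsIso F P Q f := by
  obtain ⟨φ, hφ, h1, h2⟩ := h
  exact ⟨φ, hle P hφ, h1, h2⟩

theorem isConj_of_le_system {F F' : FusionSystem S} (hle : F' ≤ F) {P Q : Subgroup Ω}
    (h : F'.IsConj P Q) : F.IsConj P Q := by
  obtain ⟨φ, hφ, hr⟩ := h
  exact ⟨φ, hle P hφ, hr⟩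

theorem isCentric_of_le_system {F F' : FusionSystem S} (hle : F' ≤ F) {Q : Subgroup Ω}
    (hQ : F.IsCentric Q) : F'.IsCentric Q :=
  ⟨hQ.1, fun R hR => hQ.2 R (isConj_of_le_system hle hR)⟩

/-- A centric subgroup is fully centralized. -/
theorem isFullyCentralized_of_isCentric [Finite S] {F : FusionSystem S} {P : Subgroup Ω}
    (hP : F.IsCentric P) : F.IsFullyCentralized P := by
  refine ⟨hP.1, fun Q hQ => ?_⟩
  obtain ⟨f, hf⟩ := (isConj_iff F).1 hQ
  obtain ⟨g, hg, hgf, hfg⟩ := hf.symm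
  have hCQ : centralizerIn S Q ≤ Q := hP.2 Q hQ
  have key : ∀ c : centralizerIn S Q, g c ∈ centralizerIn S P := by
    intro c
    have hcQ : (c : Ω) ∈ Q := hCQ c.2
    refine ⟨hP.1 (hg.map_mem hcQ), ?_⟩
    show _ ∈ Subgroup.centralizer (P : Set Ω)
    rw [Subgroup.mem_centralizer_iff]
    intro y hy
    obtain ⟨u, hu, rfl⟩ := hg.surjOn hy
    rw [← hg.map_mul hu hcQ, ← hg.map_mul hcQ hu]
    congr 1
    exact c.2.2 u hu
  let k : centralizerIn S Q → centralizerIn S P := fun c => ⟨g c, key c⟩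
  have hk : Function.Injective k := by
    intro a b hab
    have h1 : g a = g b := congrArg Subtype.val hab
    exact Subtype.ext (hg.injOn (hCQ a.2) (hCQ b.2) h1)
  have : Finite (centralizerIn S P) := finite_of_le S (inf_le_left : centralizerIn S P ≤ S)
  exact Nat.card_le_card_of_injective k hk

/-- Two isomorphisms of a saturated system agreeing on a centric subgroup. -/
theorem centric_ext_two [Finite S] {p : ℕ} [Fact p.Prime] (hS : IsPGroup p S)
    {F : FusionSystem S} (hF : F.IsSaturated p) {P Q P₁ P₂ : Subgroup Ω} (hQP : Q ≤ P)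
    (hQ : F.IsCentric Q) {f₁ f₂ : Ω → Ω} (h₁ : IsIso F P P₁ f₁) (h₂ : IsIso F P P₂ f₂)
    (h : ∀ x ∈ Q, f₁ x = f₂ x) :
    ∃ z ∈ Q, z ∈ Subgroup.centralizer (Q : Set Ω) ∧ ∀ y ∈ P, f₂ y = f₁ (z * y * z⁻¹) := by
  obtain ⟨g, hg, hgf, hfg⟩ := h₁.symm
  obtain ⟨Q', hQ'R, hfQ, hQ'mem⟩ := h₁.restrict hQP
  have hQ'c : F.IsCentric Q' := isCentric_of_isConj hQ hfQ.isConj
  have hβ : IsIso F P₁ P₂ (f₂ ∘ g) := hg.trans h₂
  have hβQ : ∀ y ∈ Q', (f₂ ∘ g) y = y := by
    intro y hy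
    obtain ⟨x, hx, rfl⟩ := hfQ.surjOn hy
    show f₂ (g (f₁ x)) = f₁ x
    rw [hgf x (hQP hx), h x hx]
  obtain ⟨w, hwQ', hwC, hw⟩ := centric_ext hS hF hQ'R hQ'c hβ hβQ
  obtain ⟨z, hzQ, hzw⟩ := hfQ.surjOn hwQ'
  have hzP : z ∈ P := hQP hzQ
  refine ⟨z, hzQ, ?_, fun y hy => ?_⟩
  · rw [Subgroup.mem_centralizer_iff]
    intro q hq
    apply h₁.injOn (P.mul_mem (hQP hq) hzP) (P.mul_mem hzP (hQP hq))
    rw [h₁.map_mul (hQP hq) hzP, h₁.map_mul hzP (hQP hq), hzw]
    exact (Subgroup.mem_centralizer_iff.1 hwC) _ (hfQ.map_mem hq)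
  · have h1 := hw (f₁ y) (h₁.map_mem hy)
    have h2 : (f₂ ∘ g) (f₁ y) = f₂ y := by
      show f₂ (g (f₁ y)) = f₂ y
      rw [hgf y hy]
    rw [h2] at h1
    rw [h1, ← hzw, h₁.map_mul (P.mul_mem hzP hy) (P.inv_mem hzP), h₁.map_mul hzP hy,
      h₁.map_inv hzP]

theorem isIso_of_restrict_centric_aux [Finite S] {p : ℕ} [Fact p.Prime] (hS : IsPGroup p S)
    {F F' : FusionSystem S} (hF : F.IsSaturated p) (hF' : F'.IsSaturated p) (hle : F' ≤ F)
    {R R' : Subgroup Ω} {k : Ω → Ω} (hk : IsIso F R R' k) :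
    ∀ n : ℕ, ∀ Q₀ : Subgroup Ω, Q₀ ≤ R → F.IsCentric Q₀ → Nat.card R - Nat.card Q₀ = n →
      (∃ X, IsIso F' Q₀ X k) → IsIso F' R R' k := by
  have hRS : R ≤ S := hk.le_left
  have hfinR : Finite R := finite_of_le S hRS
  intro n
  induction n using Nat.strong_induction_on with
  | _ n ih =>
    intro Q₀ hQ₀R hQ₀ hn ⟨X, hk₀⟩
    by_cases hQeq : Q₀ = R
    · subst hQeq
      exact hk₀.restrict' le_rfl (fun x hx => hk.map_mem hx) (fun y hy => hk.surjOn hy)
    · have hRp : IsPGroup p R := hS.to_le hRS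
      obtain ⟨g, hgN, hgQ⟩ := exists_mem_normalizerIn_not_mem (S := R) hRp hQ₀R hQeq
      obtain ⟨N, hNdef⟩ : ∃ N : Subgroup Ω, N = normalizerIn R Q₀ := ⟨_, rfl⟩
      have hQN : Q₀ ≤ N := by
        rw [hNdef]
        exact le_inf hQ₀R Subgroup.le_normalizer
      have hNR : N ≤ R := by
        rw [hNdef]
        exact inf_le_left
      have hNnorm : N ≤ Subgroup.normalizer (Q₀ : Set Ω) := by
        rw [hNdef]
        exact inf_le_right
      have hlt : Q₀ < N := by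
        refine lt_of_le_of_ne hQN ?_
        intro h
        apply hgQ
        rw [h, hNdef]
        exact hgN
      have hcard : Nat.card Q₀ < Nat.card N := card_lt_of_lt' (S := R) hNR hlt
      have hNS : N ≤ S := hNR.trans hRS
      -- `X` is receptive in `F'`
      have hXc : F'.IsCentric X := isCentric_of_isConj (isCentric_of_le_system hle hQ₀) hk₀.isConj
      have hXrec : F'.IsReceptive X :=
        isReceptive_of_fullyCentralized hS hF' (isFullyCentralized_of_isCentric hXc)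
      obtain ⟨f', N', hf', hagree⟩ := IsReceptive_extend hXrec hk₀ N (by
        intro g hg
        refine ⟨hNS hg, hNnorm hg, k g, hk.le_right (hk.map_mem (hNR hg)), fun x hx => ?_⟩
        have hgR := hNR hg
        have hxR := hQ₀R hx
        rw [hk.map_mul (R.mul_mem hgR hxR) (R.inv_mem hgR), hk.map_mul hgR hxR, hk.map_inv hgR])
      obtain ⟨N'', -, hkN, -⟩ := hk.restrict hNR
      have hf'F : IsIso F N N' f' := isIso_of_le_system hle hf'
      obtain ⟨z, hzQ, hzC, hz⟩ := centric_ext_two hS hF hQN hQ₀ hf'F hkN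
        (fun x hx => hagree x hx (hQN hx))
      have hzN : z ∈ N := hQN hzQ
      have hcj : IsIso F' N N (fun x => z * x * z⁻¹) :=
        isIso_conj_normalizer F' hNS ⟨hNS hzN, Subgroup.le_normalizer hzN⟩
      have hkN' : IsIso F' N N' k := (hcj.trans hf').congr (fun y hy => (hz y hy).symm)
      have hNc : F.IsCentric N := isCentric_of_le hQ₀ hQN hNS
      have hle' : Nat.card N ≤ Nat.card R := Subgroup.card_le_of_le hNR
      exact ih (Nat.card R - Nat.card N) (by omega) N hNR hNc rfl ⟨N', hkN'⟩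

/-- A map of the saturated system `F` whose restriction to an `F`-centric subgroup lies in the
saturated subsystem `F'` lies in `F'`. -/
theorem isIso_of_restrict_centric [Finite S] {p : ℕ} [Fact p.Prime] (hS : IsPGroup p S)
    {F F' : FusionSystem S} (hF : F.IsSaturated p) (hF' : F'.IsSaturated p) (hle : F' ≤ F)
    {R R' Q₀ X : Subgroup Ω} {k : Ω → Ω} (hk : IsIso F R R' k) (hQ₀R : Q₀ ≤ R)
    (hQ₀ : F.IsCentric Q₀) (hk₀ : IsIso F' Q₀ X k) : IsIso F' R R' k :=
  isIso_of_restrict_centric_aux hS hF hF' hle hk _ Q₀ hQ₀R hQ₀ rfl ⟨X, hk₀⟩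

end Cfsg.Agent.Lib.H26
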