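import Mathlib
import Cfsg.Prelude.Def_Local
import Cfsg.Agent.Lib.H1.PCore
import Cfsg.Agent.Lib.H7.FStar

set_option autoImplicit false

/-!
# S1874 piece FS (helper26, for helper7's farm-out)
-/

namespace Cfsg.Agent.Lib.H26.SympBFS

universe u
variable {G : Type u} [Group G]

/-- FS: if `F*(C_G(A))` is a `p`-group (`A` an abelian `p`-subgroup) then `P = O_p(C_G(A))` (as a subgroup of
`G`) contains its centralizer in `C_G(A)`, contains `A`, and is normal in `C_G(A)`. -/
theorem fs_setup [Finite G] (p : ℕ) [Fact p.Prime] (A : Subgroup G)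
    (hAc : ∀ a ∈ A, ∀ b ∈ A, a * b = b * a) (hAp : IsPGroup p ↥A)
    (hF : IsPGroup p ↥(Cfsg.generalizedFittingSubgroup ↥(Subgroup.centralizer (A : Set G)))) :
    ∃ P : Subgroup G, IsPGroup p ↥P ∧ P ≤ Subgroup.centralizer (A : Set G) ∧
      Subgroup.centralizer (A : Set G) ≤ Subgroup.normalizer (P : Set G) ∧
      Subgroup.centralizer (A : Set G) ⊓ Subgroup.centralizer (P : Set G) ≤ P ∧ A ≤ P := by
  classical
  set C : Subgroup G := Subgroup.centralizer (A : Set G) with hC
  have hOn : (Cfsg.pCore p ↥C).Normal := Cfsg.Agent.Lib.H1.pCore_normal p ↥C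
  have hOp : IsPGroup p ↥(Cfsg.pCore p ↥C) := Cfsg.Agent.Lib.H1.pCore_isPGroup p ↥C
  refine ⟨(Cfsg.pCore p ↥C).map C.subtype, ?_, ?_, ?_, ?_, ?_⟩
  · exact hOp.map _
  · exact Subgroup.map_subtype_le _
  · -- C normalizes the image of a normal subgroup of C
    intro c hc
    rw [Subgroup.mem_normalizer_iff]
    intro x
    constructor
    · rintro ⟨y, hy, rfl⟩
      refine ⟨⟨c, hc⟩ * y * ⟨c, hc⟩⁻¹, hOn.conj_mem y hy ⟨c, hc⟩, ?_⟩
      simp
    · rintro ⟨y, hy, hyx⟩
      have h1 := hOn.conj_mem y hy (⟨c, hc⟩⁻¹ : ↥C)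
      refine ⟨(⟨c, hc⟩⁻¹ : ↥C) * y * (⟨c, hc⟩⁻¹ : ↥C)⁻¹, h1, ?_⟩
      have : (C.subtype y : G) = c * x * c⁻¹ := hyx
      simp only [map_mul, map_inv, Subgroup.coe_subtype, inv_inv] at this ⊢
      rw [this]; group
  · -- centralizer
    rintro x ⟨hxC, hxP⟩
    -- ⟨x, hxC⟩ centralizes O_p(C) hence F*(C)
    have hFle : Cfsg.generalizedFittingSubgroup ↥C ≤ Cfsg.pCore p ↥C :=
      Cfsg.Agent.Lib.H1.le_pCore inferInstance hF
    have hxcent : (⟨x, hxC⟩ : ↥C) ∈ Subgroup.centralizer (Cfsg.generalizedFittingSubgroup ↥C : Set ↥C) := by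
      rw [Subgroup.mem_centralizer_iff]
      intro y hy
      have hy' : (y : G) ∈ (Cfsg.pCore p ↥C).map C.subtype := ⟨y, hFle hy, rfl⟩
      have := (Subgroup.mem_centralizer_iff.1 hxP) (y : G) hy'
      exact Subtype.ext this
    have h2 := Cfsg.Agent.Lib.H7.centralizer_generalizedFittingSubgroup_le hxcent
    exact ⟨⟨x, hxC⟩, hFle h2, rfl⟩
  · -- A ≤ P
    intro a ha
    have haC : a ∈ C := by
      rw [hC, Subgroup.mem_centralizer_iff]
      intro b hb
      exact hAc b hb a ha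
    -- A.subgroupOf C is a normal p-subgroup of C
    have hAC : A ≤ C := by
      intro b hb
      rw [hC, Subgroup.mem_centralizer_iff]
      intro b' hb'
      exact hAc b' hb' b hb
    have hn : (A.subgroupOf C).Normal := by
      constructor
      intro y hy c
      rw [Subgroup.mem_subgroupOf] at hy ⊢
      have hcy : (c : G) * (y : G) = (y : G) * (c : G) := by
        have := (Subgroup.mem_centralizer_iff.1 c.2) (y : G) hy
        exact this.symm
      simp only [Subgroup.coe_mul, Subgroup.coe_inv]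
      rw [hcy, mul_assoc, mul_inv_cancel, mul_one]
      exact hy
    have hpA : IsPGroup p ↥(A.subgroupOf C) := hAp.comap_subtype
    have := Cfsg.Agent.Lib.H1.le_pCore hn hpA
    exact ⟨⟨a, haC⟩, this (by rw [Subgroup.mem_subgroupOf]; exact ha), rfl⟩

end Cfsg.Agent.Lib.H26.SympBFS
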