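import Mathlib
import Cfsg.Agent.Lib.H26.SzCW

set_option autoImplicit false
set_option linter.style.haveILetI false
set_option linter.unusedSectionVars false

/-!
Suzuki 2-groups of order `|Z|²` (helper26): the second coordinate.  If the squaring map of a
class-two group `P` with `P/Z ≅ F ≅ Z` is `x ↦ x θ(x)`, there is `β : P → F` extending the
coordinate of the centre with `β (g g') = β g + β g' + θ(α g) α g'`.
-/

namespace Cfsg.Agent.Lib.H26.Sz

open Cfsg.Agent.Lib.H24.SuzukiTwo (cm)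

universe u w

variable {P : Type u} [Group P] {F : Type w} [Field F] [CharP F 2]

/-- data for the cocycle construction -/
structure BD (θ : F →+* F) (α zv : P → F) : Prop where
  ct : CT P
  α_mul : ∀ g g', α (g * g') = α g + α g'
  α_ker : ∀ g, α g = 0 ↔ g ∈ Subgroup.center P
  α_surj : ∀ u : F, ∃ g, α g = u
  zv_mul : ∀ a b, a ∈ Subgroup.center P → b ∈ Subgroup.center P → zv (a * b) = zv a + zv b
  zv_sq : ∀ g, zv (g * g) = α g * θ (α g)

/-- partial trivializations of the cocycle -/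
def Good (θ : F →+* F) (α zv : P → F) (U : AddSubgroup F) : Prop :=
  ∃ β : P → F, (∀ z ∈ Subgroup.center P, β z = zv z) ∧
    ∀ g g', α g ∈ U → α g' ∈ U → β (g * g') = β g + β g' + θ (α g) * α g'

namespace BD

variable {θ : F →+* F} {α zv : P → F} (d : BD θ α zv)
include d

theorem α_one : α 1 = 0 := (d.α_ker 1).2 (Subgroup.one_mem _)

theorem α_inv (g : P) : α g⁻¹ = α g := by
  have := d.α_mul g g⁻¹
  rw [mul_inv_cancel, d.α_one] at this
  have h2 : α g + α g = 0 := CharTwo.add_self_eq_zero _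
  rw [← h2] at this
  exact (add_left_cancel this).symm

theorem zv_cm (x y : P) : zv (cm y x) = α x * θ (α y) + α y * θ (α x) := by
  have h1 := congrArg zv (d.ct.sq_mul_eq x y)
  rw [d.zv_mul _ _ (Subgroup.mul_mem _ (d.ct.sq_mem_center x) (d.ct.sq_mem_center y))
    (d.ct.hcm y x), d.zv_mul _ _ (d.ct.sq_mem_center x) (d.ct.sq_mem_center y),
    d.zv_sq, d.zv_sq, d.zv_sq, d.α_mul, map_add] at h1
  linear_combination (-1 : F) * h1

theorem good_bot : Good θ α zv ⊥ := by
  refine ⟨zv, fun z _ => rfl, ?_⟩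
  intro g g' hg hg'
  rw [AddSubgroup.mem_bot] at hg hg'
  rw [d.zv_mul g g' ((d.α_ker g).1 hg) ((d.α_ker g').1 hg'), hg, hg']
  simp

/-- the subgroup `U ∪ (U + a)` -/
def extSub (U : AddSubgroup F) (a : F) : AddSubgroup F where
  carrier := {u | u ∈ U ∨ u + a ∈ U}
  zero_mem' := Or.inl U.zero_mem
  add_mem' := by
    rintro u v (hu | hu) (hv | hv)
    · exact Or.inl (U.add_mem hu hv)
    · right
      have : u + v + a = u + (v + a) := by ring
      rw [this]
      exact U.add_mem hu hv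
    · right
      have : u + v + a = (u + a) + v := by ring
      rw [this]
      exact U.add_mem hu hv
    · left
      have h2 : a + a = 0 := CharTwo.add_self_eq_zero a
      have : u + v = (u + a) + (v + a) := by linear_combination (-1 : F) * h2
      rw [this]
      exact U.add_mem hu hv
  neg_mem' := by
    intro u hu
    rw [CharTwo.neg_eq]
    exact hu

omit d in
theorem mem_extSub (U : AddSubgroup F) (a u : F) : u ∈ extSub U a ↔ u ∈ U ∨ u + a ∈ U := Iff.rfl

theorem good_step (U : AddSubgroup F) (hU : Good θ α zv U) (hne : U ≠ ⊤) :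
    ∃ U', U < U' ∧ Good θ α zv U' := by
  classical
  have h2 : (2 : F) = 0 := CharTwo.two_eq_zero
  obtain ⟨a, ha⟩ : ∃ a, a ∉ U := by
    by_contra hall
    push Not at hall
    exact hne (eq_top_iff.2 (fun u _ => hall u))
  refine ⟨extSub U a, ?_, ?_⟩
  · refine lt_of_le_of_ne (fun u hu => Or.inl hu) ?_
    intro heq
    apply ha
    rw [heq, mem_extSub]
    right
    rw [CharTwo.add_self_eq_zero]
    exact U.zero_mem
  obtain ⟨β, hβZ, hβ⟩ := hU
  obtain ⟨y, hy⟩ := d.α_surj a
  have hy' : α y⁻¹ = a := by rw [d.α_inv, hy]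
  have hnot : ∀ u, u + a ∈ U → u ∉ U := by
    intro u hu hu'
    apply ha
    have : a = (u + a) - u := by ring
    rw [this]
    exact U.sub_mem hu hu'
  have hαh : ∀ g, α (g * y⁻¹) = α g + a := by
    intro g
    rw [d.α_mul, hy']
  refine ⟨fun g => if α g ∈ U then β g else β (g * y⁻¹) + θ (α (g * y⁻¹)) * a, ?_, ?_⟩
  · intro z hz
    have : α z ∈ U := by rw [(d.α_ker z).2 hz]; exact U.zero_mem
    simp only [if_pos this]
    exact hβZ z hz
  rintro g g' (hg | hg) (hg' | hg')
  · have h3 : α (g * g') ∈ U := by rw [d.α_mul]; exact U.add_mem hg hg'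
    simp only [if_pos hg, if_pos hg', if_pos h3]
    exact hβ g g' hg hg'
  · have h3 : α (g * g') ∉ U := by
      apply hnot
      have : α (g * g') + a = α g + (α g' + a) := by rw [d.α_mul]; ring
      rw [this]
      exact U.add_mem hg hg'
    have hg'n := hnot _ hg'
    simp only [if_pos hg, if_neg hg'n, if_neg h3]
    have hh' : α (g' * y⁻¹) ∈ U := by rw [hαh]; exact hg'
    have e1 := hβ g (g' * y⁻¹) hg hh'
    rw [← mul_assoc] at e1
    rw [e1, hαh, hαh, d.α_mul, map_add, map_add, map_add]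
    linear_combination (θ (α g) * a) * h2
  · have hgn := hnot _ hg
    have h3 : α (g * g') ∉ U := by
      apply hnot
      have : α (g * g') + a = (α g + a) + α g' := by rw [d.α_mul]; ring
      rw [this]
      exact U.add_mem hg hg'
    simp only [if_neg hgn, if_pos hg', if_neg h3]
    have hh : α (g * y⁻¹) ∈ U := by rw [hαh]; exact hg
    have hc : cm g' y⁻¹ ∈ Subgroup.center P := d.ct.hcm _ _
    have hαc : α (cm g' y⁻¹) = 0 := (d.α_ker _).2 hc
    have hhg' : α (g * y⁻¹ * g') ∈ U := by rw [d.α_mul]; exact U.add_mem hh hg'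
    have e0 : g * g' * y⁻¹ = (g * y⁻¹) * g' * cm g' y⁻¹ := by unfold cm; group
    have e1 := hβ (g * y⁻¹ * g') (cm g' y⁻¹) hhg' (by rw [hαc]; exact U.zero_mem)
    have e2 := hβ (g * y⁻¹) g' hh hg'
    have e3 : β (cm g' y⁻¹) = zv (cm g' y⁻¹) := hβZ _ hc
    have e4 := d.zv_cm y⁻¹ g'
    have hα3 : α (g * g' * y⁻¹) = α g + α g' + a := by rw [d.α_mul, d.α_mul, hy']
    have e5 : β (g * g' * y⁻¹) = β (g * y⁻¹) + β g' + θ (α (g * y⁻¹)) * α g'
        + (a * θ (α g') + α g' * θ a) := by
      rw [e0, e1, e2, e3, e4, hαc, hy']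
      ring
    rw [e5, hα3, hαh, map_add, map_add, map_add]
    linear_combination (a * θ (α g') + θ a * α g') * h2
  · have hgn := hnot _ hg
    have hg'n := hnot _ hg'
    have h3 : α (g * g') ∈ U := by
      have h2' : a + a = 0 := CharTwo.add_self_eq_zero a
      have : α (g * g') = (α g + a) + (α g' + a) := by
        rw [d.α_mul]; linear_combination (-1 : F) * h2'
      rw [this]
      exact U.add_mem hg hg'
    simp only [if_neg hgn, if_neg hg'n, if_pos h3]
    have hh : α (g * y⁻¹) ∈ U := by rw [hαh]; exact hg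
    have hh' : α (g' * y⁻¹) ∈ U := by rw [hαh]; exact hg'
    have hc : cm (g' * y⁻¹) y⁻¹ ∈ Subgroup.center P := d.ct.hcm _ _
    have hyy : y * y ∈ Subgroup.center P := d.ct.sq_mem_center y
    have hz : cm (g' * y⁻¹) y⁻¹ * (y * y) ∈ Subgroup.center P := Subgroup.mul_mem _ hc hyy
    have hαz : α (cm (g' * y⁻¹) y⁻¹ * (y * y)) = 0 := (d.α_ker _).2 hz
    have hhh' : α (g * y⁻¹ * (g' * y⁻¹)) ∈ U := by rw [d.α_mul]; exact U.add_mem hh hh'
    have e0 : g * g' = (g * y⁻¹) * (g' * y⁻¹) * (cm (g' * y⁻¹) y⁻¹ * (y * y)) := by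
      unfold cm; group
    have e1 := hβ (g * y⁻¹ * (g' * y⁻¹)) (cm (g' * y⁻¹) y⁻¹ * (y * y)) hhh'
      (by rw [hαz]; exact U.zero_mem)
    have e2 := hβ (g * y⁻¹) (g' * y⁻¹) hh hh'
    have e3 : β (cm (g' * y⁻¹) y⁻¹ * (y * y)) = zv (cm (g' * y⁻¹) y⁻¹ * (y * y)) := hβZ _ hz
    have e4 := d.zv_cm y⁻¹ (g' * y⁻¹)
    have e6 := d.zv_mul _ _ hc hyy
    have e7 := d.zv_sq y
    have e5 : β (g * g') = β (g * y⁻¹) + β (g' * y⁻¹) + θ (α (g * y⁻¹)) * α (g' * y⁻¹)
        + (a * θ (α (g' * y⁻¹)) + α (g' * y⁻¹) * θ a + a * θ a) := by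
      conv_lhs => rw [e0]
      rw [e1, e2, e3, e6, e4, e7, hαz, hy', hy]
      ring
    rw [e5, hαh, hαh, map_add, map_add]
    linear_combination (θ a * α g' + θ a * a) * h2

/-- the second coordinate -/
theorem exists_beta [Finite F] : ∃ β : P → F, (∀ z ∈ Subgroup.center P, β z = zv z) ∧
    ∀ g g', β (g * g') = β g + β g' + θ (α g) * α g' := by
  have htop : Good θ α zv ⊤ := by
    by_contra hne
    have key : ∀ U : AddSubgroup F, Good θ α zv U → False := by
      intro U
      induction U using WellFoundedGT.induction with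
      | ind U ih =>
        intro hU
        by_cases hU' : U = ⊤
        · exact hne (hU' ▸ hU)
        obtain ⟨U', hlt, hg⟩ := d.good_step U hU hU'
        exact ih U' hlt hg
    exact key ⊥ d.good_bot
  obtain ⟨β, hβZ, hβ⟩ := htop
  exact ⟨β, hβZ, fun g g' => hβ g g' (AddSubgroup.mem_top _) (AddSubgroup.mem_top _)⟩

end BD

end Cfsg.Agent.Lib.H26.Sz
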