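import Mathlib

set_option autoImplicit false
set_option linter.style.haveILetI false

/-!
A finite elementary abelian 2-group on whose nonzero vectors a commutative group `K` acts
regularly (by automorphisms) is the additive group of a finite field whose multiplicative group
is `K` (helper26).
-/

namespace Cfsg.Agent.Lib.H26.Sz

universe u v

variable {V : Type u} [AddCommGroup V] {K : Type v} [Group K]

/-- a regular action of a commutative group on the nonzero vectors of an elementary abelian
2-group -/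
structure RA (act : K →* AddMonoid.End V) : Prop where
  fin : Finite V
  two : ∀ v : V, v + v = 0
  comm : ∀ k k' : K, k * k' = k' * k
  nz : ∃ v : V, v ≠ 0
  reg : ∀ v w : V, v ≠ 0 → w ≠ 0 → ∃! k : K, act k v = w

namespace RA

variable {act : K →* AddMonoid.End V} (h : RA act)

theorem act_inv_act (act : K →* AddMonoid.End V) (k : K) (v : V) : act k⁻¹ (act k v) = v := by
  have : (act k⁻¹ * act k) v = v := by
    rw [← map_mul, inv_mul_cancel, map_one]
    rfl
  exact this

theorem act_ne_zero' (act : K →* AddMonoid.End V) (k : K) {v : V} (hv : v ≠ 0) : act k v ≠ 0 := by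
  intro h0
  apply hv
  have h1 := act_inv_act act k v
  rw [h0, map_zero] at h1
  exact h1.symm

theorem act_mul_apply (act : K →* AddMonoid.End V) (k k' : K) (v : V) :
    act (k * k') v = act k (act k' v) := by
  rw [map_mul]
  rfl

include h

theorem k_inj {k k' : K} {v : V} (hv : v ≠ 0) (hk : act k v = act k' v) : k = k' :=
  (h.reg v _ hv (act_ne_zero' act k' hv)).unique hk rfl

theorem k_trans {v w : V} (hv : v ≠ 0) (hw : w ≠ 0) : ∃ k : K, act k v = w :=
  (h.reg v w hv hw).exists

theorem k_comm (k k' : K) (v : V) : act k (act k' v) = act k' (act k v) := by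
  rw [← act_mul_apply, ← act_mul_apply, h.comm]

theorem exists_add {k k' : K} (hkk' : k ≠ k') : ∃ k'' : K, act k + act k' = act k'' := by
  obtain ⟨v₁, hv₁⟩ := h.nz
  have hw : act k v₁ + act k' v₁ ≠ 0 := by
    intro h0
    apply hkk'
    apply h.k_inj hv₁
    have h1 := h.two (act k' v₁)
    have : act k v₁ + act k' v₁ = act k' v₁ + act k' v₁ := by rw [h0, h1]
    exact add_right_cancel this
  obtain ⟨k'', hk''⟩ := h.k_trans hv₁ hw
  refine ⟨k'', ?_⟩
  refine AddMonoidHom.ext (fun a => ?_)
  show act k a + act k' a = act k'' a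
  by_cases ha : a = 0
  · rw [ha, map_zero, map_zero, map_zero, add_zero]
  obtain ⟨m, rfl⟩ := h.k_trans hv₁ ha
  rw [h.k_comm k m, h.k_comm k' m, h.k_comm k'' m, ← map_add, hk'']

theorem act_ne_zero (k : K) : act k ≠ 0 := by
  obtain ⟨v₁, hv₁⟩ := h.nz
  intro h0
  have := DFunLike.congr_fun h0 v₁
  exact act_ne_zero' act k hv₁ this

/-- the field, as a subring of the endomorphism ring -/
def fieldRing : Subring (AddMonoid.End V) where
  carrier := {f | f = 0 ∨ ∃ k : K, f = act k}
  mul_mem' := by
    rintro f g (rfl | ⟨k, rfl⟩) (rfl | ⟨k', rfl⟩)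
    · left; simp
    · left; simp
    · left; simp
    · right; exact ⟨k * k', by rw [map_mul]⟩
  one_mem' := Or.inr ⟨1, by rw [map_one]⟩
  add_mem' := by
    rintro f g (rfl | ⟨k, rfl⟩) (rfl | ⟨k', rfl⟩)
    · left; simp
    · right; exact ⟨k', by simp⟩
    · right; exact ⟨k, by simp⟩
    · by_cases hkk' : k = k'
      · left
        subst hkk'
        refine AddMonoidHom.ext (fun a => ?_)
        exact h.two _
      · right
        obtain ⟨k'', hk''⟩ := h.exists_add hkk'
        exact ⟨k'', hk''⟩
  zero_mem' := Or.inl rfl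
  neg_mem' := by
    intro f hf
    have : -f = f := by
      refine AddMonoidHom.ext (fun a => ?_)
      show -(f a) = f a
      exact neg_eq_of_add_eq_zero_left (h.two _)
    rw [this]
    exact hf

theorem mem_fieldRing (f : AddMonoid.End V) :
    f ∈ h.fieldRing ↔ f = 0 ∨ ∃ k : K, f = act k := Iff.rfl

theorem fieldRing_mul_comm (a b : h.fieldRing) : a * b = b * a := by
  obtain ⟨f, hf⟩ := a
  obtain ⟨g, hg⟩ := b
  apply Subtype.ext
  show f * g = g * f
  rcases hf with rfl | ⟨k, rfl⟩
  · simp
  rcases hg with rfl | ⟨k', rfl⟩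
  · simp
  rw [← map_mul, ← map_mul, h.comm]

/-- the commutative ring structure -/
@[reducible] def fieldCommRing : CommRing h.fieldRing :=
  { (inferInstance : Ring h.fieldRing) with mul_comm := h.fieldRing_mul_comm }

theorem fieldRing_isDomain : @IsDomain h.fieldRing h.fieldCommRing.toSemiring := by
  letI := h.fieldCommRing
  haveI : Nontrivial h.fieldRing := by
    refine ⟨⟨0, 1, ?_⟩⟩
    intro h0
    have := congrArg Subtype.val h0
    have h1 : (1 : AddMonoid.End V) = act (1 : K) := by rw [map_one]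
    exact h.act_ne_zero 1 (h1 ▸ this.symm)
  haveI : NoZeroDivisors h.fieldRing := by
    refine ⟨?_⟩
    rintro ⟨f, hf⟩ ⟨g, hg⟩ hfg
    have hfg' : f * g = 0 := congrArg Subtype.val hfg
    rcases hf with rfl | ⟨k, rfl⟩
    · left; rfl
    rcases hg with rfl | ⟨k', rfl⟩
    · right; rfl
    exfalso
    rw [← map_mul] at hfg'
    exact h.act_ne_zero _ hfg'
  exact NoZeroDivisors.to_isDomain _

theorem fieldRing_finite : Finite h.fieldRing := by
  haveI := h.fin
  haveI : Finite (AddMonoid.End V) := by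
    show Finite (V →+ V)
    exact Finite.of_injective (fun f : V →+ V => (f : V → V)) DFunLike.coe_injective
  infer_instance

/-- evaluation at a base point -/
def ev (z₁ : V) (r : h.fieldRing) : V := r.1 z₁

theorem ev_add (z₁ : V) (r s : h.fieldRing) : h.ev z₁ (r + s) = h.ev z₁ r + h.ev z₁ s := rfl

theorem ev_zero (z₁ : V) : h.ev z₁ 0 = 0 := rfl

theorem ev_mul (z₁ : V) (r s : h.fieldRing) : h.ev z₁ (r * s) = r.1 (h.ev z₁ s) := rfl

theorem ev_eq_zero {z₁ : V} (hz₁ : z₁ ≠ 0) {r : h.fieldRing} (hr : h.ev z₁ r = 0) : r = 0 := by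
  obtain ⟨f, hf⟩ := r
  rcases hf with rfl | ⟨k, rfl⟩
  · rfl
  exfalso
  exact act_ne_zero' act k hz₁ hr

theorem ev_bijective {z₁ : V} (hz₁ : z₁ ≠ 0) : Function.Bijective (h.ev z₁) := by
  constructor
  · intro r s hrs
    have : h.ev z₁ (r - s) = 0 := by
      have e : r = (r - s) + s := by abel
      have := h.ev_add z₁ (r - s) s
      rw [← e, hrs] at this
      exact (add_eq_right.1 this.symm)
    exact sub_eq_zero.1 (h.ev_eq_zero hz₁ this)
  · intro a
    by_cases ha : a = 0
    · exact ⟨0, by rw [ha]; rfl⟩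
    obtain ⟨k, hk⟩ := h.k_trans hz₁ ha
    exact ⟨⟨act k, Or.inr ⟨k, rfl⟩⟩, hk⟩

/-- The field attached to a regular action. -/
theorem exists_field : ∃ (F : Type u) (_ : Field F) (_ : Fintype F) (_ : CharP F 2) (e : V → F)
    (κ : K → F),
    (∀ a b, e (a + b) = e a + e b) ∧ Function.Bijective e ∧
    (∀ k k', κ (k * k') = κ k * κ k') ∧ (∀ k, κ k ≠ 0) ∧ (∀ u : F, u ≠ 0 → ∃ k, κ k = u) ∧
    (κ 1 = 1) ∧ (∀ k, κ k = 1 → k = 1) ∧
    (∀ (k : K) (a : V), e (act k a) = κ k * e a) := by
  classical
  obtain ⟨z, hz0⟩ := h.nz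
  letI := h.fieldCommRing
  haveI := h.fieldRing_isDomain
  haveI := h.fieldRing_finite
  letI : Fintype h.fieldRing := Fintype.ofFinite _
  letI fld : Field h.fieldRing := Fintype.fieldOfDomain h.fieldRing
  let e : h.fieldRing ≃ V := Equiv.ofBijective (h.ev z) (h.ev_bijective hz0)
  have he_add : ∀ r s, e (r + s) = e r + e s := fun r s => h.ev_add z r s
  have hes_add : ∀ x y, e.symm (x + y) = e.symm x + e.symm y := by
    intro x y
    apply e.injective
    rw [he_add, e.apply_symm_apply, e.apply_symm_apply, e.apply_symm_apply]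
  have h2 : (2 : h.fieldRing) = 0 := by
    rw [← one_add_one_eq_two]
    apply Subtype.ext
    refine AddMonoidHom.ext (fun a => ?_)
    exact h.two a
  have hchar : CharP h.fieldRing 2 := CharTwo.of_one_ne_zero_of_two_eq_zero one_ne_zero h2
  let κ : K → h.fieldRing := fun k => ⟨act k, Or.inr ⟨k, rfl⟩⟩
  refine ⟨h.fieldRing, fld, inferInstance, hchar, e.symm, κ, hes_add, e.symm.bijective,
    ?_, ?_, ?_, ?_, ?_, ?_⟩
  · intro k k'
    apply Subtype.ext
    show act (k * k') = act k * act k'
    rw [map_mul]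
  · intro k h0
    exact h.act_ne_zero k (congrArg Subtype.val h0)
  · rintro ⟨f, hf⟩ hu
    rcases hf with rfl | ⟨k, rfl⟩
    · exact absurd rfl hu
    · exact ⟨k, rfl⟩
  · apply Subtype.ext
    show act (1 : K) = 1
    rw [map_one]
  · intro k hk
    have h3 : act k = 1 := congrArg Subtype.val hk
    have h4 : act k z = z := DFunLike.congr_fun h3 z
    apply h.k_inj hz0
    rw [h4, map_one]
    rfl
  · intro k a
    apply e.injective
    rw [e.apply_symm_apply]
    show _ = h.ev z (κ k * e.symm a)
    rw [h.ev_mul]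
    have : h.ev z (e.symm a) = a := e.apply_symm_apply _
    rw [this]

end RA

/-- function form of `RA.exists_field` -/
theorem exists_field_of_fun (act : K → V → V) (hadd : ∀ k a b, act k (a + b) = act k a + act k b)
    (hone : ∀ a, act 1 a = a) (hmul : ∀ k k' a, act (k * k') a = act k (act k' a))
    (fin : Finite V) (two : ∀ v : V, v + v = 0) (comm : ∀ k k' : K, k * k' = k' * k)
    (nz : ∃ v : V, v ≠ 0) (reg : ∀ v w : V, v ≠ 0 → w ≠ 0 → ∃! k : K, act k v = w) :
    ∃ (F : Type u) (_ : Field F) (_ : Fintype F) (_ : CharP F 2) (e : V → F) (κ : K → F),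
    (∀ a b, e (a + b) = e a + e b) ∧ Function.Bijective e ∧
    (∀ k k', κ (k * k') = κ k * κ k') ∧ (∀ k, κ k ≠ 0) ∧ (∀ u : F, u ≠ 0 → ∃ k, κ k = u) ∧
    (κ 1 = 1) ∧ (∀ k, κ k = 1 → k = 1) ∧
    (∀ (k : K) (a : V), e (act k a) = κ k * e a) := by
  have hzero : ∀ k, act k 0 = 0 := by
    intro k
    have := hadd k 0 0
    rw [add_zero] at this
    exact left_eq_add.1 this
  let A : K →* AddMonoid.End V :=
    { toFun := fun k => AddMonoidHom.mk' (act k) (hadd k)
      map_one' := by
        refine AddMonoidHom.ext (fun a => ?_)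
        exact hone a
      map_mul' := by
        intro k k'
        refine AddMonoidHom.ext (fun a => ?_)
        exact hmul k k' a }
  have hA : RA A := ⟨fin, two, comm, nz, reg⟩
  exact hA.exists_field

end Cfsg.Agent.Lib.H26.Sz
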