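import Mathlib
import Cfsg.Agent.Lib.H6.FieldAut

set_option autoImplicit false

/-!
Additive endomorphisms of a finite field of characteristic two as combinations of field
automorphisms: coefficients, the twisted conjugation action of the multiplicative group,
the trace, and the rigidity lemma for the characters `u ↦ u / σ u` (helper26).
-/

namespace Cfsg.Agent.Lib.H26.Sz

open Cfsg.Agent.Lib.H6.FieldAut

variable {F : Type*} [Field F] [Fintype F] [CharP F 2]

instance finiteAut : Finite (F ≃+* F) :=
  Finite.of_injective (fun σ : F ≃+* F => (σ : F → F)) DFunLike.coe_injective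

noncomputable instance fintypeAut : Fintype (F ≃+* F) := Fintype.ofFinite _

/-- The additive map `x ↦ ∑ σ, c σ * σ x`. -/
noncomputable def comb (c : (F ≃+* F) → F) : F →+ F :=
  ∑ σ : F ≃+* F, (AddMonoidHom.mulLeft (c σ)).comp ((σ : F →+* F) : F →+ F)

theorem comb_apply (c : (F ≃+* F) → F) (x : F) : comb c x = ∑ σ : F ≃+* F, c σ * σ x := by
  simp [comb, AddMonoidHom.finsetSum_apply]

theorem comb_add (c c' : (F ≃+* F) → F) : comb (c + c') = comb c + comb c' := by
  ext x
  simp [comb_apply, add_mul, Finset.sum_add_distrib]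

theorem comb_zero : comb (0 : (F ≃+* F) → F) = 0 := by
  ext x
  simp [comb_apply]

theorem comb_sub (c c' : (F ≃+* F) → F) : comb (c - c') = comb c - comb c' := by
  ext x
  simp [comb_apply, sub_mul, Finset.sum_sub_distrib]

theorem comb_eq_zero {c : (F ≃+* F) → F} (h : comb c = 0) : c = 0 := by
  have hli := Fintype.linearIndependent_iff.1 (aut_linearIndependent (F := F)) c
  funext σ
  apply hli
  funext x
  have := DFunLike.congr_fun h x
  rw [comb_apply] at this
  simpa [Finset.sum_apply] using this

theorem comb_injective : Function.Injective (comb : ((F ≃+* F) → F) → (F →+ F)) := by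
  intro c c' h
  have : comb (c - c') = 0 := by rw [comb_sub, h, sub_self]
  exact sub_eq_zero.1 (comb_eq_zero this)

theorem comb_surjective : Function.Surjective (comb : ((F ≃+* F) → F) → (F →+ F)) := by
  classical
  intro f
  obtain ⟨s, c, h⟩ := exists_comb f
  refine ⟨fun σ => if σ ∈ s then c σ else 0, ?_⟩
  ext x
  rw [comb_apply, h x]
  simp [ite_mul, Finset.sum_ite_mem]

/-- The coefficients of an additive endomorphism. -/
noncomputable def coef (f : F →+ F) : (F ≃+* F) → F := Classical.choose (comb_surjective f)

@[simp] theorem comb_coef (f : F →+ F) : comb (coef f) = f := Classical.choose_spec (comb_surjective f)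

@[simp] theorem coef_comb (c : (F ≃+* F) → F) : coef (comb c) = c := comb_injective (comb_coef _)

theorem coef_zero : coef (0 : F →+ F) = 0 := by
  rw [← comb_zero, coef_comb]

theorem coef_eq_zero_iff (f : F →+ F) : coef f = 0 ↔ f = 0 := by
  constructor
  · intro h
    rw [← comb_coef f, h, comb_zero]
  · rintro rfl
    exact coef_zero

/-- the single-term map `x ↦ c * σ x` -/
theorem comb_single_apply [DecidableEq (F ≃+* F)] (σ : F ≃+* F) (c x : F) :
    comb (Pi.single σ c) x = c * σ x := by
  rw [comb_apply, Finset.sum_eq_single σ]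
  · simp
  · intro τ _ hτ
    simp [Pi.single_eq_of_ne hτ]
  · simp

/-- The semilinear map `x ↦ c * σ x`. -/
noncomputable def mono (σ : F ≃+* F) (c : F) : F →+ F :=
  (AddMonoidHom.mulLeft c).comp ((σ : F →+* F) : F →+ F)

omit [Fintype F] [CharP F 2] in
theorem mono_apply (σ : F ≃+* F) (c x : F) : mono σ c x = c * σ x := rfl

theorem comb_single [DecidableEq (F ≃+* F)] (σ : F ≃+* F) (c : F) :
    comb (Pi.single σ c) = mono σ c := by
  ext x
  rw [comb_single_apply, mono_apply]

theorem coef_mono [DecidableEq (F ≃+* F)] (σ : F ≃+* F) (c : F) :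
    coef (mono σ c) = Pi.single σ c := by
  rw [← comb_single, coef_comb]

omit [Fintype F] [CharP F 2] in
theorem mono_add (σ : F ≃+* F) (a b : F) : mono σ (a + b) = mono σ a + mono σ b := by
  ext x
  simp [mono_apply, add_mul]

omit [Fintype F] [CharP F 2] in
theorem mono_zero (σ : F ≃+* F) : mono σ (0 : F) = 0 := by
  ext x
  simp [mono_apply]

omit [Fintype F] [CharP F 2] in
theorem mono_injective (σ : F ≃+* F) {b : F} (hb : b ≠ 0) : Function.Injective (mono σ b) := by
  intro x y hxy
  rw [mono_apply, mono_apply] at hxy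
  exact σ.injective (mul_left_cancel₀ hb hxy)

theorem comb_eq_sum_mono (c : (F ≃+* F) → F) : comb c = ∑ σ : F ≃+* F, mono σ (c σ) := by
  ext x
  rw [comb_apply, AddMonoidHom.finsetSum_apply]
  rfl

/-- Twisted conjugation by a scalar: `x ↦ u * f (u⁻¹ * x)`. -/
noncomputable def conj (u : F) (f : F →+ F) : F →+ F :=
  (AddMonoidHom.mulLeft u).comp (f.comp (AddMonoidHom.mulLeft u⁻¹))

theorem conj_apply (u : F) (f : F →+ F) (x : F) : conj u f x = u * f (u⁻¹ * x) := rfl

theorem conj_comb (u : F) (c : (F ≃+* F) → F) :
    conj u (comb c) = comb (fun σ => u * σ u⁻¹ * c σ) := by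
  ext x
  simp only [conj_apply, comb_apply, Finset.mul_sum, map_mul]
  apply Finset.sum_congr rfl
  intro σ _
  ring

theorem conj_add (u : F) (f g : F →+ F) : conj u (f + g) = conj u f + conj u g := by
  ext x
  simp [conj_apply, mul_add]

theorem conj_zero (u : F) : conj u (0 : F →+ F) = 0 := by
  ext x
  simp [conj_apply]

theorem conj_one (f : F →+ F) : conj 1 f = f := by
  ext x
  simp [conj_apply]

theorem conj_conj (u v : F) (f : F →+ F) : conj u (conj v f) = conj (u * v) f := by
  ext x
  simp only [conj_apply, mul_inv_rev, mul_assoc]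

end Cfsg.Agent.Lib.H26.Sz
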