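import Mathlib
import Cfsg.Agent.Lib.H26.SzAlgA

set_option autoImplicit false
set_option linter.unusedSectionVars false

/-!
Finite fields of characteristic two: the trace, character sums over the multiplicative group,
rigidity of the characters `u ↦ u / σ u`, and the projection of an invariant additive group of
endomorphisms onto its semilinear components (helper26).
-/

namespace Cfsg.Agent.Lib.H26.Sz

variable {F : Type*} [Field F] [Fintype F] [CharP F 2] [DecidableEq F]

/-- the Frobenius automorphism. -/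
noncomputable def frob : F ≃+* F := frobeniusEquiv F 2

theorem frob_apply (x : F) : (frob : F ≃+* F) x = x * x := by
  rw [frob, frobeniusEquiv_apply, frobenius_def, pow_two]

theorem sq_injective {x y : F} (h : x * x = y * y) : x = y := by
  rw [← frob_apply, ← frob_apply] at h
  exact (frob : F ≃+* F).injective h

/-- The absolute trace. -/
noncomputable def tr (y : F) : F := ∑ α : F ≃+* F, α y

theorem tr_mul_self (y : F) : tr y * tr y = tr y := by
  rw [← frob_apply, tr, map_sum]
  exact Fintype.sum_equiv (Equiv.mulLeft (frob : F ≃+* F)) _ _ (fun α => rfl)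

theorem tr_eq_zero_or_one (y : F) : tr y = 0 ∨ tr y = 1 := by
  have h := tr_mul_self y
  by_cases h0 : tr y = 0
  · exact Or.inl h0
  · right
    exact mul_left_cancel₀ h0 (by rw [h, mul_one])

theorem card_units_cast : ((Fintype.card Fˣ : ℕ) : F) = 1 := by
  rw [Fintype.card_units, Nat.cast_sub Fintype.card_pos, FiniteField.cast_card_eq_zero, Nat.cast_one,
    zero_sub, CharTwo.neg_eq]

/-- Sum of a multiplicative character over the multiplicative group. -/
theorem sum_char (ψ : Fˣ → F) (h1 : ψ 1 = 1) (hmul : ∀ u v, ψ (u * v) = ψ u * ψ v) :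
    (∑ u : Fˣ, ψ u = 1 ∧ ∀ u, ψ u = 1) ∨ (∑ u : Fˣ, ψ u = 0 ∧ ∃ u, ψ u ≠ 1) := by
  let f : Fˣ →* F := { toFun := ψ, map_one' := h1, map_mul' := hmul }
  have hs := sum_hom_units f
  by_cases hf : f = 1
  · left
    rw [if_pos hf, card_units_cast] at hs
    exact ⟨hs, fun u => DFunLike.congr_fun hf u⟩
  · right
    rw [if_neg hf] at hs
    rw [Nat.cast_zero] at hs
    refine ⟨hs, ?_⟩
    by_contra hall
    push Not at hall
    exact hf (MonoidHom.ext hall)

theorem parity (τ₁ τ₂ τ₃ τ₄ : F ≃+* F) (h : ∀ x, τ₁ x + τ₂ x + τ₃ x + τ₄ x = 0) :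
    τ₁ = τ₂ ∨ τ₁ = τ₃ ∨ τ₁ = τ₄ := by
  classical
  by_contra hne
  push Not at hne
  obtain ⟨h2, h3, h4⟩ := hne
  have h0 : comb (Pi.single τ₁ (1 : F) + Pi.single τ₂ 1 + Pi.single τ₃ 1 + Pi.single τ₄ 1) = 0 := by
    ext x
    simp only [comb_add, AddMonoidHom.add_apply, comb_single_apply, one_mul]
    exact h x
  have := congrFun (comb_eq_zero h0) τ₁
  simp only [Pi.add_apply, Pi.single_eq_same, Pi.zero_apply] at this
  rw [Pi.single_eq_of_ne h2, Pi.single_eq_of_ne h3, Pi.single_eq_of_ne h4] at this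
  simp at this

/-- Rigidity: the characters `u ↦ u / σ u` for distinct `σ` are not Galois conjugate. -/
theorem aut_rigidity (σ₀ α σ : F ≃+* F) (hσ₀ : σ₀ ≠ 1)
    (h : ∀ u : F, u * α (σ₀ u) = α u * σ u) : α = 1 ∧ σ = σ₀ := by
  have hlin : ∀ u : F, u + α (σ₀ u) = α u + σ u := by
    intro u
    have e := h (u + 1)
    simp only [map_add, map_one] at e
    have e0 := h u
    linear_combination e - e0
  have hlin' : ∀ u : F, (1 : F ≃+* F) u + (α * σ₀) u + α u + σ u = 0 := by
    intro u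
    rw [RingAut.one_apply, RingAut.mul_apply, hlin u, add_assoc, CharTwo.add_self_eq_zero]
  rcases parity _ _ _ _ hlin' with h1 | h1 | h1
  · exfalso
    have hασ : ∀ u, α u = σ u := by
      intro u
      have := hlin u
      have h2 : α (σ₀ u) = u := by
        have := DFunLike.congr_fun h1 u
        rw [RingAut.one_apply, RingAut.mul_apply] at this
        exact this.symm
      rw [h2, CharTwo.add_self_eq_zero] at this
      exact CharTwo.add_eq_zero.1 this.symm
    have hα : ∀ u, α u = u := by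
      intro u
      have := h u
      have h2 : α (σ₀ u) = u := by
        have := DFunLike.congr_fun h1 u
        rw [RingAut.one_apply, RingAut.mul_apply] at this
        exact this.symm
      rw [h2, ← hασ u] at this
      exact (sq_injective this).symm
    apply hσ₀
    ext u
    have := DFunLike.congr_fun h1 u
    rw [RingAut.one_apply, RingAut.mul_apply, hα] at this
    rw [RingAut.one_apply]
    exact this.symm
  · have hα : ∀ u, α u = u := fun u => by
      have := DFunLike.congr_fun h1 u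
      rw [RingAut.one_apply] at this
      exact this.symm
    refine ⟨h1.symm, ?_⟩
    ext u
    have := hlin u
    rw [hα, hα] at this
    exact (add_left_cancel this).symm
  · exfalso
    apply hσ₀
    ext u
    have hσ : σ u = u := by
      have := DFunLike.congr_fun h1 u
      rw [RingAut.one_apply] at this
      exact this.symm
    have := hlin u
    rw [hσ, add_comm] at this
    have h3 := add_right_cancel this
    rw [RingAut.one_apply]
    exact α.injective h3

/-- the character attached to a triple of automorphisms -/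
noncomputable def chi (σ₀ α σ : F ≃+* F) (u : Fˣ) : F :=
  α (σ₀ (u : F)) * (α (u : F))⁻¹ * ((u : F) * (σ (u : F))⁻¹)

theorem chi_one (σ₀ α σ : F ≃+* F) : chi σ₀ α σ 1 = 1 := by
  simp [chi]

theorem chi_mul (σ₀ α σ : F ≃+* F) (u v : Fˣ) :
    chi σ₀ α σ (u * v) = chi σ₀ α σ u * chi σ₀ α σ v := by
  simp only [chi, Units.val_mul, map_mul, mul_inv]
  ring

theorem chi_trivial_iff (σ₀ α σ : F ≃+* F) (hσ₀ : σ₀ ≠ 1) :
    (∀ u, chi σ₀ α σ u = 1) ↔ (α = 1 ∧ σ = σ₀) := by
  constructor
  · intro h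
    apply aut_rigidity σ₀ α σ hσ₀
    intro u
    by_cases hu : u = 0
    · simp [hu]
    have := h (Units.mk0 u hu)
    simp only [chi, Units.val_mk0] at this
    have h1 : α u ≠ 0 := by simpa using hu
    have h2 : σ u ≠ 0 := by simpa using hu
    field_simp at this
    linear_combination this
  · rintro ⟨rfl, rfl⟩ u
    simp only [chi, RingAut.one_apply]
    have h1 : (u : F) ≠ 0 := u.ne_zero
    have h2 : σ (u : F) ≠ 0 := by simp
    field_simp

theorem sum_chi (σ₀ α σ : F ≃+* F) (hσ₀ : σ₀ ≠ 1) :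
    ∑ u : Fˣ, chi σ₀ α σ u = if (α = 1 ∧ σ = σ₀) then 1 else 0 := by
  rcases sum_char (chi σ₀ α σ) (chi_one _ _ _) (chi_mul _ _ _) with ⟨h1, h2⟩ | ⟨h1, h2⟩
  · rw [h1, if_pos ((chi_trivial_iff σ₀ α σ hσ₀).1 h2)]
  · rw [h1, if_neg]
    intro h
    obtain ⟨u, hu⟩ := h2
    exact hu ((chi_trivial_iff σ₀ α σ hσ₀).2 h u)

theorem key_sum (σ₀ σ : F ≃+* F) (hσ₀ : σ₀ ≠ 1) (a : F) :
    ∑ u : Fˣ, tr (a * σ₀ (u : F) * (u : F)⁻¹) * ((u : F) * σ ((u : F)⁻¹)) =
      if σ = σ₀ then a else 0 := by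
  have h1 : ∀ u : Fˣ, tr (a * σ₀ (u : F) * (u : F)⁻¹) * ((u : F) * σ ((u : F)⁻¹)) =
      ∑ α : F ≃+* F, α a * chi σ₀ α σ u := by
    intro u
    rw [tr, Finset.sum_mul]
    apply Finset.sum_congr rfl
    intro α _
    simp only [chi, map_mul, map_inv₀]
    ring
  simp_rw [h1]
  rw [Finset.sum_comm]
  simp_rw [← Finset.mul_sum, sum_chi _ _ _ hσ₀]
  by_cases hσ : σ = σ₀
  · rw [if_pos hσ, Finset.sum_eq_single (1 : F ≃+* F)]
    · simp [hσ]
    · intro α _ hα
      rw [if_neg (fun h => hα h.1), mul_zero]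
    · simp
  · rw [if_neg hσ]
    apply Finset.sum_eq_zero
    intro α _
    rw [if_neg (fun h => hσ h.2), mul_zero]

theorem key_sum_one (σ : F ≃+* F) :
    ∑ u : Fˣ, ((u : F) * σ ((u : F)⁻¹)) = if σ = 1 then 1 else 0 := by
  rcases sum_char (fun u : Fˣ => (u : F) * σ ((u : F)⁻¹)) (by simp)
    (fun u v => by simp only [Units.val_mul, mul_inv, map_mul]; ring) with ⟨h1, h2⟩ | ⟨h1, h2⟩
  · rw [h1, if_pos]
    ext x
    rw [RingAut.one_apply]
    by_cases hx : x = 0
    · simp [hx]
    have := h2 (Units.mk0 x hx)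
    simp only [Units.val_mk0, map_inv₀] at this
    have hσx : σ x ≠ 0 := by simpa using hx
    field_simp at this
    exact this.symm
  · rw [h1, if_neg]
    rintro rfl
    obtain ⟨u, hu⟩ := h2
    apply hu
    simp

/-- weighted sum of the twisted conjugates -/
noncomputable def avg (w : Fˣ → F) (f : F →+ F) : F →+ F :=
  ∑ u : Fˣ, (AddMonoidHom.mulLeft (w u)).comp (conj (u : F) f)

theorem avg_apply (w : Fˣ → F) (f : F →+ F) (x : F) :
    avg w f x = ∑ u : Fˣ, w u * ((u : F) * f ((u : F)⁻¹ * x)) := by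
  simp [avg, conj_apply]

theorem avg_comb (w : Fˣ → F) (c : (F ≃+* F) → F) :
    avg w (comb c) = comb (fun σ => (∑ u : Fˣ, w u * ((u : F) * σ ((u : F)⁻¹))) * c σ) := by
  ext x
  rw [avg_apply, comb_apply]
  simp_rw [comb_apply, Finset.mul_sum, Finset.sum_mul]
  rw [Finset.sum_comm]
  apply Finset.sum_congr rfl
  intro σ _
  apply Finset.sum_congr rfl
  intro u _
  rw [map_mul]
  ring

theorem avg_mem (S : AddSubgroup (F →+ F))
    (hconj : ∀ f ∈ S, ∀ u : F, u ≠ 0 → conj u f ∈ S) (w : Fˣ → F)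
    (hw : ∀ u, w u = 0 ∨ w u = 1) {f : F →+ F} (hf : f ∈ S) : avg w f ∈ S := by
  apply AddSubgroup.sum_mem
  intro u _
  rcases hw u with h | h
  · rw [h]
    have : (AddMonoidHom.mulLeft (0 : F)).comp (conj (u : F) f) = 0 := by
      ext x; simp
    rw [this]
    exact S.zero_mem
  · rw [h]
    have : (AddMonoidHom.mulLeft (1 : F)).comp (conj (u : F) f) = conj (u : F) f := by
      ext x; simp
    rw [this]
    exact hconj f hf _ u.ne_zero

/-- Projection to a single non-identity component stays inside an invariant subgroup. -/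
theorem single_mem (S : AddSubgroup (F →+ F))
    (hconj : ∀ f ∈ S, ∀ u : F, u ≠ 0 → conj u f ∈ S) {f : F →+ F} (hf : f ∈ S)
    (σ₀ : F ≃+* F) (hσ₀ : σ₀ ≠ 1) (a : F) :
    mono σ₀ (a * coef f σ₀) ∈ S := by
  rw [← comb_single]
  have h := avg_mem S hconj (fun u : Fˣ => tr (a * σ₀ (u : F) * (u : F)⁻¹))
    (fun u => tr_eq_zero_or_one _) hf
  have h2 : avg (fun u : Fˣ => tr (a * σ₀ (u : F) * (u : F)⁻¹)) f =
      comb (Pi.single σ₀ (a * coef f σ₀)) := by
    conv_lhs => rw [← comb_coef f]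
    rw [avg_comb]
    congr 1
    funext σ
    rw [key_sum σ₀ σ hσ₀ a]
    by_cases hσ : σ = σ₀
    · rw [if_pos hσ, hσ, Pi.single_eq_same]
    · rw [if_neg hσ, zero_mul, Pi.single_eq_of_ne hσ]
  rwa [h2] at h

/-- The identity component vanishes on a fixed-point-free invariant subgroup. -/
theorem coef_one_eq_zero (S : AddSubgroup (F →+ F))
    (hconj : ∀ f ∈ S, ∀ u : F, u ≠ 0 → conj u f ∈ S)
    (hfpf : ∀ f ∈ S, ∀ u : F, u ≠ 0 → u ≠ 1 → conj u f = f → f = 0)
    (hF : ∃ v : F, v ≠ 0 ∧ v ≠ 1) {f : F →+ F} (hf : f ∈ S) : coef f 1 = 0 := by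
  obtain ⟨v, hv0, hv1⟩ := hF
  have h := avg_mem S hconj (fun _ : Fˣ => (1 : F)) (fun u => Or.inr rfl) hf
  have h2 : avg (fun _ : Fˣ => (1 : F)) f = comb (Pi.single 1 (coef f 1)) := by
    conv_lhs => rw [← comb_coef f]
    rw [avg_comb]
    congr 1
    funext σ
    simp only [one_mul]
    rw [key_sum_one σ]
    by_cases hσ : σ = 1
    · rw [if_pos hσ, hσ, Pi.single_eq_same, one_mul]
    · rw [if_neg hσ, zero_mul, Pi.single_eq_of_ne hσ]
  rw [h2] at h
  have h3 : conj v (comb (Pi.single 1 (coef f 1))) = comb (Pi.single 1 (coef f 1)) := by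
    rw [conj_comb]
    congr 1
    funext σ
    by_cases hσ : σ = 1
    · rw [hσ, Pi.single_eq_same, RingAut.one_apply, mul_inv_cancel₀ hv0, one_mul]
    · rw [Pi.single_eq_of_ne hσ, mul_zero]
  have h4 := hfpf _ h v hv0 hv1 h3
  have h5 := comb_eq_zero h4
  have := congrFun h5 1
  simpa using this

end Cfsg.Agent.Lib.H26.Sz
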