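import Mathlib
import Cfsg.Agent.Lib.H26.SzAlgB

set_option autoImplicit false
set_option linter.unusedSectionVars false

/-!
The algebraic core of Higman's theorem on Suzuki 2-groups (helper26): a biadditive map on a
finite field of characteristic two which is semilinear of two different types vanishes
(`bilinear_rigidity`), existence of elements acting injectively (`exists_injective`), and the
vanishing of the "second commutator form" (`alg_main`).
-/

namespace Cfsg.Agent.Lib.H26.Sz

variable {F : Type*} [Field F] [Fintype F] [CharP F 2]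

/-- Lemma C: a biadditive map `B` with `u σ(B u v) = v τ(B u v)` vanishes when `σ, τ ≠ 1`. -/
theorem bilinear_rigidity (σ τ : F ≃+* F) (hσ : σ ≠ 1) (hτ : τ ≠ 1) (B : F → F → F)
    (hB1 : ∀ u u' v, B (u + u') v = B u v + B u' v)
    (hB2 : ∀ u v v', B u (v + v') = B u v + B u v')
    (h : ∀ u v, u * σ (B u v) = v * τ (B u v)) : ∀ u v, B u v = 0 := by
  have hB01 : ∀ v, B 0 v = 0 := fun v => by
    have := hB1 0 0 v
    rw [add_zero] at this
    exact left_eq_add.1 this
  have hB02 : ∀ u, B u 0 = 0 := fun u => by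
    have := hB2 u 0 0
    rw [add_zero] at this
    exact left_eq_add.1 this
  -- C2
  have C2 : ∀ v w, w ≠ 0 → B w v = 0 → ∀ u, B u v = 0 := by
    intro v w hw hwv u
    by_contra hb
    have e1 := h u v
    have e2 := h (u + w) v
    rw [hB1, hwv, add_zero] at e2
    have e3 : w * σ (B u v) = 0 := by linear_combination e2 - e1
    rcases mul_eq_zero.1 e3 with h0 | h0
    · exact hw h0
    · exact hb (by simpa using h0)
  have C2' : ∀ u w, w ≠ 0 → B u w = 0 → ∀ v, B u v = 0 := by
    intro u w hw huw v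
    by_contra hb
    have e1 := h u v
    have e2 := h u (v + w)
    rw [hB2, huw, add_zero] at e2
    have e3 : w * τ (B u v) = 0 := by linear_combination e1 - e2
    rcases mul_eq_zero.1 e3 with h0 | h0
    · exact hw h0
    · exact hb (by simpa using h0)
  by_contra hne
  push Not at hne
  obtain ⟨u₀, v₀, h₀⟩ := hne
  -- C3
  have C3 : ∀ u v, u ≠ 0 → v ≠ 0 → B u v ≠ 0 := by
    intro u v hu hv huv
    exact h₀ (C2' u₀ v hv (C2 v u hu huv u₀) v₀)
  -- β = B · 1 is a bijection
  have hβinj : Function.Injective (fun u => B u 1) := by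
    intro u u' huu'
    by_contra hne
    have h1 : u + u' ≠ 0 := fun h0 => hne (CharTwo.add_eq_zero.1 h0)
    apply C3 (u + u') 1 h1 one_ne_zero
    rw [hB1]
    show B u 1 + B u' 1 = 0
    have : B u 1 = B u' 1 := huu'
    rw [this, CharTwo.add_self_eq_zero]
  have hβsurj : Function.Surjective (fun u => B u 1) := Finite.injective_iff_surjective.1 hβinj
  -- β 1 = 1
  have hβ1 : B 1 1 = 1 := by
    obtain ⟨u₁, hu₁⟩ := hβsurj 1
    have hu₁' : B u₁ 1 = 1 := hu₁
    have := h u₁ 1
    rw [hu₁', map_one, map_one, mul_one, one_mul] at this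
    rw [this] at hu₁'
    exact hu₁'
  -- C4: σ (B u 1) = u
  have C4 : ∀ u, σ (B u 1) = u := by
    intro u
    have e1 := h u 1
    have e2 := h (u + 1) 1
    rw [hB1, hβ1, map_add, map_add, map_one, map_one] at e2
    rw [one_mul] at e1 e2
    have e3 : u + σ (B u 1) = 0 := by linear_combination e2 - e1
    exact (CharTwo.add_eq_zero.1 e3).symm
  -- C5: τ b = σ b ^ 2
  have C5 : ∀ b, τ b = σ b * σ b := by
    intro b
    obtain ⟨u, hu⟩ := hβsurj b
    have hu' : B u 1 = b := hu
    have e1 := h u 1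
    rw [hu', one_mul] at e1
    have := C4 u
    rw [hu'] at this
    rw [← e1, this]
  -- C6
  have C6 : ∀ u v, u ≠ 0 → v ≠ 0 → σ (B u v) = u * v⁻¹ := by
    intro u v hu hv
    have hb := C3 u v hu hv
    have hσb : σ (B u v) ≠ 0 := by simpa using hb
    have e1 := h u v
    rw [C5] at e1
    have e2 : u = v * σ (B u v) := by
      apply mul_right_cancel₀ hσb
      rw [e1]; ring
    rw [eq_mul_inv_iff_mul_eq₀ hv, mul_comm]
    exact e2.symm
  -- C7
  have C7 : ∀ v : F, v ≠ 0 → v ≠ 1 → v * v + v + 1 = 0 := by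
    intro v hv0 hv1
    have hv1' : v + 1 ≠ 0 := fun h0 => hv1 (CharTwo.add_eq_zero.1 h0)
    have e1 := C6 1 (v + 1) one_ne_zero hv1'
    rw [hB2, map_add, C6 1 v one_ne_zero hv0, C6 1 1 one_ne_zero one_ne_zero] at e1
    field_simp at e1
    linear_combination e1
  -- C8
  have hx : ∃ x, σ x ≠ x := by
    by_contra hall
    push Not at hall
    exact hσ (RingEquiv.ext hall)
  obtain ⟨x, hx⟩ := hx
  have hx0 : x ≠ 0 := by rintro rfl; exact hx (map_zero σ)
  have hx1 : x ≠ 1 := by rintro rfl; exact hx (map_one σ)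
  have hy0 : σ x ≠ 0 := by simpa using hx0
  have hy1 : σ x ≠ 1 := by
    intro h1
    apply hx1
    apply σ.injective
    rw [h1, map_one]
  have ex := C7 x hx0 hx1
  have two_roots : ∀ w : F, w ≠ 0 → w ≠ 1 → w = x ∨ w = x + 1 := by
    intro w hw0 hw1
    have ew := C7 w hw0 hw1
    have h2 : (2 : F) = 0 := CharTwo.two_eq_zero
    have : (w + x) * (w + x + 1) = 0 := by linear_combination ew + ex + (w * x - 1) * h2
    rcases mul_eq_zero.1 this with h0 | h0
    · left; exact CharTwo.add_eq_zero.1 h0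
    · right
      have : w + (x + 1) = 0 := by linear_combination h0
      exact CharTwo.add_eq_zero.1 this
  have hσx : σ x = x + 1 := by
    rcases two_roots (σ x) hy0 hy1 with h0 | h0
    · exact absurd h0 hx
    · exact h0
  have hτx : τ x = x := by
    have h2 : (2 : F) = 0 := CharTwo.two_eq_zero
    rw [C5, hσx]
    linear_combination ex
  apply hτ
  ext w
  rw [RingAut.one_apply]
  by_cases hw0 : w = 0
  · rw [hw0, map_zero]
  by_cases hw1 : w = 1
  · rw [hw1, map_one]
  rcases two_roots w hw0 hw1 with h0 | h0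
  · rw [h0, hτx]
  · rw [h0, map_add, map_one, hτx]

section alg

variable {G : Type*} [Group G] (L : G → (F →+ F))

theorem L_one (hL : ∀ g h, L (g * h) = L g + L h) : L 1 = 0 := by
  have := hL 1 1
  rw [mul_one] at this
  exact left_eq_add.1 this

theorem L_inv (hL : ∀ g h, L (g * h) = L g + L h) (g : G) : L g⁻¹ = - L g := by
  have := hL g g⁻¹
  rw [mul_inv_cancel, L_one L hL] at this
  exact eq_neg_of_add_eq_zero_right this.symm

/-- the additive group of values of `L` -/
def rangeL (hL : ∀ g h, L (g * h) = L g + L h) : AddSubgroup (F →+ F) where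
  carrier := Set.range L
  zero_mem' := ⟨1, L_one L hL⟩
  add_mem' := by
    rintro _ _ ⟨g, rfl⟩ ⟨h, rfl⟩
    exact ⟨g * h, hL g h⟩
  neg_mem' := by
    rintro _ ⟨g, rfl⟩
    exact ⟨g⁻¹, L_inv L hL g⟩

theorem mem_rangeL (hL : ∀ g h, L (g * h) = L g + L h) (f : F →+ F) :
    f ∈ rangeL L hL ↔ ∃ g, L g = f := Iff.rfl

theorem L_list_prod (hL : ∀ g h, L (g * h) = L g + L h) (l : List G) :
    L l.prod = (l.map L).sum := by
  induction l with
  | nil => simpa using L_one L hL
  | cons a l ih => rw [List.prod_cons, hL, ih, List.map_cons, List.sum_cons]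

variable (hL : ∀ g h, L (g * h) = L g + L h)
  (hconj : ∀ g, ∀ u : F, u ≠ 0 → ∃ g', L g' = conj u (L g))
  (hfpf : ∀ g, ∀ u : F, u ≠ 0 → u ≠ 1 → conj u (L g) = L g → L g = 0)
  (hF : ∃ v : F, v ≠ 0 ∧ v ≠ 1)

include hL hconj in
theorem rangeL_conj : ∀ f ∈ rangeL L hL, ∀ u : F, u ≠ 0 → conj u f ∈ rangeL L hL := by
  rintro _ ⟨g, rfl⟩ u hu
  exact hconj g u hu

include hL hfpf in
theorem rangeL_fpf : ∀ f ∈ rangeL L hL, ∀ u : F, u ≠ 0 → u ≠ 1 → conj u f = f → f = 0 := by
  rintro _ ⟨g, rfl⟩ u hu hu1 h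
  exact hfpf g u hu hu1 h

include hL hconj hfpf hF in
theorem coef_L_one (g : G) : coef (L g) 1 = 0 := by
  classical
  exact coef_one_eq_zero (rangeL L hL) (rangeL_conj L hL hconj) (rangeL_fpf L hL hfpf) hF ⟨g, rfl⟩

include hL hconj hfpf hF in
/-- every multiple of a component that occurs is attained -/
theorem exists_mono (g : G) (σ : F ≃+* F) (hσ : coef (L g) σ ≠ 0) (b : F) :
    σ ≠ 1 ∧ ∃ g', L g' = mono σ b := by
  classical
  have h1 : σ ≠ 1 := by
    rintro rfl
    exact hσ (coef_L_one L hL hconj hfpf hF g)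
  refine ⟨h1, ?_⟩
  have := single_mem (rangeL L hL) (rangeL_conj L hL hconj) ⟨g, rfl⟩ σ h1 (b / coef (L g) σ)
  rw [div_mul_cancel₀ _ hσ] at this
  exact this

include hL hconj hfpf hF in
/-- ALG0: three elements with injective images. -/
theorem exists_injective (hne : ∃ g, L g ≠ 0) :
    ∃ g g', Function.Injective (L g) ∧ Function.Injective (L g') ∧
      Function.Injective (L (g * g')) := by
  classical
  obtain ⟨g₀, hg₀⟩ := hne
  have hc : coef (L g₀) ≠ 0 := fun h => hg₀ ((coef_eq_zero_iff _).1 h)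
  obtain ⟨σ, hσ⟩ : ∃ σ, coef (L g₀) σ ≠ 0 := by
    by_contra hall
    push Not at hall
    exact hc (funext hall)
  obtain ⟨v, hv0, hv1⟩ := hF
  obtain ⟨-, g₁, hg₁⟩ := exists_mono L hL hconj hfpf ⟨v, hv0, hv1⟩ g₀ σ hσ 1
  obtain ⟨-, g₂, hg₂⟩ := exists_mono L hL hconj hfpf ⟨v, hv0, hv1⟩ g₀ σ hσ v
  refine ⟨g₁, g₂, ?_, ?_, ?_⟩
  · rw [hg₁]; exact mono_injective σ one_ne_zero
  · rw [hg₂]; exact mono_injective σ hv0
  · rw [hL, hg₁, hg₂, ← mono_add]
    apply mono_injective
    intro h
    exact hv1 (CharTwo.add_eq_zero.1 h).symm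

variable (Q : G → F) (B : G → G → F)
  (hB1 : ∀ g g' h, B (g * g') h = B g h + B g' h)
  (hB2 : ∀ g h h', B g (h * h') = B g h + B g h')
  (hQ : ∀ g h, Q (g * h) = Q g + Q h + B g h)
  (hLQ : ∀ g, L g (Q g) = 0)
  (hker : ∀ g h, L g = 0 → B g h = 0 ∧ B h g = 0)

include hB1 in
theorem B_one_left (h : G) : B 1 h = 0 := by
  have := hB1 1 1 h
  rw [mul_one] at this
  exact left_eq_add.1 this

include hB2 in
theorem B_one_right (g : G) : B g 1 = 0 := by
  have := hB2 g 1 1
  rw [mul_one] at this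
  exact left_eq_add.1 this

include hB1 in
theorem B_inv_left (g h : G) : B g⁻¹ h = B g h := by
  have := hB1 g g⁻¹ h
  rw [mul_inv_cancel, B_one_left B hB1] at this
  exact (CharTwo.add_eq_zero.1 this.symm).symm

include hB2 in
theorem B_inv_right (g h : G) : B g h⁻¹ = B g h := by
  have := hB2 g h h⁻¹
  rw [mul_inv_cancel, B_one_right B hB2] at this
  exact (CharTwo.add_eq_zero.1 this.symm).symm

include hL hB1 hker in
theorem B_congr_left {g g' : G} (h : G) (hgg : L g = L g') : B g h = B g' h := by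
  have h0 : L (g * g'⁻¹) = 0 := by rw [hL, L_inv L hL, hgg, add_neg_cancel]
  have := (hker _ h h0).1
  rw [hB1, B_inv_left B hB1] at this
  exact CharTwo.add_eq_zero.1 this

include hL hB2 hker in
theorem B_congr_right (g : G) {h h' : G} (hhh : L h = L h') : B g h = B g h' := by
  have h0 : L (h * h'⁻¹) = 0 := by rw [hL, L_inv L hL, hhh, add_neg_cancel]
  have := (hker _ g h0).2
  rw [hB2, B_inv_right B hB2] at this
  exact CharTwo.add_eq_zero.1 this

include hB1 in
theorem B_list_left (l : List G) (h : G) (hl : ∀ g ∈ l, B g h = 0) : B l.prod h = 0 := by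
  induction l with
  | nil => simpa using B_one_left B hB1 h
  | cons a l ih =>
    rw [List.prod_cons, hB1, hl a (List.mem_cons_self), zero_add]
    exact ih (fun g hg => hl g (List.mem_cons_of_mem _ hg))

include hB2 in
theorem B_list_right (g : G) (l : List G) (hl : ∀ h ∈ l, B g h = 0) : B g l.prod = 0 := by
  induction l with
  | nil => simpa using B_one_right B hB2 g
  | cons a l ih =>
    rw [List.prod_cons, hB2, hl a (List.mem_cons_self), zero_add]
    exact ih (fun h hh => hl h (List.mem_cons_of_mem _ hh))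

include hLQ in
theorem Q_of_mono {g : G} {σ : F ≃+* F} {c : F} (hg : L g = mono σ c) (hc : c ≠ 0) : Q g = 0 := by
  have := hLQ g
  rw [hg, mono_apply] at this
  rcases mul_eq_zero.1 this with h0 | h0
  · exact absurd h0 hc
  · simpa using h0

include hL hQ hLQ in
theorem rel_of_mono {g h : G} {σ τ : F ≃+* F} {c c' : F} (hg : L g = mono σ c)
    (hh : L h = mono τ c') (hc : c ≠ 0) (hc' : c' ≠ 0) :
    c * σ (B g h) = c' * τ (B g h) := by
  have e := hLQ (g * h)
  rw [hQ, Q_of_mono L Q hLQ hg hc, Q_of_mono L Q hLQ hh hc', zero_add, zero_add, hL,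
    AddMonoidHom.add_apply, hg, hh, mono_apply, mono_apply] at e
  exact CharTwo.add_eq_zero.1 e

include hL hB1 hB2 hQ hLQ hker in
theorem B_mono_of_full {σ τ : F ≃+* F} (hσ : σ ≠ 1) (hτ : τ ≠ 1)
    (hfσ : ∀ c : F, ∃ g, L g = mono σ c) (hfτ : ∀ c : F, ∃ g, L g = mono τ c)
    {g h : G} {c c' : F} (hg : L g = mono σ c) (hh : L h = mono τ c') : B g h = 0 := by
  choose γ hγ using hfσ
  choose δ hδ using hfτ
  have key := bilinear_rigidity σ τ hσ hτ (fun a b => B (γ a) (δ b)) ?_ ?_ ?_ c c'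
  · rw [← key]
    rw [B_congr_left L hL B hB1 hker h (hg.trans (hγ c).symm)]
    exact B_congr_right L hL B hB2 hker (γ c) (hh.trans (hδ c').symm)
  · intro u u' v
    show B (γ (u + u')) (δ v) = B (γ u) (δ v) + B (γ u') (δ v)
    rw [← hB1]
    apply B_congr_left L hL B hB1 hker
    rw [hγ, hL, hγ, hγ, mono_add]
  · intro u v v'
    show B (γ u) (δ (v + v')) = B (γ u) (δ v) + B (γ u) (δ v')
    rw [← hB2]
    apply B_congr_right L hL B hB2 hker
    rw [hδ, hL, hδ, hδ, mono_add]
  · intro u v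
    show u * σ (B (γ u) (δ v)) = v * τ (B (γ u) (δ v))
    by_cases hu : u = 0
    · have h0 : L (γ u) = 0 := by rw [hγ, hu, mono_zero]
      rw [(hker _ (δ v) h0).1, map_zero, map_zero, mul_zero, mul_zero]
    by_cases hv : v = 0
    · have h0 : L (δ v) = 0 := by rw [hδ, hv, mono_zero]
      rw [(hker _ (γ u) h0).2, map_zero, map_zero, mul_zero, mul_zero]
    exact rel_of_mono L hL Q B hQ hLQ (hγ u) (hδ v) hu hv

include hL hconj hfpf hF hB1 hB2 hQ hLQ hker in
theorem B_mono {g h : G} {σ τ : F ≃+* F} {c c' : F} (hg : L g = mono σ c)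
    (hh : L h = mono τ c') : B g h = 0 := by
  classical
  by_cases hc : c = 0
  · have h0 : L g = 0 := by rw [hg, hc, mono_zero]
    exact (hker _ h h0).1
  by_cases hc' : c' = 0
  · have h0 : L h = 0 := by rw [hh, hc', mono_zero]
    exact (hker _ g h0).2
  have hcσ : coef (L g) σ ≠ 0 := by rw [hg, coef_mono, Pi.single_eq_same]; exact hc
  have hcτ : coef (L h) τ ≠ 0 := by rw [hh, coef_mono, Pi.single_eq_same]; exact hc'
  have h1 := fun b => exists_mono L hL hconj hfpf hF g σ hcσ b
  have h2 := fun b => exists_mono L hL hconj hfpf hF h τ hcτ b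
  exact B_mono_of_full L hL Q B hB1 hB2 hQ hLQ hker (h1 0).1 (h2 0).1 (fun b => (h1 b).2)
    (fun b => (h2 b).2) hg hh

include hL hconj hfpf hF in
/-- decomposition of an element into mono pieces -/
theorem exists_decomp (g : G) : ∃ l : List G, L l.prod = L g ∧
    ∀ x ∈ l, ∃ (σ : F ≃+* F) (c : F), L x = mono σ c := by
  classical
  have hcomp : ∀ σ : F ≃+* F, ∃ x, L x = mono σ (coef (L g) σ) := by
    intro σ
    by_cases hσ : coef (L g) σ = 0
    · exact ⟨1, by rw [hσ, mono_zero, L_one L hL]⟩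
    · exact (exists_mono L hL hconj hfpf hF g σ hσ _).2
  choose comp hcomp using hcomp
  refine ⟨(Finset.univ : Finset (F ≃+* F)).toList.map comp, ?_, ?_⟩
  · rw [L_list_prod L hL, List.map_map]
    have : (L ∘ comp) = fun σ => mono σ (coef (L g) σ) := funext hcomp
    rw [this, Finset.sum_map_toList, ← comb_eq_sum_mono, comb_coef]
  · intro x hx
    obtain ⟨σ, -, rfl⟩ := List.mem_map.1 hx
    exact ⟨σ, _, hcomp σ⟩

include hL hconj hfpf hF hB1 hB2 hQ hLQ hker in
/-- ALG: the biadditive form vanishes identically. -/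
theorem alg_main (g h : G) : B g h = 0 := by
  obtain ⟨l, hl, hlm⟩ := exists_decomp L hL hconj hfpf hF g
  obtain ⟨l', hl', hlm'⟩ := exists_decomp L hL hconj hfpf hF h
  rw [← B_congr_left L hL B hB1 hker h hl, ← B_congr_right L hL B hB2 hker _ hl']
  apply B_list_left B hB1
  intro x hx
  apply B_list_right B hB2
  intro y hy
  obtain ⟨σ, c, hxσ⟩ := hlm x hx
  obtain ⟨τ, c', hyτ⟩ := hlm' y hy
  exact B_mono L hL hconj hfpf hF Q B hB1 hB2 hQ hLQ hker hxσ hyτ

end alg

end Cfsg.Agent.Lib.H26.Sz
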