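import Mathlib
import Cfsg.Agent.Lib.H26.SzGrpA

set_option autoImplicit false
set_option linter.style.haveILetI false

/-!
Suzuki 2-groups (helper26): in a hypothetical counterexample, squaring maps the abelian
subgroup `A` onto the centre, and `C = C_P(A)` is abelian (by Higman's lemma applied to `C`).
-/

namespace Cfsg.Agent.Lib.H26.Sz

open Cfsg.Agent.Lib.H24.SuzukiTwo (cm)
open scoped IsMulCommutative commutatorElement

universe u

variable {P : Type u} [Group P] {K : Subgroup (MulAut P)} {A : Subgroup P}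

/-- Hypotheses for a counterexample: an abelian characteristic subgroup `A` strictly between the
centre and the second centre, centralized by the commutator subgroup. -/
structure HypA (K : Subgroup (MulAut P)) (A : Subgroup P) : Prop extends Hyp K where
  zle : Subgroup.center P ≤ A
  exA : ∃ a ∈ A, a ∉ Subgroup.center P
  cmA : ∀ a ∈ A, ∀ g, cm a g ∈ Subgroup.center P
  comA : ∀ a ∈ A, ∀ c ∈ commutator P, a * c = c * a
  abA : ∀ a ∈ A, ∀ b ∈ A, a * b = b * a
  invA : ∀ k : K, ∀ a ∈ A, (k : MulAut P) a ∈ A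

namespace HypA

variable (h : HypA K A)
include h

theorem cm_sq {a : P} (ha : a ∈ A) (g : P) : cm a g * cm a g = 1 :=
  h.toHyp.sq_of_mem (h.cmA a ha g)

theorem sq_mem {a : P} (ha : a ∈ A) : a * a ∈ Subgroup.center P := by
  rw [Subgroup.mem_center_iff]
  intro g
  have hc := h.cmA a ha g
  have hcc := h.cm_sq ha g
  have e1 : g⁻¹ * a * g = a * cm a g := conj_eq_mul_cm a g
  have e2 : g⁻¹ * (a * a) * g = a * a := by
    calc g⁻¹ * (a * a) * g = (g⁻¹ * a * g) * (g⁻¹ * a * g) := by group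
      _ = (a * cm a g) * (a * cm a g) := by rw [e1]
      _ = a * (cm a g * a) * cm a g := by group
      _ = a * (a * cm a g) * cm a g := by rw [central_comm hc]
      _ = a * a * (cm a g * cm a g) := by group
      _ = a * a := by rw [hcc, mul_one]
  calc g * (a * a) = g * (g⁻¹ * (a * a) * g) := by rw [e2]
    _ = a * a * g := by group

theorem sq_mul {a b : P} (ha : a ∈ A) (hb : b ∈ A) : (a * b) * (a * b) = (a * a) * (b * b) := by
  calc (a * b) * (a * b) = a * (b * a) * b := by group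
    _ = a * (a * b) * b := by rw [h.abA b hb a ha]
    _ = (a * a) * (b * b) := by group

/-- squaring maps `A` onto the centre -/
theorem sq_surj {z : P} (hz : z ∈ Subgroup.center P) : ∃ a ∈ A, a * a = z := by
  let H : Subgroup P :=
    { carrier := {z | ∃ a ∈ A, a * a = z}
      one_mem' := ⟨1, A.one_mem, by simp⟩
      mul_mem' := by
        rintro _ _ ⟨a, ha, rfl⟩ ⟨b, hb, rfl⟩
        exact ⟨a * b, A.mul_mem ha hb, h.sq_mul ha hb⟩
      inv_mem' := by
        rintro _ ⟨a, ha, rfl⟩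
        exact ⟨a⁻¹, A.inv_mem ha, by group⟩ }
  obtain ⟨a₀, ha₀, ha₀c⟩ := h.exA
  have hH : ∀ k : K, ∀ x ∈ H, (k : MulAut P) x ∈ H := by
    rintro k _ ⟨a, ha, rfl⟩
    exact ⟨(k : MulAut P) a, h.invA k a ha, by rw [map_mul]⟩
  have h1 : a₀ * a₀ ≠ 1 := fun h0 => ha₀c ((h.hZ a₀).1 h0)
  exact h.toHyp.center_le_of_invariant H hH ⟨a₀, ha₀, rfl⟩ (h.sq_mem ha₀) h1 hz

theorem same_sq {a b : P} (ha : a ∈ A) (hb : b ∈ A) (hab : a * a = b * b) :
    ∃ z ∈ Subgroup.center P, a = b * z := by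
  refine ⟨b⁻¹ * a, ?_, by group⟩
  rw [← h.hZ, h.sq_mul (A.inv_mem hb) ha, hab]
  group

/-- `A` is normal. -/
theorem conj_mem_A {a : P} (ha : a ∈ A) (g : P) : g⁻¹ * a * g ∈ A := by
  rw [conj_eq_mul_cm]
  exact A.mul_mem ha (h.zle (h.cmA a ha g))

theorem conj_mem_A' {a : P} (ha : a ∈ A) (g : P) : g * a * g⁻¹ ∈ A := by
  have := h.conj_mem_A ha g⁻¹
  rwa [inv_inv] at this

/-- the centralizer of `A` -/
def C (_h : HypA K A) : Subgroup P := Subgroup.centralizer (A : Set P)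

theorem mem_C {x : P} : x ∈ h.C ↔ ∀ a ∈ A, a * x = x * a := Subgroup.mem_centralizer_iff

theorem A_le_C : A ≤ h.C := by
  intro a ha
  rw [h.mem_C]
  intro b hb
  exact h.abA b hb a ha

theorem C_inv (k : K) {x : P} (hx : x ∈ h.C) : (k : MulAut P) x ∈ h.C := by
  rw [h.mem_C] at hx ⊢
  intro a ha
  have h1 : ((k⁻¹ : K) : MulAut P) a ∈ A := h.invA k⁻¹ a ha
  have h2 : (k : MulAut P) (((k⁻¹ : K) : MulAut P) a) = a := by
    rw [Subgroup.coe_inv]; simp
  rw [← h2, ← map_mul, hx _ h1, map_mul]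

theorem commutator_le_C : commutator P ≤ h.C := by
  intro c hc
  rw [h.mem_C]
  intro a ha
  exact h.comA a ha c hc

theorem cm_mem_C (x y : P) : cm x y ∈ h.C := by
  apply h.commutator_le_C
  rw [cm_eq_commutatorElement]
  exact Subgroup.commutator_mem_commutator (Subgroup.mem_top _) (Subgroup.mem_top _)

theorem sq_mem_C (x : P) : x * x ∈ h.C := by
  rw [h.mem_C]
  intro a ha
  rw [← cm_eq_one_iff, cm_mul_right_of_mem (h.cmA a ha x)]
  exact h.cm_sq ha x

theorem conj_mem_C {x : P} (hx : x ∈ h.C) (g : P) : g⁻¹ * x * g ∈ h.C := by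
  rw [h.mem_C] at hx ⊢
  intro a ha
  have h1 := hx _ (h.conj_mem_A' ha g)
  calc a * (g⁻¹ * x * g) = g⁻¹ * ((g * a * g⁻¹) * x) * g := by group
    _ = g⁻¹ * (x * (g * a * g⁻¹)) * g := by rw [h1]
    _ = g⁻¹ * x * g * a := by group

/-- elements of order at most four in `C` lie in `A` -/
theorem mem_A_of_pow_four {x : P} (hx : x ∈ h.C) (hx4 : (x * x) * (x * x) = 1) : x ∈ A := by
  have hxz : x * x ∈ Subgroup.center P := (h.hZ _).1 hx4
  obtain ⟨a, ha, haa⟩ := h.sq_surj hxz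
  have hcomm : a * x = x * a := (h.mem_C.1 hx) a ha
  have h1 : (x * a⁻¹) * (x * a⁻¹) = 1 := by
    have hcomm' : a⁻¹ * x = x * a⁻¹ := by
      calc a⁻¹ * x = a⁻¹ * (x * a) * a⁻¹ := by group
        _ = a⁻¹ * (a * x) * a⁻¹ := by rw [hcomm]
        _ = x * a⁻¹ := by group
    calc (x * a⁻¹) * (x * a⁻¹) = x * (a⁻¹ * x) * a⁻¹ := by group
      _ = x * (x * a⁻¹) * a⁻¹ := by rw [hcomm']
      _ = (x * x) * (a * a)⁻¹ := by group
      _ = 1 := by rw [haa]; group
  have h2 : x * a⁻¹ ∈ A := h.zle ((h.hZ _).1 h1)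
  have : x = (x * a⁻¹) * a := by group
  rw [this]
  exact A.mul_mem h2 ha

/-- restriction of an element of `K` to `C` -/
def restrictC (k : K) : MulAut h.C where
  toFun x := ⟨(k : MulAut P) x, h.C_inv k x.2⟩
  invFun x := ⟨((k⁻¹ : K) : MulAut P) x, h.C_inv k⁻¹ x.2⟩
  left_inv x := by
    apply Subtype.ext
    show ((k⁻¹ : K) : MulAut P) ((k : MulAut P) x) = x
    rw [Subgroup.coe_inv]; simp
  right_inv x := by
    apply Subtype.ext
    show (k : MulAut P) (((k⁻¹ : K) : MulAut P) x) = x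
    rw [Subgroup.coe_inv]; simp
  map_mul' x y := by
    apply Subtype.ext
    show (k : MulAut P) (x * y) = (k : MulAut P) x * (k : MulAut P) y
    rw [map_mul]

theorem restrictC_apply (k : K) (x : h.C) : ((h.restrictC k x : h.C) : P) = (k : MulAut P) x := rfl

/-- the restriction homomorphism -/
def restrictHom : K →* MulAut h.C where
  toFun := h.restrictC
  map_one' := by
    ext x
    rfl
  map_mul' k k' := by
    ext x
    rfl

/-- `C = C_P(A)` is abelian. -/
theorem C_comm {x y : P} (hx : x ∈ h.C) (hy : y ∈ h.C) : x * y = y * x := by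
  by_contra hxy
  haveI := h.fin
  letI : CommGroup K := { (inferInstance : Group K) with mul_comm := h.comm }
  obtain ⟨t₁, t₂, ht12, ht1, ht1', ht2, ht2'⟩ := h.inv2
  have ht1C : t₁ ∈ h.C := h.A_le_C (h.zle ((h.hZ _).1 ht1'))
  have ht2C : t₂ ∈ h.C := h.A_le_C (h.zle ((h.hZ _).1 ht2'))
  have key := Cfsg.Agent.Lib.H24.SuzukiTwo.main_aux (Nat.card h.C) h.C K h.restrictHom rfl
    (h.two.to_subgroup _) ⟨⟨x, hx⟩, ⟨y, hy⟩, fun h0 => hxy (congrArg Subtype.val h0)⟩
    ⟨⟨t₁, ht1C⟩, ⟨t₂, ht2C⟩, fun h0 => ht12 (congrArg Subtype.val h0),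
      fun h0 => ht1 (congrArg Subtype.val h0), Subtype.ext ht1',
      fun h0 => ht2 (congrArg Subtype.val h0), Subtype.ext ht2'⟩ ?_
  · obtain ⟨a₀, ha₀, ha₀c⟩ := h.exA
    have hmem : (⟨a₀, h.A_le_C ha₀⟩ : h.C) ∈ Subgroup.center h.C := by
      rw [Subgroup.mem_center_iff]
      intro g
      apply Subtype.ext
      exact ((h.mem_C.1 g.2) a₀ ha₀).symm
    have := key _ hmem
    exact ha₀c ((h.hZ _).1 (congrArg Subtype.val this))
  · intro a b ha1 ha2 hb1 hb2
    have ha1' : (a : P) ≠ 1 := fun h0 => ha1 (Subtype.ext h0)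
    have hb1' : (b : P) ≠ 1 := fun h0 => hb1 (Subtype.ext h0)
    have ha2' : (a : P) * (a : P) = 1 := congrArg Subtype.val ha2
    have hb2' : (b : P) * (b : P) = 1 := congrArg Subtype.val hb2
    obtain ⟨k, hk, hku⟩ := h.reg a b ha1' ha2' hb1' hb2'
    refine ⟨k, Subtype.ext hk, fun k' hk' => hku k' ?_⟩
    exact congrArg Subtype.val hk'

end HypA

end Cfsg.Agent.Lib.H26.Sz
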