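import Mathlib
import Cfsg.Agent.Lib.H26.SzGrpB
import Cfsg.Agent.Lib.H26.SzAlgC

set_option autoImplicit false
set_option linter.style.haveILetI false
set_option linter.unusedSectionVars false

/-!
Suzuki 2-groups (helper26): the field data on the centre and the commutator maps
`L̃_g : F →+ F`, `L̃_g (a²) = [a, g]` for `a ∈ A`, with their equivariance and
fixed-point-freeness.
-/

namespace Cfsg.Agent.Lib.H26.Sz

open Cfsg.Agent.Lib.H24.SuzukiTwo (cm)
open scoped IsMulCommutative commutatorElement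

universe u

variable {P : Type u} [Group P] {K : Subgroup (MulAut P)} {A : Subgroup P}

/-- the field data attached to a Suzuki 2-group -/
structure FD (K : Subgroup (MulAut P)) (F : Type u) [Field F] where
  zv : P → F
  κ : K → F
  zv_mul : ∀ a b, a ∈ Subgroup.center P → b ∈ Subgroup.center P → zv (a * b) = zv a + zv b
  zv_inj : ∀ a ∈ Subgroup.center P, zv a = 0 → a = 1
  zv_surj : ∀ u : F, ∃ a ∈ Subgroup.center P, zv a = u
  κ_mul : ∀ k k', κ (k * k') = κ k * κ k'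
  κ_ne : ∀ k, κ k ≠ 0
  κ_surj : ∀ u : F, u ≠ 0 → ∃ k, κ k = u
  κ_one : κ 1 = 1
  κ_inj : ∀ k, κ k = 1 → k = 1
  zv_κ : ∀ k : K, ∀ a ∈ Subgroup.center P, zv ((k : MulAut P) a) = κ k * zv a

theorem Hyp.exists_FD (h : Hyp K) : ∃ (F : Type u) (_ : Field F) (_ : Fintype F) (_ : CharP F 2),
    Nonempty (FD K F) := by
  obtain ⟨F, i1, i2, i3, zv, κ, h1, h2, h3, h4, h5, h6, h7, h8, h9⟩ := h.exists_field
  exact ⟨F, i1, i2, i3, ⟨⟨zv, κ, h1, h2, h3, h4, h5, h6, h7, h8, h9⟩⟩⟩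

namespace FD

variable {F : Type u} [Field F] [Fintype F] [CharP F 2] (fd : FD K F)

theorem zv_one : fd.zv 1 = 0 := by
  have := fd.zv_mul 1 1 (Subgroup.one_mem _) (Subgroup.one_mem _)
  rw [mul_one] at this
  exact left_eq_add.1 this

theorem zv_eq (h : Hyp K) {a b : P} (ha : a ∈ Subgroup.center P) (hb : b ∈ Subgroup.center P)
    (hab : fd.zv a = fd.zv b) : a = b := by
  have h1 : fd.zv (a * b) = 0 := by
    rw [fd.zv_mul a b ha hb, hab, CharTwo.add_self_eq_zero]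
  have h2 := fd.zv_inj _ (Subgroup.mul_mem _ ha hb) h1
  rw [eq_inv_of_mul_eq_one_left h2, h.inv_of_mem hb]

end FD

namespace HypA

variable {F : Type u} [Field F] [Fintype F] [CharP F 2] (h : HypA K A) (fd : FD K F)
include h

theorem exists_rt (u : F) : ∃ a ∈ A, fd.zv (a * a) = u := by
  obtain ⟨z, hz, hzu⟩ := fd.zv_surj u
  obtain ⟨a, ha, haa⟩ := h.sq_surj hz
  exact ⟨a, ha, by rw [haa, hzu]⟩

/-- a square root in `A` of the central element with value `u` -/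
noncomputable def rt (u : F) : P := Classical.choose (h.exists_rt fd u)

theorem rt_mem (u : F) : h.rt fd u ∈ A := (Classical.choose_spec (h.exists_rt fd u)).1

theorem rt_sq (u : F) : fd.zv (h.rt fd u * h.rt fd u) = u :=
  (Classical.choose_spec (h.exists_rt fd u)).2

/-- the commutator map as a function on the field -/
noncomputable def Lfun (g : P) (u : F) : F := fd.zv (cm (h.rt fd u) g)

theorem zv_cm {a : P} (ha : a ∈ A) (g : P) :
    fd.zv (cm a g) = h.Lfun fd g (fd.zv (a * a)) := by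
  unfold Lfun
  have hr := h.rt_mem fd (fd.zv (a * a))
  have hsq : h.rt fd (fd.zv (a * a)) * h.rt fd (fd.zv (a * a)) = a * a :=
    fd.zv_eq h.toHyp (h.sq_mem hr) (h.sq_mem ha) (h.rt_sq fd _)
  obtain ⟨z, hz, hza⟩ := h.same_sq ha hr hsq.symm
  have : cm a g = cm (h.rt fd (fd.zv (a * a))) g :=
    (congrArg (fun t => cm t g) hza).trans (cm_central_mul_left hz _ _)
  rw [this]

theorem Lfun_add (g : P) (u v : F) : h.Lfun fd g (u + v) = h.Lfun fd g u + h.Lfun fd g v := by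
  have hu := h.rt_mem fd u
  have hv := h.rt_mem fd v
  have h1 : fd.zv ((h.rt fd u * h.rt fd v) * (h.rt fd u * h.rt fd v)) = u + v := by
    rw [h.sq_mul hu hv, fd.zv_mul _ _ (h.sq_mem hu) (h.sq_mem hv), h.rt_sq, h.rt_sq]
  have h2 := h.zv_cm fd (A.mul_mem hu hv) g
  rw [h1] at h2
  rw [← h2, cm_mul_left_of_mem (h.cmA _ hu g), fd.zv_mul _ _ (h.cmA _ hu g) (h.cmA _ hv g)]
  rfl

/-- the commutator map `L̃_g` -/
noncomputable def L (g : P) : F →+ F := AddMonoidHom.mk' (h.Lfun fd g) (h.Lfun_add fd g)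

theorem L_apply (g : P) (u : F) : h.L fd g u = fd.zv (cm (h.rt fd u) g) := rfl

theorem zv_cm' {a : P} (ha : a ∈ A) (g : P) : fd.zv (cm a g) = h.L fd g (fd.zv (a * a)) :=
  h.zv_cm fd ha g

theorem L_mul (g g' : P) : h.L fd (g * g') = h.L fd g + h.L fd g' := by
  ext u
  rw [AddMonoidHom.add_apply, L_apply, L_apply, L_apply,
    cm_mul_right_of_mem (h.cmA _ (h.rt_mem fd u) g),
    fd.zv_mul _ _ (h.cmA _ (h.rt_mem fd u) g) (h.cmA _ (h.rt_mem fd u) g')]

theorem L_eq_zero_iff (g : P) : h.L fd g = 0 ↔ g ∈ h.C := by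
  rw [h.mem_C]
  constructor
  · intro h0 a ha
    rw [← cm_eq_one_iff]
    apply fd.zv_inj _ (h.cmA a ha g)
    rw [h.zv_cm' fd ha, h0]
    rfl
  · intro hg
    ext u
    rw [L_apply, (cm_eq_one_iff _ _).2 (hg _ (h.rt_mem fd u)), fd.zv_one]
    rfl

theorem L_aut (k : K) (g : P) : h.L fd ((k : MulAut P) g) = conj (fd.κ k) (h.L fd g) := by
  ext u
  rw [conj_apply]
  set u' := (fd.κ k)⁻¹ * u with hu'
  have ha := h.rt_mem fd u'
  have hka := h.invA k _ ha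
  have h1 : fd.zv ((k : MulAut P) (h.rt fd u') * (k : MulAut P) (h.rt fd u')) = u := by
    rw [← map_mul, fd.zv_κ k _ (h.sq_mem ha), h.rt_sq, hu', mul_inv_cancel_left₀ (fd.κ_ne k)]
  have h2 := h.zv_cm' fd hka ((k : MulAut P) g)
  rw [h1, cm_aut, fd.zv_κ k _ (h.cmA _ ha g)] at h2
  rw [← h2]
  rfl

theorem L_conj (g : P) (u : F) (hu : u ≠ 0) : ∃ g', h.L fd g' = conj u (h.L fd g) := by
  obtain ⟨k, rfl⟩ := fd.κ_surj u hu
  exact ⟨_, h.L_aut fd k g⟩

theorem L_fpf (g : P) (u : F) (hu : u ≠ 0) (hu1 : u ≠ 1) (hfix : conj u (h.L fd g) = h.L fd g) :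
    h.L fd g = 0 := by
  obtain ⟨k, rfl⟩ := fd.κ_surj u hu
  have hk : k ≠ 1 := by
    rintro rfl
    exact hu1 fd.κ_one
  rw [← h.L_aut fd] at hfix
  have h1 : h.L fd (g⁻¹ * (k : MulAut P) g) = 0 := by
    rw [h.L_mul, L_inv _ (h.L_mul fd), hfix, neg_add_cancel]
  rw [h.L_eq_zero_iff] at h1 ⊢
  exact h.toHyp.mem_of_inv_mul_mem h.C (fun k x hx => h.C_inv k hx) hk h1

theorem exists_L_ne_zero : ∃ g, h.L fd g ≠ 0 := by
  obtain ⟨a₀, ha₀, ha₀c⟩ := h.exA
  by_contra hall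
  push Not at hall
  apply ha₀c
  rw [Subgroup.mem_center_iff]
  intro g
  have := (h.L_eq_zero_iff fd g).1 (hall g)
  exact ((h.mem_C.1 this) a₀ ha₀).symm

include fd in
theorem exists_ne_zero_one : ∃ v : F, v ≠ 0 ∧ v ≠ 1 := by
  obtain ⟨t₁, t₂, ht12, ht1, ht1', ht2, ht2'⟩ := h.inv2
  have h1c := (h.hZ _).1 ht1'
  have h2c := (h.hZ _).1 ht2'
  have h1 : fd.zv t₁ ≠ 0 := fun h0 => ht1 (fd.zv_inj _ h1c h0)
  have h2 : fd.zv t₂ ≠ 0 := fun h0 => ht2 (fd.zv_inj _ h2c h0)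
  by_cases h3 : fd.zv t₁ = 1
  · refine ⟨fd.zv t₂, h2, fun h4 => ht12 ?_⟩
    exact fd.zv_eq h.toHyp h1c h2c (h3.trans h4.symm)
  · exact ⟨_, h1, h3⟩

end HypA

end Cfsg.Agent.Lib.H26.Sz
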