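import Mathlib
import Cfsg.Agent.Lib.H26.SzGrpC

set_option autoImplicit false
set_option linter.style.haveILetI false
set_option linter.unusedSectionVars false

/-!
Suzuki 2-groups (helper26): end of the proof that a Suzuki 2-group has class two
(Higman): elements acting injectively force `C_P(A) = A`, and then the algebraic main lemma
kills the second commutator form.
-/

namespace Cfsg.Agent.Lib.H26.Sz

open Cfsg.Agent.Lib.H24.SuzukiTwo (cm)
open scoped IsMulCommutative commutatorElement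

universe u

variable {P : Type u} [Group P] {K : Subgroup (MulAut P)} {A : Subgroup P}

namespace HypA

variable {F : Type u} [Field F] [Fintype F] [CharP F 2] (h : HypA K A) (fd : FD K F)
include h

section inj

variable {g : P} (hg : Function.Injective (h.L fd g))
include hg

theorem S1 {a : P} (ha : a ∈ A) (hag : a * g = g * a) : a ∈ Subgroup.center P := by
  have h1 := h.zv_cm' fd ha g
  rw [(cm_eq_one_iff a g).2 hag, fd.zv_one] at h1
  have h2 : fd.zv (a * a) = 0 := hg (by rw [← h1, map_zero])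
  exact (h.hZ a).1 (fd.zv_inj _ (h.sq_mem ha) h2)

theorem S2 {x : P} (hx : x ∈ h.C) (hxg : x * g = g * x) : x ∈ Subgroup.center P := by
  by_contra hxc
  have hxx : x * x ≠ 1 := fun h0 => hxc ((h.hZ x).1 h0)
  obtain ⟨j, hj1, hj2⟩ := Cfsg.Agent.Lib.H24.SuzukiTwo.exists_order_four h.two x hxx
  have hyC : x ^ j ∈ h.C := Subgroup.pow_mem _ hx j
  have hyA : x ^ j ∈ A := h.mem_A_of_pow_four hyC hj2
  have hcomm : x ^ j * g = g * x ^ j := (Commute.pow_left (show Commute x g from hxg) j)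
  have := h.S1 fd hg hyA hcomm
  exact hj1 ((h.hZ _).2 this)

theorem S3 : g * g ∈ Subgroup.center P :=
  h.S2 fd hg (h.sq_mem_C g) (by group)

theorem S4 {u : P} (hu : u ∈ h.C) : g⁻¹ * u * g * u ∈ Subgroup.center P := by
  have hgg := h.S3 fd hg
  have hconj := h.conj_mem_C hu g
  apply h.S2 fd hg (Subgroup.mul_mem _ hconj hu)
  have e : g⁻¹ * (g⁻¹ * u * g * u) * g = g⁻¹ * u * g * u := by
    calc g⁻¹ * (g⁻¹ * u * g * u) * g = (g⁻¹ * g⁻¹ * (u * (g * g))) * (g⁻¹ * u * g) := by group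
      _ = (g⁻¹ * g⁻¹ * ((g * g) * u)) * (g⁻¹ * u * g) := by rw [central_comm hgg u]
      _ = u * (g⁻¹ * u * g) := by group
      _ = (g⁻¹ * u * g) * u := h.C_comm hu hconj
  calc g⁻¹ * u * g * u * g = g * (g⁻¹ * (g⁻¹ * u * g * u) * g) := by group
    _ = g * (g⁻¹ * u * g * u) := by rw [e]

end inj

/-- with three suitable elements, `C = A` -/
theorem C_le_A {g g' : P} (hg : Function.Injective (h.L fd g))
    (hg' : Function.Injective (h.L fd g')) (hgg' : Function.Injective (h.L fd (g * g'))) :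
    h.C ≤ A := by
  intro u hu
  have h1 := h.S4 fd hg hu
  have h2 := h.S4 fd hg' (Subgroup.inv_mem _ hu)
  have h3 := h.S4 fd hgg' hu
  set z₁ := g⁻¹ * u * g * u with hz₁
  set z₂ := g'⁻¹ * u⁻¹ * g' * u⁻¹ with hz₂
  set z₃ := (g * g')⁻¹ * u * (g * g') * u with hz₃
  have e1 : g⁻¹ * u * g = z₁ * u⁻¹ := by rw [hz₁]; group
  have e2 : g'⁻¹ * u⁻¹ * g' = z₂ * u := by rw [hz₂]; group
  have e3 : z₃ = z₁ * z₂ * (u * u) := by
    calc z₃ = g'⁻¹ * (g⁻¹ * u * g) * g' * u := by rw [hz₃]; group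
      _ = g'⁻¹ * (z₁ * u⁻¹) * g' * u := by rw [e1]
      _ = (g'⁻¹ * z₁) * u⁻¹ * g' * u := by group
      _ = (z₁ * g'⁻¹) * u⁻¹ * g' * u := by rw [central_comm h1]
      _ = z₁ * (g'⁻¹ * u⁻¹ * g') * u := by group
      _ = z₁ * (z₂ * u) * u := by rw [e2]
      _ = z₁ * z₂ * (u * u) := by group
  have huu : u * u ∈ Subgroup.center P := by
    have : u * u = (z₁ * z₂)⁻¹ * z₃ := by rw [e3]; group
    rw [this]
    exact Subgroup.mul_mem _ (Subgroup.inv_mem _ (Subgroup.mul_mem _ h1 h2)) h3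
  exact h.mem_A_of_pow_four hu ((h.hZ _).2 huu)

section CA

variable (hCA : h.C ≤ A)
include hCA

theorem cm_mem_A (x y : P) : cm x y ∈ A := hCA (h.cm_mem_C x y)

theorem sq_mem_A (x : P) : x * x ∈ A := hCA (h.sq_mem_C x)

/-- squares of three commuting elements of `A`, the middle one central -/
theorem sq_three {c z c' : P} (hc : c ∈ A) (hz : z ∈ Subgroup.center P) (hc' : c' ∈ A) :
    (c * z * c') * (c * z * c') = (c * c) * (c' * c') := by
  rw [h.sq_mul (A.mul_mem hc (h.zle hz)) hc', h.sq_mul hc (h.zle hz), h.toHyp.sq_of_mem hz, mul_one]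

theorem B_add_left (g g' x : P) :
    fd.zv (cm (g * g') x * cm (g * g') x) =
      fd.zv (cm g x * cm g x) + fd.zv (cm g' x * cm g' x) := by
  have hc := h.cm_mem_A hCA g x
  have hc' := h.cm_mem_A hCA g' x
  have hz := h.cmA _ hc g'
  have e : cm (g * g') x = cm g x * cm (cm g x) g' * cm g' x := by
    rw [cm_mul_left_gen, conj_eq_mul_cm]
  rw [e, h.sq_three hCA hc hz hc', fd.zv_mul _ _ (h.sq_mem hc) (h.sq_mem hc')]

theorem B_add_right (x g g' : P) :
    fd.zv (cm x (g * g') * cm x (g * g')) =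
      fd.zv (cm x g * cm x g) + fd.zv (cm x g' * cm x g') := by
  have hc := h.cm_mem_A hCA x g
  have hc' := h.cm_mem_A hCA x g'
  have hz := h.cmA _ hc g'
  have e : cm x (g * g') = cm x g' * (cm x g * cm (cm x g) g') := by
    rw [cm_mul_right_gen, conj_eq_mul_cm]
  rw [e, h.sq_mul hc' (A.mul_mem hc (h.zle hz)), h.sq_mul hc (h.zle hz), h.toHyp.sq_of_mem hz,
    mul_one, fd.zv_mul _ _ (h.sq_mem hc') (h.sq_mem hc), add_comm]

theorem Q_mul (g x : P) :
    fd.zv (((g * x) * (g * x)) * ((g * x) * (g * x))) =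
      fd.zv ((g * g) * (g * g)) + fd.zv ((x * x) * (x * x)) + fd.zv (cm g x * cm g x) := by
  have hg2 := h.sq_mem_A hCA g
  have hx2 := h.sq_mem_A hCA x
  have hc := h.cm_mem_A hCA x g
  have hz := h.cmA _ hc x
  have e : (g * x) * (g * x) = ((g * g) * (x * x)) * (cm x g * cm (cm x g) x) := by
    have e1 : x * g = g * x * cm x g := mul_eq_mul_cm x g
    have e2 : cm x g * x = x * (cm x g * cm (cm x g) x) := by
      rw [← conj_eq_mul_cm]; group
    calc (g * x) * (g * x) = g * (x * g) * x := by group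
      _ = g * (g * x * cm x g) * x := by rw [e1]
      _ = g * g * x * (cm x g * x) := by group
      _ = g * g * x * (x * (cm x g * cm (cm x g) x)) := by rw [e2]
      _ = ((g * g) * (x * x)) * (cm x g * cm (cm x g) x) := by group
  have hcc : cm x g * cm x g = cm g x * cm g x := by
    have h1 : cm x g = (cm g x)⁻¹ := (cm_inv' g x).symm
    have h2 : cm g x * cm g x ∈ Subgroup.center P := h.sq_mem (h.cm_mem_A hCA g x)
    rw [h1]
    calc (cm g x)⁻¹ * (cm g x)⁻¹ = (cm g x * cm g x)⁻¹ := by group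
      _ = cm g x * cm g x := h.toHyp.inv_of_mem h2
  rw [e, h.sq_mul (A.mul_mem hg2 hx2) (A.mul_mem hc (h.zle hz)), h.sq_mul hg2 hx2,
    h.sq_mul hc (h.zle hz), h.toHyp.sq_of_mem hz, mul_one, hcc,
    fd.zv_mul _ _ (Subgroup.mul_mem _ (h.sq_mem hg2) (h.sq_mem hx2))
      (h.sq_mem (h.cm_mem_A hCA g x)),
    fd.zv_mul _ _ (h.sq_mem hg2) (h.sq_mem hx2)]

theorem L_Q (g : P) : h.L fd g (fd.zv ((g * g) * (g * g))) = 0 := by
  rw [← h.zv_cm' fd (h.sq_mem_A hCA g) g, (cm_eq_one_iff _ _).2 (by group), fd.zv_one]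

theorem B_of_ker {g : P} (hg : h.L fd g = 0) (x : P) :
    fd.zv (cm g x * cm g x) = 0 ∧ fd.zv (cm x g * cm x g) = 0 := by
  have hgA : g ∈ A := hCA ((h.L_eq_zero_iff fd g).1 hg)
  have h1 : cm g x ∈ Subgroup.center P := h.cmA g hgA x
  have h2 : cm x g ∈ Subgroup.center P := by
    rw [← cm_inv' g x]; exact Subgroup.inv_mem _ h1
  rw [h.toHyp.sq_of_mem h1, h.toHyp.sq_of_mem h2, fd.zv_one]
  exact ⟨rfl, rfl⟩

include fd in
/-- contradiction: all commutators are central -/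
theorem cm_mem_center (x y : P) : cm x y ∈ Subgroup.center P := by
  have key := alg_main (h.L fd) (h.L_mul fd) (h.L_conj fd) (h.L_fpf fd) (h.exists_ne_zero_one fd)
    (fun g => fd.zv ((g * g) * (g * g))) (fun g x => fd.zv (cm g x * cm g x))
    (h.B_add_left fd hCA) (h.B_add_right fd hCA) (h.Q_mul fd hCA) (h.L_Q fd hCA)
    (fun g x hg => h.B_of_ker fd hCA hg x) x y
  have h1 : cm x y * cm x y = 1 := fd.zv_inj _ (h.sq_mem (h.cm_mem_A hCA x y)) key
  exact (h.hZ _).1 h1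

end CA

end HypA

/-- **Higman**: a Suzuki 2-group has class two. -/
theorem Hyp.cm_mem_center (h : Hyp K) (x y : P) : cm x y ∈ Subgroup.center P := by
  revert x y
  by_contra hN
  haveI := h.fin
  obtain ⟨A, h1, h2, h3, h4, h5, h6⟩ := exists_A h.two hN
  have hA : HypA K A := ⟨h, h1, h2, h3, h4, h5, fun k a ha => h6 k a ha⟩
  obtain ⟨F, _, _, _, ⟨fd⟩⟩ := h.exists_FD
  obtain ⟨g, g', hg, hg', hgg'⟩ := exists_injective (hA.L fd) (hA.L_mul fd) (hA.L_conj fd)
    (hA.L_fpf fd) (hA.exists_ne_zero_one fd) (hA.exists_L_ne_zero fd)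
  have hCA := hA.C_le_A fd hg hg' hgg'
  exact hN (hA.cm_mem_center fd hCA)

end Cfsg.Agent.Lib.H26.Sz
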