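import Mathlib
import Cfsg.Agent.Lib.H26.SzGrpD
import Cfsg.Agent.Lib.H26.SzCW

set_option autoImplicit false
set_option linter.style.haveILetI false

/-!
Higman's theorem on Suzuki 2-groups (helper26): squares and commutators are central, the order is
`|Z|²` or `|Z|³`, and the exponent is four.
-/

namespace Cfsg.Agent.Lib.H26.Sz

open Cfsg.Agent.Lib.H24.SuzukiTwo (cm)

universe u

variable {P : Type u} [Group P] {K : Subgroup (MulAut P)}

theorem pow_arith {n m : ℕ} (hn : 1 ≤ n) (hdvd : 2 ^ n - 1 ∣ 2 ^ m - 1) (hlt : n < m)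
    (hle : m ≤ 3 * n) : m = 2 * n ∨ m = 3 * n := by
  have hg := Nat.pow_sub_one_gcd_pow_sub_one 2 n m
  rw [Nat.gcd_eq_left hdvd] at hg
  have h1 : 1 ≤ 2 ^ n := Nat.one_le_two_pow
  have h2 : 1 ≤ 2 ^ (Nat.gcd n m) := Nat.one_le_two_pow
  have h3 : 2 ^ n = 2 ^ (Nat.gcd n m) := by omega
  have h4 : n = Nat.gcd n m := Nat.pow_right_injective (le_refl 2) h3
  have h5 : n ∣ m := by rw [h4]; exact Nat.gcd_dvd_right n m
  obtain ⟨t, rfl⟩ := h5
  have ht : t = 2 ∨ t = 3 := by
    have h6 : 1 < t := by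
      by_contra hle1
      push Not at hle1
      interval_cases t <;> omega
    have h7 : t ≤ 3 := by
      by_contra hgt
      push Not at hgt
      have : 3 * n < n * t := by nlinarith
      omega
    omega
  rcases ht with rfl | rfl
  · left; ring
  · right; ring

namespace Hyp

variable (h : Hyp K)
include h

theorem finite_K : Finite K := by
  haveI := h.fin
  obtain ⟨z₁, _, _, hz₁, hz₁', _, _⟩ := h.inv2
  have hz₁c : z₁ ∈ Subgroup.center P := (h.hZ z₁).1 hz₁'
  exact Finite.of_injective (fun k : K => (k : MulAut P) z₁) (fun k k' hk => h.k_inj hz₁c hz₁ hk)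

/-- `|K| = |Z| - 1` -/
theorem card_K : Nat.card K + 1 = Nat.card (Subgroup.center P) := by
  classical
  haveI := h.fin
  haveI := h.finite_K
  obtain ⟨z₁, _, _, hz₁, hz₁', _, _⟩ := h.inv2
  have hz₁c : z₁ ∈ Subgroup.center P := (h.hZ z₁).1 hz₁'
  let f : K → {z : Subgroup.center P // z ≠ 1} := fun k =>
    ⟨⟨(k : MulAut P) z₁, h.mem_center_of_aut k hz₁c⟩, fun h0 => hz₁ (by
      have := congrArg Subtype.val h0
      simpa using this)⟩
  have hf : Function.Bijective f := by
    constructor
    · intro k k' hk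
      have := congrArg (fun z : {z : Subgroup.center P // z ≠ 1} => ((z : Subgroup.center P) : P)) hk
      exact h.k_inj hz₁c hz₁ this
    · rintro ⟨⟨z, hz⟩, hz1⟩
      have hz1' : z ≠ 1 := fun h0 => hz1 (Subtype.ext h0)
      obtain ⟨k, hk⟩ := h.k_trans hz₁c hz₁ hz hz1'
      exact ⟨k, Subtype.ext (Subtype.ext hk)⟩
  rw [Nat.card_eq_of_bijective f hf]
  letI : Fintype (Subgroup.center P) := Fintype.ofFinite _
  have h1 : Nat.card {z : Subgroup.center P // z ≠ 1} = Fintype.card (Subgroup.center P) - 1 := by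
    rw [Nat.card_eq_fintype_card]
    exact Set.card_ne_eq (1 : Subgroup.center P)
  rw [h1, Nat.card_eq_fintype_card]
  have : 0 < Fintype.card (Subgroup.center P) := Fintype.card_pos
  omega

/-- `|K|` divides `|P| - 1` (the action on `P ∖ 1` is free). -/
theorem card_K_dvd : Nat.card K ∣ Nat.card P - 1 := by
  classical
  haveI := h.fin
  haveI := h.finite_K
  letI : Fintype K := Fintype.ofFinite _
  letI : Fintype P := Fintype.ofFinite _
  letI : ∀ k : K, Fintype (MulAction.fixedBy P k) := fun k => Fintype.ofFinite _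
  letI : Fintype (Quotient (MulAction.orbitRel K P)) := Fintype.ofFinite _
  have hB := MulAction.sum_card_fixedBy_eq_card_orbits_mul_card_group K P
  have h1 : ∀ k : K, k ≠ 1 → Fintype.card (MulAction.fixedBy P k) = 1 := by
    intro k hk
    rw [Fintype.card_eq_one_iff]
    refine ⟨⟨1, by rw [MulAction.mem_fixedBy]; exact map_one (k : MulAut P)⟩, ?_⟩
    rintro ⟨x, hx⟩
    apply Subtype.ext
    rw [MulAction.mem_fixedBy] at hx
    exact h.fpf hk hx
  have h2 : Fintype.card (MulAction.fixedBy P (1 : K)) = Fintype.card P := by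
    apply Fintype.card_of_subtype
    intro x
    simp
  rw [← Finset.add_sum_erase _ _ (Finset.mem_univ (1 : K)), h2,
    Finset.sum_congr rfl (fun k hk => h1 k (Finset.ne_of_mem_erase hk)), Finset.sum_const,
    Finset.card_erase_of_mem (Finset.mem_univ _), Finset.card_univ, smul_eq_mul, mul_one] at hB
  rw [Nat.card_eq_fintype_card, Nat.card_eq_fintype_card]
  have hK : 0 < Fintype.card K := Fintype.card_pos
  have hO : 0 < Fintype.card (Quotient (MulAction.orbitRel K P)) :=
    Fintype.card_pos_iff.2 ⟨Quotient.mk'' 1⟩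
  refine ⟨Fintype.card (Quotient (MulAction.orbitRel K P)) - 1, ?_⟩
  have : Fintype.card P - 1 + Fintype.card K =
      (Fintype.card (Quotient (MulAction.orbitRel K P)) - 1) * Fintype.card K + Fintype.card K := by
    have e : (Fintype.card (Quotient (MulAction.orbitRel K P)) - 1) * Fintype.card K
        + Fintype.card K = Fintype.card (Quotient (MulAction.orbitRel K P)) * Fintype.card K := by
      rw [← Nat.succ_mul]
      congr 1
      omega
    rw [e, ← hB]
    have : 0 < Fintype.card P := Fintype.card_pos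
    omega
  rw [mul_comm]
  omega

theorem toCT : CT P := ⟨h.cm_mem_center, h.hZ⟩

theorem sq_mem_center (x : P) : x * x ∈ Subgroup.center P := h.toCT.sq_mem_center x

theorem card_cases : Nat.card P = Nat.card (Subgroup.center P) ^ 2 ∨
    Nat.card P = Nat.card (Subgroup.center P) ^ 3 := by
  haveI := h.fin
  haveI : Fact (Nat.Prime 2) := ⟨Nat.prime_two⟩
  obtain ⟨m, hm⟩ := IsPGroup.iff_card.1 h.two
  obtain ⟨n, hn⟩ := IsPGroup.iff_card.1 (h.two.to_subgroup (Subgroup.center P))
  have hK := h.card_K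
  have hKd := h.card_K_dvd
  have hq := h.toCT.card_quot_le
  have hmul := Subgroup.card_eq_card_quotient_mul_card_subgroup (Subgroup.center P)
  -- `n ≥ 1`
  have hn1 : 1 ≤ n := by
    by_contra h0
    have hn0 : n = 0 := by omega
    rw [hn0, pow_zero] at hn
    obtain ⟨z₁, _, _, hz₁, hz₁', _, _⟩ := h.inv2
    have hz₁c : z₁ ∈ Subgroup.center P := (h.hZ z₁).1 hz₁'
    have hsub := (Nat.card_eq_one_iff_unique.1 hn).1
    have : (⟨z₁, hz₁c⟩ : Subgroup.center P) = 1 := Subsingleton.elim _ _
    exact hz₁ (congrArg Subtype.val this)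
  -- `n < m`
  have hnm : n < m := by
    have hlt : Nat.card (Subgroup.center P) < Nat.card P := by
      apply lt_of_le_of_ne (Subgroup.card_le_card_group _)
      intro heq
      have htop : Subgroup.center P = ⊤ := Subgroup.eq_top_of_card_eq _ heq
      obtain ⟨x, y, hxy⟩ := h.nonab
      apply hxy
      have hx : x ∈ Subgroup.center P := by rw [htop]; exact Subgroup.mem_top x
      exact central_comm hx y
    rw [hm, hn] at hlt
    exact (Nat.pow_lt_pow_iff_right (by norm_num)).1 hlt
  -- `m ≤ 3 n`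
  have hm3 : m ≤ 3 * n := by
    have h1 : Nat.card P ≤ Nat.card (Subgroup.center P) ^ 3 := by
      rw [hmul, pow_succ]
      exact Nat.mul_le_mul_right _ hq
    rw [hm, hn, ← pow_mul] at h1
    have := (Nat.pow_le_pow_iff_right (by norm_num : 1 < 2)).1 h1
    omega
  have hdvd : 2 ^ n - 1 ∣ 2 ^ m - 1 := by
    have : Nat.card K = 2 ^ n - 1 := by omega
    rw [← this, ← hm]
    exact hKd
  rcases pow_arith hn1 hdvd hnm hm3 with h2 | h3
  · left; rw [hm, hn, ← pow_mul, h2, mul_comm]
  · right; rw [hm, hn, ← pow_mul, h3, mul_comm]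

theorem exponent_eq : Monoid.exponent P = 4 := by
  have h4 : ∀ x : P, x ^ 4 = 1 := by
    intro x
    have : x ^ 4 = (x * x) * (x * x) := by
      rw [show (4 : ℕ) = 2 + 2 from rfl, pow_add, pow_two]
    rw [this]
    exact (h.hZ _).2 (h.sq_mem_center x)
  have hdvd : Monoid.exponent P ∣ 2 ^ 2 := Monoid.exponent_dvd_of_forall_pow_eq_one h4
  obtain ⟨k, hk, hek⟩ := (Nat.dvd_prime_pow Nat.prime_two).1 hdvd
  have hk2 : k = 2 := by
    by_contra hne
    have hk1 : k ≤ 1 := by omega
    have h2 : ∀ x : P, x ^ 2 = 1 := by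
      intro x
      have h1 : Monoid.exponent P ∣ 2 := by
        rw [hek]
        exact pow_dvd_pow 2 hk1
      obtain ⟨t, ht⟩ := h1
      rw [ht, pow_mul, Monoid.pow_exponent_eq_one, one_pow]
    obtain ⟨x, y, hxy⟩ := h.nonab
    apply hxy
    have hx : x ∈ Subgroup.center P := (h.hZ x).1 (by rw [← pow_two]; exact h2 x)
    exact central_comm hx y
  rw [hek, hk2]
  norm_num

theorem main : (∀ x : P, x * x ∈ Subgroup.center P) ∧
    (∀ x y : P, x⁻¹ * y⁻¹ * x * y ∈ Subgroup.center P) ∧
    (Nat.card P = Nat.card (Subgroup.center P) ^ 2 ∨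
      Nat.card P = Nat.card (Subgroup.center P) ^ 3) ∧ Monoid.exponent P = 4 :=
  ⟨h.sq_mem_center, h.cm_mem_center, h.card_cases, h.exponent_eq⟩

end Hyp

end Cfsg.Agent.Lib.H26.Sz
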