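import Mathlib
import Cfsg.Agent.Lib.H26.SzMain
import Cfsg.Agent.Lib.H26.SzFieldGen

set_option autoImplicit false
set_option linter.style.haveILetI false

/-!
Suzuki 2-groups of order `|Z|²` (helper26): coordinates.  The central quotient also carries a
field structure (the cyclic group `K` is regular on its nonzero vectors), and both fields are
identified with one finite field `F : Type`.
-/

namespace Cfsg.Agent.Lib.H26.Sz

open Cfsg.Agent.Lib.H24.SuzukiTwo (cm)

universe u w

variable {P : Type u} [Group P] {K : Subgroup (MulAut P)}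

/-- coordinates of a Suzuki 2-group of order `|Z|²` -/
structure AD (K : Subgroup (MulAut P)) (F : Type w) [Field F] where
  zv : P → F
  κ : K → F
  α : P → F
  χ : K → F
  zv_mul : ∀ a b, a ∈ Subgroup.center P → b ∈ Subgroup.center P → zv (a * b) = zv a + zv b
  zv_inj : ∀ a ∈ Subgroup.center P, zv a = 0 → a = 1
  κ_mul : ∀ k k', κ (k * k') = κ k * κ k'
  κ_ne : ∀ k, κ k ≠ 0
  κ_one : κ 1 = 1
  κ_inj : ∀ k, κ k = 1 → k = 1
  zv_κ : ∀ k : K, ∀ a ∈ Subgroup.center P, zv ((k : MulAut P) a) = κ k * zv a
  α_mul : ∀ g g', α (g * g') = α g + α g'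
  α_ker : ∀ g, α g = 0 ↔ g ∈ Subgroup.center P
  α_surj : ∀ u : F, ∃ g, α g = u
  χ_surj : ∀ u : F, u ≠ 0 → ∃ k, χ k = u
  α_χ : ∀ (k : K) (g : P), α ((k : MulAut P) g) = χ k * α g

/-- automorphisms act on the central quotient -/
def quotAut (e : MulAut P) : P ⧸ Subgroup.center P →* P ⧸ Subgroup.center P :=
  QuotientGroup.map (Subgroup.center P) (Subgroup.center P) e.toMonoidHom
    (le_of_eq ((inferInstance : (Subgroup.center P).Characteristic).fixed e).symm)

theorem quotAut_mk (e : MulAut P) (g : P) :
    quotAut e (QuotientGroup.mk g) = QuotientGroup.mk (e g) := rfl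

theorem quotAut_one (q : P ⧸ Subgroup.center P) : quotAut (1 : MulAut P) q = q := by
  induction q using QuotientGroup.induction_on with
  | H x => rfl

theorem quotAut_mul (e e' : MulAut P) (q : P ⧸ Subgroup.center P) :
    quotAut (e * e') q = quotAut e (quotAut e' q) := by
  induction q using QuotientGroup.induction_on with
  | H x => rfl

namespace Hyp

variable (h : Hyp K)
include h

theorem card_quot (hcard : Nat.card P = Nat.card (Subgroup.center P) ^ 2) :
    Nat.card (P ⧸ Subgroup.center P) = Nat.card (Subgroup.center P) := by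
  haveI := h.fin
  have hmul := Subgroup.card_eq_card_quotient_mul_card_subgroup (Subgroup.center P)
  rw [hcard, pow_two] at hmul
  have hpos : 0 < Nat.card (Subgroup.center P) := Nat.card_pos
  exact (Nat.eq_of_mul_eq_mul_right hpos hmul).symm

/-- the field structure on the central quotient -/
theorem exists_quot_field (hcard : Nat.card P = Nat.card (Subgroup.center P) ^ 2) :
    ∃ (F : Type u) (_ : Field F) (_ : Fintype F) (_ : CharP F 2) (α : P → F) (χ : K → F),
      Fintype.card F = Nat.card (Subgroup.center P) ∧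
      (∀ g g', α (g * g') = α g + α g') ∧ (∀ g, α g = 0 ↔ g ∈ Subgroup.center P) ∧
      (∀ u : F, ∃ g, α g = u) ∧ (∀ u : F, u ≠ 0 → ∃ k, χ k = u) ∧
      (∀ (k : K) (g : P), α ((k : MulAut P) g) = χ k * α g) := by
  classical
  haveI := h.fin
  haveI := h.finite_K
  have c := h.toCT
  letI : CommGroup (P ⧸ Subgroup.center P) :=
    { (inferInstance : Group (P ⧸ Subgroup.center P)) with mul_comm := c.quot_comm }
  let act : K → Additive (P ⧸ Subgroup.center P) → Additive (P ⧸ Subgroup.center P) :=
    fun k v => Additive.ofMul (quotAut (k : MulAut P) v.toMul)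
  have hadd : ∀ k a b, act k (a + b) = act k a + act k b := by
    intro k a b
    exact congrArg Additive.ofMul (map_mul (quotAut (k : MulAut P)) a.toMul b.toMul)
  have hone : ∀ a, act 1 a = a := by
    intro a
    show Additive.ofMul (quotAut ((1 : K) : MulAut P) a.toMul) = a
    rw [Subgroup.coe_one, quotAut_one]
    rfl
  have hmul : ∀ k k' a, act (k * k') a = act k (act k' a) := by
    intro k k' a
    show Additive.ofMul (quotAut ((k * k' : K) : MulAut P) a.toMul) = _
    rw [Subgroup.coe_mul, quotAut_mul]
    rfl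
  have hfin : Finite (Additive (P ⧸ Subgroup.center P)) :=
    Finite.of_equiv _ (Additive.ofMul (α := P ⧸ Subgroup.center P))
  have htwo : ∀ v : Additive (P ⧸ Subgroup.center P), v + v = 0 :=
    fun v => congrArg Additive.ofMul (c.quot_sq v.toMul)
  have hnz : ∃ v : Additive (P ⧸ Subgroup.center P), v ≠ 0 := by
    obtain ⟨x, y, hxy⟩ := h.nonab
    refine ⟨Additive.ofMul (QuotientGroup.mk x), fun h0 => hxy ?_⟩
    have h1 : (QuotientGroup.mk x : P ⧸ Subgroup.center P) = 1 := congrArg Additive.toMul h0
    exact central_comm ((QuotientGroup.eq_one_iff x).1 h1) y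
  -- freeness
  have hfree : ∀ (k : K) (v : Additive (P ⧸ Subgroup.center P)), k ≠ 1 → act k v = v → v = 0 := by
    intro k v hk hv
    have h1 : quotAut (k : MulAut P) v.toMul = v.toMul := congrArg Additive.toMul hv
    suffices hs : v.toMul = 1 from congrArg Additive.ofMul hs
    revert h1
    induction v.toMul using QuotientGroup.induction_on with
    | H x =>
      intro h1
      rw [quotAut_mk] at h1
      have h2 : x⁻¹ * (k : MulAut P) x ∈ Subgroup.center P := QuotientGroup.eq.1 h1.symm
      have h3 := h.mem_of_inv_mul_mem (Subgroup.center P)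
        (fun k x hx => h.mem_center_of_aut k hx) hk h2
      exact (QuotientGroup.eq_one_iff x).2 h3
  have hinj : ∀ (k k' : K) (v : Additive (P ⧸ Subgroup.center P)), v ≠ 0 →
      act k v = act k' v → k = k' := by
    intro k k' v hv hkk'
    by_contra hne
    apply hv
    apply hfree (k'⁻¹ * k) v
    · intro h0
      apply hne
      have := congrArg (fun t => k' * t) h0
      simpa using this
    · rw [hmul, hkk', ← hmul, inv_mul_cancel, hone]
  have hact0 : ∀ (k : K) (v : Additive (P ⧸ Subgroup.center P)), v ≠ 0 → act k v ≠ 0 := by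
    intro k v hv h0
    apply hv
    have h1 : act k⁻¹ (act k v) = v := by rw [← hmul, inv_mul_cancel, hone]
    rw [h0] at h1
    rw [← h1]
    have := hadd k⁻¹ 0 0
    rw [add_zero] at this
    exact left_eq_add.1 this
  have hcV : Nat.card (Additive (P ⧸ Subgroup.center P)) = Nat.card (Subgroup.center P) := by
    rw [Nat.card_congr (Additive.toMul (α := P ⧸ Subgroup.center P))]
    exact h.card_quot hcard
  have hreg : ∀ v w : Additive (P ⧸ Subgroup.center P), v ≠ 0 → w ≠ 0 →
      ∃! k : K, act k v = w := by
    intro v w hv hw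
    let f : K → {w : Additive (P ⧸ Subgroup.center P) // w ≠ 0} :=
      fun k => ⟨act k v, hact0 k v hv⟩
    have hf : Function.Injective f := by
      intro k k' hk
      exact hinj k k' v hv (congrArg Subtype.val hk)
    letI : Fintype (Additive (P ⧸ Subgroup.center P)) := Fintype.ofFinite _
    have hcard2 : Nat.card K = Nat.card {w : Additive (P ⧸ Subgroup.center P) // w ≠ 0} := by
      have h1 : Nat.card {w : Additive (P ⧸ Subgroup.center P) // w ≠ 0} =
          Fintype.card (Additive (P ⧸ Subgroup.center P)) - 1 := by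
        rw [Nat.card_eq_fintype_card]
        exact Set.card_ne_eq (0 : Additive (P ⧸ Subgroup.center P))
      rw [h1, ← Nat.card_eq_fintype_card, hcV, ← h.card_K]
      omega
    have hbij : Function.Bijective f :=
      (Nat.bijective_iff_injective_and_card f).2 ⟨hf, hcard2⟩
    obtain ⟨k, hk⟩ := hbij.2 ⟨w, hw⟩
    refine ⟨k, congrArg Subtype.val hk, ?_⟩
    intro k' hk'
    exact hinj k' k v hv (hk'.trans (congrArg Subtype.val hk).symm)
  obtain ⟨F, i1, i2, i3, e, χ, he_add, he_bij, _, _, hχ_surj, _, _, he_act⟩ :=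
    exists_field_of_fun act hadd hone hmul hfin htwo h.comm hnz hreg
  have he0 : e 0 = 0 := by
    have := he_add 0 0
    rw [add_zero] at this
    exact left_eq_add.1 this
  refine ⟨F, i1, i2, i3, fun g => e (Additive.ofMul (QuotientGroup.mk g)), χ, ?_, ?_, ?_, ?_,
    hχ_surj, ?_⟩
  · rw [← Nat.card_eq_fintype_card, ← hcV]
    exact (Nat.card_eq_of_bijective e he_bij).symm
  · intro g g'
    show e (Additive.ofMul (QuotientGroup.mk (g * g'))) = _
    rw [QuotientGroup.mk_mul]
    exact he_add _ _
  · intro g
    constructor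
    · intro hg
      have h1 : (Additive.ofMul (QuotientGroup.mk g) : Additive (P ⧸ Subgroup.center P)) = 0 :=
        he_bij.1 (hg.trans he0.symm)
      have h2 : (QuotientGroup.mk g : P ⧸ Subgroup.center P) = 1 := congrArg Additive.toMul h1
      exact (QuotientGroup.eq_one_iff g).1 h2
    · intro hg
      have h2 : (QuotientGroup.mk g : P ⧸ Subgroup.center P) = 1 := (QuotientGroup.eq_one_iff g).2 hg
      show e (Additive.ofMul (QuotientGroup.mk g)) = 0
      rw [h2]
      exact he0
  · intro u
    obtain ⟨v, hv⟩ := he_bij.2 u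
    obtain ⟨g, hg⟩ := QuotientGroup.mk_surjective v.toMul
    refine ⟨g, ?_⟩
    show e (Additive.ofMul (QuotientGroup.mk g)) = u
    rw [hg]
    exact hv
  · intro k g
    exact he_act k (Additive.ofMul (QuotientGroup.mk g))

/-- coordinates in a finite field `F : Type` -/
theorem exists_AD (hcard : Nat.card P = Nat.card (Subgroup.center P) ^ 2) :
    ∃ (F : Type) (_ : Field F) (_ : Fintype F) (_ : CharP F 2),
      Fintype.card F = Nat.card (Subgroup.center P) ∧ Nonempty (AD K F) := by
  classical
  obtain ⟨F₁, i1, i2, i3, zv, κ, h1, h2, h3, h4, h5, h6, h7, h8, h9⟩ := h.exists_field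
  obtain ⟨F₂, j1, j2, j3, α, χ, hc2, ha1, ha2, ha3, ha4, ha5⟩ := h.exists_quot_field hcard
  have hzv_eq : ∀ a b, a ∈ Subgroup.center P → b ∈ Subgroup.center P → zv a = zv b → a = b := by
    intro a b ha hb hab
    have e1 : zv (a * b) = 0 := by
      rw [h1 a b ha hb, hab, CharTwo.add_self_eq_zero]
    have e2 := h2 _ (Subgroup.mul_mem _ ha hb) e1
    rw [eq_inv_of_mul_eq_one_left e2, h.inv_of_mem hb]
  have hc1 : Fintype.card F₁ = Nat.card (Subgroup.center P) := by
    rw [← Nat.card_eq_fintype_card]
    symm
    apply Nat.card_eq_of_bijective (fun z : Subgroup.center P => zv (z : P))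
    constructor
    · intro a b hab
      exact Subtype.ext (hzv_eq _ _ a.2 b.2 hab)
    · intro u
      obtain ⟨a, ha, hau⟩ := h3 u
      exact ⟨⟨a, ha⟩, hau⟩
  haveI : Small.{0} F₁ := inferInstance
  letI : Field (Shrink.{0} F₁) := inferInstance
  let ι₁ : F₁ ≃+* Shrink.{0} F₁ := (Shrink.ringEquiv F₁).symm
  letI : Fintype (Shrink.{0} F₁) := Fintype.ofEquiv F₁ (equivShrink F₁)
  have hc0 : Fintype.card (Shrink.{0} F₁) = Fintype.card F₁ :=
    Fintype.card_congr (equivShrink F₁).symm
  haveI : CharP (Shrink.{0} F₁) 2 :=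
    charP_of_injective_ringHom (f := (ι₁ : F₁ →+* Shrink.{0} F₁)) ι₁.injective 2
  let ι₂ : F₂ ≃+* Shrink.{0} F₁ :=
    FiniteField.ringEquivOfCardEq (by rw [hc2, hc0, hc1])
  refine ⟨Shrink.{0} F₁, inferInstance, inferInstance, inferInstance, by rw [hc0, hc1], ⟨?_⟩⟩
  exact
    { zv := fun x => ι₁ (zv x)
      κ := fun k => ι₁ (κ k)
      α := fun x => ι₂ (α x)
      χ := fun k => ι₂ (χ k)
      zv_mul := by
        intro a b ha hb
        rw [h1 a b ha hb, map_add]
      zv_inj := by
        intro a ha h0
        exact h2 a ha ((map_eq_zero_iff ι₁ ι₁.injective).1 h0)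
      κ_mul := by
        intro k k'
        rw [h4, map_mul]
      κ_ne := by
        intro k h0
        exact h5 k ((map_eq_zero_iff ι₁ ι₁.injective).1 h0)
      κ_one := by rw [h7, map_one]
      κ_inj := by
        intro k hk
        apply h8
        apply ι₁.injective
        rw [hk, map_one]
      zv_κ := by
        intro k a ha
        rw [h9 k a ha, map_mul]
      α_mul := by
        intro g g'
        rw [ha1, map_add]
      α_ker := by
        intro g
        rw [← ha2 g]
        exact map_eq_zero_iff ι₂ ι₂.injective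
      α_surj := by
        intro u
        obtain ⟨g, hg⟩ := ha3 (ι₂.symm u)
        exact ⟨g, by rw [hg, RingEquiv.apply_symm_apply]⟩
      χ_surj := by
        intro u hu
        have hu' : ι₂.symm u ≠ 0 := fun h0 => hu ((map_eq_zero_iff ι₂.symm ι₂.symm.injective).1 h0)
        obtain ⟨k, hk⟩ := ha4 (ι₂.symm u) hu'
        exact ⟨k, by rw [hk, RingEquiv.apply_symm_apply]⟩
      α_χ := by
        intro k g
        rw [ha5, map_mul] }

end Hyp

end Cfsg.Agent.Lib.H26.Sz
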