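import Mathlib
import Cfsg.Prelude.Def_LieRecognition
import Cfsg.Agent.Lib.H26.SzABeta

set_option autoImplicit false
set_option linter.style.haveILetI false
set_option linter.unusedSectionVars false

/-!
Suzuki 2-groups of order `|Z|²` (helper26): the matrix group of type A and the final isomorphism.
-/

namespace Cfsg.Agent.Lib.H26.Sz

open Cfsg.Agent.Lib.H24.SuzukiTwo (cm)

universe u w

variable {F : Type w} [Field F] [CharP F 2]

/-- the matrix with rows `(1,0,0)`, `(x,1,0)`, `(y, θ x, 1)` -/
def matA (θ : F →+* F) (x y : F) : Matrix (Fin 3) (Fin 3) F := !![1, 0, 0; x, 1, 0; y, θ x, 1]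

omit [CharP F 2] in
theorem matA_mul (θ : F →+* F) (x y x' y' : F) :
    matA θ x y * matA θ x' y' = matA θ (x + x') (y + y' + θ x * x') := by
  unfold matA
  ext i j
  fin_cases i <;> fin_cases j <;> simp [Matrix.mul_apply, Fin.sum_univ_three] <;> ring

omit [CharP F 2] in
theorem matA_zero (θ : F →+* F) : matA θ 0 0 = 1 := by
  unfold matA
  ext i j
  fin_cases i <;> fin_cases j <;> simp

theorem matA_mul_inv (θ : F →+* F) (x y : F) : matA θ x y * matA θ x (y + θ x * x) = 1 := by
  rw [matA_mul, ← matA_zero θ]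
  have h2 : (2 : F) = 0 := CharTwo.two_eq_zero
  congr 1
  · exact CharTwo.add_self_eq_zero x
  · linear_combination (y + θ x * x) * h2

theorem matA_inv_mul (θ : F →+* F) (x y : F) : matA θ x (y + θ x * x) * matA θ x y = 1 := by
  rw [matA_mul, ← matA_zero θ]
  have h2 : (2 : F) = 0 := CharTwo.two_eq_zero
  congr 1
  · exact CharTwo.add_self_eq_zero x
  · linear_combination (y + θ x * x) * h2

/-- the matrices as elements of `GL₃` -/
def glA (θ : F →+* F) (x y : F) : GL (Fin 3) F :=
  ⟨matA θ x y, matA θ x (y + θ x * x), matA_mul_inv θ x y, matA_inv_mul θ x y⟩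

theorem glA_val (θ : F →+* F) (x y : F) :
    ((glA θ x y : GL (Fin 3) F) : Matrix (Fin 3) (Fin 3) F) = matA θ x y := rfl

theorem glA_mul (θ : F →+* F) (x y x' y' : F) :
    glA θ x y * glA θ x' y' = glA θ (x + x') (y + y' + θ x * x') := by
  apply Units.ext
  exact matA_mul θ x y x' y'

omit [CharP F 2] in
theorem matA_inj (θ : F →+* F) {x y x' y' : F} (hm : matA θ x y = matA θ x' y') :
    x = x' ∧ y = y' := by
  have h1 := congrFun (congrFun hm 1) 0
  have h2 := congrFun (congrFun hm 2) 0
  simp [matA] at h1 h2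
  exact ⟨h1, h2⟩

variable {P : Type u} [Group P]

/-- the isomorphism with the matrix group of type A -/
theorem BD.exists_iso [Fintype F] {θ : F →+* F} {α zv : P → F} (d : BD θ α zv)
    (hzv_inj : ∀ a ∈ Subgroup.center P, zv a = 0 → a = 1)
    (hcard : Nat.card P = Fintype.card F ^ 2) :
    Nonempty (P ≃* Cfsg.suzukiTypeA F θ) := by
  classical
  obtain ⟨β, hβZ, hβ⟩ := d.exists_beta
  let Φ : P →* GL (Fin 3) F := MonoidHom.mk' (fun g => glA θ (α g) (β g)) (by
    intro g g'
    rw [glA_mul, d.α_mul, hβ])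
  have hpair_inj : Function.Injective (fun g : P => (α g, β g)) := by
    intro g g' hgg'
    have h1 : α g = α g' := congrArg Prod.fst hgg'
    have h2 : β g = β g' := congrArg Prod.snd hgg'
    have hz : g⁻¹ * g' ∈ Subgroup.center P := by
      rw [← d.α_ker, d.α_mul, d.α_inv, h1, CharTwo.add_self_eq_zero]
    have h3 := hβ g (g⁻¹ * g')
    rw [mul_inv_cancel_left, (d.α_ker _).2 hz, mul_zero, add_zero, h2] at h3
    have h4 : β (g⁻¹ * g') = 0 := left_eq_add.1 h3
    rw [hβZ _ hz] at h4
    have := hzv_inj _ hz h4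
    exact (inv_mul_eq_one.1 this)
  have hΦ_inj : Function.Injective Φ := by
    intro g g' hgg'
    apply hpair_inj
    have hm : matA θ (α g) (β g) = matA θ (α g') (β g') :=
      congrArg (fun u : GL (Fin 3) F => (u : Matrix (Fin 3) (Fin 3) F)) hgg'
    obtain ⟨h1, h2⟩ := matA_inj θ hm
    exact Prod.ext h1 h2
  have hpair_surj : Function.Surjective (fun g : P => (α g, β g)) := by
    apply ((Nat.bijective_iff_injective_and_card _).2 ⟨hpair_inj, ?_⟩).2
    rw [hcard, Nat.card_prod, Nat.card_eq_fintype_card, pow_two]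
  have hrange : Φ.range = Cfsg.suzukiTypeA F θ := by
    apply le_antisymm
    · rintro _ ⟨g, rfl⟩
      apply Subgroup.subset_closure
      exact ⟨α g, β g, rfl⟩
    · unfold Cfsg.suzukiTypeA
      rw [Subgroup.closure_le]
      rintro M ⟨x, y, hM⟩
      obtain ⟨g, hg⟩ := hpair_surj (x, y)
      refine ⟨g, ?_⟩
      apply Units.ext
      rw [hM]
      show matA θ (α g) (β g) = _
      have h1 : α g = x := congrArg Prod.fst hg
      have h2 : β g = y := congrArg Prod.snd hg
      rw [h1, h2]
      rfl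
  exact ⟨(MonoidHom.ofInjective hΦ_inj).trans (MulEquiv.subgroupCongr hrange)⟩

end Cfsg.Agent.Lib.H26.Sz
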