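import Mathlib

set_option autoImplicit false
set_option linter.style.haveILetI false

/-!
If `u ↦ u θ(u)` is injective on the nonzero elements of a finite field then the automorphism `θ`
has odd order (helper26; via Artin's theorem).
-/

namespace Cfsg.Agent.Lib.H26.Sz

universe w

theorem odd_orderOf_of_norm_injective {F : Type w} [Field F] [Fintype F] (θ : F ≃+* F)
    (hinj : ∀ u v : F, u ≠ 0 → v ≠ 0 → u * θ u = v * θ v → u = v) : Odd (orderOf θ) := by
  classical
  have step1 : ∀ c : F, θ (θ c) = c → θ c = c := by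
    intro c hc
    by_cases hc0 : c = 0
    · rw [hc0, map_zero]
    have hθc : θ c ≠ 0 := fun h0 => hc0 ((map_eq_zero_iff θ θ.injective).1 h0)
    have hd : c * (θ c)⁻¹ ≠ 0 := mul_ne_zero hc0 (inv_ne_zero hθc)
    have h1 : c * (θ c)⁻¹ * θ (c * (θ c)⁻¹) = 1 * θ 1 := by
      rw [map_mul, map_inv₀, hc, map_one, mul_one]
      field_simp
    have h2 := hinj _ _ hd one_ne_zero h1
    have h3 : c = θ c := by
      field_simp at h2
      exact h2
    exact h3.symm
  haveI : Finite (F ≃+* F) :=
    Finite.of_injective (fun σ : F ≃+* F => (σ : F → F)) DFunLike.coe_injective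
  let G : Subgroup (F ≃+* F) := Subgroup.zpowers (θ ^ 2)
  have hbij := FixedPoints.toAlgHom_bijective G F
  let f : F →ₐ[FixedPoints.subfield G F] F :=
    { (θ : F →+* F) with
      commutes' := by
        intro c
        have hc : (θ ^ 2) (c : F) = c := c.2 ⟨θ ^ 2, Subgroup.mem_zpowers _⟩
        exact step1 c (by simpa [pow_two] using hc) }
  obtain ⟨g, hg⟩ := hbij.2 f
  have hgθ : (g : F ≃+* F) = θ := by
    ext x
    have := DFunLike.congr_fun hg x
    exact this
  obtain ⟨j, hj⟩ := Subgroup.mem_zpowers_iff.1 g.2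
  rw [hgθ] at hj
  have h4 : θ ^ (2 * j - 1) = 1 := by
    rw [zpow_sub, zpow_mul, zpow_one]
    have : (θ ^ (2:ℤ)) = θ ^ 2 := by norm_cast
    rw [this, hj]
    exact mul_inv_cancel θ
  have h5 := orderOf_dvd_iff_zpow_eq_one.2 h4
  by_contra hodd
  rw [Nat.not_odd_iff_even] at hodd
  have h6 : (2 : ℤ) ∣ (orderOf θ : ℤ) := by
    have := even_iff_two_dvd.1 hodd
    exact_mod_cast this
  obtain ⟨t, ht⟩ := dvd_trans h6 h5
  omega

end Cfsg.Agent.Lib.H26.Sz
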