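import Mathlib
import Cfsg.Agent.Lib.H26.SzACoord
import Cfsg.Agent.Lib.H26.SzAlgA
import Cfsg.Agent.Lib.H6.FieldAut

set_option autoImplicit false
set_option linter.style.haveILetI false
set_option linter.unusedSectionVars false

/-!
Suzuki 2-groups of order `|Z|²` (helper26): the squaring map in coordinates is
`x ↦ s · σ₀(x) τ₀(x)` for two distinct field automorphisms.
-/

namespace Cfsg.Agent.Lib.H26.Sz

open Cfsg.Agent.Lib.H24.SuzukiTwo (cm)
open Cfsg.Agent.Lib.H6.FieldAut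

universe u w

variable {P : Type u} [Group P] {K : Subgroup (MulAut P)}

/-- independence of the products `σ x · τ y` -/
theorem indep₂ {F : Type w} [Field F] [Fintype F] [CharP F 2]
    (d : (F ≃+* F) × (F ≃+* F) → F)
    (hd : ∀ x y : F, ∑ p : (F ≃+* F) × (F ≃+* F), d p * (p.1 x * p.2 y) = 0) : d = 0 := by
  have h1 : ∀ (y : F) (σ : F ≃+* F), ∑ τ : F ≃+* F, d (σ, τ) * τ y = 0 := by
    intro y
    have hc : comb (fun σ : F ≃+* F => ∑ τ : F ≃+* F, d (σ, τ) * τ y) = 0 := by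
      refine AddMonoidHom.ext (fun x => ?_)
      rw [comb_apply, AddMonoidHom.zero_apply, ← hd x y, Fintype.sum_prod_type]
      apply Finset.sum_congr rfl
      intro σ _
      rw [Finset.sum_mul]
      apply Finset.sum_congr rfl
      intro τ _
      ring
    intro σ
    exact congrFun (comb_eq_zero hc) σ
  funext p
  obtain ⟨σ, τ⟩ := p
  have hc : comb (fun τ : F ≃+* F => d (σ, τ)) = 0 := by
    refine AddMonoidHom.ext (fun y => ?_)
    rw [comb_apply]
    exact h1 y σ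
  exact congrFun (comb_eq_zero hc) τ

namespace AD

variable {F : Type w} [Field F] [Fintype F] [CharP F 2] (ad : AD K F) (h : Hyp K)

theorem α_one : ad.α 1 = 0 := (ad.α_ker 1).2 (Subgroup.one_mem _)

theorem α_inv (g : P) : ad.α g⁻¹ = ad.α g := by
  have := ad.α_mul g g⁻¹
  rw [mul_inv_cancel, ad.α_one] at this
  have h2 : ad.α g + ad.α g = 0 := CharTwo.add_self_eq_zero _
  rw [← h2] at this
  exact (add_left_cancel this).symm

theorem α_eq {g g' : P} (hgg' : ad.α g = ad.α g') : g⁻¹ * g' ∈ Subgroup.center P := by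
  rw [← ad.α_ker, ad.α_mul, ad.α_inv, hgg', CharTwo.add_self_eq_zero]

/-- a section of `α` -/
noncomputable def sec (u : F) : P := Classical.choose (ad.α_surj u)

theorem α_sec (u : F) : ad.α (ad.sec u) = u := Classical.choose_spec (ad.α_surj u)

theorem exists_central (g : P) : ∃ z ∈ Subgroup.center P, g = ad.sec (ad.α g) * z :=
  ⟨(ad.sec (ad.α g))⁻¹ * g, ad.α_eq (ad.α_sec _), by group⟩

theorem zv_one : ad.zv 1 = 0 := by
  have := ad.zv_mul 1 1 (Subgroup.one_mem _) (Subgroup.one_mem _)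
  rw [mul_one] at this
  exact left_eq_add.1 this

/-- the commutator form -/
noncomputable def Bfun (u v : F) : F := ad.zv (cm (ad.sec u) (ad.sec v))

theorem zv_cm (g g' : P) : ad.zv (cm g g') = ad.Bfun (ad.α g) (ad.α g') := by
  obtain ⟨z, hz, hg⟩ := ad.exists_central g
  obtain ⟨z', hz', hg'⟩ := ad.exists_central g'
  unfold Bfun
  conv_lhs => rw [hg, hg', cm_central_mul_left hz, cm_central_mul_right hz']

include h in
theorem Bfun_add_left (u u' v : F) : ad.Bfun (u + u') v = ad.Bfun u v + ad.Bfun u' v := by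
  have h1 := ad.zv_cm (ad.sec u * ad.sec u') (ad.sec v)
  rw [ad.α_mul, ad.α_sec, ad.α_sec, ad.α_sec] at h1
  rw [← h1, cm_mul_left_of_mem (h.cm_mem_center _ _),
    ad.zv_mul _ _ (h.cm_mem_center _ _) (h.cm_mem_center _ _)]
  rfl

include h in
theorem Bfun_add_right (u v v' : F) : ad.Bfun u (v + v') = ad.Bfun u v + ad.Bfun u v' := by
  have h1 := ad.zv_cm (ad.sec u) (ad.sec v * ad.sec v')
  rw [ad.α_mul, ad.α_sec, ad.α_sec, ad.α_sec] at h1
  rw [← h1, cm_mul_right_of_mem (h.cm_mem_center _ _),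
    ad.zv_mul _ _ (h.cm_mem_center _ _) (h.cm_mem_center _ _)]
  rfl

/-- the commutator form, bundled -/
noncomputable def B : F →+ F →+ F :=
  AddMonoidHom.mk' (fun u => AddMonoidHom.mk' (ad.Bfun u) (ad.Bfun_add_right h u))
    (fun u u' => AddMonoidHom.ext (fun v => ad.Bfun_add_left h u u' v))

theorem B_apply (u v : F) : ad.B h u v = ad.Bfun u v := rfl

/-- the squaring form -/
noncomputable def S (u : F) : F := ad.zv (ad.sec u * ad.sec u)

include h in
theorem zv_sq (g : P) : ad.zv (g * g) = ad.S (ad.α g) := by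
  obtain ⟨z, hz, hg⟩ := ad.exists_central g
  unfold S
  conv_lhs => rw [hg, h.toCT.sq_mul_central _ hz]

include h in
theorem S_add (u v : F) : ad.S (u + v) = ad.S u + ad.S v + ad.Bfun v u := by
  have h1 := ad.zv_sq h (ad.sec u * ad.sec v)
  rw [ad.α_mul, ad.α_sec, ad.α_sec] at h1
  rw [← h1, h.toCT.sq_mul_eq,
    ad.zv_mul _ _ (Subgroup.mul_mem _ (h.sq_mem_center _) (h.sq_mem_center _))
      (h.cm_mem_center _ _),
    ad.zv_mul _ _ (h.sq_mem_center _) (h.sq_mem_center _)]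
  rfl

include h in
theorem Bfun_equiv (k : K) (u v : F) :
    ad.Bfun (ad.χ k * u) (ad.χ k * v) = ad.κ k * ad.Bfun u v := by
  have h1 := ad.zv_cm ((k : MulAut P) (ad.sec u)) ((k : MulAut P) (ad.sec v))
  rw [ad.α_χ, ad.α_χ, ad.α_sec, ad.α_sec, cm_aut, ad.zv_κ k _ (h.cm_mem_center _ _)] at h1
  rw [← h1]
  rfl

include h in
theorem S_equiv (k : K) (u : F) : ad.S (ad.χ k * u) = ad.κ k * ad.S u := by
  have h1 := ad.zv_sq h ((k : MulAut P) (ad.sec u))
  rw [ad.α_χ, ad.α_sec, ← map_mul, ad.zv_κ k _ (h.sq_mem_center _)] at h1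
  rw [← h1]
  rfl

include h in
theorem S_eq_zero {u : F} (hu : ad.S u = 0) : u = 0 := by
  have h1 := ad.zv_inj _ (h.sq_mem_center _) hu
  have h2 := (h.hZ _).1 h1
  rw [← ad.α_sec u]
  exact (ad.α_ker _).2 h2

include h in
theorem Bfun_ne_zero : ∃ u v : F, ad.Bfun u v ≠ 0 := by
  obtain ⟨x, y, hxy⟩ := h.nonab
  refine ⟨ad.α x, ad.α y, fun h0 => hxy ?_⟩
  rw [← ad.zv_cm] at h0
  exact (cm_eq_one_iff x y).1 (ad.zv_inj _ (h.cm_mem_center _ _) h0)

include h in
/-- the key pair of automorphisms -/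
theorem exists_pair : ∃ σ₀ τ₀ : F ≃+* F, ∀ k : K, ad.κ k = σ₀ (ad.χ k) * τ₀ (ad.χ k) := by
  classical
  obtain ⟨s, c, hc⟩ := exists_comb₂ (ad.B h)
  let c' : (F ≃+* F) × (F ≃+* F) → F := fun p => if p ∈ s then c p else 0
  have hB : ∀ x y : F, ad.Bfun x y = ∑ p, c' p * (p.1 x * p.2 y) := by
    intro x y
    rw [← ad.B_apply h, hc x y, ← Finset.sum_subset (Finset.subset_univ s)]
    · apply Finset.sum_congr rfl
      intro p hp
      simp only [c', if_pos hp]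
    · intro p _ hp
      simp only [c', if_neg hp, zero_mul]
  have hc'0 : ∃ p₀, c' p₀ ≠ 0 := by
    by_contra hall
    push Not at hall
    obtain ⟨u, v, huv⟩ := ad.Bfun_ne_zero h
    apply huv
    rw [hB]
    apply Finset.sum_eq_zero
    intro p _
    rw [hall p, zero_mul]
  obtain ⟨p₀, hp₀⟩ := hc'0
  refine ⟨p₀.1, p₀.2, fun k => ?_⟩
  have hd : ∀ x y : F, ∑ p : (F ≃+* F) × (F ≃+* F),
      (c' p * (p.1 (ad.χ k) * p.2 (ad.χ k)) - ad.κ k * c' p) * (p.1 x * p.2 y) = 0 := by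
    intro x y
    have h1 := ad.Bfun_equiv h k x y
    rw [hB, hB, Finset.mul_sum] at h1
    rw [← sub_eq_zero, ← Finset.sum_sub_distrib] at h1
    rw [← h1]
    apply Finset.sum_congr rfl
    intro p _
    rw [map_mul, map_mul]
    ring
  have h2 := congrFun (indep₂ _ hd) p₀
  simp only [Pi.zero_apply] at h2
  have h3 : c' p₀ * (p₀.1 (ad.χ k) * p₀.2 (ad.χ k) - ad.κ k) = 0 := by
    rw [← h2]; ring
  rcases mul_eq_zero.1 h3 with h4 | h4
  · exact absurd h4 hp₀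
  · exact (sub_eq_zero.1 h4).symm

theorem κ_injective {k k' : K} (hkk' : ad.κ k = ad.κ k') : k = k' := by
  have h1 : ad.κ (k'⁻¹) * ad.κ k' = 1 := by rw [← ad.κ_mul, inv_mul_cancel, ad.κ_one]
  have h2 : ad.κ (k'⁻¹ * k) = 1 := by rw [ad.κ_mul, hkk', h1]
  have h3 := ad.κ_inj _ h2
  have := congrArg (fun t => k' * t) h3
  simpa using this

theorem S_zero : ad.S 0 = 0 := by
  unfold S
  have h1 : ad.sec 0 ∈ Subgroup.center P := (ad.α_ker _).1 (ad.α_sec 0)
  have h2 : ad.zv (ad.sec 0 * ad.sec 0) = ad.zv (ad.sec 0) + ad.zv (ad.sec 0) :=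
    ad.zv_mul _ _ h1 h1
  rw [h2, CharTwo.add_self_eq_zero]

include ad h in
/-- normalized coordinates: the squaring map is `x ↦ x θ(x)` -/
theorem exists_norm : ∃ (θ : F ≃+* F) (α' zv' : P → F), θ ≠ RingEquiv.refl F ∧
    (∀ g g', α' (g * g') = α' g + α' g') ∧ (∀ g, α' g = 0 ↔ g ∈ Subgroup.center P) ∧
    (∀ u : F, ∃ g, α' g = u) ∧
    (∀ a b, a ∈ Subgroup.center P → b ∈ Subgroup.center P → zv' (a * b) = zv' a + zv' b) ∧
    (∀ a ∈ Subgroup.center P, zv' a = 0 → a = 1) ∧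
    (∀ g, zv' (g * g) = α' g * θ (α' g)) ∧
    (∀ u v : F, u ≠ 0 → v ≠ 0 → u * θ u = v * θ v → u = v) := by
  obtain ⟨σ₀, τ₀, hpair⟩ := ad.exists_pair h
  have hs₁0 : ad.S 1 ≠ 0 := fun h0 => one_ne_zero (ad.S_eq_zero h h0)
  have hS : ∀ u, ad.S u = ad.S 1 * (σ₀ u * τ₀ u) := by
    intro u
    by_cases hu : u = 0
    · subst hu
      rw [ad.S_zero, map_zero, zero_mul, mul_zero]
    · obtain ⟨k, hk⟩ := ad.χ_surj u hu
      have h1 := ad.S_equiv h k 1
      rw [mul_one, hk] at h1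
      rw [h1, hpair k, hk]
      ring
  have hne : σ₀ ≠ τ₀ := by
    intro heq
    obtain ⟨u, v, huv⟩ := ad.Bfun_ne_zero h
    apply huv
    have h1 := ad.S_add h v u
    rw [hS, hS u, hS v, ← heq, map_add] at h1
    have h2 : (2 : F) = 0 := CharTwo.two_eq_zero
    linear_combination (-1 : F) * h1 + (ad.S 1 * σ₀ v * σ₀ u) * h2
  refine ⟨σ₀.symm.trans τ₀, fun g => σ₀ (ad.α g), fun x => (ad.S 1)⁻¹ * ad.zv x, ?_, ?_, ?_, ?_, ?_,
    ?_, ?_, ?_⟩
  · intro heq
    apply hne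
    ext y
    have := DFunLike.congr_fun heq (σ₀ y)
    simpa using this.symm
  · intro g g'
    show σ₀ (ad.α (g * g')) = σ₀ (ad.α g) + σ₀ (ad.α g')
    rw [ad.α_mul, map_add]
  · intro g
    show σ₀ (ad.α g) = 0 ↔ _
    rw [← ad.α_ker g]
    exact map_eq_zero_iff σ₀ σ₀.injective
  · intro u
    obtain ⟨g, hg⟩ := ad.α_surj (σ₀.symm u)
    exact ⟨g, by show σ₀ (ad.α g) = u; rw [hg, RingEquiv.apply_symm_apply]⟩
  · intro a b ha hb
    show (ad.S 1)⁻¹ * ad.zv (a * b) = (ad.S 1)⁻¹ * ad.zv a + (ad.S 1)⁻¹ * ad.zv b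
    rw [ad.zv_mul a b ha hb, mul_add]
  · intro a ha h0
    rcases mul_eq_zero.1 h0 with h1 | h1
    · exact absurd (inv_eq_zero.1 h1) hs₁0
    · exact ad.zv_inj a ha h1
  · intro g
    show (ad.S 1)⁻¹ * ad.zv (g * g) = σ₀ (ad.α g) * (σ₀.symm.trans τ₀) (σ₀ (ad.α g))
    rw [ad.zv_sq h, hS (ad.α g), inv_mul_cancel_left₀ hs₁0]
    simp
  · intro u v hu hv huv
    have hu' : σ₀.symm u ≠ 0 := fun h0 => hu ((map_eq_zero_iff σ₀.symm σ₀.symm.injective).1 h0)
    have hv' : σ₀.symm v ≠ 0 := fun h0 => hv ((map_eq_zero_iff σ₀.symm σ₀.symm.injective).1 h0)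
    obtain ⟨k, hk⟩ := ad.χ_surj _ hu'
    obtain ⟨k', hk'⟩ := ad.χ_surj _ hv'
    have h1 : ad.κ k = u * (σ₀.symm.trans τ₀) u := by
      rw [hpair k, hk]; simp
    have h2 : ad.κ k' = v * (σ₀.symm.trans τ₀) v := by
      rw [hpair k', hk']; simp
    have h3 : k = k' := ad.κ_injective (by rw [h1, h2, huv])
    rw [h3, hk'] at hk
    exact σ₀.symm.injective hk.symm

end AD

end Cfsg.Agent.Lib.H26.Sz
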