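import Mathlib
import Cfsg.Agent.Lib.H26.SzGrpD
import Cfsg.Agent.Lib.H26.Stability
import Cfsg.Agent.Lib.H26.EssentialAut
import Cfsg.Agent.Lib.H25.Normal

set_option autoImplicit false
set_option linter.style.haveILetI false

/-!
Suzuki 2-groups are resistant: a Suzuki 2-group is normal in every saturated fusion system on it
(helper26).  The centre `Z = Ω₁` is characteristic in every centric subgroup `E`, and `S` acts
trivially on `Z` and on `E / Z` (class two), so `Aut_S(E)` lies in a normal 2-subgroup of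
`Aut_F(E)`; hence there are no essential subgroups.
-/

namespace Cfsg.Agent.Lib.H26.Sz

open Cfsg Cfsg.FusionSystem Cfsg.Agent.Lib.H25 Cfsg.Agent.Lib.H26
open Cfsg.Agent.Lib.H24.SuzukiTwo (cm)

variable {Ω : Type*} [Group Ω] {S : Subgroup Ω}

theorem suzuki_isNormal [Finite S] (hS : IsPGroup 2 S) (F : FusionSystem S)
    (hF : F.IsSaturated 2) (hsz : Cfsg.IsSuzukiTwoGroup ↥S) : F.IsNormal S := by
  haveI : Fact (Nat.Prime 2) := ⟨Nat.prime_two⟩
  obtain ⟨K, h⟩ := hyp_of_suzuki hsz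
  apply isNormal_of_essential hS hF
  rintro T (rfl | hess)
  · exact ⟨le_rfl, fun α _ x _ => (α x).2⟩
  exfalso
  set Z : Subgroup Ω := (Subgroup.center ↥S).map S.subtype with hZdef
  have hTS : T ≤ S := hess.1.1
  have hZS : Z ≤ S := by
    rintro _ ⟨z, -, rfl⟩
    exact z.2
  have memZ : ∀ y : Ω, ∀ hy : y ∈ S, y * y = 1 → y ∈ Z := by
    intro y hy hyy
    refine ⟨⟨y, hy⟩, (h.hZ _).1 (Subtype.ext hyy), rfl⟩
  have sqZ : ∀ y ∈ Z, y * y = 1 := by
    rintro _ ⟨z, hz, rfl⟩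
    exact congrArg Subtype.val ((h.hZ z).2 hz)
  have commZ : ∀ y ∈ Z, ∀ s ∈ S, s * y = y * s := by
    rintro _ ⟨z, hz, rfl⟩ s hs
    exact congrArg Subtype.val (Subgroup.mem_center_iff.1 hz ⟨s, hs⟩)
  have hZT : Z ≤ T := by
    have hc := hess.1.2 T (isConj_refl F hTS)
    intro z hz
    apply hc
    refine ⟨hZS hz, ?_⟩
    show z ∈ Subgroup.centralizer (T : Set Ω)
    rw [Subgroup.mem_centralizer_iff]
    intro t ht
    exact commZ z hz t (hTS ht)
  have hinv : ∀ γ ∈ F.autGroup T, ∀ x : T, (x : Ω) ∈ Z → ((γ x : T) : Ω) ∈ Z := by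
    intro γ _ x hx
    apply memZ _ (hTS (γ x).2)
    have h1 : x * x = 1 := Subtype.ext (sqZ _ hx)
    have h2 : γ x * γ x = 1 := by rw [← map_mul, h1, map_one]
    exact congrArg Subtype.val h2
  haveI : Finite Z := finite_of_le S hZS
  have hZ2 : IsPGroup 2 Z := by
    rw [hZdef]
    exact (hS.to_subgroup _).map _
  refine not_essential_of_normal_pgroup hS hF hess (stabChain F T Z) (stabChain_le F T Z)
    (stabChain_normal F hZT hinv) (stabChain_isPGroup F hZT hZ2) ?_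
  intro α hα
  obtain ⟨g, hg, hαg⟩ := (mem_autInducedBy_iff S T α).1 hα
  refine ⟨autInducedBy_le_autGroup F hTS hα, fun x => ?_, fun x hx => ?_⟩
  · rw [hαg]
    have hc := h.cm_mem_center ⟨(x : Ω), hTS x.2⟩ ⟨g, hg⟩⁻¹
    refine ⟨_, hc, ?_⟩
    show ((cm (⟨(x : Ω), hTS x.2⟩ : S) (⟨g, hg⟩ : S)⁻¹ : S) : Ω) = _
    unfold cm
    simp [mul_assoc]
  · apply Subtype.ext
    rw [hαg, commZ _ hx g hg]
    group

end Cfsg.Agent.Lib.H26.Sz
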