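import Mathlib
import Cfsg.Agent.Lib.H7.T648Defs
import Cfsg.Agent.Lib.H7.T648Model
import Cfsg.Agent.Lib.H26.T648MODJ

/-!
# S3702 piece CNT: the class-multiplication count on `J648` only depends on the linear parts
-/

set_option autoImplicit false

namespace Cfsg.Agent.Lib.H26.T648

open Cfsg Cfsg.Agent.Lib.H7.T648

theorem card_vec : Fintype.card (Fin 3 → ZMod 3) = 27 := by
  simp only [Fintype.card_pi, ZMod.card, Finset.prod_const, Finset.card_univ, Fintype.card_fin]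
  rfl

/-- the local indicator -/
def lind (w1 w2 w : Fin 3 → ZMod 3) (l1 l2 : ℤˣ × ℤˣ × Equiv.Perm (Fin 3)) : ℕ :=
  if (lin l1.1 l1.2.1 l1.2.2).act w1 + (lin l2.1 l2.2.1 l2.2.2).act w2 = w then 1 else 0

theorem act_eq_lin (g : M648) (w : Fin 3 → ZMod 3) :
    g.act w = (lin (M648.equivProd g).2.1 (M648.equivProd g).2.2.1 (M648.equivProd g).2.2.2).act w :=
  rfl

theorem ind_eq (w1 w2 w : Fin 3 → ZMod 3) (g k : M648) :
    (if (g * tr w1 * g⁻¹) * (k * tr w2 * k⁻¹) = tr w then 1 else 0) =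
      lind w1 w2 w (M648.equivProd g).2 (M648.equivProd k).2 := by
  rw [conj_tr, conj_tr, tr_mul]
  have hiff : (tr (g.act w1 + k.act w2) = tr w) ↔ (g.act w1 + k.act w2 = w) := tr_injective.eq_iff
  unfold lind
  rw [← act_eq_lin, ← act_eq_lin]
  by_cases h : g.act w1 + k.act w2 = w
  · rw [if_pos (hiff.mpr h), if_pos h]
  · rw [if_neg (fun h' => h (hiff.mp h')), if_neg h]

theorem sum_pair (f : (ℤˣ × ℤˣ × Equiv.Perm (Fin 3)) → ℕ) :
    ∑ k : M648, f (M648.equivProd k).2 = 27 * ∑ l, f l := by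
  rw [Fintype.sum_equiv M648.equivProd (fun k : M648 => f (M648.equivProd k).2)
    (fun t : (Fin 3 → ZMod 3) × ℤˣ × ℤˣ × Equiv.Perm (Fin 3) => f t.2) (fun k => rfl)]
  rw [Fintype.sum_prod_type]
  simp only [Finset.sum_const, Finset.card_univ, card_vec, smul_eq_mul]

/-- CNT. -/
theorem cnt648_tr (w1 w2 w : Fin 3 → ZMod 3) :
    cnt648 (tr w1) (tr w2) (tr w) = 729 * lcnt w1 w2 w := by
  unfold cnt648
  simp_rw [ind_eq]
  have h1 : ∀ g : M648, ∑ k : M648, lind w1 w2 w (M648.equivProd g).2 (M648.equivProd k).2 =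
      27 * ∑ l2, lind w1 w2 w (M648.equivProd g).2 l2 := fun g =>
    sum_pair (fun l2 => lind w1 w2 w (M648.equivProd g).2 l2)
  simp_rw [h1]
  rw [sum_pair (fun l1 => 27 * ∑ l2, lind w1 w2 w l1 l2)]
  rw [← Finset.mul_sum, ← mul_assoc]
  rfl

end Cfsg.Agent.Lib.H26.T648
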