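import Mathlib
import Cfsg.Agent.Lib.H26.TMXDefs
import Cfsg.Agent.Lib.H2.TMXPQ
import Cfsg.Agent.Lib.H2.TMXSIMPLE
import Cfsg.Agent.Lib.H4.TMXQUOT
import Cfsg.Agent.Lib.H4.TMXONECLASS
import Cfsg.Agent.Lib.H4.TMXPGRP
import Cfsg.Agent.Lib.H23.TMXSIMPABa
import Cfsg.Agent.Lib.H28.TMXMIN
import Cfsg.Agent.Lib.H28.TMXNONP
import Cfsg.Agent.Lib.H28.TMXFRAT

/-!
# S4383 main induction (helper26)

Assembles the pieces of the farm-out (tools/blueprints/S4383.md): QUOT, ONECLASS, PGRP (helper4),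
MIN, DICH, NONP, FRAT (helper28), PQ, PP, SIMPLE (helper2, on UNIQ helper26 + MOD helper27),
SIMPAB (helper23).
-/

set_option autoImplicit false
open Pointwise

namespace Cfsg.Agent.Lib.H26.TMX

universe u

/-- A normal subgroup contained in `M` is contained in every conjugate of `M`. -/
theorem le_conj_smul_of_normal {G : Type u} [Group G] (N : Subgroup G) [N.Normal] (M : Subgroup G)
    (h : N ≤ M) (g : G) : N ≤ MulAut.conj g • M := by
  intro x hx
  rw [Subgroup.mem_pointwise_smul_iff_inv_smul_mem]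
  apply h
  have : (MulAut.conj g)⁻¹ • x = g⁻¹ * x * g⁻¹⁻¹ := by
    rw [← map_inv]; rfl
  rw [this]
  exact ‹N.Normal›.conj_mem x hx g⁻¹

/-- Conversely. -/
theorem le_of_le_conj_smul_of_normal {G : Type u} [Group G] (N : Subgroup G) [N.Normal]
    (M : Subgroup G) (g : G) (h : N ≤ MulAut.conj g • M) : N ≤ M := by
  intro x hx
  have hx' : g * x * g⁻¹ ∈ MulAut.conj g • M := h (‹N.Normal›.conj_mem x hx g)
  rw [Subgroup.mem_pointwise_smul_iff_inv_smul_mem] at hx'
  have : (MulAut.conj g)⁻¹ • (g * x * g⁻¹) = x := by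
    rw [← map_inv]
    show g⁻¹ * (g * x * g⁻¹) * g⁻¹⁻¹ = x
    group
  rwa [this] at hx'

/-- The case `N ≤ M₁`, `N ≰ M₂` of the induction step. -/
theorem case_one {G : Type u} [Group G] [Finite G] (N : Subgroup G) [N.Normal] (hNbot : N ≠ ⊥)
    (hNtop : N ≠ ⊤)
    (hmin : ∀ K : Subgroup G, K.Normal → K ≠ ⊥ → K ≤ N → K = N)
    (M₁ M₂ : Subgroup G) (h1 : IsCoatom M₁) (h2 : IsCoatom M₂) (hne : M₁ ≠ M₂)
    (hall : ∀ M : Subgroup G, IsCoatom M →
      ∃ g : G, M = MulAut.conj g • M₁ ∨ M = MulAut.conj g • M₂)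
    (hN1 : N ≤ M₁) (hN2 : ¬ N ≤ M₂) :
    Group.IsSolvable G ∧ (Nat.card G).primeFactors.card = 2 := by
  obtain ⟨hc, hone⟩ := Cfsg.Agent.Lib.H4.TMX.quot_one_class N M₁ M₂ hN1 hN2 h1 hall
  obtain ⟨r, hr, hQ⟩ := Cfsg.Agent.Lib.H4.TMX.exists_isPGroup_of_one_class _ hc hone
  haveI : Fact r.Prime := ⟨hr⟩
  rcases Cfsg.Agent.Lib.H28.TMX.minimal_normal_dichotomy N hmin with ⟨p, hp, hNp⟩ | hsyl
  · haveI : Fact p.Prime := ⟨hp⟩
    by_cases hpr : p = r
    · subst hpr
      exact (Cfsg.Agent.Lib.H4.TMX.pgroup_false p (Cfsg.Agent.Lib.H2.TMX.isPGroup_of_quot N p hNp hQ) M₁ M₂ h1 h2 hne hall).elim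
    · exact Cfsg.Agent.Lib.H2.TMX.solvable_two_primes_of_pq N hNbot hNtop p r hpr hNp hQ
  · exact (Cfsg.Agent.Lib.H28.TMX.frattini_arg_false N M₁ M₂ h1 (cover_of_hall M₁ M₂ hall) hN1 hN2 hsyl).elim

theorem main_aux : ∀ (n : ℕ) (G : Type u) [Group G] [Finite G], Nat.card G = n →
    ∀ (M₁ M₂ : Subgroup G), IsCoatom M₁ → IsCoatom M₂ → (∀ g : G, M₂ ≠ MulAut.conj g • M₁) →
    (∀ M : Subgroup G, IsCoatom M →
      ∃ g : G, M = MulAut.conj g • M₁ ∨ M = MulAut.conj g • M₂) →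
    Group.IsSolvable G ∧ (Nat.card G).primeFactors.card = 2 := by
  intro n
  induction n using Nat.strong_induction_on with
  | _ n ih =>
    intro G _ _ hn M₁ M₂ h1 h2 hne hall
    haveI : Nontrivial G := by
      by_contra hnt
      rw [not_nontrivial_iff_subsingleton] at hnt
      exact h1.1 (Subsingleton.elim _ _)
    obtain ⟨N, hNn, hNbot, hNmin⟩ := Cfsg.Agent.Lib.H28.TMX.exists_minimal_normal (G := G)
    haveI := hNn
    by_cases hNtop : N = ⊤
    · exfalso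
      refine Cfsg.Agent.Lib.H23.TMX.simple_case_false_of
        (fun hS hna K₁ K₂ a b c => @Cfsg.Agent.Lib.H2.TMX.simple_false G _ _ hS hna K₁ K₂ a b c)
        (fun K hK hKb => ?_) M₁ M₂ h1 h2 hne hall
      have := hNmin K hK hKb (hNtop ▸ le_top)
      rw [this, hNtop]
    · have hne12 : M₁ ≠ M₂ := by
        intro h
        apply hne 1
        rw [map_one, one_smul]
        exact h.symm
      have hcard : Nat.card (G ⧸ N) < n := by
        rw [← hn, ← Subgroup.index_eq_card, ← Subgroup.card_mul_index N]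
        have h1' : 1 < Nat.card N := by
          rw [Subgroup.one_lt_card_iff_ne_bot]
          exact hNbot
        have h2' : 0 < N.index := Nat.pos_of_ne_zero Subgroup.index_ne_zero_of_finite
        nlinarith
      by_cases hN1 : N ≤ M₁
      · by_cases hN2 : N ≤ M₂
        · obtain ⟨q1, q2, q3, q4⟩ := Cfsg.Agent.Lib.H4.TMX.quot_two_class N M₁ M₂ hN1 hN2 h1 h2 hne hall
          have hq := ih _ hcard (G ⧸ N) rfl _ _ q1 q2 q3 q4
          refine Cfsg.Agent.Lib.H28.TMX.solvable_two_primes_of_le_coatoms N ?_ hq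
          intro M hM
          obtain ⟨g, hg | hg⟩ := hall M hM
          · rw [hg]; exact le_conj_smul_of_normal N M₁ hN1 g
          · rw [hg]; exact le_conj_smul_of_normal N M₂ hN2 g
        · exact case_one N hNbot hNtop hNmin M₁ M₂ h1 h2 hne12 hall hN1 hN2
      · by_cases hN2 : N ≤ M₂
        · refine case_one N hNbot hNtop hNmin M₂ M₁ h2 h1 hne12.symm ?_ hN2 hN1
          intro M hM
          obtain ⟨g, hg⟩ := hall M hM
          exact ⟨g, hg.symm⟩
        · exfalso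
          obtain ⟨M, hM, hNM⟩ := (eq_top_or_exists_le_coatom N).resolve_left hNtop
          obtain ⟨g, hg | hg⟩ := hall M hM
          · exact hN1 (le_of_le_conj_smul_of_normal N M₁ g (hg ▸ hNM))
          · exact hN2 (le_of_le_conj_smul_of_normal N M₂ g (hg ▸ hNM))

theorem main {G : Type u} [Group G] [Finite G]
    (M₁ M₂ : Subgroup G) (h1 : IsCoatom M₁) (h2 : IsCoatom M₂)
    (hne : ∀ g : G, M₂ ≠ MulAut.conj g • M₁)
    (hall : ∀ M : Subgroup G, IsCoatom M →
      ∃ g : G, M = MulAut.conj g • M₁ ∨ M = MulAut.conj g • M₂) :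
    Group.IsSolvable G ∧ (Nat.card G).primeFactors.card = 2 :=
  main_aux _ G rfl M₁ M₂ h1 h2 hne hall

end Cfsg.Agent.Lib.H26.TMX
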