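import Mathlib
import Cfsg.Agent.Lib.H26.TMXDefs

/-!
# S4383 piece SIMPLE, parametric in MOD (helper26)

`simple_false_of`: a nonabelian simple group is not covered by the conjugates of two maximal
subgroups, GIVEN the congruence MOD (`index_modEq_one`) as a hypothesis.
-/

set_option autoImplicit false
open Pointwise

namespace Cfsg.Agent.Lib.H26.TMX

universe u
variable {G : Type u} [Group G] [Finite G]

/-- A nonabelian simple group is not a `p`-group. -/
theorem not_isPGroup_of_simple_nonabelian [IsSimpleGroup G] (hna : ∃ a b : G, a * b ≠ b * a)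
    (p : ℕ) [Fact p.Prime] : ¬ IsPGroup p G := by
  intro hG
  have hZ : Nontrivial (Subgroup.center G) := hG.center_nontrivial
  have hZn : (Subgroup.center G).Normal := inferInstance
  rcases hZn.eq_bot_or_eq_top with h | h
  · exact (Subgroup.nontrivial_iff_ne_bot _).mp hZ h
  · obtain ⟨a, b, hab⟩ := hna
    have hb : b ∈ Subgroup.center G := h ▸ Subgroup.mem_top b
    exact hab ((Subgroup.mem_center_iff.mp hb a).symm ▸ rfl)

theorem normalizer_ne_top_of_simple_nonabelian [IsSimpleGroup G] (hna : ∃ a b : G, a * b ≠ b * a)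
    (p : ℕ) [Fact p.Prime] (A : Subgroup G) (hA : IsPGroup p A) (hne : A ≠ ⊥) :
    Subgroup.normalizer (A : Set G) ≠ ⊤ := by
  intro h
  have hAn : A.Normal := Subgroup.normalizer_eq_top_iff.mp h
  rcases hAn.eq_bot_or_eq_top with h' | h'
  · exact hne h'
  · apply not_isPGroup_of_simple_nonabelian hna p
    intro g
    obtain ⟨k, hk⟩ := hA ⟨g, h' ▸ Subgroup.mem_top g⟩
    refine ⟨k, ?_⟩
    have := congrArg Subtype.val hk
    simpa using this

theorem normalizer_coatom_of_simple_nonabelian [IsSimpleGroup G] (hna : ∃ a b : G, a * b ≠ b * a)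
    (M : Subgroup G) (hM : IsCoatom M) : Subgroup.normalizer (M : Set G) = M := by
  rcases hM.le_iff.mp (Subgroup.le_normalizer (H := M)) with h | h
  · exfalso
    have hMn : M.Normal := Subgroup.normalizer_eq_top_iff.mp h
    rcases hMn.eq_bot_or_eq_top with h' | h'
    · obtain ⟨a, b, hab⟩ := hna
      -- every subgroup is `⊥` or `⊤`
      rcases hM.le_iff.mp (h' ▸ bot_le : M ≤ Subgroup.zpowers a) with ha | ha
      · have hb : b ∈ Subgroup.zpowers a := ha ▸ Subgroup.mem_top b
        obtain ⟨k, hk⟩ := Subgroup.mem_zpowers_iff.mp hb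
        apply hab
        rw [← hk]
        exact (Commute.self_zpow a k).eq
      · rw [h'] at ha
        have ha1 : a = 1 := Subgroup.zpowers_eq_bot.mp ha
        apply hab
        rw [ha1, one_mul, mul_one]
    · exact hM.1 h'
  · exact h

/-- SIMPLE, parametric in MOD. -/
theorem simple_false_of
    (hmod : ∀ (p : ℕ) [Fact p.Prime] (M₁ M₂ : Subgroup G), Cover M₁ M₂ →
      (∀ A : Subgroup G, IsPGroup p A → A ≠ ⊥ → Subgroup.normalizer (A : Set G) ≠ ⊤) →
      Subgroup.normalizer (M₂ : Set G) = M₂ → ¬ IsPGroup p G → p ∣ M₁.index →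
      p ^ (M₁.index.factorization p) ∣ M₂.index - 1)
    [IsSimpleGroup G] (hna : ∃ a b : G, a * b ≠ b * a) (M₁ M₂ : Subgroup G)
    (h1 : IsCoatom M₁) (h2 : IsCoatom M₂) (hcov : Cover M₁ M₂) : False := by
  have key : ∀ K₁ K₂ : Subgroup G, IsCoatom K₁ → IsCoatom K₂ → Cover K₁ K₂ →
      K₁.index ≤ K₂.index - 1 := by
    intro K₁ K₂ hK1 hK2 hc
    have hi2 : K₂.index ≠ 1 := fun h => hK2.1 (Subgroup.index_eq_one.mp h)
    have hi2' : K₂.index ≠ 0 := Subgroup.index_ne_zero_of_finite
    have hdvd : K₁.index ∣ K₂.index - 1 := by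
      refine (Nat.dvd_iff_prime_pow_dvd_dvd _ _).mpr fun p k hp hpk => ?_
      haveI : Fact p.Prime := ⟨hp⟩
      rcases Nat.eq_zero_or_pos k with hk | hk
      · rw [hk, pow_zero]; exact one_dvd _
      have hp1 : p ∣ K₁.index := dvd_trans (dvd_pow_self p hk.ne') hpk
      have h := hmod p K₁ K₂ hc (normalizer_ne_top_of_simple_nonabelian hna p)
        (normalizer_coatom_of_simple_nonabelian hna K₂ hK2)
        (not_isPGroup_of_simple_nonabelian hna p) hp1
      have hle : k ≤ K₁.index.factorization p :=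
        (hp.pow_dvd_iff_le_factorization Subgroup.index_ne_zero_of_finite).mp hpk
      exact dvd_trans (pow_dvd_pow p hle) h
    exact Nat.le_of_dvd (by omega) hdvd
  have ha := key M₁ M₂ h1 h2 hcov
  have hb := key M₂ M₁ h2 h1 hcov.symm
  have hi1' : M₁.index ≠ 0 := Subgroup.index_ne_zero_of_finite
  omega

end Cfsg.Agent.Lib.H26.TMX
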