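import Mathlib
import Cfsg.Agent.S3995

set_option autoImplicit false

/-!
# TV3 CNT (helper26, piece of helper20's S4004 farm-out)

`two_mul_le`: if a Sylow `p`-subgroup centralizes an element of odd prime order `q ≠ p`, then
`2 * f G p ≤ f G (p * q)`.
-/

namespace Cfsg.Agent.Lib.H26.TV3

open Cfsg.Agent.S3995 (f)

universe u

variable {G : Type u} [Group G] [Finite G]

/-- every element of order `p` commutes with some conjugate of `y`. -/
theorem exists_conj_commute {p : ℕ} [Fact p.Prime] (P : Sylow p G) (y : G)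
    (hc : ∀ x ∈ (P : Subgroup G), x * y = y * x) (x : G) (hx : orderOf x = p) :
    ∃ g : G, x * (g * y * g⁻¹) = (g * y * g⁻¹) * x := by
  have hpg : IsPGroup p (Subgroup.zpowers x) := by
    apply IsPGroup.of_card (n := 1)
    rw [Nat.card_zpowers, hx, pow_one]
  obtain ⟨Q, hQ⟩ := hpg.exists_le_sylow
  obtain ⟨g, hg⟩ := MulAction.exists_smul_eq G P Q
  refine ⟨g, ?_⟩
  have hxQ : x ∈ (Q : Subgroup G) := hQ (Subgroup.mem_zpowers x)
  rw [← hg, Sylow.coe_subgroup_smul, Subgroup.mem_pointwise_smul_iff_inv_smul_mem] at hxQ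
  have h1 : g⁻¹ * x * g ∈ (P : Subgroup G) := by
    simpa [MulAut.smul_def, MulAut.conj_inv_apply] using hxQ
  have h2 := hc _ h1
  -- g⁻¹ x g y = y g⁻¹ x g
  calc x * (g * y * g⁻¹) = g * ((g⁻¹ * x * g) * y) * g⁻¹ := by group
    _ = g * (y * (g⁻¹ * x * g)) * g⁻¹ := by rw [h2]
    _ = (g * y * g⁻¹) * x := by group

/-- **CNT**. -/
theorem two_mul_le {p q : ℕ} [Fact p.Prime] (hq : q.Prime) (hq3 : 3 ≤ q) (hpq : p ≠ q) (P : Sylow p G) (y : G)
    (hy : orderOf y = q) (hc : ∀ x ∈ (P : Subgroup G), x * y = y * x) : 2 * f G p ≤ f G (p * q) := by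
  classical
  have hp : p.Prime := Fact.out
  have hcop : Nat.Coprime p q := (Nat.coprime_primes hp hq).2 hpq
  -- choose conjugating elements
  choose! gg hgg using fun x (hx : orderOf x = p) => exists_conj_commute P y hc x hx
  set yy : G → G := fun x => gg x * y * (gg x)⁻¹ with hyy
  have hyyo : ∀ x, orderOf (yy x) = q := by
    intro x
    have : yy x = MulAut.conj (gg x) y := by simp [hyy, MulAut.conj_apply]
    rw [this, MulEquiv.orderOf_eq, hy]
  have hcomm : ∀ x, orderOf x = p → Commute x (yy x) := fun x hx => hgg x hx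
  -- orders of powers
  have hpow_order : ∀ x (e : Fin 2), orderOf ((yy x) ^ (e.val + 1)) = q := by
    intro x e
    have hco : Nat.Coprime (orderOf (yy x)) (e.val + 1) := by
      rw [hyyo]
      have he : e.val + 1 < q := by have := e.isLt; omega
      exact (Nat.Prime.coprime_iff_not_dvd hq).2 (Nat.not_dvd_of_pos_of_lt (by omega) he)
    rw [Nat.Coprime.orderOf_pow hco, hyyo]
  -- the injection
  let φ : {x : G // orderOf x = p} × Fin 2 → {g : G // orderOf g = p * q} := fun a =>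
    ⟨a.1.1 * (yy a.1.1) ^ (a.2.val + 1), by
      have hcm : Commute a.1.1 ((yy a.1.1) ^ (a.2.val + 1)) := (hcomm a.1.1 a.1.2).pow_right _
      rw [hcm.orderOf_mul_eq_mul_orderOf_of_coprime (by rw [a.1.2, hpow_order]; exact hcop),
        a.1.2, hpow_order]⟩
  have hφq : ∀ a, ((φ a).1) ^ q = a.1.1 ^ q := by
    intro a
    have hcm : Commute a.1.1 ((yy a.1.1) ^ (a.2.val + 1)) := (hcomm a.1.1 a.1.2).pow_right _
    show (a.1.1 * (yy a.1.1) ^ (a.2.val + 1)) ^ q = a.1.1 ^ q
    rw [hcm.mul_pow]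
    have : ((yy a.1.1) ^ (a.2.val + 1)) ^ q = 1 := by
      rw [← hpow_order a.1.1 a.2]; exact pow_orderOf_eq_one _
    rw [this, mul_one]
  -- x is determined by x ^ q
  obtain ⟨q', hq'⟩ : ∃ q' : ℕ, q * q' ≡ 1 [MOD p] := by
    have := Nat.exists_mul_mod_eq_one_of_coprime hcop.symm hp.one_lt
    obtain ⟨m, hm⟩ := this
    refine ⟨m, ?_⟩
    unfold Nat.ModEq
    rw [hm.2, Nat.mod_eq_of_lt hp.one_lt]
  have hrec : ∀ x : G, orderOf x = p → (x ^ q) ^ q' = x := by
    intro x hx
    rw [← pow_mul]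
    have h1 : x ^ (q * q') = x ^ 1 := by
      rw [pow_eq_pow_iff_modEq, hx]; exact hq'
    rw [h1, pow_one]
  have hinj : Function.Injective φ := by
    rintro ⟨⟨x, hx⟩, e⟩ ⟨⟨x', hx'⟩, e'⟩ h
    have hval : x * (yy x) ^ (e.val + 1) = x' * (yy x') ^ (e'.val + 1) := congrArg Subtype.val h
    have h1 := hφq ⟨⟨x, hx⟩, e⟩
    have h2 := hφq ⟨⟨x', hx'⟩, e'⟩
    have hxx : x = x' := by
      have : x ^ q = x' ^ q := by
        rw [← h1, ← h2, h]
      rw [← hrec x hx, ← hrec x' hx', this]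
    subst hxx
    have hpw : (yy x) ^ (e.val + 1) = (yy x) ^ (e'.val + 1) := mul_left_cancel hval
    have he : e = e' := by
      rw [pow_eq_pow_iff_modEq, hyyo] at hpw
      have h3 : e.val + 1 < q := by have := e.isLt; omega
      have h4 : e'.val + 1 < q := by have := e'.isLt; omega
      have := Nat.ModEq.eq_of_lt_of_lt hpw h3 h4
      exact Fin.ext (by omega)
    rw [he]
  have hcard := Nat.card_le_card_of_injective φ hinj
  rw [Nat.card_prod, Nat.card_fin] at hcard
  unfold f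
  rw [mul_comm]
  exact hcard
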