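import Mathlib
import Cfsg.Agent.Lib.H14.ThetaDefs

/-!
# S1632 piece TH1 (architect helper14; helper26): the theta series as a q-series
-/

set_option autoImplicit false

namespace Cfsg.Agent.Lib.H26.Theta

open Complex Matrix UpperHalfPlane
open Cfsg.Agent.Lib.H14.Theta

/-- **TH1**. -/
theorem hasSum_theta {n : ℕ} (B : Matrix (Fin n) (Fin n) ℤ)
    (hnn : ∀ x : Fin n → ℤ, 0 ≤ Bq B x) (heven : ∀ x : Fin n → ℤ, (2 : ℤ) ∣ Bq B x)
    (hfin : ∀ m : ℤ, {x : Fin n → ℤ | Bq B x = m}.Finite) (τ : ℍ)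
    (hsum : Summable (fun x : Fin n → ℤ => ‖cexp ((Real.pi : ℂ) * Complex.I * (τ : ℂ) * ((Bq B x : ℤ) : ℂ))‖)) :
    HasSum (fun m : ℕ => ((rep B m : ℕ) : ℂ) • Function.Periodic.qParam 1 (τ : ℂ) ^ m) (theta B τ) := by
  set f : (Fin n → ℤ) → ℂ := fun x => cexp ((Real.pi : ℂ) * Complex.I * (τ : ℂ) * ((Bq B x : ℤ) : ℂ)) with hf
  have hs : Summable f := Summable.of_norm hsum
  have h1 : HasSum f (theta B τ) := hs.hasSum
  -- the fibre map
  set φ : (Fin n → ℤ) → ℕ := fun x => (Bq B x / 2).toNat with hφ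
  have hφiff : ∀ (x : Fin n → ℤ) (m : ℕ), φ x = m ↔ Bq B x = 2 * (m : ℤ) := by
    intro x m
    obtain ⟨k, hk⟩ := heven x
    have hk0 : 0 ≤ k := by have := hnn x; omega
    simp only [hφ]
    rw [hk, Int.mul_ediv_cancel_left _ (by norm_num : (2 : ℤ) ≠ 0)]
    constructor
    · intro h; have : (k.toNat : ℤ) = k := Int.toNat_of_nonneg hk0; omega
    · intro h; have : k = m := by omega
      rw [this]; simp
  have h2 := h1.tsum_fiberwise φ
  have key : (fun m : ℕ => ((rep B m : ℕ) : ℂ) • Function.Periodic.qParam 1 (τ : ℂ) ^ m) =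
      (fun c => ∑' (b : ↑(φ ⁻¹' {c})), f ↑b) := ?_
  · rw [key]; exact h2
  funext m
  symm
  -- on the fibre over `m` the term is constant
  have hconst : ∀ b : φ ⁻¹' {m}, f b = Function.Periodic.qParam 1 (τ : ℂ) ^ m := by
    intro b
    have hb : Bq B b.1 = 2 * (m : ℤ) := (hφiff b.1 m).1 b.2
    simp only [hf, Function.Periodic.qParam]
    rw [hb, ← Complex.exp_nat_mul]
    congr 1
    push_cast
    ring
  rw [tsum_congr hconst, tsum_const]
  have hset : (φ ⁻¹' {m}) = {x : Fin n → ℤ | Bq B x = 2 * (m : ℤ)} := by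
    ext x
    simp only [Set.mem_preimage, Set.mem_singleton_iff, Set.mem_setOf_eq]
    exact hφiff x m
  rw [hset, Nat.card_coe_set_eq]
  simp only [rep, nsmul_eq_mul, smul_eq_mul]

end Cfsg.Agent.Lib.H26.Theta
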