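import Cfsg.Agent.Lib.H26.ThreeTransCore

set_option autoImplicit false

/-!
3-transposition classes in which every transposition commutes with exactly one other one, and that
one has the same commuting set (helper26): the class has six members and the group is `S_4`.
Part 1: the class has six members.
-/

namespace Cfsg.Agent.Lib.H26.ThreeTrans

open Cfsg

variable {G : Type*} [Group G] {D : Set G}

/-- The standing hypotheses. -/
structure PairCtx (D : Set G) : Prop where
  hS : IsThreeTranspositionSet D
  hconj : ∀ g : G, ∀ d ∈ D, g * d * g⁻¹ ∈ D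
  hpair : ∀ x ∈ D, ∃ y ∈ D, y ≠ x ∧ Veq D x y ∧ ∀ z ∈ D, Commute x z → z = x ∨ z = y

/-- `y` is the partner of `x`. -/
def IsPartner (D : Set G) (x y : G) : Prop := x ∈ D ∧ y ∈ D ∧ y ≠ x ∧ Commute x y

namespace PairCtx

variable (h : PairCtx D)
include h

theorem exists_partner {x : G} (hx : x ∈ D) : ∃ y, IsPartner D x y := by
  obtain ⟨y, hy, hne, hv, -⟩ := h.hpair x hx
  exact ⟨y, hx, hy, hne, hv.commute hx⟩

theorem partner_unique {x y y' : G} (h1 : IsPartner D x y) (h2 : IsPartner D x y') : y = y' := by
  obtain ⟨y₀, -, -, -, hall⟩ := h.hpair x h1.1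
  have e1 := (hall y h1.2.1 h1.2.2.2).resolve_left h1.2.2.1
  have e2 := (hall y' h2.2.1 h2.2.2.2).resolve_left h2.2.2.1
  rw [e1, e2]

theorem partner_veq {x y : G} (h1 : IsPartner D x y) : Veq D x y := by
  obtain ⟨y₀, -, -, hv, hall⟩ := h.hpair x h1.1
  have e1 := (hall y h1.2.1 h1.2.2.2).resolve_left h1.2.2.1
  rw [e1]; exact hv

theorem partner_symm {x y : G} (h1 : IsPartner D x y) : IsPartner D y x :=
  ⟨h1.2.1, h1.1, fun e => h1.2.2.1 e.symm, h1.2.2.2.symm⟩

theorem eq_or_eq_of_commute {x y z : G} (h1 : IsPartner D x y) (hz : z ∈ D) (hc : Commute x z) :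
    z = x ∨ z = y := by
  by_cases hzx : z = x
  · exact Or.inl hzx
  · exact Or.inr (h.partner_unique ⟨h1.1, hz, hzx, hc⟩ h1)

theorem partner_conj {x y : G} (h1 : IsPartner D x y) (g : G) :
    IsPartner D (g * x * g⁻¹) (g * y * g⁻¹) := by
  refine ⟨h.hconj g x h1.1, h.hconj g y h1.2.1, ?_, ?_⟩
  · intro e
    apply h1.2.2.1
    have := congrArg (fun z => g⁻¹ * z * g) e
    simpa [mul_assoc] using this
  · show g * x * g⁻¹ * (g * y * g⁻¹) = g * y * g⁻¹ * (g * x * g⁻¹)
    calc g * x * g⁻¹ * (g * y * g⁻¹) = g * (x * y) * g⁻¹ := by group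
      _ = g * (y * x) * g⁻¹ := by rw [h1.2.2.2.eq]
      _ = g * y * g⁻¹ * (g * x * g⁻¹) := by group

/-- Conjugation by the involution `c ∈ D`. -/
theorem partner_conj' {x y c : G} (h1 : IsPartner D x y) (hc : c ∈ D) :
    IsPartner D (c * x * c) (c * y * c) := by
  have := h.partner_conj h1 c
  rwa [inv_eq h.hS hc] at this

theorem not_commute_conj {x c : G} (hx : x ∈ D) (hc : c ∈ D) (hcx : ¬ Commute c x) :
    ¬ Commute (c * x * c) x := by
  intro hcomm
  apply hcx
  have hb := braid h.hS hc hx hcx
  have hx2 := sq_eq_one h.hS hx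
  rw [hb] at hcomm
  have h1 : x * c * x * x = x * (x * c * x) := hcomm
  show c * x = x * c
  calc c * x = (x * x) * c * x := by rw [hx2, one_mul]
    _ = x * (x * c * x) := by group
    _ = x * c * x * x := h1.symm
    _ = x * c * (x * x) := by group
    _ = x * c := by rw [hx2, mul_one]

/-- Conjugation by `t = x v` moves every transposition not commuting with `x`. -/
theorem conj_ne {x v a : G} (hx : x ∈ D) (hv : v ∈ D) (ha : a ∈ D) (hxv : Commute x v)
    (hne : x ≠ v) (hax : ¬ Commute a x) (hav : ¬ Commute a v) :
    x * v * a * (x * v)⁻¹ ≠ a := by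
  intro heq
  apply hne
  have hx2 := sq_eq_one h.hS hx
  have hv2 := sq_eq_one h.hS hv
  have ha2 := sq_eq_one h.hS ha
  have hb1 : a * x * a = x * a * x := braid h.hS ha hx hax
  have hb2 : a * v * a = v * a * v := braid h.hS ha hv hav
  have hinv : (x * v)⁻¹ = v * x := by rw [mul_inv_rev, inv_eq h.hS hx, inv_eq h.hS hv]
  rw [hinv] at heq
  -- a (x v) a = x v
  have h1 : a * (x * v) * a = x * v := by
    have : x * v * a = a * (x * v) := by
      calc x * v * a = x * v * a * ((v * x) * (x * v)) := by
            have : (v * x) * (x * v) = v * (x * x) * v := by group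
            rw [this, hx2, mul_one, hv2, mul_one]
        _ = (x * v * a * (v * x)) * (x * v) := by group
        _ = a * (x * v) := by rw [heq]
    calc a * (x * v) * a = a * (x * v * a) := by group
      _ = a * (a * (x * v)) := by rw [this]
      _ = (a * a) * (x * v) := by group
      _ = x * v := by rw [ha2, one_mul]
  -- but a x v a = (a x a)(a v a) = x a x v a v = x a v x a v
  have h2 : a * (x * v) * a = x * a * v * x * a * v := by
    calc a * (x * v) * a = (a * x * a) * (a * v * a) := by
          have : (a * x * a) * (a * v * a) = a * x * (a * a) * v * a := by group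
          rw [this, ha2, mul_one]; group
      _ = (x * a * x) * (v * a * v) := by rw [hb1, hb2]
      _ = x * a * (x * v) * a * v := by group
      _ = x * a * (v * x) * a * v := by rw [hxv.eq]
      _ = x * a * v * x * a * v := by group
  rw [h2] at h1
  -- cancel: a v x a = 1
  have h3 : a * v * x * a = 1 := by
    have : x * (a * v * x * a) * v = x * 1 * v := by
      rw [mul_one]
      calc x * (a * v * x * a) * v = x * a * v * x * a * v := by group
        _ = x * v := h1
    have h4 := mul_right_cancel this
    exact mul_left_cancel h4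
  have h4 : v * x = 1 := by
    calc v * x = (a * a) * (v * x) * (a * a) := by rw [ha2, one_mul, mul_one]
      _ = a * (a * v * x * a) * a := by group
      _ = 1 := by rw [h3, mul_one, ha2]
  calc x = (v * v) * x := by rw [hv2, one_mul]
    _ = v * (v * x) := by group
    _ = v := by rw [h4, mul_one]

/-- Conjugation by `t_x = x x'` sends `a` (not commuting with `x`) to its partner. -/
theorem conj_eq_partner {x x' a a' : G} (hx : IsPartner D x x') (ha : IsPartner D a a')
    (hax : ¬ Commute a x) : x * x' * a * (x * x')⁻¹ = a' := by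
  have hv := h.partner_veq hx
  have hveq := veq_conj_of_veq h.hS h.hconj hx.1 hv ha.1
  have hav : ¬ Commute a x' := fun hc => hax (((hv.2 a ha.1).1 hc.symm).symm)
  have hne := h.conj_ne hx.1 hx.2.1 ha.1 hx.2.2.2 (fun e => hx.2.2.1 e.symm) hax hav
  have hcomm : Commute a (x * x' * a * (x * x')⁻¹) := hveq.commute ha.1
  rcases h.eq_or_eq_of_commute ha hveq.1 hcomm with h1 | h1
  · exact absurd h1 hne
  · exact h1

/-- **Key step.** If `c` commutes with neither `x` nor `y` (which do not commute), then `c x c` is
`y` or its partner. -/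
theorem conj_mem_pair {x x' y y' c : G} (hx : IsPartner D x x') (hy : IsPartner D y y')
    (hxy : ¬ Commute x y) (hc : c ∈ D) (hcx : ¬ Commute c x) (hcy : ¬ Commute c y) :
    c * x * c = y ∨ c * x * c = y' := by
  by_contra hcon
  push Not at hcon
  obtain ⟨c', hcc'⟩ := h.exists_partner hc
  have hcinv : c⁻¹ = c := inv_eq h.hS hc
  have hc2 := sq_eq_one h.hS hc
  -- g = t_x t_y commutes with c
  have h1 : y * y' * c * (y * y')⁻¹ = c' := h.conj_eq_partner hy hcc' hcy
  have hc'x : ¬ Commute c' x := by
    intro hcomm
    exact hcx (((h.partner_veq hcc').2 x hx.1).1 hcomm)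
  have h2 : x * x' * c' * (x * x')⁻¹ = c := h.conj_eq_partner hx (h.partner_symm hcc') hc'x
  have hg : (x * x') * (y * y') * c * ((x * x') * (y * y'))⁻¹ = c := by
    calc (x * x') * (y * y') * c * ((x * x') * (y * y'))⁻¹
        = x * x' * (y * y' * c * (y * y')⁻¹) * (x * x')⁻¹ := by group
      _ = c := by rw [h1, h2]
  -- conjugating g by c
  have hx1 := h.partner_conj' hx hc
  have hy1 := h.partner_conj' hy hc
  have hg' : (x * x') * (y * y') =
      ((c * x * c) * (c * x' * c)) * ((c * y * c) * (c * y' * c)) := by
    have e1 : c * ((x * x') * (y * y')) * c = (x * x') * (y * y') := by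
      have : (x * x') * (y * y') * c = c * ((x * x') * (y * y')) := by
        calc (x * x') * (y * y') * c
            = ((x * x') * (y * y') * c * ((x * x') * (y * y'))⁻¹) * ((x * x') * (y * y')) := by group
          _ = c * ((x * x') * (y * y')) := by rw [hg]
      calc c * ((x * x') * (y * y')) * c = ((x * x') * (y * y') * c) * c := by rw [this]
        _ = (x * x') * (y * y') * (c * c) := by group
        _ = (x * x') * (y * y') := by rw [hc2, mul_one]
    rw [← e1]
    calc c * ((x * x') * (y * y')) * c
        = c * x * (c * c) * x' * (c * c) * y * (c * c) * y' * c := by rw [hc2]; group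
      _ = ((c * x * c) * (c * x' * c)) * ((c * y * c) * (c * y' * c)) := by group
  -- action of g on x₁ = c x c, computed in two ways
  have hx1y1 : ¬ Commute (c * x * c) (c * y * c) := by
    intro hcomm
    apply hxy
    have e : c * x * c * (c * y * c) = c * y * c * (c * x * c) := hcomm
    show x * y = y * x
    calc x * y = c * (c * x * c * (c * y * c)) * c := by
          calc x * y = (c * c) * x * (c * c) * y * (c * c) := by rw [hc2]; group
            _ = c * (c * x * c * (c * y * c)) * c := by group
      _ = c * (c * y * c * (c * x * c)) * c := by rw [e]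
      _ = (c * c) * y * (c * c) * x * (c * c) := by group
      _ = y * x := by rw [hc2]; group
  have hA : ((c * x * c) * (c * x' * c)) * ((c * y * c) * (c * y' * c)) * (c * x * c) *
      (((c * x * c) * (c * x' * c)) * ((c * y * c) * (c * y' * c)))⁻¹ = c * x' * c := by
    have e1 : (c * y * c) * (c * y' * c) * (c * x * c) * ((c * y * c) * (c * y' * c))⁻¹ =
        c * x' * c := h.conj_eq_partner hy1 hx1 hx1y1
    have e2 : (c * x * c) * (c * x' * c) * (c * x' * c) * ((c * x * c) * (c * x' * c))⁻¹ =
        c * x' * c := by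
      have hcm : Commute (c * x * c) (c * x' * c) := hx1.2.2.2
      have gen : ∀ u w : G, Commute u w → u * w * w * (u * w)⁻¹ = w := by
        intro u w huw
        calc u * w * w * (u * w)⁻¹ = u * w * u⁻¹ := by group
          _ = w * u * u⁻¹ := by rw [huw.eq]
          _ = w := by group
      exact gen _ _ hcm
    calc ((c * x * c) * (c * x' * c)) * ((c * y * c) * (c * y' * c)) * (c * x * c) *
        (((c * x * c) * (c * x' * c)) * ((c * y * c) * (c * y' * c)))⁻¹
        = (c * x * c) * (c * x' * c) *
          ((c * y * c) * (c * y' * c) * (c * x * c) * ((c * y * c) * (c * y' * c))⁻¹) *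
          ((c * x * c) * (c * x' * c))⁻¹ := by group
      _ = c * x' * c := by rw [e1, e2]
  -- the other computation: x₁ commutes with neither x nor y
  have hx1x : ¬ Commute (c * x * c) x := h.not_commute_conj hx.1 hc hcx
  have hx1y : ¬ Commute (c * x * c) y := by
    intro hcomm
    rcases h.eq_or_eq_of_commute hy hx1.1 hcomm.symm with e | e
    · exact hcon.1 e
    · exact hcon.2 e
  have hB : (x * x') * (y * y') * (c * x * c) * ((x * x') * (y * y'))⁻¹ = c * x * c := by
    have e1 : y * y' * (c * x * c) * (y * y')⁻¹ = c * x' * c := h.conj_eq_partner hy hx1 hx1y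
    have hx1'x : ¬ Commute (c * x' * c) x := by
      intro hcomm
      exact hx1x (((h.partner_veq hx1).2 x hx.1).1 hcomm)
    have e2 : x * x' * (c * x' * c) * (x * x')⁻¹ = c * x * c :=
      h.conj_eq_partner hx (h.partner_symm hx1) hx1'x
    calc (x * x') * (y * y') * (c * x * c) * ((x * x') * (y * y'))⁻¹
        = x * x' * (y * y' * (c * x * c) * (y * y')⁻¹) * (x * x')⁻¹ := by group
      _ = c * x * c := by rw [e1, e2]
  rw [hg'] at hB
  rw [hA] at hB
  exact hx1.2.2.1 hB

end PairCtx

end Cfsg.Agent.Lib.H26.ThreeTrans
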