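import Cfsg.Agent.Lib.H26.ThreeTransS4

set_option autoImplicit false

/-!
Part 2 (helper26): in a `PairCtx` whose transpositions generate `G`, the group is `S_4`.
-/

namespace Cfsg.Agent.Lib.H26.ThreeTrans

open Cfsg

variable {G : Type*} [Group G] {D : Set G}

namespace PairCtx

variable (h : PairCtx D)
include h

/-- The class consists of the six transpositions `d, v, a, a', a d a, a v a`. -/
theorem mem_six {d v a a' : G} (hdv : IsPartner D d v) (haa' : IsPartner D a a')
    (had : ¬ Commute a d) {c : G} (hc : c ∈ D) :
    c = d ∨ c = v ∨ c = a ∨ c = a' ∨ c = a * d * a ∨ c = a * v * a := by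
  by_contra hcon
  push Not at hcon
  obtain ⟨h1, h2, h3, h4, h5, h6⟩ := hcon
  have ha := haa'.1
  have hd := hdv.1
  have ha2 := sq_eq_one h.hS ha
  have hbb' : IsPartner D (a * d * a) (a * v * a) := h.partner_conj' hdv ha
  have hav : ¬ Commute a v := fun hcm => had (((h.partner_veq hdv).2 a ha).1 hcm.symm).symm
  have hcd : ¬ Commute c d := by
    intro hcm
    rcases h.eq_or_eq_of_commute hdv hc hcm.symm with e | e
    · exact h1 e
    · exact h2 e
  have hca : ¬ Commute c a := by
    intro hcm
    rcases h.eq_or_eq_of_commute haa' hc hcm.symm with e | e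
    · exact h3 e
    · exact h4 e
  have hcb : ¬ Commute c (a * d * a) := by
    intro hcm
    rcases h.eq_or_eq_of_commute hbb' hc hcm.symm with e | e
    · exact h5 e
    · exact h6 e
  have hda : ¬ Commute d a := fun hcm => had hcm.symm
  have hdb : ¬ Commute d (a * d * a) := fun hcm => h.not_commute_conj hd ha had hcm.symm
  have k1 := h.conj_mem_pair hdv haa' hda hc hcd hca
  have k2 := h.conj_mem_pair hdv hbb' hdb hc hcd hcb
  -- distinctness
  have n1 : a ≠ a * d * a := by
    intro e
    apply had
    have : d * a = 1 := by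
      have e' : a * 1 = a * (d * a) := by rw [mul_one]; calc a = a * d * a := e
        _ = a * (d * a) := by group
      exact (mul_left_cancel e').symm
    have hda' : d = a := by
      calc d = d * (a * a) := by rw [ha2, mul_one]
        _ = (d * a) * a := by group
        _ = a := by rw [this, one_mul]
    rw [hda']
  have n2 : a ≠ a * v * a := by
    intro e
    apply hav
    have : v * a = 1 := by
      have e' : a * 1 = a * (v * a) := by rw [mul_one]; calc a = a * v * a := e
        _ = a * (v * a) := by group
      exact (mul_left_cancel e').symm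
    have hva' : v = a := by
      calc v = v * (a * a) := by rw [ha2, mul_one]
        _ = (v * a) * a := by group
        _ = a := by rw [this, one_mul]
    rw [hva']
  have gen : ∀ z : G, Commute a (a * z * a) → Commute a z := by
    intro z hcm
    have e : a * (a * z * a) = a * z * a * a := hcm
    show a * z = z * a
    calc a * z = a * z * (a * a) := by rw [ha2, mul_one]
      _ = (a * z * a) * a := by group
      _ = a * (a * z * a) := e.symm
      _ = (a * a) * z * a := by group
      _ = z * a := by rw [ha2, one_mul]
  have n3 : a' ≠ a * d * a := by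
    intro e
    apply had
    have := haa'.2.2.2
    rw [e] at this
    exact gen d this
  have n4 : a' ≠ a * v * a := by
    intro e
    apply hav
    have := haa'.2.2.2
    rw [e] at this
    exact gen v this
  rcases k1 with e1 | e1 <;> rcases k2 with e2 | e2
  · exact n1 (e1.symm.trans e2)
  · exact n2 (e1.symm.trans e2)
  · exact n3 (e1.symm.trans e2)
  · exact n4 (e1.symm.trans e2)

/-- `d`, `v`, `a` generate. -/
theorem closure_three {d v a a' : G} (hdv : IsPartner D d v) (haa' : IsPartner D a a')
    (had : ¬ Commute a d) (hgen : Subgroup.closure D = ⊤) :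
    Subgroup.closure ({d, v, a} : Set G) = ⊤ := by
  rw [eq_top_iff, ← hgen, Subgroup.closure_le]
  intro c hc
  have hdm : d ∈ Subgroup.closure ({d, v, a} : Set G) := Subgroup.subset_closure (by simp)
  have hvm : v ∈ Subgroup.closure ({d, v, a} : Set G) := Subgroup.subset_closure (by simp)
  have ham : a ∈ Subgroup.closure ({d, v, a} : Set G) := Subgroup.subset_closure (by simp)
  rcases h.mem_six hdv haa' had hc with e | e | e | e | e | e
  · rw [e]; exact hdm
  · rw [e]; exact hvm
  · rw [e]; exact ham
  · rw [e, ← h.conj_eq_partner hdv haa' had]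
    exact Subgroup.mul_mem _ (Subgroup.mul_mem _ (Subgroup.mul_mem _ hdm hvm) ham)
      (Subgroup.inv_mem _ (Subgroup.mul_mem _ hdm hvm))
  · rw [e]; exact Subgroup.mul_mem _ (Subgroup.mul_mem _ ham hdm) ham
  · rw [e]; exact Subgroup.mul_mem _ (Subgroup.mul_mem _ ham hvm) ham

/-- The six elements of `⟨d, a⟩`. -/
def InL (d a x : G) : Prop :=
  x = 1 ∨ x = d ∨ x = a ∨ x = d * a ∨ x = a * d ∨ x = d * a * d

omit h in
theorem mem_closure_pair_inL {d a : G} (hd2 : d * d = 1) (ha2 : a * a = 1)
    (hb : a * d * a = d * a * d) {x : G} (hx : x ∈ Subgroup.closure ({d, a} : Set G)) :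
    InL d a x := by
  have hdinv : d⁻¹ = d := inv_eq_of_mul_eq_one_right hd2
  have hainv : a⁻¹ = a := inv_eq_of_mul_eq_one_right ha2
  have hdL : ∀ y, InL d a y → InL d a (d * y) := by
    rintro y (rfl | rfl | rfl | rfl | rfl | rfl)
    · right; left; rw [mul_one]
    · left; exact hd2
    · right; right; right; left; rfl
    · right; right; left
      calc d * (d * a) = (d * d) * a := by group
        _ = a := by rw [hd2, one_mul]
    · right; right; right; right; right
      group
    · right; right; right; right; left
      calc d * (d * a * d) = (d * d) * a * d := by group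
        _ = a * d := by rw [hd2, one_mul]
  have haL : ∀ y, InL d a y → InL d a (a * y) := by
    rintro y (rfl | rfl | rfl | rfl | rfl | rfl)
    · right; right; left; rw [mul_one]
    · right; right; right; right; left; rfl
    · left; exact ha2
    · right; right; right; right; right
      calc a * (d * a) = a * d * a := by group
        _ = d * a * d := hb
    · right; left
      calc a * (a * d) = (a * a) * d := by group
        _ = d := by rw [ha2, one_mul]
    · right; right; right; left
      calc a * (d * a * d) = (a * d * a) * d := by group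
        _ = (d * a * d) * d := by rw [hb]
        _ = d * a * (d * d) := by group
        _ = d * a := by rw [hd2, mul_one]
  have key : ∀ y, InL d a y → InL d a (x * y) := by
    induction hx using Subgroup.closure_induction'' with
    | mem g hg =>
      rcases hg with rfl | hg
      · exact hdL
      · rw [Set.mem_singleton_iff] at hg; subst hg; exact haL
    | inv_mem g hg =>
      rcases hg with rfl | hg
      · rw [hdinv]; exact hdL
      · rw [Set.mem_singleton_iff] at hg; subst hg; rw [hainv]; exact haL
    | one => intro y hy; rwa [one_mul]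
    | mul g₁ g₂ _ _ ih1 ih2 =>
      intro y hy
      rw [mul_assoc]
      exact ih1 _ (ih2 _ hy)
  have := key 1 (Or.inl rfl)
  rwa [mul_one] at this

/-- Every element lies in one of the four cosets `H, vH, avH, davH`, `H = ⟨d, a⟩`. -/
theorem exists_coset {d v a a' : G} (hdv : IsPartner D d v) (haa' : IsPartner D a a')
    (had : ¬ Commute a d) (hgen : Subgroup.closure D = ⊤) (g : G) :
    ∃ c : G, (c = 1 ∨ c = v ∨ c = a * v ∨ c = d * a * v) ∧
      ∃ k ∈ Subgroup.closure ({d, a} : Set G), g = c * k := by
  have hd := hdv.1
  have hv := hdv.2.1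
  have ha := haa'.1
  have hd2 := sq_eq_one h.hS hd
  have hv2 := sq_eq_one h.hS hv
  have ha2 := sq_eq_one h.hS ha
  have hdinv : d⁻¹ = d := inv_eq h.hS hd
  have hvinv : v⁻¹ = v := inv_eq h.hS hv
  have hainv : a⁻¹ = a := inv_eq h.hS ha
  have hav : ¬ Commute a v := fun hcm => had (((h.partner_veq hdv).2 a ha).1 hcm.symm).symm
  have hb1 : a * d * a = d * a * d := braid h.hS ha hd had
  have hb2 : v * a * v = a * v * a := braid h.hS hv ha (fun hcm => hav hcm.symm)
  have hdvc : d * v = v * d := hdv.2.2.2.eq
  set H := Subgroup.closure ({d, a} : Set G) with hH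
  have hdH : d ∈ H := Subgroup.subset_closure (by simp)
  have haH : a ∈ H := Subgroup.subset_closure (by simp)
  let P : G → Prop := fun c => c = 1 ∨ c = v ∨ c = a * v ∨ c = d * a * v
  have hdP : ∀ c, P c → ∃ c', P c' ∧ ∃ k ∈ H, d * c = c' * k := by
    rintro c (hc | hc | hc | hc) <;> rw [hc]
    · exact ⟨1, Or.inl rfl, d, hdH, by group⟩
    · exact ⟨v, Or.inr (Or.inl rfl), d, hdH, hdvc⟩
    · exact ⟨d * a * v, Or.inr (Or.inr (Or.inr rfl)), 1, H.one_mem, by group⟩
    · refine ⟨a * v, Or.inr (Or.inr (Or.inl rfl)), 1, H.one_mem, ?_⟩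
      calc d * (d * a * v) = (d * d) * a * v := by group
        _ = a * v * 1 := by rw [hd2, one_mul, mul_one]
  have hvP : ∀ c, P c → ∃ c', P c' ∧ ∃ k ∈ H, v * c = c' * k := by
    rintro c (hc | hc | hc | hc) <;> rw [hc]
    · exact ⟨v, Or.inr (Or.inl rfl), 1, H.one_mem, by group⟩
    · exact ⟨1, Or.inl rfl, 1, H.one_mem, by rw [hv2]; group⟩
    · refine ⟨a * v, Or.inr (Or.inr (Or.inl rfl)), a, haH, ?_⟩
      calc v * (a * v) = v * a * v := by group
        _ = a * v * a := hb2
    · refine ⟨d * a * v, Or.inr (Or.inr (Or.inr rfl)), a, haH, ?_⟩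
      calc v * (d * a * v) = (v * d) * a * v := by group
        _ = (d * v) * a * v := by rw [hdvc]
        _ = d * (v * a * v) := by group
        _ = d * (a * v * a) := by rw [hb2]
        _ = d * a * v * a := by group
  have haP : ∀ c, P c → ∃ c', P c' ∧ ∃ k ∈ H, a * c = c' * k := by
    rintro c (hc | hc | hc | hc) <;> rw [hc]
    · exact ⟨1, Or.inl rfl, a, haH, by group⟩
    · exact ⟨a * v, Or.inr (Or.inr (Or.inl rfl)), 1, H.one_mem, by group⟩
    · refine ⟨v, Or.inr (Or.inl rfl), 1, H.one_mem, ?_⟩
      calc a * (a * v) = (a * a) * v := by group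
        _ = v * 1 := by rw [ha2, one_mul, mul_one]
    · refine ⟨d * a * v, Or.inr (Or.inr (Or.inr rfl)), d, hdH, ?_⟩
      calc a * (d * a * v) = (a * d * a) * v := by group
        _ = (d * a * d) * v := by rw [hb1]
        _ = d * a * (d * v) := by group
        _ = d * a * (v * d) := by rw [hdvc]
        _ = d * a * v * d := by group
  have hg : g ∈ Subgroup.closure ({d, v, a} : Set G) := by
    rw [h.closure_three hdv haa' had hgen]; exact Subgroup.mem_top g
  have key : ∀ c, P c → ∃ c', P c' ∧ ∃ k ∈ H, g * c = c' * k := by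
    induction hg using Subgroup.closure_induction'' with
    | mem x hx =>
      rcases hx with rfl | rfl | hx
      · exact hdP
      · exact hvP
      · rw [Set.mem_singleton_iff] at hx; subst hx; exact haP
    | inv_mem x hx =>
      rcases hx with rfl | rfl | hx
      · rw [hdinv]; exact hdP
      · rw [hvinv]; exact hvP
      · rw [Set.mem_singleton_iff] at hx; subst hx; rw [hainv]; exact haP
    | one => intro c hc; exact ⟨c, hc, 1, H.one_mem, by group⟩
    | mul g₁ g₂ _ _ ih1 ih2 =>
      intro c hc
      obtain ⟨c', hc', k, hk, e⟩ := ih2 c hc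
      obtain ⟨c'', hc'', k', hk', e'⟩ := ih1 c' hc'
      refine ⟨c'', hc'', k' * k, H.mul_mem hk' hk, ?_⟩
      calc g₁ * g₂ * c = g₁ * (g₂ * c) := by group
        _ = g₁ * (c' * k) := by rw [e]
        _ = (g₁ * c') * k := by group
        _ = (c'' * k') * k := by rw [e']
        _ = c'' * (k' * k) := by group
  obtain ⟨c', hc', k, hk, e⟩ := key 1 (Or.inl rfl)
  rw [mul_one] at e
  exact ⟨c', hc', k, hk, e⟩

end PairCtx

end Cfsg.Agent.Lib.H26.ThreeTrans
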