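import Cfsg.Agent.Lib.H26.ThreeTransS4b

set_option autoImplicit false

/-!
Part 3 (helper26): orders and the isomorphism with `S_4`.
-/

namespace Cfsg.Agent.Lib.H26.ThreeTrans

open Cfsg

variable {G : Type*} [Group G] {D : Set G}

namespace PairCtx

variable (h : PairCtx D)
include h

theorem card_closure_pair [Finite G] {d a : G} (hd : d ∈ D) (ha : a ∈ D) (had : ¬ Commute a d) :
    Nat.card (Subgroup.closure ({d, a} : Set G)) = 6 := by
  have hne : d ≠ a := by
    rintro rfl
    exact had (Commute.refl _)
  obtain ⟨e⟩ := Cfsg.Agent.Lib.H1.twoInv_closure_equiv_dihedral (h.hS.1 d hd) (h.hS.1 a ha) hne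
  have h3 : (d * a) ^ 3 = 1 :=
    (commute_or_cube h.hS hd ha).resolve_left (fun hcm => had hcm.symm)
  have hne1 : d * a ≠ 1 := by
    intro h1
    apply hne
    have ha2 := sq_eq_one h.hS ha
    calc d = d * (a * a) := by rw [ha2, mul_one]
      _ = (d * a) * a := by group
      _ = a := by rw [h1, one_mul]
  haveI : Fact (Nat.Prime 3) := ⟨Nat.prime_three⟩
  have ho : orderOf (d * a) = 3 := orderOf_eq_prime h3 hne1
  rw [Nat.card_congr e.toEquiv, DihedralGroup.nat_card, ho]

theorem card_le [Finite G] {d v a a' : G} (hdv : IsPartner D d v) (haa' : IsPartner D a a')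
    (had : ¬ Commute a d) (hgen : Subgroup.closure D = ⊤) : Nat.card G ≤ 24 := by
  let cs : Fin 4 → G := ![1, v, a * v, d * a * v]
  let f : Fin 4 × Subgroup.closure ({d, a} : Set G) → G := fun x => cs x.1 * (x.2 : G)
  have hf : Function.Surjective f := by
    intro g
    obtain ⟨c, hc, k, hk, e⟩ := h.exists_coset hdv haa' had hgen g
    rcases hc with rfl | rfl | rfl | rfl
    · exact ⟨(0, ⟨k, hk⟩), e.symm⟩
    · exact ⟨(1, ⟨k, hk⟩), e.symm⟩
    · exact ⟨(2, ⟨k, hk⟩), e.symm⟩
    · exact ⟨(3, ⟨k, hk⟩), e.symm⟩
  have := Nat.card_le_card_of_surjective f hf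
  rw [Nat.card_prod, Nat.card_fin, h.card_closure_pair hdv.1 haa'.1 had] at this
  exact this

omit h in
theorem sq_of_mem (hS : IsThreeTranspositionSet D) {x : G} (hx : x ∈ D) : x * x = 1 :=
  sq_eq_one hS hx

theorem not_inL_partner {d v a a' : G} (hdv : IsPartner D d v) (haa' : IsPartner D a a')
    (had : ¬ Commute a d) : ¬ InL d a v := by
  have hd := hdv.1
  have hv := hdv.2.1
  have ha := haa'.1
  have hd2 := sq_eq_one h.hS hd
  have hv2 := sq_eq_one h.hS hv
  have ha2 := sq_eq_one h.hS ha
  rintro (e | e | e | e | e | e)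
  · exact ne_one h.hS hv e
  · exact hdv.2.2.1 e
  · apply had
    rw [← e]
    exact hdv.2.2.2.symm
  · apply had
    have : (d * a) ^ 2 = 1 := by rw [pow_two, ← e]; exact hv2
    exact (commute_of_sq hd2 ha2 this).symm
  · apply had
    have : (a * d) ^ 2 = 1 := by rw [pow_two, ← e]; exact hv2
    exact commute_of_sq ha2 hd2 this
  · have hcm : Commute d (d * a * d) := by rw [← e]; exact hdv.2.2.2
    apply had
    have e1 : d * (d * a * d) = d * a * d * d := hcm
    show a * d = d * a
    calc a * d = (d * d) * a * d := by rw [hd2, one_mul]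
      _ = d * (d * a * d) := by group
      _ = d * a * d * d := e1
      _ = d * a * (d * d) := by group
      _ = d * a := by rw [hd2, mul_one]

theorem normalCore_eq_bot {d v a a' : G} (hdv : IsPartner D d v) (haa' : IsPartner D a a')
    (had : ¬ Commute a d) : (Subgroup.closure ({d, a} : Set G)).normalCore = ⊥ := by
  have hd := hdv.1
  have hv := hdv.2.1
  have ha := haa'.1
  have hd2 := sq_eq_one h.hS hd
  have hv2 := sq_eq_one h.hS hv
  have ha2 := sq_eq_one h.hS ha
  have hdinv : d⁻¹ = d := inv_eq h.hS hd
  have hvinv : v⁻¹ = v := inv_eq h.hS hv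
  have hainv : a⁻¹ = a := inv_eq h.hS ha
  have hav : ¬ Commute a v := fun hcm => had (((h.partner_veq hdv).2 a ha).1 hcm.symm).symm
  have hb1 : a * d * a = d * a * d := braid h.hS ha hd had
  set H := Subgroup.closure ({d, a} : Set G) with hH
  set K := H.normalCore with hK
  have hKH : K ≤ H := Subgroup.normalCore_le H
  have hKn : K.Normal := Subgroup.normalCore_normal H
  have hL : ∀ x ∈ H, InL d a x := fun x hx => mem_closure_pair_inL hd2 ha2 hb1 hx
  -- d ∉ K
  have hdK : d ∉ K := by
    intro hdK
    have hvK : v ∈ K := by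
      have e := conj_path h.hS hd hv ha hdv.2.2.2 (fun hcm => had hcm.symm)
        (fun hcm => hav hcm.symm)
      rw [← e]
      exact hKn.conj_mem _ hdK _
    exact h.not_inL_partner hdv haa' had (hL v (hKH hvK))
  have haK : a ∉ K := by
    intro haK
    apply hdK
    have e : (a * d) * a * (a * d)⁻¹ = d := by
      rw [mul_inv_rev, hdinv, hainv]
      calc a * d * a * (d * a) = a * (d * a * d) * a := by group
        _ = a * (a * d * a) * a := by rw [hb1]
        _ = (a * a) * d * (a * a) := by group
        _ = d := by rw [ha2, one_mul, mul_one]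
    rw [← e]
    exact hKn.conj_mem _ haK _
  have hbK : d * a * d ∉ K := by
    intro hbK
    apply haK
    have e : d * (d * a * d) * d⁻¹ = a := by
      rw [hdinv]
      calc d * (d * a * d) * d = (d * d) * a * (d * d) := by group
        _ = a := by rw [hd2, one_mul, mul_one]
    rw [← e]
    exact hKn.conj_mem _ hbK _
  have hdaK : d * a ∉ K := by
    intro hdaK
    have hw : v * (d * a) * v⁻¹ ∈ K := hKn.conj_mem _ hdaK _
    have e : v * (d * a) * v⁻¹ = d * (v * a * v) := by
      rw [hvinv]
      calc v * (d * a) * v = (v * d) * a * v := by group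
        _ = (d * v) * a * v := by rw [hdv.2.2.2.eq]
        _ = d * (v * a * v) := by group
    rw [e] at hw
    have hwD : v * a * v ∈ D := conj_mem' h.hS h.hconj ha hv
    have hw2 := sq_eq_one h.hS hwD
    have key : ∀ z : G, d * (v * a * v) = d * z → v * a * v = z := fun z hz => mul_left_cancel hz
    rcases hL _ (hKH hw) with e1 | e1 | e1 | e1 | e1 | e1
    · -- d w = 1
      have hwd : v * a * v = d := by
        calc v * a * v = (d * d) * (v * a * v) := by rw [hd2, one_mul]
          _ = d * (d * (v * a * v)) := by group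
          _ = d := by rw [e1, mul_one]
      apply had
      have : a = d := by
        calc a = (v * v) * a * (v * v) := by rw [hv2, one_mul, mul_one]
          _ = v * (v * a * v) * v := by group
          _ = v * d * v := by rw [hwd]
          _ = (d * v) * v := by rw [hdv.2.2.2.eq]
          _ = d * (v * v) := by group
          _ = d := by rw [hv2, mul_one]
      rw [this]
    · -- d w = d
      have : v * a * v = 1 := by
        have : d * (v * a * v) = d * 1 := by rw [mul_one]; exact e1
        exact mul_left_cancel this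
      exact ne_one h.hS hwD this
    · -- d w = a  ⇒ w = d a
      have hwda : v * a * v = d * a := by
        calc v * a * v = (d * d) * (v * a * v) := by rw [hd2, one_mul]
          _ = d * (d * (v * a * v)) := by group
          _ = d * a := by rw [e1]
      apply had
      have : (d * a) ^ 2 = 1 := by rw [pow_two, ← hwda]; exact hw2
      exact (commute_of_sq hd2 ha2 this).symm
    · -- d w = d a ⇒ w = a
      have hwa := key a e1
      apply hav
      show a * v = v * a
      calc a * v = (v * a * v) * v := by rw [hwa]
        _ = v * a * (v * v) := by group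
        _ = v * a := by rw [hv2, mul_one]
    · -- d w = a d ⇒ w = d a d
      have hwb : v * a * v = d * a * d := by
        calc v * a * v = (d * d) * (v * a * v) := by rw [hd2, one_mul]
          _ = d * (d * (v * a * v)) := by group
          _ = d * (a * d) := by rw [e1]
          _ = d * a * d := by group
      have hne := h.conj_ne hd hv ha hdv.2.2.2 (fun e => hdv.2.2.1 e.symm) had hav
      apply hne
      rw [mul_inv_rev, hdinv, hvinv]
      calc d * v * a * (v * d) = d * (v * a * v) * d := by group
        _ = d * (d * a * d) * d := by rw [hwb]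
        _ = (d * d) * a * (d * d) := by group
        _ = a := by rw [hd2, one_mul, mul_one]
    · -- d w = d a d ⇒ w = a d
      have hwad : v * a * v = a * d := by
        apply key
        rw [e1]; group
      apply had
      have : (a * d) ^ 2 = 1 := by rw [pow_two, ← hwad]; exact hw2
      exact commute_of_sq ha2 hd2 this
  have hadK : a * d ∉ K := by
    intro hadK
    apply hdaK
    have := K.inv_mem hadK
    rwa [mul_inv_rev, hdinv, hainv] at this
  rw [eq_bot_iff]
  intro x hx
  rw [Subgroup.mem_bot]
  rcases hL x (hKH hx) with e | e | e | e | e | e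
  · exact e
  · exact absurd (e ▸ hx) hdK
  · exact absurd (e ▸ hx) haK
  · exact absurd (e ▸ hx) hdaK
  · exact absurd (e ▸ hx) hadK
  · exact absurd (e ▸ hx) hbK

/-- **Theorem.** The group is `S_4`. -/
theorem equiv_perm_four [Finite G] {d v a a' : G} (hdv : IsPartner D d v)
    (haa' : IsPartner D a a') (had : ¬ Commute a d) (hgen : Subgroup.closure D = ⊤) :
    Nonempty (G ≃* Equiv.Perm (Fin 4)) := by
  classical
  set H := Subgroup.closure ({d, a} : Set G) with hH
  let ρ : G →* Equiv.Perm (G ⧸ H) := MulAction.toPermHom G (G ⧸ H)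
  have hker : ρ.ker = ⊥ := by
    rw [← Subgroup.normalCore_eq_ker]
    exact h.normalCore_eq_bot hdv haa' had
  have hinj : Function.Injective ρ := (MonoidHom.ker_eq_bot_iff ρ).1 hker
  have hcardH : Nat.card H = 6 := h.card_closure_pair hdv.1 haa'.1 had
  have hG : Nat.card G = H.index * 6 := by
    rw [← hcardH, mul_comm]; exact (Subgroup.card_mul_index H).symm
  have hle := h.card_le hdv haa' had hgen
  have hk4 : H.index ≤ 4 := by omega
  have hk0 : H.index ≠ 0 := Subgroup.index_ne_zero_of_finite
  have hperm : Nat.card (Equiv.Perm (G ⧸ H)) = (H.index).factorial := by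
    rw [Nat.card_perm, ← Subgroup.index_eq_card]
  have hle2 : Nat.card G ≤ Nat.card (Equiv.Perm (G ⧸ H)) :=
    Nat.card_le_card_of_injective ρ hinj
  rw [hG, hperm] at hle2
  have hk : H.index = 4 := by
    have : H.index = 1 ∨ H.index = 2 ∨ H.index = 3 ∨ H.index = 4 := by omega
    rcases this with e | e | e | e
    · rw [e] at hle2; norm_num [Nat.factorial] at hle2
    · rw [e] at hle2; norm_num [Nat.factorial] at hle2
    · rw [e] at hle2; norm_num [Nat.factorial] at hle2
    · exact e
  have hbij : Function.Bijective ρ := by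
    apply hinj.bijective_of_nat_card_le
    rw [hG, hperm, hk]
    norm_num [Nat.factorial]
  have hcq : Nat.card (G ⧸ H) = 4 := by rw [← Subgroup.index_eq_card, hk]
  exact ⟨(MulEquiv.ofBijective ρ hbij).trans (Finite.equivFinOfCardEq hcq).permCongrHom⟩

end PairCtx

end Cfsg.Agent.Lib.H26.ThreeTrans
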