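import Mathlib
import Cfsg.Agent.Lib.H26.TwoMinDefs
import Cfsg.Agent.Lib.H16.PGroupBasic
import Cfsg.Agent.Lib.H7.TwoMinGEN1
import Cfsg.Agent.Lib.H7.TwoMinGEN2
import Cfsg.Agent.Lib.H7.TwoMinGEN3
import Cfsg.Agent.Lib.H8.TwoMinGEN0
import Cfsg.Agent.Lib.H8.TwoMinL1
import Cfsg.Agent.Lib.H8.TwoMinN2
import Cfsg.Agent.Lib.H8.TwoMinP3
import Cfsg.Agent.Lib.H11.TwoMinT4
import Cfsg.Agent.Lib.H11.TwoMinN3
import Cfsg.Agent.Lib.H23.TwoMinP5
import Cfsg.Agent.Lib.H24.TwoMinK2V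
import Cfsg.Agent.Lib.H24.TwoMinK2Q
import Cfsg.Agent.Lib.H24.TwoMinCV
import Cfsg.Agent.Lib.H24.TwoMinCQ
import Cfsg.Agent.Lib.H11.TwoMinT8
import Cfsg.Agent.Lib.H23.TwoMinP6

set_option autoImplicit false
open scoped commutatorElement

/-!
# S4409: Lemma K (assembly) and the first layer.
-/

namespace Cfsg.Agent.Lib.H26.TwoMin

open Cfsg.Agent.Lib.H7.TwoMin Cfsg.Agent.Lib.H8.TwoMin Cfsg.Agent.Lib.H11.TwoMin Cfsg.Agent.Lib.H23.TwoMin
  Cfsg.Agent.Lib.H24.TwoMin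

variable {G : Type*} [Group G]

theorem AFree.mono {Y Y' : Subgroup G} (h : AFree Y) (hle : Y' ≤ Y) : AFree Y' :=
  fun A hA => h A (hA.trans hle)

/-- `g ∈ N(Y) ∩ N(Y₀)` normalizes `N_Y(Y₀)`. -/
theorem mem_normalizer_inf_normalizer {Y Y₀ : Subgroup G} {g : G}
    (hY : g ∈ Subgroup.normalizer (Y : Set G)) (hY₀ : g ∈ Subgroup.normalizer (Y₀ : Set G)) :
    g ∈ Subgroup.normalizer ((Y ⊓ Subgroup.normalizer (Y₀ : Set G) : Subgroup G) : Set G) := by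
  rw [Subgroup.mem_normalizer_iff]
  intro x
  rw [Subgroup.mem_inf, Subgroup.mem_inf, ← (Subgroup.mem_normalizer_iff.mp hY) x]
  constructor
  · rintro ⟨h1, h2⟩
    exact ⟨h1, Subgroup.mul_mem _ (Subgroup.mul_mem _ hY₀ h2) (Subgroup.inv_mem _ hY₀)⟩
  · rintro ⟨h1, h2⟩
    refine ⟨h1, ?_⟩
    have := Subgroup.mul_mem _ (Subgroup.mul_mem _ (Subgroup.inv_mem _ hY₀) h2) hY₀
    simpa [mul_assoc] using this

/-- `g ∈ N(Y)` normalizes `Z(Y) = Y ⊓ C(Y)`. -/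
theorem mem_normalizer_inf_centralizer {Y : Subgroup G} {g : G}
    (hY : g ∈ Subgroup.normalizer (Y : Set G)) :
    g ∈ Subgroup.normalizer ((Y ⊓ Subgroup.centralizer (Y : Set G) : Subgroup G) : Set G) := by
  rw [Subgroup.mem_normalizer_iff]
  intro x
  rw [Subgroup.mem_inf, Subgroup.mem_inf, ← (Subgroup.mem_normalizer_iff.mp hY) x]
  have key : ∀ (k : G), k ∈ Subgroup.normalizer (Y : Set G) → ∀ x : G,
      x ∈ Subgroup.centralizer (Y : Set G) → k * x * k⁻¹ ∈ Subgroup.centralizer (Y : Set G) := by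
    intro k hk x hx
    rw [Subgroup.mem_centralizer_iff] at hx ⊢
    intro y hy
    have hy' : k⁻¹ * y * k ∈ Y := by
      have := (Subgroup.mem_normalizer_iff.mp (Subgroup.inv_mem _ hk) y).mp hy
      simpa using this
    have := hx _ hy'
    calc y * (k * x * k⁻¹) = k * ((k⁻¹ * y * k) * x) * k⁻¹ := by group
      _ = k * (x * (k⁻¹ * y * k)) * k⁻¹ := by rw [this]
      _ = k * x * k⁻¹ * y := by group
  constructor
  · rintro ⟨h1, h2⟩
    exact ⟨h1, key g hY x h2⟩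
  · rintro ⟨h1, h2⟩
    refine ⟨h1, ?_⟩
    have := key g⁻¹ (Subgroup.inv_mem _ hY) _ h2
    simpa [mul_assoc] using this

/-- Going up from a four-group. -/
theorem v4_up [Finite G] {Y Y₀ : Subgroup G} {g : G} (h2 : IsPGroup 2 ↥Y) (hA : AFree Y) (hle : Y₀ ≤ Y)
    (hV : V4Type Y₀) (hgo : Odd (orderOf g)) (hgY : g ∈ Subgroup.normalizer (Y : Set G))
    (hgN : g ∈ Subgroup.normalizer (Y₀ : Set G)) (hgC : g ∉ Subgroup.centralizer (Y₀ : Set G)) : Y₀ = Y := by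
  by_contra hne
  have hlt : Y₀ < Y := lt_of_le_of_ne hle hne
  haveI : Fact (Nat.Prime 2) := ⟨Nat.prime_two⟩
  obtain ⟨n, hnY, hnY₀, hnN⟩ := Cfsg.Agent.Lib.H16.exists_mem_normalizer_not_mem Y Y₀ h2 hlt
  have hN2 : IsPGroup 2 ↥(Y ⊓ Subgroup.normalizer (Y₀ : Set G)) := h2.to_le inf_le_left
  have hcen := v4_central (X := Y ⊓ Subgroup.normalizer (Y₀ : Set G)) (Y := Y₀) (g := g) hN2
    (le_inf hle Subgroup.le_normalizer) hV inf_le_right hgo (mem_normalizer_inf_normalizer hgY hgN) hgN hgC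
  have hnC : n ∈ Y ⊓ Subgroup.centralizer (Y₀ : Set G) := by
    refine Subgroup.mem_inf.mpr ⟨hnY, ?_⟩
    rw [Subgroup.mem_centralizer_iff]
    intro y hy
    have := Subgroup.mem_centralizer_iff.mp (hcen hy) n ⟨hnY, hnN⟩
    exact this.symm
  exact hnY₀ (v4_centralizer_le h2 hA hle hV hnC)

/-- Going up from a quaternion group. -/
theorem q8_up [Finite G] {Y Y₀ : Subgroup G} {z g : G} (h2 : IsPGroup 2 ↥Y) (hA : AFree Y) (hle : Y₀ ≤ Y)
    (hQ : Q8Type Y₀ z) (hgo : Odd (orderOf g)) (hgY : g ∈ Subgroup.normalizer (Y : Set G))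
    (hgN : g ∈ Subgroup.normalizer (Y₀ : Set G)) (hgC : g ∉ Subgroup.centralizer (Y₀ : Set G)) : Y₀ = Y := by
  by_contra hne
  have hlt : Y₀ < Y := lt_of_le_of_ne hle hne
  haveI : Fact (Nat.Prime 2) := ⟨Nat.prime_two⟩
  obtain ⟨n, hnY, hnY₀, hnN⟩ := Cfsg.Agent.Lib.H16.exists_mem_normalizer_not_mem Y Y₀ h2 hlt
  have hN2 : IsPGroup 2 ↥(Y ⊓ Subgroup.normalizer (Y₀ : Set G)) := h2.to_le inf_le_left
  have hfac := q8_factor (X := Y ⊓ Subgroup.normalizer (Y₀ : Set G)) (Y := Y₀) (z := z) (g := g) hN2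
    (le_inf hle Subgroup.le_normalizer) hQ inf_le_right hgo (mem_normalizer_inf_normalizer hgY hgN) hgN hgC
  have hle' : Y ⊓ Subgroup.normalizer (Y₀ : Set G) ≤ Y₀ := by
    calc Y ⊓ Subgroup.normalizer (Y₀ : Set G)
        = Y₀ ⊔ ((Y ⊓ Subgroup.normalizer (Y₀ : Set G)) ⊓ Subgroup.centralizer (Y₀ : Set G)) := hfac.symm
      _ ≤ Y₀ := sup_le le_rfl
          ((inf_le_inf_right _ inf_le_left).trans (q8_centralizer_le h2 hA hle hQ))
  exact hnY₀ (hle' ⟨hnY, hnN⟩)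

theorem coprime_of_odd_of_isPGroup [Finite G] {Y A : Subgroup G} (h2 : IsPGroup 2 ↥Y) (hodd : Odd (Nat.card ↥A)) :
    (Nat.card ↥A).Coprime (Nat.card ↥Y) := by
  haveI : Fact (Nat.Prime 2) := ⟨Nat.prime_two⟩
  obtain ⟨k, hk⟩ := h2.exists_card_eq
  rw [hk]
  exact Nat.Coprime.pow_right k (Nat.coprime_two_right.mpr hodd)

/-- **Lemma K**. -/
theorem lemmaK [Finite G] (Y : Subgroup G) (g : G) (h2 : IsPGroup 2 ↥Y) (hA : AFree Y) (hgo : Odd (orderOf g))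
    (hgN : g ∈ Subgroup.normalizer (Y : Set G)) (hgC : g ∉ Subgroup.centralizer (Y : Set G)) :
    V4Type Y ∨ ∃ z, Q8Type Y z := by
  classical
  have hex : ∃ U : Subgroup G, U ∈ {U : Subgroup G | U ≤ Y ∧ g ∈ Subgroup.normalizer (U : Set G) ∧
      g ∉ Subgroup.centralizer (U : Set G)} := ⟨Y, le_rfl, hgN, hgC⟩
  obtain ⟨Y₀, ⟨hle, hgN₀, hgC₀⟩, hmin⟩ := WellFounded.has_min (wellFounded_lt (α := Subgroup G)) _ hex
  have hm : MinActs Y₀ g := by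
    refine ⟨hgN₀, hgC₀, ?_⟩
    intro U hU hUn
    by_contra hUc
    exact hmin U ⟨hU.le.trans hle, hUn, hUc⟩ hU
  have h2₀ : IsPGroup 2 ↥Y₀ := h2.to_le hle
  have hA₀ : AFree Y₀ := hA.mono hle
  by_cases hab : ∀ a ∈ Y₀, ∀ b ∈ Y₀, a * b = b * a
  · have hV := min_abelian h2₀ hA₀ hgo hm hab
    have := v4_up h2 hA hle hV hgo hgN hgN₀ hgC₀
    subst this
    exact Or.inl hV
  · right
    have hAN : Subgroup.zpowers g ≤ Subgroup.normalizer (Y₀ : Set G) := Subgroup.zpowers_le.mpr hgN₀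
    have hodd : Odd (Nat.card ↥(Subgroup.zpowers g)) := by rw [Nat.card_zpowers]; exact hgo
    have hcop := coprime_of_odd_of_isPGroup h2₀ hodd
    have hnc : ¬ Subgroup.zpowers g ≤ Subgroup.centralizer (Y₀ : Set G) := fun h =>
      hgC₀ (Subgroup.zpowers_le.mp h)
    have hmin' : ∀ U : Subgroup G, U < Y₀ → Subgroup.zpowers g ≤ Subgroup.normalizer (U : Set G) →
        Subgroup.zpowers g ≤ Subgroup.centralizer (U : Set G) := fun U hU hUn =>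
      Subgroup.zpowers_le.mpr (hm.2.2 U hU (Subgroup.zpowers_le.mp hUn))
    have hYA := commutator_eq_of_min hAN hcop (Or.inl inferInstance) hnc hmin'
    obtain ⟨hsq, _⟩ := class_two_of_min h2₀ hAN hYA hmin'
    have hZ := center_card_two h2₀ hA₀ hsq hab
    obtain ⟨z, hQ⟩ := min_q8 h2₀ hA₀ hgo hm hsq hZ
    have := q8_up h2 hA hle hQ hgo hgN hgN₀ hgC₀
    subst this
    exact ⟨z, hQ⟩

/-- The first layer. -/
theorem layer1 [Finite G] : Layer1 G where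
  lemmaK := fun Y g h2 hA hgo hgN hgC => lemmaK Y g h2 hA hgo hgN hgC
  v4_no_fixed := fun _ _ hV hgo hgN hgC => v4_no_fixed hV hgo hgN hgC
  q8_no_fixed := fun _ _ _ hQ hgo hgN hgC => q8_no_fixed hQ hgo hgN hgC
  v4_central := fun _ _ _ h2 hYX hV hXN hgo hgX hgY hgC => v4_central h2 hYX hV hXN hgo hgX hgY hgC
  q8_factor := fun _ _ _ _ h2 hYX hQ hXN hgo hgX hgY hgC => q8_factor h2 hYX hQ hXN hgo hgX hgY hgC

end Cfsg.Agent.Lib.H26.TwoMin
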