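import Mathlib
import Cfsg.Agent.Lib.H26.TwoMinDefs
import Cfsg.Agent.Lib.H26.TwoMinK
import Cfsg.Agent.Lib.H1.CoprimeAction
import Cfsg.Agent.Lib.H7.TwoMinA1D
import Cfsg.Agent.Lib.H7.TwoMinMC1
import Cfsg.Agent.Lib.H7.TwoMinMC2
import Cfsg.Agent.Lib.H7.TwoMinMC3
import Cfsg.Agent.Lib.H20.TwoMinN1
import Cfsg.Agent.Lib.H26.TwoMinMBV
import Cfsg.Agent.Lib.H24.TwoMinMBQ
import Cfsg.Agent.Lib.H22.TwoMinMA2V
import Cfsg.Agent.Lib.H5.TwoMinMA2Q

set_option autoImplicit false
open scoped commutatorElement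

/-!
# S4409: classification of `X` in the `Setup` situation (assembly).
-/

namespace Cfsg.Agent.Lib.H26.TwoMin

open Cfsg.Agent.Lib.H5.TwoMin Cfsg.Agent.Lib.H7.TwoMin Cfsg.Agent.Lib.H8.TwoMin Cfsg.Agent.Lib.H11.TwoMin
  Cfsg.Agent.Lib.H20.TwoMin Cfsg.Agent.Lib.H22.TwoMin Cfsg.Agent.Lib.H23.TwoMin Cfsg.Agent.Lib.H24.TwoMin

variable {G : Type*} [Group G]

theorem Setup.le_normalizer {X H : Subgroup G} (h : Setup X H) :
    H ≤ Subgroup.normalizer (X : Set G) := by
  intro g _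
  rw [Subgroup.mem_normalizer_iff]
  intro x
  constructor
  · intro hx
    exact h.normal.conj_mem x hx g
  · intro hx
    have := h.normal.conj_mem _ hx g⁻¹
    simpa [mul_assoc] using this

theorem Setup.coprime [Finite G] {X H : Subgroup G} (h : Setup X H) :
    (Nat.card ↥H).Coprime (Nat.card ↥X) := coprime_of_odd_of_isPGroup h.two h.odd

theorem Setup.coprimeAction [Finite G] {X H : Subgroup G} (h : Setup X H) :
    Cfsg.Agent.Lib.H1.CoprimeAction H X where
  normalizes := h.le_normalizer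
  coprime := h.coprime
  solvable := by
    right
    haveI : Fact (Nat.Prime 2) := ⟨Nat.prime_two⟩
    haveI := h.two.isNilpotent
    infer_instance

theorem Setup.odd_orderOf [Finite G] {X H : Subgroup G} (h : Setup X H) {g : G} (hg : g ∈ H) :
    Odd (orderOf g) := by
  have h1 : orderOf (⟨g, hg⟩ : H) = orderOf g := Subgroup.orderOf_mk g hg
  have h2 : orderOf (⟨g, hg⟩ : H) ∣ Nat.card ↥H := orderOf_dvd_natCard _
  rw [h1] at h2
  exact Odd.of_dvd_nat h.odd h2

/-- elementwise form of `¬ H ≤ C(Y)` -/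
theorem exists_not_mem_centralizer {H Y : Subgroup G} (hnc : ¬ H ≤ Subgroup.centralizer (Y : Set G)) :
    ∃ g ∈ H, g ∉ Subgroup.centralizer (Y : Set G) := by
  by_contra hcon
  push_neg at hcon
  exact hnc hcon

/-- **Case A1** (assembly of GEN1, GEN2, GEN3, A1D). -/
theorem caseA1 [Finite G] {X H : Subgroup G} (h : Setup X H) (hXH : ⁅X, H⁆ = X)
    (hcent : ∀ Y : Subgroup G, Y < X → H ≤ Subgroup.normalizer (Y : Set G) →
      H ≤ Subgroup.centralizer (Y : Set G))
    (hnab : ¬ ∀ a ∈ X, ∀ b ∈ X, a * b = b * a) :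
    ∃ Z : Subgroup G, SpecialIn X Z ∧ (Nat.card ↥Z = 2 ∨ Nat.card ↥Z = 4) := by
  have hHN := h.le_normalizer
  obtain ⟨hsq, hcomm⟩ := class_two_of_min h.two hHN hXH hcent
  have hZlt : X ⊓ Subgroup.centralizer (X : Set G) < X := by
    refine lt_of_le_of_ne inf_le_left ?_
    intro heq
    apply hnab
    intro a ha b hb
    have ha' : a ∈ X ⊓ Subgroup.centralizer (X : Set G) := by rw [heq]; exact ha
    exact (Subgroup.mem_centralizer_iff.mp ha'.2 b hb).symm
  have hHZ : H ≤ Subgroup.normalizer ((X ⊓ Subgroup.centralizer (X : Set G) : Subgroup G) : Set G) :=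
    fun g hg => mem_normalizer_inf_centralizer (hHN hg)
  have hHC := hcent _ hZlt hHZ
  have hsqA : ∀ x ∈ X, ∀ a ∈ H, a * x ^ 2 * a⁻¹ = x ^ 2 := by
    intro x hx a ha
    have hmem : x ^ 2 ∈ X ⊓ Subgroup.centralizer (X : Set G) := ⟨X.pow_mem hx 2, hsq x hx⟩
    have := Subgroup.mem_centralizer_iff.mp (hHC ha) _ hmem
    rw [← this]; group
  have hsqc := sq_mem_commutator_of_min hHN hXH hsq hsqA
  have hfix := fixed_le_commutator hHN h.coprime hXH
  have hZle : X ⊓ Subgroup.centralizer (X : Set G) ≤ ⁅X, X⁆ := by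
    intro z hz
    apply hfix
    refine Subgroup.mem_inf.mpr ⟨hz.1, ?_⟩
    rw [Subgroup.mem_centralizer_iff]
    intro a ha
    exact (Subgroup.mem_centralizer_iff.mp (hHC ha) z hz).symm
  have hcomle : ⁅X, X⁆ ≤ X ⊓ Subgroup.centralizer (X : Set G) := by
    rw [Subgroup.commutator_le]
    intro x hx y hy
    refine Subgroup.mem_inf.mpr ⟨?_, hcomm x hx y hy⟩
    have : ⁅x, y⁆ = x * y * x⁻¹ * y⁻¹ := rfl
    rw [this]
    exact X.mul_mem (X.mul_mem (X.mul_mem hx hy) (X.inv_mem hx)) (X.inv_mem hy)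
  have hS : SpecialIn X (X ⊓ Subgroup.centralizer (X : Set G)) :=
    ⟨rfl, le_antisymm hcomle hZle, fun x hx => hcomle (hsqc x hx)⟩
  exact ⟨_, hS, special_center_card h.two hS (h.inv _ hZlt hHZ) hnab⟩

/-- If `H` centralizes `X` then `X` is abelian. -/
theorem comm_of_centralized [Finite G] {X H : Subgroup G} (h : Setup X H)
    (hc : H ≤ Subgroup.centralizer (X : Set G)) : ∀ a ∈ X, ∀ b ∈ X, a * b = b * a := by
  have hnf := h.notfree
  unfold AFree at hnf
  push_neg at hnf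
  obtain ⟨A, hAX, hAc, hA8, hAn⟩ := hnf
  by_cases hAeq : A = X
  · subst hAeq
    exact hAc
  · exfalso
    have hlt : A < X := lt_of_le_of_ne hAX hAeq
    have hHA : H ≤ Subgroup.normalizer (A : Set G) := by
      intro g hg
      rw [Subgroup.mem_normalizer_iff]
      intro x
      have hcomm : ∀ y ∈ X, g * y * g⁻¹ = y := by
        intro y hy
        have := Subgroup.mem_centralizer_iff.mp (hc hg) y hy
        rw [← this]; group
      constructor
      · intro hx
        rw [hcomm x (hAX hx)]; exact hx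
      · intro hx
        have hx' : x ∈ X := by
          have := h.normal.conj_mem _ (hAX hx) g⁻¹
          simpa [mul_assoc] using this
        rw [hcomm x hx'] at hx; exact hx
    exact hAn (h.inv A hlt hHA A le_rfl hAc hA8)

/-- **Classification** of `X` in the `Setup` situation. -/
theorem classify [Finite G] {X H : Subgroup G} (h : Setup X H) :
    (∀ a ∈ X, ∀ b ∈ X, a * b = b * a) ∨
    (∃ Z : Subgroup G, SpecialIn X Z ∧ Nat.card ↥Z = 2 ∧ 32 ≤ Nat.card ↥X) ∨
    (∃ (W : Subgroup G) (z : G), W ≤ X ∧ Q8Type W z ∧ W.relIndex X = 2 ∧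
      W ⊔ (X ⊓ Subgroup.centralizer (W : Set G)) = X) ∨
    (∃ Z : Subgroup G, SpecialIn X Z ∧ Nat.card ↥Z = 4) := by
  by_cases hab : ∀ a ∈ X, ∀ b ∈ X, a * b = b * a
  · exact Or.inl hab
  right
  have L : Layer1 G := layer1
  have hHN := h.le_normalizer
  have hca := h.coprimeAction
  by_cases hXH : ⁅X, H⁆ = X
  · by_cases hcent : ∀ Y : Subgroup G, Y < X → H ≤ Subgroup.normalizer (Y : Set G) →
        H ≤ Subgroup.centralizer (Y : Set G)
    · obtain ⟨Z, hS, hZ | hZ⟩ := caseA1 h hXH hcent hab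
      · exact Or.inl ⟨Z, hS, hZ, card_ge_of_extraspecial h.two hS hZ h.notfree⟩
      · exact Or.inr (Or.inr ⟨Z, hS, hZ⟩)
    · push_neg at hcent
      obtain ⟨Y, hYX, hHY, hnc⟩ := hcent
      by_cases hv : ∃ U : Subgroup G, U < X ∧ H ≤ Subgroup.normalizer (U : Set G) ∧
          ¬ H ≤ Subgroup.centralizer (U : Set G) ∧ V4Type U
      · obtain ⟨U, hUX, hHU, hncU, hVU⟩ := hv
        exact Or.inr (Or.inr ⟨U, caseA2_v4 L h hUX hVU hHU hncU hab, hVU.1⟩)
      · have hno : ∀ U : Subgroup G, U < X → H ≤ Subgroup.normalizer (U : Set G) →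
            ¬ H ≤ Subgroup.centralizer (U : Set G) → ¬ V4Type U := fun U h1 h2 h3 h4 =>
          hv ⟨U, h1, h2, h3, h4⟩
        obtain ⟨g, hgH, hgC⟩ := exists_not_mem_centralizer hnc
        rcases lemmaK Y g (h.two.to_le hYX.le) (h.inv Y hYX hHY) (h.odd_orderOf hgH) (hHY hgH) hgC with
          hV | ⟨z, hQ⟩
        · exact absurd hV (hno Y hYX hHY hnc)
        · obtain ⟨hS, hcard⟩ := caseA2_q8 L h hXH hYX hQ hHY hnc hno
          refine Or.inl ⟨_, hS, ?_, hcard.ge⟩
          rw [Nat.card_zpowers]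
          exact orderOf_eq_prime (by rw [hQ.2.2.2.1]) hQ.2.2.1
  · -- case B
    right; left
    have hWX : ⁅X, H⁆ ≤ X := hca.commutator_le
    have hWlt : ⁅X, H⁆ < X := lt_of_le_of_ne hWX hXH
    have hHW : H ≤ Subgroup.normalizer ((⁅X, H⁆ : Subgroup G) : Set G) :=
      Subgroup.normalizer_commutator_ge_right X H
    have hnc : ¬ H ≤ Subgroup.centralizer ((⁅X, H⁆ : Subgroup G) : Set G) := by
      intro hc
      have h1 : ⁅⁅X, H⁆, H⁆ = ⊥ := by
        rw [Subgroup.commutator_eq_bot_iff_le_centralizer]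
        intro w hw
        rw [Subgroup.mem_centralizer_iff]
        intro a ha
        exact (Subgroup.mem_centralizer_iff.mp (hc ha) w hw).symm
      rw [Cfsg.Agent.Lib.H1.coprime_commutator_commutator hca] at h1
      apply hab
      apply comm_of_centralized h
      rw [Subgroup.commutator_comm, Subgroup.commutator_eq_bot_iff_le_centralizer] at h1
      exact h1
    obtain ⟨g, hgH, hgC⟩ := exists_not_mem_centralizer hnc
    rcases lemmaK _ g (h.two.to_le hWX) (h.inv _ hWlt hHW) (h.odd_orderOf hgH) (hHW hgH) hgC with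
      hV | ⟨z, hQ⟩
    · exact (caseB_v4_false L h hV hab).elim
    · obtain ⟨h1, h2⟩ := caseB_q8 L h hQ
      exact ⟨_, z, hWX, hQ, h1, h2⟩

end Cfsg.Agent.Lib.H26.TwoMin
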