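import Mathlib
import Cfsg.Agent.Lib.H26.TwoMinDefs
import Cfsg.Agent.Lib.H26.TwoMinK
import Cfsg.Agent.Lib.H26.TwoMinMain
import Cfsg.Agent.Lib.H1.PCore
import Cfsg.Agent.Lib.H1.SylowSystem
import Cfsg.Agent.Lib.H1.IndexBasic
import Cfsg.Agent.Lib.H1.Complement
import Cfsg.Agent.Lib.H16.SolvableCore

set_option autoImplicit false
open scoped commutatorElement

/-!
# S4409: reduction of the frozen hypotheses to `Setup`, and the conclusion.
-/

namespace Cfsg.Agent.Lib.H26.TwoMin

open Cfsg.Agent.Lib.H7.TwoMin Cfsg.Agent.Lib.H8.TwoMin Cfsg.Agent.Lib.H11.TwoMin Cfsg.Agent.Lib.H20.TwoMin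
  Cfsg.Agent.Lib.H23.TwoMin Cfsg.Agent.Lib.H24.TwoMin

variable {S : Type*} [Group S]

/-- the hypothesis on subgroups of 2-power index -/
def HMin (S : Type*) [Group S] : Prop :=
  ∀ R : Subgroup S, R ≠ ⊤ → (∃ k : ℕ, R.index = 2 ^ k) →
    ¬ ∃ A : Subgroup S, A ≤ R ∧ IsMulCommutative ↥A ∧ ¬ IsCyclic ↥A ∧ Nat.card ↥A = 8

theorem isMulCommutative_of_comm {A : Subgroup S} (hc : ∀ a ∈ A, ∀ b ∈ A, a * b = b * a) :
    IsMulCommutative ↥A :=
  ⟨⟨fun a b => Subtype.ext (hc a a.2 b b.2)⟩⟩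

theorem comm_of_isMulCommutative {A : Subgroup S} (h : IsMulCommutative ↥A) :
    ∀ a ∈ A, ∀ b ∈ A, a * b = b * a := by
  intro a ha b hb
  have := h.is_comm.comm (⟨a, ha⟩ : A) ⟨b, hb⟩
  exact congrArg Subtype.val this

theorem afree_of_hmin (hmin : HMin S) {R : Subgroup S} (hR : R ≠ ⊤) (hidx : ∃ k : ℕ, R.index = 2 ^ k) :
    AFree R := by
  intro A hAR hAc hA8
  by_contra hn
  exact hmin R hR hidx ⟨A, hAR, isMulCommutative_of_comm hAc, hn, hA8⟩

theorem normal_le_normalizer {N : Subgroup S} (hN : N.Normal) (K : Subgroup S) :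
    K ≤ Subgroup.normalizer (N : Set S) := by
  intro g _
  rw [Subgroup.mem_normalizer_iff]
  intro x
  constructor
  · intro hx
    exact hN.conj_mem x hx g
  · intro hx
    have := hN.conj_mem _ hx g⁻¹
    simpa [mul_assoc] using this

theorem odd_orderOf_of_mem {K : Subgroup S} [Finite S] (hK : Odd (Nat.card ↥K)) {g : S} (hg : g ∈ K) :
    Odd (orderOf g) := by
  have h1 : orderOf (⟨g, hg⟩ : K) = orderOf g := Subgroup.orderOf_mk g hg
  have h2 : orderOf (⟨g, hg⟩ : K) ∣ Nat.card ↥K := orderOf_dvd_natCard _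
  rw [h1] at h2
  exact Odd.of_dvd_nat hK h2

/-- A Sylow 2-subgroup is normal. -/
theorem sylow_normal [Finite S] [Group.IsSolvable S] (hO : Cfsg.pPrimeCore 2 S = ⊥)
    (h8 : ∃ A : Subgroup S, IsMulCommutative ↥A ∧ ¬ IsCyclic ↥A ∧ Nat.card ↥A = 8)
    (hmin : HMin S) (X : Sylow 2 S) : (X : Subgroup S).Normal := by
  haveI : Fact (Nat.Prime 2) := ⟨Nat.prime_two⟩
  have hTn : (Cfsg.pCore 2 S).Normal := Cfsg.Agent.Lib.H1.pCore_normal 2 S
  have hT2 : IsPGroup 2 ↥(Cfsg.pCore 2 S) := Cfsg.Agent.Lib.H1.pCore_isPGroup 2 S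
  have hCT := Cfsg.Agent.Lib.H16.centralizer_pCore_le_of_isSolvable (G := S) 2 inferInstance hO
  obtain ⟨K, hK⟩ := Cfsg.Agent.Lib.H1.exists_pComplement (G := S) 2 Nat.prime_two
  -- `|K|` is odd
  have hS0 : Nat.card S ≠ 0 := Nat.card_pos.ne'
  have hKodd : Odd (Nat.card ↥K) := by
    have h1 := K.card_mul_index
    rw [hK] at h1
    have h2 := Nat.ordProj_mul_ordCompl_eq_self (Nat.card S) 2
    have h3 : Nat.card ↥K = Nat.card S / 2 ^ (Nat.card S).factorization 2 := by
      have hpos : 0 < 2 ^ (Nat.card S).factorization 2 := by positivity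
      exact (Nat.div_eq_of_eq_mul_left hpos h1.symm).symm
    rw [h3]
    exact Nat.coprime_two_right.mp (Nat.coprime_ordCompl Nat.prime_two hS0).symm
  have hcop : (Nat.card ↥K).Coprime (Nat.card ↥(Cfsg.pCore 2 S)) := coprime_of_odd_of_isPGroup hT2 hKodd
  have hdisj : Cfsg.pCore 2 S ⊓ K = ⊥ := by
    have := Subgroup.disjoint_of_coprime_natCard hcop.symm
    exact disjoint_iff.mp this
  have hRidx : ∃ k : ℕ, (Cfsg.pCore 2 S ⊔ K).index = 2 ^ k := by
    have hdvd : (Cfsg.pCore 2 S ⊔ K).index ∣ K.index := Subgroup.index_dvd_of_le le_sup_right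
    rw [hK] at hdvd
    obtain ⟨k, _, hk⟩ := (Nat.dvd_prime_pow Nat.prime_two).mp hdvd
    exact ⟨k, hk⟩
  by_cases hR : Cfsg.pCore 2 S ⊔ K = ⊤
  · -- `T` is a Sylow subgroup
    haveI := hTn
    have hc := Cfsg.Agent.Lib.H1.card_sup_mul_card_inf K (Cfsg.pCore 2 S)
    rw [hdisj, Subgroup.card_bot, mul_one, sup_comm, hR, Subgroup.card_top] at hc
    have h1 := K.card_mul_index
    rw [hK] at h1
    have h3 := h1.trans hc
    have hKpos : 0 < Nat.card ↥K := Nat.card_pos
    have hTcard : Nat.card ↥(Cfsg.pCore 2 S) = 2 ^ (Nat.card S).factorization 2 :=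
      (Nat.eq_of_mul_eq_mul_left hKpos h3).symm
    have hXcard : Nat.card ↥(X : Subgroup S) = 2 ^ (Nat.card S).factorization 2 := X.card_eq_multiplicity
    have hle : Cfsg.pCore 2 S ≤ (X : Subgroup S) := Cfsg.Agent.Lib.H1.pCore_le_sylow X
    have heq : Cfsg.pCore 2 S = (X : Subgroup S) :=
      Subgroup.eq_of_le_of_card_ge hle (by rw [hTcard, hXcard])
    rw [← heq]; exact hTn
  · exfalso
    have hAR : AFree (Cfsg.pCore 2 S ⊔ K) := afree_of_hmin hmin hR hRidx
    have hAT : AFree (Cfsg.pCore 2 S) := hAR.mono le_sup_left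
    have hnc : ¬ K ≤ Subgroup.centralizer ((Cfsg.pCore 2 S : Subgroup S) : Set S) := by
      intro hc
      have hKT : K ≤ Cfsg.pCore 2 S := hc.trans hCT
      have hKbot : K = ⊥ := by
        rw [eq_bot_iff, ← hdisj]
        exact le_inf hKT le_rfl
      apply hR
      rw [hKbot, sup_bot_eq]
      -- `S` is a 2-group
      have hidx : (⊥ : Subgroup S).index = 2 ^ (Nat.card S).factorization 2 := hKbot ▸ hK
      rw [Subgroup.index_bot] at hidx
      have hS2 : IsPGroup 2 S := IsPGroup.of_card hidx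
      rw [eq_top_iff]
      apply Cfsg.Agent.Lib.H1.le_pCore (p := 2) (N := (⊤ : Subgroup S)) inferInstance
      exact hS2.to_subgroup ⊤
    obtain ⟨g, hgK, hgC⟩ := exists_not_mem_centralizer hnc
    have hgo : Odd (orderOf g) := odd_orderOf_of_mem hKodd hgK
    have hgN : g ∈ Subgroup.normalizer ((Cfsg.pCore 2 S : Subgroup S) : Set S) :=
      normal_le_normalizer hTn K hgK
    obtain ⟨A, hAc, hAn, hA8⟩ := h8
    have hA2 : IsPGroup 2 ↥A := IsPGroup.of_card (n := 3) (by rw [hA8]; norm_num)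
    obtain ⟨P, hAP⟩ := hA2.exists_le_sylow
    have hTP : Cfsg.pCore 2 S ≤ (P : Subgroup S) := Cfsg.Agent.Lib.H1.pCore_le_sylow P
    have hPN : (P : Subgroup S) ≤ Subgroup.normalizer ((Cfsg.pCore 2 S : Subgroup S) : Set S) :=
      normal_le_normalizer hTn _
    have hPC : (P : Subgroup S) ⊓ Subgroup.centralizer ((Cfsg.pCore 2 S : Subgroup S) : Set S) ≤
        Cfsg.pCore 2 S := inf_le_right.trans hCT
    rcases lemmaK _ g hT2 hAT hgo hgN hgC with hV | ⟨z, hQ⟩
    · exact v4_core_false P.isPGroup' hTP hV hPN hPC hAP (comm_of_isMulCommutative hAc) hAn hA8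
    · exact q8_core_false P.isPGroup' hTP hQ hPN hPC hAP (comm_of_isMulCommutative hAc) hAn hA8

/-- The `Setup` situation holds for a normal Sylow 2-subgroup and a complement. -/
theorem exists_setup [Finite S]
    (h8 : ∃ A : Subgroup S, IsMulCommutative ↥A ∧ ¬ IsCyclic ↥A ∧ Nat.card ↥A = 8)
    (hmin : HMin S) (X : Sylow 2 S) (hXn : (X : Subgroup S).Normal) :
    ∃ H : Subgroup S, Setup (X : Subgroup S) H := by
  haveI : Fact (Nat.Prime 2) := ⟨Nat.prime_two⟩
  haveI := hXn
  obtain ⟨H, hH⟩ := Subgroup.exists_right_complement'_of_coprime (N := (X : Subgroup S)) X.card_coprime_index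
  have hHcard : Nat.card ↥H = (X : Subgroup S).index := (hH.symm.index_eq_card).symm
  have hHodd : Odd (Nat.card ↥H) := by
    rw [hHcard]
    have hc := X.card_coprime_index
    rw [X.card_eq_multiplicity] at hc
    by_cases hv : (Nat.card S).factorization 2 = 0
    · -- then 2 does not divide |S|, so the index is odd
      have hdvd : (X : Subgroup S).index ∣ Nat.card S := Subgroup.index_dvd_card _
      by_contra hodd
      have h2 : 2 ∣ (X : Subgroup S).index := by
        rcases Nat.even_or_odd ((X : Subgroup S).index) with he | ho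
        · exact even_iff_two_dvd.mp he
        · exact absurd ho hodd
      have h2S : 2 ∣ Nat.card S := h2.trans hdvd
      have := (Nat.Prime.factorization_pos_of_dvd Nat.prime_two Nat.card_pos.ne' h2S)
      omega
    · have h2 : (2 : ℕ).Coprime (X : Subgroup S).index :=
        (Nat.coprime_pow_left_iff (Nat.pos_of_ne_zero hv) _ _).mp hc
      exact Nat.coprime_two_left.mp h2
  have hcopHX : (Nat.card ↥H).Coprime (Nat.card ↥(X : Subgroup S)) :=
    coprime_of_odd_of_isPGroup X.isPGroup' hHodd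
  have hXH : (X : Subgroup S) ⊓ H = ⊥ :=
    disjoint_iff.mp (Subgroup.disjoint_of_coprime_natCard hcopHX.symm)
  have hcardS : Nat.card ↥(X : Subgroup S) * Nat.card ↥H = Nat.card S := hH.card_mul_card
  refine ⟨H, hXn, X.isPGroup', hHodd, ?_, ?_⟩
  · intro Y hYX hHY
    -- `R = Y ⊔ H`
    have hidx : (Y ⊔ H).index * Nat.card ↥Y = Nat.card ↥(X : Subgroup S) := by
      -- `R ⊓ X = Y`
      have hRX : (X : Subgroup S) ⊓ (Y ⊔ H) = Y := by
        apply le_antisymm
        · rintro r ⟨hrX, hrR⟩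
          obtain ⟨y, hy, k, hk, rfl⟩ := Cfsg.Agent.Lib.H1.mem_sup_of_le_normalizer hHY hrR
          have hkX : k ∈ (X : Subgroup S) := by
            have := Subgroup.mul_mem _ (Subgroup.inv_mem _ (hYX.le hy)) hrX
            simpa using this
          have hk1 : k = 1 := by
            have : k ∈ (X : Subgroup S) ⊓ H := ⟨hkX, hk⟩
            rw [hXH] at this
            exact Subgroup.mem_bot.mp this
          rw [hk1, mul_one]; exact hy
        · exact le_inf hYX.le le_sup_left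
      have htop : (Y ⊔ H) ⊔ (X : Subgroup S) = ⊤ := by
        rw [eq_top_iff, ← hH.sup_eq_top]
        exact sup_le le_sup_right (le_sup_right.trans le_sup_left)
      have hc := Cfsg.Agent.Lib.H1.card_sup_mul_card_inf (Y ⊔ H) (X : Subgroup S)
      rw [htop, Subgroup.card_top, hRX] at hc
      have h1 := (Y ⊔ H).card_mul_index
      rw [← h1] at hc
      have hpos : 0 < Nat.card ↥(Y ⊔ H) := Nat.card_pos
      have : (Y ⊔ H).index * Nat.card ↥Y = Nat.card ↥(X : Subgroup S) := by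
        apply Nat.eq_of_mul_eq_mul_left hpos
        rw [← mul_assoc]; exact hc
      exact this
    have hRne : Y ⊔ H ≠ ⊤ := by
      intro htop
      rw [htop, Subgroup.index_top, one_mul] at hidx
      exact hYX.ne (Subgroup.eq_of_le_of_card_ge hYX.le hidx.ge)
    have hpow : ∃ k : ℕ, (Y ⊔ H).index = 2 ^ k := by
      obtain ⟨n, hn⟩ := X.isPGroup'.exists_card_eq
      have hdvd : (Y ⊔ H).index ∣ 2 ^ n := by rw [← hn, ← hidx]; exact dvd_mul_right _ _
      obtain ⟨k, _, hk⟩ := (Nat.dvd_prime_pow Nat.prime_two).mp hdvd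
      exact ⟨k, hk⟩
    exact (afree_of_hmin hmin hRne hpow).mono le_sup_left
  · intro hAF
    obtain ⟨A, hAc, hAn, hA8⟩ := h8
    have hA2 : IsPGroup 2 ↥A := IsPGroup.of_card (n := 3) (by rw [hA8]; norm_num)
    have hAX : A ≤ (X : Subgroup S) := by
      obtain ⟨P, hAP⟩ := hA2.exists_le_sylow
      haveI := Sylow.unique_of_normal X hXn
      have hPX : P = X := Subsingleton.elim _ _
      exact hPX ▸ hAP
    exact hAn (hAF A hAX (comm_of_isMulCommutative hAc) hA8)

end Cfsg.Agent.Lib.H26.TwoMin
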