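import Mathlib

/-!
# Extraspecial 2-groups: generic tools (helper26)

* a finite group of exponent two is `F₂^k`;
* complements modulo a subgroup `Δ` in a group which is elementary abelian modulo `Δ`;
* a subgroup relation that is a bijection is the graph of an automorphism;
* the indicator `iz` of non-identity elements with values in `ZMod 2`.
-/

set_option autoImplicit false
open scoped commutatorElement

namespace Cfsg.Agent.Lib.H26.XS

/-- a finite group of exponent two is an `F₂`-vector space -/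
theorem exists_mulEquiv_of_sq_eq_one {G : Type*} [Group G] [Finite G] (h : ∀ x : G, x * x = 1)
    (k : ℕ) (hc : Nat.card G = 2 ^ k) : Nonempty (G ≃* Multiplicative (Fin k → ZMod 2)) := by
  classical
  have hinv : ∀ a : G, a⁻¹ = a := fun a => inv_eq_of_mul_eq_one_left (h a)
  have hcomm : ∀ a b : G, a * b = b * a := by
    intro a b
    have h1 := hinv (a * b)
    rw [mul_inv_rev, hinv a, hinv b] at h1
    exact h1.symm
  let _ : CommGroup G := { ‹Group G› with mul_comm := hcomm }
  let _ : Module (ZMod 2) (Additive G) := AddCommGroup.zmodModule (n := 2) (by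
    intro x
    rw [two_nsmul]
    exact h (Additive.toMul x))
  have : Module.Finite (ZMod 2) (Additive G) := Module.Finite.of_finite
  let b := Module.finBasis (ZMod 2) (Additive G)
  have hr : Module.finrank (ZMod 2) (Additive G) = k := by
    have h1 := Module.natCard_eq_pow_finrank (K := ZMod 2) (V := Additive G)
    have h2 : Nat.card (Additive G) = Nat.card G := rfl
    rw [h2, hc, Nat.card_zmod] at h1
    exact (Nat.pow_right_injective (le_refl 2) h1).symm
  let e : Additive G ≃ₗ[ZMod 2] (Fin k → ZMod 2) := (b.reindex (finCongr hr)).equivFun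
  exact ⟨{ toFun := fun g => Multiplicative.ofAdd (e (Additive.ofMul g))
           invFun := fun v => Additive.toMul (e.symm (Multiplicative.toAdd v))
           left_inv := fun g => by simp
           right_inv := fun v => by simp
           map_mul' := fun a b => by
             show Multiplicative.ofAdd (e (Additive.ofMul a + Additive.ofMul b)) = _
             rw [map_add]
             rfl }⟩

/-- the subgroup `C ∪ xC` -/
def extOne {G : Type*} [Group G] (Δ C : Subgroup G) (hΔC : Δ ≤ C)
    (hsq : ∀ x : G, x * x ∈ Δ) (hcomm : ∀ x y : G, ⁅x, y⁆ ∈ Δ) (x : G) : Subgroup G where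
  carrier := {y | y ∈ C ∨ x * y ∈ C}
  one_mem' := Or.inl C.one_mem
  mul_mem' := by
    rintro a b (ha | ha) (hb | hb)
    · exact Or.inl (C.mul_mem ha hb)
    · right
      have h1 : x * (a * b) = ⁅x, a⁆ * a * (x * b) := by
        rw [commutatorElement_def]; group
      rw [h1]
      exact C.mul_mem (C.mul_mem (hΔC (hcomm x a)) ha) hb
    · right
      rw [← mul_assoc]
      exact C.mul_mem ha hb
    · left
      have h1 : a * b = (x * x)⁻¹ * ⁅x, x * a⁆ * (x * a) * (x * b) := by
        rw [commutatorElement_def]; group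
      rw [h1]
      exact C.mul_mem (C.mul_mem (C.mul_mem (C.inv_mem (hΔC (hsq x))) (hΔC (hcomm _ _))) ha) hb
  inv_mem' := by
    rintro a (ha | ha)
    · exact Or.inl (C.inv_mem ha)
    · right
      have h1 : x * a⁻¹ = (x * a) * (a * a)⁻¹ := by group
      rw [h1]
      exact C.mul_mem ha (C.inv_mem (hΔC (hsq a)))

/-- complements modulo `Δ` in a group that is elementary abelian modulo `Δ` -/
theorem exists_compl {G : Type*} [Group G] [Finite G] (Δ T : Subgroup G)
    (hsq : ∀ x : G, x * x ∈ Δ) (hcomm : ∀ x y : G, ⁅x, y⁆ ∈ Δ) :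
    ∃ C : Subgroup G, Δ ≤ C ∧ C ⊓ T ≤ Δ ∧ ∀ x : G, ∃ c ∈ C, ∃ t ∈ T, x = c * t := by
  classical
  let S : Set (Subgroup G) := {C | Δ ≤ C ∧ C ⊓ T ≤ Δ}
  have hne : S.Nonempty := ⟨Δ, le_refl _, inf_le_left⟩
  obtain ⟨C, hCS, hmax⟩ := (wellFounded_gt : WellFounded (α := Subgroup G) (· > ·)).has_min S hne
  refine ⟨C, hCS.1, hCS.2, ?_⟩
  by_contra hcon
  push Not at hcon
  obtain ⟨x, hx⟩ := hcon
  let C' := extOne Δ C hCS.1 hsq hcomm x
  have hC' : C' ∈ S := by
    refine ⟨fun d hd => Or.inl (hCS.1 hd), ?_⟩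
    rintro y ⟨hy | hy, hyT⟩
    · exact hCS.2 ⟨hy, hyT⟩
    · exfalso
      refine hx (x * y) hy y⁻¹ (T.inv_mem hyT) ?_
      group
  refine hmax C' hC' ?_
  refine lt_of_le_of_ne (fun c hc => Or.inl hc) ?_
  intro heq
  have hxC' : x ∈ C' := Or.inr (hCS.1 (hsq x))
  rw [← heq] at hxC'
  exact hx x hxC' 1 T.one_mem (mul_one x).symm

/-- a "subgroup relation" which is total and single valued in both directions is the graph of an
automorphism -/
theorem exists_mulEquiv_of_rel {E : Type*} [Group E] (R : E → E → Prop)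
    (hmul : ∀ x y x' y', R x y → R x' y' → R (x * x') (y * y'))
    (hinv : ∀ x y, R x y → R x⁻¹ y⁻¹)
    (hex : ∀ x, ∃ y, R x y) (hex' : ∀ y, ∃ x, R x y)
    (huniq : ∀ y, R 1 y → y = 1) (huniq' : ∀ x, R x 1 → x = 1) :
    ∃ α : E ≃* E, ∀ x, R x (α x) := by
  classical
  choose f hf using hex
  have hfu : ∀ x y, R x y → y = f x := by
    intro x y hxy
    have h1 := hmul _ _ _ _ (hinv _ _ hxy) (hf x)
    rw [inv_mul_cancel] at h1
    have h2 := huniq _ h1
    exact inv_mul_eq_one.mp h2
  have hfmul : ∀ x y, f (x * y) = f x * f y := fun x y =>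
    (hfu _ _ (hmul _ _ _ _ (hf x) (hf y))).symm
  let φ : E →* E := MonoidHom.mk' f hfmul
  have hinj : Function.Injective φ := by
    rw [injective_iff_map_eq_one]
    intro x hx
    have h1 := hf x
    change f x = 1 at hx
    rw [hx] at h1
    exact huniq' x h1
  have hsurj : Function.Surjective φ := by
    intro y
    obtain ⟨x, hx⟩ := hex' y
    exact ⟨x, (hfu x y hx).symm⟩
  exact ⟨MulEquiv.ofBijective φ ⟨hinj, hsurj⟩, fun x => hf x⟩

/-- the indicator of non-identity, valued in `ZMod 2` -/
noncomputable def iz {E : Type*} [Group E] (c : E) : ZMod 2 := by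
  classical exact if c = 1 then 0 else 1

section iz
variable {E : Type*} [Group E]

theorem iz_one : iz (1 : E) = 0 := by
  classical
  rw [iz, if_pos rfl]

theorem iz_eq_zero_iff (c : E) : iz c = 0 ↔ c = 1 := by
  classical
  rw [iz]
  split_ifs with h
  · simp [h]
  · simp [h]

theorem iz_eq_one_iff (c : E) : iz c = 1 ↔ c ≠ 1 := by
  classical
  rw [iz]
  split_ifs with h
  · simp [h]
  · simp [h]

variable (hZ : Nat.card (Subgroup.center E) = 2)
include hZ

theorem eq_of_ne_one {c c' : E} (hc : c ∈ Subgroup.center E) (hc' : c' ∈ Subgroup.center E)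
    (h1 : c ≠ 1) (h1' : c' ≠ 1) : c = c' := by
  obtain ⟨y, -, hy⟩ := (Nat.card_eq_two_iff' (1 : Subgroup.center E)).mp hZ
  have e1 := hy ⟨c, hc⟩ (fun h => h1 (congrArg Subtype.val h))
  have e2 := hy ⟨c', hc'⟩ (fun h => h1' (congrArg Subtype.val h))
  exact congrArg Subtype.val (e1.trans e2.symm)

theorem sq_of_mem_center {c : E} (hc : c ∈ Subgroup.center E) : c * c = 1 := by
  by_contra h
  by_cases h1 : c = 1
  · rw [h1, mul_one] at h; exact h rfl
  · have := eq_of_ne_one hZ (Subgroup.mul_mem _ hc hc) hc h h1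
    exact h1 (by simpa using this)

theorem inv_of_mem_center {c : E} (hc : c ∈ Subgroup.center E) : c⁻¹ = c :=
  inv_eq_of_mul_eq_one_left (sq_of_mem_center hZ hc)

theorem iz_mul {c c' : E} (hc : c ∈ Subgroup.center E) (hc' : c' ∈ Subgroup.center E) :
    iz (c * c') = iz c + iz c' := by
  by_cases h1 : c = 1
  · rw [h1, one_mul, iz_one, zero_add]
  by_cases h1' : c' = 1
  · rw [h1', mul_one, iz_one, add_zero]
  have := eq_of_ne_one hZ hc hc' h1 h1'
  rw [← this, sq_of_mem_center hZ hc, iz_one, (iz_eq_one_iff c).2 h1]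
  decide

theorem iz_inj {c c' : E} (hc : c ∈ Subgroup.center E) (hc' : c' ∈ Subgroup.center E)
    (h : iz c = iz c') : c = c' := by
  by_cases h1 : c = 1
  · rw [h1, iz_one] at h
    rw [h1, (iz_eq_zero_iff c').1 h.symm]
  · have h2 : c' ≠ 1 := by
      intro h2
      rw [h2, iz_one, iz_eq_zero_iff] at h
      exact h1 h
    exact eq_of_ne_one hZ hc hc' h1 h2

end iz

end Cfsg.Agent.Lib.H26.XS
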