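import Mathlib
import Cfsg.Prelude.Def_Classical
import Cfsg.Prelude.Def_KGroupFacts
import Cfsg.Agent.Lib.H26.XsBase

/-!
# Extraspecial 2-groups: the quadratic space `E/Z` in coordinates (helper26)

`QS E κ` packages a group `E` with centre of order two, central commutators and squares, with a
surjective "additive" map `π : E → F₂^κ` with kernel the centre and a function `Q` on `F₂^κ`
with `Q (π x) = [x² ≠ 1]`.  Then `Q` is a non-degenerate quadratic form with polar form the
commutator.
-/

set_option autoImplicit false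
open scoped commutatorElement

namespace Cfsg.Agent.Lib.H26.XS

structure QS (E : Type*) [Group E] (κ : Type) where
  π : E → (κ → ZMod 2)
  Q : (κ → ZMod 2) → ZMod 2
  card_center : Nat.card (Subgroup.center E) = 2
  comm_mem : ∀ a b : E, ⁅a, b⁆ ∈ Subgroup.center E
  sq_mem : ∀ a : E, a * a ∈ Subgroup.center E
  map_mul : ∀ x y, π (x * y) = π x + π y
  surj : Function.Surjective π
  ker : ∀ x, π x = 0 ↔ x ∈ Subgroup.center E
  sq : ∀ x, Q (π x) = iz (x * x)

theorem fn_add_self {κ : Type} (v : κ → ZMod 2) : v + v = 0 := by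
  funext i
  exact CharTwo.add_self_eq_zero (v i)

theorem fn_neg {κ : Type} (v : κ → ZMod 2) : -v = v := by
  funext i
  exact CharTwo.neg_eq (v i)

theorem zmod2_cases (a : ZMod 2) : a = 0 ∨ a = 1 := by
  revert a; decide

namespace QS

variable {E : Type*} [Group E] {κ : Type} (S : QS E κ)

theorem map_one : S.π 1 = 0 := by
  have h := S.map_mul 1 1
  rw [mul_one] at h
  exact left_eq_add.mp h

theorem map_inv (x : E) : S.π x⁻¹ = S.π x := by
  have h := S.map_mul x⁻¹ x
  rw [inv_mul_cancel, S.map_one] at h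
  have h2 : S.π x⁻¹ = - S.π x := eq_neg_of_add_eq_zero_left h.symm
  rw [h2, fn_neg]

theorem central (c : E) (hc : c ∈ Subgroup.center E) (g : E) : g * c = c * g :=
  Subgroup.mem_center_iff.mp hc g

theorem π_eq_iff (x y : E) : S.π x = S.π y ↔ x⁻¹ * y ∈ Subgroup.center E := by
  rw [← S.ker, S.map_mul, S.map_inv]
  constructor
  · intro h; rw [h, fn_add_self]
  · intro h
    have : S.π x + (S.π x + S.π y) = S.π x + 0 := by rw [h]
    rw [← add_assoc, fn_add_self, zero_add, add_zero] at this
    exact this.symm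

theorem Q_zero : S.Q 0 = 0 := by
  rw [← S.map_one, S.sq, mul_one, iz_one]

include S in
theorem sq_mul (x y : E) : (x * y) * (x * y) = (x * x) * (y * y) * ⁅y, x⁆ := by
  have hc := central _ (S.comm_mem y x)
  have h1 : y * x = ⁅y, x⁆ * (x * y) := by rw [commutatorElement_def]; group
  calc (x * y) * (x * y) = x * (y * x) * y := by group
    _ = x * (⁅y, x⁆ * (x * y)) * y := by rw [h1]
    _ = (x * ⁅y, x⁆) * x * y * y := by group
    _ = (⁅y, x⁆ * x) * x * y * y := by rw [hc]
    _ = ⁅y, x⁆ * ((x * x) * (y * y)) := by group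
    _ = (x * x) * (y * y) * ⁅y, x⁆ := (hc _).symm

include S in
theorem iz_comm_symm (x y : E) : iz ⁅x, y⁆ = iz ⁅y, x⁆ := by
  rw [← commutatorElement_inv, inv_of_mem_center S.card_center (S.comm_mem y x)]

theorem polar_π (x y : E) : QuadraticMap.polar S.Q (S.π x) (S.π y) = iz ⁅x, y⁆ := by
  rw [QuadraticMap.polar, ← S.map_mul, S.sq, S.sq, S.sq, S.sq_mul,
    iz_mul S.card_center (Subgroup.mul_mem _ (S.sq_mem x) (S.sq_mem y)) (S.comm_mem y x),
    iz_mul S.card_center (S.sq_mem x) (S.sq_mem y), S.iz_comm_symm x y]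
  ring

include S in
theorem comm_mul_left (a b c : E) : ⁅a * b, c⁆ = ⁅a, c⁆ * ⁅b, c⁆ := by
  rw [commutatorElement_mul_left_eq_conj_mul]
  have h1 : a * ⁅b, c⁆ * a⁻¹ = ⁅b, c⁆ := by
    rw [central _ (S.comm_mem b c) a, mul_inv_cancel_right]
  rw [h1]
  exact (central _ (S.comm_mem b c) ⁅a, c⁆).symm

theorem polar_add_left (u u' v : κ → ZMod 2) :
    QuadraticMap.polar S.Q (u + u') v
      = QuadraticMap.polar S.Q u v + QuadraticMap.polar S.Q u' v := by
  obtain ⟨x, rfl⟩ := S.surj u
  obtain ⟨x', rfl⟩ := S.surj u'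
  obtain ⟨y, rfl⟩ := S.surj v
  rw [← S.map_mul, S.polar_π, S.polar_π, S.polar_π, S.comm_mul_left,
    iz_mul S.card_center (S.comm_mem _ _) (S.comm_mem _ _)]

theorem polar_zero_left (v : κ → ZMod 2) : QuadraticMap.polar S.Q 0 v = 0 := by
  rw [QuadraticMap.polar, zero_add, S.Q_zero]
  ring

/-- the quadratic form -/
noncomputable def Qf : QuadraticForm (ZMod 2) (κ → ZMod 2) :=
  QuadraticMap.ofPolar S.Q
    (by
      intro a x
      rcases zmod2_cases a with rfl | rfl
      · rw [zero_smul, S.Q_zero, mul_zero, zero_smul]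
      · rw [one_smul, mul_one, one_smul])
    S.polar_add_left
    (by
      intro a x y
      rcases zmod2_cases a with rfl | rfl
      · rw [zero_smul, S.polar_zero_left, zero_smul]
      · rw [one_smul, one_smul])

theorem Qf_apply (v : κ → ZMod 2) : S.Qf v = S.Q v := rfl

theorem polarBilin_π (x y : E) : QuadraticMap.polarBilin S.Qf (S.π x) (S.π y) = iz ⁅x, y⁆ := by
  rw [QuadraticMap.polarBilin_apply_apply]
  exact S.polar_π x y

theorem nondeg : (QuadraticMap.polarBilin S.Qf).Nondegenerate := by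
  have key : ∀ u : κ → ZMod 2, (∀ v, QuadraticMap.polarBilin S.Qf u v = 0) → u = 0 := by
    intro u hu
    obtain ⟨x, rfl⟩ := S.surj u
    rw [S.ker, Subgroup.mem_center_iff]
    intro g
    have h := hu (S.π g)
    rw [S.polarBilin_π, iz_eq_zero_iff, commutatorElement_eq_one_iff_mul_comm] at h
    exact h.symm
  constructor
  · intro u hu
    exact key u hu
  · intro v hv
    apply key v
    intro u
    have h := hv u
    rw [QuadraticMap.polarBilin_apply_apply] at h ⊢
    rw [QuadraticMap.polar_comm]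
    exact h

end QS

end Cfsg.Agent.Lib.H26.XS
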