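import Mathlib
import Cfsg.Prelude.Def_Classical
import Cfsg.Prelude.Def_KGroupFacts
import Cfsg.Agent.Lib.H26.XsQS

/-!
# Extraspecial 2-groups: `Out E` is the full isometry group of the quadratic space `E/Z` (helper26)
-/

set_option autoImplicit false
open scoped commutatorElement
open Matrix

namespace Cfsg.Agent.Lib.H26.XS

theorem mem_iso_iff {κ : Type} [Fintype κ] [DecidableEq κ] (Q : (κ → ZMod 2) → ZMod 2)
    (g : GL κ (ZMod 2)) :
    g ∈ Cfsg.isometryGroup (ZMod 2) Q ↔ ∀ x, Q (g.1 *ᵥ x) = Q x := by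
  constructor
  · intro h x; exact h x 0
  · intro h x _; exact h x

namespace QS

variable {E : Type*} [Group E] {κ : Type} (S : QS E κ)

theorem aut_center_mem (α : E ≃* E) {c : E} (hc : c ∈ Subgroup.center E) :
    α c ∈ Subgroup.center E := by
  rw [Subgroup.mem_center_iff]
  intro g
  have h1 := central c hc (α.symm g)
  have h2 := congrArg α h1
  rw [_root_.map_mul, _root_.map_mul, MulEquiv.apply_symm_apply] at h2
  exact h2

include S in
/-- automorphisms fix the centre pointwise -/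
theorem aut_center (α : E ≃* E) {c : E} (hc : c ∈ Subgroup.center E) : α c = c := by
  by_cases h : c = 1
  · rw [h, _root_.map_one]
  · exact eq_of_ne_one S.card_center (aut_center_mem α hc) hc
      (fun h' => h ((MulEquiv.map_eq_one_iff α).1 h')) h

noncomputable def sec (v : κ → ZMod 2) : E := Function.surjInv S.surj v

theorem π_sec (v : κ → ZMod 2) : S.π (S.sec v) = v := Function.surjInv_eq S.surj v

theorem π_aut_congr (α : E ≃* E) {x y : E} (h : S.π x = S.π y) : S.π (α x) = S.π (α y) := by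
  rw [S.π_eq_iff] at h ⊢
  have h1 := S.aut_center α h
  rw [_root_.map_mul, _root_.map_inv] at h1
  rw [h1]
  exact h

noncomputable def barAdd (α : E ≃* E) : (κ → ZMod 2) →+ (κ → ZMod 2) where
  toFun v := S.π (α (S.sec v))
  map_zero' := by
    have h : S.π (S.sec 0) = S.π 1 := by rw [S.π_sec, S.map_one]
    rw [S.π_aut_congr α h, _root_.map_one, S.map_one]
  map_add' u v := by
    have h : S.π (S.sec (u + v)) = S.π (S.sec u * S.sec v) := by
      rw [S.map_mul, S.π_sec, S.π_sec, S.π_sec]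
    rw [S.π_aut_congr α h, _root_.map_mul, S.map_mul]

theorem barAdd_π (α : E ≃* E) (x : E) : S.barAdd α (S.π x) = S.π (α x) :=
  S.π_aut_congr α (S.π_sec _)

noncomputable def bar (α : E ≃* E) : (κ → ZMod 2) →ₗ[ZMod 2] (κ → ZMod 2) :=
  (S.barAdd α).toZModLinearMap 2

theorem bar_π (α : E ≃* E) (x : E) : S.bar α (S.π x) = S.π (α x) := S.barAdd_π α x

theorem bar_mul (α β : MulAut E) : S.bar (α * β) = (S.bar α).comp (S.bar β) := by
  refine LinearMap.ext fun v => ?_
  obtain ⟨x, rfl⟩ := S.surj v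
  rw [LinearMap.comp_apply, S.bar_π, S.bar_π, S.bar_π]
  rfl

theorem bar_one : S.bar (1 : MulAut E) = LinearMap.id := by
  refine LinearMap.ext fun v => ?_
  obtain ⟨x, rfl⟩ := S.surj v
  rw [S.bar_π]
  rfl

variable [Fintype κ] [DecidableEq κ]

noncomputable def matHom : MulAut E →* Matrix κ κ (ZMod 2) where
  toFun α := LinearMap.toMatrix' (S.bar α)
  map_one' := by rw [S.bar_one, LinearMap.toMatrix'_id]
  map_mul' α β := by rw [S.bar_mul, LinearMap.toMatrix'_comp]

theorem matHom_mulVec (α : MulAut E) (x : E) : S.matHom α *ᵥ S.π x = S.π (α x) := by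
  show LinearMap.toMatrix' (S.bar α) *ᵥ _ = _
  rw [LinearMap.toMatrix'_mulVec, S.bar_π]

noncomputable def glHom : MulAut E →* GL κ (ZMod 2) := S.matHom.toHomUnits

theorem glHom_val (α : MulAut E) : (S.glHom α).1 = S.matHom α := rfl

theorem iz_aut (α : E ≃* E) (c : E) : iz (α c) = iz c := by
  by_cases h : c = 1
  · rw [h, _root_.map_one]
  · rw [(iz_eq_one_iff c).2 h, iz_eq_one_iff]
    exact fun h' => h ((MulEquiv.map_eq_one_iff α).1 h')

theorem glHom_mem (α : MulAut E) : S.glHom α ∈ Cfsg.isometryGroup (ZMod 2) S.Q := by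
  rw [mem_iso_iff]
  intro v
  obtain ⟨x, rfl⟩ := S.surj v
  rw [S.glHom_val, S.matHom_mulVec, S.sq, S.sq, ← _root_.map_mul, iz_aut]

noncomputable def phi : MulAut E →* ↥(Cfsg.isometryGroup (ZMod 2) S.Q) :=
  S.glHom.codRestrict _ S.glHom_mem

theorem phi_val (α : MulAut E) : ((S.phi α).1 : GL κ (ZMod 2)).1 = S.matHom α := rfl

theorem phi_eq_iff (α : MulAut E) (g : ↥(Cfsg.isometryGroup (ZMod 2) S.Q)) :
    S.phi α = g ↔ ∀ x, g.1.1 *ᵥ S.π x = S.π (α x) := by
  constructor
  · rintro rfl x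
    rw [S.phi_val, S.matHom_mulVec]
  · intro h
    apply Subtype.ext
    apply Units.ext
    rw [S.phi_val]
    apply Matrix.toLin'.injective
    refine LinearMap.ext fun v => ?_
    obtain ⟨x, rfl⟩ := S.surj v
    rw [Matrix.toLin'_apply, Matrix.toLin'_apply, h, S.matHom_mulVec]

theorem conj_mem_ker (g : E) : S.phi (MulAut.conj g) = 1 := by
  rw [S.phi_eq_iff]
  intro x
  rw [MulAut.conj_apply, S.map_mul, S.map_mul, S.map_inv]
  show (1 : Matrix κ κ (ZMod 2)) *ᵥ S.π x = _
  rw [Matrix.one_mulVec, add_comm (S.π g), add_assoc, fn_add_self, add_zero]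

omit [Fintype κ] [DecidableEq κ] in
/-- a homomorphism `E → F₂` trivial on the centre is a linear functional on `E/Z` -/
theorem exists_dual (F : E → ZMod 2) (hmul : ∀ x y, F (x * y) = F x + F y)
    (hZ : ∀ c ∈ Subgroup.center E, F c = 0) :
    ∃ f : Module.Dual (ZMod 2) (κ → ZMod 2), ∀ x, f (S.π x) = F x := by
  have hwd : ∀ x y, S.π x = S.π y → F x = F y := by
    intro x y h
    rw [S.π_eq_iff] at h
    have h1 : y = x * (x⁻¹ * y) := by group
    rw [h1, hmul, hZ _ h, add_zero]
  let f0 : (κ → ZMod 2) →+ ZMod 2 :=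
    { toFun := fun v => F (S.sec v)
      map_zero' := by
        have h : S.π (S.sec 0) = S.π 1 := by rw [S.π_sec, S.map_one]
        rw [hwd _ _ h]
        exact hZ 1 (Subgroup.one_mem _)
      map_add' := fun u v => by
        have h : S.π (S.sec (u + v)) = S.π (S.sec u * S.sec v) := by
          rw [S.map_mul, S.π_sec, S.π_sec, S.π_sec]
        rw [hwd _ _ h, hmul] }
  refine ⟨f0.toZModLinearMap 2, fun x => ?_⟩
  show F (S.sec (S.π x)) = F x
  exact hwd _ _ (S.π_sec _)

theorem ker_phi : S.phi.ker = Cfsg.Inn E := by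
  apply le_antisymm
  · intro α hα
    rw [MonoidHom.mem_ker, S.phi_eq_iff] at hα
    have hα' : ∀ x, S.π (α x) = S.π x := by
      intro x
      rw [← hα x]
      show (1 : Matrix κ κ (ZMod 2)) *ᵥ S.π x = _
      rw [Matrix.one_mulVec]
    have hc : ∀ x, x⁻¹ * α x ∈ Subgroup.center E := fun x =>
      (S.π_eq_iff x (α x)).1 (hα' x).symm
    obtain ⟨f, hf⟩ := S.exists_dual (fun x => iz (x⁻¹ * α x))
      (by
        intro x y
        have h1 : (x * y)⁻¹ * α (x * y) = (x⁻¹ * α x) * (y⁻¹ * α y) := by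
          rw [_root_.map_mul]
          calc (x * y)⁻¹ * (α x * α y) = y⁻¹ * (x⁻¹ * α x) * α y := by group
            _ = (x⁻¹ * α x) * y⁻¹ * α y := by rw [central _ (hc x) y⁻¹]
            _ = _ := by group
        show iz _ = iz _ + iz _
        rw [h1, iz_mul S.card_center (hc x) (hc y)])
      (by
        intro c hcc
        show iz _ = 0
        rw [S.aut_center α hcc, inv_mul_cancel, iz_one])
    obtain ⟨g, hg⟩ := S.surj ((LinearMap.BilinForm.toDual _ S.nondeg).symm f)
    refine ⟨g, ?_⟩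
    apply MulEquiv.ext
    intro x
    have h1 : QuadraticMap.polarBilin S.Qf (S.π g) (S.π x) = f (S.π x) := by
      rw [hg]
      exact LinearMap.BilinForm.apply_toDual_symm_apply f (S.π x)
    rw [S.polarBilin_π, hf] at h1
    have h2 := iz_inj S.card_center (S.comm_mem g x) (hc x) h1
    rw [MulAut.conj_apply]
    have h3 : α x = x * ⁅g, x⁆ := by rw [h2]; group
    rw [h3, central _ (S.comm_mem g x) x, commutatorElement_def]
    group
  · rintro α ⟨g, rfl⟩
    exact S.conj_mem_ker g

end QS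

end Cfsg.Agent.Lib.H26.XS
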