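import Mathlib
import Cfsg.Agent.Lib.H26.XsAut

/-!
# Extraspecial 2-groups: every isometry of `E/Z` lifts to an automorphism of `E` (helper26)

For an isometry `g`, the fibre product `P = {(x, y) : g (π x) = π y}` is elementary abelian modulo
the diagonal `Δ` of `Z × Z`; a complement `C ⊇ Δ` of `Z × Z` in `P` is the graph of a lift of `g`.
-/

set_option autoImplicit false
open scoped commutatorElement
open Matrix

namespace Cfsg.Agent.Lib.H26.XS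

namespace QS

variable {E : Type*} [Group E] {κ : Type} (S : QS E κ) [Fintype κ] [DecidableEq κ]

/-- the fibre product of `E` with itself over an invertible matrix -/
def fib (g : GL κ (ZMod 2)) : Subgroup (E × E) where
  carrier := {p | g.1 *ᵥ S.π p.1 = S.π p.2}
  one_mem' := by
    show g.1 *ᵥ S.π 1 = S.π 1
    rw [S.map_one, Matrix.mulVec_zero]
  mul_mem' := by
    intro p q hp hq
    show g.1 *ᵥ S.π (p.1 * q.1) = S.π (p.2 * q.2)
    rw [S.map_mul, S.map_mul, Matrix.mulVec_add, hp, hq]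
  inv_mem' := by
    intro p hp
    show g.1 *ᵥ S.π p.1⁻¹ = S.π p.2⁻¹
    rw [S.map_inv, S.map_inv]
    exact hp

theorem mem_fib (g : GL κ (ZMod 2)) (p : E × E) : p ∈ S.fib g ↔ g.1 *ᵥ S.π p.1 = S.π p.2 :=
  Iff.rfl

/-- the diagonal of `Z × Z` inside the fibre product -/
def fibDiag (g : GL κ (ZMod 2)) : Subgroup ↥(S.fib g) where
  carrier := {p | p.1.1 = p.1.2 ∧ p.1.1 ∈ Subgroup.center E}
  one_mem' := ⟨rfl, Subgroup.one_mem _⟩
  mul_mem' := by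
    intro p q hp hq
    refine ⟨?_, ?_⟩
    · show p.1.1 * q.1.1 = p.1.2 * q.1.2
      rw [hp.1, hq.1]
    · exact Subgroup.mul_mem _ hp.2 hq.2
  inv_mem' := by
    intro p hp
    refine ⟨?_, ?_⟩
    · show p.1.1⁻¹ = p.1.2⁻¹
      rw [hp.1]
    · exact Subgroup.inv_mem _ hp.2

/-- `Z × Z` inside the fibre product -/
def fibCen (g : GL κ (ZMod 2)) : Subgroup ↥(S.fib g) where
  carrier := {p | p.1.1 ∈ Subgroup.center E ∧ p.1.2 ∈ Subgroup.center E}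
  one_mem' := ⟨Subgroup.one_mem _, Subgroup.one_mem _⟩
  mul_mem' := by
    intro p q hp hq
    exact ⟨Subgroup.mul_mem _ hp.1 hq.1, Subgroup.mul_mem _ hp.2 hq.2⟩
  inv_mem' := by
    intro p hp
    exact ⟨Subgroup.inv_mem _ hp.1, Subgroup.inv_mem _ hp.2⟩

theorem fib_sq (g : GL κ (ZMod 2)) (hg : ∀ v, S.Q (g.1 *ᵥ v) = S.Q v) (p : ↥(S.fib g)) :
    p * p ∈ S.fibDiag g := by
  have hp : g.1 *ᵥ S.π p.1.1 = S.π p.1.2 := p.2
  refine ⟨?_, S.sq_mem _⟩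
  show p.1.1 * p.1.1 = p.1.2 * p.1.2
  apply iz_inj S.card_center (S.sq_mem _) (S.sq_mem _)
  rw [← S.sq, ← S.sq, ← hp, hg]

theorem fib_comm (g : GL κ (ZMod 2)) (hg : ∀ v, S.Q (g.1 *ᵥ v) = S.Q v) (p q : ↥(S.fib g)) :
    ⁅p, q⁆ ∈ S.fibDiag g := by
  have hp : g.1 *ᵥ S.π p.1.1 = S.π p.1.2 := p.2
  have hq : g.1 *ᵥ S.π q.1.1 = S.π q.1.2 := q.2
  refine ⟨?_, S.comm_mem _ _⟩
  show ⁅p.1.1, q.1.1⁆ = ⁅p.1.2, q.1.2⁆
  apply iz_inj S.card_center (S.comm_mem _ _) (S.comm_mem _ _)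
  rw [← S.polar_π, ← S.polar_π, ← hp, ← hq, QuadraticMap.polar, QuadraticMap.polar,
    ← Matrix.mulVec_add, hg, hg, hg]

theorem phi_surjective [Finite E] : Function.Surjective S.phi := by
  intro g
  have hg : ∀ v, S.Q (g.1.1 *ᵥ v) = S.Q v := (mem_iso_iff _ _).1 g.2
  have hinv : ∀ v, (g.1⁻¹).1 *ᵥ (g.1.1 *ᵥ v) = v := by
    intro v
    rw [Matrix.mulVec_mulVec, ← Units.val_mul, inv_mul_cancel, Units.val_one, Matrix.one_mulVec]
  have hinv' : ∀ v, g.1.1 *ᵥ ((g.1⁻¹).1 *ᵥ v) = v := by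
    intro v
    rw [Matrix.mulVec_mulVec, ← Units.val_mul, mul_inv_cancel, Units.val_one, Matrix.one_mulVec]
  obtain ⟨C, hΔC, hCT, hdec⟩ := exists_compl (S.fibDiag g.1) (S.fibCen g.1)
    (S.fib_sq g.1 hg) (S.fib_comm g.1 hg)
  let R : E → E → Prop := fun x y => ∃ h : (x, y) ∈ S.fib g.1, (⟨(x, y), h⟩ : ↥(S.fib g.1)) ∈ C
  have hcen : ∀ c ∈ Subgroup.center E, ((c, c) : E × E) ∈ S.fib g.1 := by
    intro c hc
    show g.1.1 *ᵥ S.π c = S.π c
    rw [(S.ker c).2 hc, Matrix.mulVec_zero]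
  obtain ⟨α, hα⟩ := exists_mulEquiv_of_rel R
    (by
      rintro x y x' y' ⟨h, hC⟩ ⟨h', hC'⟩
      exact ⟨(S.fib g.1).mul_mem h h', C.mul_mem hC hC'⟩)
    (by
      rintro x y ⟨h, hC⟩
      exact ⟨(S.fib g.1).inv_mem h, C.inv_mem hC⟩)
    (by
      intro x
      obtain ⟨y₀, hy₀⟩ := S.surj (g.1.1 *ᵥ S.π x)
      obtain ⟨c, hc, t, ht, hpt⟩ := hdec ⟨(x, y₀), hy₀.symm⟩
      let d : ↥(S.fib g.1) := ⟨(t.1.1, t.1.1), hcen _ ht.1⟩
      have hd : d ∈ C := hΔC ⟨rfl, ht.1⟩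
      have hcd := C.mul_mem hc hd
      have hx : x = c.1.1 * t.1.1 := congrArg (fun p : ↥(S.fib g.1) => p.1.1) hpt
      refine ⟨(c * d).1.2, ?_⟩
      have he : ((x, (c * d).1.2) : E × E) = (c * d).1 := by
        apply Prod.ext
        · exact hx
        · rfl
      refine ⟨he ▸ (c * d).2, ?_⟩
      have he' : (⟨(x, (c * d).1.2), he ▸ (c * d).2⟩ : ↥(S.fib g.1)) = c * d := Subtype.ext he
      rw [he']
      exact hcd)
    (by
      intro y
      obtain ⟨x₀, hx₀⟩ := S.surj ((g.1⁻¹).1 *ᵥ S.π y)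
      have hx₀' : g.1.1 *ᵥ S.π x₀ = S.π y := by rw [hx₀, hinv']
      obtain ⟨c, hc, t, ht, hpt⟩ := hdec ⟨(x₀, y), hx₀'⟩
      let d : ↥(S.fib g.1) := ⟨(t.1.2, t.1.2), hcen _ ht.2⟩
      have hd : d ∈ C := hΔC ⟨rfl, ht.2⟩
      have hcd := C.mul_mem hc hd
      have hy : y = c.1.2 * t.1.2 := congrArg (fun p : ↥(S.fib g.1) => p.1.2) hpt
      refine ⟨(c * d).1.1, ?_⟩
      have he : (((c * d).1.1, y) : E × E) = (c * d).1 := by
        apply Prod.ext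
        · rfl
        · exact hy
      refine ⟨he ▸ (c * d).2, ?_⟩
      have he' : (⟨((c * d).1.1, y), he ▸ (c * d).2⟩ : ↥(S.fib g.1)) = c * d := Subtype.ext he
      rw [he']
      exact hcd)
    (by
      rintro y ⟨h, hC⟩
      have h1 : g.1.1 *ᵥ S.π 1 = S.π y := h
      rw [S.map_one, Matrix.mulVec_zero] at h1
      have hy : y ∈ Subgroup.center E := (S.ker y).1 h1.symm
      have h2 := hCT ⟨hC, (⟨Subgroup.one_mem _, hy⟩ : (⟨(1, y), h⟩ : ↥(S.fib g.1)) ∈ S.fibCen g.1)⟩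
      exact h2.1.symm)
    (by
      rintro x ⟨h, hC⟩
      have h1 : g.1.1 *ᵥ S.π x = S.π 1 := h
      rw [S.map_one] at h1
      have h3 : S.π x = 0 := by
        have := hinv (S.π x)
        rw [h1, Matrix.mulVec_zero] at this
        exact this.symm
      have hx : x ∈ Subgroup.center E := (S.ker x).1 h3
      have h2 := hCT ⟨hC, (⟨hx, Subgroup.one_mem _⟩ : (⟨(x, 1), h⟩ : ↥(S.fib g.1)) ∈ S.fibCen g.1)⟩
      exact h2.1)
  refine ⟨α, ?_⟩
  rw [S.phi_eq_iff]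
  intro x
  obtain ⟨h, -⟩ := hα x
  exact h

/-- `Out E` is the full isometry group of the quadratic form -/
theorem out_equiv [Finite E] :
    Nonempty (Cfsg.Out E ≃* ↥(Cfsg.isometryGroup (ZMod 2) S.Q)) :=
  ⟨(QuotientGroup.quotientMulEquivOfEq S.ker_phi.symm).trans
    (QuotientGroup.quotientKerEquivOfSurjective S.phi S.phi_surjective)⟩

end QS

end Cfsg.Agent.Lib.H26.XS
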