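import Mathlib
import Cfsg.Prelude.Def_Transfer
import Cfsg.Agent.Lib.H1.ExtraGlue
import Cfsg.Agent.Lib.H11.PSLGraph4
import Cfsg.Agent.Lib.H26.XsSurj
import Cfsg.Agent.S2562

/-!
# Extraspecial 2-groups: type of the quadratic space and `Out E` (helper26)
-/

set_option autoImplicit false
open scoped commutatorElement
open Matrix

namespace Cfsg.Agent.Lib.H26.XS

theorem card_eq_ker_mul_map {G H : Type*} [Group G] [Group H] (f : G →* H) (A : Subgroup G) :
    Nat.card A = Nat.card (f.ker.subgroupOf A) * Nat.card (A.map f) := by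
  rw [← Subgroup.relIndex_ker]
  exact (Subgroup.card_mul_index (f.ker.subgroupOf A)).symm

namespace QS

variable {E : Type*} [Group E] {κ : Type} (S : QS E κ)

/-- `π` as a homomorphism -/
def hom : E →* Multiplicative (κ → ZMod 2) where
  toFun x := Multiplicative.ofAdd (S.π x)
  map_one' := by rw [S.map_one]; rfl
  map_mul' x y := by rw [S.map_mul]; rfl

theorem hom_apply (x : E) : S.hom x = Multiplicative.ofAdd (S.π x) := rfl

theorem hom_ker : S.hom.ker = Subgroup.center E := by
  ext x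
  rw [MonoidHom.mem_ker, ← S.ker, S.hom_apply]
  exact Iff.rfl

/-- transport along a linear isometry -/
def transport {κ' : Type} (e : (κ → ZMod 2) ≃ₗ[ZMod 2] (κ' → ZMod 2))
    (Q' : (κ' → ZMod 2) → ZMod 2) (h : ∀ v, Q' (e v) = S.Q v) : QS E κ' where
  π x := e (S.π x)
  Q := Q'
  card_center := S.card_center
  comm_mem := S.comm_mem
  sq_mem := S.sq_mem
  map_mul x y := by rw [S.map_mul, _root_.map_add]
  surj := e.surjective.comp S.surj
  ker x := by rw [← S.ker]; exact e.map_eq_zero_iff
  sq x := by rw [h, S.sq]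

/-- a totally singular subspace gives an elementary abelian subgroup -/
theorem exists_elemAb [Finite E] (U : Submodule (ZMod 2) (κ → ZMod 2)) (hU : ∀ u ∈ U, S.Q u = 0) :
    ∃ A : Subgroup E, Cfsg.IsElementaryAbelian 2 A ∧ Nat.card A = 2 * Nat.card U := by
  let A : Subgroup E :=
    { carrier := {x | S.π x ∈ U}
      one_mem' := by
        show S.π 1 ∈ U
        rw [S.map_one]; exact U.zero_mem
      mul_mem' := by
        intro x y hx hy
        show S.π (x * y) ∈ U
        rw [S.map_mul]; exact U.add_mem hx hy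
      inv_mem' := by
        intro x hx
        show S.π x⁻¹ ∈ U
        rw [S.map_inv]; exact hx }
  have hsq : ∀ a ∈ A, a * a = 1 := by
    intro a ha
    have h1 := hU _ ha
    rw [S.sq, iz_eq_zero_iff] at h1
    exact h1
  refine ⟨A, ⟨⟨⟨?_⟩⟩, ?_⟩, ?_⟩
  · intro a b
    apply Subtype.ext
    show a.1 * b.1 = b.1 * a.1
    have h1 := hsq _ (A.mul_mem a.2 b.2)
    have h2 := hsq _ a.2
    have h3 := hsq _ b.2
    have ha : a.1⁻¹ = a.1 := inv_eq_of_mul_eq_one_left h2
    have hb : b.1⁻¹ = b.1 := inv_eq_of_mul_eq_one_left h3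
    have hab : (a.1 * b.1)⁻¹ = a.1 * b.1 := inv_eq_of_mul_eq_one_left h1
    rw [_root_.mul_inv_rev, ha, hb] at hab
    exact hab.symm
  · intro a ha
    rw [pow_two]
    exact hsq a ha
  · rw [card_eq_ker_mul_map S.hom A]
    have hle : S.hom.ker ≤ A := by
      intro x hx
      rw [S.hom_ker, ← S.ker] at hx
      show S.π x ∈ U
      rw [hx]; exact U.zero_mem
    rw [Nat.card_congr (Subgroup.subgroupOfEquivOfLe hle).toEquiv, S.hom_ker, S.card_center]
    congr 1
    refine Nat.card_congr (Equiv.subtypeEquiv Multiplicative.toAdd ?_)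
    intro v
    constructor
    · rintro ⟨x, hx, rfl⟩
      exact hx
    · intro hv
      obtain ⟨x, hx⟩ := S.surj (Multiplicative.toAdd v)
      refine ⟨x, ?_, ?_⟩
      · show S.π x ∈ U
        rw [hx]; exact hv
      · rw [S.hom_apply, hx]; rfl

/-- an elementary abelian subgroup gives a totally singular subspace -/
theorem exists_ts [Finite E] (A : Subgroup E) (hA : ∀ a ∈ A, a * a = 1) :
    ∃ U : Submodule (ZMod 2) (κ → ZMod 2), (∀ u ∈ U, S.Q u = 0) ∧
      Nat.card A ≤ 2 * Nat.card U := by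
  let U : Submodule (ZMod 2) (κ → ZMod 2) :=
    { carrier := {v | ∃ a ∈ A, S.π a = v}
      zero_mem' := ⟨1, A.one_mem, S.map_one⟩
      add_mem' := by
        rintro u v ⟨a, ha, rfl⟩ ⟨b, hb, rfl⟩
        exact ⟨a * b, A.mul_mem ha hb, S.map_mul a b⟩
      smul_mem' := by
        rintro c v ⟨a, ha, rfl⟩
        rcases zmod2_cases c with rfl | rfl
        · rw [zero_smul]; exact ⟨1, A.one_mem, S.map_one⟩
        · rw [one_smul]; exact ⟨a, ha, rfl⟩ }
  refine ⟨U, ?_, ?_⟩
  · rintro u ⟨a, ha, rfl⟩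
    rw [S.sq, hA a ha, iz_one]
  · rw [card_eq_ker_mul_map S.hom A]
    have h1 : Nat.card (S.hom.ker.subgroupOf A) ≤ 2 := by
      have h0 : Nat.card S.hom.ker = 2 := by rw [S.hom_ker, S.card_center]
      have h00 := Nat.card_le_card_of_injective
        (fun k : S.hom.ker.subgroupOf A => (⟨k.1.1, k.2⟩ : S.hom.ker))
        (fun k k' h => Subtype.ext (Subtype.ext (Subtype.mk.inj h)))
      rw [h0] at h00
      exact h00
    have h2 : Nat.card (A.map S.hom) = Nat.card U := by
      refine Nat.card_congr (Equiv.subtypeEquiv Multiplicative.toAdd ?_)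
      intro v
      constructor
      · rintro ⟨x, hx, rfl⟩
        exact ⟨x, hx, rfl⟩
      · rintro ⟨x, hx, hv⟩
        exact ⟨x, hx, by rw [S.hom_apply, hv]; rfl⟩
    rw [h2]
    exact Nat.mul_le_mul_right _ h1

end QS

end Cfsg.Agent.Lib.H26.XS
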