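import Mathlib
import Cfsg.Agent.Lib.H26.XsClass

/-!
# Extraspecial 2-groups: `Out E ≅ O^±_{2n}(2)` (helper26)
-/

set_option autoImplicit false
open scoped commutatorElement
open Matrix

namespace Cfsg.Agent.Lib.H26.XS

/-- a coordinate map gives the quadratic space -/
theorem exists_QS_of_map {E : Type*} [Group E] {κ : Type} (π : E → (κ → ZMod 2))
    (hZ : Nat.card (Subgroup.center E) = 2)
    (hcomm : ∀ a b : E, ⁅a, b⁆ ∈ Subgroup.center E)
    (hsq : ∀ a : E, a * a ∈ Subgroup.center E)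
    (hmul : ∀ x y, π (x * y) = π x + π y)
    (hsurj : Function.Surjective π)
    (hker : ∀ x, π x = 0 ↔ x ∈ Subgroup.center E) : Nonempty (QS E κ) := by
  have h1 : π 1 = 0 := by
    have h := hmul 1 1
    rw [mul_one] at h
    exact left_eq_add.mp h
  have hinv : ∀ x, π x⁻¹ = π x := by
    intro x
    have h := hmul x⁻¹ x
    rw [inv_mul_cancel, h1] at h
    have h2 : π x⁻¹ = - π x := eq_neg_of_add_eq_zero_left h.symm
    rw [h2, fn_neg]
  have key : ∀ x y, π x = π y → y * y = x * x := by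
    intro x y hxy
    have hc : x⁻¹ * y ∈ Subgroup.center E := by
      rw [← hker, hmul, hinv, hxy, fn_add_self]
    have hy : y = x * (x⁻¹ * y) := by group
    have hcc := sq_of_mem_center hZ hc
    have hcx := QS.central _ hc x
    calc y * y = x * (x⁻¹ * y) * (x * (x⁻¹ * y)) := by rw [← hy]
      _ = x * ((x⁻¹ * y) * x) * (x⁻¹ * y) := by group
      _ = x * (x * (x⁻¹ * y)) * (x⁻¹ * y) := by rw [hcx]
      _ = x * x * ((x⁻¹ * y) * (x⁻¹ * y)) := by group
      _ = x * x := by rw [hcc, mul_one]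
  exact ⟨{ π := π
           Q := fun v => iz (Function.surjInv hsurj v * Function.surjInv hsurj v)
           card_center := hZ
           comm_mem := hcomm
           sq_mem := hsq
           map_mul := hmul
           surj := hsurj
           ker := hker
           sq := fun x => by
             show iz _ = iz _
             rw [key x _ (Function.surjInv_eq hsurj (π x)).symm] }⟩

/-- the quadratic space of an extraspecial 2-group -/
theorem exists_QS {E : Type*} [Group E] [Finite E] (hE : Cfsg.IsExtraspecial 2 E) (n : ℕ)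
    (hcard : Nat.card E = 2 ^ (2 * n + 1)) : Nonempty (QS E (Fin (2 * n))) := by
  have h := Cfsg.Agent.Lib.H1.IsHeis.of_isExtraspecial hE
  have hG2 : ∀ x : E ⧸ Subgroup.center E, x * x = 1 := by
    intro x
    induction x using QuotientGroup.induction_on with
    | H x =>
      rw [← QuotientGroup.mk_mul, QuotientGroup.eq_one_iff]
      have := h.pow_mem x
      rwa [pow_two] at this
  have hGc : Nat.card (E ⧸ Subgroup.center E) = 2 ^ (2 * n) := by
    have h1 := Subgroup.card_eq_card_quotient_mul_card_subgroup (Subgroup.center E)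
    rw [hcard, h.card_center, pow_succ] at h1
    exact (Nat.eq_of_mul_eq_mul_right (by norm_num) h1).symm
  obtain ⟨φ⟩ := exists_mulEquiv_of_sq_eq_one hG2 (2 * n) hGc
  refine exists_QS_of_map
    (fun x => Multiplicative.toAdd (φ (QuotientGroup.mk x))) h.card_center h.comm_mem
    (fun a => by have := h.pow_mem a; rwa [pow_two] at this) ?_ ?_ ?_
  · intro x y
    show Multiplicative.toAdd (φ (QuotientGroup.mk (x * y))) = _
    rw [QuotientGroup.mk_mul, _root_.map_mul, toAdd_mul]
  · intro v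
    obtain ⟨g, hg⟩ := φ.surjective (Multiplicative.ofAdd v)
    obtain ⟨x, rfl⟩ := QuotientGroup.mk_surjective g
    exact ⟨x, by show Multiplicative.toAdd (φ (QuotientGroup.mk x)) = v; rw [hg]; rfl⟩
  · intro x
    show Multiplicative.toAdd (φ (QuotientGroup.mk x)) = 0 ↔ _
    rw [← QuotientGroup.eq_one_iff, ← MulEquiv.map_eq_one_iff φ]
    exact Iff.rfl

theorem card_submodule {κ : Type} [Fintype κ] (U : Submodule (ZMod 2) (κ → ZMod 2)) :
    Nat.card U = 2 ^ Module.finrank (ZMod 2) U := by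
  have h := Module.natCard_eq_pow_finrank (K := ZMod 2) (V := U)
  rw [Nat.card_zmod] at h
  exact h

/-- the outer automorphism group of an extraspecial 2-group -/
theorem out_extraspecial {E : Type*} [Group E] [Finite E] (hE : Cfsg.IsExtraspecial 2 E) (n : ℕ)
    (hn : 1 ≤ n) (hcard : Nat.card E = 2 ^ (2 * n + 1)) :
    ((∃ A : Subgroup E, Cfsg.IsElementaryAbelian 2 A ∧ Nat.card ↥A = 2 ^ (n + 1)) →
      Nonempty (Cfsg.Out E ≃* Cfsg.isometryGroup (ZMod 2) (Cfsg.quadFormPlus n (ZMod 2)))) ∧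
    ((¬ ∃ A : Subgroup E, Cfsg.IsElementaryAbelian 2 A ∧ Nat.card ↥A = 2 ^ (n + 1)) →
      Nonempty (Cfsg.Out E ≃*
        Cfsg.isometryGroup (ZMod 2) (Cfsg.quadFormMinus (n - 1) (ZMod 2) 1 1))) := by
  obtain ⟨S₀⟩ := exists_QS hE n hcard
  obtain ⟨hP1, -, -, hM2⟩ := Cfsg.Agent.S2562.result n hn
  rcases Cfsg.Agent.Lib.H11.PSLGraph.exists_plus_or_minus S₀.Qf S₀.nondeg n (by simp) with
    ⟨e, he, -⟩ | ⟨-, ζ, hζ, e, he, -⟩
  · let S : QS E (Fin n ⊕ Fin n) := S₀.transport e (Cfsg.quadFormPlus n (ZMod 2)) he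
    refine ⟨fun _ => S.out_equiv, fun hno => ?_⟩
    exfalso
    apply hno
    obtain ⟨U, hU, hfr⟩ := hP1
    obtain ⟨A, hA, hcA⟩ := S.exists_elemAb U hU
    refine ⟨A, hA, ?_⟩
    rw [hcA, card_submodule, hfr, pow_succ, mul_comm]
  · have hζ1 : ζ = 1 := by
      rcases zmod2_cases ζ with rfl | rfl
      · exact absurd (by ring) (hζ 0)
      · rfl
    subst hζ1
    let S : QS E ((Fin (n - 1) ⊕ Fin (n - 1)) ⊕ Fin 2) :=
      S₀.transport e (Cfsg.quadFormMinus (n - 1) (ZMod 2) 1 1) he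
    refine ⟨?_, fun _ => S.out_equiv⟩
    rintro ⟨A, hA, hcA⟩
    exfalso
    obtain ⟨U, hU, hle⟩ := S.exists_ts A (fun a ha => by rw [← pow_two]; exact hA.2 a ha)
    have h1 := hM2 U hU
    rw [hcA, card_submodule] at hle
    have h2 : 2 ^ Module.finrank (ZMod 2) U ≤ 2 ^ (n - 1) := Nat.pow_le_pow_right (by norm_num) h1
    have h3 : 2 ^ (n + 1) = 2 * 2 * 2 ^ (n - 1) := by
      obtain ⟨k, rfl⟩ : ∃ k, n = k + 1 := ⟨n - 1, by omega⟩
      rw [Nat.add_sub_cancel, pow_succ, pow_succ]; ring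
    rw [h3] at hle
    have h4 : 0 < 2 ^ (n - 1) := by positivity
    nlinarith

end Cfsg.Agent.Lib.H26.XS
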