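import Mathlib
import Cfsg.Prelude.Def_Transfer
import Cfsg.Prelude.Def_KGroupFacts
import Cfsg.Agent.Lib.H1.ExtraGlue

/-!
# `Aut` of an extraspecial 2-group does not split over `Inn` (helper26)

For `v` of order four the map `ρ_v : x ↦ x` (if `[x,v]=1`), `x ↦ x v` (otherwise) is an
automorphism lifting the reflection in `v`.  If `L` is a complement to `Inn Q` in `Aut Q`, the
`L`-component `τ = conj w ∘ ρ_v` of `ρ_v` satisfies `τ² = 1`, which forces `[w,v] ≠ 1`; its
fixed point group `C(v) ∩ C(w)` is preserved by every automorphism fixing `v` (their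
`L`-components commute with `τ`), but `ρ_{v y₀}` for a non-central involution
`y₀ ∈ C(v) ∩ C(w)` moves it.
-/

set_option autoImplicit false
open scoped commutatorElement

namespace Cfsg.Agent.Lib.H26.XN

/-- a group with a central involution `z` such that all commutators and squares lie in `{1, z}`
and the centre is `{1, z}` -/
structure XD (Q : Type*) [Group Q] where
  z : Q
  z_central : ∀ g : Q, z * g = g * z
  z_ne : z ≠ 1
  z_sq : z * z = 1
  comm : ∀ a b : Q, a * b = b * a ∨ a * b = z * (b * a)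
  sq : ∀ a : Q, a * a = 1 ∨ a * a = z
  center : ∀ c : Q, (∀ g : Q, c * g = g * c) → c = 1 ∨ c = z

namespace XD

variable {Q : Type*} [Group Q] (D : XD Q)
include D

theorem z_inv : D.z⁻¹ = D.z := inv_eq_of_mul_eq_one_left D.z_sq

theorem z_left (g h : Q) : g * (D.z * h) = D.z * (g * h) := by
  rw [← mul_assoc, ← D.z_central g, mul_assoc]

theorem z_cancel (h : Q) : D.z * (D.z * h) = h := by
  rw [← mul_assoc, D.z_sq, one_mul]

theorem z_mul_ne (g : Q) : D.z * g ≠ g := by
  intro h
  apply D.z_ne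
  have : D.z * g = 1 * g := by rw [h, one_mul]
  exact mul_right_cancel this

theorem ncomm {a b : Q} (h : a * b ≠ b * a) : a * b = D.z * (b * a) :=
  (D.comm a b).resolve_left h

theorem ncomm' {a b : Q} (h : a * b ≠ b * a) : b * a = D.z * (a * b) := by
  rw [D.ncomm h, D.z_cancel]

/-- parity of non-commutation -/
theorem comm_mul_iff (x y v : Q) :
    (x * y) * v = v * (x * y) ↔ (x * v = v * x ↔ y * v = v * y) := by
  by_cases hx : x * v = v * x <;> by_cases hy : y * v = v * y
  · refine iff_of_true ?_ (iff_of_true hx hy)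
    rw [mul_assoc, hy, ← mul_assoc, hx, mul_assoc]
  · refine iff_of_false ?_ (fun h => hy (h.mp hx))
    intro h
    have h1 : (x * y) * v = D.z * (v * (x * y)) := by
      rw [mul_assoc, D.ncomm hy, D.z_left]
      congr 1
      rw [← mul_assoc, hx, mul_assoc]
    rw [h1] at h
    exact D.z_mul_ne _ h
  · refine iff_of_false ?_ (fun h => hx (h.mpr hy))
    intro h
    have h1 : (x * y) * v = D.z * (v * (x * y)) := by
      rw [mul_assoc, hy, ← mul_assoc, D.ncomm hx, mul_assoc, mul_assoc]
    rw [h1] at h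
    exact D.z_mul_ne _ h
  · refine iff_of_true ?_ (iff_of_false hx hy)
    rw [mul_assoc, D.ncomm hy, D.z_left]
    have h2 : x * (v * y) = D.z * (v * (x * y)) := by
      rw [← mul_assoc, D.ncomm hx, mul_assoc, mul_assoc]
    rw [h2, D.z_cancel]

theorem comm_mul_iff' (v x y : Q) :
    v * (x * y) = (x * y) * v ↔ (v * x = x * v ↔ v * y = y * v) := by
  rw [eq_comm, D.comm_mul_iff, eq_comm, @eq_comm _ (y * v)]

omit D in
theorem comm_inv_iff (x v : Q) : x⁻¹ * v = v * x⁻¹ ↔ x * v = v * x := by
  constructor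
  · intro h
    have : x * (x⁻¹ * v) * x = x * (v * x⁻¹) * x := by rw [h]
    simpa [mul_assoc] using this.symm
  · intro h
    have : x⁻¹ * (x * v) * x⁻¹ = x⁻¹ * (v * x) * x⁻¹ := by rw [h]
    simpa [mul_assoc] using this.symm

/-- conjugation moves an element by a central factor -/
theorem conj_eq (w y : Q) : w * y * w⁻¹ = y ∨ w * y * w⁻¹ = D.z * y := by
  rcases D.comm w y with h | h
  · left; rw [h, mul_inv_cancel_right]
  · right; rw [h, mul_assoc, mul_assoc, mul_inv_cancel, mul_one]

theorem comm_z_mul_iff (y v : Q) : (D.z * y) * v = v * (D.z * y) ↔ y * v = v * y := by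
  rw [D.z_left, mul_assoc]
  exact mul_left_cancel_iff

theorem comm_conj_iff (w y v : Q) : (w * y * w⁻¹) * v = v * (w * y * w⁻¹) ↔ y * v = v * y := by
  rcases D.conj_eq w y with h | h
  · rw [h]
  · rw [h, D.comm_z_mul_iff]

theorem sq_central (w g : Q) : (w * w) * g = g * (w * w) := by
  rcases D.sq w with h | h
  · rw [h, one_mul, mul_one]
  · rw [h, D.z_central]


/-! ### the transvection automorphism -/

open Classical in
/-- `x ↦ x` if `x` commutes with `v`, `x ↦ x v` otherwise -/
noncomputable def rhoFun (v : Q) (x : Q) : Q := if x * v = v * x then x else x * v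

omit D in
theorem rhoFun_comm {v x : Q} (h : x * v = v * x) : rhoFun v x = x := by
  classical
  rw [rhoFun, if_pos h]

omit D in
theorem rhoFun_ncomm {v x : Q} (h : x * v ≠ v * x) : rhoFun v x = x * v := by
  classical
  rw [rhoFun, if_neg h]

theorem rhoFun_mul {v : Q} (hv : v * v = D.z) (x y : Q) :
    rhoFun v (x * y) = rhoFun v x * rhoFun v y := by
  by_cases hx : x * v = v * x <;> by_cases hy : y * v = v * y
  · rw [rhoFun_comm hx, rhoFun_comm hy, rhoFun_comm ((D.comm_mul_iff x y v).2 (iff_of_true hx hy))]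
  · have hxy : (x * y) * v ≠ v * (x * y) := fun h => hy (((D.comm_mul_iff x y v).1 h).1 hx)
    rw [rhoFun_comm hx, rhoFun_ncomm hy, rhoFun_ncomm hxy, mul_assoc]
  · have hxy : (x * y) * v ≠ v * (x * y) := fun h => hx (((D.comm_mul_iff x y v).1 h).2 hy)
    rw [rhoFun_ncomm hx, rhoFun_comm hy, rhoFun_ncomm hxy, mul_assoc, hy, mul_assoc]
  · rw [rhoFun_ncomm hx, rhoFun_ncomm hy,
      rhoFun_comm ((D.comm_mul_iff x y v).2 (iff_of_false hx hy))]
    -- x * v * (y * v) = x * y
    have h1 : v * (y * v) = y := by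
      rw [D.ncomm hy, D.z_left, ← mul_assoc v v y, hv, D.z_cancel]
    rw [mul_assoc, h1]

theorem ncomm_self_of_sq {v : Q} (hv : v * v = D.z) : ∃ x : Q, x * v ≠ v * x := by
  by_contra hcon
  push Not at hcon
  rcases D.center v (fun g => (hcon g).symm) with h | h
  · rw [h, mul_one] at hv
    exact D.z_ne hv.symm
  · rw [h, D.z_sq] at hv
    exact D.z_ne hv.symm

/-- the transvection automorphism attached to an element `v` with `v² = z` -/
noncomputable def rho {v : Q} (hv : v * v = D.z) : MulAut Q where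
  toFun := rhoFun v
  invFun := rhoFun v⁻¹
  left_inv x := by
    by_cases hx : x * v = v * x
    · rw [rhoFun_comm hx]
      apply rhoFun_comm
      have := (comm_inv_iff v x).2 hx.symm
      exact this.symm
    · rw [rhoFun_ncomm hx]
      have h1 : (x * v) * v⁻¹ ≠ v⁻¹ * (x * v) := by
        intro h
        apply hx
        have h2 := (comm_inv_iff v (x * v)).1 h.symm
        exact ((D.comm_mul_iff x v v).1 h2.symm).2 rfl
      rw [rhoFun_ncomm h1, mul_inv_cancel_right]
  right_inv x := by
    by_cases hx : x * v = v * x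
    · have h0 : x * v⁻¹ = v⁻¹ * x := ((comm_inv_iff v x).2 hx.symm).symm
      rw [rhoFun_comm h0, rhoFun_comm hx]
    · have h0 : x * v⁻¹ ≠ v⁻¹ * x := fun h => hx ((comm_inv_iff v x).1 h.symm).symm
      rw [rhoFun_ncomm h0]
      have h1 : (x * v⁻¹) * v ≠ v * (x * v⁻¹) := by
        intro h
        apply hx
        exact ((D.comm_mul_iff x v⁻¹ v).1 h).2 (by rw [inv_mul_cancel, mul_inv_cancel])
      rw [rhoFun_ncomm h1, inv_mul_cancel_right]
  map_mul' := D.rhoFun_mul hv

theorem rho_apply {v : Q} (hv : v * v = D.z) (x : Q) : D.rho hv x = rhoFun v x := rfl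

theorem rho_comm {v : Q} (hv : v * v = D.z) {x : Q} (h : x * v = v * x) : D.rho hv x = x :=
  rhoFun_comm h

theorem rho_ncomm {v : Q} (hv : v * v = D.z) {x : Q} (h : x * v ≠ v * x) :
    D.rho hv x = x * v :=
  rhoFun_ncomm h

/-- `ρ² = conj v` -/
theorem rho_mul_rho {v : Q} (hv : v * v = D.z) : D.rho hv * D.rho hv = MulAut.conj v := by
  ext x
  rw [MulAut.mul_apply, MulAut.conj_apply]
  by_cases hx : x * v = v * x
  · rw [D.rho_comm hv hx, D.rho_comm hv hx, ← hx, mul_inv_cancel_right]
  · rw [D.rho_ncomm hv hx]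
    have h1 : (x * v) * v ≠ v * (x * v) := by
      intro h
      exact hx (((D.comm_mul_iff x v v).1 h).2 rfl)
    rw [D.rho_ncomm hv h1, D.ncomm' hx, mul_assoc x v v, hv, mul_assoc D.z,
      mul_inv_cancel_right]
    exact (D.z_central x).symm

/-- automorphisms fixing `v` commute with `ρ_v` -/
theorem rho_commute {v : Q} (hv : v * v = D.z) (α : MulAut Q) (hα : α v = v) :
    α * D.rho hv = D.rho hv * α := by
  ext x
  rw [MulAut.mul_apply, MulAut.mul_apply]
  have key : α x * v = v * α x ↔ x * v = v * x := by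
    constructor
    · intro h
      apply α.injective
      rw [map_mul, map_mul, hα, h]
    · intro h
      have := congrArg α h
      rwa [map_mul, map_mul, hα] at this
  by_cases hx : x * v = v * x
  · rw [D.rho_comm hv hx, D.rho_comm hv (key.2 hx)]
  · rw [D.rho_ncomm hv hx, D.rho_ncomm hv (fun h => hx (key.1 h)), map_mul, hα]

omit D in
theorem mul_conj (β : MulAut Q) (h : Q) : β * MulAut.conj h = MulAut.conj (β h) * β := by
  ext x
  simp [MulAut.mul_apply, MulAut.conj_apply]


/-! ### the `L`-component of `ρ` -/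

/-- `conj w ∘ ρ_v` -/
noncomputable def tau {v : Q} (hv : v * v = D.z) (w : Q) : MulAut Q := MulAut.conj w * D.rho hv

theorem tau_comm {v : Q} (hv : v * v = D.z) (w : Q) {x : Q} (h : x * v = v * x) :
    D.tau hv w x = w * x * w⁻¹ := by
  rw [tau, MulAut.mul_apply, MulAut.conj_apply, D.rho_comm hv h]

theorem tau_ncomm {v : Q} (hv : v * v = D.z) (w : Q) {x : Q} (h : x * v ≠ v * x) :
    D.tau hv w x = w * (x * v) * w⁻¹ := by
  rw [tau, MulAut.mul_apply, MulAut.conj_apply, D.rho_ncomm hv h]

theorem tau_mul_tau {v : Q} (hv : v * v = D.z) (w : Q) :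
    D.tau hv w * D.tau hv w = MulAut.conj (w * D.rho hv w * v) := by
  have e1 : D.rho hv * MulAut.conj w = MulAut.conj (D.rho hv w) * D.rho hv := mul_conj _ w
  calc D.tau hv w * D.tau hv w
      = MulAut.conj w * (D.rho hv * MulAut.conj w) * D.rho hv := by rw [tau]; group
    _ = MulAut.conj w * (MulAut.conj (D.rho hv w) * D.rho hv) * D.rho hv := by rw [e1]
    _ = MulAut.conj w * MulAut.conj (D.rho hv w) * (D.rho hv * D.rho hv) := by group
    _ = MulAut.conj (w * D.rho hv w * v) := by rw [D.rho_mul_rho hv, ← map_mul, ← map_mul]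

theorem ne_of_sq {v : Q} (hv : v * v = D.z) : v ≠ 1 ∧ D.z * v ≠ 1 := by
  constructor
  · intro h
    rw [h, mul_one] at hv
    exact D.z_ne hv.symm
  · intro h
    have h1 : v = D.z := by
      have := congrArg (fun t => D.z * t) h
      simp only [D.z_cancel, mul_one] at this
      exact this
    rw [h1, D.z_sq] at hv
    exact D.z_ne hv.symm

/-- the fixed points of `τ` -/
theorem tau_fix_iff {v : Q} (hv : v * v = D.z) (w y : Q) :
    D.tau hv w y = y ↔ (y * v = v * y ∧ y * w = w * y) := by
  constructor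
  · intro h
    by_cases hy : y * v = v * y
    · refine ⟨hy, ?_⟩
      rw [D.tau_comm hv w hy] at h
      have := congrArg (fun t => t * w) h
      simp only [inv_mul_cancel_right] at this
      exact this.symm
    · exfalso
      rw [D.tau_ncomm hv w hy] at h
      rcases D.conj_eq w (y * v) with h1 | h1
      · rw [h1] at h
        exact (D.ne_of_sq hv).1 (mul_eq_left.mp h)
      · rw [h1, ← D.z_left] at h
        exact (D.ne_of_sq hv).2 (mul_eq_left.mp h)
  · rintro ⟨h1, h2⟩
    rw [D.tau_comm hv w h1, ← h2, mul_inv_cancel_right]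

/-- if `w` commutes with `v` then `τ²` is not the identity -/
theorem tau_sq_ne {v : Q} (hv : v * v = D.z) (w : Q) (hc : w * v = v * w) :
    D.tau hv w * D.tau hv w ≠ 1 := by
  intro h
  obtain ⟨x, hx⟩ := D.ncomm_self_of_sq hv
  have h0 : (x * v) * v ≠ v * (x * v) := fun h => hx (((D.comm_mul_iff x v v).1 h).2 rfl)
  have h1 : (w * (x * v) * w⁻¹) * v ≠ v * (w * (x * v) * w⁻¹) := fun h =>
    h0 ((D.comm_conj_iff w (x * v) v).1 h)
  have h2 : (D.tau hv w * D.tau hv w) x = x * D.z := by
    rw [MulAut.mul_apply, D.tau_ncomm hv w hx, D.tau_ncomm hv w h1]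
    have hc' : w⁻¹ * v = v * w⁻¹ := (comm_inv_iff w v).2 hc
    calc w * (w * (x * v) * w⁻¹ * v) * w⁻¹
        = w * (w * (x * v) * (w⁻¹ * v)) * w⁻¹ := by group
      _ = w * (w * (x * v) * (v * w⁻¹)) * w⁻¹ := by rw [hc']
      _ = (w * w) * (x * (v * v)) * (w * w)⁻¹ := by group
      _ = x * D.z := by rw [D.sq_central, mul_inv_cancel_right, hv]
  rw [h, MulAut.one_apply] at h2
  have : D.z = 1 := by
    have h3 : x * 1 = x * D.z := by rw [mul_one]; exact h2
    exact (mul_left_cancel h3).symm
  exact D.z_ne this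


/-! ### counting in an elementary abelian subgroup -/

theorem card_le_two_mul [Finite Q] (H : Subgroup Q) (a : Q) :
    Nat.card H ≤ 2 * Nat.card (H ⊓ Subgroup.centralizer {a} : Subgroup Q) := by
  have hmem : ∀ b : Q, b ∈ Subgroup.centralizer ({a} : Set Q) ↔ b * a = a * b := by
    intro b
    rw [Subgroup.mem_centralizer_singleton_iff]
  have h1 : (Subgroup.centralizer ({a} : Set Q)).relIndex H ∣ 2 := by
    rw [Subgroup.relIndex_dvd_two_iff]
    by_cases hH : ∀ b ∈ H, b * a = a * b
    · exact ⟨1, H.one_mem, fun b hb => Or.inr ((hmem b).2 (hH b hb))⟩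
    · push Not at hH
      obtain ⟨c, hcH, hc⟩ := hH
      refine ⟨c, hcH, fun b _ => ?_⟩
      by_cases hb : b * a = a * b
      · exact Or.inr ((hmem b).2 hb)
      · exact Or.inl ((hmem _).2 ((D.comm_mul_iff b c a).2 (iff_of_false hb hc)))
  have h2 : (Subgroup.centralizer ({a} : Set Q)).relIndex H ≤ 2 := Nat.le_of_dvd (by norm_num) h1
  have h3 : Nat.card ((Subgroup.centralizer ({a} : Set Q)).subgroupOf H)
      = Nat.card (H ⊓ Subgroup.centralizer {a} : Subgroup Q) := by
    rw [← Subgroup.inf_subgroupOf_left]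
    exact Nat.card_congr (Subgroup.subgroupOfEquivOfLe inf_le_left).toEquiv
  have h4 := Subgroup.card_mul_index ((Subgroup.centralizer ({a} : Set Q)).subgroupOf H)
  rw [h3] at h4
  rw [← h4, mul_comm]
  exact Nat.mul_le_mul_right _ h2

theorem exists_invol [Finite Q] (E : Subgroup Q) (hEc : 16 ≤ Nat.card E) (v w : Q) :
    ∃ y ∈ E, y ≠ 1 ∧ y ≠ D.z ∧ y * v = v * y ∧ y * w = w * y := by
  classical
  have h1 := D.card_le_two_mul E v
  have h2 := D.card_le_two_mul (E ⊓ Subgroup.centralizer {v}) w
  have h3 : 4 ≤ Nat.card ((E ⊓ Subgroup.centralizer {v}) ⊓ Subgroup.centralizer {w} :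
      Subgroup Q) := by omega
  by_contra hcon
  push Not at hcon
  have hall : ∀ y : ((E ⊓ Subgroup.centralizer {v}) ⊓ Subgroup.centralizer {w} : Subgroup Q),
      y.1 = 1 ∨ y.1 = D.z := by
    intro y
    have hy := y.2
    rw [Subgroup.mem_inf, Subgroup.mem_inf, Subgroup.mem_centralizer_singleton_iff,
      Subgroup.mem_centralizer_singleton_iff] at hy
    by_contra hne
    push Not at hne
    exact hcon y.1 hy.1.1 hne.1 hne.2 hy.1.2 hy.2
  have hinj : Function.Injective
      (fun y : ((E ⊓ Subgroup.centralizer {v}) ⊓ Subgroup.centralizer {w} : Subgroup Q) =>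
        decide (y.1 = 1)) := by
    intro y y' h
    apply Subtype.ext
    simp only [decide_eq_decide] at h
    rcases hall y with h1 | h1 <;> rcases hall y' with h2 | h2
    · rw [h1, h2]
    · exact absurd (h.1 h1) (by rw [h2]; exact D.z_ne)
    · exact absurd (h.2 h2) (by rw [h1]; exact D.z_ne)
    · rw [h1, h2]
  have := Nat.card_le_card_of_injective _ hinj
  have hb : Nat.card Bool = 2 := by simp
  omega

/-- a group with more than two elements has an element of order four -/
theorem exists_sq_eq_z [Finite Q] (E : Subgroup Q) (hEc : 16 ≤ Nat.card E) :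
    ∃ v : Q, v * v = D.z := by
  classical
  by_contra hcon
  push Not at hcon
  have hsq : ∀ a : Q, a * a = 1 := fun a => (D.sq a).resolve_right (hcon a)
  have hinv : ∀ a : Q, a⁻¹ = a := fun a => inv_eq_of_mul_eq_one_left (hsq a)
  have hcomm : ∀ a b : Q, a * b = b * a := by
    intro a b
    have h1 := hinv (a * b)
    rw [mul_inv_rev, hinv a, hinv b] at h1
    exact h1.symm
  have hall : ∀ y : E, y.1 = 1 ∨ y.1 = D.z := fun y => D.center y.1 (fun g => hcomm _ _)
  have hinj : Function.Injective (fun y : E => decide (y.1 = 1)) := by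
    intro y y' h
    apply Subtype.ext
    simp only [decide_eq_decide] at h
    rcases hall y with h1 | h1 <;> rcases hall y' with h2 | h2
    · rw [h1, h2]
    · exact absurd (h.1 h1) (by rw [h2]; exact D.z_ne)
    · exact absurd (h.2 h2) (by rw [h1]; exact D.z_ne)
    · rw [h1, h2]
  have := Nat.card_le_card_of_injective _ hinj
  have hb : Nat.card Bool = 2 := by simp
  omega

/-! ### no complement -/

theorem no_complement [Finite Q] {v : Q} (hv : v * v = D.z) (L : Subgroup (MulAut Q))
    (hL : (Cfsg.Inn Q).IsComplement' L)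
    (E : Subgroup Q) (hE : ∀ e ∈ E, e * e = 1) (hEc : 16 ≤ Nat.card E) : False := by
  classical
  have hdec : ∀ β : MulAut Q, ∃ g : Q, MulAut.conj g * β ∈ L := by
    intro β
    obtain ⟨⟨⟨ι, hι⟩, ⟨τ, hτ⟩⟩, hprod, -⟩ := (Subgroup.isComplement_iff_existsUnique.mp hL) β
    obtain ⟨g, rfl⟩ := hι
    refine ⟨g⁻¹, ?_⟩
    have : MulAut.conj g⁻¹ * β = τ := by
      rw [← hprod, map_inv]
      simp
    rw [this]
    exact hτ
  have hdisj : ∀ β : MulAut Q, β ∈ L → ∀ g : Q, β = MulAut.conj g → β = 1 := by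
    intro β hβ g hg
    exact Subgroup.disjoint_def.mp hL.disjoint ⟨g, hg.symm⟩ hβ
  obtain ⟨w, hw⟩ := hdec (D.rho hv)
  have hw' : D.tau hv w ∈ L := hw
  -- `w` does not commute with `v`
  have hwv : w * v ≠ v * w := by
    intro hc
    exact D.tau_sq_ne hv w hc (hdisj _ (L.mul_mem hw' hw') _ (D.tau_mul_tau hv w))
  -- automorphisms fixing `v` preserve the fixed points of `τ`
  have hpres : ∀ α : MulAut Q, α v = v → ∀ y : Q, D.tau hv w y = y → D.tau hv w (α y) = α y := by
    intro α hα y hy
    obtain ⟨g, hg⟩ := hdec α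
    have e1 : MulAut.conj g * α * D.tau hv w
        = MulAut.conj (g * α w) * (D.rho hv * α) := by
      have a1 : α * MulAut.conj w = MulAut.conj (α w) * α := mul_conj α w
      have a2 := D.rho_commute hv α hα
      calc MulAut.conj g * α * D.tau hv w
          = MulAut.conj g * (α * MulAut.conj w) * D.rho hv := by rw [tau]; group
        _ = MulAut.conj g * (MulAut.conj (α w) * α) * D.rho hv := by rw [a1]
        _ = MulAut.conj g * MulAut.conj (α w) * (α * D.rho hv) := by group
        _ = MulAut.conj (g * α w) * (D.rho hv * α) := by rw [a2, ← map_mul]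
    have e2 : D.tau hv w * (MulAut.conj g * α)
        = MulAut.conj (w * D.rho hv g) * (D.rho hv * α) := by
      have a1 : D.rho hv * MulAut.conj g = MulAut.conj (D.rho hv g) * D.rho hv := mul_conj _ g
      calc D.tau hv w * (MulAut.conj g * α)
          = MulAut.conj w * (D.rho hv * MulAut.conj g) * α := by rw [tau]; group
        _ = MulAut.conj w * (MulAut.conj (D.rho hv g) * D.rho hv) * α := by rw [a1]
        _ = MulAut.conj w * MulAut.conj (D.rho hv g) * (D.rho hv * α) := by group
        _ = MulAut.conj (w * D.rho hv g) * (D.rho hv * α) := by rw [← map_mul]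
    have e3 : (MulAut.conj g * α * D.tau hv w) * (D.tau hv w * (MulAut.conj g * α))⁻¹
        = MulAut.conj (g * α w * (w * D.rho hv g)⁻¹) := by
      rw [e1, e2]
      have hgen : ∀ A B R : MulAut Q, (A * R) * (B * R)⁻¹ = A * B⁻¹ := by
        intro A B R; group
      rw [hgen, ← map_inv, ← map_mul]
    have e4 := hdisj _ (L.mul_mem (L.mul_mem hg hw') (L.inv_mem (L.mul_mem hw' hg))) _ e3
    have e5 : MulAut.conj g * α * D.tau hv w = D.tau hv w * (MulAut.conj g * α) :=
      mul_inv_eq_one.mp e4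
    have e6 : D.tau hv w (g * α y * g⁻¹) = g * α y * g⁻¹ := by
      have := congrArg (fun β : MulAut Q => β y) e5
      simp only [MulAut.mul_apply, MulAut.conj_apply] at this
      rw [hy] at this
      exact this.symm
    rw [D.tau_fix_iff hv, D.comm_conj_iff, D.comm_conj_iff] at e6
    exact (D.tau_fix_iff hv w (α y)).2 e6
  -- a non-central involution commuting with `v` and `w`
  obtain ⟨y₀, hy₀E, hy₀1, hy₀z, hy₀v, hy₀w⟩ := D.exists_invol E hEc v w
  have hy₀sq : y₀ * y₀ = 1 := hE y₀ hy₀E
  -- an element of the fixed group not commuting with `y₀`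
  obtain ⟨x, hx⟩ : ∃ x : Q, x * y₀ ≠ y₀ * x := by
    by_contra hcon
    push Not at hcon
    rcases D.center y₀ (fun g => (hcon g).symm) with h | h
    · exact hy₀1 h
    · exact hy₀z h
  obtain ⟨x₁, hx₁v, hx₁y⟩ : ∃ x₁ : Q, x₁ * v = v * x₁ ∧ x₁ * y₀ ≠ y₀ * x₁ := by
    by_cases h : x * v = v * x
    · exact ⟨x, h, hx⟩
    · refine ⟨x * w, (D.comm_mul_iff x w v).2 (iff_of_false h hwv), ?_⟩
      intro h'
      exact hx (((D.comm_mul_iff x w y₀).1 h').2 hy₀w.symm)
  obtain ⟨x₂, hx₂v, hx₂w, hx₂y⟩ :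
      ∃ x₂ : Q, x₂ * v = v * x₂ ∧ x₂ * w = w * x₂ ∧ x₂ * y₀ ≠ y₀ * x₂ := by
    by_cases h : x₁ * w = w * x₁
    · exact ⟨x₁, hx₁v, h, hx₁y⟩
    · refine ⟨x₁ * v, (D.comm_mul_iff x₁ v v).2 (iff_of_true hx₁v rfl),
        (D.comm_mul_iff x₁ v w).2 (iff_of_false h (fun h' => hwv h'.symm)), ?_⟩
      intro h'
      exact hx₁y (((D.comm_mul_iff x₁ v y₀).1 h').2 hy₀v.symm)
  -- the second transvection
  have hu : (v * y₀) * (v * y₀) = D.z := by
    calc (v * y₀) * (v * y₀) = v * (y₀ * v) * y₀ := by group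
      _ = v * (v * y₀) * y₀ := by rw [hy₀v]
      _ = (v * v) * (y₀ * y₀) := by group
      _ = D.z := by rw [hv, hy₀sq, mul_one]
  have hαv : D.rho hu v = v := by
    apply D.rho_comm hu
    rw [mul_assoc v y₀ v, hy₀v]
  have hx₂u : x₂ * (v * y₀) ≠ (v * y₀) * x₂ := by
    intro h
    have := (D.comm_mul_iff' x₂ v y₀).1 h
    exact hx₂y (this.1 hx₂v)
  have hfix : D.tau hv w x₂ = x₂ := (D.tau_fix_iff hv w x₂).2 ⟨hx₂v, hx₂w⟩
  have h1 := hpres (D.rho hu) hαv x₂ hfix
  rw [D.rho_ncomm hu hx₂u, D.tau_fix_iff hv] at h1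
  -- `x₂ * (v * y₀)` commutes with `w`, hence so does `v`
  have h2 := h1.2
  rw [← mul_assoc] at h2
  have h3 := ((D.comm_mul_iff (x₂ * v) y₀ w).1 h2).2 hy₀w
  have h4 := ((D.comm_mul_iff x₂ v w).1 h3).1 hx₂w
  exact hwv h4.symm

end XD

/-- the data of an extraspecial 2-group -/
theorem exists_XD {Q : Type*} [Group Q] [Finite Q] (hQ : Cfsg.IsExtraspecial 2 Q) :
    Nonempty (XD Q) := by
  have : Fact (Nat.Prime 2) := ⟨Nat.prime_two⟩
  have h := Cfsg.Agent.Lib.H1.IsHeis.of_isExtraspecial hQ
  obtain ⟨⟨z, hz⟩, hz1, hzu⟩ := (Nat.card_eq_two_iff' (1 : Subgroup.center Q)).mp h.card_center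
  have hz1' : z ≠ 1 := fun h' => hz1 (Subtype.ext h')
  have hcases : ∀ c : Q, c ∈ Subgroup.center Q → c = 1 ∨ c = z := by
    intro c hc
    by_cases h1 : c = 1
    · exact Or.inl h1
    · right
      have := hzu ⟨c, hc⟩ (fun h' => h1 (congrArg Subtype.val h'))
      exact congrArg Subtype.val this
  have hzc : ∀ g : Q, z * g = g * z := fun g => (Subgroup.mem_center_iff.mp hz g).symm
  have hzz : z * z = 1 := by
    rcases hcases (z * z) ((Subgroup.center Q).mul_mem hz hz) with h1 | h1
    · exact h1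
    · exact absurd (mul_eq_right.mp h1) hz1'
  exact ⟨{ z := z
           z_central := hzc
           z_ne := hz1'
           z_sq := hzz
           comm := fun a b => by
             have h2 : a * b = ⁅a, b⁆ * (b * a) := by rw [commutatorElement_def]; group
             rcases hcases _ (h.comm_mem a b) with h1 | h1
             · left; rw [h2, h1, one_mul]
             · right; rw [h2, h1]
           sq := fun a => by
             have := h.pow_mem a
             rw [pow_two] at this
             exact hcases _ this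
           center := fun c hc => hcases c (Subgroup.mem_center_iff.mpr fun g => (hc g).symm) }⟩

end Cfsg.Agent.Lib.H26.XN
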